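/-
Characters vanishing off two conjugacy classes (Gagola characters): basic relations (helper25).
Also: kernel of an irreducible character as a normal subgroup, and the averaging formula
`∑_{k ∈ K} χ(x k) = χ(x) (∑_{k ∈ K} χ(k)) / χ(1)` for a normal subgroup `K`.
-/
import Mathlib
import Cfsg.Prelude.Def_Blocks
import Cfsg.Agent.Lib.Lead.CharBurnside
import Cfsg.Agent.Lib.Helper24.IrrFacts
import Cfsg.Agent.Lib.Helper24.Deflation

set_option autoImplicit false

namespace Cfsg.Agent.Lib.Helper25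

open Cfsg Cfsg.Agent.CharLib Cfsg.Agent.Lib.Helper24 Representation Module
open scoped ComplexConjugate

universe u
variable {G : Type u} [Group G]

/-- kernel of an irreducible character as a normal subgroup -/
theorem exists_irrKer [Finite G] (χ : IrrCharacter G) :
    ∃ K : Subgroup G, K.Normal ∧ ∀ g, g ∈ K ↔ (χ : G → ℂ) g = (χ : G → ℂ) 1 := by
  obtain ⟨χf, n, ρ, hirr, rfl⟩ := χ
  refine ⟨MonoidHom.ker ρ, MonoidHom.normal_ker ρ, fun g => ?_⟩
  rw [MonoidHom.mem_ker]
  constructor
  · intro h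
    show ρ.character g = ρ.character 1
    simp only [Representation.character, h, map_one]
  · intro h
    apply rep_eq_one_of_char_eq_finrank ρ g
    rw [show ρ.character g = ρ.character 1 from h, Representation.char_one]

/-- the kernel of an irreducible character -/
noncomputable def irrKer [Finite G] (χ : IrrCharacter G) : Subgroup G := (exists_irrKer χ).choose

instance irrKer_normal [Finite G] (χ : IrrCharacter G) : (irrKer χ).Normal :=
  (exists_irrKer χ).choose_spec.1

theorem mem_irrKer [Finite G] (χ : IrrCharacter G) (g : G) :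
    g ∈ irrKer χ ↔ (χ : G → ℂ) g = (χ : G → ℂ) 1 := (exists_irrKer χ).choose_spec.2 g

/-- averaging an irreducible character over a coset of a normal subgroup -/
theorem sum_mul_normal [Finite G] (χ : IrrCharacter G) (K : Subgroup G) [K.Normal] [Fintype K] (x : G) :
    ∑ k : K, (χ : G → ℂ) (x * k) = (χ : G → ℂ) x * (∑ k : K, (χ : G → ℂ) k) / (χ : G → ℂ) 1 := by
  obtain ⟨χf, n, ρ, hirr, rfl⟩ := χ
  haveI : ρ.IsIrreducible := hirr
  show ∑ k : K, ρ.character (x * k) = ρ.character x * (∑ k : K, ρ.character k) / ρ.character 1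
  let T : Module.End ℂ (Fin n → ℂ) := ∑ k : K, ρ (k : G)
  have hT : ∀ h : G, T ∘ₗ ρ h = ρ h ∘ₗ T := by
    intro h
    simp only [T]
    rw [← Module.End.mul_eq_comp, ← Module.End.mul_eq_comp, Finset.sum_mul, Finset.mul_sum]
    rw [← Equiv.sum_comp (MulAut.conjNormal h : MulAut K).toEquiv (fun k => ρ (k : G) * ρ h)]
    apply Finset.sum_congr rfl
    intro k _
    rw [← map_mul, ← map_mul]
    congr 1
    simp [MulAut.conjNormal_apply]
  obtain ⟨c, hc⟩ := exists_eq_smul_one_of_comm ρ T hT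
  have hpos := finrank_pos_of_isIrreducible ρ
  have hn : (finrank ℂ (Fin n → ℂ) : ℂ) ≠ 0 := by exact_mod_cast hpos.ne'
  have htr : LinearMap.trace ℂ _ T = ∑ k : K, ρ.character k := by
    simp only [T, map_sum, Representation.character]
  have htr2 : LinearMap.trace ℂ _ (ρ x * T) = ∑ k : K, ρ.character (x * k) := by
    simp only [T, Finset.mul_sum, map_sum, Representation.character, map_mul]
  rw [← htr2, ← htr, hc, mul_smul_comm, mul_one, map_smul, map_smul, LinearMap.trace_one,
    Representation.char_one, smul_eq_mul, smul_eq_mul]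
  simp only [Representation.character]
  field_simp

/-- if the sum of `χ` over a normal subgroup `K` is `|K| χ(1)`... more precisely if it equals the sum with all
values `χ 1`, then `K` lies in the kernel; here in the form: `∑_{k∈K} χ k = c` and `c ≠ 0` implies
`χ k₀ * c = c * χ 1`. -/
theorem apply_mul_sum_normal [Finite G] (χ : IrrCharacter G) (K : Subgroup G) [K.Normal] [Fintype K] (k₀ : K) :
    (χ : G → ℂ) k₀ * (∑ k : K, (χ : G → ℂ) k) = (∑ k : K, (χ : G → ℂ) k) * (χ : G → ℂ) 1 := by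
  have h := sum_mul_normal χ K (k₀ : G)
  have h2 : ∑ k : K, (χ : G → ℂ) ((k₀ : G) * k) = ∑ k : K, (χ : G → ℂ) k := by
    rw [← Equiv.sum_comp (Equiv.mulLeft k₀) (fun k : K => (χ : G → ℂ) (k : G))]
    rfl
  rw [h2] at h
  have h1 := irr_apply_one_ne_zero χ
  field_simp at h
  rw [mul_comm, ← h]

/-! ### characters nonzero on exactly two classes -/

/-- the hypothesis: `χ` is nonzero on exactly two conjugacy classes -/
abbrev TwoClassHyp (χ : IrrCharacter G) : Prop :=
  Nat.card {C : ConjClasses G // ∃ g ∈ C.carrier, (χ : G → ℂ) g ≠ 0} = 2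

theorem exists_rep_of_twoClass (χ : IrrCharacter G) (hχ : TwoClassHyp χ) :
    ∃ a : G, a ≠ 1 ∧ (χ : G → ℂ) a ≠ 0 ∧ ∀ g, (χ : G → ℂ) g ≠ 0 → g = 1 ∨ IsConj g a := by
  have c1 : {C : ConjClasses G // ∃ g ∈ C.carrier, (χ : G → ℂ) g ≠ 0} :=
    ⟨ConjClasses.mk 1, 1, ConjClasses.mem_carrier_mk, irr_apply_one_ne_zero χ⟩
  obtain ⟨x, y, hxy, huniv⟩ := Nat.card_eq_two_iff.mp hχ
  have hmem : ∀ t : {C : ConjClasses G // ∃ g ∈ C.carrier, (χ : G → ℂ) g ≠ 0}, t = x ∨ t = y := by
    intro t
    have : t ∈ ({x, y} : Set _) := huniv ▸ Set.mem_univ t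
    simpa using this
  obtain ⟨c2, hc2⟩ : ∃ c2 : {C : ConjClasses G // ∃ g ∈ C.carrier, (χ : G → ℂ) g ≠ 0},
      c2.1 ≠ ConjClasses.mk 1 := by
    by_cases h : x.1 = ConjClasses.mk 1
    · refine ⟨y, fun hy => hxy ?_⟩
      exact Subtype.ext (h.trans hy.symm)
    · exact ⟨x, h⟩
  have hkey : ∀ t : {C : ConjClasses G // ∃ g ∈ C.carrier, (χ : G → ℂ) g ≠ 0},
      t.1 = ConjClasses.mk 1 ∨ t = c2 := by
    intro t
    have hc1 : ∃ t1 : {C : ConjClasses G // ∃ g ∈ C.carrier, (χ : G → ℂ) g ≠ 0},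
        t1.1 = ConjClasses.mk 1 := ⟨⟨ConjClasses.mk 1, 1, ConjClasses.mem_carrier_mk,
          irr_apply_one_ne_zero χ⟩, rfl⟩
    obtain ⟨t1, ht1⟩ := hc1
    rcases hmem t1 with h1 | h1 <;> rcases hmem c2 with h2 | h2 <;> rcases hmem t with h3 | h3
    · exact absurd (by rw [h2, ← h1]; exact ht1) hc2
    · exact absurd (by rw [h2, ← h1]; exact ht1) hc2
    · left; rw [h3, ← h1]; exact ht1
    · right; rw [h3, h2]
    · right; rw [h3, h2]
    · left; rw [h3, ← h1]; exact ht1
    · exact absurd (by rw [h2, ← h1]; exact ht1) hc2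
    · exact absurd (by rw [h2, ← h1]; exact ht1) hc2
  obtain ⟨C, a, haC, ha0⟩ := c2
  have hc2 : C ≠ ConjClasses.mk 1 := hc2
  have hCa : ConjClasses.mk a = C := ConjClasses.mem_carrier_iff_mk_eq.mp haC
  refine ⟨a, ?_, ha0, ?_⟩
  · rintro rfl
    exact hc2 hCa.symm
  · intro g hg
    rcases hkey ⟨ConjClasses.mk g, g, ConjClasses.mem_carrier_mk, hg⟩ with h | h
    · left
      exact isConj_one_left.mp (ConjClasses.mk_eq_mk_iff_isConj.mp h)
    · right
      have : ConjClasses.mk g = C := congrArg Subtype.val h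
      rw [← hCa] at this
      exact ConjClasses.mk_eq_mk_iff_isConj.mp this

/-- splitting a sum of a class function supported on `{1} ∪ cl(a)` -/
theorem sum_eq_of_support [Fintype G] (a : G) (ha : a ≠ 1) (f : G → ℂ)
    (hf : ∀ g h, f (h * g * h⁻¹) = f g) (hsupp : ∀ g, f g ≠ 0 → g = 1 ∨ IsConj g a) :
    ∑ g, f g = f 1 + (Nat.card {g : G // IsConj g a} : ℂ) * f a := by
  classical
  have h1 : ∀ g, f g = (if g = 1 then f 1 else 0) + (if IsConj g a then f a else 0) := by
    intro g
    by_cases hg1 : g = 1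
    · subst hg1
      have : ¬ IsConj (1 : G) a := fun h => ha (isConj_one_right.mp h)
      rw [if_pos rfl, if_neg this, add_zero]
    · by_cases hc : IsConj g a
      · rw [if_neg hg1, if_pos hc, zero_add]
        obtain ⟨c, hc'⟩ := isConj_iff.mp hc
        rw [← hc', hf]
      · rw [if_neg hg1, if_neg hc, zero_add]
        by_contra h
        rcases hsupp g h with h | h
        · exact hg1 h
        · exact hc h
  rw [Finset.sum_congr rfl (fun g _ => h1 g), Finset.sum_add_distrib]
  congr 1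
  · simp
  · rw [← Finset.sum_filter, Finset.sum_const, nsmul_eq_mul, Nat.card_eq_fintype_card,
      Fintype.card_subtype]

/-- if every element is `1` or conjugate to `a ≠ 1` then `|G| ≤ 2` -/
theorem card_le_two_of_all [Finite G] (a : G) (ha : a ≠ 1) (hall : ∀ g : G, g = 1 ∨ IsConj g a) :
    Nat.card G ≤ 2 := by
  classical
  let _ := Fintype.ofFinite G
  have h1 := sum_eq_of_support a ha (fun _ => (1 : ℂ)) (fun _ _ => rfl) (fun g _ => hall g)
  simp only [Finset.sum_const, Finset.card_univ, nsmul_eq_mul, mul_one] at h1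
  have h2 : Nat.card G = 1 + Nat.card {g : G // IsConj g a} := by
    rw [Nat.card_eq_fintype_card]
    exact_mod_cast h1
  have h3 := card_conj_mul_card_centralizer a
  have h4 : 1 < Nat.card (Subgroup.centralizer ({a} : Set G)) := by
    rw [Subgroup.one_lt_card_iff_ne_bot]
    intro hbot
    have : a ∈ Subgroup.centralizer ({a} : Set G) := by
      rw [Subgroup.mem_centralizer_iff]
      intro h hh
      rw [Set.mem_singleton_iff.mp hh]
    rw [hbot, Subgroup.mem_bot] at this
    exact ha this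
  nlinarith

section Relations

variable [Fintype G] (χ : IrrCharacter G) (a : G) (ha : a ≠ 1)
  (hsupp : ∀ g, (χ : G → ℂ) g ≠ 0 → g = 1 ∨ IsConj g a)

include ha hsupp

theorem ne_one_of_twoClass (hG : 2 < Nat.card G) : (χ : G → ℂ) ≠ 1 := by
  intro h
  have hall : ∀ g : G, g = 1 ∨ IsConj g a := by
    intro g
    apply hsupp g
    rw [h]
    simp
  have := card_le_two_of_all a ha hall
  omega

theorem gagola_sum_zero (hχ1 : (χ : G → ℂ) ≠ 1) :
    (χ : G → ℂ) 1 + (Nat.card {g : G // IsConj g a} : ℂ) * (χ : G → ℂ) a = 0 := by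
  have h := classInner_irr χ.2 (isIrrCharacter_one (G := G))
  rw [if_neg hχ1] at h
  simp only [classInner, Pi.one_apply, map_one, mul_one] at h
  have := sum_eq_of_support a ha (χ : G → ℂ) (fun g h => irr_conj χ g h) hsupp
  rw [← this]
  rcases mul_eq_zero.mp h with h | h
  · exact absurd (inv_eq_zero.mp h) card_ne_zero_complex
  · exact h

theorem gagola_card_ne_zero (hχ1 : (χ : G → ℂ) ≠ 1) :
    (Nat.card {g : G // IsConj g a} : ℂ) ≠ 0 := by
  intro h0
  have h := gagola_sum_zero χ a ha hsupp hχ1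
  rw [h0, zero_mul, add_zero] at h
  exact irr_apply_one_ne_zero χ h

theorem gagola_other (hχ1 : (χ : G → ℂ) ≠ 1) (ψ : IrrCharacter G) (hψ : ψ ≠ χ) :
    (ψ : G → ℂ) a = (ψ : G → ℂ) 1 := by
  have h := classInner_irr' χ ψ
  rw [if_neg (Ne.symm hψ)] at h
  simp only [classInner] at h
  have h2 : ∑ g : G, (χ : G → ℂ) g * conj ((ψ : G → ℂ) g) = 0 := by
    rcases mul_eq_zero.mp h with h | h
    · exact absurd (inv_eq_zero.mp h) card_ne_zero_complex
    · exact h
  have h3 := sum_eq_of_support a ha (fun g => (χ : G → ℂ) g * conj ((ψ : G → ℂ) g))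
    (fun g h => by simp only [irr_conj]) (fun g hg => hsupp g (left_ne_zero_of_mul hg))
  rw [h2] at h3
  have h4 := gagola_sum_zero χ a ha hsupp hχ1
  have h5 : (χ : G → ℂ) 1 * (conj ((ψ : G → ℂ) 1) - conj ((ψ : G → ℂ) a)) = 0 := by
    linear_combination h3.symm - conj ((ψ : G → ℂ) a) * h4
  rcases mul_eq_zero.mp h5 with h | h
  · exact absurd h (irr_apply_one_ne_zero χ)
  · have := sub_eq_zero.mp h
    exact ((starRingEnd ℂ).injective this).symm

theorem gagola_card (hχ1 : (χ : G → ℂ) ≠ 1) :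
    (Nat.card G : ℂ) * (Nat.card {g : G // IsConj g a} : ℂ) =
      (χ : G → ℂ) 1 ^ 2 * ((Nat.card {g : G // IsConj g a} : ℂ) + 1) := by
  have h := classInner_irr' χ χ
  rw [if_pos rfl] at h
  simp only [classInner] at h
  have hG : (Nat.card G : ℂ) ≠ 0 := card_ne_zero_complex
  have h2 : ∑ g : G, (χ : G → ℂ) g * conj ((χ : G → ℂ) g) = (Nat.card G : ℂ) := by
    field_simp at h
    exact h
  have h3 := sum_eq_of_support a ha (fun g => (χ : G → ℂ) g * conj ((χ : G → ℂ) g))
    (fun g h => by simp only [irr_conj]) (fun g hg => hsupp g (left_ne_zero_of_mul hg))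
  rw [h2] at h3
  have h4 := gagola_sum_zero χ a ha hsupp hχ1
  have hc := gagola_card_ne_zero χ a ha hsupp hχ1
  have h1 : conj ((χ : G → ℂ) 1) = (χ : G → ℂ) 1 := by
    rw [irr_apply_one, Complex.conj_natCast]
  have ha' : (χ : G → ℂ) a = - (χ : G → ℂ) 1 / (Nat.card {g : G // IsConj g a} : ℂ) := by
    field_simp
    linear_combination h4
  have ha'' : conj ((χ : G → ℂ) a) = (χ : G → ℂ) a := by
    rw [ha', map_div₀, map_neg, h1, Complex.conj_natCast]
  rw [h1, ha'', ha'] at h3
  rw [h3]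
  field_simp

end Relations

theorem irr_eq_of_isConj (χ : IrrCharacter G) {g a : G} (h : IsConj g a) :
    (χ : G → ℂ) a = (χ : G → ℂ) g := by
  obtain ⟨c, hc⟩ := isConj_iff.mp h
  rw [← hc, irr_conj]

/-- a character nonzero on exactly two classes is faithful -/
theorem gagola_faithful [Finite G] (hG : 2 < Nat.card G) (χ : IrrCharacter G) (hχ : TwoClassHyp χ)
    (g : G) (hg : (χ : G → ℂ) g = (χ : G → ℂ) 1) : g = 1 := by
  classical
  let _ := Fintype.ofFinite G
  obtain ⟨a, ha, ha0, hsupp⟩ := exists_rep_of_twoClass χ hχ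
  have hχ1 := ne_one_of_twoClass χ a ha hsupp hG
  have hg0 : (χ : G → ℂ) g ≠ 0 := by rw [hg]; exact irr_apply_one_ne_zero χ
  rcases hsupp g hg0 with h | h
  · exact h
  · exfalso
    have h1 : (χ : G → ℂ) a = (χ : G → ℂ) 1 := by rw [irr_eq_of_isConj χ h, hg]
    have h2 := gagola_sum_zero χ a ha hsupp hχ1
    rw [h1] at h2
    have h3 : (χ : G → ℂ) 1 * ((Nat.card {g : G // IsConj g a} : ℂ) + 1) = 0 := by
      linear_combination h2
    rcases mul_eq_zero.mp h3 with h | h
    · exact irr_apply_one_ne_zero χ h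
    · exact Nat.cast_add_one_ne_zero _ h

/-- every other irreducible character has the distinguished element `a` in its kernel; in particular the
character is the only faithful one -/
theorem gagola_unique_faithful [Finite G] (hG : 2 < Nat.card G) (χ : IrrCharacter G) (hχ : TwoClassHyp χ)
    (ψ : IrrCharacter G) (hψ : ∀ g : G, (ψ : G → ℂ) g = (ψ : G → ℂ) 1 → g = 1) : ψ = χ := by
  classical
  let _ := Fintype.ofFinite G
  obtain ⟨a, ha, ha0, hsupp⟩ := exists_rep_of_twoClass χ hχ
  have hχ1 := ne_one_of_twoClass χ a ha hsupp hG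
  by_contra hne
  exact ha (hψ a (gagola_other χ a ha hsupp hχ1 ψ hne))

end Cfsg.Agent.Lib.Helper25
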