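/-
Inflation and deflation of irreducible characters along `G → G ⧸ N`, at the function level (helper25).
-/
import Mathlib
import Cfsg.Prelude.Def_Blocks
import Cfsg.Agent.Lib.Helper25.Gagola

set_option autoImplicit false

namespace Cfsg.Agent.Lib.Helper25

open Cfsg Cfsg.Agent.CharLib Cfsg.Agent.Lib.Helper24 Representation Module
open scoped ComplexConjugate

universe u
variable {G : Type u} [Group G]

/-- inflation of an irreducible character of `G ⧸ N` -/
theorem isIrrCharacter_inflate (N : Subgroup G) [N.Normal] (θ : IrrCharacter (G ⧸ N)) :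
    IsIrrCharacter G (fun g => (θ : G ⧸ N → ℂ) (g : G ⧸ N)) := by
  obtain ⟨θf, n, ρ, hirr, rfl⟩ := θ
  exact ⟨n, (MonoidHom.comp ρ (QuotientGroup.mk' N) : Representation ℂ G (Fin n → ℂ)),
    (isIrreducible_comp_iff (QuotientGroup.mk' N) (QuotientGroup.mk'_surjective N) ρ).mpr hirr, rfl⟩

/-- the inflation map on irreducible characters -/
noncomputable def inflateIrr (N : Subgroup G) [N.Normal] (θ : IrrCharacter (G ⧸ N)) : IrrCharacter G :=
  ⟨fun g => (θ : G ⧸ N → ℂ) (g : G ⧸ N), isIrrCharacter_inflate N θ⟩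

theorem inflateIrr_apply (N : Subgroup G) [N.Normal] (θ : IrrCharacter (G ⧸ N)) (g : G) :
    (inflateIrr N θ : G → ℂ) g = (θ : G ⧸ N → ℂ) (g : G ⧸ N) := rfl

theorem inflateIrr_injective (N : Subgroup G) [N.Normal] : Function.Injective (inflateIrr N) := by
  intro θ θ' h
  apply Subtype.ext
  funext q
  obtain ⟨g, rfl⟩ := QuotientGroup.mk_surjective q
  exact congrFun (congrArg Subtype.val h) g

theorem inflateIrr_mem_ker (N : Subgroup G) [N.Normal] (θ : IrrCharacter (G ⧸ N)) (n : G) (hn : n ∈ N) :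
    (inflateIrr N θ : G → ℂ) n = (inflateIrr N θ : G → ℂ) 1 := by
  rw [inflateIrr_apply, inflateIrr_apply, (QuotientGroup.eq_one_iff n).mpr hn, QuotientGroup.mk_one]

/-- deflation: an irreducible character with `N` in its kernel comes from `G ⧸ N` -/
theorem exists_inflateIrr_eq [Finite G] (N : Subgroup G) [N.Normal] (ψ : IrrCharacter G)
    (h : ∀ n ∈ N, (ψ : G → ℂ) n = (ψ : G → ℂ) 1) : ∃ θ : IrrCharacter (G ⧸ N), inflateIrr N θ = ψ := by
  obtain ⟨ψf, n, ρ, hirr, rfl⟩ := ψ
  haveI : ρ.IsIrreducible := hirr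
  have hN' : ∀ n' ∈ N, ρ n' = 1 := by
    intro n' hn'
    apply rep_eq_one_of_char_eq_finrank ρ n'
    have := h n' hn'
    rw [show ρ.character n' = ρ.character 1 from this, Representation.char_one]
  refine ⟨⟨(deflate N ρ hN').character, n, deflate N ρ hN', deflate_isIrreducible N ρ hN', rfl⟩, ?_⟩
  apply Subtype.ext
  funext g
  rfl

/-- sums over `Irr(G ⧸ N)` as sums over the irreducible characters of `G` with `N` in the kernel -/
theorem sum_irr_quotient [Finite G] (N : Subgroup G) [N.Normal] [Fintype (IrrCharacter G)]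
    [Fintype (IrrCharacter (G ⧸ N))] [DecidablePred (fun ψ : IrrCharacter G => ∀ n ∈ N, (ψ : G → ℂ) n = (ψ : G → ℂ) 1)]
    (F : IrrCharacter G → ℂ) :
    ∑ θ : IrrCharacter (G ⧸ N), F (inflateIrr N θ) =
      ∑ ψ ∈ Finset.univ.filter (fun ψ : IrrCharacter G => ∀ n ∈ N, (ψ : G → ℂ) n = (ψ : G → ℂ) 1), F ψ := by
  classical
  have himg : Finset.univ.filter (fun ψ : IrrCharacter G => ∀ n ∈ N, (ψ : G → ℂ) n = (ψ : G → ℂ) 1) =
      Finset.univ.image (inflateIrr N) := by
    ext ψ
    rw [Finset.mem_filter, Finset.mem_image]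
    constructor
    · rintro ⟨-, h⟩
      obtain ⟨θ, hθ⟩ := exists_inflateIrr_eq N ψ h
      exact ⟨θ, Finset.mem_univ _, hθ⟩
    · rintro ⟨θ, -, rfl⟩
      exact ⟨Finset.mem_univ _, fun n hn => inflateIrr_mem_ker N θ n hn⟩
  rw [himg, Finset.sum_image (fun x _ y _ h => inflateIrr_injective N h)]

end Cfsg.Agent.Lib.Helper25
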