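/-
helper25: extensions of `p`-solvable groups (`Cfsg.IsPSolvable`) and: finite solvable groups are
`p`-solvable for every prime `p`.
-/
import Mathlib
import Cfsg.Prelude.Def_Local
import Cfsg.Agent.Lib.Helper1.MinNormal

set_option autoImplicit false

namespace Cfsg.Agent.Lib.Helper25

universe u

/-- If `N` is a normal `p`-subgroup or `p'`-subgroup and `G ⧸ N` is `p`-solvable, so is `G`. -/
theorem isPSolvable_of_quotient {G : Type u} [Group G] (p : ℕ) (N : Subgroup G) [hN : N.Normal]
    (hNp : (∃ m : ℕ, Nat.card N = p ^ m) ∨ (Nat.card N).Coprime p)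
    (h : Cfsg.IsPSolvable p (G ⧸ N)) : Cfsg.IsPSolvable p G := by
  obtain ⟨n, H, h0, hlast, hmono, hnorm, hstep⟩ := h
  have hsurj : Function.Surjective (QuotientGroup.mk' N) := QuotientGroup.mk'_surjective N
  let K : Fin (n + 1 + 1) → Subgroup G :=
    Fin.cons ⊥ (fun i : Fin (n + 1) => (H i).comap (QuotientGroup.mk' N))
  have hK0 : K 0 = ⊥ := rfl
  have hKs : ∀ i : Fin (n + 1), K i.succ = (H i).comap (QuotientGroup.mk' N) := fun i => by
    simp [K]
  refine ⟨n + 1, K, hK0, ?_, ?_, ?_, ?_⟩
  · rw [← Fin.succ_last, hKs, hlast, Subgroup.comap_top]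
  · intro i j hij
    induction i using Fin.cases with
    | zero => rw [hK0]; exact bot_le
    | succ i =>
      induction j using Fin.cases with
      | zero => exact absurd hij (by simp)
      | succ j =>
        rw [hKs, hKs]
        exact Subgroup.comap_mono (hmono (Fin.succ_le_succ_iff.mp hij))
  · intro i
    induction i using Fin.cases with
    | zero => rw [hK0]; infer_instance
    | succ i =>
      rw [hKs]
      haveI := hnorm i
      infer_instance
  · intro i
    induction i using Fin.cases with
    | zero =>
      have e1 : K (0 : Fin (n + 1)).castSucc = ⊥ := hK0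
      have e2 : K (0 : Fin (n + 1)).succ = N := by
        rw [hKs, h0]
        exact QuotientGroup.ker_mk' N
      rw [e1, e2, Subgroup.relIndex_bot_left]
      exact hNp
    | succ i =>
      have e1 : K i.succ.castSucc = (H i.castSucc).comap (QuotientGroup.mk' N) := by
        rw [← Fin.succ_castSucc, hKs]
      have e2 : K i.succ.succ = (H i.succ).comap (QuotientGroup.mk' N) := hKs _
      have e3 : ((H i.castSucc).comap (QuotientGroup.mk' N)).relIndex
          ((H i.succ).comap (QuotientGroup.mk' N)) = (H i.castSucc).relIndex (H i.succ) := by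
        rw [Subgroup.relIndex_comap, Subgroup.map_comap_eq_self_of_surjective hsurj]
      rw [e1, e2, e3]
      exact hstep i

/-- A finite solvable group is `p`-solvable for every prime `p`. -/
theorem isPSolvable_of_isSolvable (p : ℕ) (hp : p.Prime) :
    ∀ (n : ℕ) (G : Type u) [Group G] [Finite G], Nat.card G = n → Group.IsSolvable G →
      Cfsg.IsPSolvable p G := by
  intro n
  induction n using Nat.strong_induction_on with
  | _ n ih =>
    intro G _ _ hcard hsolv
    by_cases htriv : Subsingleton G
    · refine ⟨0, fun _ => ⊥, rfl, ?_, fun _ _ _ => le_rfl, fun _ => inferInstance, fun i => i.elim0⟩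
      exact (Subsingleton.elim _ _)
    · haveI : Nontrivial G := not_subsingleton_iff_nontrivial.mp htriv
      haveI := hsolv
      obtain ⟨N, hN⟩ := Cfsg.Agent.Lib.Helper1.exists_isMinNormal (G := G)
      obtain ⟨q, hq, hNq⟩ := hN.exists_prime_isPGroup
      haveI : N.Normal := hN.1
      haveI : Fact q.Prime := ⟨hq⟩
      obtain ⟨m, hm⟩ := IsPGroup.iff_card.mp hNq
      have hNp : (∃ m : ℕ, Nat.card N = p ^ m) ∨ (Nat.card N).Coprime p := by
        by_cases hqp : q = p
        · left; exact ⟨m, by rw [hm, hqp]⟩
        · right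
          rw [hm]
          exact Nat.Coprime.pow_left m ((Nat.coprime_primes hq hp).mpr hqp)
      have hlt : Nat.card (G ⧸ N) < n := by
        rw [← hcard, ← Subgroup.index_eq_card, ← Subgroup.card_mul_index N]
        have h1 : 1 < Nat.card N := by
          rw [Subgroup.one_lt_card_iff_ne_bot]
          exact hN.2.1
        have h2 : 0 < N.index := Nat.pos_of_ne_zero Subgroup.FiniteIndex.index_ne_zero
        nlinarith
      have hq' := ih _ hlt (G ⧸ N) rfl inferInstance
      exact isPSolvable_of_quotient p N hNp hq'

/-- A finite solvable group is `p`-solvable for every prime `p`. -/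
theorem isPSolvable_of_isSolvable' {G : Type u} [Group G] [Finite G] (p : ℕ) (hp : p.Prime)
    (h : Group.IsSolvable G) : Cfsg.IsPSolvable p G :=
  isPSolvable_of_isSolvable p hp _ G rfl h

end Cfsg.Agent.Lib.Helper25
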