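/-
helper25: the upper p-series of a finite p-solvable group: O_{p'} of the odd quotients is trivial,
Hall–Higman 1.2.3 along the series, p-length ≤ class of a Sylow p-subgroup.
-/
import Mathlib
import Cfsg.Prelude.Def_Local
import Cfsg.Agent.Lib.Helper12.HallHigman
import Cfsg.Agent.Lib.Helper24.PSolvable

set_option autoImplicit false

namespace Cfsg.Agent.Lib.Helper25

open Cfsg Cfsg.Agent.Lib.Helper12 Cfsg.Agent.Lib.Helper24
open scoped commutatorElement

universe u

variable {G : Type u} [Group G]

theorem upperPSeries_succ_even (p : ℕ) (n : ℕ) (hn : Even n) :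
    (upperPSeries p G (n + 1)).1 =
      (pPrimeCore p (G ⧸ (upperPSeries p G n).1)).comap (QuotientGroup.mk' _) := by
  rw [upperPSeries]
  simp only [hn, if_true]

theorem upperPSeries_succ_odd (p : ℕ) (n : ℕ) (hn : ¬ Even n) :
    (upperPSeries p G (n + 1)).1 =
      (pCore p (G ⧸ (upperPSeries p G n).1)).comap (QuotientGroup.mk' _) := by
  rw [upperPSeries]
  simp only [hn, if_false]

theorem upperPSeries_le_succ (p : ℕ) (n : ℕ) :
    (upperPSeries p G n).1 ≤ (upperPSeries p G (n + 1)).1 := by
  intro x hx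
  have h1 : QuotientGroup.mk' (upperPSeries p G n).1 x = 1 := (QuotientGroup.eq_one_iff x).mpr hx
  by_cases hn : Even n
  · rw [upperPSeries_succ_even p n hn, Subgroup.mem_comap, h1]; exact Subgroup.one_mem _
  · rw [upperPSeries_succ_odd p n hn, Subgroup.mem_comap, h1]; exact Subgroup.one_mem _

theorem upperPSeries_mono (p : ℕ) {m n : ℕ} (h : m ≤ n) :
    (upperPSeries p G m).1 ≤ (upperPSeries p G n).1 := by
  induction n with
  | zero => rw [Nat.le_zero.mp h]
  | succ n ih =>
    rcases Nat.of_le_succ h with h' | h'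
    · exact le_trans (ih h') (upperPSeries_le_succ p n)
    · rw [h']

/-- If `U` is the preimage of `O_{p'}(G/V)` then `O_{p'}(G/U) = 1`. -/
theorem pPrimeCore_quotient_comap_eq_bot [Finite G] (p : ℕ) (V : Subgroup G) [V.Normal]
    (U : Subgroup G) [U.Normal]
    (hU : U = (pPrimeCore p (G ⧸ V)).comap (QuotientGroup.mk' V)) :
    pPrimeCore p (G ⧸ U) = ⊥ := by
  set Nb := pPrimeCore p (G ⧸ U) with hNb
  haveI : Nb.Normal := pPrimeCore_normal' p
  have hVU : V ≤ U := by
    intro x hx
    rw [hU, Subgroup.mem_comap]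
    have h1 : QuotientGroup.mk' V x = 1 := (QuotientGroup.eq_one_iff x).mpr hx
    rw [h1]; exact Subgroup.one_mem _
  set N := Nb.comap (QuotientGroup.mk' U) with hN
  have hUN : U ≤ N := by
    intro x hx
    rw [hN, Subgroup.mem_comap]
    have h1 : QuotientGroup.mk' U x = 1 := (QuotientGroup.eq_one_iff x).mpr hx
    rw [h1]; exact Subgroup.one_mem _
  have hcardN : Nat.card N = Nat.card U * Nat.card Nb := card_comap_mk' U Nb
  have hcardU : Nat.card U = Nat.card V * Nat.card (pPrimeCore p (G ⧸ V)) := by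
    rw [hU]; exact card_comap_mk' V _
  -- the image of N in G/V
  set M := N.map (QuotientGroup.mk' V) with hM
  haveI : M.Normal := Subgroup.Normal.map inferInstance _ (QuotientGroup.mk'_surjective V)
  have hMN : M.comap (QuotientGroup.mk' V) = N := by
    rw [hM, Subgroup.comap_map_eq, QuotientGroup.ker_mk', sup_eq_left]
    exact le_trans hVU hUN
  have hcardM : Nat.card N = Nat.card V * Nat.card M := by
    rw [← hMN]; exact card_comap_mk' V M
  have hMc : (Nat.card M).Coprime p := by
    have hpos : 0 < Nat.card V := Nat.card_pos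
    have : Nat.card M = Nat.card Nb * Nat.card (pPrimeCore p (G ⧸ V)) := by
      apply Nat.eq_of_mul_eq_mul_left hpos
      rw [← hcardM, hcardN, hcardU]; ring
    rw [this]
    exact Nat.Coprime.mul_left (pPrimeCore_coprime p) (pPrimeCore_coprime p)
  have hMle : M ≤ pPrimeCore p (G ⧸ V) := le_pPrimeCore p M inferInstance hMc
  have hNU : N ≤ U := by
    rw [← hMN, hU]
    exact Subgroup.comap_mono hMle
  rw [eq_bot_iff]
  intro x hx
  obtain ⟨y, rfl⟩ := QuotientGroup.mk'_surjective U x
  have hy : y ∈ N := hx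
  rw [Subgroup.mem_bot]
  exact (QuotientGroup.eq_one_iff y).mpr (hNU hy)

/-- `O_{p'}(G / U_{2k+1}) = 1`. -/
theorem pPrimeCore_quotient_upperPSeries_odd [Finite G] (p : ℕ) (k : ℕ) :
    pPrimeCore p (G ⧸ (upperPSeries p G (2 * k + 1)).1) = ⊥ :=
  pPrimeCore_quotient_comap_eq_bot p (upperPSeries p G (2 * k)).1 _
    (upperPSeries_succ_even p (2 * k) (even_two_mul k))

/-- Hall–Higman 1.2.3 in `G / U_{2k+1}`. -/
theorem centralizer_pCore_quotient_upperPSeries [Finite G] (p : ℕ) [Fact p.Prime]
    (hsol : IsPSolvable p G) (k : ℕ) :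
    Subgroup.centralizer
        ((pCore p (G ⧸ (upperPSeries p G (2 * k + 1)).1) : Subgroup _) : Set _) ≤
      pCore p (G ⧸ (upperPSeries p G (2 * k + 1)).1) :=
  centralizer_pCore_le_pCore p
    (isPSolvable_of_surjective p _ (QuotientGroup.mk'_surjective _) hsol)
    (pPrimeCore_quotient_upperPSeries_odd p k)

theorem map_upperPSeries_even_succ (p : ℕ) (k : ℕ) :
    (upperPSeries p G (2 * k + 2)).1.map (QuotientGroup.mk' (upperPSeries p G (2 * k + 1)).1) =
      pCore p (G ⧸ (upperPSeries p G (2 * k + 1)).1) := by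
  have hodd : ¬ Even (2 * k + 1) := by
    rw [Nat.not_even_iff_odd]; exact odd_two_mul_add_one k
  rw [show 2 * k + 2 = (2 * k + 1) + 1 by ring, upperPSeries_succ_odd p (2 * k + 1) hodd]
  exact Subgroup.map_comap_eq_self_of_surjective (QuotientGroup.mk'_surjective _) _


/-! ### p-length and the class of a Sylow p-subgroup -/

/-- iterated commutators with `P`: `Γ 0 = P`, `Γ (i+1) = ⁅Γ i, P⁆`. -/
def iterComm (P : Subgroup G) : ℕ → Subgroup G
  | 0 => P
  | n + 1 => ⁅iterComm P n, P⁆

theorem iterComm_eq_lowerCentralSeries (P : Subgroup G) (n : ℕ) :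
    iterComm P n = P.lowerCentralSeries n := by
  induction n with
  | zero => rfl
  | succ n ih =>
    show ⁅iterComm P n, P⁆ = ⁅P.lowerCentralSeries n, P⁆
    rw [ih]

theorem map_lowerCentralSeries_subtype (P : Subgroup G) (n : ℕ) :
    (Subgroup.lowerCentralSeries (⊤ : Subgroup ↥P) n).map P.subtype = iterComm P n := by
  rw [iterComm_eq_lowerCentralSeries, Subgroup.top_subtype_lowerCentralSeries]

theorem upperPSeries_eq_top_of_iterComm_le [Finite G] (p : ℕ) [hp : Fact p.Prime]
    (hsol : IsPSolvable p G) (P : Sylow p G) :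
    ∀ c j : ℕ, iterComm (P : Subgroup G) c ≤ (upperPSeries p G (2 * j)).1 →
      (upperPSeries p G (2 * (j + c) + 1)).1 = ⊤ := by
  intro c
  induction c with
  | zero =>
    intro j hle
    have hle' : (P : Subgroup G) ≤ (upperPSeries p G (2 * j)).1 := hle
    set V := (upperPSeries p G (2 * j)).1 with hV
    have hidx : ¬ p ∣ V.index := fun hd =>
      P.not_dvd_index (hd.trans (Subgroup.index_dvd_of_le hle'))
    have hcop : (Nat.card (⊤ : Subgroup (G ⧸ V))).Coprime p := by
      rw [Subgroup.card_top, ← Subgroup.index_eq_card]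
      exact ((Nat.Prime.coprime_iff_not_dvd hp.out).mpr hidx).symm
    have htop : pPrimeCore p (G ⧸ V) = ⊤ :=
      top_le_iff.mp (le_pPrimeCore p ⊤ inferInstance hcop)
    rw [add_zero, upperPSeries_succ_even p (2 * j) (even_two_mul j), htop, Subgroup.comap_top]
  | succ c ih =>
    intro j hle
    have hle' : ⁅iterComm (P : Subgroup G) c, (P : Subgroup G)⁆ ≤ (upperPSeries p G (2 * j)).1 := hle
    set W := (upperPSeries p G (2 * j + 1)).1 with hW
    have hVW : (upperPSeries p G (2 * j)).1 ≤ W := upperPSeries_le_succ p (2 * j)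
    have hWX : W ≤ (upperPSeries p G (2 * j + 2)).1 := upperPSeries_le_succ p (2 * j + 1)
    have hsurj := QuotientGroup.mk'_surjective W
    set O := pCore p (G ⧸ W) with hO
    haveI : O.Normal := pCore_normal' p
    have hOP : O ≤ ((P : Subgroup G).map (QuotientGroup.mk' W)) := by
      have := normal_pgroup_le_sylow O (pCore_isPGroup' p) (P.mapSurjective hsurj)
      rwa [Sylow.coe_mapSurjective] at this
    have hcent : (iterComm (P : Subgroup G) c).map (QuotientGroup.mk' W) ≤
        Subgroup.centralizer (O : Set (G ⧸ W)) := by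
      rintro _ ⟨x, hx, rfl⟩
      rw [Subgroup.mem_centralizer_iff]
      intro y hy
      obtain ⟨z, hz, rfl⟩ := hOP hy
      have hc : ⁅x, z⁆ ∈ W := hVW (hle' (Subgroup.commutator_mem_commutator hx hz))
      have h1 : QuotientGroup.mk' W ⁅x, z⁆ = 1 := (QuotientGroup.eq_one_iff _).mpr hc
      rw [map_commutatorElement, commutatorElement_eq_one_iff_mul_comm] at h1
      exact h1.symm
    have hstep : iterComm (P : Subgroup G) c ≤ (upperPSeries p G (2 * (j + 1))).1 := by
      have h1 := le_trans hcent (centralizer_pCore_quotient_upperPSeries p hsol j)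
      rw [← map_upperPSeries_even_succ p j] at h1
      have h2 := Subgroup.comap_mono (f := QuotientGroup.mk' W) h1
      rw [Subgroup.comap_map_eq, Subgroup.comap_map_eq, QuotientGroup.ker_mk',
        sup_eq_left.mpr hWX] at h2
      rw [show 2 * (j + 1) = 2 * j + 2 by ring]
      exact le_trans le_sup_left h2
    have := ih (j + 1) hstep
    rw [show 2 * (j + (c + 1)) + 1 = 2 * (j + 1 + c) + 1 by ring]
    exact this

/-- The `p`-length of a `p`-solvable group is at most the class of a Sylow `p`-subgroup. -/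
theorem pLengthLE_nilpotencyClass [Finite G] (p : ℕ) [hp : Fact p.Prime]
    (hsol : IsPSolvable p G) (P : Sylow p G) :
    PLengthLE p (Group.nilpotencyClass ↥(P : Subgroup G)) G := by
  haveI : Group.IsNilpotent ↥(P : Subgroup G) := IsPGroup.isNilpotent P.isPGroup'
  have h1 : iterComm (P : Subgroup G) (Group.nilpotencyClass ↥(P : Subgroup G)) = ⊥ := by
    rw [← map_lowerCentralSeries_subtype, Subgroup.lowerCentralSeries_nilpotencyClass, Subgroup.map_bot]
  have h2 := upperPSeries_eq_top_of_iterComm_le p hsol P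
    (Group.nilpotencyClass ↥(P : Subgroup G)) 0 (by rw [h1]; exact bot_le)
  rw [zero_add] at h2
  exact h2

end Cfsg.Agent.Lib.Helper25
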