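import Mathlib
import Cfsg.Prelude.Def_RootSubgroups

set_option autoImplicit false

namespace Cfsg.Agent.Lib.Helper25

open Cfsg

variable {G : Type*} [Group G]

theorem mem_conjBy {A : Subgroup G} {g x : G} : x ∈ conjBy A g ↔ g⁻¹ * x * g ∈ A := by
  constructor
  · rintro ⟨y, hy, rfl⟩
    simpa [mul_assoc] using hy
  · intro h
    exact ⟨g⁻¹ * x * g, h, by simp [mul_assoc]⟩

theorem conj_mem_conjBy {A : Subgroup G} {g x : G} (hx : x ∈ A) : g * x * g⁻¹ ∈ conjBy A g := by
  rw [mem_conjBy]; simpa [mul_assoc] using hx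

theorem conjBy_one (A : Subgroup G) : conjBy A 1 = A := by
  ext x; simp

theorem conjBy_mul (A : Subgroup G) (g h : G) : conjBy A (g * h) = conjBy (conjBy A h) g := by
  ext x; simp [mul_assoc]

theorem conjBy_conjBy_inv (A : Subgroup G) (g : G) : conjBy (conjBy A g) g⁻¹ = A := by
  rw [← conjBy_mul]; simp [conjBy_one]

theorem conjBy_inv_conjBy (A : Subgroup G) (g : G) : conjBy (conjBy A g⁻¹) g = A := by
  rw [← conjBy_mul]; simp [conjBy_one]

theorem conjBy_eq_self_iff {A : Subgroup G} {g : G} :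
    conjBy A g = A ↔ g ∈ Subgroup.normalizer (A : Set G) := by
  rw [Subgroup.mem_normalizer_iff_map_conj_eq]
  rfl

theorem conjBy_eq_self_of_mem {A : Subgroup G} {g : G} (hg : g ∈ A) : conjBy A g = A :=
  conjBy_eq_self_iff.2 (Subgroup.le_normalizer hg)

theorem conjBy_eq_iff {A B : Subgroup G} {g : G} : conjBy A g = B ↔ A = conjBy B g⁻¹ := by
  constructor
  · rintro rfl; rw [conjBy_conjBy_inv]
  · rintro rfl; rw [conjBy_inv_conjBy]

theorem conjBy_injective (g : G) : Function.Injective (fun A : Subgroup G => conjBy A g) := by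
  intro A B h
  have := congrArg (fun C => conjBy C g⁻¹) h
  simpa [conjBy_conjBy_inv] using this

theorem conjBy_le_of_mem_of_le {A X : Subgroup G} {g : G} (hA : A ≤ X) (hg : g ∈ X) :
    conjBy A g ≤ X := by
  intro x hx
  rw [mem_conjBy] at hx
  have h1 : g * (g⁻¹ * x * g) * g⁻¹ ∈ X := X.mul_mem (X.mul_mem hg (hA hx)) (X.inv_mem hg)
  simpa [mul_assoc] using h1

/-- In a rank one pair, no non-identity element of `A` normalizes `B`. -/
theorem rankOne_inf_normalizer {A B : Subgroup G} (h : IsRankOnePair A B) :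
    A ⊓ Subgroup.normalizer (B : Set G) = ⊥ := by
  rw [eq_bot_iff]
  rintro a ⟨ha, hn⟩
  rw [Subgroup.mem_bot]
  by_contra ha1
  obtain ⟨b, hb, _, hAb⟩ := h.cond_left a ha ha1
  have hn' : a⁻¹ ∈ Subgroup.normalizer (B : Set G) := (Subgroup.normalizer (B : Set G)).inv_mem hn
  rw [conjBy_eq_self_iff.2 hn'] at hAb
  -- conjBy A b⁻¹ = B, so A = conjBy B b = B
  have : A = B := by
    have h2 := conjBy_eq_iff.1 hAb
    rw [inv_inv, conjBy_eq_self_of_mem hb] at h2
    exact h2
  exact h.ne this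

theorem rankOne_inf_normalizer' {A B : Subgroup G} (h : IsRankOnePair A B) :
    B ⊓ Subgroup.normalizer (A : Set G) = ⊥ :=
  rankOne_inf_normalizer (RankOnePair_symm h)

theorem rankOne_eq_one_of_mem_normalizer {A B : Subgroup G} (h : IsRankOnePair A B)
    {a : G} (ha : a ∈ A) (hn : a ∈ Subgroup.normalizer (B : Set G)) : a = 1 := by
  have : a ∈ A ⊓ Subgroup.normalizer (B : Set G) := ⟨ha, hn⟩
  rw [rankOne_inf_normalizer h] at this
  exact this

theorem rankOne_eq_of_conjBy_eq {A B : Subgroup G} (h : IsRankOnePair A B)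
    {a a' : G} (ha : a ∈ A) (ha' : a' ∈ A) (hc : conjBy B a = conjBy B a') : a = a' := by
  -- conjBy B (a'⁻¹ * a) = B
  have h1 : conjBy B (a'⁻¹ * a) = B := by
    rw [conjBy_mul, hc, conjBy_conjBy_inv]
  have h2 := rankOne_eq_one_of_mem_normalizer h (A.mul_mem (A.inv_mem ha') ha)
    (conjBy_eq_self_iff.1 h1)
  have : a' * (a'⁻¹ * a) = a' * 1 := by rw [h2]
  simpa using this

theorem rankOne_left_ne_bot {A B : Subgroup G} (h : IsRankOnePair A B) : A ≠ ⊥ := by
  intro hA
  have hB : B ≠ ⊥ := fun hB => h.ne (hA.trans hB.symm)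
  obtain ⟨b, hb1⟩ := (Subgroup.ne_bot_iff_exists_ne_one).1 hB
  have hb1' : (b : G) ≠ 1 := fun e => hb1 (Subtype.ext e)
  obtain ⟨a, ha, ha1, _⟩ := h.cond_right b b.2 hb1'
  rw [hA, Subgroup.mem_bot] at ha
  exact ha1 ha

theorem rankOne_right_ne_bot {A B : Subgroup G} (h : IsRankOnePair A B) : B ≠ ⊥ :=
  rankOne_left_ne_bot (RankOnePair_symm h)

end Cfsg.Agent.Lib.Helper25
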