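import Mathlib
import Cfsg.Prelude.Def_RootSubgroups
import Cfsg.Agent.Lib.Helper25.RankOne

set_option autoImplicit false

namespace Cfsg.Agent.Lib.Helper25

open Cfsg

variable {G : Type*} [Group G]

/-- The subgroup of elements `x` such that conjugation by `x` and by `x⁻¹` preserves the family `T`. -/
def stabFamily (T : Set (Subgroup G)) : Subgroup G where
  carrier := {x | ∀ C ∈ T, conjBy C x ∈ T ∧ conjBy C x⁻¹ ∈ T}
  one_mem' := by
    intro C hC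
    simp only [inv_one, conjBy_one]
    exact ⟨hC, hC⟩
  mul_mem' := by
    intro x y hx hy C hC
    constructor
    · rw [conjBy_mul]
      exact (hx _ (hy C hC).1).1
    · rw [mul_inv_rev, conjBy_mul]
      exact (hy _ (hx C hC).2).2
  inv_mem' := by
    intro x hx C hC
    rw [inv_inv]
    exact ⟨(hx C hC).2, (hx C hC).1⟩

theorem conjBy_mem_of_mem_sup {A B : Subgroup G} {T : Set (Subgroup G)}
    (hA : ∀ a ∈ A, ∀ C ∈ T, conjBy C a ∈ T) (hB : ∀ b ∈ B, ∀ C ∈ T, conjBy C b ∈ T)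
    {x : G} (hx : x ∈ A ⊔ B) {C : Subgroup G} (hC : C ∈ T) : conjBy C x ∈ T := by
  have h1 : A ⊔ B ≤ stabFamily T := by
    apply sup_le
    · intro a ha C hC
      exact ⟨hA a ha C hC, hA a⁻¹ (A.inv_mem ha) C hC⟩
    · intro b hb C hC
      exact ⟨hB b hb C hC, hB b⁻¹ (B.inv_mem hb) C hC⟩
  exact ((h1 hx) C hC).1

theorem unipotentSubgroups_conjBy_mem {A B : Subgroup G} {C : Subgroup G} {x : G}
    (hC : C ∈ unipotentSubgroups A B) (hx : x ∈ A ⊔ B) : conjBy C x ∈ unipotentSubgroups A B := by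
  obtain ⟨y, hy, rfl⟩ := hC
  exact ⟨x * y, (A ⊔ B).mul_mem hx hy, (conjBy_mul A x y).symm⟩

theorem self_mem_unipotentSubgroups (A B : Subgroup G) : A ∈ unipotentSubgroups A B :=
  ⟨1, (A ⊔ B).one_mem, (conjBy_one A).symm⟩

/-- `B` is conjugate to `A` inside `⟨A, B⟩`. -/
theorem rankOne_right_mem_unipotentSubgroups {A B : Subgroup G} (h : IsRankOnePair A B) :
    B ∈ unipotentSubgroups A B := by
  obtain ⟨a, ha1⟩ := (Subgroup.ne_bot_iff_exists_ne_one).1 (rankOne_left_ne_bot h)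
  have ha1' : (a : G) ≠ 1 := fun e => ha1 (Subtype.ext e)
  obtain ⟨b, hb, _, hAb⟩ := h.cond_left a a.2 ha1'
  refine ⟨(a : G) * b⁻¹, (A ⊔ B).mul_mem (Subgroup.mem_sup_left a.2)
    (Subgroup.mem_sup_right (B.inv_mem hb)), ?_⟩
  rw [conjBy_mul, hAb, conjBy_inv_conjBy]

/-- The conjugates of `A` under `⟨A, B⟩` are `A` and the conjugates of `B` by elements of `A`. -/
theorem rankOne_mem_unipotentSubgroups_iff {A B : Subgroup G} (h : IsRankOnePair A B)
    {C : Subgroup G} : C ∈ unipotentSubgroups A B ↔ C = A ∨ ∃ a ∈ A, C = conjBy B a := by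
  constructor
  · rintro ⟨x, hx, rfl⟩
    let T : Set (Subgroup G) := {C | C = A ∨ ∃ a ∈ A, C = conjBy B a}
    have hAT : A ∈ T := Or.inl rfl
    -- conjugates of `A` by elements of `B` lie in `T`
    have hAB : ∀ b ∈ B, conjBy A b ∈ T := by
      intro b hb
      by_cases hb1 : b = 1
      · subst hb1; rw [conjBy_one]; exact hAT
      · have hb1' : b⁻¹ ≠ 1 := by simpa using hb1
        obtain ⟨a, ha, _, hBa⟩ := h.cond_right b⁻¹ (B.inv_mem hb) hb1'
        rw [inv_inv] at hBa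
        exact Or.inr ⟨a⁻¹, A.inv_mem ha, hBa.symm⟩
    have hTA : ∀ a ∈ A, ∀ C ∈ T, conjBy C a ∈ T := by
      rintro a ha C (rfl | ⟨a', ha', rfl⟩)
      · rw [conjBy_eq_self_of_mem ha]; exact hAT
      · exact Or.inr ⟨a * a', A.mul_mem ha ha', (conjBy_mul B a a').symm⟩
    have hTB : ∀ b ∈ B, ∀ C ∈ T, conjBy C b ∈ T := by
      rintro b hb C (rfl | ⟨a', ha', rfl⟩)
      · exact hAB b hb
      · by_cases ha1 : a' = 1
        · subst ha1
          rw [conjBy_one, conjBy_eq_self_of_mem hb]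
          exact Or.inr ⟨1, A.one_mem, (conjBy_one B).symm⟩
        · have ha1' : a'⁻¹ ≠ 1 := by simpa using ha1
          obtain ⟨b₁, hb₁, _, hAb⟩ := h.cond_left a'⁻¹ (A.inv_mem ha') ha1'
          rw [inv_inv] at hAb
          rw [← hAb, ← conjBy_mul]
          exact hAB _ (B.mul_mem hb (B.inv_mem hb₁))
    exact conjBy_mem_of_mem_sup hTA hTB hx hAT
  · rintro (rfl | ⟨a, ha, rfl⟩)
    · exact self_mem_unipotentSubgroups _ B
    · exact unipotentSubgroups_conjBy_mem (rankOne_right_mem_unipotentSubgroups h)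
        (Subgroup.mem_sup_left ha)

theorem rankOne_conjBy_right_ne_left {A B : Subgroup G} (h : IsRankOnePair A B) {a : G}
    (ha : a ∈ A) : conjBy B a ≠ A := by
  intro he
  have := conjBy_eq_iff.1 he
  rw [conjBy_eq_self_of_mem (A.inv_mem ha)] at this
  exact h.ne this.symm

/-- `A` acts regularly on the conjugates other than `A`. -/
theorem rankOne_regular {A B : Subgroup G} (h : IsRankOnePair A B) {C D : Subgroup G}
    (hC : C ∈ unipotentSubgroups A B) (hD : D ∈ unipotentSubgroups A B) (hCA : C ≠ A) (hDA : D ≠ A) :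
    ∃! a : G, a ∈ A ∧ conjBy C a = D := by
  rcases (rankOne_mem_unipotentSubgroups_iff h).1 hC with rfl | ⟨a₁, ha₁, rfl⟩
  · exact absurd rfl hCA
  rcases (rankOne_mem_unipotentSubgroups_iff h).1 hD with rfl | ⟨a₂, ha₂, rfl⟩
  · exact absurd rfl hDA
  refine ⟨a₂ * a₁⁻¹, ⟨A.mul_mem ha₂ (A.inv_mem ha₁), ?_⟩, ?_⟩
  · rw [← conjBy_mul]; simp
  · rintro a ⟨ha, hc⟩
    rw [← conjBy_mul] at hc
    have := rankOne_eq_of_conjBy_eq h (A.mul_mem ha ha₁) ha₂ hc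
    rw [← this]; simp

/-- Any ordered pair of distinct conjugates can be moved to `(A, B)`. -/
theorem rankOne_move_to_std {A B : Subgroup G} (h : IsRankOnePair A B) {C₁ C₂ : Subgroup G}
    (hC₁ : C₁ ∈ unipotentSubgroups A B) (hC₂ : C₂ ∈ unipotentSubgroups A B) (hne : C₁ ≠ C₂) :
    ∃ x ∈ A ⊔ B, conjBy C₁ x = A ∧ conjBy C₂ x = B := by
  obtain ⟨x₁, hx₁, rfl⟩ := hC₁
  have hx₁' : x₁⁻¹ ∈ A ⊔ B := (A ⊔ B).inv_mem hx₁
  have hC₂' : conjBy C₂ x₁⁻¹ ∈ unipotentSubgroups A B := unipotentSubgroups_conjBy_mem hC₂ hx₁'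
  have hne' : conjBy C₂ x₁⁻¹ ≠ A := by
    intro he
    apply hne
    rw [conjBy_eq_iff, inv_inv] at he
    exact he.symm
  rcases (rankOne_mem_unipotentSubgroups_iff h).1 hC₂' with he | ⟨a, ha, he⟩
  · exact absurd he hne'
  refine ⟨a⁻¹ * x₁⁻¹, (A ⊔ B).mul_mem (Subgroup.mem_sup_left (A.inv_mem ha)) hx₁', ?_, ?_⟩
  · rw [conjBy_mul, conjBy_conjBy_inv, conjBy_eq_self_of_mem (A.inv_mem ha)]
  · rw [conjBy_mul, he, conjBy_conjBy_inv]

/-- `⟨A, B⟩` is doubly transitive on the conjugates of `A`. -/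
theorem rankOne_two_transitive {A B : Subgroup G} (h : IsRankOnePair A B) {C₁ C₂ D₁ D₂ : Subgroup G}
    (hC₁ : C₁ ∈ unipotentSubgroups A B) (hC₂ : C₂ ∈ unipotentSubgroups A B)
    (hD₁ : D₁ ∈ unipotentSubgroups A B) (hD₂ : D₂ ∈ unipotentSubgroups A B)
    (hC : C₁ ≠ C₂) (hD : D₁ ≠ D₂) :
    ∃ x ∈ A ⊔ B, conjBy C₁ x = D₁ ∧ conjBy C₂ x = D₂ := by
  obtain ⟨x, hx, hx1, hx2⟩ := rankOne_move_to_std h hC₁ hC₂ hC
  obtain ⟨y, hy, hy1, hy2⟩ := rankOne_move_to_std h hD₁ hD₂ hD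
  refine ⟨y⁻¹ * x, (A ⊔ B).mul_mem ((A ⊔ B).inv_mem hy) hx, ?_, ?_⟩
  · rw [conjBy_mul, hx1, ← hy1, conjBy_conjBy_inv]
  · rw [conjBy_mul, hx2, ← hy2, conjBy_conjBy_inv]

/-- There are at least three conjugates. -/
theorem rankOne_three_conjugates {A B : Subgroup G} (h : IsRankOnePair A B) :
    ∃ C₁ ∈ unipotentSubgroups A B, ∃ C₂ ∈ unipotentSubgroups A B, ∃ C₃ ∈ unipotentSubgroups A B,
      C₁ ≠ C₂ ∧ C₁ ≠ C₃ ∧ C₂ ≠ C₃ := by
  obtain ⟨a, ha1⟩ := (Subgroup.ne_bot_iff_exists_ne_one).1 (rankOne_left_ne_bot h)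
  have ha1' : (a : G) ≠ 1 := fun e => ha1 (Subtype.ext e)
  refine ⟨A, self_mem_unipotentSubgroups A B, B, rankOne_right_mem_unipotentSubgroups h,
    conjBy B a, (rankOne_mem_unipotentSubgroups_iff h).2 (Or.inr ⟨a, a.2, rfl⟩), h.ne,
    (rankOne_conjBy_right_ne_left h a.2).symm, ?_⟩
  intro he
  exact ha1' (rankOne_eq_one_of_mem_normalizer h a.2 (conjBy_eq_self_iff.1 he.symm))

end Cfsg.Agent.Lib.Helper25
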