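import Mathlib
import Cfsg.Prelude.Def_RootSubgroups
import Cfsg.Agent.Lib.Helper25.RankOneOmega

set_option autoImplicit false

namespace Cfsg.Agent.Lib.Helper25

open Cfsg

variable {G : Type*} [Group G]

/-- An element commuting with all elements of `A` and of `B` is central when `A ⊔ B = ⊤`. -/
theorem mem_center_of_commute_gens {A B : Subgroup G} (htop : A ⊔ B = ⊤) {n : G}
    (hA : ∀ a ∈ A, a * n = n * a) (hB : ∀ b ∈ B, b * n = n * b) : n ∈ Subgroup.center G := by
  have h1 : A ⊔ B ≤ Subgroup.centralizer ({n} : Set G) := by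
    apply sup_le
    · intro a ha
      rw [Subgroup.mem_centralizer_iff]
      intro m hm
      rw [Set.mem_singleton_iff] at hm
      subst hm
      exact (hA a ha).symm
    · intro b hb
      rw [Subgroup.mem_centralizer_iff]
      intro m hm
      rw [Set.mem_singleton_iff] at hm
      subst hm
      exact (hB b hb).symm
  rw [htop] at h1
  rw [Subgroup.mem_center_iff]
  intro g
  have := h1 (Subgroup.mem_top g)
  rw [Subgroup.mem_centralizer_iff] at this
  exact (this n rfl).symm

/-- If a normal subgroup `N` normalizes `A`, it normalizes each conjugate of `A`. -/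
theorem normal_normalizes_conj {A : Subgroup G} {N : Subgroup G} (hN : N.Normal)
    (hNA : ∀ n ∈ N, conjBy A n = A) (x : G) : ∀ n ∈ N, conjBy (conjBy A x) n = conjBy A x := by
  intro n hn
  have h1 : x⁻¹ * n * x ∈ N := by
    have := hN.conj_mem n hn x⁻¹
    simpa using this
  have h2 : n * x = x * (x⁻¹ * n * x) := by group
  rw [← conjBy_mul, h2, conjBy_mul, hNA _ h1]

/-- A normal subgroup of a rank one group `X = ⟨A, B⟩` either satisfies `X = N A` or is central. -/
theorem rankOne_normal_dichotomy {A B : Subgroup G} (h : IsRankOnePair A B) (htop : A ⊔ B = ⊤)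
    (N : Subgroup G) (hN : N.Normal) : N ⊔ A = ⊤ ∨ N ≤ Subgroup.center G := by
  by_cases hNA : ∀ n ∈ N, conjBy A n = A
  · right
    have hBmem := rankOne_right_mem_unipotentSubgroups h
    obtain ⟨x, _, hBx⟩ := hBmem
    have hNB : ∀ n ∈ N, conjBy B n = B := by
      intro n hn
      rw [hBx]
      exact normal_normalizes_conj hN hNA x n hn
    intro n hn
    apply mem_center_of_commute_gens htop
    · intro a ha
      -- the commutator `n * a * n⁻¹ * a⁻¹` lies in `A ⊓ N ≤ A ⊓ normalizer B = ⊥`
      have h1 : n * a * n⁻¹ ∈ A := by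
        have : n * a * n⁻¹ ∈ conjBy A n := conj_mem_conjBy ha
        rwa [hNA n hn] at this
      have h2 : n * a * n⁻¹ * a⁻¹ ∈ A := A.mul_mem h1 (A.inv_mem ha)
      have h3 : n * a * n⁻¹ * a⁻¹ ∈ N := by
        have : a * n⁻¹ * a⁻¹ ∈ N := hN.conj_mem _ (N.inv_mem hn) a
        have := N.mul_mem hn this
        simpa [mul_assoc] using this
      have h4 : n * a * n⁻¹ * a⁻¹ ∈ Subgroup.normalizer (B : Set G) :=
        conjBy_eq_self_iff.1 (hNB _ h3)
      have h5 := rankOne_eq_one_of_mem_normalizer h h2 h4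
      have : n * a * n⁻¹ * a⁻¹ * (a * n) = 1 * (a * n) := by rw [h5]
      simpa [mul_assoc] using this.symm
    · intro b hb
      have h1 : n * b * n⁻¹ ∈ B := by
        have : n * b * n⁻¹ ∈ conjBy B n := conj_mem_conjBy hb
        rwa [hNB n hn] at this
      have h2 : n * b * n⁻¹ * b⁻¹ ∈ B := B.mul_mem h1 (B.inv_mem hb)
      have h3 : n * b * n⁻¹ * b⁻¹ ∈ N := by
        have : b * n⁻¹ * b⁻¹ ∈ N := hN.conj_mem _ (N.inv_mem hn) b
        have := N.mul_mem hn this
        simpa [mul_assoc] using this
      have h4 : n * b * n⁻¹ * b⁻¹ ∈ Subgroup.normalizer (A : Set G) :=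
        conjBy_eq_self_iff.1 (hNA _ h3)
      have h5 := rankOne_eq_one_of_mem_normalizer (RankOnePair_symm h) h2 h4
      have : n * b * n⁻¹ * b⁻¹ * (b * n) = 1 * (b * n) := by rw [h5]
      simpa [mul_assoc] using this.symm
  · left
    push Not at hNA
    obtain ⟨n, hn, hne⟩ := hNA
    have hC₀ : conjBy A n ∈ unipotentSubgroups A B :=
      ⟨n, by rw [htop]; exact Subgroup.mem_top n, rfl⟩
    obtain ⟨a, ⟨ha, hB⟩, _⟩ := rankOne_regular h hC₀ (rankOne_right_mem_unipotentSubgroups h) hne h.ne.symm
    rw [← conjBy_mul] at hB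
    have hBle : B ≤ N ⊔ A := by
      rw [← hB]
      exact conjBy_le_of_mem_of_le le_sup_right
        ((N ⊔ A).mul_mem (Subgroup.mem_sup_right ha) (Subgroup.mem_sup_left hn))
    rw [eq_top_iff, ← htop]
    exact sup_le le_sup_right hBle

/-- A rank one group is not abelian: its centre is a proper subgroup. -/
theorem rankOne_center_ne_top {A B : Subgroup G} (h : IsRankOnePair A B) :
    Subgroup.center G ≠ ⊤ := by
  intro hc
  apply rankOne_left_ne_bot h
  rw [eq_bot_iff]
  intro a ha
  have hn : a ∈ Subgroup.normalizer (B : Set G) := by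
    have : a ∈ Subgroup.center G := by rw [hc]; exact Subgroup.mem_top a
    exact (Subgroup.center_le_normalizer _) this
  rw [Subgroup.mem_bot]
  exact rankOne_eq_one_of_mem_normalizer h ha hn

end Cfsg.Agent.Lib.Helper25
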