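import Mathlib
import Cfsg.Prelude.Def_RootSubgroups
import Cfsg.Agent.Lib.Helper25.RankOneNormal

set_option autoImplicit false

namespace Cfsg.Agent.Lib.Helper25

open Cfsg
open scoped commutatorElement

variable {G : Type*} [Group G]

/-- A conjugate of `A` (under `⟨A, B⟩`) different from `A` is not contained in the normalizer of `A`. -/
theorem rankOne_conj_not_le_normalizer {A B : Subgroup G} (h : IsRankOnePair A B) {C : Subgroup G}
    (hC : C ∈ unipotentSubgroups A B) (hCA : C ≠ A) :
    ¬ C ≤ Subgroup.normalizer (A : Set G) := by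
  intro hle
  obtain ⟨x, _, hxA, hxC⟩ := rankOne_move_to_std h (self_mem_unipotentSubgroups A B) hC hCA.symm
  -- then `B ≤ normalizer A`
  have hAx' : conjBy A x⁻¹ = A := by
    have := conjBy_eq_iff.1 hxA
    exact this.symm
  apply rankOne_right_ne_bot h
  rw [eq_bot_iff]
  intro b hb
  rw [Subgroup.mem_bot]
  apply rankOne_eq_one_of_mem_normalizer (RankOnePair_symm h) hb
  rw [← hxC, mem_conjBy] at hb
  have hc := conjBy_eq_self_iff.2 (hle hb)
  rw [← conjBy_eq_self_iff]
  have hb' : b = x * (x⁻¹ * b * x) * x⁻¹ := by group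
  rw [hb', conjBy_mul, conjBy_mul, hAx', hc, hxA]

/-- An element of the second centre normalizes `A`. -/
theorem rankOne_secondCenter_normalizes {A B : Subgroup G} (h : IsRankOnePair A B)
    (htop : A ⊔ B = ⊤) {z : G} (hz : ∀ y : G, z * y * z⁻¹ * y⁻¹ ∈ Subgroup.center G) :
    conjBy A z = A := by
  by_contra hne
  have hC : conjBy A z ∈ unipotentSubgroups A B :=
    ⟨z, by rw [htop]; exact Subgroup.mem_top z, rfl⟩
  apply rankOne_conj_not_le_normalizer h hC hne
  intro c hc
  rw [mem_conjBy] at hc
  -- c = z a z⁻¹ with a = z⁻¹ c z ∈ A, and z a z⁻¹ a⁻¹ is central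
  set a := z⁻¹ * c * z with ha
  have hca : c = (z * a * z⁻¹ * a⁻¹) * a := by rw [ha]; group
  rw [hca]
  exact (Subgroup.normalizer (A : Set G)).mul_mem
    (Subgroup.center_le_normalizer _ (hz a)) (Subgroup.le_normalizer hc)

/-- In a rank one group the second centre equals the centre. -/
theorem rankOne_secondCenter {A B : Subgroup G} (h : IsRankOnePair A B) (htop : A ⊔ B = ⊤) :
    Subgroup.upperCentralSeries G 2 = Subgroup.center G := by
  apply le_antisymm
  · intro z hz
    rw [Subgroup.mem_upperCentralSeries_succ_iff] at hz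
    have hz' : ∀ y : G, z * y * z⁻¹ * y⁻¹ ∈ Subgroup.center G := by
      intro y
      have := hz y
      rwa [Subgroup.upperCentralSeries_one, commutatorElement_def] at this
    have hzA := rankOne_secondCenter_normalizes h htop hz'
    have hzB := rankOne_secondCenter_normalizes (RankOnePair_symm h)
      (by rw [sup_comm]; exact htop) hz'
    apply mem_center_of_commute_gens htop
    · intro a ha
      have h1 : z * a * z⁻¹ ∈ A := by
        have : z * a * z⁻¹ ∈ conjBy A z := conj_mem_conjBy ha
        rwa [hzA] at this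
      have h2 : z * a * z⁻¹ * a⁻¹ ∈ A := A.mul_mem h1 (A.inv_mem ha)
      have h5 := rankOne_eq_one_of_mem_normalizer h h2 (Subgroup.center_le_normalizer _ (hz' a))
      have : z * a * z⁻¹ * a⁻¹ * (a * z) = 1 * (a * z) := by rw [h5]
      simpa [mul_assoc] using this.symm
    · intro b hb
      have h1 : z * b * z⁻¹ ∈ B := by
        have : z * b * z⁻¹ ∈ conjBy B z := conj_mem_conjBy hb
        rwa [hzB] at this
      have h2 : z * b * z⁻¹ * b⁻¹ ∈ B := B.mul_mem h1 (B.inv_mem hb)
      have h5 := rankOne_eq_one_of_mem_normalizer (RankOnePair_symm h) h2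
        (Subgroup.center_le_normalizer _ (hz' b))
      have : z * b * z⁻¹ * b⁻¹ * (b * z) = 1 * (b * z) := by rw [h5]
      simpa [mul_assoc] using this.symm
  · rw [← Subgroup.upperCentralSeries_one]
    exact Subgroup.upperCentralSeries_mono G (by norm_num)

/-- A rank one group is not nilpotent. -/
theorem rankOne_not_nilpotent {A B : Subgroup G} (h : IsRankOnePair A B) (htop : A ⊔ B = ⊤) :
    ¬ Group.IsNilpotent G := by
  intro hnil
  obtain ⟨n, hn⟩ := hnil.nilpotent'
  have h2 := rankOne_secondCenter h htop
  have key : ∀ m : ℕ, Subgroup.upperCentralSeries G (m + 1) = Subgroup.center G := by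
    intro m
    induction m with
    | zero => exact Subgroup.upperCentralSeries_one G
    | succ k ih =>
      ext x
      have e1 : x ∈ Subgroup.upperCentralSeries G (k + 1 + 1) ↔
          ∀ y : G, ⁅x, y⁆ ∈ Subgroup.center G := by
        rw [Subgroup.mem_upperCentralSeries_succ_iff, ih]
      have e2 : x ∈ Subgroup.center G ↔ ∀ y : G, ⁅x, y⁆ ∈ Subgroup.center G := by
        rw [← h2, Subgroup.mem_upperCentralSeries_succ_iff, Subgroup.upperCentralSeries_one, h2]
      rw [e1, e2]
  apply rankOne_center_ne_top h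
  cases n with
  | zero =>
    rw [Subgroup.upperCentralSeries_zero] at hn
    rw [eq_top_iff, ← hn]
    exact bot_le
  | succ k => rw [← key k, hn]

end Cfsg.Agent.Lib.Helper25
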