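import Mathlib
import Cfsg.Prelude.Def_RootSubgroups
import Cfsg.Agent.Lib.Helper25.RankOneCenter

set_option autoImplicit false

namespace Cfsg.Agent.Lib.Helper25

open Cfsg

variable {G : Type*} [Group G]

theorem conjBy_ne_bot {A : Subgroup G} (hA : A ≠ ⊥) (x : G) : conjBy A x ≠ ⊥ := by
  intro h
  apply hA
  have := conjBy_eq_iff.1 h
  rw [this]
  ext y; simp

theorem conjBy_sup (A B : Subgroup G) (x : G) : conjBy (A ⊔ B) x = conjBy A x ⊔ conjBy B x :=
  Subgroup.map_sup A B _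

theorem conjBy_mono {A B : Subgroup G} (h : A ≤ B) (x : G) : conjBy A x ≤ conjBy B x :=
  Subgroup.map_mono h

theorem rankOneCondition_conj {A B : Subgroup G} (h : RankOneCondition A B) (x : G) :
    RankOneCondition (conjBy A x) (conjBy B x) := by
  intro a' ha' ha'1
  rw [mem_conjBy] at ha'
  have h1 : x⁻¹ * a' * x ≠ 1 := by
    intro he
    apply ha'1
    have : x * (x⁻¹ * a' * x) * x⁻¹ = x * 1 * x⁻¹ := by rw [he]
    simpa [mul_assoc] using this
  obtain ⟨b, hb, hb1, hAb⟩ := h _ ha' h1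
  refine ⟨x * b * x⁻¹, conj_mem_conjBy hb, ?_, ?_⟩
  · intro he
    apply hb1
    have : x⁻¹ * (x * b * x⁻¹) * x = x⁻¹ * 1 * x := by rw [he]
    simpa [mul_assoc] using this
  · rw [← conjBy_mul, ← conjBy_mul]
    have e1 : (x * b * x⁻¹)⁻¹ * x = x * b⁻¹ := by group
    have e2 : a'⁻¹ * x = x * (x⁻¹ * a' * x)⁻¹ := by group
    rw [e1, e2, conjBy_mul, conjBy_mul, hAb]

theorem rankOnePair_conj {A B : Subgroup G} (h : IsRankOnePair A B) (x : G) :
    IsRankOnePair (conjBy A x) (conjBy B x) := by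
  refine ⟨?_, ?_, ?_, rankOneCondition_conj h.cond_left x, rankOneCondition_conj h.cond_right x⟩
  · intro he
    exact h.ne (conjBy_injective x he)
  · have := h.nilpotent_left
    exact Group.nilpotent_of_surjective _ ((MulAut.conj x).toMonoidHom.subgroupMap_surjective A)
  · have := h.nilpotent_right
    exact Group.nilpotent_of_surjective _ ((MulAut.conj x).toMonoidHom.subgroupMap_surjective B)

theorem conjBy_sup_eq_of_mem {A B : Subgroup G} {x : G} (hx : x ∈ A ⊔ B) :
    conjBy A x ⊔ conjBy B x = A ⊔ B := by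
  rw [← conjBy_sup]
  exact conjBy_eq_self_of_mem hx

theorem unipotentSubgroups_conj {A B : Subgroup G} {x : G} (hx : x ∈ A ⊔ B) :
    unipotentSubgroups (conjBy A x) (conjBy B x) = unipotentSubgroups A B := by
  ext C
  simp only [unipotentSubgroups, Set.mem_ofPred_eq]
  rw [conjBy_sup_eq_of_mem hx]
  constructor
  · rintro ⟨y, hy, rfl⟩
    exact ⟨y * x, (A ⊔ B).mul_mem hy hx, (conjBy_mul A y x).symm⟩
  · rintro ⟨y, hy, rfl⟩
    refine ⟨y * x⁻¹, (A ⊔ B).mul_mem hy ((A ⊔ B).inv_mem hx), ?_⟩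
    rw [← conjBy_mul]
    simp [mul_assoc]

/-- Any two distinct conjugates of `A` under `⟨A, B⟩` again form a rank one pair generating the same
group and with the same set of conjugates. -/
theorem rankOne_pair_of_mem {A B : Subgroup G} (h : IsRankOnePair A B) {C D : Subgroup G}
    (hC : C ∈ unipotentSubgroups A B) (hD : D ∈ unipotentSubgroups A B) (hne : C ≠ D) :
    IsRankOnePair C D ∧ C ⊔ D = A ⊔ B ∧ unipotentSubgroups C D = unipotentSubgroups A B := by
  obtain ⟨x, hx, hxC, hxD⟩ := rankOne_move_to_std h hC hD hne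
  have hx' : x⁻¹ ∈ A ⊔ B := (A ⊔ B).inv_mem hx
  have hC' : C = conjBy A x⁻¹ := conjBy_eq_iff.1 hxC
  have hD' : D = conjBy B x⁻¹ := conjBy_eq_iff.1 hxD
  rw [hC', hD']
  exact ⟨rankOnePair_conj h x⁻¹, conjBy_sup_eq_of_mem hx', unipotentSubgroups_conj hx'⟩

theorem rankOne_conj_le {A B : Subgroup G} {C : Subgroup G}
    (hC : C ∈ unipotentSubgroups A B) : C ≤ A ⊔ B := by
  obtain ⟨x, hx, rfl⟩ := hC
  exact conjBy_le_of_mem_of_le le_sup_left hx

/-- A non-identity element of `A` normalizes no other conjugate of `A`. -/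
theorem rankOne_eq_of_normalizes {A B : Subgroup G} (h : IsRankOnePair A B) {C : Subgroup G}
    (hC : C ∈ unipotentSubgroups A B) {a : G} (ha : a ∈ A) (ha1 : a ≠ 1)
    (hn : a ∈ Subgroup.normalizer (C : Set G)) : C = A := by
  by_contra hne
  have hp := (rankOne_pair_of_mem h (self_mem_unipotentSubgroups A B) hC (Ne.symm hne)).1
  exact ha1 (rankOne_eq_one_of_mem_normalizer hp ha hn)

end Cfsg.Agent.Lib.Helper25
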