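import Mathlib
import Cfsg.Prelude.Def_RootSubgroups
import Cfsg.Agent.Lib.Helper25.RankOne
import Cfsg.Agent.Lib.Helper25.RankOneConj

set_option autoImplicit false

namespace Cfsg.Agent.Lib.Helper25

open Cfsg

section BaerSuzuki

variable {G : Type*} [Group G]

/-- The conjugates of `X` contained in `S`. -/
def conjIn (X S : Subgroup G) : Set (Subgroup G) := {Y | (∃ g : G, Y = conjBy X g) ∧ Y ≤ S}

theorem conjIn_mono (X : Subgroup G) {S T : Subgroup G} (h : S ≤ T) : conjIn X S ⊆ conjIn X T :=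
  fun _ hY => ⟨hY.1, hY.2.trans h⟩

theorem conjBy_mem_conjIn {X S : Subgroup G} {Y : Subgroup G} (hY : Y ∈ conjIn X S) (g : G) :
    conjBy Y g ∈ conjIn X (conjBy S g) := by
  obtain ⟨⟨k, rfl⟩, hle⟩ := hY
  exact ⟨⟨g * k, (conjBy_mul X g k).symm⟩, Subgroup.map_mono hle⟩

theorem conjIn_conj (X S : Subgroup G) (g : G) :
    conjIn X (conjBy S g) = (fun Y => conjBy Y g) '' conjIn X S := by
  ext Y
  constructor
  · intro hY
    refine ⟨conjBy Y g⁻¹, ?_, conjBy_inv_conjBy Y g⟩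
    have := conjBy_mem_conjIn hY g⁻¹
    rwa [conjBy_conjBy_inv] at this
  · rintro ⟨Z, hZ, rfl⟩
    exact conjBy_mem_conjIn hZ g

theorem ncard_conjIn_conj (X S : Subgroup G) (g : G) :
    (conjIn X (conjBy S g)).ncard = (conjIn X S).ncard := by
  rw [conjIn_conj]
  exact Set.ncard_image_of_injective _ (conjBy_injective g)

theorem isPGroup_conjBy {p : ℕ} {A : Subgroup G} (hA : IsPGroup p A) (g : G) :
    IsPGroup p (conjBy A g) := hA.map _

theorem mem_normalizer_of_conjBy_le [Finite G] {D : Subgroup G} {s : G} (h : conjBy D s ≤ D) :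
    s ∈ Subgroup.normalizer (D : Set G) := by
  rw [← conjBy_eq_self_iff]
  apply Subgroup.eq_of_le_of_card_ge h
  rw [Subgroup.card_map_of_injective (MulAut.conj s).injective]

/-- If conjugation by `s` maps a family `Σ` of subgroups into itself, `s` normalizes `sSup Σ`. -/
theorem mem_normalizer_sSup [Finite G] {T : Set (Subgroup G)} {s : G}
    (h : ∀ Y ∈ T, conjBy Y s ∈ T) : s ∈ Subgroup.normalizer ((sSup T : Subgroup G) : Set G) := by
  apply mem_normalizer_of_conjBy_le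
  unfold conjBy
  rw [Subgroup.map_le_iff_le_comap]
  apply sSup_le
  intro Y hY
  rw [← Subgroup.map_le_iff_le_comap]
  exact le_sSup (h Y hY)


/-- Normalizer growth: `S` a `p`-subgroup, `D ≤ S` generated by the conjugates of `X` it contains,
and not all conjugates of `X` in `S` lie in `D`. Then some conjugate of `X` in `S`, not in `D`,
normalizes `D`. -/
theorem exists_conjIn_normalizing [Finite G] {p : ℕ} [Fact p.Prime] {X S D : Subgroup G}
    (hS : IsPGroup p S) (hDS : D ≤ S) (hD : D = sSup (conjIn X D))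
    (hne : conjIn X D ≠ conjIn X S) :
    ∃ Y ∈ conjIn X S, Y ∉ conjIn X D ∧ Y ≤ Subgroup.normalizer (D : Set G) := by
  have hDN₁ : D ≤ S ⊓ Subgroup.normalizer (D : Set G) := le_inf hDS Subgroup.le_normalizer
  by_cases hA : ∃ Y ∈ conjIn X (S ⊓ Subgroup.normalizer (D : Set G)), Y ∉ conjIn X D
  · obtain ⟨Y, hY, hYD⟩ := hA
    exact ⟨Y, conjIn_mono X inf_le_left hY, hYD, hY.2.trans inf_le_right⟩
  · exfalso
    push Not at hA
    have hEq : conjIn X (S ⊓ Subgroup.normalizer (D : Set G)) = conjIn X D :=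
      Set.Subset.antisymm hA (conjIn_mono X hDN₁)
    have hN₁S : S ⊓ Subgroup.normalizer (D : Set G) = S := by
      by_contra hneq
      have hnil : Group.IsNilpotent ↥S := hS.isNilpotent
      have hnc : NormalizerCondition ↥S := Group.normalizerCondition_of_isNilpotent
      have hlt : (S ⊓ Subgroup.normalizer (D : Set G)).subgroupOf S < ⊤ := by
        rw [lt_top_iff_ne_top, Ne, Subgroup.subgroupOf_eq_top]
        intro hle
        exact hneq (le_antisymm inf_le_left hle)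
      have h2 := hnc _ hlt
      obtain ⟨s, hsN, hsn⟩ := SetLike.exists_of_lt h2
      rw [← Subgroup.subgroupOf_normalizer_eq inf_le_left, Subgroup.mem_subgroupOf] at hsN
      rw [Subgroup.mem_subgroupOf] at hsn
      apply hsn
      refine ⟨s.2, ?_⟩
      have hperm : ∀ Y ∈ conjIn X D, conjBy Y (s : G) ∈ conjIn X D := by
        intro Y hY
        rw [← hEq] at hY ⊢
        have := conjBy_mem_conjIn hY (s : G)
        rwa [conjBy_eq_self_iff.2 hsN] at this
      have := mem_normalizer_sSup hperm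
      rwa [← hD] at this
    apply hne
    rw [← hEq, hN₁S]

theorem sylow_coe_smul_eq_conjBy {p : ℕ} (S : Sylow p G) (g : G) :
    ((g • S : Sylow p G) : Subgroup G) = conjBy (S : Subgroup G) g := rfl

/-- **Baer–Suzuki theorem** (Alperin–Lyons proof). -/
theorem baer_suzuki [Finite G] {p : ℕ} [Fact p.Prime] (X : Subgroup G) (hX : IsPGroup p X)
    (h : ∀ g : G, IsPGroup p ↥(X ⊔ conjBy X g)) :
    ∃ N : Subgroup G, N.Normal ∧ IsPGroup p N ∧ X ≤ N := by
  classical
  have hpair : ∀ Y Z : Subgroup G, (∃ g, Y = conjBy X g) → (∃ g, Z = conjBy X g) →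
      IsPGroup p ↥(Y ⊔ Z) := by
    rintro _ _ ⟨g, rfl⟩ ⟨k, rfl⟩
    have h1 := isPGroup_conjBy (h (g⁻¹ * k)) g
    rwa [conjBy_sup, ← conjBy_mul, mul_inv_cancel_left] at h1
  by_cases hall : ∀ S₁ S₂ : Sylow p G, conjIn X (S₁ : Subgroup G) = conjIn X (S₂ : Subgroup G)
  · obtain ⟨S, hXS⟩ := hX.exists_le_sylow
    refine ⟨Subgroup.normalClosure (X : Set G), Subgroup.normalClosure_normal, ?_,
      Subgroup.le_normalClosure⟩
    apply S.isPGroup'.to_le
    unfold Subgroup.normalClosure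
    rw [Subgroup.closure_le]
    intro a ha
    rw [Group.mem_conjugatesOfSet_iff] at ha
    obtain ⟨x, hx, hconj⟩ := ha
    rw [isConj_iff] at hconj
    obtain ⟨c, rfl⟩ := hconj
    obtain ⟨S', hS'⟩ := (isPGroup_conjBy hX c).exists_le_sylow
    have hmem : conjBy X c ∈ conjIn X (S' : Subgroup G) := ⟨⟨c, rfl⟩, hS'⟩
    rw [hall S' S] at hmem
    exact hmem.2 (conj_mem_conjBy hx)
  · exfalso
    push Not at hall
    obtain ⟨S₁', S₂', hne'⟩ := hall
    obtain ⟨⟨S₁, S₂⟩, hbad, hmax⟩ := Set.exists_max_image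
      {P : Sylow p G × Sylow p G | conjIn X (P.1 : Subgroup G) ≠ conjIn X (P.2 : Subgroup G)}
      (fun P => (conjIn X (P.1 : Subgroup G) ∩ conjIn X (P.2 : Subgroup G)).ncard)
      (Set.toFinite _) ⟨(S₁', S₂'), hne'⟩
    simp only [Set.mem_ofPred_eq, ne_eq] at hbad
    have hDle₁ : sSup (conjIn X (S₁ : Subgroup G) ∩ conjIn X (S₂ : Subgroup G)) ≤ S₁ :=
      sSup_le (fun Y hY => hY.1.2)
    have hDle₂ : sSup (conjIn X (S₁ : Subgroup G) ∩ conjIn X (S₂ : Subgroup G)) ≤ S₂ :=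
      sSup_le (fun Y hY => hY.2.2)
    have hTD : conjIn X (sSup (conjIn X (S₁ : Subgroup G) ∩ conjIn X (S₂ : Subgroup G))) =
        conjIn X (S₁ : Subgroup G) ∩ conjIn X (S₂ : Subgroup G) := by
      ext Y
      constructor
      · intro hY
        exact ⟨⟨hY.1, hY.2.trans hDle₁⟩, ⟨hY.1, hY.2.trans hDle₂⟩⟩
      · intro hY
        exact ⟨hY.1.1, le_sSup hY⟩
    have hDeq : sSup (conjIn X (S₁ : Subgroup G) ∩ conjIn X (S₂ : Subgroup G)) =
        sSup (conjIn X (sSup (conjIn X (S₁ : Subgroup G) ∩ conjIn X (S₂ : Subgroup G)))) := by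
      rw [hTD]
    have hcard : (conjIn X (S₁ : Subgroup G)).ncard = (conjIn X (S₂ : Subgroup G)).ncard := by
      obtain ⟨g, hg⟩ := MulAction.exists_smul_eq G S₁ S₂
      rw [← hg, sylow_coe_smul_eq_conjBy, ncard_conjIn_conj]
    have hne₁ : conjIn X (sSup (conjIn X (S₁ : Subgroup G) ∩ conjIn X (S₂ : Subgroup G))) ≠
        conjIn X (S₁ : Subgroup G) := by
      rw [hTD]
      intro heq
      have hsub : conjIn X (S₁ : Subgroup G) ⊆ conjIn X (S₂ : Subgroup G) := by
        rw [← heq]; exact Set.inter_subset_right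
      exact hbad (Set.eq_of_subset_of_ncard_le hsub hcard.symm.le (Set.toFinite _))
    have hne₂ : conjIn X (sSup (conjIn X (S₁ : Subgroup G) ∩ conjIn X (S₂ : Subgroup G))) ≠
        conjIn X (S₂ : Subgroup G) := by
      rw [hTD]
      intro heq
      have hsub : conjIn X (S₂ : Subgroup G) ⊆ conjIn X (S₁ : Subgroup G) := by
        rw [← heq]; exact Set.inter_subset_left
      exact hbad (Set.eq_of_subset_of_ncard_le hsub hcard.le (Set.toFinite _)).symm
    obtain ⟨Y₁, hY₁, hY₁D, hY₁n⟩ := exists_conjIn_normalizing S₁.isPGroup' hDle₁ hDeq hne₁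
    obtain ⟨Y₂, hY₂, hY₂D, hY₂n⟩ := exists_conjIn_normalizing S₂.isPGroup' hDle₂ hDeq hne₂
    have hQ : IsPGroup p ↥(Y₁ ⊔ Y₂) := hpair Y₁ Y₂ hY₁.1 hY₂.1
    have hDp : IsPGroup p ↥(sSup (conjIn X (S₁ : Subgroup G) ∩ conjIn X (S₂ : Subgroup G))) :=
      S₁.isPGroup'.to_le hDle₁
    have hDQ := IsPGroup.to_sup_of_normal_right' hQ hDp (sup_le hY₁n hY₂n)
    obtain ⟨S₃, hS₃⟩ := hDQ.exists_le_sylow
    have hT₃ : conjIn X (S₁ : Subgroup G) ∩ conjIn X (S₂ : Subgroup G) ⊆
        conjIn X (S₃ : Subgroup G) :=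
      fun Y hY => ⟨hY.1.1, (le_sSup hY).trans (le_sup_right.trans hS₃)⟩
    have hY₁₃ : Y₁ ∈ conjIn X (S₃ : Subgroup G) :=
      ⟨hY₁.1, (le_sup_left.trans le_sup_left).trans hS₃⟩
    have hY₂₃ : Y₂ ∈ conjIn X (S₃ : Subgroup G) :=
      ⟨hY₂.1, (le_sup_right.trans le_sup_left).trans hS₃⟩
    have h31 : conjIn X (S₃ : Subgroup G) = conjIn X (S₁ : Subgroup G) := by
      by_contra hne
      have hle := hmax (S₃, S₁) hne
      have hlt : conjIn X (S₁ : Subgroup G) ∩ conjIn X (S₂ : Subgroup G) ⊂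
          conjIn X (S₃ : Subgroup G) ∩ conjIn X (S₁ : Subgroup G) := by
        refine ⟨fun Y hY => ⟨hT₃ hY, hY.1⟩, fun hsub => ?_⟩
        have hmem := hsub ⟨hY₁₃, hY₁⟩
        rw [← hTD] at hmem
        exact hY₁D hmem
      exact absurd (Set.ncard_lt_ncard hlt (Set.toFinite _)) (not_lt.2 hle)
    have h32 : conjIn X (S₃ : Subgroup G) = conjIn X (S₂ : Subgroup G) := by
      by_contra hne
      have hle := hmax (S₃, S₂) hne
      have hlt : conjIn X (S₁ : Subgroup G) ∩ conjIn X (S₂ : Subgroup G) ⊂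
          conjIn X (S₃ : Subgroup G) ∩ conjIn X (S₂ : Subgroup G) := by
        refine ⟨fun Y hY => ⟨hT₃ hY, hY.2⟩, fun hsub => ?_⟩
        have hmem := hsub ⟨hY₂₃, hY₂⟩
        rw [← hTD] at hmem
        exact hY₂D hmem
      exact absurd (Set.ncard_lt_ncard hlt (Set.toFinite _)) (not_lt.2 hle)
    exact hbad (h31.symm.trans h32)

end BaerSuzuki

end Cfsg.Agent.Lib.Helper25
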