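/-
helper25: S4607 leaf (A5d) `exists_augmentation` (planner helper27, notes/S4607_leavesA.lean).
The centralizer of a full set of matrix units maps to scalar matrices.
-/
import Cfsg.Agent.Lib.Helper27.SymAlgDefs

set_option autoImplicit false

namespace Cfsg.Agent.Lib.Helper25.SymAlgA5d

open Cfsg.Agent.Lib.Helper27.SymAlg

variable {F : Type*} [Field F] {B : Type*} [Ring B] [Algebra F B]

/-- a matrix commuting with all the standard matrix units is scalar. -/
theorem eq_smul_one_of_commute_single {n : ℕ} [NeZero n] (M : Matrix (Fin n) (Fin n) F)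
    (h : ∀ i j : Fin n, Matrix.single i j (1 : F) * M = M * Matrix.single i j 1) :
    M = M 0 0 • (1 : Matrix (Fin n) (Fin n) F) := by
  ext a b
  have h1 := congrFun (congrFun (h 0 a) 0) b
  rw [Matrix.mul_apply, Matrix.mul_apply] at h1
  simp only [Matrix.single_apply, true_and, ite_mul, one_mul, zero_mul,
    Finset.sum_ite_eq, Finset.mem_univ, if_true, mul_ite, mul_one, mul_zero] at h1
  rw [Matrix.smul_apply, Matrix.one_apply, smul_eq_mul]
  by_cases hab : a = b
  · subst hab
    simp only [if_true, mul_one]
    have : (∑ x : Fin n, if x = 0 ∧ a = a then M 0 x else 0) = M 0 0 := by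
      simp
    rw [h1]
    simp
  · simp only [if_neg hab, mul_zero]
    have : (∑ x : Fin n, if x = 0 ∧ a = b then M 0 x else 0) = 0 := by
      simp [hab]
    rw [h1]
    simp [hab]

/-- LEAF A5d: the centralizer of the matrix units maps to scalar matrices; this gives an
augmentation. -/
theorem exists_augmentation {n : ℕ} [NeZero n] {u : Fin n → Fin n → B}
    (π : B →ₐ[F] Matrix (Fin n) (Fin n) F) (hu : ∀ i j, π (u i j) = Matrix.single i j 1) :
    ∃ aug : unitsCentralizer F u →ₐ[F] F,
      ∀ c : unitsCentralizer F u, π (c : B) = aug c • (1 : Matrix (Fin n) (Fin n) F) := by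
  have key : ∀ c : unitsCentralizer F u,
      π (c : B) = (π (c : B)) 0 0 • (1 : Matrix (Fin n) (Fin n) F) := by
    intro c
    apply eq_smul_one_of_commute_single
    intro i j
    have hc := (mem_unitsCentralizer (F := F) u (c : B)).1 c.2 i j
    rw [← hu i j, ← map_mul, ← map_mul, hc]
  refine ⟨AlgHom.ofLinearMap
    { toFun := fun c => (π (c : B)) 0 0
      map_add' := fun x y => by simp
      map_smul' := fun a x => by simp } ?_ ?_, ?_⟩
  · show (π ((1 : unitsCentralizer F u) : B)) 0 0 = 1
    simp
  · intro x y
    show (π ((x * y : unitsCentralizer F u) : B)) 0 0 = (π (x : B)) 0 0 * (π (y : B)) 0 0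
    rw [MulMemClass.coe_mul, map_mul, key x, key y]
    simp [Matrix.smul_apply, Matrix.mul_apply, Matrix.one_apply]
  · intro c
    exact key c

end Cfsg.Agent.Lib.Helper25.SymAlgA5d
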