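import Cfsg.Agent.Lib.Helper25.AutO2

set_option autoImplicit false
set_option linter.unusedSectionVars false
set_option linter.unusedVariables false
set_option linter.unusedSimpArgs false

/-!
# Automorphisms of `PΩ(Q)`, part 3: characterisation of `R_u`, fixed vectors, centraliser
-/

namespace Cfsg.Agent.Lib.Helper25.AutO

open Module QuadraticMap Matrix Cfsg.Agent.Lib.Helper25.CD Cfsg.Agent.Lib.Helper25.Siegel
  Cfsg.Agent.Lib.Helper5.NSMax Cfsg.Agent.Lib.Helper5.TSMax Cfsg.Agent.Lib.Helper25.PS
  Cfsg.Agent.Lib.Helper25.Fam Cfsg.Agent.Lib.Helper25.MaxTS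

section general

variable {F : Type*} [Field F] {V : Type*} [AddCommGroup V] [Module F V] (Q : QuadraticForm F V)

theorem egen_x_add (u y x x' : V) : egen Q u y (x + x') = egen Q u y x + egen Q u y x' := by
  unfold egen
  simp only [polar_add_right]
  module

theorem egen_x_smul (u y : V) (c : F) (x : V) : egen Q u y (c • x) = c • egen Q u y x := by
  unfold egen
  simp only [polar_smul_right, smul_eq_mul]
  module

theorem egen_self {u y : V} (hu : Q u = 0) (huy : polar Q u y = 0) : egen Q u y u = u := by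
  unfold egen
  rw [pself Q hu, polar_comm Q y u, huy]
  simp

/-- An isometry fixing `u` and acting trivially on `u^⊥/u` is a generalised Siegel map. -/
theorem exists_egen_of_trivial (hQ : (polarBilin Q).Nondegenerate) {u : V} (hu0 : u ≠ 0)
    (hu : Q u = 0) (g : V ≃ₗ[F] V) (hg : ∀ x, Q (g x) = Q x) (hgu : g u = u)
    (htriv : ∀ v, polar Q u v = 0 → ∃ c : F, g v = v + c • u) :
    ∃ y, polar Q u y = 0 ∧ ∀ x, g x = egen Q u y x := by
  have hp : ∀ a b, polar Q (g a) (g b) = polar Q a b := by
    intro a b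
    unfold polar
    rw [← map_add, hg, hg, hg]
  obtain ⟨f, hf, huf⟩ := exists_sing_partner Q hQ hu0 hu
  obtain ⟨y, hy⟩ : ∃ y, y = g f - f := ⟨_, rfl⟩
  have hgf : g f = f + y := by rw [hy]; abel
  have huy : polar Q u y = 0 := by
    rw [hy, polar_sub_right, huf]
    have := hp u f
    rw [hgu, huf] at this
    rw [this, sub_self]
  have hQy : Q y + polar Q y f = 0 := by
    have h1 := hg f
    rw [hgf, MaxTS.Q_add, hf, polar_comm Q f y] at h1
    linear_combination h1
  have hf' : g f = egen Q u y f := by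
    unfold egen
    rw [huf, hgf]
    have : (Q y * 1) = -(polar Q y f) := by linear_combination hQy
    rw [this]
    module
  have hW : ∀ w, polar Q u w = 0 → polar Q f w = 0 → g w = egen Q u y w := by
    intro w hw1 hw2
    obtain ⟨c, hc⟩ := htriv w hw1
    rw [egen_apply_of_perp Q hw1, hc]
    have h1 := hp w f
    rw [hc, hgf] at h1
    simp only [polar_add_left, polar_add_right, polar_smul_left, smul_eq_mul, huf,
      polar_comm Q w f, hw2, huy, mul_zero, add_zero, zero_add, mul_one] at h1
    have h2 : c = -(polar Q y w) := by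
      rw [polar_comm Q y w]
      linear_combination h1
    rw [h2]
    module
  refine ⟨y, huy, fun x => ?_⟩
  obtain ⟨w, hw⟩ : ∃ w, w = x - polar Q f x • u - polar Q u x • f := ⟨_, rfl⟩
  have hw1 : polar Q u w = 0 := by
    rw [hw, polar_sub_right, polar_sub_right, polar_smul_right, polar_smul_right, pself Q hu, huf]
    simp
  have hw2 : polar Q f w = 0 := by
    rw [hw, polar_sub_right, polar_sub_right, polar_smul_right, polar_smul_right, pself Q hf,
      polar_comm Q f u, huf]
    simp
  have hx : x = w + polar Q f x • u + polar Q u x • f := by rw [hw]; abel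
  rw [hx, map_add, map_add, map_smul, map_smul, egen_x_add, egen_x_add, egen_x_smul, egen_x_smul,
    hW w hw1 hw2, hgu, egen_self Q hu huy, hf']

/-- A vector fixed by all generalised Siegel maps with centre `u` lies in `⟨u⟩`. -/
theorem mem_span_of_egen_fixed [FiniteDimensional F V] (hQ : (polarBilin Q).Nondegenerate)
    (hn : 3 ≤ finrank F V) {u : V} (hu0 : u ≠ 0) (hu : Q u = 0) {x : V}
    (hx : ∀ y, polar Q u y = 0 → egen Q u y x = x) : x ∈ Submodule.span F {u} := by
  have hfp : finrank F (MaxTS.perp Q (Submodule.span F {u})) = finrank F V - 1 := by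
    rw [MaxTS.finrank_perp hQ, finrank_span_singleton hu0]
  -- a vector of `u^⊥` outside `⟨u⟩`
  obtain ⟨y₀, hy₀, hy₀u⟩ : ∃ y₀, polar Q u y₀ = 0 ∧ y₀ ∉ Submodule.span F {u} := by
    by_contra hcon
    push Not at hcon
    have hle : MaxTS.perp Q (Submodule.span F {u}) ≤ Submodule.span F {u} := by
      intro y hy
      exact hcon y (mem_perp_span.1 hy)
    have := Submodule.finrank_mono hle
    rw [hfp, finrank_span_singleton hu0] at this
    omega
  have hux : polar Q u x = 0 := by
    by_contra hne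
    apply hy₀u
    have h1 := hx y₀ hy₀
    unfold egen at h1
    have h2 : polar Q u x • y₀ = (polar Q y₀ x + Q y₀ * polar Q u x) • u := by
      have : x + polar Q u x • y₀ - polar Q y₀ x • u - (Q y₀ * polar Q u x) • u - x = 0 := by
        rw [h1, sub_self]
      have h3 : polar Q u x • y₀ - (polar Q y₀ x + Q y₀ * polar Q u x) • u = 0 := by
        rw [← this]; module
      exact sub_eq_zero.1 h3
    rw [Submodule.mem_span_singleton]
    refine ⟨(polar Q u x)⁻¹ * (polar Q y₀ x + Q y₀ * polar Q u x), ?_⟩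
    rw [mul_smul, ← h2, smul_smul, inv_mul_cancel₀ hne, one_smul]
  have hall : ∀ y, polar Q u y = 0 → polar Q y x = 0 := by
    intro y hy
    have h1 := hx y hy
    rw [egen_apply_of_perp Q hux] at h1
    have h2 : polar Q y x • u = 0 := by
      have : x - (x - polar Q y x • u) = polar Q y x • u := by abel
      rw [← this, h1, sub_self]
    exact (smul_eq_zero.1 h2).resolve_right hu0
  have hmem : x ∈ MaxTS.perp Q (MaxTS.perp Q (Submodule.span F {u})) := by
    rw [MaxTS.mem_perp]
    intro y hy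
    exact hall y (mem_perp_span.1 hy)
  rwa [MaxTS.perp_perp hQ] at hmem

end general

section matrix

variable {ι : Type} [Fintype ι] [DecidableEq ι] {F : Type*} [Field F] [Fintype F]
  (Q : QuadraticForm F (ι → F))

theorem finrank_fun : finrank F (ι → F) = Fintype.card ι := Module.finrank_fintype_fun_eq_card F

/-- Vectors fixed by `R_u` lie in `⟨u⟩`. -/
theorem mem_span_of_RU_fixed (hQ : (polarBilin Q).Nondegenerate) (hn : 7 ≤ Fintype.card ι)
    {u : ι → F} (hu0 : u ≠ 0) (hu : Q u = 0) {x : ι → F}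
    (hx : ∀ g ∈ RU Q u hu, act Q g x = x) : x ∈ Submodule.span F {u} := by
  apply mem_span_of_egen_fixed Q hQ (by rw [finrank_fun]; omega) hu0 hu
  intro y hy
  rw [← act_EG Q hQ hn hu0 hu hy]
  exact hx _ (EG_mem_RU Q hQ hn hu0 hu hy)

/-- Elements of `Ω` fixing `u` and acting trivially on `u^⊥/u` lie in `R_u`. -/
theorem mem_RU_of_trivial (hQ : (polarBilin Q).Nondegenerate) {u : ι → F} (hu0 : u ≠ 0)
    (hu : Q u = 0) (g : ↥(Cfsg.Omega F ⇑Q)) (hgu : act Q g u = u)
    (htriv : ∀ v, polar Q u v = 0 → ∃ c : F, act Q g v = v + c • u) : g ∈ RU Q u hu :=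
  exists_egen_of_trivial Q hQ hu0 hu (act Q g) (Q_act Q g) hgu htriv

/-- An element of `Ω` fixing `u` and centralising `R_u` lies in `R_u`. -/
theorem mem_RU_of_centralizes (hQ : (polarBilin Q).Nondegenerate) (hn : 7 ≤ Fintype.card ι)
    {u : ι → F} (hu0 : u ≠ 0) (hu : Q u = 0) (z : ↥(Cfsg.Omega F ⇑Q)) (hzu : act Q z u = u)
    (hc : ∀ g ∈ RU Q u hu, z * g = g * z) : z ∈ RU Q u hu := by
  obtain ⟨f, hf, huf⟩ := exists_sing_partner Q hQ hu0 hu
  apply mem_RU_of_trivial Q hQ hu0 hu z hzu
  intro v hv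
  have h1 := hc _ (EG_mem_RU Q hQ hn hu0 hu hv)
  have h2 : z * EG Q hQ hn hu0 hu hv * z⁻¹ = EG Q hQ hn hu0 hu hv := by
    rw [h1, mul_inv_cancel_right]
  have h3 := conj_act_egen Q z (EG Q hQ hn hu0 hu hv) (act_EG Q hQ hn hu0 hu hv) f
  rw [h2, act_EG, hzu] at h3
  have h4 := sub_mem_of_egen_eq Q huf h3
  obtain ⟨c, hc'⟩ := Submodule.mem_span_singleton.1 h4
  refine ⟨-c, ?_⟩
  have : act Q z v = v - c • u := by
    rw [hc']; abel
  rw [this]
  module

end matrix

end Cfsg.Agent.Lib.Helper25.AutO
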