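import Mathlib
import Cfsg.Prelude.Def_GeometricClasses

/-!
OMEGA-EVEN (planner lead), heavy leaf (H1) "self-adjoint field of degree `r = n / 2`" (helper25), part 1: TRANSFER.
`ρ : E →ₐ[F] M_n(F)` an embedded extension field, self-adjoint for the polar form of the quadratic form `Q` on `F^n`.
Trace duality gives the `E`-bilinear form `B` with `polar Q (ρ a u) v = Tr (a * B u v)` and the `E`-quadratic form `QE` with
`Q (ρ b v) = Tr (b * b * QE v)` (all characteristics; in characteristic 2, `a ↦ Q (ρ (√a) v)` is `F`-linear).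
-/

set_option autoImplicit false
set_option linter.unusedSectionVars false
set_option linter.unusedVariables false

namespace Cfsg.Agent.Lib.Helper25.OEFsa
open Matrix Module QuadraticMap

variable {F : Type*} [Field F] [Fintype F] {E : Type*} [Field E] [Algebra F E] [FiniteDimensional F E]

/-! ### trace duality -/

theorem exists_trace_dual (φ : E →ₗ[F] F) : ∃ w : E, ∀ a : E, φ a = Algebra.trace F E (a * w) := by
  refine ⟨((Algebra.traceForm F E).toDual (traceForm_nondegenerate F E)).symm φ, fun a => ?_⟩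
  have := LinearMap.BilinForm.apply_toDual_symm_apply (B := Algebra.traceForm F E)
    (hB := traceForm_nondegenerate F E) φ a
  rw [Algebra.traceForm_apply] at this
  rw [← this, mul_comm]

theorem trace_unique {w w' : E} (h : ∀ a : E, Algebra.trace F E (a * w) = Algebra.trace F E (a * w')) :
    w = w' := by
  have hnd := traceForm_nondegenerate F E
  have h0 : w - w' = 0 := by
    apply hnd.2
    intro a
    rw [Algebra.traceForm_apply, mul_sub, map_sub, h a, sub_self]
  exact sub_eq_zero.1 h0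

theorem two_ne_zero_E (h2 : (2 : F) ≠ 0) : (2 : E) ≠ 0 := by
  intro h
  apply h2
  have : algebraMap F E 2 = 0 := by rw [map_ofNat]; exact h
  exact (map_eq_zero (algebraMap F E)).1 this

theorem two_eq_zero_E (h2 : (2 : F) = 0) : (2 : E) = 0 := by
  have : algebraMap F E 2 = 0 := by rw [h2, map_zero]
  rwa [map_ofNat] at this

/-- every element is a difference of two squares, or a square -/
theorem exists_sq_sub_sq (F : Type*) [Field F] [Fintype F] {E : Type*} [Field E] [Algebra F E]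
    [FiniteDimensional F E] (a : E) : ∃ s t : E, a = s * s - t * t := by
  by_cases h2 : (2 : F) = 0
  · have h2E := two_eq_zero_E (E := E) h2
    have : Finite E := Module.finite_of_finite F
    have hchar : ringChar E = 2 := by
      apply CharP.ringChar_of_prime_eq_zero Nat.prime_two
      exact_mod_cast h2E
    obtain ⟨s, hs⟩ := FiniteField.isSquare_of_char_two hchar a
    exact ⟨s, 0, by rw [hs]; ring⟩
  · have h2E := two_ne_zero_E (E := E) h2
    refine ⟨(a + 1) * 2⁻¹, (a - 1) * 2⁻¹, ?_⟩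
    field_simp
    ring

theorem trace_sq_unique {w w' : E}
    (h : ∀ b : E, Algebra.trace F E (b * b * w) = Algebra.trace F E (b * b * w')) : w = w' := by
  apply trace_unique (F := F)
  intro a
  obtain ⟨s, t, rfl⟩ := exists_sq_sub_sq F a
  rw [sub_mul, sub_mul, map_sub, map_sub, h s, h t]

/-! ### the transfer -/

variable {ι : Type} [Fintype ι] [DecidableEq ι]

/-- the standing hypotheses: `ρ` an embedding of the field `E`, self-adjoint for the polar form of the non-degenerate `Q` -/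
structure FsaCtx (ρ : E →ₐ[F] Matrix ι ι F) (Q : QuadraticForm F (ι → F)) : Prop where
  inj : Function.Injective ρ
  nd : (polarBilin Q).Nondegenerate
  sa : ∀ (a : E) (u v : ι → F), polar Q (ρ a *ᵥ u) v = polar Q u (ρ a *ᵥ v)

variable {ρ : E →ₐ[F] Matrix ι ι F} {Q : QuadraticForm F (ι → F)}

theorem rho_mul_mulVec (ρ : E →ₐ[F] Matrix ι ι F) (a b : E) (v : ι → F) : ρ (a * b) *ᵥ v = ρ a *ᵥ (ρ b *ᵥ v) := by
  rw [map_mul, Matrix.mulVec_mulVec]

theorem rho_one_mulVec (ρ : E →ₐ[F] Matrix ι ι F) (v : ι → F) : ρ 1 *ᵥ v = v := by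
  rw [map_one, Matrix.one_mulVec]

theorem rho_add_mulVec (ρ : E →ₐ[F] Matrix ι ι F) (a b : E) (v : ι → F) : ρ (a + b) *ᵥ v = ρ a *ᵥ v + ρ b *ᵥ v := by
  rw [map_add, Matrix.add_mulVec]

theorem rho_smul_mulVec (ρ : E →ₐ[F] Matrix ι ι F) (c : F) (a : E) (v : ι → F) : ρ (c • a) *ᵥ v = c • (ρ a *ᵥ v) := by
  rw [map_smul, Matrix.smul_mulVec]

theorem rho_zero_mulVec (ρ : E →ₐ[F] Matrix ι ι F) (v : ι → F) : ρ 0 *ᵥ v = 0 := by
  rw [map_zero, Matrix.zero_mulVec]

theorem rho_neg_mulVec (ρ : E →ₐ[F] Matrix ι ι F) (a : E) (v : ι → F) : ρ (-a) *ᵥ v = -(ρ a *ᵥ v) := by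
  rw [map_neg, Matrix.neg_mulVec]

/-- the `E`-bilinear form -/
theorem exists_B (ρ : E →ₐ[F] Matrix ι ι F) (Q : QuadraticForm F (ι → F)) :
    ∃ B : (ι → F) → (ι → F) → E, ∀ (a : E) (u v : ι → F),
      polar Q (ρ a *ᵥ u) v = Algebra.trace F E (a * B u v) := by
  have key : ∀ u v : ι → F, ∃ w : E, ∀ a : E, polar Q (ρ a *ᵥ u) v = Algebra.trace F E (a * w) := by
    intro u v
    let φ : E →ₗ[F] F :=
      { toFun := fun a => polar Q (ρ a *ᵥ u) v
        map_add' := by
          intro a b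
          show polar Q (ρ (a + b) *ᵥ u) v = polar Q (ρ a *ᵥ u) v + polar Q (ρ b *ᵥ u) v
          rw [rho_add_mulVec, polar_add_left]
        map_smul' := by
          intro c a
          show polar Q (ρ (c • a) *ᵥ u) v = c • polar Q (ρ a *ᵥ u) v
          rw [rho_smul_mulVec, polar_smul_left] }
    obtain ⟨w, hw⟩ := exists_trace_dual φ
    exact ⟨w, fun a => hw a⟩
  choose B hB using key
  exact ⟨B, fun a u v => hB u v a⟩


theorem polar_self' (Q : QuadraticForm F (ι → F)) (x : ι → F) : polar Q x x = 2 * Q x := by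
  rw [polar_self, two_nsmul, two_mul]

/-- the `E`-quadratic form, `q` odd -/
theorem exists_QE_odd (h : FsaCtx ρ Q) (h2 : (2 : F) ≠ 0) (B : (ι → F) → (ι → F) → E)
    (hB : ∀ (a : E) (u v : ι → F), polar Q (ρ a *ᵥ u) v = Algebra.trace F E (a * B u v)) :
    ∃ QE : (ι → F) → E, ∀ (b : E) (v : ι → F), Q (ρ b *ᵥ v) = Algebra.trace F E (b * b * QE v) := by
  refine ⟨fun v => algebraMap F E 2⁻¹ * B v v, fun b v => ?_⟩
  have e1 : b * b * (algebraMap F E 2⁻¹ * B v v) = (2⁻¹ : F) • (b * b * B v v) := by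
    rw [Algebra.smul_def]; ring
  rw [e1, map_smul, ← hB, rho_mul_mulVec, h.sa, polar_self', smul_eq_mul, ← mul_assoc, inv_mul_cancel₀ h2, one_mul]

/-- the `E`-quadratic form, `q` even -/
theorem exists_QE_even (h : FsaCtx ρ Q) (h2 : (2 : F) = 0) :
    ∃ QE : (ι → F) → E, ∀ (b : E) (v : ι → F), Q (ρ b *ᵥ v) = Algebra.trace F E (b * b * QE v) := by
  have h2E := two_eq_zero_E (E := E) h2
  have : CharP F 2 := CharTwo.of_one_ne_zero_of_two_eq_zero one_ne_zero h2
  have : CharP E 2 := CharTwo.of_one_ne_zero_of_two_eq_zero one_ne_zero h2E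
  have : ExpChar F 2 := ExpChar.prime Nat.prime_two
  have : ExpChar E 2 := ExpChar.prime Nat.prime_two
  have : Finite E := Module.finite_of_finite F
  have : PerfectRing E 2 := PerfectRing.ofFiniteOfIsReduced 2 E
  have : PerfectRing F 2 := PerfectRing.ofFiniteOfIsReduced 2 F
  have hsqE : ∀ x : E, frobeniusEquiv E 2 x = x * x := by
    intro x; rw [frobeniusEquiv_apply, frobenius_def, pow_two]
  have hsqF : ∀ x : F, frobeniusEquiv F 2 x = x * x := by
    intro x; rw [frobeniusEquiv_apply, frobenius_def, pow_two]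
  have hrt : ∀ x : E, (frobeniusEquiv E 2).symm x * (frobeniusEquiv E 2).symm x = x := by
    intro x
    rw [← hsqE, RingEquiv.apply_symm_apply]
  have hrtF : ∀ x : F, (frobeniusEquiv F 2).symm x * (frobeniusEquiv F 2).symm x = x := by
    intro x
    rw [← hsqF, RingEquiv.apply_symm_apply]
  have hpz : ∀ (m m' : E) (v : ι → F), polar Q (ρ m *ᵥ v) (ρ m' *ᵥ v) = 0 := by
    intro m m' v
    rw [h.sa, ← rho_mul_mulVec, ← hrt (m * m'), rho_mul_mulVec, ← h.sa, polar_self', h2, zero_mul]
  have key : ∀ v : ι → F, ∃ w : E, ∀ b : E, Q (ρ b *ᵥ v) = Algebra.trace F E (b * b * w) := by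
    intro v
    let φ : E →ₗ[F] F :=
      { toFun := fun a => Q (ρ ((frobeniusEquiv E 2).symm a) *ᵥ v)
        map_add' := by
          intro a b
          show Q (ρ ((frobeniusEquiv E 2).symm (a + b)) *ᵥ v) =
            Q (ρ ((frobeniusEquiv E 2).symm a) *ᵥ v) + Q (ρ ((frobeniusEquiv E 2).symm b) *ᵥ v)
          rw [map_add, rho_add_mulVec, QuadraticMap.map_add (⇑Q), hpz, add_zero]
        map_smul' := by
          intro c a
          show Q (ρ ((frobeniusEquiv E 2).symm (c • a)) *ᵥ v) = c • Q (ρ ((frobeniusEquiv E 2).symm a) *ᵥ v)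
          have e1 : (frobeniusEquiv E 2).symm (algebraMap F E c) =
              algebraMap F E ((frobeniusEquiv F 2).symm c) := by
            apply (frobeniusEquiv E 2).injective
            rw [RingEquiv.apply_symm_apply, hsqE, ← map_mul, hrtF]
          rw [Algebra.smul_def, map_mul, e1, ← Algebra.smul_def, rho_smul_mulVec, QuadraticMap.map_smul, hrtF] }
    obtain ⟨w, hw⟩ := exists_trace_dual φ
    refine ⟨w, fun b => ?_⟩
    have := hw (b * b)
    rw [← this]
    show Q (ρ b *ᵥ v) = Q (ρ ((frobeniusEquiv E 2).symm (b * b)) *ᵥ v)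
    rw [← hsqE, RingEquiv.symm_apply_apply]
  choose QE hQE using key
  exact ⟨QE, fun b v => hQE v b⟩

/-- THE TRANSFER: the `E`-bilinear form `B` and the `E`-quadratic form `QE` -/
theorem exists_forms (h : FsaCtx ρ Q) :
    ∃ (B : (ι → F) → (ι → F) → E) (QE : (ι → F) → E),
      (∀ (a : E) (u v : ι → F), polar Q (ρ a *ᵥ u) v = Algebra.trace F E (a * B u v)) ∧
      (∀ (b : E) (v : ι → F), Q (ρ b *ᵥ v) = Algebra.trace F E (b * b * QE v)) := by
  obtain ⟨B, hB⟩ := exists_B ρ Q
  by_cases h2 : (2 : F) = 0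
  · obtain ⟨QE, hQE⟩ := exists_QE_even h h2
    exact ⟨B, QE, hB, hQE⟩
  · obtain ⟨QE, hQE⟩ := exists_QE_odd h h2 B hB
    exact ⟨B, QE, hB, hQE⟩

end Cfsg.Agent.Lib.Helper25.OEFsa
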