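import Mathlib
import Cfsg.Prelude.Def_GeometricClasses
import Cfsg.Agent.Lib.Helper25.OEFsaTr

/-!
OMEGA-EVEN heavy leaf (H1) (helper25), part 3: COORDINATES.  `V = F^n` is a 2-dimensional `E`-space (`n = 2 [E:F]`): an `E`-independent
pair `v₁ v₂` is an `E`-basis (`phi z = ρ (z 0) v₁ + ρ (z 1) v₂` is bijective), and the `E`-linear operators are the `2 × 2` matrices
over `E`: `theta m *ᵥ phi z = phi (m *ᵥ z)`.
-/

set_option autoImplicit false
set_option linter.unusedSectionVars false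
set_option linter.unusedVariables false

namespace Cfsg.Agent.Lib.Helper25.OEFsa
open Matrix Module QuadraticMap

variable {F : Type*} [Field F] [Fintype F] {E : Type*} [Field E] [Algebra F E] [FiniteDimensional F E]
  {ι : Type} [Fintype ι] [DecidableEq ι]

/-- the vector with `E`-coordinates `z` in the pair `v₁ v₂` -/
def phi (ρ : E →ₐ[F] Matrix ι ι F) (v₁ v₂ : ι → F) (z : Fin 2 → E) : ι → F :=
  ρ (z 0) *ᵥ v₁ + ρ (z 1) *ᵥ v₂

variable {ρ : E →ₐ[F] Matrix ι ι F} {v₁ v₂ : ι → F}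

theorem phi_add (ρ : E →ₐ[F] Matrix ι ι F) (v₁ v₂ : ι → F) (z z' : Fin 2 → E) :
    phi ρ v₁ v₂ (z + z') = phi ρ v₁ v₂ z + phi ρ v₁ v₂ z' := by
  unfold phi
  rw [Pi.add_apply, Pi.add_apply, rho_add_mulVec, rho_add_mulVec]
  abel

theorem phi_smulF (ρ : E →ₐ[F] Matrix ι ι F) (v₁ v₂ : ι → F) (c : F) (z : Fin 2 → E) :
    phi ρ v₁ v₂ (c • z) = c • phi ρ v₁ v₂ z := by
  unfold phi
  rw [Pi.smul_apply, Pi.smul_apply, rho_smul_mulVec, rho_smul_mulVec, smul_add]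

theorem phi_smulE (ρ : E →ₐ[F] Matrix ι ι F) (v₁ v₂ : ι → F) (a : E) (z : Fin 2 → E) :
    phi ρ v₁ v₂ (a • z) = ρ a *ᵥ phi ρ v₁ v₂ z := by
  unfold phi
  rw [Pi.smul_apply, Pi.smul_apply, smul_eq_mul, smul_eq_mul, rho_mul_mulVec, rho_mul_mulVec, Matrix.mulVec_add]

theorem phi_zero (ρ : E →ₐ[F] Matrix ι ι F) (v₁ v₂ : ι → F) : phi ρ v₁ v₂ 0 = 0 := by
  unfold phi
  rw [Pi.zero_apply, Pi.zero_apply, rho_zero_mulVec, rho_zero_mulVec, add_zero]

theorem phi_neg (ρ : E →ₐ[F] Matrix ι ι F) (v₁ v₂ : ι → F) (z : Fin 2 → E) :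
    phi ρ v₁ v₂ (-z) = - phi ρ v₁ v₂ z := by
  have := phi_smulF ρ v₁ v₂ (-1) z
  rwa [neg_one_smul, neg_one_smul] at this

theorem phi_sub (ρ : E →ₐ[F] Matrix ι ι F) (v₁ v₂ : ι → F) (z z' : Fin 2 → E) :
    phi ρ v₁ v₂ (z - z') = phi ρ v₁ v₂ z - phi ρ v₁ v₂ z' := by
  rw [sub_eq_add_neg, phi_add, phi_neg, sub_eq_add_neg]

theorem phi_mk (ρ : E →ₐ[F] Matrix ι ι F) (v₁ v₂ : ι → F) (x y : E) :
    phi ρ v₁ v₂ ![x, y] = ρ x *ᵥ v₁ + ρ y *ᵥ v₂ := rfl

theorem phi_e1 (ρ : E →ₐ[F] Matrix ι ι F) (v₁ v₂ : ι → F) : phi ρ v₁ v₂ ![1, 0] = v₁ := by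
  rw [phi_mk, rho_one_mulVec, rho_zero_mulVec, add_zero]

theorem phi_e2 (ρ : E →ₐ[F] Matrix ι ι F) (v₁ v₂ : ι → F) : phi ρ v₁ v₂ ![0, 1] = v₂ := by
  rw [phi_mk, rho_one_mulVec, rho_zero_mulVec, zero_add]

/-- the linear version -/
def phiL (ρ : E →ₐ[F] Matrix ι ι F) (v₁ v₂ : ι → F) : (Fin 2 → E) →ₗ[F] (ι → F) where
  toFun := phi ρ v₁ v₂
  map_add' := phi_add ρ v₁ v₂
  map_smul' := phi_smulF ρ v₁ v₂

/-- `v₁ v₂` is an `E`-basis -/
structure EBasis (ρ : E →ₐ[F] Matrix ι ι F) (v₁ v₂ : ι → F) : Prop where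
  inj : ∀ z : Fin 2 → E, phi ρ v₁ v₂ z = 0 → z = 0
  surj : ∀ v : ι → F, ∃ z : Fin 2 → E, v = phi ρ v₁ v₂ z

theorem finrank_fin_two : finrank F (Fin 2 → E) = 2 * finrank F E := by
  rw [Module.finrank_pi_fintype]
  simp

/-- an `E`-independent pair is an `E`-basis when `n = 2 [E:F]` -/
theorem ebasis_of_indep (hcard : Fintype.card ι = 2 * finrank F E)
    (hi : ∀ z : Fin 2 → E, phi ρ v₁ v₂ z = 0 → z = 0) : EBasis ρ v₁ v₂ := by
  refine ⟨hi, ?_⟩
  have hinj : Function.Injective (phiL ρ v₁ v₂) := by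
    rw [← LinearMap.ker_eq_bot, LinearMap.ker_eq_bot']
    intro z hz
    exact hi z hz
  have hfr : finrank F (Fin 2 → E) = finrank F (ι → F) := by
    rw [finrank_fin_two, Module.finrank_fintype_fun_eq_card, hcard]
  have hsurj := (LinearMap.injective_iff_surjective_of_finrank_eq_finrank hfr).1 hinj
  intro v
  obtain ⟨z, hz⟩ := hsurj v
  exact ⟨z, hz.symm⟩

theorem rho_mulVec_eq_zero {a : E} {v : ι → F} (h : ρ a *ᵥ v = 0) : a = 0 ∨ v = 0 := by
  by_cases ha : a = 0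
  · exact Or.inl ha
  · right
    have := congrArg (fun w => ρ a⁻¹ *ᵥ w) h
    simp only [Matrix.mulVec_zero] at this
    rwa [← rho_mul_mulVec, inv_mul_cancel₀ ha, rho_one_mulVec] at this

theorem finrank_pos_E : 0 < finrank F E := Module.finrank_pos

/-- every non-zero vector is the first member of an `E`-basis -/
theorem exists_ebasis_of_ne_zero (hcard : Fintype.card ι = 2 * finrank F E) {v₁ : ι → F} (hv₁ : v₁ ≠ 0) :
    ∃ v₂ : ι → F, EBasis ρ v₁ v₂ := by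
  let line : E →ₗ[F] (ι → F) :=
    { toFun := fun a => ρ a *ᵥ v₁
      map_add' := fun a b => rho_add_mulVec ρ a b v₁
      map_smul' := fun c a => rho_smul_mulVec ρ c a v₁ }
  have hne : LinearMap.range line ≠ ⊤ := by
    intro htop
    have h1 : finrank F (LinearMap.range line) ≤ finrank F E := LinearMap.finrank_range_le line
    rw [htop, finrank_top, Module.finrank_fintype_fun_eq_card, hcard] at h1
    have := finrank_pos_E (F := F) (E := E)
    omega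
  obtain ⟨v₂, hv₂⟩ : ∃ v₂ : ι → F, v₂ ∉ LinearMap.range line := by
    by_contra hcon
    push Not at hcon
    exact hne (eq_top_iff.2 fun v _ => hcon v)
  refine ⟨v₂, ebasis_of_indep hcard ?_⟩
  intro z hz
  unfold phi at hz
  have h1 : z 1 = 0 := by
    by_contra h1
    apply hv₂
    refine ⟨-(z 1)⁻¹ * z 0, ?_⟩
    show ρ (-(z 1)⁻¹ * z 0) *ᵥ v₁ = v₂
    have e := congrArg (fun w => ρ (z 1)⁻¹ *ᵥ w) hz
    simp only [Matrix.mulVec_add, Matrix.mulVec_zero] at e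
    rw [← rho_mul_mulVec, ← rho_mul_mulVec, inv_mul_cancel₀ h1, rho_one_mulVec] at e
    rw [neg_mul, rho_neg_mulVec]
    rw [add_comm] at e
    exact (eq_neg_of_add_eq_zero_left e).symm
  rw [h1, rho_zero_mulVec, add_zero] at hz
  have h0 : z 0 = 0 := (rho_mulVec_eq_zero hz).resolve_right hv₁
  funext i
  fin_cases i
  · exact h0
  · exact h1

namespace EBasis
variable (hb : EBasis ρ v₁ v₂)
include hb

theorem phi_injective {z z' : Fin 2 → E} (h : phi ρ v₁ v₂ z = phi ρ v₁ v₂ z') : z = z' := by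
  have := hb.inj (z - z') (by rw [phi_sub, h, sub_self])
  exact sub_eq_zero.1 this

/-- two matrices agreeing on all vectors are equal -/
theorem mat_ext {M M' : Matrix ι ι F} (h : ∀ z : Fin 2 → E, M *ᵥ phi ρ v₁ v₂ z = M' *ᵥ phi ρ v₁ v₂ z) :
    M = M' := by
  apply Matrix.toLin'.injective
  apply LinearMap.ext
  intro v
  obtain ⟨z, rfl⟩ := hb.surj v
  rw [Matrix.toLin'_apply, Matrix.toLin'_apply, h]

/-- the `E`-linear operator with matrix `m` -/
theorem exists_theta (m : Matrix (Fin 2) (Fin 2) E) :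
    ∃ M : Matrix ι ι F, ∀ z : Fin 2 → E, M *ᵥ phi ρ v₁ v₂ z = phi ρ v₁ v₂ (m *ᵥ z) := by
  have hbij : Function.Bijective (phiL ρ v₁ v₂) := by
    constructor
    · rw [← LinearMap.ker_eq_bot, LinearMap.ker_eq_bot']
      intro z hz
      exact hb.inj z hz
    · intro v
      obtain ⟨z, hz⟩ := hb.surj v
      exact ⟨z, hz.symm⟩
  let Φ : (Fin 2 → E) ≃ₗ[F] (ι → F) := LinearEquiv.ofBijective (phiL ρ v₁ v₂) hbij
  refine ⟨LinearMap.toMatrix' ((phiL ρ v₁ v₂).comp (((Matrix.toLin' m).restrictScalars F).comp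
    Φ.symm.toLinearMap)), fun z => ?_⟩
  rw [LinearMap.toMatrix'_mulVec]
  show phi ρ v₁ v₂ (m *ᵥ (Φ.symm (phi ρ v₁ v₂ z))) = _
  have : Φ.symm (phi ρ v₁ v₂ z) = z := by
    apply Φ.injective
    rw [LinearEquiv.apply_symm_apply]
    rfl
  rw [this]

end EBasis

/-- the `E`-linear operator with matrix `m` in the `E`-basis `v₁ v₂` -/
noncomputable def theta (hb : EBasis ρ v₁ v₂) (m : Matrix (Fin 2) (Fin 2) E) : Matrix ι ι F :=
  Classical.choose (hb.exists_theta m)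

namespace EBasis
variable (hb : EBasis ρ v₁ v₂)

theorem theta_mulVec (m : Matrix (Fin 2) (Fin 2) E) (z : Fin 2 → E) :
    theta hb m *ᵥ phi ρ v₁ v₂ z = phi ρ v₁ v₂ (m *ᵥ z) :=
  Classical.choose_spec (hb.exists_theta m) z

theorem theta_mul (m m' : Matrix (Fin 2) (Fin 2) E) : theta hb (m * m') = theta hb m * theta hb m' := by
  apply hb.mat_ext
  intro z
  rw [← Matrix.mulVec_mulVec, hb.theta_mulVec, hb.theta_mulVec, hb.theta_mulVec, Matrix.mulVec_mulVec]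

theorem theta_add (m m' : Matrix (Fin 2) (Fin 2) E) : theta hb (m + m') = theta hb m + theta hb m' := by
  apply hb.mat_ext
  intro z
  rw [Matrix.add_mulVec (theta hb m), hb.theta_mulVec, hb.theta_mulVec, hb.theta_mulVec, Matrix.add_mulVec, phi_add]

theorem theta_scalar (a : E) : theta hb (a • (1 : Matrix (Fin 2) (Fin 2) E)) = ρ a := by
  apply hb.mat_ext
  intro z
  rw [hb.theta_mulVec, Matrix.smul_mulVec, Matrix.one_mulVec, phi_smulE]

theorem theta_one : theta hb (1 : Matrix (Fin 2) (Fin 2) E) = 1 := by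
  have := hb.theta_scalar 1
  rwa [one_smul, map_one] at this

theorem theta_zero : theta hb (0 : Matrix (Fin 2) (Fin 2) E) = 0 := by
  have := hb.theta_scalar 0
  rwa [zero_smul, map_zero] at this

theorem theta_smulE (a : E) (m : Matrix (Fin 2) (Fin 2) E) : theta hb (a • m) = ρ a * theta hb m := by
  rw [← hb.theta_scalar, ← hb.theta_mul, Matrix.smul_mul, one_mul]

theorem theta_smulF (c : F) (m : Matrix (Fin 2) (Fin 2) E) : theta hb (c • m) = c • theta hb m := by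
  apply hb.mat_ext
  intro z
  rw [hb.theta_mulVec, Matrix.smul_mulVec, Matrix.smul_mulVec, hb.theta_mulVec, phi_smulF]

theorem theta_neg (m : Matrix (Fin 2) (Fin 2) E) : theta hb (-m) = - theta hb m := by
  have := hb.theta_smulF (-1) m
  rwa [neg_one_smul, neg_one_smul] at this

theorem theta_sub (m m' : Matrix (Fin 2) (Fin 2) E) : theta hb (m - m') = theta hb m - theta hb m' := by
  rw [sub_eq_add_neg, hb.theta_add, hb.theta_neg, sub_eq_add_neg]

theorem theta_injective {m m' : Matrix (Fin 2) (Fin 2) E} (h : theta hb m = theta hb m') : m = m' := by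
  apply Matrix.toLin'.injective
  apply LinearMap.ext
  intro z
  rw [Matrix.toLin'_apply, Matrix.toLin'_apply]
  apply hb.phi_injective
  rw [← hb.theta_mulVec, ← hb.theta_mulVec, h]

theorem theta_comm_rho (m : Matrix (Fin 2) (Fin 2) E) (a : E) : theta hb m * ρ a = ρ a * theta hb m := by
  rw [← hb.theta_scalar, ← hb.theta_mul, ← hb.theta_mul, Matrix.mul_smul, Matrix.smul_mul, mul_one, one_mul]

/-- every operator commuting with `ρ E` is a `theta m` -/
theorem exists_of_comm (M : Matrix ι ι F) (hM : ∀ a : E, M * ρ a = ρ a * M) :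
    ∃ m : Matrix (Fin 2) (Fin 2) E, M = theta hb m := by
  obtain ⟨c₁, hc₁⟩ := hb.surj (M *ᵥ v₁)
  obtain ⟨c₂, hc₂⟩ := hb.surj (M *ᵥ v₂)
  refine ⟨Matrix.of ![![c₁ 0, c₂ 0], ![c₁ 1, c₂ 1]], ?_⟩
  apply hb.mat_ext
  intro z
  rw [hb.theta_mulVec]
  have e1 : M *ᵥ phi ρ v₁ v₂ z = ρ (z 0) *ᵥ (M *ᵥ v₁) + ρ (z 1) *ᵥ (M *ᵥ v₂) := by
    unfold phi
    rw [Matrix.mulVec_add, Matrix.mulVec_mulVec, Matrix.mulVec_mulVec, hM, hM, ← Matrix.mulVec_mulVec,
      ← Matrix.mulVec_mulVec]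
  rw [e1, hc₁, hc₂, ← phi_smulE, ← phi_smulE, ← phi_add]
  congr 1
  funext i
  fin_cases i <;> simp [Matrix.mulVec, dotProduct, Fin.sum_univ_two] <;> ring

end EBasis

end Cfsg.Agent.Lib.Helper25.OEFsa
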