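import Mathlib
import Cfsg.Prelude.Def_GeometricClasses
import Cfsg.Agent.Lib.Helper25.OEFsaTr

/-!
OMEGA-EVEN heavy leaf (H1) (helper25), part 2: the properties of the transferred forms `B`, `QE`
(`E`-bilinear symmetric non-degenerate, `QE (ρ c v) = c² QE v`, `QE (u + v) = QE u + QE v + B u v`, `Tr ∘ QE = Q`,
semilinear invariance under the normaliser).
-/

set_option autoImplicit false
set_option linter.unusedSectionVars false
set_option linter.unusedVariables false

namespace Cfsg.Agent.Lib.Helper25.OEFsa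
open Matrix Module QuadraticMap

variable {F : Type*} [Field F] [Fintype F] {E : Type*} [Field E] [Algebra F E] [FiniteDimensional F E]
  {ι : Type} [Fintype ι] [DecidableEq ι]
  {ρ : E →ₐ[F] Matrix ι ι F} {Q : QuadraticForm F (ι → F)} {B : (ι → F) → (ι → F) → E} {QE : (ι → F) → E}

/-- the transferred forms -/
structure Forms (ρ : E →ₐ[F] Matrix ι ι F) (Q : QuadraticForm F (ι → F)) (B : (ι → F) → (ι → F) → E)
    (QE : (ι → F) → E) : Prop where
  ctx : FsaCtx ρ Q
  hB : ∀ (a : E) (u v : ι → F), polar Q (ρ a *ᵥ u) v = Algebra.trace F E (a * B u v)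
  hQE : ∀ (b : E) (v : ι → F), Q (ρ b *ᵥ v) = Algebra.trace F E (b * b * QE v)

namespace Forms
variable (h : Forms ρ Q B QE)
include h

theorem B_add_left (u u' v : ι → F) : B (u + u') v = B u v + B u' v := by
  apply trace_unique (F := F)
  intro a
  rw [mul_add, map_add, ← h.hB, ← h.hB, ← h.hB, Matrix.mulVec_add, polar_add_left]

theorem B_smul_left (c : E) (u v : ι → F) : B (ρ c *ᵥ u) v = c * B u v := by
  apply trace_unique (F := F)
  intro a
  rw [← h.hB, ← rho_mul_mulVec, h.hB, mul_assoc]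

theorem B_symm (u v : ι → F) : B u v = B v u := by
  apply trace_unique (F := F)
  intro a
  rw [← h.hB, ← h.hB, h.ctx.sa, polar_comm]

theorem B_add_right (u v v' : ι → F) : B u (v + v') = B u v + B u v' := by
  rw [h.B_symm, h.B_add_left, h.B_symm v, h.B_symm v']

theorem B_smul_right (c : E) (u v : ι → F) : B u (ρ c *ᵥ v) = c * B u v := by
  rw [h.B_symm, h.B_smul_left, h.B_symm]

theorem tr_B (u v : ι → F) : Algebra.trace F E (B u v) = polar Q u v := by
  have := h.hB 1 u v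
  rw [rho_one_mulVec, one_mul] at this
  exact this.symm

theorem B_zero_left (v : ι → F) : B 0 v = 0 := by
  have := h.B_smul_left 0 0 v
  rwa [rho_zero_mulVec, zero_mul] at this

theorem B_zero_right (v : ι → F) : B v 0 = 0 := by
  rw [h.B_symm, h.B_zero_left]

theorem B_nondeg (v : ι → F) (hv : ∀ u, B u v = 0) : v = 0 := by
  apply h.ctx.nd.2
  intro u
  rw [polarBilin_apply_apply, ← h.tr_B, hv, map_zero]

theorem QE_smul (c : E) (v : ι → F) : QE (ρ c *ᵥ v) = c * c * QE v := by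
  apply trace_sq_unique (F := F)
  intro b
  rw [← h.hQE, ← rho_mul_mulVec, h.hQE]
  congr 1
  ring

theorem QE_add (u v : ι → F) : QE (u + v) = QE u + QE v + B u v := by
  apply trace_sq_unique (F := F)
  intro b
  rw [mul_add, mul_add, map_add, map_add, ← h.hQE, ← h.hQE, ← h.hQE, ← h.hB, Matrix.mulVec_add,
    QuadraticMap.map_add (⇑Q), rho_mul_mulVec, h.ctx.sa b (ρ b *ᵥ u) v]

theorem tr_QE (v : ι → F) : Algebra.trace F E (QE v) = Q v := by
  have := h.hQE 1 v
  rw [rho_one_mulVec, one_mul, one_mul] at this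
  exact this.symm

theorem QE_zero : QE 0 = 0 := by
  have := h.QE_smul 0 0
  rwa [rho_zero_mulVec, zero_mul, zero_mul] at this

theorem B_self (v : ι → F) : B v v = 2 * QE v := by
  have e1 : v + v = ρ 2 *ᵥ v := by
    rw [show (2 : E) = 1 + 1 by norm_num, rho_add_mulVec, rho_one_mulVec]
  have e2 := h.QE_add v v
  rw [e1, h.QE_smul] at e2
  linear_combination -e2

theorem QE_neg (v : ι → F) : QE (-v) = QE v := by
  have e1 : -v = ρ (-1) *ᵥ v := by
    rw [rho_neg_mulVec, rho_one_mulVec]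
  rw [e1, h.QE_smul]
  ring

theorem B_neg_left (u v : ι → F) : B (-u) v = - B u v := by
  have e1 : -u = ρ (-1) *ᵥ u := by
    rw [rho_neg_mulVec, rho_one_mulVec]
  rw [e1, h.B_smul_left]
  ring

theorem B_neg_right (u v : ι → F) : B u (-v) = - B u v := by
  rw [h.B_symm, h.B_neg_left, h.B_symm]

/-- `Q` in terms of `QE` -/
theorem Q_eq (v : ι → F) : Q v = Algebra.trace F E (QE v) := (h.tr_QE v).symm

/-! ### semilinear invariance -/

theorem QE_semilinear (σ : E ≃ₐ[F] E) (g : Matrix ι ι F)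
    (hg : ∀ (a : E) (v : ι → F), g *ᵥ (ρ a *ᵥ v) = ρ (σ a) *ᵥ (g *ᵥ v))
    (hiso : ∀ v : ι → F, Q (g *ᵥ v) = Q v) (v : ι → F) : QE (g *ᵥ v) = σ (QE v) := by
  apply trace_sq_unique (F := F)
  intro b
  have hb : b = σ (σ.symm b) := (σ.apply_symm_apply b).symm
  rw [← h.hQE]
  conv_lhs => rw [hb, ← hg, hiso, h.hQE]
  conv_rhs => rw [hb, ← map_mul, ← map_mul, Algebra.trace_eq_of_algEquiv]

theorem polar_iso (g : Matrix ι ι F) (hiso : ∀ v : ι → F, Q (g *ᵥ v) = Q v) (u v : ι → F) :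
    polar Q (g *ᵥ u) (g *ᵥ v) = polar Q u v := by
  unfold polar
  rw [← Matrix.mulVec_add, hiso, hiso, hiso]

theorem B_semilinear (σ : E ≃ₐ[F] E) (g : Matrix ι ι F)
    (hg : ∀ (a : E) (v : ι → F), g *ᵥ (ρ a *ᵥ v) = ρ (σ a) *ᵥ (g *ᵥ v))
    (hiso : ∀ v : ι → F, Q (g *ᵥ v) = Q v) (u v : ι → F) : B (g *ᵥ u) (g *ᵥ v) = σ (B u v) := by
  apply trace_unique (F := F)
  intro a
  have ha : a = σ (σ.symm a) := (σ.apply_symm_apply a).symm
  rw [← h.hB]
  conv_lhs => rw [ha, ← hg, polar_iso h g hiso, h.hB]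
  conv_rhs => rw [ha, ← map_mul, Algebra.trace_eq_of_algEquiv]

end Forms

end Cfsg.Agent.Lib.Helper25.OEFsa
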