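import Mathlib
import Cfsg.Prelude.Def_GeometricClasses
import Cfsg.Agent.Lib.Helper25.OEFsaTr
import Cfsg.Agent.Lib.Helper25.OEFsaForms
import Cfsg.Agent.Lib.Helper25.OEFsaCoord

/-!
OMEGA-EVEN heavy leaf (H1) (helper25), part 4: the binary form in coordinates (`QE (phi z) = α z₀² + β z₀ z₁ + γ z₁²`), its
discriminant, and the semilinearity of the elements of the normaliser of `ρ E`.
-/

set_option autoImplicit false
set_option linter.unusedSectionVars false
set_option linter.unusedVariables false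

namespace Cfsg.Agent.Lib.Helper25.OEFsa
open Matrix Module QuadraticMap Cfsg.Geo

variable {F : Type*} [Field F] [Fintype F] {E : Type*} [Field E] [Algebra F E] [FiniteDimensional F E]
  {ι : Type} [Fintype ι] [DecidableEq ι]
  {ρ : E →ₐ[F] Matrix ι ι F} {Q : QuadraticForm F (ι → F)} {B : (ι → F) → (ι → F) → E} {QE : (ι → F) → E}
  {v₁ v₂ : ι → F}

namespace Forms
variable (h : Forms ρ Q B QE)
include h

theorem QE_phi (z : Fin 2 → E) :
    QE (phi ρ v₁ v₂ z) = QE v₁ * z 0 * z 0 + B v₁ v₂ * z 0 * z 1 + QE v₂ * z 1 * z 1 := by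
  unfold phi
  rw [h.QE_add, h.QE_smul, h.QE_smul, h.B_smul_left, h.B_smul_right]
  ring

theorem B_phi (z z' : Fin 2 → E) :
    B (phi ρ v₁ v₂ z) (phi ρ v₁ v₂ z') =
      2 * QE v₁ * z 0 * z' 0 + B v₁ v₂ * (z 0 * z' 1 + z 1 * z' 0) + 2 * QE v₂ * z 1 * z' 1 := by
  unfold phi
  simp only [h.B_add_left, h.B_add_right, h.B_smul_left, h.B_smul_right, h.B_self, h.B_symm v₂ v₁]
  ring

/-- the discriminant of the binary form is non-zero -/
theorem disc_ne_zero (hb : EBasis ρ v₁ v₂) : B v₁ v₂ * B v₁ v₂ - 4 * QE v₁ * QE v₂ ≠ 0 := by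
  intro hΔ
  have hv₁ : v₁ ≠ 0 := by
    intro h0
    have := hb.inj ![1, 0] (by rw [phi_e1, h0])
    have := congrFun this 0
    simp at this
  -- `w₀ = β v₁ - 2 α v₂` is in the radical
  have hw₀ : phi ρ v₁ v₂ ![B v₁ v₂, -(2 * QE v₁)] = 0 := by
    apply h.B_nondeg
    intro u
    obtain ⟨z, rfl⟩ := hb.surj u
    rw [h.B_phi]
    simp only [Matrix.cons_val_zero, Matrix.cons_val_one]
    linear_combination (z 1) * hΔ
  have hw₁ : phi ρ v₁ v₂ ![2 * QE v₂, -(B v₁ v₂)] = 0 := by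
    apply h.B_nondeg
    intro u
    obtain ⟨z, rfl⟩ := hb.surj u
    rw [h.B_phi]
    simp only [Matrix.cons_val_zero, Matrix.cons_val_one]
    linear_combination (-(z 0)) * hΔ
  have e₀ := hb.inj _ hw₀
  have e₁ := hb.inj _ hw₁
  have hβ : B v₁ v₂ = 0 := by
    have := congrFun e₀ 0
    simpa using this
  have hα : 2 * QE v₁ = 0 := by
    have := congrFun e₀ 1
    simpa using this
  have hγ : 2 * QE v₂ = 0 := by
    have := congrFun e₁ 0
    simpa using this
  apply hv₁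
  apply h.B_nondeg
  intro u
  obtain ⟨z, rfl⟩ := hb.surj u
  have := h.B_phi (v₁ := v₁) (v₂ := v₂) z ![1, 0]
  rw [phi_e1] at this
  rw [this, hβ, hα, hγ]
  ring

end Forms

/-! ### the normaliser acts semilinearly -/

theorem gl_mul_inv (g : GL ι F) : (g : Matrix ι ι F) * ((g⁻¹ : GL ι F) : Matrix ι ι F) = 1 := by
  rw [← Units.val_mul, mul_inv_cancel, Units.val_one]

theorem gl_inv_mul (g : GL ι F) : ((g⁻¹ : GL ι F) : Matrix ι ι F) * (g : Matrix ι ι F) = 1 := by
  rw [← Units.val_mul, inv_mul_cancel, Units.val_one]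

/-- an element of the normaliser of `ρ E` induces an automorphism of `E` -/
theorem exists_sigma (hinj : Function.Injective ρ) (g : GL ι F) (hg : g ∈ subalgebraNormalizer ρ.range) :
    ∃ σ : E ≃ₐ[F] E, ∀ a : E, ρ (σ a) = (g : Matrix ι ι F) * ρ a * ((g⁻¹ : GL ι F) : Matrix ι ι F) := by
  have key : ∀ a : E, ∃ a' : E, ρ a' = (g : Matrix ι ι F) * ρ a * ((g⁻¹ : GL ι F) : Matrix ι ι F) := by
    intro a
    have := (hg (ρ a)).1 ⟨a, rfl⟩
    obtain ⟨a', ha'⟩ := this
    exact ⟨a', ha'⟩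
  choose σ₀ hσ₀ using key
  let σ₁ : E →ₐ[F] E :=
    { toFun := σ₀
      map_one' := by
        apply hinj
        rw [hσ₀, map_one, mul_one, gl_mul_inv]
      map_mul' := by
        intro a b
        apply hinj
        rw [hσ₀, map_mul, map_mul, hσ₀, hσ₀]
        have e := gl_inv_mul g
        calc (g : Matrix ι ι F) * (ρ a * ρ b) * ((g⁻¹ : GL ι F) : Matrix ι ι F)
            = (g : Matrix ι ι F) * ρ a * (1 : Matrix ι ι F) * ρ b * ((g⁻¹ : GL ι F) : Matrix ι ι F) := by
              simp only [mul_one, mul_assoc]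
          _ = _ := by rw [← e]; simp only [mul_assoc]
      map_zero' := by
        apply hinj
        rw [hσ₀, map_zero, mul_zero, zero_mul]
      map_add' := by
        intro a b
        apply hinj
        rw [hσ₀, map_add, map_add, hσ₀, hσ₀, mul_add, add_mul]
      commutes' := by
        intro c
        apply hinj
        rw [hσ₀, AlgHom.commutes, Algebra.algebraMap_eq_smul_one, Matrix.mul_smul, Matrix.smul_mul, mul_one,
          gl_mul_inv] }
  have hσ₁inj : Function.Injective σ₁ := σ₁.toRingHom.injective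
  have hσ₁surj : Function.Surjective σ₁ := by
    have := (LinearMap.injective_iff_surjective (f := σ₁.toLinearMap)).1 hσ₁inj
    exact this
  exact ⟨AlgEquiv.ofBijective σ₁ ⟨hσ₁inj, hσ₁surj⟩, fun a => hσ₀ a⟩

theorem semilinear_of_sigma {g : GL ι F} {σ : E ≃ₐ[F] E}
    (hσ : ∀ a : E, ρ (σ a) = (g : Matrix ι ι F) * ρ a * ((g⁻¹ : GL ι F) : Matrix ι ι F)) (a : E) (v : ι → F) :
    (g : Matrix ι ι F) *ᵥ (ρ a *ᵥ v) = ρ (σ a) *ᵥ ((g : Matrix ι ι F) *ᵥ v) := by
  rw [hσ, Matrix.mulVec_mulVec, Matrix.mulVec_mulVec, mul_assoc, mul_assoc, gl_inv_mul, mul_one]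

end Cfsg.Agent.Lib.Helper25.OEFsa
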