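import Mathlib
import Cfsg.Prelude.Def_GeometricClasses
import Cfsg.Agent.Lib.Helper25.OEFsaTr
import Cfsg.Agent.Lib.Helper25.OEFsaForms
import Cfsg.Agent.Lib.Helper25.OEFsaCoord
import Cfsg.Agent.Lib.Helper25.OEFsaBin

/-!
OMEGA-EVEN heavy leaf (H1) (helper25), part 6: the even Clifford algebra of the binary form in coordinates:
`amat α β γ a b = a + b S₀`, `S₀ = !![β, γ; -α, 0]`; `QE ((a + b S) v) = N(a,b) QE v`, adjoint `a + b β - b S`, and the canonical
characterisation `{m | ∃ t, ∀ v, B v (m v) = t QE v}` (for `α ≠ 0`, discriminant `≠ 0`).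
-/

set_option autoImplicit false
set_option linter.unusedSectionVars false
set_option linter.unusedVariables false

namespace Cfsg.Agent.Lib.Helper25.OEFsa
open Matrix Module QuadraticMap Cfsg.Geo

section pure
variable {E : Type*} [Field E]

/-- `a + b S₀` with `S₀ = !![β, γ; -α, 0]` -/
def amat (α β γ a b : E) : Matrix (Fin 2) (Fin 2) E := !![a + b * β, b * γ; -(b * α), a]

theorem amat_mulVec (α β γ a b : E) (z : Fin 2 → E) :
    amat α β γ a b *ᵥ z = ![(a + b * β) * z 0 + b * γ * z 1, -(b * α) * z 0 + a * z 1] := by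
  funext i
  fin_cases i <;> simp [amat, Matrix.mulVec, dotProduct, Fin.sum_univ_two]

theorem amat_mul (α β γ a b a' b' : E) :
    amat α β γ a b * amat α β γ a' b' =
      amat α β γ (a * a' - b * b' * α * γ) (a * b' + b * a' + b * b' * β) := by
  ext i j
  fin_cases i <;> fin_cases j <;> simp [amat, Matrix.mul_apply, Fin.sum_univ_two] <;> ring

theorem amat_add (α β γ a b a' b' : E) :
    amat α β γ a b + amat α β γ a' b' = amat α β γ (a + a') (b + b') := by
  ext i j
  fin_cases i <;> fin_cases j <;> simp [amat] <;> ring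

theorem amat_scalar (α β γ a : E) : amat α β γ a 0 = a • (1 : Matrix (Fin 2) (Fin 2) E) := by
  ext i j
  fin_cases i <;> fin_cases j <;> simp [amat]

theorem amat_smul (α β γ c a b : E) : c • amat α β γ a b = amat α β γ (c * a) (c * b) := by
  ext i j
  fin_cases i <;> fin_cases j <;> simp [amat] <;> ring

theorem amat_inj {α β γ a b a' b' : E} (hα : α ≠ 0) (h : amat α β γ a b = amat α β γ a' b') :
    a = a' ∧ b = b' := by
  have h11 := congrFun (congrFun h 1) 1
  have h10 := congrFun (congrFun h 1) 0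
  simp [amat] at h11 h10
  refine ⟨h11, ?_⟩
  rcases h10 with h10 | h10
  · exact h10
  · exact absurd h10 hα

theorem amat_comm (α β γ a b a' b' : E) :
    amat α β γ a b * amat α β γ a' b' = amat α β γ a' b' * amat α β γ a b := by
  rw [amat_mul, amat_mul]
  congr 1 <;> ring

/-- the linear system of the canonical characterisation -/
theorem sol_star {α β γ c11 c12 c21 c22 t : E} (hα : α ≠ 0) (hΔ : β * β - 4 * α * γ ≠ 0)
    (h1 : 2 * α * c11 + β * c21 = t * α)
    (h2 : 2 * α * c12 + β * (c11 + c22) + 2 * γ * c21 = t * β)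
    (h3 : β * c12 + 2 * γ * c22 = t * γ) :
    c11 = c22 + (-(c21 * α⁻¹)) * β ∧ c12 = (-(c21 * α⁻¹)) * γ := by
  have hX : α * c11 - α * c22 + β * c21 = 0 := by
    have : (β * β - 4 * α * γ) * (α * c11 - α * c22 + β * c21) = 0 := by
      linear_combination (β * β - 2 * α * γ) * h1 - α * β * h2 + 2 * α * α * h3
    exact (mul_eq_zero.1 this).resolve_left hΔ
  have htα : t * α = 2 * α * c22 - β * c21 := by linear_combination -h1 + 2 * hX
  have hY : α * c12 + γ * c21 = 0 := by
    have e1 : β * (α * c12 + γ * c21) = 0 := by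
      linear_combination α * h3 + γ * htα
    have e2 : (2 * α) * (α * c12 + γ * c21) = 0 := by
      linear_combination α * h2 - β * hX + β * htα
    by_contra hne
    have hβ : β = 0 := (mul_eq_zero.1 e1).resolve_right hne
    have h2α : 2 * α = 0 := (mul_eq_zero.1 e2).resolve_right hne
    apply hΔ
    rw [hβ]
    linear_combination (-2 * γ) * h2α
  constructor
  · field_simp
    linear_combination hX
  · field_simp
    linear_combination hY

end pure

variable {F : Type*} [Field F] [Fintype F] {E : Type*} [Field E] [Algebra F E] [FiniteDimensional F E]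
  {ι : Type} [Fintype ι] [DecidableEq ι]
  {ρ : E →ₐ[F] Matrix ι ι F} {Q : QuadraticForm F (ι → F)} {B : (ι → F) → (ι → F) → E} {QE : (ι → F) → E}
  {v₁ v₂ : ι → F}

namespace Forms
variable (h : Forms ρ Q B QE)
include h

/-- (K1) the elements of the algebra are similitudes of `QE` -/
theorem QE_amat (a b : E) (z : Fin 2 → E) :
    QE (phi ρ v₁ v₂ (amat (QE v₁) (B v₁ v₂) (QE v₂) a b *ᵥ z)) =
      (a * a + a * b * B v₁ v₂ + b * b * QE v₁ * QE v₂) * QE (phi ρ v₁ v₂ z) := by
  rw [h.QE_phi, h.QE_phi, amat_mulVec]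
  simp only [Matrix.cons_val_zero, Matrix.cons_val_one]
  ring

/-- (K2) the adjoint -/
theorem B_amat_adj (a b : E) (z z' : Fin 2 → E) :
    B (phi ρ v₁ v₂ (amat (QE v₁) (B v₁ v₂) (QE v₂) a b *ᵥ z)) (phi ρ v₁ v₂ z') =
      B (phi ρ v₁ v₂ z) (phi ρ v₁ v₂ (amat (QE v₁) (B v₁ v₂) (QE v₂) (a + b * B v₁ v₂) (-b) *ᵥ z')) := by
  rw [h.B_phi, h.B_phi, amat_mulVec, amat_mulVec]
  simp only [Matrix.cons_val_zero, Matrix.cons_val_one]
  ring

/-- (K3') -/
theorem B_amat_self (a b : E) (z : Fin 2 → E) :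
    B (phi ρ v₁ v₂ z) (phi ρ v₁ v₂ (amat (QE v₁) (B v₁ v₂) (QE v₂) a b *ᵥ z)) =
      (2 * a + b * B v₁ v₂) * QE (phi ρ v₁ v₂ z) := by
  rw [h.B_phi, h.QE_phi, amat_mulVec]
  simp only [Matrix.cons_val_zero, Matrix.cons_val_one]
  ring

/-- (K3) the canonical characterisation -/
theorem amat_of_star (hb : EBasis ρ v₁ v₂) (hα : QE v₁ ≠ 0) (m : Matrix (Fin 2) (Fin 2) E) (t : E)
    (hm : ∀ z : Fin 2 → E, B (phi ρ v₁ v₂ z) (phi ρ v₁ v₂ (m *ᵥ z)) = t * QE (phi ρ v₁ v₂ z)) :
    ∃ a b : E, m = amat (QE v₁) (B v₁ v₂) (QE v₂) a b := by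
  have hΔ := h.disc_ne_zero hb
  have e1 := hm ![1, 0]
  have e2 := hm ![0, 1]
  have e3 := hm ![1, 1]
  rw [h.B_phi, h.QE_phi] at e1 e2 e3
  simp [Matrix.mulVec, dotProduct, Fin.sum_univ_two] at e1 e2 e3
  obtain ⟨s1, s2⟩ := sol_star (c11 := m 0 0) (c12 := m 0 1) (c21 := m 1 0) (c22 := m 1 1) (t := t) hα hΔ
    (by linear_combination e1) (by linear_combination e3 - e1 - e2) (by linear_combination e2)
  refine ⟨m 1 1, -(m 1 0 * (QE v₁)⁻¹), ?_⟩
  ext i j
  fin_cases i <;> fin_cases j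
  · simp only [amat, Fin.zero_eta, Fin.isValue, Matrix.of_apply, Matrix.cons_val', Matrix.cons_val_zero,
      Matrix.cons_val_fin_one]
    exact s1
  · simp only [amat, Fin.zero_eta, Fin.mk_one, Fin.isValue, Matrix.of_apply, Matrix.cons_val', Matrix.cons_val_one,
      Matrix.cons_val_fin_one, Matrix.cons_val_zero]
    exact s2
  · simp only [amat, Fin.mk_one, Fin.zero_eta, Fin.isValue, Matrix.of_apply, Matrix.cons_val', Matrix.cons_val_zero,
      Matrix.cons_val_fin_one, Matrix.cons_val_one]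
    field_simp
  · simp [amat]

end Forms

end Cfsg.Agent.Lib.Helper25.OEFsa
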