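import Mathlib
import Cfsg.Prelude.Def_GeometricClasses
import Cfsg.Agent.Lib.Helper25.OEFsaTr
import Cfsg.Agent.Lib.Helper25.OEFsaForms
import Cfsg.Agent.Lib.Helper25.OEFsaCoord
import Cfsg.Agent.Lib.Helper25.OEFsaBin

/-!
OMEGA-EVEN heavy leaf (H1) (helper25), part 5: THE ISOTROPIC CASE.  If the binary `E`-form `QE` has a non-zero singular vector then
there are exactly two singular `E`-lines; they form a pair of complementary totally singular subspaces of `Q` permuted by every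
semilinear isometry.
-/

set_option autoImplicit false
set_option linter.unusedSectionVars false
set_option linter.unusedVariables false

namespace Cfsg.Agent.Lib.Helper25.OEFsa
open Matrix Module QuadraticMap Cfsg.Geo

variable {F : Type*} [Field F] [Fintype F] {E : Type*} [Field E] [Algebra F E] [FiniteDimensional F E]
  {ι : Type} [Fintype ι] [DecidableEq ι]
  {ρ : E →ₐ[F] Matrix ι ι F} {Q : QuadraticForm F (ι → F)} {B : (ι → F) → (ι → F) → E} {QE : (ι → F) → E}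
  {v₁ v₂ : ι → F}

/-- `g` is a semilinear isometry -/
def SemiIso (ρ : E →ₐ[F] Matrix ι ι F) (Q : QuadraticForm F (ι → F)) (g : GL ι F) : Prop :=
  ∃ σ : E ≃ₐ[F] E, (∀ (a : E) (v : ι → F),
    (g : Matrix ι ι F) *ᵥ (ρ a *ᵥ v) = ρ (σ a) *ᵥ ((g : Matrix ι ι F) *ᵥ v)) ∧
    ∀ v : ι → F, Q ((g : Matrix ι ι F) *ᵥ v) = Q v

/-- the elements of the normaliser of `ρ E` that are isometries of `Q` are semilinear isometries -/
theorem semiIso_of_mem (hinj : Function.Injective ρ) {g : GL ι F}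
    (hg : g ∈ subalgebraNormalizer ρ.range ⊓ isometryGroup F ⇑Q) : SemiIso ρ Q g := by
  obtain ⟨σ, hσ⟩ := exists_sigma hinj g hg.1
  exact ⟨σ, fun a v => semilinear_of_sigma hσ a v, fun v => hg.2 v v⟩

/-! ### `E`-lines -/

/-- the line map -/
def lineL (ρ : E →ₐ[F] Matrix ι ι F) (v : ι → F) : E →ₗ[F] (ι → F) where
  toFun := fun a => ρ a *ᵥ v
  map_add' := fun a b => rho_add_mulVec ρ a b v
  map_smul' := fun c a => rho_smul_mulVec ρ c a v

/-- the `E`-line through `v` as an `F`-subspace -/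
def eline (ρ : E →ₐ[F] Matrix ι ι F) (v : ι → F) : Submodule F (ι → F) := LinearMap.range (lineL ρ v)

theorem mem_eline {v w : ι → F} : w ∈ eline ρ v ↔ ∃ a : E, ρ a *ᵥ v = w := Iff.rfl

theorem self_mem_eline (v : ι → F) : v ∈ eline ρ v := ⟨1, rho_one_mulVec ρ v⟩

theorem finrank_eline {v : ι → F} (hv : v ≠ 0) : finrank F (eline ρ v) = finrank F E := by
  apply LinearMap.finrank_range_of_inj
  rw [← LinearMap.ker_eq_bot, LinearMap.ker_eq_bot']
  intro a ha
  exact (rho_mulVec_eq_zero (ρ := ρ) ha).resolve_right hv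

theorem eline_smul {a : E} (ha : a ≠ 0) (v : ι → F) : eline ρ (ρ a *ᵥ v) = eline ρ v := by
  ext w
  rw [mem_eline, mem_eline]
  constructor
  · rintro ⟨b, rfl⟩
    exact ⟨b * a, rho_mul_mulVec ρ b a v⟩
  · rintro ⟨b, rfl⟩
    refine ⟨b * a⁻¹, ?_⟩
    rw [← rho_mul_mulVec, mul_assoc, inv_mul_cancel₀ ha, mul_one]

theorem map_eline {g : GL ι F} {σ : E ≃ₐ[F] E}
    (hg : ∀ (a : E) (v : ι → F), (g : Matrix ι ι F) *ᵥ (ρ a *ᵥ v) = ρ (σ a) *ᵥ ((g : Matrix ι ι F) *ᵥ v))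
    (v : ι → F) :
    (eline ρ v).map (Matrix.toLin' (g : Matrix ι ι F)) = eline ρ ((g : Matrix ι ι F) *ᵥ v) := by
  ext w
  rw [Submodule.mem_map, mem_eline]
  constructor
  · rintro ⟨u, ⟨a, rfl⟩, rfl⟩
    refine ⟨σ a, ?_⟩
    rw [Matrix.toLin'_apply]
    exact (hg a v).symm
  · rintro ⟨a, rfl⟩
    refine ⟨ρ (σ.symm a) *ᵥ v, ⟨σ.symm a, rfl⟩, ?_⟩
    rw [Matrix.toLin'_apply, hg, AlgEquiv.apply_symm_apply]

theorem gl_mulVec_injective (g : GL ι F) : Function.Injective fun v : ι → F => (g : Matrix ι ι F) *ᵥ v := by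
  intro u v huv
  have := congrArg (fun w => ((g⁻¹ : GL ι F) : Matrix ι ι F) *ᵥ w) huv
  simp only [Matrix.mulVec_mulVec, gl_inv_mul, Matrix.one_mulVec] at this
  exact this

/-! ### the hyperbolic basis -/

namespace Forms
variable (h : Forms ρ Q B QE)
include h

theorem exists_hyperbolic (hcard : Fintype.card ι = 2 * finrank F E) (hv₁ : v₁ ≠ 0) (hs : QE v₁ = 0) :
    ∃ v₂ : ι → F, EBasis ρ v₁ v₂ ∧ QE v₂ = 0 ∧ B v₁ v₂ ≠ 0 := by
  obtain ⟨w, hw⟩ : ∃ w, B w v₁ ≠ 0 := by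
    by_contra hcon
    push Not at hcon
    exact hv₁ (h.B_nondeg v₁ hcon)
  have hself : B v₁ v₁ = 0 := by rw [h.B_self, hs, mul_zero]
  refine ⟨w + ρ (-(QE w) / B w v₁) *ᵥ v₁, ?_, ?_, ?_⟩
  · apply ebasis_of_indep hcard
    intro z hz
    have e := congrArg (B v₁) hz
    unfold phi at e hz
    rw [h.B_add_right, h.B_smul_right, h.B_smul_right, hself, mul_zero, zero_add, h.B_add_right, h.B_smul_right,
      hself, mul_zero, add_zero, h.B_zero_right, h.B_symm v₁ w] at e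
    have h1 : z 1 = 0 := (mul_eq_zero.1 e).resolve_right hw
    rw [h1, rho_zero_mulVec, add_zero] at hz
    have h0 : z 0 = 0 := (rho_mulVec_eq_zero (ρ := ρ) hz).resolve_right hv₁
    funext i
    fin_cases i
    · exact h0
    · exact h1
  · rw [h.QE_add, h.QE_smul, hs, h.B_smul_right]
    field_simp
    ring
  · rw [h.B_add_right, h.B_smul_right, hself, mul_zero, add_zero, h.B_symm]
    exact hw

/-- THE ISOTROPIC CASE -/
theorem pair_of_isotropic (hcard : Fintype.card ι = 2 * finrank F E) (hv₁ : v₁ ≠ 0) (hs : QE v₁ = 0) :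
    ∃ D : Fin 2 → Submodule F (ι → F), IsMDecomposition (finrank F E) D ∧
      (∀ i, IsTotallySingularQuad ⇑Q (D i)) ∧
      ∀ g : GL ι F, SemiIso ρ Q g → g ∈ decompositionStabilizer D := by
  obtain ⟨v₂, hb, hs₂, hβ⟩ := h.exists_hyperbolic hcard hv₁ hs
  have hv₂ : v₂ ≠ 0 := by
    intro h0
    apply hβ
    rw [h0, h.B_zero_right]
  have hQphi : ∀ z : Fin 2 → E, QE (phi ρ v₁ v₂ z) = B v₁ v₂ * z 0 * z 1 := by
    intro z
    rw [h.QE_phi, hs, hs₂]
    ring
  let D : Fin 2 → Submodule F (ι → F) := ![eline ρ v₁, eline ρ v₂]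
  have hD0 : D 0 = eline ρ v₁ := rfl
  have hD1 : D 1 = eline ρ v₂ := rfl
  have hdisj : Disjoint (eline ρ v₁) (eline ρ v₂) := by
    rw [Submodule.disjoint_def]
    rintro w ⟨a, rfl⟩ ⟨b, hb'⟩
    have hb'' : ρ b *ᵥ v₂ = ρ a *ᵥ v₁ := hb'
    show ρ a *ᵥ v₁ = 0
    have e : phi ρ v₁ v₂ ![a, -b] = 0 := by
      rw [phi_mk, rho_neg_mulVec, hb'', add_neg_cancel]
    have := congrFun (hb.inj _ e) 0
    simp only [Matrix.cons_val_zero, Pi.zero_apply] at this
    rw [this, rho_zero_mulVec]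
  have hne : eline ρ v₁ ≠ eline ρ v₂ := by
    intro heq
    have h1 : v₁ ∈ eline ρ v₁ ⊓ eline ρ v₂ := ⟨self_mem_eline v₁, heq ▸ self_mem_eline v₁⟩
    rw [hdisj.eq_bot, Submodule.mem_bot] at h1
    exact hv₁ h1
  have hsup : eline ρ v₁ ⊔ eline ρ v₂ = ⊤ := by
    rw [eq_top_iff]
    intro v _
    obtain ⟨z, rfl⟩ := hb.surj v
    exact Submodule.add_mem _ (Submodule.mem_sup_left ⟨z 0, rfl⟩) (Submodule.mem_sup_right ⟨z 1, rfl⟩)
  have hDec : IsMDecomposition (finrank F E) D := by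
    refine ⟨le_refl 2, finrank_pos_E, ?_, ?_, ?_⟩
    · intro i
      fin_cases i
      · exact finrank_eline hv₁
      · exact finrank_eline hv₂
    · rw [iSupIndep_pair (i := (0 : Fin 2)) (j := 1) (by decide) (by intro k; fin_cases k <;> simp)]
      exact hdisj
    · rw [eq_top_iff, ← hsup]
      exact sup_le (le_iSup D 0) (le_iSup D 1)
  have hts : ∀ i, IsTotallySingularQuad ⇑Q (D i) := by
    have key : ∀ v : ι → F, QE v = 0 → ∀ w ∈ eline ρ v, Q w = 0 := by
      rintro v hv w ⟨a, rfl⟩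
      show Q (ρ a *ᵥ v) = 0
      rw [h.Q_eq, h.QE_smul, hv, mul_zero, map_zero]
    intro i
    fin_cases i
    · exact key v₁ hs
    · exact key v₂ hs₂
  refine ⟨D, hDec, hts, ?_⟩
  rintro g ⟨σ, hσ, hiso⟩
  -- the image of a singular basis vector spans one of the two lines
  have key : ∀ v : ι → F, v ≠ 0 → QE v = 0 →
      eline ρ ((g : Matrix ι ι F) *ᵥ v) = eline ρ v₁ ∨ eline ρ ((g : Matrix ι ι F) *ᵥ v) = eline ρ v₂ := by
    intro v hv hQv
    have hgv : (g : Matrix ι ι F) *ᵥ v ≠ 0 := by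
      intro h0
      apply hv
      apply gl_mulVec_injective g
      show (g : Matrix ι ι F) *ᵥ v = (g : Matrix ι ι F) *ᵥ 0
      rw [h0, Matrix.mulVec_zero]
    obtain ⟨z, hz⟩ := hb.surj ((g : Matrix ι ι F) *ᵥ v)
    have hQ : QE ((g : Matrix ι ι F) *ᵥ v) = 0 := by
      rw [h.QE_semilinear σ _ hσ hiso, hQv, map_zero]
    rw [hz, hQphi] at hQ
    rcases mul_eq_zero.1 hQ with h01 | h1
    · have h0 : z 0 = 0 := (mul_eq_zero.1 h01).resolve_left hβ
      right
      have e : (g : Matrix ι ι F) *ᵥ v = ρ (z 1) *ᵥ v₂ := by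
        rw [hz]; unfold phi; rw [h0, rho_zero_mulVec, zero_add]
      have hz1 : z 1 ≠ 0 := by
        intro h1
        apply hgv
        rw [e, h1, rho_zero_mulVec]
      rw [e, eline_smul hz1]
    · left
      have e : (g : Matrix ι ι F) *ᵥ v = ρ (z 0) *ᵥ v₁ := by
        rw [hz]; unfold phi; rw [h1, rho_zero_mulVec, add_zero]
      have hz0 : z 0 ≠ 0 := by
        intro h0
        apply hgv
        rw [e, h0, rho_zero_mulVec]
      rw [e, eline_smul hz0]
  have hm₁ := map_eline (ρ := ρ) hσ v₁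
  have hm₂ := map_eline (ρ := ρ) hσ v₂
  have hinjmap : eline ρ ((g : Matrix ι ι F) *ᵥ v₁) ≠ eline ρ ((g : Matrix ι ι F) *ᵥ v₂) := by
    intro heq
    rw [← hm₁, ← hm₂] at heq
    apply hne
    refine Submodule.map_injective_of_injective (f := Matrix.toLin' (g : Matrix ι ι F)) ?_ heq
    intro u v huv
    rw [Matrix.toLin'_apply, Matrix.toLin'_apply] at huv
    exact gl_mulVec_injective g huv
  rcases key v₁ hv₁ hs with h1 | h1 <;> rcases key v₂ hv₂ hs₂ with h2 | h2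
  · exact absurd (h1.trans h2.symm) hinjmap
  · refine ⟨1, fun i => ?_⟩
    fin_cases i
    · show (eline ρ v₁).map _ = eline ρ v₁
      rw [hm₁, h1]
    · show (eline ρ v₂).map _ = eline ρ v₂
      rw [hm₂, h2]
  · refine ⟨Equiv.swap 0 1, fun i => ?_⟩
    fin_cases i
    · show (eline ρ v₁).map _ = D (Equiv.swap 0 1 0)
      rw [Equiv.swap_apply_left, hD1, hm₁, h1]
    · show (eline ρ v₂).map _ = D (Equiv.swap 0 1 1)
      rw [Equiv.swap_apply_right, hD0, hm₂, h2]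
  · exact absurd (h1.trans h2.symm) hinjmap

end Forms

end Cfsg.Agent.Lib.Helper25.OEFsa
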