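import Mathlib
import Cfsg.Prelude.Def_GeometricClasses
import Cfsg.Agent.Lib.Helper25.OEFsaTr
import Cfsg.Agent.Lib.Helper25.OEFsaForms
import Cfsg.Agent.Lib.Helper25.OEFsaCoord
import Cfsg.Agent.Lib.Helper25.OEFsaBin
import Cfsg.Agent.Lib.Helper25.OEFsaIso
import Cfsg.Agent.Lib.Helper25.OEFsaAmat

/-!
OMEGA-EVEN heavy leaf (H1) (helper25), part 7: THE ANISOTROPIC CASE, the field `A = E + E S` of degree `2 [E:F]`:
a field subalgebra of `M_n(F)` containing `ρ E`, closed under adjoints, consisting of similitudes of `QE`, normalised by the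
semilinear isometries.
-/

set_option autoImplicit false
set_option linter.unusedSectionVars false
set_option linter.unusedVariables false

namespace Cfsg.Agent.Lib.Helper25.OEFsa
open Matrix Module QuadraticMap Cfsg.Geo

variable {F : Type*} [Field F] [Fintype F] {E : Type*} [Field E] [Algebra F E] [FiniteDimensional F E]
  {ι : Type} [Fintype ι] [DecidableEq ι]
  {ρ : E →ₐ[F] Matrix ι ι F} {Q : QuadraticForm F (ι → F)} {B : (ι → F) → (ι → F) → E} {QE : (ι → F) → E}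
  {v₁ v₂ : ι → F}

/-- the operator `a + b S` -/
noncomputable def aop (hb : EBasis ρ v₁ v₂) (α β γ a b : E) : Matrix ι ι F := theta hb (amat α β γ a b)

theorem aop_mulVec (hb : EBasis ρ v₁ v₂) (α β γ a b : E) (z : Fin 2 → E) :
    aop hb α β γ a b *ᵥ phi ρ v₁ v₂ z = phi ρ v₁ v₂ (amat α β γ a b *ᵥ z) := hb.theta_mulVec _ z

theorem aop_mul (hb : EBasis ρ v₁ v₂) (α β γ a b a' b' : E) :
    aop hb α β γ a b * aop hb α β γ a' b' =
      aop hb α β γ (a * a' - b * b' * α * γ) (a * b' + b * a' + b * b' * β) := by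
  unfold aop
  rw [← hb.theta_mul, amat_mul]

theorem aop_add (hb : EBasis ρ v₁ v₂) (α β γ a b a' b' : E) :
    aop hb α β γ a b + aop hb α β γ a' b' = aop hb α β γ (a + a') (b + b') := by
  unfold aop
  rw [← hb.theta_add, amat_add]

theorem aop_scalar (hb : EBasis ρ v₁ v₂) (α β γ a : E) : aop hb α β γ a 0 = ρ a := by
  unfold aop
  rw [amat_scalar, hb.theta_scalar]

theorem aop_smulF (hb : EBasis ρ v₁ v₂) (α β γ : E) (c : F) (a b : E) :
    c • aop hb α β γ a b = aop hb α β γ (c • a) (c • b) := by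
  unfold aop
  rw [← hb.theta_smulF]
  congr 1
  ext i j
  fin_cases i <;> fin_cases j <;> simp [amat, Algebra.smul_def] <;> ring

theorem aop_inj (hb : EBasis ρ v₁ v₂) {α β γ a b a' b' : E} (hα : α ≠ 0)
    (h : aop hb α β γ a b = aop hb α β γ a' b') : a = a' ∧ b = b' :=
  amat_inj hα (hb.theta_injective h)

theorem aop_comm_rho (hb : EBasis ρ v₁ v₂) (α β γ a b c : E) :
    aop hb α β γ a b * ρ c = ρ c * aop hb α β γ a b := hb.theta_comm_rho _ c

/-- the algebra `A = E + E S` -/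
noncomputable def algA (hb : EBasis ρ v₁ v₂) (α β γ : E) : Subalgebra F (Matrix ι ι F) where
  carrier := {M | ∃ a b : E, M = aop hb α β γ a b}
  mul_mem' := by
    rintro _ _ ⟨a, b, rfl⟩ ⟨a', b', rfl⟩
    exact ⟨_, _, aop_mul hb α β γ a b a' b'⟩
  add_mem' := by
    rintro _ _ ⟨a, b, rfl⟩ ⟨a', b', rfl⟩
    exact ⟨_, _, aop_add hb α β γ a b a' b'⟩
  algebraMap_mem' := by
    intro r
    refine ⟨algebraMap F E r, 0, ?_⟩
    rw [aop_scalar, AlgHom.commutes]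

theorem mem_algA (hb : EBasis ρ v₁ v₂) (α β γ : E) (M : Matrix ι ι F) :
    M ∈ algA hb α β γ ↔ ∃ a b : E, M = aop hb α β γ a b := Iff.rfl

/-- the linear parametrisation of `A` -/
noncomputable def aopL (hb : EBasis ρ v₁ v₂) (α β γ : E) : (Fin 2 → E) →ₗ[F] Matrix ι ι F where
  toFun := fun w => aop hb α β γ (w 0) (w 1)
  map_add' := by
    intro w w'
    show aop hb α β γ ((w + w') 0) ((w + w') 1) = _
    rw [aop_add]
    rfl
  map_smul' := by
    intro c w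
    show aop hb α β γ ((c • w) 0) ((c • w) 1) = c • aop hb α β γ (w 0) (w 1)
    rw [aop_smulF]
    rfl

theorem finrank_algA (hb : EBasis ρ v₁ v₂) {α : E} (β γ : E) (hα : α ≠ 0) :
    finrank F (algA hb α β γ) = 2 * finrank F E := by
  have hinj : Function.Injective (aopL hb α β γ) := by
    intro w w' hww
    obtain ⟨h0, h1⟩ := aop_inj hb hα (show aop hb α β γ (w 0) (w 1) = aop hb α β γ (w' 0) (w' 1) from hww)
    funext i
    fin_cases i
    · exact h0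
    · exact h1
  have hrange : Subalgebra.toSubmodule (algA hb α β γ) = LinearMap.range (aopL hb α β γ) := by
    ext M
    rw [Subalgebra.mem_toSubmodule, mem_algA, LinearMap.mem_range]
    constructor
    · rintro ⟨a, b, rfl⟩
      exact ⟨![a, b], rfl⟩
    · rintro ⟨w, rfl⟩
      exact ⟨w 0, w 1, rfl⟩
  have h1 : finrank F (Subalgebra.toSubmodule (algA hb α β γ)) = 2 * finrank F E := by
    rw [hrange, LinearMap.finrank_range_of_inj hinj, finrank_fin_two]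
  exact h1

namespace Forms
variable (h : Forms ρ Q B QE)
include h

/-- the norm of `a + b S` -/
def nrm (B : (ι → F) → (ι → F) → E) (QE : (ι → F) → E) (v₁ v₂ : ι → F) (a b : E) : E :=
  a * a + a * b * B v₁ v₂ + b * b * QE v₁ * QE v₂

theorem QE_aop (hb : EBasis ρ v₁ v₂) (a b : E) (v : ι → F) :
    QE (aop hb (QE v₁) (B v₁ v₂) (QE v₂) a b *ᵥ v) = nrm B QE v₁ v₂ a b * QE v := by
  obtain ⟨z, rfl⟩ := hb.surj v
  rw [aop_mulVec, h.QE_amat]
  rfl

theorem B_aop_adj (hb : EBasis ρ v₁ v₂) (a b : E) (u v : ι → F) :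
    B (aop hb (QE v₁) (B v₁ v₂) (QE v₂) a b *ᵥ u) v =
      B u (aop hb (QE v₁) (B v₁ v₂) (QE v₂) (a + b * B v₁ v₂) (-b) *ᵥ v) := by
  obtain ⟨z, rfl⟩ := hb.surj u
  obtain ⟨z', rfl⟩ := hb.surj v
  rw [aop_mulVec, aop_mulVec, h.B_amat_adj]

theorem polar_aop_adj (hb : EBasis ρ v₁ v₂) (a b : E) (u v : ι → F) :
    polar Q (aop hb (QE v₁) (B v₁ v₂) (QE v₂) a b *ᵥ u) v =
      polar Q u (aop hb (QE v₁) (B v₁ v₂) (QE v₂) (a + b * B v₁ v₂) (-b) *ᵥ v) := by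
  rw [← h.tr_B, ← h.tr_B, h.B_aop_adj hb]

theorem aop_mul_adj (hb : EBasis ρ v₁ v₂) (a b : E) :
    aop hb (QE v₁) (B v₁ v₂) (QE v₂) a b * aop hb (QE v₁) (B v₁ v₂) (QE v₂) (a + b * B v₁ v₂) (-b) =
      ρ (nrm B QE v₁ v₂ a b) := by
  rw [aop_mul, ← aop_scalar hb (QE v₁) (B v₁ v₂) (QE v₂)]
  unfold nrm
  congr 1 <;> ring

/-- anisotropy: the norm does not vanish -/
theorem nrm_ne_zero (hb : EBasis ρ v₁ v₂) (han : ∀ v : ι → F, v ≠ 0 → QE v ≠ 0) {a b : E}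
    (hab : ¬ (a = 0 ∧ b = 0)) : nrm B QE v₁ v₂ a b ≠ 0 := by
  have hv₁ : v₁ ≠ 0 := by
    intro h0
    have := hb.inj ![1, 0] (by rw [phi_e1, h0])
    have := congrFun this 0
    simp at this
  have hα : QE v₁ ≠ 0 := han v₁ hv₁
  have hne : aop hb (QE v₁) (B v₁ v₂) (QE v₂) a b *ᵥ v₁ ≠ 0 := by
    intro h0
    have h0' : aop hb (QE v₁) (B v₁ v₂) (QE v₂) a b *ᵥ phi ρ v₁ v₂ ![1, 0] = 0 := by
      rw [phi_e1]; exact h0
    rw [aop_mulVec, amat_mulVec] at h0'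
    have hz := hb.inj _ h0'
    have h1 := congrFun hz 1
    have h2 := congrFun hz 0
    simp at h1 h2
    have hb0 : b = 0 := by
      rcases h1 with h1 | h1
      · exact h1
      · exact absurd h1 hα
    rw [hb0] at h2
    apply hab
    refine ⟨?_, hb0⟩
    simpa using h2
  have := han _ hne
  rw [h.QE_aop hb] at this
  exact left_ne_zero_of_mul this

/-- `A` is a field subalgebra of degree `2 [E:F]` -/
theorem isField_algA (hb : EBasis ρ v₁ v₂) (han : ∀ v : ι → F, v ≠ 0 → QE v ≠ 0) :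
    IsFieldSubalgebra (2 * finrank F E) (algA hb (QE v₁) (B v₁ v₂) (QE v₂)) := by
  have hv₁ : v₁ ≠ 0 := by
    intro h0
    have := hb.inj ![1, 0] (by rw [phi_e1, h0])
    have := congrFun this 0
    simp at this
  have hα : QE v₁ ≠ 0 := han v₁ hv₁
  refine ⟨?_, ?_, finrank_algA hb _ _ hα⟩
  · rintro _ ⟨a, b, rfl⟩ _ ⟨a', b', rfl⟩
    rw [aop_mul, aop_mul]
    congr 1 <;> ring
  · rintro _ ⟨a, b, rfl⟩ hne
    have hab : ¬ (a = 0 ∧ b = 0) := by
      rintro ⟨rfl, rfl⟩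
      apply hne
      rw [aop_scalar, map_zero]
    have hN := h.nrm_ne_zero hb han hab
    refine ⟨ρ (nrm B QE v₁ v₂ a b)⁻¹ * aop hb (QE v₁) (B v₁ v₂) (QE v₂) (a + b * B v₁ v₂) (-b), ?_, ?_⟩
    · refine (algA hb (QE v₁) (B v₁ v₂) (QE v₂)).mul_mem ⟨_, 0, (aop_scalar hb _ _ _ _).symm⟩ ⟨_, _, rfl⟩
    · rw [← mul_assoc, aop_comm_rho, mul_assoc, h.aop_mul_adj hb, ← map_mul, inv_mul_cancel₀ hN, map_one]

/-- the canonical characterisation of `A` -/
theorem mem_algA_of_star (hb : EBasis ρ v₁ v₂) (hα : QE v₁ ≠ 0) (M : Matrix ι ι F)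
    (hM : ∀ a : E, M * ρ a = ρ a * M) (t : E) (hstar : ∀ v : ι → F, B v (M *ᵥ v) = t * QE v) :
    M ∈ algA hb (QE v₁) (B v₁ v₂) (QE v₂) := by
  obtain ⟨m, rfl⟩ := hb.exists_of_comm M hM
  obtain ⟨a, b, rfl⟩ := h.amat_of_star hb hα m t (by
    intro z
    rw [← hb.theta_mulVec]
    exact hstar _)
  exact ⟨a, b, rfl⟩

theorem star_of_mem_algA (hb : EBasis ρ v₁ v₂) (M : Matrix ι ι F)
    (hM : M ∈ algA hb (QE v₁) (B v₁ v₂) (QE v₂)) :
    (∀ a : E, M * ρ a = ρ a * M) ∧ ∃ t : E, ∀ v : ι → F, B v (M *ᵥ v) = t * QE v := by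
  obtain ⟨a, b, rfl⟩ := hM
  refine ⟨fun c => aop_comm_rho hb _ _ _ a b c, 2 * a + b * B v₁ v₂, fun v => ?_⟩
  obtain ⟨z, rfl⟩ := hb.surj v
  rw [aop_mulVec, h.B_amat_self]

/-- `A` is normalised by the semilinear isometries -/
theorem conj_mem_algA (hb : EBasis ρ v₁ v₂) (hα : QE v₁ ≠ 0) {g : GL ι F} (hg : SemiIso ρ Q g)
    (M : Matrix ι ι F) (hM : M ∈ algA hb (QE v₁) (B v₁ v₂) (QE v₂)) :
    (g : Matrix ι ι F) * M * ((g⁻¹ : GL ι F) : Matrix ι ι F) ∈ algA hb (QE v₁) (B v₁ v₂) (QE v₂) := by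
  obtain ⟨σ, hσ, hiso⟩ := hg
  obtain ⟨hMc, t, ht⟩ := h.star_of_mem_algA hb M hM
  -- `g ρ a = ρ (σ a) g` as matrices
  have hgρ : ∀ a : E, (g : Matrix ι ι F) * ρ a = ρ (σ a) * (g : Matrix ι ι F) := by
    intro a
    apply Matrix.toLin'.injective
    apply LinearMap.ext
    intro v
    rw [Matrix.toLin'_apply, Matrix.toLin'_apply, ← Matrix.mulVec_mulVec, ← Matrix.mulVec_mulVec, hσ]
  have hginvρ : ∀ a : E, ((g⁻¹ : GL ι F) : Matrix ι ι F) * ρ (σ a) = ρ a * ((g⁻¹ : GL ι F) : Matrix ι ι F) := by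
    intro a
    calc ((g⁻¹ : GL ι F) : Matrix ι ι F) * ρ (σ a)
        = ((g⁻¹ : GL ι F) : Matrix ι ι F) * (ρ (σ a) * (g : Matrix ι ι F)) *
            ((g⁻¹ : GL ι F) : Matrix ι ι F) := by
          rw [mul_assoc, mul_assoc, gl_mul_inv, mul_one]
      _ = ρ a * ((g⁻¹ : GL ι F) : Matrix ι ι F) := by
          rw [← hgρ, ← mul_assoc, gl_inv_mul, one_mul]
  refine h.mem_algA_of_star hb hα _ ?_ (σ t) ?_
  · intro a
    have ha : a = σ (σ.symm a) := (σ.apply_symm_apply a).symm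
    rw [ha]
    calc (g : Matrix ι ι F) * M * ((g⁻¹ : GL ι F) : Matrix ι ι F) * ρ (σ (σ.symm a))
        = (g : Matrix ι ι F) * (M * ρ (σ.symm a)) * ((g⁻¹ : GL ι F) : Matrix ι ι F) := by
          rw [mul_assoc, hginvρ]; simp only [mul_assoc]
      _ = ρ (σ (σ.symm a)) * ((g : Matrix ι ι F) * M * ((g⁻¹ : GL ι F) : Matrix ι ι F)) := by
          rw [hMc, ← mul_assoc (g : Matrix ι ι F), hgρ]; simp only [mul_assoc]
  · intro v
    -- `v = g (g⁻¹ v)`
    obtain ⟨w, hw⟩ : ∃ w, w = ((g⁻¹ : GL ι F) : Matrix ι ι F) *ᵥ v := ⟨_, rfl⟩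
    have hv : v = (g : Matrix ι ι F) *ᵥ w := by
      rw [hw, Matrix.mulVec_mulVec, gl_mul_inv, Matrix.one_mulVec]
    have e : ((g : Matrix ι ι F) * M * ((g⁻¹ : GL ι F) : Matrix ι ι F)) *ᵥ v =
        (g : Matrix ι ι F) *ᵥ (M *ᵥ w) := by
      rw [hw, Matrix.mulVec_mulVec, Matrix.mulVec_mulVec]
    rw [e]
    conv_lhs => rw [hv]
    rw [h.B_semilinear σ _ hσ hiso, ht, map_mul, hv, h.QE_semilinear σ _ hσ hiso]

end Forms

end Cfsg.Agent.Lib.Helper25.OEFsa
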