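import Mathlib
import Cfsg.Prelude.Def_GeometricClasses
import Cfsg.Agent.Lib.Helper27.AschKF3
import Cfsg.Agent.Lib.Helper25.OEFsaTr
import Cfsg.Agent.Lib.Helper25.OEFsaForms
import Cfsg.Agent.Lib.Helper25.OEFsaCoord
import Cfsg.Agent.Lib.Helper25.OEFsaBin
import Cfsg.Agent.Lib.Helper25.OEFsaIso
import Cfsg.Agent.Lib.Helper25.OEFsaAmat
import Cfsg.Agent.Lib.Helper25.OEFsaAlg

/-!
OMEGA-EVEN heavy leaf (H1) (helper25), part 8: the degree-2 subfield `L` of `A` in the anisotropic case, and the
assembly `fsa_half`: a self-adjoint field subalgebra `K` of odd degree `r` with `2 r = n` gives either a quadratic field `L`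
(adjoint-closed, not self-adjoint, consisting of similitudes of `Q`) normalised by `N(K) ∩ O(Q)`, or a pair of complementary
totally singular `r`-spaces permuted by `N(K) ∩ O(Q)`.
-/

set_option autoImplicit false
set_option linter.unusedSectionVars false
set_option linter.unusedVariables false

namespace Cfsg.Agent.Lib.Helper25.OEFsa
open Matrix Module QuadraticMap Cfsg.Geo

section gen

universe u
variable {F : Type u} [Field F] [Fintype F] {ι : Type} [Fintype ι] [DecidableEq ι]

/-- a field subalgebra is the image of an abstract extension field (generic index type; after helper27's `exists_model`) -/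
theorem exists_model' (d : ℕ) (hd : 0 < d) (K : Subalgebra F (Matrix ι ι F))
    (hK : IsFieldSubalgebra d K) :
    ∃ (E : Type u) (_ : Field E) (_ : Algebra F E) (ρ : E →ₐ[F] Matrix ι ι F),
      Function.Injective ρ ∧ ρ.range = K ∧ finrank F E = d := by
  have hF : IsField ↥K := by
    refine ⟨⟨0, 1, ?_⟩, ?_, ?_⟩
    · intro h
      have h1 : Subsingleton ↥K := by
        refine ⟨fun a b => ?_⟩
        rw [← mul_one a, ← mul_one b, ← h, mul_zero, mul_zero]
      have h2 : finrank F ↥K = 0 := Module.finrank_zero_of_subsingleton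
      rw [hK.finrank_eq] at h2
      omega
    · intro a b
      exact Subtype.ext (hK.comm a.1 a.2 b.1 b.2)
    · intro a ha
      obtain ⟨y, hy, hxy⟩ := hK.inv a.1 a.2 (fun h => ha (Subtype.ext h))
      exact ⟨⟨y, hy⟩, Subtype.ext hxy⟩
  let fE : Field ↥K := hF.toField
  refine ⟨↥K, fE, (Subalgebra.algebra K : @Algebra F ↥K _ fE.toSemiring), K.val, ?_, ?_, ?_⟩
  · exact Subtype.val_injective
  · exact K.range_val
  · exact hK.finrank_eq

/-- the subfield of degree `r` of a field subalgebra of degree divisible by `r` (generic index type; after helper27's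
`exists_sub`) -/
theorem exists_sub' (K : Subalgebra F (Matrix ι ι F)) (d : ℕ) (hK : IsFieldSubalgebra d K)
    (r : ℕ) (hr0 : r ≠ 0) (hd0 : 0 < d) (hr : r ∣ d) :
    ∃ K' : Subalgebra F (Matrix ι ι F), IsFieldSubalgebra r K' ∧
      ∀ k : Matrix ι ι F, k ∈ K' ↔ k ∈ K ∧ k ^ (Fintype.card F ^ r) = k := by
  classical
  obtain ⟨E, iE, iA, ρ, hinj, hrange, hfr⟩ := exists_model' d hd0 K hK
  have hfin : Finite E := Finite.of_injective ρ hinj
  obtain ⟨L, hL, hmem⟩ := Cfsg.Agent.Lib.Helper27.AschKF3.exists_intermediate F E r hr0 (by rw [hfr]; exact hr)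
  have hmemK : ∀ k : Matrix ι ι F, k ∈ L.toSubalgebra.map ρ ↔
      k ∈ K ∧ k ^ (Fintype.card F ^ r) = k := by
    intro k
    rw [Subalgebra.mem_map, ← hrange]
    constructor
    · rintro ⟨x, hx, rfl⟩
      refine ⟨⟨x, rfl⟩, ?_⟩
      have := (hmem x).mp hx
      rw [← map_pow, this]
    · rintro ⟨⟨x, rfl⟩, hx⟩
      refine ⟨x, (hmem x).mpr ?_, rfl⟩
      apply hinj
      rw [map_pow]
      exact hx
  refine ⟨L.toSubalgebra.map ρ, ⟨?_, ?_, ?_⟩, hmemK⟩
  · intro x hx y hy
    exact hK.comm x ((hmemK x).mp hx).1 y ((hmemK y).mp hy).1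
  · intro x hx hx0
    obtain ⟨a, ha, rfl⟩ := Subalgebra.mem_map.mp hx
    have ha0 : a ≠ 0 := by
      rintro rfl
      exact hx0 (map_zero ρ)
    refine ⟨ρ a⁻¹, Subalgebra.mem_map.mpr ⟨a⁻¹, L.inv_mem ha, rfl⟩, ?_⟩
    rw [← map_mul, mul_inv_cancel₀ ha0, map_one]
  · rw [← hL]
    exact (LinearEquiv.finrank_eq (Subalgebra.equivMapOfInjective L.toSubalgebra ρ hinj).toLinearEquiv).symm

end gen

section frob

variable {F : Type*} [Field F] [Fintype F] {E : Type*} [Field E] [Algebra F E]

/-- the fixed points of the Frobenius of `F` on an extension are the elements of `F` (after helper9) -/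
theorem mem_range_of_pow_card_eq' (x : E) (hx : x ^ Fintype.card F = x) :
    ∃ c : F, algebraMap F E c = x := by
  classical
  by_contra hcon
  push Not at hcon
  set q := Fintype.card F with hq
  have hq1 : 1 < q := Fintype.one_lt_card
  set P : Polynomial E := Polynomial.X ^ q - Polynomial.X with hP
  have hP0 : P ≠ 0 := FiniteField.X_pow_card_sub_X_ne_zero E hq1
  have hdeg : P.natDegree = q := FiniteField.X_pow_card_sub_X_natDegree_eq E hq1
  set S : Finset E := insert x (Finset.image (algebraMap F E) Finset.univ) with hS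
  have hx_notin : x ∉ Finset.image (algebraMap F E) Finset.univ := by
    intro h
    obtain ⟨c, _, hc⟩ := Finset.mem_image.mp h
    exact hcon c hc
  have hcardS : S.card = q + 1 := by
    rw [hS, Finset.card_insert_of_notMem hx_notin,
      Finset.card_image_of_injective _ (algebraMap F E).injective, Finset.card_univ]
  have hsub : S ⊆ P.roots.toFinset := by
    intro y hy
    rw [Multiset.mem_toFinset, Polynomial.mem_roots hP0, Polynomial.IsRoot, hP, Polynomial.eval_sub,
      Polynomial.eval_pow, Polynomial.eval_X]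
    rw [hS, Finset.mem_insert] at hy
    rcases hy with rfl | hy
    · rw [hx, sub_self]
    · obtain ⟨c, _, rfl⟩ := Finset.mem_image.mp hy
      rw [← map_pow, hq, FiniteField.pow_card, sub_self]
  have h1 : S.card ≤ q := by
    calc S.card ≤ P.roots.toFinset.card := Finset.card_le_card hsub
      _ ≤ Multiset.card P.roots := Multiset.toFinset_card_le _
      _ ≤ P.natDegree := Polynomial.card_roots' P
      _ = q := hdeg
  omega

/-- an element fixed by `Frob²` in an extension of odd degree lies in the ground field -/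
theorem mem_range_of_sq_fixed [FiniteDimensional F E] (hodd : Odd (finrank F E)) (x : E)
    (hx : x ^ (Fintype.card F ^ 2) = x) : ∃ c : F, algebraMap F E c = x := by
  classical
  have : Finite E := Module.finite_of_finite F
  have : Fintype E := Fintype.ofFinite E
  set q := Fintype.card F with hq
  have hcardE : Fintype.card E = q ^ finrank F E := Module.card_eq_pow_finrank
  have hxE : x ^ (q ^ finrank F E) = x := by rw [← hcardE, FiniteField.pow_card]
  obtain ⟨m, hm⟩ := hodd
  have heven : ∀ k : ℕ, x ^ (q ^ (2 * k)) = x := by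
    intro k
    induction k with
    | zero => simp
    | succ k ih =>
      rw [show 2 * (k + 1) = 2 * k + 2 by ring, pow_add, pow_mul, ih, hx]
  apply mem_range_of_pow_card_eq'
  rw [hm, pow_succ, pow_mul, heven] at hxE
  exact hxE

end frob

variable {F : Type*} [Field F] [Fintype F] {E : Type*} [Field E] [Algebra F E] [FiniteDimensional F E]
  {ι : Type} [Fintype ι] [DecidableEq ι]
  {ρ : E →ₐ[F] Matrix ι ι F} {Q : QuadraticForm F (ι → F)} {B : (ι → F) → (ι → F) → E} {QE : (ι → F) → E}
  {v₁ v₂ : ι → F}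

/-- adjoints of powers -/
theorem adj_pow {k k' : Matrix ι ι F}
    (hadj : ∀ u v : ι → F, polar Q (k *ᵥ u) v = polar Q u (k' *ᵥ v)) (m : ℕ) (u v : ι → F) :
    polar Q ((k ^ m) *ᵥ u) v = polar Q u ((k' ^ m) *ᵥ v) := by
  induction m generalizing u v with
  | zero => simp
  | succ m ih =>
    rw [pow_succ, pow_succ', ← Matrix.mulVec_mulVec, ih, hadj, Matrix.mulVec_mulVec]

/-- adjoints are unique -/
theorem adj_unique (hnd : (polarBilin Q).Nondegenerate) {M M' : Matrix ι ι F}
    (hMM : ∀ u v : ι → F, polar Q u (M *ᵥ v) = polar Q u (M' *ᵥ v)) : M = M' := by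
  apply Matrix.toLin'.injective
  apply LinearMap.ext
  intro v
  rw [Matrix.toLin'_apply, Matrix.toLin'_apply]
  have h0 : M *ᵥ v - M' *ᵥ v = 0 := by
    apply hnd.2
    intro u
    show polar Q u (M *ᵥ v - M' *ᵥ v) = 0
    rw [polar_sub_right, hMM, sub_self]
  exact sub_eq_zero.1 h0

namespace Forms
variable (h : Forms ρ Q B QE)
include h

/-- THE ANISOTROPIC CASE: the quadratic subfield `L` of `A` -/
theorem funi_of_anisotropic (hcard : Fintype.card ι = 2 * finrank F E) (hodd : Odd (finrank F E))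
    (han : ∀ v : ι → F, v ≠ 0 → QE v ≠ 0) :
    ∃ L : Subalgebra F (Matrix ι ι F), IsFieldSubalgebra 2 L ∧ IsAdjointClosedFor (polar ⇑Q) L ∧
      ¬ IsSelfAdjointFor (polar ⇑Q) L ∧ (∀ k ∈ L, ∃ c : F, ∀ v, Q (k *ᵥ v) = c * Q v) ∧
      subalgebraNormalizer ρ.range ⊓ isometryGroup F ⇑Q ≤ subalgebraNormalizer L := by
  classical
  have hrpos : 0 < finrank F E := finrank_pos_E
  have hne : Nonempty ι := by
    rw [← Fintype.card_pos_iff, hcard]
    omega
  obtain ⟨i⟩ := hne
  have hv₁ : (Pi.single i (1 : F) : ι → F) ≠ 0 := by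
    intro h0
    have := congrFun h0 i
    simp at this
  obtain ⟨v₂, hb⟩ := exists_ebasis_of_ne_zero (ρ := ρ) hcard hv₁
  set v₁ : ι → F := Pi.single i (1 : F) with hv₁def
  have hα : QE v₁ ≠ 0 := han v₁ hv₁
  set A := algA hb (QE v₁) (B v₁ v₂) (QE v₂) with hAdef
  have hA : IsFieldSubalgebra (2 * finrank F E) A := h.isField_algA hb han
  obtain ⟨L, hL, hmemL⟩ := exists_sub' A (2 * finrank F E) hA 2 (by norm_num) (by omega) ⟨_, rfl⟩
  set q := Fintype.card F with hq
  have hinj : Function.Injective ρ := h.ctx.inj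
  have hnd := h.ctx.nd
  -- the adjoint of an element of `L` lies in `L`
  have hadjL : ∀ a b : E, aop hb (QE v₁) (B v₁ v₂) (QE v₂) a b ∈ L →
      aop hb (QE v₁) (B v₁ v₂) (QE v₂) (a + b * B v₁ v₂) (-b) ∈ L := by
    intro a b hk
    obtain ⟨_, hpow⟩ := (hmemL _).1 hk
    refine (hmemL _).2 ⟨⟨_, _, rfl⟩, ?_⟩
    apply adj_unique hnd
    intro u v
    rw [← adj_pow (h.polar_aop_adj hb a b), hpow, h.polar_aop_adj hb]
  -- elements of `ρ E ∩ L` are scalars
  have hscal : ∀ a : E, ρ a ∈ L → ∃ c : F, algebraMap F E c = a := by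
    intro a ha
    obtain ⟨_, hpow⟩ := (hmemL _).1 ha
    apply mem_range_of_sq_fixed hodd
    apply hinj
    rw [map_pow]
    exact hpow
  refine ⟨L, hL, ?_, ?_, ?_, ?_⟩
  · -- adjoint-closed
    intro k hk
    obtain ⟨⟨a, b, rfl⟩, _⟩ := (hmemL k).1 hk
    exact ⟨_, hadjL a b hk, fun u v => h.polar_aop_adj hb a b u v⟩
  · -- not self-adjoint
    intro hsa
    have hall : ∀ w : ↥L, ∃ c : F, c • (1 : ↥L) = w := by
      rintro ⟨k, hk⟩
      obtain ⟨⟨a, b, rfl⟩, _⟩ := (hmemL k).1 hk
      have heq : aop hb (QE v₁) (B v₁ v₂) (QE v₂) a b =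
          aop hb (QE v₁) (B v₁ v₂) (QE v₂) (a + b * B v₁ v₂) (-b) := by
        apply adj_unique hnd
        intro u v
        rw [← hsa _ hk u v, h.polar_aop_adj hb]
      obtain ⟨h1, h2⟩ := aop_inj hb hα heq
      have hb0 : b = 0 := by
        by_contra hbne
        have hβ : B v₁ v₂ = 0 := by
          have : b * B v₁ v₂ = 0 := by
            have := h1
            linear_combination -this
          rcases mul_eq_zero.1 this with h' | h'
          · exact absurd h' hbne
          · exact h'
        have h2E : (2 : E) = 0 := by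
          have : 2 * b = 0 := by linear_combination h2
          rcases mul_eq_zero.1 this with h' | h'
          · exact h'
          · exact absurd h' hbne
        apply h.disc_ne_zero hb
        rw [hβ]
        have h4 : (4 : E) = 0 := by
          have : (4 : E) = 2 * 2 := by norm_num
          rw [this, h2E, mul_zero]
        rw [h4]
        ring
      subst hb0
      rw [aop_scalar] at hk
      obtain ⟨c, rfl⟩ := hscal a hk
      refine ⟨c, ?_⟩
      apply Subtype.ext
      show c • (1 : Matrix ι ι F) = aop hb (QE v₁) (B v₁ v₂) (QE v₂) ((algebraMap F E) c) 0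
      rw [aop_scalar, AlgHom.commutes, Algebra.algebraMap_eq_smul_one]
    have hle : finrank F ↥L ≤ 1 := finrank_le_one (1 : ↥L) hall
    rw [hL.finrank_eq] at hle
    omega
  · -- similitudes
    intro k hk
    obtain ⟨⟨a, b, rfl⟩, _⟩ := (hmemL k).1 hk
    have hN : ρ (nrm B QE v₁ v₂ a b) ∈ L := by
      rw [← h.aop_mul_adj hb]
      exact L.mul_mem hk (hadjL a b hk)
    obtain ⟨c, hc⟩ := hscal _ hN
    refine ⟨c, fun v => ?_⟩
    rw [h.Q_eq, h.QE_aop hb, ← hc, h.Q_eq v, ← Algebra.smul_def, map_smul, smul_eq_mul]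
  · -- normaliser
    have hfwd : ∀ g : GL ι F, g ∈ subalgebraNormalizer ρ.range ⊓ isometryGroup F ⇑Q → ∀ k : Matrix ι ι F, k ∈ L →
        (g : Matrix ι ι F) * k * ((g⁻¹ : GL ι F) : Matrix ι ι F) ∈ L := by
      intro g hg k hk
      obtain ⟨hkA, hpow⟩ := (hmemL k).1 hk
      refine (hmemL _).2 ⟨h.conj_mem_algA hb hα (semiIso_of_mem hinj hg) k hkA, ?_⟩
      rw [Units.conj_pow, hpow]
    intro g hg k
    constructor
    · exact hfwd g hg k
    · intro hk
      have := hfwd g⁻¹ (Subgroup.inv_mem _ hg) _ hk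
      rw [inv_inv] at this
      have e : ((g⁻¹ : GL ι F) : Matrix ι ι F) * ((g : Matrix ι ι F) * k * ((g⁻¹ : GL ι F) : Matrix ι ι F)) *
          (g : Matrix ι ι F) = k := by
        simp only [← mul_assoc]
        rw [gl_inv_mul, one_mul, mul_assoc, gl_inv_mul, mul_one]
      rw [e] at this
      exact this

end Forms

section final

universe u

/-- **(H1)** a SELF-ADJOINT field subalgebra `K` of odd degree `r` with `2 r = n`: `N(K) ∩ O(Q)` normalises a quadratic
field `L` of similitudes (adjoint-closed, not self-adjoint), or stabilises a pair of complementary totally singular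
`r`-spaces.  All characteristics. -/
theorem fsa_half {F : Type u} [Field F] [Fintype F] {ι : Type} [Fintype ι] [DecidableEq ι]
    (Q : QuadraticForm F (ι → F)) (hQ : (polarBilin Q).Nondegenerate) {r : ℕ} (hr : Odd r)
    (hn : Fintype.card ι = 2 * r) {K : Subalgebra F (Matrix ι ι F)} (hK : IsFieldSubalgebra r K)
    (hsa : IsSelfAdjointFor (polar ⇑Q) K) :
    (∃ L : Subalgebra F (Matrix ι ι F), IsFieldSubalgebra 2 L ∧ IsAdjointClosedFor (polar ⇑Q) L ∧
        ¬ IsSelfAdjointFor (polar ⇑Q) L ∧ (∀ k ∈ L, ∃ c : F, ∀ v, Q (k *ᵥ v) = c * Q v) ∧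
        subalgebraNormalizer K ⊓ isometryGroup F ⇑Q ≤ subalgebraNormalizer L) ∨
    (∃ D : Fin 2 → Submodule F (ι → F), IsMDecomposition r D ∧ (∀ i, IsTotallySingularQuad ⇑Q (D i)) ∧
        subalgebraNormalizer K ⊓ isometryGroup F ⇑Q ≤ decompositionStabilizer D) := by
  classical
  have hr0 : 0 < r := hr.pos
  obtain ⟨E, iE, iA, ρ, hinj, hrange, hfr⟩ := exists_model' r hr0 K hK
  have hfd : FiniteDimensional F E := Module.finite_of_finrank_pos (by rw [hfr]; exact hr0)
  subst hrange
  have hctx : FsaCtx ρ Q := ⟨hinj, hQ, fun a u v => hsa (ρ a) ⟨a, rfl⟩ u v⟩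
  obtain ⟨B, QE, hB, hQE⟩ := exists_forms hctx
  have h : Forms ρ Q B QE := ⟨hctx, hB, hQE⟩
  have hcard : Fintype.card ι = 2 * finrank F E := by rw [hfr]; exact hn
  by_cases hiso : ∃ v : ι → F, v ≠ 0 ∧ QE v = 0
  · obtain ⟨v, hv, hs⟩ := hiso
    obtain ⟨D, hD, hts, hstab⟩ := h.pair_of_isotropic hcard hv hs
    right
    rw [hfr] at hD
    exact ⟨D, hD, hts, fun g hg => hstab g (semiIso_of_mem hinj hg)⟩
  · push Not at hiso
    left
    exact h.funi_of_anisotropic hcard (by rw [hfr]; exact hr) hiso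

end final

end Cfsg.Agent.Lib.Helper25.OEFsa
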