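import Mathlib
import Cfsg.Prelude.Def_GeometricClasses
import Cfsg.Agent.Lib.Helper25.OEFsaMain

/-!
OMEGA-EVEN heavy leaf (H1) (helper25), part 9: the statement for a plain function `Q` with `IsNondegenerateQuadraticForm Q`
(the shape of PART 1, `ECtx`), generic index type and `Fin n`.
-/

set_option autoImplicit false
set_option linter.unusedSectionVars false
set_option linter.unusedVariables false

namespace Cfsg.Agent.Lib.Helper25.OEFsa
open Matrix Module QuadraticMap Cfsg Cfsg.Geo

section conv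
variable {F : Type*} [Field F] {ι : Type} [Fintype ι] [DecidableEq ι] {Q : (ι → F) → F}

/-- the `QuadraticForm` of a function satisfying `IsNondegenerateQuadraticForm` -/
noncomputable def qfOf (hQ : IsNondegenerateQuadraticForm Q) : QuadraticForm F (ι → F) where
  toFun := Q
  toFun_smul := by
    intro a x
    rw [hQ.smul, _root_.sq, smul_eq_mul]
  exists_companion' := by
    refine ⟨LinearMap.mk₂ F (polar Q) hQ.polar_bilinear.add_left hQ.polar_bilinear.smul_left
      hQ.polar_bilinear.add_right hQ.polar_bilinear.smul_right, fun x y => ?_⟩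
    rw [LinearMap.mk₂_apply, polar]
    ring

theorem qfOf_coe (hQ : IsNondegenerateQuadraticForm Q) : ⇑(qfOf hQ) = Q := rfl

theorem qfOf_nondeg (hQ : IsNondegenerateQuadraticForm Q) : (polarBilin (qfOf hQ)).Nondegenerate := by
  constructor
  · intro x hx
    by_contra hne
    obtain ⟨_, ⟨y, hy⟩⟩ := hQ.nondegenerate x hne
    exact hy (hx y)
  · intro y hy
    by_contra hne
    obtain ⟨⟨x, hx⟩, _⟩ := hQ.nondegenerate y hne
    exact hx (hy x)

end conv

section final2

universe u

/-- **(H1)** for a plain function `Q`, generic index type -/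
theorem fsa_half_fun {F : Type u} [Field F] [Fintype F] {ι : Type} [Fintype ι] [DecidableEq ι]
    {Q : (ι → F) → F} (hQ : IsNondegenerateQuadraticForm Q) {r : ℕ} (hr : Odd r)
    (hn : Fintype.card ι = 2 * r) {K : Subalgebra F (Matrix ι ι F)} (hK : IsFieldSubalgebra r K)
    (hsa : IsSelfAdjointFor (polar Q) K) :
    (∃ L : Subalgebra F (Matrix ι ι F), IsFieldSubalgebra 2 L ∧ IsAdjointClosedFor (polar Q) L ∧
        ¬ IsSelfAdjointFor (polar Q) L ∧ (∀ k ∈ L, ∃ c : F, ∀ v, Q (k *ᵥ v) = c * Q v) ∧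
        subalgebraNormalizer K ⊓ isometryGroup F Q ≤ subalgebraNormalizer L) ∨
    (∃ D : Fin 2 → Submodule F (ι → F), IsMDecomposition r D ∧ (∀ i, IsTotallySingularQuad Q (D i)) ∧
        subalgebraNormalizer K ⊓ isometryGroup F Q ≤ decompositionStabilizer D) :=
  fsa_half (qfOf hQ) (qfOf_nondeg hQ) hr hn hK hsa

end final2

end Cfsg.Agent.Lib.Helper25.OEFsa

namespace Cfsg.Agent.Lib.Helper25.OELeaf
open Matrix Cfsg Cfsg.Geo

variable {F : Type*} [Field F] [Fintype F] {n : ℕ} {Q : (Fin n → F) → F}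

/-- **(H1)**, the exact statement accepted by lead (msg 4335, helper13's proposal 4311) -/
theorem funi_or_pair_of_fsa_half {r : ℕ} (hQ : IsNondegenerateQuadraticForm Q) (hn : n = 2 * r) (hr : Odd r)
    (K : Subalgebra F (Matrix (Fin n) (Fin n) F)) (hK : IsFieldSubalgebra r K)
    (hsa : IsSelfAdjointFor (QuadraticMap.polar Q) K) :
    (∃ K₂ : Subalgebra F (Matrix (Fin n) (Fin n) F), IsFieldSubalgebra 2 K₂ ∧
        IsAdjointClosedFor (QuadraticMap.polar Q) K₂ ∧ ¬ IsSelfAdjointFor (QuadraticMap.polar Q) K₂ ∧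
        (∀ k ∈ K₂, ∃ c : F, ∀ v, Q (k *ᵥ v) = c * Q v) ∧
        subalgebraNormalizer K ⊓ isometryGroup F Q ≤ subalgebraNormalizer K₂) ∨
    (∃ D : Fin 2 → Submodule F (Fin n → F), IsMDecomposition r D ∧ (∀ i, IsTotallySingularQuad Q (D i)) ∧
        subalgebraNormalizer K ⊓ isometryGroup F Q ≤ decompositionStabilizer D) :=
  Cfsg.Agent.Lib.Helper25.OEFsa.fsa_half_fun hQ hr (by rw [Fintype.card_fin]; exact hn) hK hsa

end Cfsg.Agent.Lib.Helper25.OELeaf
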