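import Mathlib
import Cfsg.Prelude.Def_GeometricClasses
import Cfsg.Agent.Lib.Helper15.SymIso
import Cfsg.Agent.Lib.Helper25.OEFsaMain
import Cfsg.Agent.Lib.Helper25.OEFsaH1

/-!
OMEGA-EVEN (helper25), by-product of the transfer machinery of (H1): in characteristic 2 a SELF-ADJOINT field subalgebra `K` of
degree `r` has `n / r` EVEN (the `E`-valued form `B` is alternating and non-degenerate on the `E`-space `V`).  In particular for
`n = 10` a self-adjoint field of degree 2 forces `q` odd.
-/

set_option autoImplicit false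
set_option linter.unusedSectionVars false
set_option linter.unusedVariables false

namespace Cfsg.Agent.Lib.Helper25.OEFsa
open Matrix Module QuadraticMap Cfsg Cfsg.Geo

section espace

variable {F : Type*} [Field F] {E : Type*} [Field E] [Algebra F E]
  {ι : Type} [Fintype ι] [DecidableEq ι]

/-- `V = F^ι` as an `E`-space through `ρ` -/
def VE (ρ : E →ₐ[F] Matrix ι ι F) : Type _ := ι → F

/-- the underlying vector -/
def VE.out {ρ : E →ₐ[F] Matrix ι ι F} (v : VE ρ) : ι → F := v

instance (ρ : E →ₐ[F] Matrix ι ι F) : AddCommGroup (VE ρ) := inferInstanceAs (AddCommGroup (ι → F))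

instance (ρ : E →ₐ[F] Matrix ι ι F) : Module F (VE ρ) := inferInstanceAs (Module F (ι → F))

instance (ρ : E →ₐ[F] Matrix ι ι F) : Module E (VE ρ) where
  smul := fun a v => (ρ a *ᵥ v.out : ι → F)
  one_smul := fun v => by
    show (ρ 1 *ᵥ v.out : ι → F) = v
    rw [map_one, Matrix.one_mulVec]
    rfl
  mul_smul := fun a b v => by
    show (ρ (a * b) *ᵥ v.out : ι → F) = (ρ a *ᵥ (ρ b *ᵥ v.out) : ι → F)
    rw [map_mul, Matrix.mulVec_mulVec]
  smul_zero := fun a => Matrix.mulVec_zero (ρ a)
  smul_add := fun a u v => Matrix.mulVec_add (ρ a) u.out v.out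
  add_smul := fun a b v => by
    show (ρ (a + b) *ᵥ v.out : ι → F) = (ρ a *ᵥ v.out + ρ b *ᵥ v.out : ι → F)
    rw [map_add, Matrix.add_mulVec]
  zero_smul := fun v => by
    show (ρ 0 *ᵥ v.out : ι → F) = (0 : ι → F)
    rw [map_zero, Matrix.zero_mulVec]

theorem VE.out_smul {ρ : E →ₐ[F] Matrix ι ι F} (a : E) (v : VE ρ) : (a • v).out = ρ a *ᵥ v.out := rfl

theorem VE.out_add {ρ : E →ₐ[F] Matrix ι ι F} (u v : VE ρ) : (u + v).out = u.out + v.out := rfl

instance (ρ : E →ₐ[F] Matrix ι ι F) : IsScalarTower F E (VE ρ) where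
  smul_assoc := fun c a v => by
    show (ρ (c • a) *ᵥ v.out : ι → F) = c • (ρ a *ᵥ v.out : ι → F)
    rw [map_smul, Matrix.smul_mulVec]

end espace

variable {F : Type*} [Field F] [Fintype F] {E : Type*} [Field E] [Algebra F E] [FiniteDimensional F E]
  {ι : Type} [Fintype ι] [DecidableEq ι]
  {ρ : E →ₐ[F] Matrix ι ι F} {Q : QuadraticForm F (ι → F)} {B : (ι → F) → (ι → F) → E} {QE : (ι → F) → E}

/-- in characteristic 2 the `E`-dimension of `V` is even -/
theorem Forms.even_finrank_VE (h : Forms ρ Q B QE) (h2 : (2 : F) = 0) : Even (finrank E (VE ρ)) := by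
  have h2E : (2 : E) = 0 := two_eq_zero_E h2
  let γ : LinearMap.BilinForm E (VE ρ) :=
    LinearMap.mk₂ E (fun u v : VE ρ => B u.out v.out)
      (fun u u' v => h.B_add_left u.out u'.out v.out) (fun c u v => h.B_smul_left c u.out v.out)
      (fun u v v' => h.B_add_right u.out v.out v'.out) (fun c u v => h.B_smul_right c u.out v.out)
  have hfd : FiniteDimensional E (VE ρ) := by
    have : Module.Finite F (VE ρ) := inferInstanceAs (Module.Finite F (ι → F))
    exact Module.Finite.of_restrictScalars_finite F E (VE ρ)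
  obtain ⟨k, φ, hk, -⟩ := Cfsg.Agent.Lib.Helper15.SymIso.exists_symp_equiv (F := E) (VE ρ) γ
    (fun x => by
      show B x.out x.out = 0
      rw [h.B_self, h2E, zero_mul])
    (fun x hx => h.B_nondeg x.out (fun u => by
      rw [h.B_symm]
      exact hx u))
  exact ⟨k, by omega⟩

theorem finrank_VE (ρ : E →ₐ[F] Matrix ι ι F) : finrank F E * finrank E (VE ρ) = Fintype.card ι := by
  have : Module.Finite F (VE ρ) := inferInstanceAs (Module.Finite F (ι → F))
  have : Module.Finite E (VE ρ) := Module.Finite.of_restrictScalars_finite F E (VE ρ)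
  rw [Module.finrank_mul_finrank F E (VE ρ)]
  exact Module.finrank_fintype_fun_eq_card F

section final3

universe u

/-- in characteristic 2, a self-adjoint field subalgebra of degree `r` of the matrix algebra of a non-degenerate quadratic space of
dimension `m r` has `m` even -/
theorem even_of_fsa_two {F : Type u} [Field F] [Fintype F] {ι : Type} [Fintype ι] [DecidableEq ι]
    (Q : QuadraticForm F (ι → F)) (hQ : (polarBilin Q).Nondegenerate) (h2 : (2 : F) = 0) {r m : ℕ} (hr : 0 < r)
    (hn : Fintype.card ι = m * r) {K : Subalgebra F (Matrix ι ι F)} (hK : IsFieldSubalgebra r K)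
    (hsa : IsSelfAdjointFor (polar ⇑Q) K) : Even m := by
  classical
  obtain ⟨E, iE, iA, ρ, hinj, hrange, hfr⟩ := exists_model' r hr K hK
  have hfd : FiniteDimensional F E := Module.finite_of_finrank_pos (by rw [hfr]; exact hr)
  subst hrange
  have hctx : FsaCtx ρ Q := ⟨hinj, hQ, fun a u v => hsa (ρ a) ⟨a, rfl⟩ u v⟩
  obtain ⟨B, QE, hB, hQE⟩ := exists_forms hctx
  have h : Forms ρ Q B QE := ⟨hctx, hB, hQE⟩
  have hev := h.even_finrank_VE h2
  have hmul := finrank_VE ρ
  rw [hfr, hn, mul_comm] at hmul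
  have : finrank E (VE ρ) = m := Nat.eq_of_mul_eq_mul_right hr hmul
  rw [this] at hev
  exact hev

/-- the same for a plain function `Q` -/
theorem even_of_fsa_two_fun {F : Type u} [Field F] [Fintype F] {ι : Type} [Fintype ι] [DecidableEq ι]
    {Q : (ι → F) → F} (hQ : IsNondegenerateQuadraticForm Q) (h2 : (2 : F) = 0) {r m : ℕ} (hr : 0 < r)
    (hn : Fintype.card ι = m * r) {K : Subalgebra F (Matrix ι ι F)} (hK : IsFieldSubalgebra r K)
    (hsa : IsSelfAdjointFor (polar Q) K) : Even m :=
  even_of_fsa_two (qfOf hQ) (qfOf_nondeg hQ) h2 hr hn hK hsa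

/-- a self-adjoint field subalgebra of degree `r` with `n / r` odd forces odd characteristic -/
theorem two_ne_zero_of_fsa_odd {F : Type u} [Field F] [Fintype F] {ι : Type} [Fintype ι] [DecidableEq ι]
    (Q : QuadraticForm F (ι → F)) (hQ : (polarBilin Q).Nondegenerate) {r m : ℕ} (hr : 0 < r) (hm : Odd m)
    (hn : Fintype.card ι = m * r) {K : Subalgebra F (Matrix ι ι F)} (hK : IsFieldSubalgebra r K)
    (hsa : IsSelfAdjointFor (polar ⇑Q) K) : (2 : F) ≠ 0 := by
  intro h2
  exact (Nat.not_even_iff_odd.2 hm) (even_of_fsa_two Q hQ h2 hr hn hK hsa)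

end final3

end Cfsg.Agent.Lib.Helper25.OEFsa
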