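import Mathlib
import Cfsg.Prelude.Def_GeometricClasses
import Cfsg.Agent.Lib.Helper25.OEFsaOdd
import Cfsg.Agent.Lib.Helper25.AutO3

/-!
C3O2 (helper25): `O_{n/2}(q^2).2` is maximal in `Ω_n(q)` (`q` odd, self-adjoint field `K` of degree 2) - shared definitions.

Built on the transfer `Forms ρ Q B QE` (`OEFsa`): `E` an extension field of `F`, `ρ : E →ₐ[F] M_ι(F)`, `B` the `E`-bilinear form
and `QE` the `E`-quadratic form with `polar Q = tr ∘ B`, `Q = tr ∘ QE`.

* `h.QEf : QuadraticForm E (VE ρ)` : `QE` as a quadratic form over `E` on `V = F^ι` seen as an `E`-space; `polar h.QEf = B`.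
* `esF h p w = egen h.QEf p w` : the `E`-Siegel (Eichler) map `x ↦ x + B(p,x) w - B(w,x) p - QE(w) B(p,x) p` (any `E`).
* `ES h h2 hnd p w hp hpw : ↥(Cfsg.Omega F Q)` : the `E`-Siegel map as an element of `Ω(Q)` (`q` odd), `act_ES`.
* `ES_comm` : it commutes with every `ρ a`.
-/

set_option autoImplicit false
set_option linter.unusedSectionVars false
set_option linter.unusedVariables false

namespace Cfsg.Agent.Lib.Helper25.C3O2
open Matrix Module QuadraticMap Cfsg Cfsg.Geo Cfsg.Agent.Lib.Helper25.OEFsa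
  Cfsg.Agent.Lib.Helper25.CD Cfsg.Agent.Lib.Helper25.Siegel
  Cfsg.Agent.Lib.Helper5.NSMax Cfsg.Agent.Lib.Helper5.TSMax Cfsg.Agent.Lib.Helper25.AutO

variable {F : Type*} [Field F] [Fintype F] {E : Type*} [Field E] [Algebra F E] [FiniteDimensional F E]
  {ι : Type} [Fintype ι] [DecidableEq ι]
  {ρ : E →ₐ[F] Matrix ι ι F} {Q : QuadraticForm F (ι → F)} {B : (ι → F) → (ι → F) → E} {QE : (ι → F) → E}

/-- `QE` as a quadratic form over `E` on the `E`-space `VE ρ` -/
noncomputable def QEf (h : Forms ρ Q B QE) : QuadraticForm E (VE ρ) :=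
  QuadraticMap.ofPolar (fun v : VE ρ => QE v.out)
    (fun a x => by
      show QE (ρ a *ᵥ x.out) = (a * a) • QE x.out
      rw [h.QE_smul, smul_eq_mul])
    (fun x x' y => by
      show QE ((x.out + x'.out) + y.out) - QE (x.out + x'.out) - QE y.out =
        (QE (x.out + y.out) - QE x.out - QE y.out) + (QE (x'.out + y.out) - QE x'.out - QE y.out)
      rw [h.QE_add, h.QE_add x.out y.out, h.QE_add x'.out y.out, h.B_add_left]
      ring)
    (fun a x y => by
      show QE (ρ a *ᵥ x.out + y.out) - QE (ρ a *ᵥ x.out) - QE y.out =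
        a • (QE (x.out + y.out) - QE x.out - QE y.out)
      rw [h.QE_add, h.QE_add x.out y.out, h.B_smul_left, smul_eq_mul]
      ring)

theorem QEf_apply (h : Forms ρ Q B QE) (v : VE ρ) : QEf h v = QE v.out := rfl

theorem polar_QEf (h : Forms ρ Q B QE) (x y : VE ρ) : polar (QEf h) x y = B x.out y.out := by
  show QE (x.out + y.out) - QE x.out - QE y.out = B x.out y.out
  rw [h.QE_add]
  ring

/-- a vector of `F^ι` seen in the `E`-space -/
def toVE (ρ : E →ₐ[F] Matrix ι ι F) (v : ι → F) : VE ρ := v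

theorem toVE_out (v : ι → F) : (toVE ρ v).out = v := rfl

/-- the `E`-Siegel map `x ↦ x + B(p,x) w - B(w,x) p - QE(w) B(p,x) p` -/
noncomputable def esF (h : Forms ρ Q B QE) (p w x : ι → F) : ι → F :=
  (egen (QEf h) (toVE ρ p) (toVE ρ w) (toVE ρ x)).out

theorem polar_QEf' (h : Forms ρ Q B QE) (x y : ι → F) : polar (QEf h) (toVE ρ x) (toVE ρ y) = B x y :=
  polar_QEf h _ _

theorem QEf_apply' (h : Forms ρ Q B QE) (v : ι → F) : QEf h (toVE ρ v) = QE v := rfl

theorem esF_apply (h : Forms ρ Q B QE) (p w x : ι → F) :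
    esF h p w x = x + ρ (B p x) *ᵥ w - ρ (B w x) *ᵥ p - ρ (QE w * B p x) *ᵥ p := by
  unfold esF egen
  rw [polar_QEf', polar_QEf', QEf_apply']
  rfl

theorem esF_add (h : Forms ρ Q B QE) {p w w' : ι → F} (hp : QE p = 0) (hw : B p w = 0) (hw' : B p w' = 0)
    (x : ι → F) : esF h p w (esF h p w' x) = esF h p (w + w') x := by
  unfold esF
  exact congrArg VE.out (egen_add (QEf h) (u := toVE ρ p) (y := toVE ρ w) (y' := toVE ρ w') hp
    ((polar_QEf' h p w).trans hw) ((polar_QEf' h p w').trans hw') (toVE ρ x))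

theorem esF_zero (h : Forms ρ Q B QE) (p x : ι → F) : esF h p 0 x = x := by
  unfold esF
  exact congrArg VE.out (egen_zero (QEf h) (toVE ρ p) (toVE ρ x))

theorem QE_esF (h : Forms ρ Q B QE) {p w : ι → F} (hp : QE p = 0) (hw : B p w = 0) (x : ι → F) :
    QE (esF h p w x) = QE x := by
  unfold esF
  exact Q_egen (QEf h) (u := toVE ρ p) (y := toVE ρ w) hp ((polar_QEf' h p w).trans hw) (toVE ρ x)

theorem Q_esF (h : Forms ρ Q B QE) {p w : ι → F} (hp : QE p = 0) (hw : B p w = 0) (x : ι → F) :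
    Q (esF h p w x) = Q x := by
  rw [h.Q_eq, QE_esF h hp hw, ← h.Q_eq]

theorem esF_rho (h : Forms ρ Q B QE) (p w : ι → F) (a : E) (x : ι → F) :
    esF h p w (ρ a *ᵥ x) = ρ a *ᵥ esF h p w x := by
  unfold esF
  exact congrArg VE.out (egen_x_smul (QEf h) (toVE ρ p) (toVE ρ w) a (toVE ρ x))

theorem esF_x_add (h : Forms ρ Q B QE) (p w x x' : ι → F) :
    esF h p w (x + x') = esF h p w x + esF h p w x' := by
  unfold esF
  exact congrArg VE.out (egen_x_add (QEf h) (toVE ρ p) (toVE ρ w) (toVE ρ x) (toVE ρ x'))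

theorem esF_x_smul (h : Forms ρ Q B QE) (p w : ι → F) (c : F) (x : ι → F) :
    esF h p w (c • x) = c • esF h p w x := by
  have e : ∀ y : ι → F, c • y = ρ (algebraMap F E c) *ᵥ y := by
    intro y
    rw [Algebra.algebraMap_eq_smul_one, map_smul, map_one, Matrix.smul_mulVec, Matrix.one_mulVec]
  rw [e, esF_rho, ← e]

theorem esF_self (h : Forms ρ Q B QE) {p w : ι → F} (hp : QE p = 0) (hw : B p w = 0) : esF h p w p = p := by
  unfold esF
  exact congrArg VE.out (egen_self (QEf h) (u := toVE ρ p) (y := toVE ρ w) hp ((polar_QEf' h p w).trans hw))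

theorem esF_fix (h : Forms ρ Q B QE) {p w v : ι → F} (h1 : B p v = 0) (h2 : B w v = 0) : esF h p w v = v := by
  unfold esF
  exact congrArg VE.out (egen_fix (QEf h) (u := toVE ρ p) (y := toVE ρ w) (v := toVE ρ v)
    ((polar_QEf' h p v).trans h1) ((polar_QEf' h w v).trans h2))

/-- the `E`-Siegel map as an `F`-linear map -/
noncomputable def esLin (h : Forms ρ Q B QE) (p w : ι → F) : (ι → F) →ₗ[F] (ι → F) where
  toFun := esF h p w
  map_add' := esF_x_add h p w
  map_smul' := esF_x_smul h p w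

theorem esLin_apply (h : Forms ρ Q B QE) (p w x : ι → F) : esLin h p w x = esF h p w x := rfl

/-- the matrix of the `E`-Siegel map -/
noncomputable def esMat (h : Forms ρ Q B QE) (p w : ι → F) : Matrix ι ι F := LinearMap.toMatrix' (esLin h p w)

theorem esMat_mulVec (h : Forms ρ Q B QE) (p w x : ι → F) : esMat h p w *ᵥ x = esF h p w x := by
  unfold esMat
  rw [← Matrix.toLin'_apply, Matrix.toLin'_toMatrix']
  rfl

theorem esMat_mul (h : Forms ρ Q B QE) {p w w' : ι → F} (hp : QE p = 0) (hw : B p w = 0) (hw' : B p w' = 0) :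
    esMat h p w * esMat h p w' = esMat h p (w + w') := by
  apply Matrix.toLin'.injective
  apply LinearMap.ext
  intro x
  rw [Matrix.toLin'_apply, Matrix.toLin'_apply, ← Matrix.mulVec_mulVec, esMat_mulVec, esMat_mulVec, esMat_mulVec,
    esF_add h hp hw hw']

theorem esMat_zero (h : Forms ρ Q B QE) (p : ι → F) : esMat h p 0 = 1 := by
  apply Matrix.toLin'.injective
  apply LinearMap.ext
  intro x
  rw [Matrix.toLin'_apply, esMat_mulVec, esF_zero, Matrix.toLin'_one, LinearMap.id_apply]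

theorem B_neg_right' (h : Forms ρ Q B QE) {p w : ι → F} (hw : B p w = 0) : B p (-w) = 0 := by
  rw [h.B_neg_right, hw, neg_zero]

/-- the `E`-Siegel map as an isometry of `Q` -/
noncomputable def esG (h : Forms ρ Q B QE) (p w : ι → F) (hp : QE p = 0) (hw : B p w = 0) :
    ↥(Cfsg.isometryGroup F ⇑Q) :=
  ⟨⟨esMat h p w, esMat h p (-w),
    by rw [esMat_mul h hp hw (B_neg_right' h hw), add_neg_cancel, esMat_zero],
    by rw [esMat_mul h hp (B_neg_right' h hw) hw, neg_add_cancel, esMat_zero]⟩, by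
    rw [mem_iso_iff]
    intro x
    rw [toLE_apply]
    show Q (esMat h p w *ᵥ x) = Q x
    rw [esMat_mulVec, Q_esF h hp hw]⟩

theorem esG_coe (h : Forms ρ Q B QE) (p w : ι → F) (hp : QE p = 0) (hw : B p w = 0) :
    ((esG h p w hp hw : GL ι F) : Matrix ι ι F) = esMat h p w := rfl

theorem toOG_esG (h : Forms ρ Q B QE) (p w : ι → F) (hp : QE p = 0) (hw : B p w = 0) (x : ι → F) :
    toOG Q (esG h p w hp hw) x = esF h p w x := by
  rw [toOG_apply, esG_coe, esMat_mulVec]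

theorem esG_mul (h : Forms ρ Q B QE) {p w w' : ι → F} (hp : QE p = 0) (hw : B p w = 0) (hw' : B p w' = 0) :
    esG h p w hp hw * esG h p w' hp hw' =
      esG h p (w + w') hp (by rw [h.B_add_right, hw, hw', add_zero]) := by
  apply Subtype.ext
  apply Units.ext
  show esMat h p w * esMat h p w' = esMat h p (w + w')
  exact esMat_mul h hp hw hw'

theorem B_smulF_right (h : Forms ρ Q B QE) {p w : ι → F} (hw : B p w = 0) (c : F) : B p (c • w) = 0 := by
  have e : c • w = ρ (algebraMap F E c) *ᵥ w := by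
    rw [Algebra.algebraMap_eq_smul_one, map_smul, map_one, Matrix.smul_mulVec, Matrix.one_mulVec]
  rw [e, h.B_smul_right, hw, mul_zero]

/-- the `E`-Siegel maps lie in `Ω(Q)` (`q` odd: they are squares) -/
theorem esG_mem_omega (h : Forms ρ Q B QE) (h2 : (2 : F) ≠ 0) (p w : ι → F) (hp : QE p = 0) (hw : B p w = 0) :
    esG h p w hp hw ∈ Cfsg.Omega F ⇑Q := by
  have hw2 : B p ((2 : F)⁻¹ • w) = 0 := B_smulF_right h hw _
  have e : esG h p w hp hw = esG h p ((2 : F)⁻¹ • w) hp hw2 * esG h p ((2 : F)⁻¹ • w) hp hw2 := by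
    rw [esG_mul h hp hw2 hw2]
    apply Subtype.ext
    apply Units.ext
    show esMat h p w = esMat h p ((2 : F)⁻¹ • w + (2 : F)⁻¹ • w)
    congr 1
    rw [← add_smul, ← two_mul, mul_inv_cancel₀ h2, one_smul]
  rw [e]
  exact sq_mem_omega Q h2 h.ctx.nd _

/-- the `E`-Siegel map as an element of `Ω(Q)` -/
noncomputable def ES (h : Forms ρ Q B QE) (h2 : (2 : F) ≠ 0) (p w : ι → F) (hp : QE p = 0) (hw : B p w = 0) :
    ↥(Cfsg.Omega F ⇑Q) :=
  ⟨esG h p w hp hw, esG_mem_omega h h2 p w hp hw⟩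

theorem act_ES (h : Forms ρ Q B QE) (h2 : (2 : F) ≠ 0) (p w : ι → F) (hp : QE p = 0) (hw : B p w = 0) (x : ι → F) :
    act Q (ES h h2 p w hp hw) x = esF h p w x := by
  rw [act_apply]
  exact toOG_esG h p w hp hw x

/-- the `E`-Siegel maps commute with `ρ a` -/
theorem esMat_comm (h : Forms ρ Q B QE) (p w : ι → F) (a : E) : esMat h p w * ρ a = ρ a * esMat h p w := by
  apply Matrix.toLin'.injective
  apply LinearMap.ext
  intro x
  rw [Matrix.toLin'_apply, Matrix.toLin'_apply, ← Matrix.mulVec_mulVec, ← Matrix.mulVec_mulVec, esMat_mulVec,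
    esMat_mulVec, esF_rho]


/-! ### the trace-zero generator `κ` of `E` (`[E : F] = 2`, `q` odd), `J = ρ κ` -/

/-- `κ` generates `E = F ⊕ F κ`, `tr κ = 0`, `κ² = δ ∈ F` -/
structure Kap (κ : E) (δ : F) : Prop where
  ne : κ ≠ 0
  tr0 : Algebra.trace F E κ = 0
  sq : κ * κ = algebraMap F E δ
  span : ∀ x : E, ∃ a b : F, x = algebraMap F E a + algebraMap F E b * κ
  tr1 : Algebra.trace F E (1 : E) = 2

namespace Kap
variable {κ : E} {δ : F}

theorem delta_ne (hκ : Kap κ δ) : δ ≠ 0 := by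
  rintro rfl
  have := hκ.sq
  rw [map_zero, mul_self_eq_zero] at this
  exact hκ.ne this

theorem tr_ab (hκ : Kap κ δ) (a b : F) :
    Algebra.trace F E (algebraMap F E a + algebraMap F E b * κ) = 2 * a := by
  rw [map_add, Algebra.algebraMap_eq_smul_one, Algebra.algebraMap_eq_smul_one, smul_mul_assoc, one_mul, map_smul,
    map_smul, hκ.tr1, hκ.tr0, smul_eq_mul, smul_eq_mul, mul_zero, add_zero, mul_comm]

theorem tr_kap_ab (hκ : Kap κ δ) (a b : F) :
    Algebra.trace F E (κ * (algebraMap F E a + algebraMap F E b * κ)) = 2 * b * δ := by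
  have e : κ * (algebraMap F E a + algebraMap F E b * κ) = algebraMap F E (b * δ) + algebraMap F E a * κ := by
    rw [map_mul, ← hκ.sq]
    ring
  rw [e, hκ.tr_ab]
  ring

theorem eq_zero_of_tr (hκ : Kap κ δ) (h2 : (2 : F) ≠ 0) {c : E} (h1 : Algebra.trace F E c = 0)
    (h3 : Algebra.trace F E (κ * c) = 0) : c = 0 := by
  obtain ⟨a, b, rfl⟩ := hκ.span c
  rw [hκ.tr_ab] at h1
  rw [hκ.tr_kap_ab] at h3
  have ha : a = 0 := by
    rcases mul_eq_zero.1 h1 with h | h
    · exact absurd h h2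
    · exact h
  have hb : b = 0 := by
    rcases mul_eq_zero.1 h3 with h | h
    · rcases mul_eq_zero.1 h with h' | h'
      · exact absurd h' h2
      · exact h'
    · exact absurd h hκ.delta_ne
  rw [ha, hb, map_zero, zero_mul, add_zero]

end Kap

section kap
variable {κ : E} {δ : F}

/-- `f(J x, y) = tr(κ B(x,y))` -/
theorem polar_J (h : Forms ρ Q B QE) (κ : E) (x y : ι → F) :
    polar Q (ρ κ *ᵥ x) y = Algebra.trace F E (κ * B x y) := h.hB κ x y

theorem polar_J_right (h : Forms ρ Q B QE) (κ : E) (x y : ι → F) :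
    polar Q x (ρ κ *ᵥ y) = Algebra.trace F E (κ * B x y) := by
  rw [polar_comm, polar_J h, h.B_symm]

theorem B_eq_zero_iff (h : Forms ρ Q B QE) (hκ : Kap κ δ) (h2 : (2 : F) ≠ 0) (x y : ι → F) :
    B x y = 0 ↔ polar Q x y = 0 ∧ polar Q (ρ κ *ᵥ x) y = 0 := by
  constructor
  · intro h0
    rw [← h.tr_B, polar_J h, h0, mul_zero, map_zero]
    exact ⟨rfl, rfl⟩
  · rintro ⟨h1, h3⟩
    rw [← h.tr_B] at h1
    rw [polar_J h] at h3
    exact hκ.eq_zero_of_tr h2 h1 h3

theorem J_J (hκ : Kap κ δ) (x : ι → F) : ρ κ *ᵥ (ρ κ *ᵥ x) = δ • x := by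
  rw [← rho_mul_mulVec, hκ.sq, Algebra.algebraMap_eq_smul_one, map_smul, map_one, Matrix.smul_mulVec,
    Matrix.one_mulVec]

theorem Q_J (h : Forms ρ Q B QE) (hκ : Kap κ δ) (x : ι → F) : Q (ρ κ *ᵥ x) = δ * Q x := by
  rw [h.hQE, hκ.sq, Algebra.algebraMap_eq_smul_one, smul_mul_assoc, one_mul, map_smul, h.tr_QE, smul_eq_mul]

theorem polar_J_J (h : Forms ρ Q B QE) (hκ : Kap κ δ) (x y : ι → F) :
    polar Q (ρ κ *ᵥ x) (ρ κ *ᵥ y) = δ * polar Q x y := by
  rw [h.ctx.sa, J_J hκ, polar_smul_right, smul_eq_mul]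

end kap

/-! ### `E`-reflections -/

open scoped commutatorElement

/-- the `E`-reflection `x ↦ x - (B(b,x)/QE(b)) b` -/
noncomputable def erF (h : Forms ρ Q B QE) (b x : ι → F) : ι → F := x - ρ (B b x * (QE b)⁻¹) *ᵥ b

theorem erF_apply (h : Forms ρ Q B QE) (b x : ι → F) : erF h b x = x - ρ (B b x * (QE b)⁻¹) *ᵥ b := rfl

theorem QE_sub_smul (h : Forms ρ Q B QE) (x b : ι → F) (l : E) :
    QE (x - ρ l *ᵥ b) = QE x + l * l * QE b - l * B b x := by
  have e : x - ρ l *ᵥ b = x + ρ (-l) *ᵥ b := by rw [rho_neg_mulVec, sub_eq_add_neg]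
  rw [e, h.QE_add, h.QE_smul, h.B_smul_right, h.B_symm x b]
  ring

theorem QE_erF (h : Forms ρ Q B QE) {b : ι → F} (hb : QE b ≠ 0) (x : ι → F) : QE (erF h b x) = QE x := by
  rw [erF_apply, QE_sub_smul h]
  field_simp
  ring

theorem Q_erF (h : Forms ρ Q B QE) {b : ι → F} (hb : QE b ≠ 0) (x : ι → F) : Q (erF h b x) = Q x := by
  rw [h.Q_eq, QE_erF h hb, ← h.Q_eq]

theorem erF_rho (h : Forms ρ Q B QE) (b : ι → F) (a : E) (x : ι → F) :
    erF h b (ρ a *ᵥ x) = ρ a *ᵥ erF h b x := by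
  rw [erF_apply, erF_apply, h.B_smul_right, Matrix.mulVec_sub, ← rho_mul_mulVec, mul_assoc]

theorem erF_x_add (h : Forms ρ Q B QE) (b x x' : ι → F) : erF h b (x + x') = erF h b x + erF h b x' := by
  rw [erF_apply, erF_apply, erF_apply, h.B_add_right, add_mul, rho_add_mulVec]
  abel

theorem erF_x_smul (h : Forms ρ Q B QE) (b : ι → F) (c : F) (x : ι → F) : erF h b (c • x) = c • erF h b x := by
  have e : ∀ y : ι → F, c • y = ρ (algebraMap F E c) *ᵥ y := by
    intro y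
    rw [Algebra.algebraMap_eq_smul_one, map_smul, map_one, Matrix.smul_mulVec, Matrix.one_mulVec]
  rw [e, erF_rho, ← e]

theorem erF_fix (h : Forms ρ Q B QE) {b v : ι → F} (hbv : B b v = 0) : erF h b v = v := by
  rw [erF_apply, hbv, zero_mul, rho_zero_mulVec, sub_zero]

theorem B_erF_self (h : Forms ρ Q B QE) {b : ι → F} (hb : QE b ≠ 0) (x : ι → F) : B b (erF h b x) = - B b x := by
  have e : x - ρ (B b x * (QE b)⁻¹) *ᵥ b = x + ρ (-(B b x * (QE b)⁻¹)) *ᵥ b := by
    rw [rho_neg_mulVec, sub_eq_add_neg]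
  rw [erF_apply, e, h.B_add_right, h.B_smul_right, h.B_self]
  field_simp
  ring

theorem erF_erF (h : Forms ρ Q B QE) {b : ι → F} (hb : QE b ≠ 0) (x : ι → F) : erF h b (erF h b x) = x := by
  rw [erF_apply h b (erF h b x), B_erF_self h hb, erF_apply, neg_mul, rho_neg_mulVec]
  abel

/-- the `E`-reflection as an `F`-linear map -/
noncomputable def erLin (h : Forms ρ Q B QE) (b : ι → F) : (ι → F) →ₗ[F] (ι → F) where
  toFun := erF h b
  map_add' := erF_x_add h b
  map_smul' := erF_x_smul h b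

/-- the matrix of the `E`-reflection -/
noncomputable def erMat (h : Forms ρ Q B QE) (b : ι → F) : Matrix ι ι F := LinearMap.toMatrix' (erLin h b)

theorem erMat_mulVec (h : Forms ρ Q B QE) (b x : ι → F) : erMat h b *ᵥ x = erF h b x := by
  unfold erMat
  rw [← Matrix.toLin'_apply, Matrix.toLin'_toMatrix']
  rfl

theorem erMat_mul_self (h : Forms ρ Q B QE) {b : ι → F} (hb : QE b ≠ 0) : erMat h b * erMat h b = 1 := by
  apply Matrix.toLin'.injective
  apply LinearMap.ext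
  intro x
  rw [Matrix.toLin'_apply, ← Matrix.mulVec_mulVec, erMat_mulVec, erMat_mulVec, erF_erF h hb, Matrix.toLin'_one,
    LinearMap.id_apply]

/-- the `E`-reflection as an isometry of `Q` -/
noncomputable def erG (h : Forms ρ Q B QE) (b : ι → F) (hb : QE b ≠ 0) : ↥(Cfsg.isometryGroup F ⇑Q) :=
  ⟨⟨erMat h b, erMat h b, erMat_mul_self h hb, erMat_mul_self h hb⟩, by
    rw [mem_iso_iff]
    intro x
    rw [toLE_apply]
    show Q (erMat h b *ᵥ x) = Q x
    rw [erMat_mulVec, Q_erF h hb]⟩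

theorem erG_coe (h : Forms ρ Q B QE) (b : ι → F) (hb : QE b ≠ 0) :
    ((erG h b hb : GL ι F) : Matrix ι ι F) = erMat h b := rfl

theorem erG_inv (h : Forms ρ Q B QE) (b : ι → F) (hb : QE b ≠ 0) : (erG h b hb)⁻¹ = erG h b hb := by
  rw [inv_eq_iff_mul_eq_one]
  apply Subtype.ext
  apply Units.ext
  exact erMat_mul_self h hb

theorem toOG_erG (h : Forms ρ Q B QE) (b : ι → F) (hb : QE b ≠ 0) (x : ι → F) :
    toOG Q (erG h b hb) x = erF h b x := by
  rw [toOG_apply, erG_coe, erMat_mulVec]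

theorem erMat_comm (h : Forms ρ Q B QE) (b : ι → F) (a : E) : erMat h b * ρ a = ρ a * erMat h b := by
  apply Matrix.toLin'.injective
  apply LinearMap.ext
  intro x
  rw [Matrix.toLin'_apply, Matrix.toLin'_apply, ← Matrix.mulVec_mulVec, ← Matrix.mulVec_mulVec, erMat_mulVec,
    erMat_mulVec, erF_rho]

/-- the rotation `[R_b, R_c]`, an element of `Ω(Q)` (a commutator of isometries) -/
noncomputable def RC (h : Forms ρ Q B QE) (b c : ι → F) (hb : QE b ≠ 0) (hc : QE c ≠ 0) : ↥(Cfsg.Omega F ⇑Q) :=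
  ⟨⁅erG h b hb, erG h c hc⁆, Subgroup.commutator_mem_commutator (Subgroup.mem_top _) (Subgroup.mem_top _)⟩

theorem RC_coe (h : Forms ρ Q B QE) (b c : ι → F) (hb : QE b ≠ 0) (hc : QE c ≠ 0) :
    (((RC h b c hb hc : ↥(Cfsg.Omega F ⇑Q)) : ↥(Cfsg.isometryGroup F ⇑Q)) : GL ι F).1 =
      erMat h b * erMat h c * erMat h b * erMat h c := by
  show ((⁅erG h b hb, erG h c hc⁆ : ↥(Cfsg.isometryGroup F ⇑Q)) : GL ι F).1 = _
  rw [commutatorElement_def, erG_inv, erG_inv]
  rfl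

theorem act_RC (h : Forms ρ Q B QE) (b c : ι → F) (hb : QE b ≠ 0) (hc : QE c ≠ 0) (x : ι → F) :
    act Q (RC h b c hb hc) x = erF h b (erF h c (erF h b (erF h c x))) := by
  rw [act_apply, toOG_apply, RC_coe, ← Matrix.mulVec_mulVec, ← Matrix.mulVec_mulVec, ← Matrix.mulVec_mulVec,
    erMat_mulVec, erMat_mulVec, erMat_mulVec, erMat_mulVec]

theorem RC_comm (h : Forms ρ Q B QE) (b c : ι → F) (hb : QE b ≠ 0) (hc : QE c ≠ 0) (a : E) :
    (((RC h b c hb hc : ↥(Cfsg.Omega F ⇑Q)) : ↥(Cfsg.isometryGroup F ⇑Q)) : GL ι F).1 * ρ a =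
      ρ a * (((RC h b c hb hc : ↥(Cfsg.Omega F ⇑Q)) : ↥(Cfsg.isometryGroup F ⇑Q)) : GL ι F).1 := by
  rw [RC_coe, mul_assoc, erMat_comm, ← mul_assoc, mul_assoc (erMat h b * erMat h c), erMat_comm, ← mul_assoc,
    mul_assoc (erMat h b), erMat_comm, ← mul_assoc, erMat_comm]
  simp only [mul_assoc]

theorem ES_coe (h : Forms ρ Q B QE) (h2 : (2 : F) ≠ 0) (p w : ι → F) (hp : QE p = 0) (hw : B p w = 0) :
    (((ES h h2 p w hp hw : ↥(Cfsg.Omega F ⇑Q)) : ↥(Cfsg.isometryGroup F ⇑Q)) : GL ι F).1 = esMat h p w := rfl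

/-! ### the additive group of `F`-Siegel vectors of `M` at a singular point -/

/-- `AA M p = {y ⟂ p : egen Q p y ∈ M}` -/
def AA (M : Subgroup ↥(Cfsg.Omega F ⇑Q)) (p : ι → F) (hp : Q p = 0) : AddSubgroup (ι → F) where
  carrier := {y | polar Q p y = 0 ∧ ∃ m ∈ M, ∀ x, act Q m x = egen Q p y x}
  zero_mem' := ⟨by simp, 1, M.one_mem, fun x => by rw [act_one, egen_zero]⟩
  add_mem' := by
    rintro y y' ⟨hy, m, hm, hmy⟩ ⟨hy', m', hm', hmy'⟩
    refine ⟨by rw [polar_add_right, hy, hy', add_zero], m * m', M.mul_mem hm hm', fun x => ?_⟩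
    rw [act_mul, hmy', hmy, egen_add Q hp hy hy']
  neg_mem' := by
    rintro y ⟨hy, m, hm, hmy⟩
    refine ⟨by rw [polar_neg_right, hy, neg_zero], m⁻¹, M.inv_mem hm, fun x => ?_⟩
    have h1 : act Q m (act Q m⁻¹ x) = act Q m (egen Q p (-y) x) := by
      rw [act_act_inv, hmy, egen_neg Q hp hy]
    exact (act Q m).injective h1

theorem mem_AA {M : Subgroup ↥(Cfsg.Omega F ⇑Q)} {p : ι → F} {hp : Q p = 0} {y : ι → F} :
    y ∈ AA M p hp ↔ polar Q p y = 0 ∧ ∃ m ∈ M, ∀ x, act Q m x = egen Q p y x := Iff.rfl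

theorem smul_mem_AA (M : Subgroup ↥(Cfsg.Omega F ⇑Q)) {p : ι → F} (hp : Q p = 0) (c : F) : c • p ∈ AA M p hp := by
  refine ⟨by rw [polar_smul_right, polar_self, hp]; simp, 1, M.one_mem, fun x => ?_⟩
  rw [act_one, egen_smul_self Q hp]

theorem act_mem_AA {M : Subgroup ↥(Cfsg.Omega F ⇑Q)} {p : ι → F} (hp : Q p = 0) {k : ↥(Cfsg.Omega F ⇑Q)}
    (hk : k ∈ M) (hkp : act Q k p = p) {y : ι → F} (hy : y ∈ AA M p hp) : act Q k y ∈ AA M p hp := by
  obtain ⟨hpy, m, hm, hmy⟩ := hy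
  refine ⟨?_, k * m * k⁻¹, M.mul_mem (M.mul_mem hk hm) (M.inv_mem hk), fun x => ?_⟩
  · rw [← hkp, polar_act, hpy]
  · rw [conj_act_egen Q k m hmy, hkp]

/-- `E`-Witt index one: two `E`-orthogonal `E`-singular vectors are `E`-proportional -/
def W1 (ρ : E →ₐ[F] Matrix ι ι F) (B : (ι → F) → (ι → F) → E) (QE : (ι → F) → E) : Prop :=
  ∀ x y : ι → F, x ≠ 0 → QE x = 0 → QE y = 0 → B x y = 0 → ∃ a : E, y = ρ a *ᵥ x

theorem Q_of_QE (h : Forms ρ Q B QE) {p : ι → F} (hp : QE p = 0) : Q p = 0 := by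
  rw [h.Q_eq, hp, map_zero]

/-- the standing hypotheses on `M` (`n = 8`, `[E:F] = 2`, `q` odd, `E`-Witt index one, the centraliser of `K` in `Ω`
lies in `M`) -/
structure Ctx (h : Forms ρ Q B QE) (M : Subgroup ↥(Cfsg.Omega F ⇑Q)) : Prop where
  two : (2 : F) ≠ 0
  rank : finrank F E = 2
  card : Fintype.card ι = 8
  w1 : W1 ρ B QE
  es : ∀ (p w : ι → F) (hp : QE p = 0) (hw : B p w = 0), ES h two p w hp hw ∈ M
  rc : ∀ (b c : ι → F) (hb : QE b ≠ 0) (hc : QE c ≠ 0), RC h b c hb hc ∈ M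

end Cfsg.Agent.Lib.Helper25.C3O2
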