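import Mathlib
import Cfsg.Prelude.Def_GeometricClasses
import Cfsg.Agent.Lib.Helper25.C3O2Defs

/-!
C3O2 leaf MODP (helper25): on `p^⊥` modulo `F p` the `E`-Siegel map `T_{p,w}` is the `F`-Siegel map `egen (J p) ((2δ)⁻¹ J w)`.
-/

set_option autoImplicit false
set_option linter.unusedSectionVars false
set_option linter.unusedVariables false

namespace Cfsg.Agent.Lib.Helper25.C3O2Leaf
open Matrix Module QuadraticMap Cfsg Cfsg.Geo Cfsg.Agent.Lib.Helper25.OEFsa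
  Cfsg.Agent.Lib.Helper25.CD Cfsg.Agent.Lib.Helper25.Siegel
  Cfsg.Agent.Lib.Helper5.NSMax Cfsg.Agent.Lib.Helper5.TSMax Cfsg.Agent.Lib.Helper25.AutO
  Cfsg.Agent.Lib.Helper25.C3O2

variable {F : Type*} [Field F] [Fintype F] {E : Type*} [Field E] [Algebra F E] [FiniteDimensional F E]
  {ι : Type} [Fintype ι] [DecidableEq ι]
  {ρ : E →ₐ[F] Matrix ι ι F} {Q : QuadraticForm F (ι → F)} {B : (ι → F) → (ι → F) → E} {QE : (ι → F) → E}
  {κ : E} {δ : F}

theorem rho_ab (ρ : E →ₐ[F] Matrix ι ι F) (κ : E) (a b : F) (y : ι → F) :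
    ρ (algebraMap F E a + algebraMap F E b * κ) *ᵥ y = a • y + b • (ρ κ *ᵥ y) := by
  rw [rho_add_mulVec, rho_mul_mulVec, Algebra.algebraMap_eq_smul_one, Algebra.algebraMap_eq_smul_one, map_smul,
    map_smul, map_one, Matrix.smul_mulVec, Matrix.smul_mulVec, Matrix.one_mulVec, Matrix.one_mulVec]

/-- MODP -/
theorem modp (h : Forms ρ Q B QE) (hκ : Kap κ δ) (h2 : (2 : F) ≠ 0) {p w : ι → F} (hp : QE p = 0) (hw : B p w = 0)
    (x : ι → F) (hx : polar Q p x = 0) :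
    ∃ c : F, esF h p w x = egen Q (ρ κ *ᵥ p) ((2 * δ)⁻¹ • (ρ κ *ᵥ w)) x + c • p := by
  have hδ := hκ.delta_ne
  obtain ⟨a₁, β, hpx⟩ := hκ.span (B p x)
  obtain ⟨a, b, hwx⟩ := hκ.span (B w x)
  obtain ⟨c₁, c₂, hQw⟩ := hκ.span (QE w)
  have ha₁ : a₁ = 0 := by
    have := h.tr_B p x
    rw [hpx, hκ.tr_ab, hx] at this
    rcases mul_eq_zero.1 this with h' | h'
    · exact absurd h' h2
    · exact h'
  rw [ha₁, map_zero, zero_add] at hpx
  have e1 : polar Q (ρ κ *ᵥ p) x = 2 * β * δ := by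
    rw [polar_J h, hpx]
    have := hκ.tr_kap_ab 0 β
    rw [map_zero, zero_add] at this
    exact this
  have e2 : polar Q (ρ κ *ᵥ w) x = 2 * b * δ := by
    rw [polar_J h, hwx, hκ.tr_kap_ab]
  have e3 : Q w = 2 * c₁ := by
    rw [h.Q_eq, hQw, hκ.tr_ab]
  have e4 : QE w * B p x = algebraMap F E (β * c₂ * δ) + algebraMap F E (β * c₁) * κ := by
    rw [hQw, hpx, map_mul, map_mul, map_mul, ← hκ.sq]
    ring
  refine ⟨-(a + β * c₂ * δ), ?_⟩
  rw [esF_apply, e4, hwx, hpx]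
  have e5 : ρ (algebraMap F E β * κ) *ᵥ w = β • (ρ κ *ᵥ w) := by
    have := rho_ab ρ κ 0 β w
    rw [map_zero, zero_add, zero_smul, zero_add] at this
    exact this
  rw [e5, rho_ab, rho_ab]
  unfold egen
  rw [polar_smul_left, QuadraticMap.map_smul, e1, e2, Q_J h hκ, e3]
  simp only [smul_eq_mul]
  match_scalars <;> field_simp <;> ring

end Cfsg.Agent.Lib.Helper25.C3O2Leaf
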