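import Mathlib

set_option autoImplicit false

/-!
Maximal totally singular subspaces of a quadratic space of dimension `2m` with nondegenerate polar
form: adjacency, the two extensions of an `(m-1)`-dimensional totally singular subspace, and the
parity theorem (two families).
-/

namespace Cfsg.Agent.Lib.Helper25.MaxTS

open Module QuadraticMap

variable {F V : Type*} [Field F] [AddCommGroup V] [Module F V]
variable (Q : QuadraticForm F V)

/-- totally singular subspaces -/
def TS (U : Submodule F V) : Prop := ∀ u ∈ U, Q u = 0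

/-- the orthogonal complement for the polar form -/
def perp (U : Submodule F V) : Submodule F V :=
  LinearMap.BilinForm.orthogonal (polarBilin Q) U

variable {Q}

theorem mem_perp {U : Submodule F V} {x : V} : x ∈ perp Q U ↔ ∀ u ∈ U, polar Q u x = 0 := by
  unfold perp
  rw [LinearMap.BilinForm.mem_orthogonal_iff]
  simp only [polarBilin_apply_apply]

theorem perp_anti {U W : Submodule F V} (h : U ≤ W) : perp Q W ≤ perp Q U :=
  LinearMap.BilinForm.orthogonal_le h

theorem Q_add (x y : V) : Q (x + y) = Q x + Q y + polar Q x y := by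
  unfold polar
  ring

theorem Q_add_smul (x y : V) (a : F) : Q (x + a • y) = Q x + a * a * Q y + a * polar Q x y := by
  rw [Q_add, QuadraticMap.map_smul, polar_smul_right, smul_eq_mul, smul_eq_mul]

theorem polar_self (x : V) : polar Q x x = 2 * Q x := by
  unfold polar
  rw [QuadraticMap.map_add_self]
  simp only [nsmul_eq_mul, Nat.cast_ofNat]
  ring

theorem TS.polar_eq_zero {U : Submodule F V} (hU : TS Q U) {x y : V} (hx : x ∈ U) (hy : y ∈ U) :
    polar Q x y = 0 := by
  unfold polar
  rw [hU _ (U.add_mem hx hy), hU x hx, hU y hy]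
  ring

theorem TS.le_perp {U : Submodule F V} (hU : TS Q U) : U ≤ perp Q U := by
  intro x hx
  rw [mem_perp]
  intro u hu
  exact hU.polar_eq_zero hu hx

theorem TS.mono {U W : Submodule F V} (hW : TS Q W) (h : U ≤ W) : TS Q U :=
  fun u hu => hW u (h hu)

theorem TS.le_perp_of_le {U W : Submodule F V} (hW : TS Q W) (h : U ≤ W) : W ≤ perp Q U :=
  hW.le_perp.trans (perp_anti h)

theorem isRefl : (polarBilin Q).IsRefl := by
  intro x y h
  rw [polarBilin_apply_apply] at h ⊢
  rw [polar_comm]
  exact h

/-- `Y ⊔ span {f}` is totally singular when `Y` is, `f` is singular and orthogonal to `Y`. -/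
theorem TS.sup_span {Y : Submodule F V} (hY : TS Q Y) {f : V} (hf : Q f = 0)
    (hfY : f ∈ perp Q Y) : TS Q (Y ⊔ Submodule.span F {f}) := by
  intro t ht
  obtain ⟨y, hy, z, hz, rfl⟩ := Submodule.mem_sup.1 ht
  obtain ⟨a, rfl⟩ := Submodule.mem_span_singleton.1 hz
  rw [Q_add_smul, hY y hy, hf, (mem_perp.1 hfY) y hy]
  ring

variable [FiniteDimensional F V]

theorem finrank_perp (hQ : (polarBilin Q).Nondegenerate) (U : Submodule F V) :
    finrank F (perp Q U) = finrank F V - finrank F U :=
  LinearMap.BilinForm.finrank_orthogonal hQ U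

theorem perp_perp (hQ : (polarBilin Q).Nondegenerate) (U : Submodule F V) :
    perp Q (perp Q U) = U :=
  LinearMap.BilinForm.orthogonal_orthogonal hQ isRefl U

theorem finrank_sup_span {Y : Submodule F V} {f : V} (hf : f ∉ Y) :
    finrank F (Y ⊔ Submodule.span F {f} : Submodule F V) = finrank F Y + 1 := by
  have hf0 : f ≠ 0 := by
    rintro rfl
    exact hf Y.zero_mem
  have h1 := Submodule.finrank_sup_add_finrank_inf_eq Y (Submodule.span F {f})
  have h2 : Y ⊓ Submodule.span F {f} = ⊥ :=
    disjoint_iff.1 ((Submodule.disjoint_span_singleton' hf0).2 hf)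
  rw [h2, finrank_bot, finrank_span_singleton hf0] at h1
  omega

theorem TS.finrank_le (hQ : (polarBilin Q).Nondegenerate) {m : ℕ} (hdim : finrank F V = m + m)
    {U : Submodule F V} (hU : TS Q U) : finrank F U ≤ m := by
  have h1 := Submodule.finrank_mono hU.le_perp
  rw [finrank_perp hQ, hdim] at h1
  omega

theorem TS.perp_eq (hQ : (polarBilin Q).Nondegenerate) {m : ℕ} (hdim : finrank F V = m + m)
    {U : Submodule F V} (hU : TS Q U) (hUm : finrank F U = m) : perp Q U = U := by
  symm
  apply Submodule.eq_of_le_of_finrank_eq hU.le_perp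
  rw [finrank_perp hQ, hdim, hUm]
  omega

omit [FiniteDimensional F V] in
/-- A subspace contained in the union of two subspaces is contained in one of them. -/
theorem le_or_le_of_forall_mem {T W W' : Submodule F V} (h : ∀ t ∈ T, t ∈ W ∨ t ∈ W') :
    T ≤ W ∨ T ≤ W' := by
  by_contra hcon
  push Not at hcon
  obtain ⟨h1, h2⟩ := hcon
  obtain ⟨t1, ht1, ht1W⟩ := SetLike.not_le_iff_exists.1 h1
  obtain ⟨t2, ht2, ht2W⟩ := SetLike.not_le_iff_exists.1 h2
  have ht1' : t1 ∈ W' := (h t1 ht1).resolve_left ht1W
  have ht2' : t2 ∈ W := (h t2 ht2).resolve_right ht2W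
  rcases h (t1 + t2) (T.add_mem ht1 ht2) with h3 | h3
  · apply ht1W
    have := W.sub_mem h3 ht2'
    rwa [add_sub_cancel_right] at this
  · apply ht2W
    have := W'.sub_mem h3 ht1'
    rwa [add_sub_cancel_left] at this

/-- An `(m-1)`-dimensional totally singular subspace `Y` contained in a maximal totally singular
subspace `W` (dimension `m`, ambient dimension `2m`) is contained in exactly one other. -/
theorem two_extensions (hQ : (polarBilin Q).Nondegenerate) {m : ℕ} (hdim : finrank F V = m + m)
    {Y W : Submodule F V} (hY : finrank F Y + 1 = m) (hW : TS Q W) (hWm : finrank F W = m)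
    (hYW : Y ≤ W) :
    ∃ W' : Submodule F V, TS Q W' ∧ finrank F W' = m ∧ Y ≤ W' ∧ W' ≠ W ∧
      ∀ T : Submodule F V, TS Q T → finrank F T = m → Y ≤ T → T = W ∨ T = W' := by
  have hYts : TS Q Y := hW.mono hYW
  have hWperp : W ≤ perp Q Y := hW.le_perp_of_le hYW
  have hperpdim : finrank F (perp Q Y) = m + 1 := by
    rw [finrank_perp hQ, hdim]; omega
  -- e in W outside Y
  have hYltW : Y < W := by
    refine lt_of_le_of_ne hYW ?_
    rintro rfl
    omega
  obtain ⟨e, heW, heY⟩ := SetLike.exists_of_lt hYltW
  have hWe : Y ⊔ Submodule.span F {e} = W := by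
    apply Submodule.eq_of_le_of_finrank_eq
    · exact sup_le hYW ((Submodule.span_singleton_le_iff_mem e W).2 heW)
    · rw [finrank_sup_span heY, hWm, hY]
  -- z in perp Y with polar e z ≠ 0
  obtain ⟨z, hzY, hz⟩ : ∃ z ∈ perp Q Y, polar Q e z ≠ 0 := by
    by_contra hcon
    push Not at hcon
    apply heY
    rw [← perp_perp hQ Y, mem_perp]
    intro u hu
    rw [polar_comm]
    exact hcon u hu
  obtain ⟨c, hc⟩ : ∃ c, c = polar Q e z := ⟨_, rfl⟩
  have hc0 : c ≠ 0 := by rw [hc]; exact hz
  have hQe : Q e = 0 := hW e heW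
  obtain ⟨f, hf⟩ : ∃ f, f = z + (-(Q z / c)) • e := ⟨_, rfl⟩
  have hQf : Q f = 0 := by
    rw [hf, Q_add_smul, hQe, polar_comm, ← hc]
    field_simp
    ring
  have hef : polar Q e f = c := by
    rw [hf, polar_add_right, polar_smul_right, polar_self, hQe, ← hc]
    simp
  have hfY : f ∈ perp Q Y := by
    rw [hf]
    exact (perp Q Y).add_mem hzY ((perp Q Y).smul_mem _ (hWperp heW))
  have hfW : f ∉ W := by
    intro h
    exact hc0 (hef ▸ hW.polar_eq_zero heW h)
  have hfYn : f ∉ Y := fun h => hfW (hYW h)
  have hperp_eq : W ⊔ Submodule.span F {f} = perp Q Y := by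
    apply Submodule.eq_of_le_of_finrank_eq
    · exact sup_le hWperp ((Submodule.span_singleton_le_iff_mem f _).2 hfY)
    · rw [finrank_sup_span hfW, hWm, hperpdim]
  -- W ⊓ perp f = Y
  have hWf : ∀ w ∈ W, polar Q w f = 0 → w ∈ Y := by
    intro w hw hwf
    have hle : Y ≤ W ⊓ perp Q (Submodule.span F {f}) := by
      refine le_inf hYW ?_
      intro y hy
      rw [mem_perp]
      intro u hu
      obtain ⟨a, rfl⟩ := Submodule.mem_span_singleton.1 hu
      rw [polar_smul_left, polar_comm, (mem_perp.1 hfY) y hy, smul_zero]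
    have hlt : W ⊓ perp Q (Submodule.span F {f}) < W := by
      refine lt_of_le_of_ne inf_le_left ?_
      intro h
      have : e ∈ W ⊓ perp Q (Submodule.span F {f}) := by rw [h]; exact heW
      have h2 := (mem_perp.1 this.2) f (Submodule.mem_span_singleton_self f)
      rw [polar_comm, hef] at h2
      exact hc0 h2
    have hfin := Submodule.finrank_lt_finrank_of_lt hlt
    have heq : Y = W ⊓ perp Q (Submodule.span F {f}) := by
      apply Submodule.eq_of_le_of_finrank_le hle
      omega
    rw [heq]
    refine ⟨hw, ?_⟩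
    change w ∈ perp Q (Submodule.span F {f})
    rw [mem_perp]
    intro u hu
    obtain ⟨a, rfl⟩ := Submodule.mem_span_singleton.1 hu
    rw [polar_smul_left, polar_comm, hwf, smul_zero]
  refine ⟨Y ⊔ Submodule.span F {f}, hYts.sup_span hQf hfY, ?_, le_sup_left, ?_, ?_⟩
  · rw [finrank_sup_span hfYn, hY]
  · intro h
    apply hfW
    rw [← h]
    exact Submodule.mem_sup_right (Submodule.mem_span_singleton_self f)
  · intro T hT hTm hYT
    have hTperp : T ≤ perp Q Y := hT.le_perp_of_le hYT
    have hmem : ∀ t ∈ T, t ∈ W ∨ t ∈ Y ⊔ Submodule.span F {f} := by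
      intro t ht
      have ht' := hTperp ht
      rw [← hperp_eq] at ht'
      obtain ⟨w, hw, x, hx, rfl⟩ := Submodule.mem_sup.1 ht'
      obtain ⟨b, rfl⟩ := Submodule.mem_span_singleton.1 hx
      have hQt := hT _ ht
      rw [Q_add_smul, hW w hw, hQf] at hQt
      have hQt' : b * polar Q w f = 0 := by
        have : (0 : F) + b * b * 0 + b * polar Q w f = b * polar Q w f := by ring
        rw [← this]; exact hQt
      rcases mul_eq_zero.1 hQt' with hb | hwf
      · left
        rw [hb, zero_smul, add_zero]
        exact hw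
      · right
        exact Submodule.add_mem _ (Submodule.mem_sup_left (hWf w hw hwf))
          (Submodule.mem_sup_right (Submodule.smul_mem _ _ (Submodule.mem_span_singleton_self f)))
    rcases le_or_le_of_forall_mem hmem with h | h
    · left
      exact Submodule.eq_of_le_of_finrank_eq h (by rw [hTm, hWm])
    · right
      exact Submodule.eq_of_le_of_finrank_eq h (by rw [hTm, finrank_sup_span hfYn, hY])

/-- The neighbour of a maximal totally singular subspace `X` through a singular vector `v ∉ X`. -/
def nbr (Q : QuadraticForm F V) (X : Submodule F V) (v : V) : Submodule F V :=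
  (X ⊓ perp Q (Submodule.span F {v})) ⊔ Submodule.span F {v}

omit [FiniteDimensional F V] in
theorem mem_perp_span {v x : V} : x ∈ perp Q (Submodule.span F {v}) ↔ polar Q v x = 0 := by
  rw [mem_perp]
  constructor
  · intro h
    exact h v (Submodule.mem_span_singleton_self v)
  · intro h u hu
    obtain ⟨a, rfl⟩ := Submodule.mem_span_singleton.1 hu
    rw [polar_smul_left, h, smul_zero]

theorem nbr_spec (hQ : (polarBilin Q).Nondegenerate) {m : ℕ} (hdim : finrank F V = m + m)
    {X : Submodule F V} (hX : TS Q X) (hXm : finrank F X = m) {v : V} (hv : Q v = 0)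
    (hvX : v ∉ X) :
    TS Q (nbr Q X v) ∧ finrank F (nbr Q X v) = m ∧
      X ⊓ nbr Q X v = X ⊓ perp Q (Submodule.span F {v}) ∧
      finrank F (X ⊓ nbr Q X v : Submodule F V) + 1 = m ∧ v ∈ nbr Q X v := by
  have hv0 : v ≠ 0 := by
    rintro rfl
    exact hvX X.zero_mem
  obtain ⟨P, hP⟩ : ∃ P, P = perp Q (Submodule.span F {v}) := ⟨_, rfl⟩
  have hPdim : finrank F P = m + m - 1 := by
    rw [hP, finrank_perp hQ, hdim, finrank_span_singleton hv0]
  have hvP : v ∈ P := by
    rw [hP, mem_perp_span, polar_self, hv, mul_zero]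
  -- X ⊓ P is a proper subspace of X
  have hlt : X ⊓ P < X := by
    refine lt_of_le_of_ne inf_le_left ?_
    intro h
    apply hvX
    rw [← hX.perp_eq hQ hdim hXm, mem_perp]
    intro u hu
    have : u ∈ X ⊓ P := by rw [h]; exact hu
    have h2 : u ∈ P := this.2
    rw [hP, mem_perp_span] at h2
    rw [polar_comm]
    exact h2
  have hfin := Submodule.finrank_lt_finrank_of_lt hlt
  have hsum := Submodule.finrank_sup_add_finrank_inf_eq X P
  have hle : finrank F (X ⊔ P : Submodule F V) ≤ m + m := by
    rw [← hdim]; exact Submodule.finrank_le _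
  have hXP : finrank F (X ⊓ P : Submodule F V) + 1 = m := by omega
  have hvXP : v ∉ X ⊓ P := fun h => hvX h.1
  have hts : TS Q (nbr Q X v) := by
    unfold nbr
    rw [← hP]
    apply (hX.mono inf_le_left).sup_span hv
    rw [mem_perp]
    intro u hu
    have : u ∈ P := hu.2
    rw [hP, mem_perp_span] at this
    rw [polar_comm]
    exact this
  have hinf : X ⊓ nbr Q X v = X ⊓ P := by
    apply le_antisymm
    · rintro t ⟨htX, htN⟩
      unfold nbr at htN
      rw [← hP] at htN
      obtain ⟨p, hp, x, hx, rfl⟩ := Submodule.mem_sup.1 htN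
      obtain ⟨a, rfl⟩ := Submodule.mem_span_singleton.1 hx
      by_cases ha : a = 0
      · rw [ha, zero_smul, add_zero]
        exact hp
      · exfalso
        apply hvX
        have h1 : a • v ∈ X := by
          have := X.sub_mem htX hp.1
          rwa [add_sub_cancel_left] at this
        have h2 := X.smul_mem a⁻¹ h1
        rwa [smul_smul, inv_mul_cancel₀ ha, one_smul] at h2
    · refine le_inf inf_le_left ?_
      unfold nbr
      rw [← hP]
      exact le_sup_left
  refine ⟨hts, ?_, ?_, ?_, ?_⟩
  · unfold nbr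
    rw [← hP, finrank_sup_span hvXP]
    exact hXP
  · rw [hinf, hP]
  · rw [hinf]; exact hXP
  · unfold nbr
    exact Submodule.mem_sup_right (Submodule.mem_span_singleton_self v)

/-- Adjacent maximal totally singular subspaces meet a third one in dimensions differing by one. -/
theorem adjacent_parity (hQ : (polarBilin Q).Nondegenerate) {m : ℕ} (hdim : finrank F V = m + m)
    {X X' U : Submodule F V} (hX : TS Q X) (hXm : finrank F X = m) (hX' : TS Q X')
    (hX'm : finrank F X' = m) (hadj : finrank F (X ⊓ X' : Submodule F V) + 1 = m)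
    (hU : TS Q U) (hUm : finrank F U = m) :
    finrank F (U ⊓ X : Submodule F V) = finrank F (U ⊓ X' : Submodule F V) + 1 ∨
      finrank F (U ⊓ X' : Submodule F V) = finrank F (U ⊓ X : Submodule F V) + 1 := by
  obtain ⟨Y, hYdef⟩ : ∃ Y, Y = X ⊓ X' := ⟨_, rfl⟩
  rw [← hYdef] at hadj
  have hYX : Y ≤ X := by rw [hYdef]; exact inf_le_left
  have hYX' : Y ≤ X' := by rw [hYdef]; exact inf_le_right
  have hYts : TS Q Y := hX.mono hYX
  have hXX' : X ≠ X' := by
    intro h
    rw [← h, inf_idem] at hYdef
    rw [hYdef] at hadj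
    omega
  obtain ⟨W', hW'ts, hW'm, hYW', hW'ne, huniq⟩ := two_extensions hQ hdim hadj hX hXm hYX
  have hX'W' : X' = W' := by
    rcases huniq X' hX' hX'm hYX' with h | h
    · exact absurd h.symm hXX'
    · exact h
  -- T = (U ⊓ perp Y) ⊔ Y
  obtain ⟨d, hd⟩ : ∃ d, d = finrank F (U ⊓ Y : Submodule F V) := ⟨_, rfl⟩
  have hUperp : perp Q U = U := hU.perp_eq hQ hdim hUm
  have h1 : U ⊓ perp Q Y = perp Q (U ⊔ Y) := by
    apply le_antisymm
    · rintro t ⟨htU, htY⟩
      rw [mem_perp]
      intro u hu
      obtain ⟨a, ha, b, hb, rfl⟩ := Submodule.mem_sup.1 hu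
      rw [polar_add_left, hU.polar_eq_zero ha htU, (mem_perp.1 htY) b hb, add_zero]
    · intro t ht
      refine ⟨?_, perp_anti le_sup_right ht⟩
      rw [← hUperp]
      exact perp_anti le_sup_left ht
  have h2 : finrank F (U ⊓ perp Q Y : Submodule F V) = d + 1 := by
    rw [h1, finrank_perp hQ, hdim]
    have := Submodule.finrank_sup_add_finrank_inf_eq U Y
    rw [← hd, hUm] at this
    omega
  have h3 : (U ⊓ perp Q Y) ⊓ Y = U ⊓ Y := by
    apply le_antisymm
    · exact le_inf (inf_le_left.trans inf_le_left) inf_le_right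
    · exact le_inf (le_inf inf_le_left (inf_le_right.trans hYts.le_perp)) inf_le_right
  obtain ⟨T, hT⟩ : ∃ T, T = (U ⊓ perp Q Y) ⊔ Y := ⟨_, rfl⟩
  have hTm : finrank F T = m := by
    have := Submodule.finrank_sup_add_finrank_inf_eq (U ⊓ perp Q Y) Y
    rw [h3, ← hd, h2, ← hT] at this
    omega
  have hTts : TS Q T := by
    intro t ht
    rw [hT] at ht
    obtain ⟨a, ha, b, hb, rfl⟩ := Submodule.mem_sup.1 ht
    rw [Q_add, hU a ha.1, hYts b hb, polar_comm, (mem_perp.1 ha.2) b hb]
    ring
  have hYT : Y ≤ T := by rw [hT]; exact le_sup_right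
  have hUT : U ⊓ perp Q Y ≤ T := by rw [hT]; exact le_sup_left
  -- general consequence: if T = A (A, A' the two subspaces through Y) then the dimension claims
  have key : ∀ A A' : Submodule F V, TS Q A → TS Q A' → Y ≤ A → Y ≤ A' → A ⊓ A' = Y → T = A →
      finrank F (U ⊓ A : Submodule F V) = d + 1 ∧ finrank F (U ⊓ A' : Submodule F V) = d := by
    intro A A' hA hA' hYA hYA' hAA' hTA
    have hA1 : U ⊓ A = U ⊓ perp Q Y := by
      apply le_antisymm
      · exact le_inf inf_le_left (inf_le_right.trans (hA.le_perp_of_le hYA))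
      · refine le_inf inf_le_left ?_
        rw [← hTA]; exact hUT
    have hA2 : U ⊓ A' = U ⊓ Y := by
      apply le_antisymm
      · refine le_inf inf_le_left ?_
        rw [← hAA']
        refine le_inf ?_ inf_le_right
        rw [← hTA]
        refine le_trans ?_ hUT
        exact le_inf inf_le_left (inf_le_right.trans (hA'.le_perp_of_le hYA'))
      · exact le_inf inf_le_left (inf_le_right.trans hYA')
    rw [hA1, hA2, h2, hd]
    exact ⟨rfl, rfl⟩
  rcases huniq T hTts hTm hYT with hTX | hTW
  · obtain ⟨k1, k2⟩ := key X X' hX hX' hYX hYX' hYdef.symm hTX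
    left
    rw [k1, k2]
  · rw [← hX'W'] at hTW
    obtain ⟨k1, k2⟩ := key X' X hX' hX hYX' hYX (by rw [inf_comm]; exact hYdef.symm) hTW
    right
    rw [k1, k2]

theorem chain_parity (hQ : (polarBilin Q).Nondegenerate) {m : ℕ} (hdim : finrank F V = m + m) :
    ∀ (c : ℕ) (X X'' U : Submodule F V), TS Q X → finrank F X = m → TS Q X'' →
      finrank F X'' = m → TS Q U → finrank F U = m →
      finrank F (X ⊓ X'' : Submodule F V) + c = m →
      (finrank F (U ⊓ X : Submodule F V) + finrank F (U ⊓ X'' : Submodule F V)) % 2 = c % 2 := by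
  intro c
  induction c with
  | zero =>
    intro X X'' U hX hXm hX'' hX''m hU hUm hc
    have h1 : X ⊓ X'' = X :=
      Submodule.eq_of_le_of_finrank_eq inf_le_left (by rw [hXm]; omega)
    have h2 : X ⊓ X'' = X'' :=
      Submodule.eq_of_le_of_finrank_eq inf_le_right (by rw [hX''m]; omega)
    have h3 : X = X'' := h1.symm.trans h2
    rw [← h3]
    omega
  | succ c ih =>
    intro X X'' U hX hXm hX'' hX''m hU hUm hc
    have hnle : ¬ X'' ≤ X := by
      intro h
      have h1 : X'' = X := Submodule.eq_of_le_of_finrank_eq h (by rw [hXm, hX''m])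
      rw [h1, inf_idem, hXm] at hc
      omega
    obtain ⟨v, hvX'', hvX⟩ := SetLike.not_le_iff_exists.1 hnle
    obtain ⟨hN, hNm, hNinf, hNadj, hvN⟩ := nbr_spec hQ hdim hX hXm (hX'' v hvX'') hvX
    have hle : (X ⊓ X'') ⊔ Submodule.span F {v} ≤ nbr Q X v ⊓ X'' := by
      apply sup_le
      · refine le_inf ?_ inf_le_right
        have h1 : X ⊓ X'' ≤ X ⊓ perp Q (Submodule.span F {v}) := by
          refine le_inf inf_le_left ?_
          intro t ht
          rw [mem_perp_span]
          exact hX''.polar_eq_zero hvX'' ht.2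
        rw [← hNinf] at h1
        exact h1.trans inf_le_right
      · rw [Submodule.span_singleton_le_iff_mem]
        exact ⟨hvN, hvX''⟩
    have hvn : v ∉ X ⊓ X'' := fun h => hvX h.1
    have hge := Submodule.finrank_mono hle
    rw [finrank_sup_span hvn] at hge
    have hadj1 := adjacent_parity hQ hdim hX hXm hN hNm hNadj hX'' hX''m
    have hadj2 := adjacent_parity hQ hdim hX hXm hN hNm hNadj hU hUm
    rw [inf_comm X'' X, inf_comm X'' (nbr Q X v)] at hadj1
    have hstep : finrank F (nbr Q X v ⊓ X'' : Submodule F V) =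
        finrank F (X ⊓ X'' : Submodule F V) + 1 := by
      rcases hadj1 with h | h
      · omega
      · exact h
    have hih := ih (nbr Q X v) X'' U hN hNm hX'' hX''m hU hUm (by omega)
    rcases hadj2 with h | h <;> omega

/-- Parity theorem for maximal totally singular subspaces: the relation "even codimension of the
intersection" is an equivalence relation. -/
theorem parity (hQ : (polarBilin Q).Nondegenerate) {m : ℕ} (hdim : finrank F V = m + m)
    {U W X : Submodule F V} (hU : TS Q U) (hUm : finrank F U = m) (hW : TS Q W)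
    (hWm : finrank F W = m) (hX : TS Q X) (hXm : finrank F X = m) :
    Even ((m - finrank F (U ⊓ W : Submodule F V)) + (m - finrank F (W ⊓ X : Submodule F V)) +
      (m - finrank F (U ⊓ X : Submodule F V))) := by
  have h1 : finrank F (W ⊓ X : Submodule F V) ≤ m := by
    rw [← hWm]; exact Submodule.finrank_mono inf_le_left
  have h2 : finrank F (U ⊓ W : Submodule F V) ≤ m := by
    rw [← hUm]; exact Submodule.finrank_mono inf_le_left
  have h3 : finrank F (U ⊓ X : Submodule F V) ≤ m := by
    rw [← hUm]; exact Submodule.finrank_mono inf_le_left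
  have h4 := chain_parity hQ hdim (m - finrank F (W ⊓ X : Submodule F V)) W X U hW hWm hX hXm hU
    hUm (by omega)
  rw [Nat.even_iff]
  omega

end Cfsg.Agent.Lib.Helper25.MaxTS
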