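import Cfsg.Agent.Lib.Helper25.OmegaFam
import Cfsg.Prelude.Def_GeometricClasses

set_option autoImplicit false

/-!
# Non-maximal subspace and decomposition stabilisers in `Ω⁺` coming from the two families of
maximal totally singular subspaces
-/

namespace Cfsg.Agent.Lib.Helper25.Fam

open Module QuadraticMap Matrix Cfsg.Agent.Lib.Helper25.MaxTS Cfsg.Agent.Lib.Helper25.Spin

section glue

variable {ι : Type} [Fintype ι] [DecidableEq ι] {F : Type*} [Field F]
  (Q : QuadraticForm F (ι → F))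

theorem coe_mem_omegaGL {g : ↥(Cfsg.isometryGroup F ⇑Q)} :
    (g : GL ι F) ∈ Cfsg.Geo.omegaGL ⇑Q ↔ g ∈ Cfsg.Omega F ⇑Q := by
  unfold Cfsg.Geo.omegaGL
  exact Subgroup.mem_map_iff_mem (Subgroup.subtype_injective _)

theorem mem_omegaGL_iff {x : GL ι F} :
    x ∈ Cfsg.Geo.omegaGL ⇑Q ↔
      ∃ g : ↥(Cfsg.isometryGroup F ⇑Q), g ∈ Cfsg.Omega F ⇑Q ∧ (g : GL ι F) = x := by
  unfold Cfsg.Geo.omegaGL
  exact Subgroup.mem_map

theorem coe_mem_subspaceStabilizer {g : ↥(Cfsg.isometryGroup F ⇑Q)} {W : Submodule F (ι → F)} :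
    (g : GL ι F) ∈ Cfsg.Geo.subspaceStabilizer W ↔ ∀ v, v ∈ W ↔ CD.toOG Q g v ∈ W :=
  Iff.rfl

theorem map_toLin'_eq (g : ↥(Cfsg.isometryGroup F ⇑Q)) (W : Submodule F (ι → F)) :
    W.map (Matrix.toLin' ((g : GL ι F) : Matrix ι ι F)) =
      W.map ((CD.toOG Q g : (ι → F) ≃ₗ[F] (ι → F)) : (ι → F) →ₗ[F] (ι → F)) := by
  ext x
  simp only [Submodule.mem_map, Matrix.toLin'_apply, LinearEquiv.coe_coe, CD.toOG_apply]

/-- Stabiliser membership from the image being the subspace. -/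
theorem coe_mem_subspaceStabilizer_iff_map {g : ↥(Cfsg.isometryGroup F ⇑Q)}
    {W : Submodule F (ι → F)} :
    (g : GL ι F) ∈ Cfsg.Geo.subspaceStabilizer W ↔
      W.map ((CD.toOG Q g : (ι → F) ≃ₗ[F] (ι → F)) : (ι → F) →ₗ[F] (ι → F)) = W := by
  rw [coe_mem_subspaceStabilizer]
  constructor
  · intro h
    exact map_eq_of_le (CD.toOG Q g) (fun v hv => (h v).1 hv)
  · intro h v
    exact mem_iff_of_map_eq (CD.toOG Q g) h v

/-- A nondegenerate quadratic form given as a function is the coercion of a Mathlib quadratic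
form. -/
theorem exists_qf {Q : (ι → F) → F} (hQ : Cfsg.Geo.IsNondegenerateQuadraticForm Q) :
    ∃ Qf : QuadraticForm F (ι → F), ⇑Qf = Q ∧ (polarBilin Qf).Nondegenerate := by
  let Qf : QuadraticForm F (ι → F) :=
    { toFun := Q
      toFun_smul := fun c u => by rw [hQ.smul, smul_eq_mul, pow_two]
      exists_companion' :=
        ⟨LinearMap.mk₂ F (polar Q) hQ.polar_bilinear.add_left
          (fun c u w => by rw [hQ.polar_bilinear.smul_left, smul_eq_mul])
          hQ.polar_bilinear.add_right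
          (fun c u w => by rw [hQ.polar_bilinear.smul_right, smul_eq_mul]),
          fun u v => by
            simp only [LinearMap.mk₂_apply, polar]
            ring⟩ }
  refine ⟨Qf, rfl, ?_⟩
  constructor
  · intro x hx
    by_contra hne
    obtain ⟨-, v, hv⟩ := hQ.nondegenerate x hne
    exact hv (hx v)
  · intro x hx
    by_contra hne
    obtain ⟨⟨v, hv⟩, -⟩ := hQ.nondegenerate x hne
    exact hv (hx v)

end glue

section main

variable {ι : Type} [Fintype ι] [DecidableEq ι] {F : Type*} [Field F] [Fintype F]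
  (Q : QuadraticForm F (ι → F))

/-- For `k` odd, the stabiliser in `Ω` of a pair of complementary totally singular `k`-spaces in a
`2k`-dimensional space is not maximal: it lies strictly inside the stabiliser of the first one. -/
theorem not_maximal_pair (hQ : (polarBilin Q).Nondegenerate)
    (hex : Fintype.card F ≠ 2 ∨ Fintype.card ι ≠ 4) {k : ℕ}
    (hdim : finrank F (ι → F) = k + k) (hk2 : 2 ≤ k) (hko : Odd k)
    (D : Fin 2 → Submodule F (ι → F)) (hfr : ∀ i, finrank F (D i) = k)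
    (hdisj : D 0 ⊓ D 1 = ⊥) (hsup : D 0 ⊔ D 1 = ⊤) (hts : ∀ i, TS Q (D i)) :
    ∃ K : Subgroup (GL ι F),
      Cfsg.Geo.decompositionStabilizer D ⊓ Cfsg.Geo.omegaGL ⇑Q < K ∧
        K < Cfsg.Geo.omegaGL ⇑Q := by
  -- vectors
  obtain ⟨e₂, he₂D, he₂0⟩ : ∃ e₂ ∈ D 0, e₂ ≠ 0 := by
    have hpos : 0 < finrank F (D 0) := by rw [hfr]; omega
    obtain ⟨x, hx⟩ := Module.finrank_pos_iff_exists_ne_zero.1 hpos
    exact ⟨x, x.2, fun h => hx (Subtype.ext h)⟩
  obtain ⟨f₂, hf₂D, hef₂⟩ : ∃ f₂ ∈ D 1, polar Q e₂ f₂ = 1 := by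
    obtain ⟨y, hy⟩ : ∃ y, polar Q e₂ y ≠ 0 := by
      by_contra hcon
      push Not at hcon
      exact he₂0 (hQ.1 e₂ hcon)
    have hy' : y ∈ D 0 ⊔ D 1 := by rw [hsup]; trivial
    obtain ⟨y₀, hy₀, y₁, hy₁, rfl⟩ := Submodule.mem_sup.1 hy'
    rw [polar_add_right, (hts 0).polar_eq_zero he₂D hy₀, zero_add] at hy
    refine ⟨(polar Q e₂ y₁)⁻¹ • y₁, Submodule.smul_mem _ _ hy₁, ?_⟩
    rw [polar_smul_right, smul_eq_mul, inv_mul_cancel₀ hy]
  have hQe₂ : Q e₂ = 0 := hts 0 e₂ he₂D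
  have hQf₂ : Q f₂ = 0 := hts 1 f₂ hf₂D
  have hf₂0 : f₂ ≠ 0 := by
    rintro rfl
    simp at hef₂
  obtain ⟨e₁, he₁D, he₁0, hfe₁⟩ := exists_perp_in Q hQ (U := D 0) (by rw [hfr]; exact hk2) f₂
  obtain ⟨f₁, hf₁D, hf₁0, hef₁⟩ := exists_perp_in Q hQ (U := D 1) (by rw [hfr]; exact hk2) e₂
  have hQe₁ : Q e₁ = 0 := hts 0 e₁ he₁D
  have hQf₁ : Q f₁ = 0 := hts 1 f₁ hf₁D
  have hnot01 : ∀ x, x ∈ D 0 → x ∈ D 1 → x = 0 := by
    intro x h0 h1
    have : x ∈ D 0 ⊓ D 1 := ⟨h0, h1⟩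
    rw [hdisj] at this
    exact (Submodule.mem_bot F).1 this
  have ha : Q (e₂ + f₂) = 1 := by
    rw [Q_add, hQe₂, hQf₂, hef₂]
    ring
  have hae₁ : polar Q (e₂ + f₂) e₁ = 0 := by
    rw [polar_add_left, (hts 0).polar_eq_zero he₂D he₁D, hfe₁, add_zero]
  have haf₁ : polar Q (e₂ + f₂) f₁ = 0 := by
    rw [polar_add_left, hef₁, (hts 1).polar_eq_zero hf₂D hf₁D, add_zero]
  -- the two elements
  have hg_mem := pairG_mem_omega Q hQ hex ha hQe₁ hae₁
  have hg'_mem := pairG_mem_omega Q hQ hex ha hQf₁ haf₁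
  have hg_apply := toOG_pairG_apply Q ha hQe₁ hae₁
  have hg'_apply := toOG_pairG_apply Q ha hQf₁ haf₁
  have hgD0 : (D 0).map ((CD.toOG Q (pairG Q (e₂ + f₂) e₁) : (ι → F) ≃ₗ[F] (ι → F)) :
      (ι → F) →ₗ[F] (ι → F)) = D 0 := by
    apply map_eq_of_le
    intro v hv
    rw [hg_apply, (hts 0).polar_eq_zero he₁D hv, zero_smul, add_zero]
    exact Submodule.sub_mem _ hv (Submodule.smul_mem _ _ he₁D)
  have hgf₂ : CD.toOG Q (pairG Q (e₂ + f₂) e₁) f₂ = f₂ - e₁ := by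
    rw [hg_apply, polar_comm Q e₁ f₂, hfe₁, polar_add_left, hef₂, MaxTS.polar_self, hQf₂]
    simp
  have hg'e₂ : CD.toOG Q (pairG Q (e₂ + f₂) f₁) e₂ = e₂ - f₁ := by
    rw [hg'_apply, polar_comm Q f₁ e₂, hef₁, polar_add_left, MaxTS.polar_self, hQe₂,
      polar_comm Q f₂ e₂, hef₂]
    simp
  refine ⟨Cfsg.Geo.subspaceStabilizer (D 0) ⊓ Cfsg.Geo.omegaGL ⇑Q, ?_, ?_⟩
  · rw [SetLike.lt_iff_le_and_exists]
    refine ⟨?_, ?_⟩
    · intro x hx
      rw [Subgroup.mem_inf] at hx ⊢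
      obtain ⟨hx1, hx2⟩ := hx
      refine ⟨?_, hx2⟩
      obtain ⟨g, hg, rfl⟩ := (mem_omegaGL_iff Q).1 hx2
      obtain ⟨σ, hσ⟩ := hx1
      have h0 := hσ 0
      rw [map_toLin'_eq] at h0
      rw [coe_mem_subspaceStabilizer_iff_map]
      have hcases : σ 0 = 0 ∨ σ 0 = 1 := by
        generalize σ 0 = j
        fin_cases j
        · left; rfl
        · right; rfl
      rcases hcases with h | h
      · rw [h] at h0
        exact h0
      · exfalso
        rw [h] at h0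
        have hev := even_of_mem_omega Q hQ hdim (hts 0) (hfr 0) hg
        rw [h0, hdisj, finrank_bot, Nat.sub_zero] at hev
        exact (Nat.not_even_iff_odd.2 hko) hev
    · refine ⟨((pairG Q (e₂ + f₂) e₁ : ↥(Cfsg.isometryGroup F ⇑Q)) : GL ι F),
        Subgroup.mem_inf.2 ⟨?_, ?_⟩, ?_⟩
      · rw [coe_mem_subspaceStabilizer_iff_map]
        exact hgD0
      · rw [coe_mem_omegaGL]
        exact hg_mem
      · intro hcon
        obtain ⟨⟨σ, hσ⟩, -⟩ := Subgroup.mem_inf.1 hcon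
        have h1 := hσ 1
        rw [map_toLin'_eq] at h1
        have hmem : f₂ - e₁ ∈ D (σ 1) := by
          rw [← h1, ← hgf₂]
          exact ⟨f₂, hf₂D, rfl⟩
        have hcases : σ 1 = 0 ∨ σ 1 = 1 := by
          generalize σ 1 = j
          fin_cases j
          · left; rfl
          · right; rfl
        rcases hcases with h | h
        · rw [h] at hmem
          have : f₂ ∈ D 0 := by
            have := Submodule.add_mem _ hmem he₁D
            rwa [sub_add_cancel] at this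
          exact hf₂0 (hnot01 f₂ this hf₂D)
        · rw [h] at hmem
          have : e₁ ∈ D 1 := by
            have := Submodule.sub_mem _ hf₂D hmem
            rwa [sub_sub_cancel] at this
          exact he₁0 (hnot01 e₁ he₁D this)
  · rw [SetLike.lt_iff_le_and_exists]
    refine ⟨inf_le_right, ?_⟩
    refine ⟨((pairG Q (e₂ + f₂) f₁ : ↥(Cfsg.isometryGroup F ⇑Q)) : GL ι F), ?_, ?_⟩
    · rw [coe_mem_omegaGL]
      exact hg'_mem
    · intro hcon
      obtain ⟨h1, -⟩ := Subgroup.mem_inf.1 hcon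
      rw [coe_mem_subspaceStabilizer] at h1
      have h2 := (h1 e₂).1 he₂D
      rw [hg'e₂] at h2
      have : f₁ ∈ D 0 := by
        have := Submodule.sub_mem _ he₂D h2
        rwa [sub_sub_cancel] at this
      exact hf₁0 (hnot01 f₁ this hf₁D)

/-- In a `2m`-dimensional space of plus type the stabiliser in `Ω` of a totally singular
`(m-1)`-space is not maximal: it lies strictly inside the stabiliser of a maximal totally singular
subspace containing it. -/
theorem not_maximal_codim_one (hQ : (polarBilin Q).Nondegenerate)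
    (hex : Fintype.card F ≠ 2 ∨ Fintype.card ι ≠ 4) {m : ℕ}
    (hdim : finrank F (ι → F) = m + m) (hm : 3 ≤ m)
    {U₀ : Submodule F (ι → F)} (hU₀ : TS Q U₀) (hU₀m : finrank F U₀ = m)
    {W : Submodule F (ι → F)} (hW : TS Q W) (hWm : finrank F W + 1 = m) :
    ∃ K : Subgroup (GL ι F),
      Cfsg.Geo.subspaceStabilizer W ⊓ Cfsg.Geo.omegaGL ⇑Q < K ∧
        K < Cfsg.Geo.omegaGL ⇑Q := by
  obtain ⟨M₁, hM₁, hM₁m, hWM₁⟩ := exists_ext Q hQ hdim hU₀ hU₀m hW hWm
  obtain ⟨M₂, hM₂, hM₂m, hWM₂, hM₂ne, huniq⟩ := two_extensions hQ hdim hWm hM₁ hM₁m hWM₁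
  -- vectors
  obtain ⟨x₀, hx₀W, hx₀0⟩ : ∃ x₀ ∈ W, x₀ ≠ 0 := by
    have hpos : 0 < finrank F W := by omega
    obtain ⟨x, hx⟩ := Module.finrank_pos_iff_exists_ne_zero.1 hpos
    exact ⟨x, x.2, fun h => hx (Subtype.ext h)⟩
  have hQx₀ : Q x₀ = 0 := hW x₀ hx₀W
  obtain ⟨f, hQf, hxf⟩ := exists_sing_partner Q hQ hx₀0 hQx₀
  have hx₀M₁ : x₀ ∈ M₁ := hWM₁ hx₀W
  obtain ⟨e₁, he₁M, he₁f, he₁W⟩ : ∃ e₁ ∈ M₁, polar Q f e₁ = 0 ∧ e₁ ∉ W := by
    by_contra hcon
    push Not at hcon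
    have hle : M₁ ⊓ perp Q (Submodule.span F {f}) ≤ W ⊓ perp Q (Submodule.span F {f}) := by
      intro x hx
      exact ⟨hcon x hx.1 (mem_perp_span.1 hx.2), hx.2⟩
    have h1 := finrank_inf_perp_ge Q hQ M₁ f
    have h2 := Submodule.finrank_mono hle
    have hlt : W ⊓ perp Q (Submodule.span F {f}) < W := by
      refine lt_of_le_of_ne inf_le_left ?_
      intro heq
      have : x₀ ∈ W ⊓ perp Q (Submodule.span F {f}) := by rw [heq]; exact hx₀W
      have h3 := mem_perp_span.1 this.2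
      rw [polar_comm, hxf] at h3
      exact one_ne_zero h3
    have h4 := Submodule.finrank_lt_finrank_of_lt hlt
    omega
  have he₁0 : e₁ ≠ 0 := by
    rintro rfl
    exact he₁W W.zero_mem
  have hQe₁ : Q e₁ = 0 := hM₁ e₁ he₁M
  have hxe₁ : polar Q x₀ e₁ = 0 := hM₁.polar_eq_zero hx₀M₁ he₁M
  obtain ⟨f₁, hQf₁, hef₁, hxf₁, hff₁⟩ :=
    exists_sing_partner_perp Q hQ hQx₀ hQf hxf he₁0 hQe₁ hxe₁ he₁f
  have hf₁M : f₁ ∉ M₁ := by
    intro h
    have := hM₁.polar_eq_zero he₁M h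
    rw [hef₁] at this
    exact one_ne_zero this
  have ha : Q (x₀ + f) = 1 := by
    rw [Q_add, hQx₀, hQf, hxf]
    ring
  have hae₁ : polar Q (x₀ + f) e₁ = 0 := by
    rw [polar_add_left, hxe₁, he₁f, add_zero]
  have haf₁ : polar Q (x₀ + f) f₁ = 0 := by
    rw [polar_add_left, hxf₁, hff₁, add_zero]
  have hg_mem := pairG_mem_omega Q hQ hex ha hQe₁ hae₁
  have hg'_mem := pairG_mem_omega Q hQ hex ha hQf₁ haf₁
  have hg_apply := toOG_pairG_apply Q ha hQe₁ hae₁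
  have hg'_apply := toOG_pairG_apply Q ha hQf₁ haf₁
  have hgM₁ : M₁.map ((CD.toOG Q (pairG Q (x₀ + f) e₁) : (ι → F) ≃ₗ[F] (ι → F)) :
      (ι → F) →ₗ[F] (ι → F)) = M₁ := by
    apply map_eq_of_le
    intro v hv
    rw [hg_apply, hM₁.polar_eq_zero he₁M hv, zero_smul, add_zero]
    exact Submodule.sub_mem _ hv (Submodule.smul_mem _ _ he₁M)
  have hgx₀ : CD.toOG Q (pairG Q (x₀ + f) e₁) x₀ = x₀ - e₁ := by
    rw [hg_apply, polar_comm Q e₁ x₀, hxe₁, polar_add_left, MaxTS.polar_self, hQx₀,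
      polar_comm Q f x₀, hxf]
    simp
  have hg'x₀ : CD.toOG Q (pairG Q (x₀ + f) f₁) x₀ = x₀ - f₁ := by
    rw [hg'_apply, polar_comm Q f₁ x₀, hxf₁, polar_add_left, MaxTS.polar_self, hQx₀,
      polar_comm Q f x₀, hxf]
    simp
  refine ⟨Cfsg.Geo.subspaceStabilizer M₁ ⊓ Cfsg.Geo.omegaGL ⇑Q, ?_, ?_⟩
  · rw [SetLike.lt_iff_le_and_exists]
    refine ⟨?_, ?_⟩
    · intro x hx
      rw [Subgroup.mem_inf] at hx ⊢
      obtain ⟨hx1, hx2⟩ := hx
      refine ⟨?_, hx2⟩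
      obtain ⟨g, hg, rfl⟩ := (mem_omegaGL_iff Q).1 hx2
      rw [coe_mem_subspaceStabilizer_iff_map] at hx1 ⊢
      have hgiso : ∀ x, Q (CD.toOG Q g x) = Q x := CD.toOG_mem_OG Q g
      have hT : TS Q (M₁.map ((CD.toOG Q g : (ι → F) ≃ₗ[F] (ι → F)) :
          (ι → F) →ₗ[F] (ι → F))) := ts_map Q hgiso hM₁
      have hTm : finrank F (M₁.map ((CD.toOG Q g : (ι → F) ≃ₗ[F] (ι → F)) :
          (ι → F) →ₗ[F] (ι → F))) = m := by rw [finrank_map_equiv, hM₁m]
      have hWT : W ≤ M₁.map ((CD.toOG Q g : (ι → F) ≃ₗ[F] (ι → F)) :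
          (ι → F) →ₗ[F] (ι → F)) := by
        rw [← hx1]
        exact Submodule.map_mono hWM₁
      rcases huniq _ hT hTm hWT with h | h
      · exact h
      · exfalso
        have hev := even_of_mem_omega Q hQ hdim hM₁ hM₁m hg
        rw [h] at hev
        have h1 : finrank F W ≤ finrank F (M₁ ⊓ M₂ : Submodule F (ι → F)) :=
          Submodule.finrank_mono (le_inf hWM₁ hWM₂)
        have h2 : finrank F (M₁ ⊓ M₂ : Submodule F (ι → F)) < m := by
          by_contra hge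
          push Not at hge
          have h3 : finrank F (M₁ ⊓ M₂ : Submodule F (ι → F)) ≤ m := by
            rw [← hM₁m]
            exact Submodule.finrank_mono inf_le_left
          have e1 : M₁ ⊓ M₂ = M₁ :=
            Submodule.eq_of_le_of_finrank_eq inf_le_left (by rw [hM₁m]; omega)
          have e2 : M₁ ⊓ M₂ = M₂ :=
            Submodule.eq_of_le_of_finrank_eq inf_le_right (by rw [hM₂m]; omega)
          exact hM₂ne (e2.symm.trans e1)
        have h3 : m - finrank F (M₁ ⊓ M₂ : Submodule F (ι → F)) = 1 := by omega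
        rw [h3] at hev
        exact absurd hev (by decide)
    · refine ⟨((pairG Q (x₀ + f) e₁ : ↥(Cfsg.isometryGroup F ⇑Q)) : GL ι F),
        Subgroup.mem_inf.2 ⟨?_, ?_⟩, ?_⟩
      · rw [coe_mem_subspaceStabilizer_iff_map]
        exact hgM₁
      · rw [coe_mem_omegaGL]
        exact hg_mem
      · intro hcon
        obtain ⟨h1, -⟩ := Subgroup.mem_inf.1 hcon
        rw [coe_mem_subspaceStabilizer] at h1
        have h2 := (h1 x₀).1 hx₀W
        rw [hgx₀] at h2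
        apply he₁W
        have := Submodule.sub_mem _ hx₀W h2
        rwa [sub_sub_cancel] at this
  · rw [SetLike.lt_iff_le_and_exists]
    refine ⟨inf_le_right, ?_⟩
    refine ⟨((pairG Q (x₀ + f) f₁ : ↥(Cfsg.isometryGroup F ⇑Q)) : GL ι F), ?_, ?_⟩
    · rw [coe_mem_omegaGL]
      exact hg'_mem
    · intro hcon
      obtain ⟨h1, -⟩ := Subgroup.mem_inf.1 hcon
      rw [coe_mem_subspaceStabilizer] at h1
      have h2 := (h1 x₀).1 hx₀M₁
      rw [hg'x₀] at h2
      apply hf₁M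
      have := Submodule.sub_mem _ hx₀M₁ h2
      rwa [sub_sub_cancel] at this

end main

end Cfsg.Agent.Lib.Helper25.Fam
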