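import Mathlib
import Cfsg.Prelude.Def_GeometricClasses

/-!
Shared definitions for S5637 (tensor product stabiliser maximal in `SL_n(F)`).
Model: `V = F^(Fin a × Fin b)`, pure tensors `pt x y`, contraction `ct η`, blocks `blk X k l`,
Kronecker units `kel α β`, transvection units `tv y η h`.
-/

set_option autoImplicit false
set_option linter.unusedSectionVars false
set_option linter.unusedVariables false

namespace Cfsg.Agent.Lib.Helper25.Tens
open Matrix
open scoped Kronecker

variable {F : Type*} [Field F] {a b : ℕ}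

/-- index type of the model -/
abbrev Idx (a b : ℕ) : Type := Fin a × Fin b

/-- the Kronecker subgroup `GL_a ⊗ GL_b` -/
abbrev KG (a b : ℕ) (F : Type*) [Field F] : Subgroup (GL (Idx a b) F) :=
  Cfsg.Geo.kroneckerSubgroup a b F

/-- `SL` of the model -/
abbrev SLG (a b : ℕ) (F : Type*) [Field F] : Subgroup (GL (Idx a b) F) :=
  Cfsg.Geo.specialLinear (Idx a b) F

/-- pure tensor `x ⊗ y` -/
def pt (x : Fin a → F) (y : Fin b → F) : Idx a b → F := fun p => x p.1 * y p.2

/-- contraction with `η ∈ B*` -/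
def ct (η : Fin b → F) (w : Idx a b → F) : Fin a → F := fun i => ∑ l, w (i, l) * η l

/-- block `(k,l)` of a matrix on `Fin a × Fin b` -/
def blk (X : Matrix (Idx a b) (Idx a b) F) (k l : Fin b) : Matrix (Fin a) (Fin a) F :=
  fun i i' => X (i, k) (i', l)

/-- "the matrix `X` is (the matrix of) an element of `M`" -/
def InM {ι : Type} [Fintype ι] [DecidableEq ι] (M : Subgroup (GL ι F)) (X : Matrix ι ι F) : Prop :=
  ∃ t ∈ M, ((t : GL ι F) : Matrix ι ι F) = X

/-- `α ⊗ β` as a unit -/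
def kel (α : GL (Fin a) F) (β : GL (Fin b) F) : GL (Idx a b) F where
  val := (α : Matrix (Fin a) (Fin a) F) ⊗ₖ (β : Matrix (Fin b) (Fin b) F)
  inv := ((α⁻¹ : GL (Fin a) F) : Matrix (Fin a) (Fin a) F) ⊗ₖ
    ((β⁻¹ : GL (Fin b) F) : Matrix (Fin b) (Fin b) F)
  val_inv := by
    rw [← Matrix.mul_kronecker_mul, ← Units.val_mul, ← Units.val_mul, mul_inv_cancel,
      mul_inv_cancel, Units.val_one, Units.val_one, Matrix.one_kronecker_one]
  inv_val := by
    rw [← Matrix.mul_kronecker_mul, ← Units.val_mul, ← Units.val_mul, inv_mul_cancel,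
      inv_mul_cancel, Units.val_one, Units.val_one, Matrix.one_kronecker_one]

@[simp] lemma kel_val (α : GL (Fin a) F) (β : GL (Fin b) F) :
    ((kel α β : GL (Idx a b) F) : Matrix (Idx a b) (Idx a b) F) =
      (α : Matrix (Fin a) (Fin a) F) ⊗ₖ (β : Matrix (Fin b) (Fin b) F) := rfl

lemma kel_mem_KG (α : GL (Fin a) F) (β : GL (Fin b) F) : kel α β ∈ KG a b F :=
  ⟨α, β, rfl⟩

lemma mem_SLG_iff {ι : Type} [Fintype ι] [DecidableEq ι] (g : GL ι F) :
    g ∈ Cfsg.Geo.specialLinear ι F ↔ (g : Matrix ι ι F).det = 1 := by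
  change g ∈ (Matrix.GeneralLinearGroup.det : GL ι F →* Fˣ).ker ↔ _
  rw [MonoidHom.mem_ker]
  constructor
  · intro h
    have := congrArg Units.val h
    simpa using this
  · intro h
    apply Units.ext
    simpa using h

lemma kel_det (α : GL (Fin a) F) (β : GL (Fin b) F) :
    ((kel α β : GL (Idx a b) F) : Matrix (Idx a b) (Idx a b) F).det =
      (α : Matrix (Fin a) (Fin a) F).det ^ b * (β : Matrix (Fin b) (Fin b) F).det ^ a := by
  rw [kel_val, Matrix.det_kronecker]
  simp

lemma kel_mem (α : GL (Fin a) F) (β : GL (Fin b) F)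
    (h : (α : Matrix (Fin a) (Fin a) F).det ^ b * (β : Matrix (Fin b) (Fin b) F).det ^ a = 1) :
    kel α β ∈ KG a b F ⊓ SLG a b F :=
  ⟨kel_mem_KG α β, (mem_SLG_iff _).2 (by rw [kel_det, h])⟩

lemma kel_mem_of_det (α : GL (Fin a) F) (β : GL (Fin b) F)
    (hα : (α : Matrix (Fin a) (Fin a) F).det = 1) (hβ : (β : Matrix (Fin b) (Fin b) F).det = 1) :
    kel α β ∈ KG a b F ⊓ SLG a b F :=
  kel_mem α β (by rw [hα, hβ]; simp)

/-- action of a Kronecker product on a pure tensor -/
lemma kron_mulVec_pt (α : Matrix (Fin a) (Fin a) F) (β : Matrix (Fin b) (Fin b) F)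
    (x : Fin a → F) (y : Fin b → F) :
    (α ⊗ₖ β) *ᵥ pt x y = pt (α *ᵥ x) (β *ᵥ y) := by
  ext ⟨i, l⟩
  simp only [Matrix.mulVec, dotProduct, pt, Matrix.kroneckerMap_apply, Fintype.sum_prod_type]
  rw [Finset.sum_mul_sum]
  apply Finset.sum_congr rfl; intro i' _
  apply Finset.sum_congr rfl; intro l' _
  ring

lemma kel_mulVec_pt (α : GL (Fin a) F) (β : GL (Fin b) F) (x : Fin a → F) (y : Fin b → F) :
    ((kel α β : GL (Idx a b) F) : Matrix (Idx a b) (Idx a b) F) *ᵥ pt x y =
      pt ((α : Matrix (Fin a) (Fin a) F) *ᵥ x) ((β : Matrix (Fin b) (Fin b) F) *ᵥ y) :=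
  kron_mulVec_pt _ _ x y

/-- the transvection `1 + y ηᵀ` (with `η(y) = 0`) as a unit -/
def tv {n : ℕ} (y η : Fin n → F) (h : η ⬝ᵥ y = 0) : GL (Fin n) F where
  val := 1 + Matrix.vecMulVec y η
  inv := 1 - Matrix.vecMulVec y η
  val_inv := by
    have h2 : Matrix.vecMulVec y η * Matrix.vecMulVec y η = 0 := by
      ext i j
      simp only [Matrix.mul_apply, Matrix.vecMulVec_apply, Matrix.zero_apply]
      have : ∑ l, y i * η l * (y l * η j) = y i * (η ⬝ᵥ y) * η j := by
        simp only [dotProduct, Finset.mul_sum, Finset.sum_mul]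
        apply Finset.sum_congr rfl; intro l _; ring
      rw [this, h]; ring
    rw [add_mul, mul_sub, mul_sub, one_mul, mul_one, one_mul, h2]
    abel
  inv_val := by
    have h2 : Matrix.vecMulVec y η * Matrix.vecMulVec y η = 0 := by
      ext i j
      simp only [Matrix.mul_apply, Matrix.vecMulVec_apply, Matrix.zero_apply]
      have : ∑ l, y i * η l * (y l * η j) = y i * (η ⬝ᵥ y) * η j := by
        simp only [dotProduct, Finset.mul_sum, Finset.sum_mul]
        apply Finset.sum_congr rfl; intro l _; ring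
      rw [this, h]; ring
    rw [sub_mul, mul_add, mul_add, one_mul, mul_one, one_mul, h2]
    abel

@[simp] lemma tv_val {n : ℕ} (y η : Fin n → F) (h : η ⬝ᵥ y = 0) :
    ((tv y η h : GL (Fin n) F) : Matrix (Fin n) (Fin n) F) = 1 + Matrix.vecMulVec y η := rfl

lemma tv_inv_val {n : ℕ} (y η : Fin n → F) (h : η ⬝ᵥ y = 0) :
    (((tv y η h)⁻¹ : GL (Fin n) F) : Matrix (Fin n) (Fin n) F) = 1 - Matrix.vecMulVec y η := rfl

lemma tv_det {n : ℕ} (y η : Fin n → F) (h : η ⬝ᵥ y = 0) :
    ((tv y η h : GL (Fin n) F) : Matrix (Fin n) (Fin n) F).det = 1 := by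
  have h1 : (1 + Matrix.vecMulVec y η : Matrix (Fin n) (Fin n) F) =
      1 + Matrix.replicateCol Unit y * Matrix.replicateRow Unit η := by
    congr 1
    ext i j; simp [Matrix.vecMulVec_apply, Matrix.mul_apply]
  rw [tv_val, h1, Matrix.det_one_add_replicateCol_mul_replicateRow, h, add_zero]

lemma tv_mulVec {n : ℕ} (y η : Fin n → F) (h : η ⬝ᵥ y = 0) (v : Fin n → F) :
    ((tv y η h : GL (Fin n) F) : Matrix (Fin n) (Fin n) F) *ᵥ v = v + (η ⬝ᵥ v) • y := by
  rw [tv_val, Matrix.add_mulVec, Matrix.one_mulVec, Matrix.vecMulVec_mulVec]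
  congr 1
  ext i; simp [mul_comm]

/-! ### basic API -/

lemma ct_pt (η : Fin b → F) (x : Fin a → F) (y : Fin b → F) : ct η (pt x y) = (η ⬝ᵥ y) • x := by
  ext i
  simp only [ct, pt, dotProduct, Pi.smul_apply, smul_eq_mul, Finset.sum_mul]
  apply Finset.sum_congr rfl; intro l _; ring

lemma ct_add (η : Fin b → F) (v w : Idx a b → F) : ct η (v + w) = ct η v + ct η w := by
  ext i
  simp only [ct, Pi.add_apply, add_mul, Finset.sum_add_distrib]

lemma ct_smul (η : Fin b → F) (c : F) (v : Idx a b → F) : ct η (c • v) = c • ct η v := by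
  ext i
  simp only [ct, Pi.smul_apply, smul_eq_mul, Finset.mul_sum, mul_assoc]

lemma ct_add_left (η η' : Fin b → F) (v : Idx a b → F) : ct (η + η') v = ct η v + ct η' v := by
  ext i
  simp only [ct, Pi.add_apply, mul_add, Finset.sum_add_distrib]

lemma ct_smul_left (c : F) (η : Fin b → F) (v : Idx a b → F) : ct (c • η) v = c • ct η v := by
  ext i
  simp only [ct, Pi.smul_apply, smul_eq_mul, Finset.mul_sum]
  apply Finset.sum_congr rfl; intro l _; ring

/-- `η ↦ ct η w` as a linear map -/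
def ctL (w : Idx a b → F) : (Fin b → F) →ₗ[F] (Fin a → F) where
  toFun η := ct η w
  map_add' η η' := ct_add_left η η' w
  map_smul' c η := ct_smul_left c η w

@[simp] lemma ctL_apply (w : Idx a b → F) (η : Fin b → F) : ctL w η = ct η w := rfl

lemma pt_add_left (x x' : Fin a → F) (y : Fin b → F) : pt (x + x') y = pt x y + pt x' y := by
  ext p; simp only [pt, Pi.add_apply, add_mul]

lemma pt_add_right (x : Fin a → F) (y y' : Fin b → F) : pt x (y + y') = pt x y + pt x y' := by
  ext p; simp only [pt, Pi.add_apply, mul_add]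

lemma pt_smul_left (c : F) (x : Fin a → F) (y : Fin b → F) : pt (c • x) y = c • pt x y := by
  ext p; simp only [pt, Pi.smul_apply, smul_eq_mul, mul_assoc]

lemma pt_smul_right (c : F) (x : Fin a → F) (y : Fin b → F) : pt x (c • y) = c • pt x y := by
  ext p; simp only [pt, Pi.smul_apply, smul_eq_mul]; ring

@[simp] lemma pt_zero_left (y : Fin b → F) : pt (0 : Fin a → F) y = 0 := by
  ext p; simp [pt]

@[simp] lemma pt_zero_right (x : Fin a → F) : pt x (0 : Fin b → F) = 0 := by
  ext p; simp [pt]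

lemma pt_eq_zero_iff (x : Fin a → F) (y : Fin b → F) : pt x y = 0 ↔ x = 0 ∨ y = 0 := by
  constructor
  · intro h
    by_contra hcon
    push Not at hcon
    obtain ⟨i, hi⟩ := Function.ne_iff.mp hcon.1
    obtain ⟨l, hl⟩ := Function.ne_iff.mp hcon.2
    have := congrFun h (i, l)
    simp only [pt, Pi.zero_apply, mul_eq_zero] at this
    rcases this with h' | h'
    · exact hi h'
    · exact hl h'
  · rintro (h | h) <;> simp [h]

lemma pt_single_single (i : Fin a) (l : Fin b) :
    pt (Pi.single i (1 : F)) (Pi.single l (1 : F)) = Pi.single (i, l) (1 : F) := by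
  ext ⟨i', l'⟩
  simp only [pt, Pi.single_apply, Prod.mk.injEq]
  by_cases h1 : i' = i <;> by_cases h2 : l' = l <;> simp [h1, h2]

/-- column `(i,l)` of a matrix -/
lemma mulVec_pt_single (X : Matrix (Idx a b) (Idx a b) F) (i : Fin a) (l : Fin b) :
    X *ᵥ pt (Pi.single i (1 : F)) (Pi.single l (1 : F)) = fun p => X p (i, l) := by
  rw [pt_single_single]
  ext p
  simp

/-- every vector is a combination of pure tensors of basis vectors -/
lemma eq_sum_pt (v : Idx a b → F) :
    v = ∑ i, ∑ l, v (i, l) • pt (Pi.single i (1 : F)) (Pi.single l (1 : F)) := by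
  ext ⟨i', l'⟩
  simp only [Finset.sum_apply, Pi.smul_apply, pt, Pi.single_apply, smul_eq_mul]
  rw [Finset.sum_eq_single i']
  · rw [Finset.sum_eq_single l']
    · simp
    · intro l _ hl; simp [Ne.symm hl]
    · simp
  · intro i _ hi; simp [Ne.symm hi]
  · simp

/-- `pt x y` as a combination of basis pure tensors in the first slot -/
lemma pt_eq_sum_left (x : Fin a → F) (y : Fin b → F) :
    pt x y = ∑ i, x i • pt (Pi.single i (1 : F)) y := by
  ext ⟨i', l'⟩
  simp only [Finset.sum_apply, Pi.smul_apply, pt, Pi.single_apply, smul_eq_mul]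
  rw [Finset.sum_eq_single i']
  · simp
  · intro i _ hi; simp [Ne.symm hi]
  · simp

/-- the action of `1 ⊗ (1 + y ηᵀ)` -/
lemma kron_one_vecMulVec_mulVec (y η : Fin b → F) (v : Idx a b → F) :
    ((1 : Matrix (Fin a) (Fin a) F) ⊗ₖ Matrix.vecMulVec y η) *ᵥ v = pt (ct η v) y := by
  ext ⟨i, l⟩
  simp only [Matrix.mulVec, dotProduct, Matrix.kroneckerMap_apply, Matrix.vecMulVec_apply, pt, ct,
    Fintype.sum_prod_type, Matrix.one_apply]
  rw [Finset.sum_eq_single i]
  · simp only [if_true, one_mul, Finset.sum_mul]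
    apply Finset.sum_congr rfl; intro l' _; ring
  · intro i' _ hi; simp [Ne.symm hi]
  · simp

lemma kel_one_tv_mulVec (y η : Fin b → F) (h : η ⬝ᵥ y = 0) (v : Idx a b → F) :
    ((kel (1 : GL (Fin a) F) (tv y η h) : GL (Idx a b) F) : Matrix (Idx a b) (Idx a b) F) *ᵥ v =
      v + pt (ct η v) y := by
  rw [kel_val, tv_val, Units.val_one, Matrix.kronecker_add, Matrix.one_kronecker_one,
    Matrix.add_mulVec, Matrix.one_mulVec, kron_one_vecMulVec_mulVec]

lemma kel_one_tv_mem (y η : Fin b → F) (h : η ⬝ᵥ y = 0) :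
    kel (1 : GL (Fin a) F) (tv y η h) ∈ KG a b F ⊓ SLG a b F :=
  kel_mem_of_det _ _ (by simp) (tv_det y η h)

lemma kel_tv_one_mem (x ξ : Fin a → F) (h : ξ ⬝ᵥ x = 0) :
    kel (tv x ξ h) (1 : GL (Fin b) F) ∈ KG a b F ⊓ SLG a b F :=
  kel_mem_of_det _ _ (tv_det x ξ h) (by simp)

/-! ### blocks -/

lemma blk_apply (X : Matrix (Idx a b) (Idx a b) F) (k l : Fin b) (i i' : Fin a) :
    blk X k l i i' = X (i, k) (i', l) := rfl

lemma blk_mul (X Y : Matrix (Idx a b) (Idx a b) F) (k l : Fin b) :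
    blk (X * Y) k l = ∑ m, blk X k m * blk Y m l := by
  ext i i'
  simp only [blk, Matrix.mul_apply, Fintype.sum_prod_type, Matrix.sum_apply]
  rw [Finset.sum_comm]

lemma blk_one (k l : Fin b) :
    blk (1 : Matrix (Idx a b) (Idx a b) F) k l = if k = l then 1 else 0 := by
  ext i i'
  simp only [blk, Matrix.one_apply, Prod.mk.injEq]
  by_cases h1 : i = i' <;> by_cases h2 : k = l <;> simp [h1, h2, Matrix.one_apply]

lemma blk_kron (α : Matrix (Fin a) (Fin a) F) (β : Matrix (Fin b) (Fin b) F) (k l : Fin b) :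
    blk (α ⊗ₖ β) k l = β k l • α := by
  ext i i'
  simp only [blk, Matrix.kroneckerMap_apply, Matrix.smul_apply, smul_eq_mul, mul_comm]

lemma blk_add (X Y : Matrix (Idx a b) (Idx a b) F) (k l : Fin b) :
    blk (X + Y) k l = blk X k l + blk Y k l := rfl

lemma blk_sub (X Y : Matrix (Idx a b) (Idx a b) F) (k l : Fin b) :
    blk (X - Y) k l = blk X k l - blk Y k l := rfl

/-- a matrix is determined by its blocks -/
lemma ext_blk {X Y : Matrix (Idx a b) (Idx a b) F} (h : ∀ k l, blk X k l = blk Y k l) : X = Y := by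
  ext ⟨i, k⟩ ⟨i', l⟩
  exact congrFun (congrFun (h k l) i) i'

/-! ### membership -/

lemma InM_of_mem {ι : Type} [Fintype ι] [DecidableEq ι] {M : Subgroup (GL ι F)} {t : GL ι F}
    (h : t ∈ M) : InM M (t : Matrix ι ι F) := ⟨t, h, rfl⟩

lemma InM_one {ι : Type} [Fintype ι] [DecidableEq ι] (M : Subgroup (GL ι F)) :
    InM M (1 : Matrix ι ι F) := ⟨1, M.one_mem, rfl⟩

lemma InM_mul {ι : Type} [Fintype ι] [DecidableEq ι] {M : Subgroup (GL ι F)} {X Y : Matrix ι ι F}
    (hX : InM M X) (hY : InM M Y) : InM M (X * Y) := by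
  obtain ⟨s, hs, rfl⟩ := hX
  obtain ⟨t, ht, rfl⟩ := hY
  exact ⟨s * t, M.mul_mem hs ht, rfl⟩

lemma mem_KG_iff (g : GL (Idx a b) F) :
    g ∈ KG a b F ↔ ∃ (α : GL (Fin a) F) (β : GL (Fin b) F),
      (g : Matrix (Idx a b) (Idx a b) F) =
        (α : Matrix (Fin a) (Fin a) F) ⊗ₖ (β : Matrix (Fin b) (Fin b) F) := Iff.rfl

end Cfsg.Agent.Lib.Helper25.Tens
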