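import Mathlib
import Cfsg.Prelude.Def_GeometricClasses
import Cfsg.Agent.Lib.Helper25.TensDefs

/-!
S5637: the predicates used in the leaf statements (Stage I-III).
-/

set_option autoImplicit false
set_option linter.unusedSectionVars false
set_option linter.unusedVariables false

namespace Cfsg.Agent.Lib.Helper25.TensLeaves
open Matrix Cfsg.Agent.Lib.Helper25.Tens
open scoped Kronecker

variable {F : Type*} [Field F] {a b : ℕ}

/-- result of Stage I -/
def R1 (M : Subgroup (GL (Idx a b) F)) : Prop :=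
  ∃ h ∈ M, h ∉ KG a b F ∧ ∃ y y' : Fin b → F, y ≠ 0 ∧ y' ≠ 0 ∧
    ∀ x : Fin a → F, ∃ x' : Fin a → F,
      ((h : GL (Idx a b) F) : Matrix (Idx a b) (Idx a b) F) *ᵥ pt x y = pt x' y'

/-- induction predicate of Stage I -/
def PI (o : Fin b) (M : Subgroup (GL (Idx a b) F)) (d : ℕ) : Prop :=
  ∃ m ∈ M, m ∉ KG a b F ∧ ∀ i : Fin a, i.val < d →
    ((m : GL (Idx a b) F) : Matrix (Idx a b) (Idx a b) F) *ᵥ
      pt (Pi.single i 1) (Pi.single o 1) = pt (Pi.single i 1) (Pi.single o 1)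

/-- normalised result of Stage I -/
def R2 (o : Fin b) (M : Subgroup (GL (Idx a b) F)) : Prop :=
  ∃ h ∈ M, h ∉ KG a b F ∧ ∀ x : Fin a → F, ∃ x' : Fin a → F,
    ((h : GL (Idx a b) F) : Matrix (Idx a b) (Idx a b) F) *ᵥ pt x (Pi.single o 1) =
      pt x' (Pi.single o 1)

/-- the matrix `u` is in the unipotent radical `U₁` of the stabiliser of `A ⊗ e_o` -/
def U1form (o : Fin b) (u : Matrix (Idx a b) (Idx a b) F) : Prop :=
  ∀ (i i' : Fin a) (l l' : Fin b), (l ≠ o ∨ l' = o) →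
    u (i, l) (i', l') = (1 : Matrix (Idx a b) (Idx a b) F) (i, l) (i', l')

def R3 (o : Fin b) (M : Subgroup (GL (Idx a b) F)) : Prop :=
  ∃ u ∈ M, u ∉ KG a b F ∧ U1form o ((u : GL (Idx a b) F) : Matrix (Idx a b) (Idx a b) F)

def IsScalarMat (θ : Matrix (Fin a) (Fin a) F) : Prop := ∃ c : F, θ = c • (1 : Matrix (Fin a) (Fin a) F)

/-- the set `𝔅_j` -/
def Bset (o j : Fin b) (M : Subgroup (GL (Idx a b) F)) : Set (Matrix (Fin a) (Fin a) F) :=
  {θ | InM M (1 + θ ⊗ₖ (Matrix.single o j (1 : F) : Matrix (Fin b) (Fin b) F))}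

/-- all elementary transvections `1 + c E_{pq}` lie in `M` -/
def XT {ι : Type} [Fintype ι] [DecidableEq ι] (M : Subgroup (GL ι F)) (p q : ι) : Prop :=
  ∀ c : F, InM M (1 + Matrix.single p q c)

end Cfsg.Agent.Lib.Helper25.TensLeaves
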