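import Mathlib
import Cfsg.Prelude.Def_GeometricClasses
import Cfsg.Agent.Lib.Helper25.TensDefs
import Cfsg.Agent.Lib.Helper25.TensStmt
import Cfsg.Agent.Lib.Helper19.OSubBasic

/-!
S5704 (`Sp_a ⊗ Sp_b` is maximal in `Ω⁺_{ab}(q)`): the model and the shared definitions.

Model: `V = F^(Fin a × Fin b)`, pure tensors `pt x y` (helper25 `Tens`), both symplectic forms are the
standard one `sf` (Gram matrix `Jm`, hyperbolic pairs `(2k, 2k+1)`), `Q` a quadratic form with
`Q (pt x y) = 0` and `polar Q (pt x y) (pt x' y') = sf x x' * sf y y'`; long root elements `rt`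
(helper19 `OSub`).
-/

set_option autoImplicit false
set_option linter.unusedSectionVars false
set_option linter.unusedVariables false

namespace Cfsg.Agent.Lib.Helper25.SpT
open Matrix QuadraticMap
open Cfsg.Agent.Lib.Helper25.Tens Cfsg.Agent.Lib.Helper25.TensLeaves Cfsg.Agent.Lib.Helper19.OSub
open scoped Kronecker

variable {F : Type*} [Field F]

/-- the standard symplectic Gram matrix on `Fin n`: `J (2k) (2k+1) = 1`, `J (2k+1) (2k) = -1` -/
def Jm (n : ℕ) : Matrix (Fin n) (Fin n) F := fun i j =>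
  if i.val + 1 = j.val ∧ i.val % 2 = 0 then 1
  else if j.val + 1 = i.val ∧ j.val % 2 = 0 then -1 else 0

/-- the standard symplectic form `sf x y = xᵀ J y` -/
def sf {n : ℕ} (x y : Fin n → F) : F := x ⬝ᵥ (Jm n *ᵥ y)

/-- the partner index `i xor 1` -/
def pr {n : ℕ} (hn : Even n) (i : Fin n) : Fin n :=
  if h : i.val % 2 = 0 then ⟨i.val + 1, by
    obtain ⟨k, hk⟩ := hn
    have := i.2
    omega⟩
  else ⟨i.val - 1, by have := i.2; omega⟩

lemma Jm_apply (n : ℕ) (i j : Fin n) : (Jm n : Matrix (Fin n) (Fin n) F) i j =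
    if i.val + 1 = j.val ∧ i.val % 2 = 0 then 1
    else if j.val + 1 = i.val ∧ j.val % 2 = 0 then -1 else 0 := rfl

lemma Jm_swap (n : ℕ) (i j : Fin n) :
    (Jm n : Matrix (Fin n) (Fin n) F) j i = - Jm n i j := by
  simp only [Jm_apply]
  by_cases h1 : i.val + 1 = j.val ∧ i.val % 2 = 0
  · have h2 : ¬ (j.val + 1 = i.val ∧ j.val % 2 = 0) := by omega
    rw [if_pos h1, if_neg h2, if_pos h1]
  · by_cases h2 : j.val + 1 = i.val ∧ j.val % 2 = 0
    · rw [if_pos h2, if_neg h1, if_pos h2]; simp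
    · rw [if_neg h2, if_neg h1, if_neg h1, if_neg h2]; simp

lemma Jm_diag (n : ℕ) (i : Fin n) : (Jm n : Matrix (Fin n) (Fin n) F) i i = 0 := by
  simp only [Jm_apply]
  have h1 : ¬ (i.val + 1 = i.val ∧ i.val % 2 = 0) := by omega
  rw [if_neg h1, if_neg h1]

lemma sf_eq_sum {n : ℕ} (x y : Fin n → F) : sf x y = ∑ i, ∑ j, x i * Jm n i j * y j := by
  simp only [sf, dotProduct, Matrix.mulVec, Finset.mul_sum, mul_assoc]

lemma sf_add_left {n : ℕ} (x x' y : Fin n → F) : sf (x + x') y = sf x y + sf x' y := by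
  simp only [sf, add_dotProduct]

lemma sf_add_right {n : ℕ} (x y y' : Fin n → F) : sf x (y + y') = sf x y + sf x y' := by
  simp only [sf, Matrix.mulVec_add, dotProduct_add]

lemma sf_smul_left {n : ℕ} (c : F) (x y : Fin n → F) : sf (c • x) y = c * sf x y := by
  simp only [sf, smul_dotProduct, smul_eq_mul]

lemma sf_smul_right {n : ℕ} (c : F) (x y : Fin n → F) : sf x (c • y) = c * sf x y := by
  simp only [sf, Matrix.mulVec_smul, dotProduct_smul, smul_eq_mul]

@[simp] lemma sf_zero_left {n : ℕ} (y : Fin n → F) : sf (0 : Fin n → F) y = 0 := by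
  simp [sf]

@[simp] lemma sf_zero_right {n : ℕ} (x : Fin n → F) : sf x (0 : Fin n → F) = 0 := by
  simp [sf]

lemma sf_neg_left {n : ℕ} (x y : Fin n → F) : sf (-x) y = - sf x y := by
  simp only [sf, neg_dotProduct]

lemma sf_neg_right {n : ℕ} (x y : Fin n → F) : sf x (-y) = - sf x y := by
  simp only [sf, Matrix.mulVec_neg, dotProduct_neg]

lemma sf_sub_left {n : ℕ} (x x' y : Fin n → F) : sf (x - x') y = sf x y - sf x' y := by
  simp only [sf, sub_dotProduct]

lemma sf_sub_right {n : ℕ} (x y y' : Fin n → F) : sf x (y - y') = sf x y - sf x y' := by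
  simp only [sf, Matrix.mulVec_sub, dotProduct_sub]

lemma sf_skew {n : ℕ} (x y : Fin n → F) : sf x y = - sf y x := by
  rw [sf_eq_sum, sf_eq_sum, Finset.sum_comm, ← Finset.sum_neg_distrib]
  apply Finset.sum_congr rfl; intro i _
  rw [← Finset.sum_neg_distrib]
  apply Finset.sum_congr rfl; intro j _
  rw [Jm_swap n i j]; ring

lemma sf_self {n : ℕ} (x : Fin n → F) : sf x x = 0 := by
  -- pair the (i,j) and (j,i) terms
  have h : ∀ (s : Finset (Fin n)), (∑ i ∈ s, ∑ j ∈ s, x i * Jm n i j * x j) = 0 := by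
    intro s
    induction s using Finset.induction_on with
    | empty => simp
    | insert k s hk ih =>
      rw [Finset.sum_insert hk]
      simp only [Finset.sum_insert hk]
      rw [Finset.sum_add_distrib, ih, Jm_diag]
      have : ∑ j ∈ s, x k * Jm n k j * x j + ∑ i ∈ s, x i * Jm n i k * x k = 0 := by
        rw [← Finset.sum_add_distrib]
        apply Finset.sum_eq_zero
        intro j _
        rw [Jm_swap n j k]; ring
      linear_combination this
  rw [sf_eq_sum]
  exact h Finset.univ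

lemma sf_single_right {n : ℕ} (x : Fin n → F) (j : Fin n) :
    sf x (Pi.single j (1 : F)) = ∑ i, x i * Jm n i j := by
  rw [sf_eq_sum]
  apply Finset.sum_congr rfl; intro i _
  rw [Finset.sum_eq_single j]
  · simp
  · intro j' _ hj'; simp [hj']
  · simp

lemma sf_single_left {n : ℕ} (i : Fin n) (y : Fin n → F) :
    sf (Pi.single i (1 : F)) y = ∑ j, Jm n i j * y j := by
  rw [sf_eq_sum, Finset.sum_eq_single i]
  · simp
  · intro i' _ hi'; simp [hi']
  · simp

lemma sf_single_single {n : ℕ} (i j : Fin n) :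
    sf (Pi.single i (1 : F)) (Pi.single j (1 : F)) = Jm n i j := by
  rw [sf_single_left, Finset.sum_eq_single j]
  · simp
  · intro j' _ hj'; simp [hj']
  · simp

lemma pr_val_even {n : ℕ} (hn : Even n) (i : Fin n) (h : i.val % 2 = 0) :
    (pr hn i).val = i.val + 1 := by
  simp [pr, h]

lemma pr_val_odd {n : ℕ} (hn : Even n) (i : Fin n) (h : ¬ i.val % 2 = 0) :
    (pr hn i).val = i.val - 1 := by
  simp [pr, h]

lemma pr_pr {n : ℕ} (hn : Even n) (i : Fin n) : pr hn (pr hn i) = i := by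
  apply Fin.ext
  by_cases h : i.val % 2 = 0
  · have h1 := pr_val_even hn i h
    have h2 : ¬ (pr hn i).val % 2 = 0 := by omega
    rw [pr_val_odd hn _ h2, h1]; omega
  · have h1 := pr_val_odd hn i h
    have h2 : (pr hn i).val % 2 = 0 := by omega
    rw [pr_val_even hn _ h2, h1]; omega

lemma pr_ne {n : ℕ} (hn : Even n) (i : Fin n) : pr hn i ≠ i := by
  intro h
  have := congrArg Fin.val h
  by_cases h' : i.val % 2 = 0
  · rw [pr_val_even hn i h'] at this; omega
  · rw [pr_val_odd hn i h'] at this; omega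

/-- `J i j ≠ 0` exactly for `j = pr i` -/
lemma Jm_eq_zero_of_ne {n : ℕ} (hn : Even n) (i j : Fin n) (h : j ≠ pr hn i) :
    (Jm n : Matrix (Fin n) (Fin n) F) i j = 0 := by
  rw [Jm_apply]
  have hv : j.val ≠ (pr hn i).val := fun e => h (Fin.ext e)
  by_cases h' : i.val % 2 = 0
  · rw [pr_val_even hn i h'] at hv
    rw [if_neg (by omega), if_neg (by omega)]
  · rw [pr_val_odd hn i h'] at hv
    rw [if_neg (by omega), if_neg (by omega)]

lemma Jm_pr {n : ℕ} (hn : Even n) (i : Fin n) :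
    (Jm n : Matrix (Fin n) (Fin n) F) i (pr hn i) = if i.val % 2 = 0 then 1 else -1 := by
  rw [Jm_apply]
  by_cases h' : i.val % 2 = 0
  · rw [pr_val_even hn i h', if_pos ⟨rfl, h'⟩, if_pos h']
  · rw [pr_val_odd hn i h', if_neg (by omega), if_pos (by omega), if_neg h']

lemma Jm_pr_ne_zero {n : ℕ} (hn : Even n) (i : Fin n) :
    (Jm n : Matrix (Fin n) (Fin n) F) i (pr hn i) ≠ 0 := by
  rw [Jm_pr]
  split_ifs <;> simp

/-- `sf (e_i) y = ± y (pr i)` -/
lemma sf_single_left' {n : ℕ} (hn : Even n) (i : Fin n) (y : Fin n → F) :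
    sf (Pi.single i (1 : F)) y = Jm n i (pr hn i) * y (pr hn i) := by
  rw [sf_single_left, Finset.sum_eq_single (pr hn i)]
  · intro j _ hj
    rw [Jm_eq_zero_of_ne hn i j hj, zero_mul]
  · simp

/-- nondegeneracy of the standard symplectic form -/
lemma exists_sf_ne_zero {n : ℕ} (hn : Even n) {x : Fin n → F} (hx : x ≠ 0) :
    ∃ y : Fin n → F, sf x y ≠ 0 := by
  obtain ⟨i, hi⟩ := Function.ne_iff.mp hx
  refine ⟨Pi.single (pr hn i) 1, ?_⟩
  rw [sf_skew, sf_single_left' hn, pr_pr]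
  have h := Jm_pr_ne_zero (F := F) hn (pr hn i)
  rw [pr_pr] at h
  exact neg_ne_zero.2 (mul_ne_zero h hi)

/-! ### symplectic transvections and the basic elements of `K` -/

/-- the functional `sf · y` as a vector -/
def sfv {n : ℕ} (y : Fin n → F) : Fin n → F := Jm n *ᵥ y

lemma sfv_dot {n : ℕ} (y v : Fin n → F) : sfv y ⬝ᵥ v = sf v y := by
  rw [sfv, sf, dotProduct_comm]

/-- the symplectic transvection `v ↦ v + c * sf v y • y` -/
def stv {n : ℕ} (y : Fin n → F) (c : F) : GL (Fin n) F :=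
  tv (c • y) (sfv y) (by rw [sfv_dot, sf_smul_left, sf_self, mul_zero])

lemma stv_mulVec {n : ℕ} (y : Fin n → F) (c : F) (v : Fin n → F) :
    ((stv y c : GL (Fin n) F) : Matrix (Fin n) (Fin n) F) *ᵥ v = v + (c * sf v y) • y := by
  rw [stv, tv_mulVec, sfv_dot, smul_smul, mul_comm]

/-- contraction of `v ∈ A ⊗ B` with the functional `sf · y` of `B` -/
def cB {a b : ℕ} (y : Fin b → F) (v : Idx a b → F) : Fin a → F := ct (sfv y) v

lemma cB_pt {a b : ℕ} (y : Fin b → F) (x : Fin a → F) (z : Fin b → F) :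
    cB y (pt x z) = sf z y • x := by
  rw [cB, ct_pt, sfv_dot]

/-- `1 ⊗ τ_{y,c}` -/
def kB {a b : ℕ} (y : Fin b → F) (c : F) : GL (Idx a b) F := kel (1 : GL (Fin a) F) (stv y c)

/-- `τ_{x,c} ⊗ 1` -/
def kA {a b : ℕ} (x : Fin a → F) (c : F) : GL (Idx a b) F := kel (stv x c) (1 : GL (Fin b) F)

lemma kB_mem_KG {a b : ℕ} (y : Fin b → F) (c : F) : (kB y c : GL (Idx a b) F) ∈ KG a b F :=
  kel_mem_KG _ _

lemma kA_mem_KG {a b : ℕ} (x : Fin a → F) (c : F) : (kA x c : GL (Idx a b) F) ∈ KG a b F :=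
  kel_mem_KG _ _

lemma mv_kB_pt {a b : ℕ} (y : Fin b → F) (c : F) (x : Fin a → F) (z : Fin b → F) :
    mv (kB y c : GL (Idx a b) F) (pt x z) = pt x (z + (c * sf z y) • y) := by
  unfold mv kB
  rw [kel_mulVec_pt, stv_mulVec]
  simp

lemma mv_kA_pt {a b : ℕ} (x₀ : Fin a → F) (c : F) (x : Fin a → F) (z : Fin b → F) :
    mv (kA x₀ c : GL (Idx a b) F) (pt x z) = pt (x + (c * sf x x₀) • x₀) z := by
  unfold mv kA
  rw [kel_mulVec_pt, stv_mulVec]
  simp

/-- `1 ⊗ τ_{y,c}` acts as `v ↦ v + c • pt (cB y v) y` -/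
lemma mv_kB {a b : ℕ} (y : Fin b → F) (c : F) (v : Idx a b → F) :
    mv (kB y c : GL (Idx a b) F) v = v + c • pt (cB y v) y := by
  unfold mv kB stv
  rw [kel_one_tv_mulVec, pt_smul_right, cB]

/-! ### the context -/

/-- the model: both symplectic forms standard, `Q` vanishes on pure tensors and its polar form is the
tensor product form -/
structure Ctx (a b : ℕ) (Q : QuadraticForm F (Idx a b → F)) : Prop where
  ea : Even a
  eb : Even b
  ha : 2 ≤ a
  hab : a + 2 ≤ b
  hn : 13 ≤ a * b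
  nd : (polarBilin Q).Nondegenerate
  pure : ∀ (x : Fin a → F) (y : Fin b → F), Q (pt x y) = 0
  pol : ∀ (x : Fin a → F) (y : Fin b → F) (x' : Fin a → F) (y' : Fin b → F),
    polar Q (pt x y) (pt x' y') = sf x x' * sf y y'

/-- the overgroup context `K ≤ M ≤ Ω` -/
structure MCtx [Fintype F] (a b : ℕ) (Q : QuadraticForm F (Idx a b → F))
    (M : Subgroup (GL (Idx a b) F)) : Prop extends Ctx a b Q where
  hex : ¬ (Fintype.card F = 2 ∧ a = 2)
  le : KG a b F ⊓ Cfsg.Geo.omegaGL ⇑Q ≤ M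
  le_om : M ≤ Cfsg.Geo.omegaGL ⇑Q

/-- `M` contains a nontrivial pure root element with independent `B`-components (types T3–T7) -/
def RootB {a b : ℕ} (Q : QuadraticForm F (Idx a b → F)) (M : Subgroup (GL (Idx a b) F)) : Prop :=
  ∃ (x x' : Fin a → F) (y y' : Fin b → F) (c : F), c ≠ 0 ∧ x ≠ 0 ∧ x' ≠ 0 ∧
    LinearIndependent F ![y, y'] ∧ sf x x' * sf y y' = 0 ∧ rt Q (pt x y) (pt x' y') c ∈ M

/-- `M` contains a nontrivial pure root element with independent `A`-components (types T1, T2, T5–T7) -/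
def RootA {a b : ℕ} (Q : QuadraticForm F (Idx a b → F)) (M : Subgroup (GL (Idx a b) F)) : Prop :=
  ∃ (x x' : Fin a → F) (y y' : Fin b → F) (c : F), c ≠ 0 ∧ y ≠ 0 ∧ y' ≠ 0 ∧
    LinearIndependent F ![x, x'] ∧ sf x x' * sf y y' = 0 ∧ rt Q (pt x y) (pt x' y') c ∈ M

end Cfsg.Agent.Lib.Helper25.SpT
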