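import Cfsg.Agent.Lib.Helper25.POmegaAut

set_option autoImplicit false

/-!
# Automorphisms of `PΩ(Q)` induced by similarities
-/

namespace Cfsg.Agent.Lib.Helper25.PSim

open Module QuadraticMap Matrix Cfsg.Agent.Lib.Helper25.CD Cfsg.Agent.Lib.Helper25.Spin
  Cfsg.Agent.Lib.Helper25.MaxTS Cfsg.Agent.Lib.Helper25.Fam Cfsg.Agent.Lib.Helper25.Siegel
  Cfsg.Agent.Lib.Helper25.PS Cfsg.Agent.Lib.Helper25.PAut

open scoped Pointwise commutatorElement

universe u

section abstract

variable {G : Type*} [Group G]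

/-- Automorphisms act on the quotient by a characteristic subgroup. -/
noncomputable def quotChar (N : Subgroup G) [N.Characteristic] : MulAut G →* MulAut (G ⧸ N) where
  toFun φ := QuotientGroup.congr N N φ (Subgroup.characteristic_iff_map_eq.1 inferInstance φ)
  map_one' := by
    apply MulEquiv.ext
    intro t
    induction t using QuotientGroup.induction_on with
    | H s => rfl
  map_mul' φ ψ := by
    apply MulEquiv.ext
    intro t
    induction t using QuotientGroup.induction_on with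
    | H s => rfl

theorem quotChar_mk (N : Subgroup G) [N.Characteristic] (φ : MulAut G) (x : G) :
    quotChar N φ (QuotientGroup.mk x) = QuotientGroup.mk (φ x) := rfl

end abstract

section general

variable {ι : Type} [Fintype ι] [DecidableEq ι] {F : Type u} [Field F]
  (Q : (ι → F) → F)

theorem mem_iso_iff' (g : GL ι F) :
    g ∈ Cfsg.isometryGroup F Q ↔ ∀ v, Q ((g : Matrix ι ι F) *ᵥ v) = Q v := by
  constructor
  · intro h v
    exact h v v
  · intro h u _
    exact h u

theorem iso_le_sim : Cfsg.isometryGroup F Q ≤ Cfsg.Geo.quadSimilarityGroup (F := F) Q := by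
  intro g hg
  refine ⟨1, fun v => ?_⟩
  rw [(mem_iso_iff' Q g).1 hg v, Units.val_one, one_mul]

theorem conj_mem {g s : GL ι F} (hg : g ∈ Cfsg.Geo.quadSimilarityGroup (F := F) Q)
    (hs : s ∈ Cfsg.isometryGroup F Q) : g * s * g⁻¹ ∈ Cfsg.isometryGroup F Q := by
  rw [mem_iso_iff'] at hs ⊢
  obtain ⟨c, hc⟩ := hg
  intro v
  have h1 : ((g * s * g⁻¹ : GL ι F) : Matrix ι ι F) *ᵥ v =
      (g : Matrix ι ι F) *ᵥ ((s : Matrix ι ι F) *ᵥ (((g⁻¹ : GL ι F) : Matrix ι ι F) *ᵥ v)) := by
    rw [Matrix.mulVec_mulVec, Matrix.mulVec_mulVec]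
    rfl
  have h2 : v = (g : Matrix ι ι F) *ᵥ (((g⁻¹ : GL ι F) : Matrix ι ι F) *ᵥ v) := by
    rw [Matrix.mulVec_mulVec, ← Units.val_mul, mul_inv_cancel, Units.val_one, Matrix.one_mulVec]
  rw [h1, hc, hs]
  nth_rewrite 2 [h2]
  rw [hc]

/-- Conjugation by a similarity, as an automorphism of the isometry group. -/
def conjSub : ↥(Cfsg.Geo.quadSimilarityGroup (F := F) Q) →* MulAut ↥(Cfsg.isometryGroup F Q) where
  toFun g :=
    { toFun := fun s => ⟨g.1 * s.1 * g.1⁻¹, conj_mem Q g.2 s.2⟩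
      invFun := fun s => ⟨g.1⁻¹ * s.1 * g.1, by
        have := conj_mem Q (inv_mem g.2) s.2
        rwa [inv_inv] at this⟩
      left_inv := fun s => Subtype.ext (by
        show g.1⁻¹ * (g.1 * s.1 * g.1⁻¹) * g.1 = s.1
        group)
      right_inv := fun s => Subtype.ext (by
        show g.1 * (g.1⁻¹ * s.1 * g.1) * g.1⁻¹ = s.1
        group)
      map_mul' := fun s t => Subtype.ext (by
        show g.1 * (s.1 * t.1) * g.1⁻¹ = (g.1 * s.1 * g.1⁻¹) * (g.1 * t.1 * g.1⁻¹)
        group) }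
  map_one' := by
    apply MulEquiv.ext
    intro s
    apply Subtype.ext
    show (1 : GL ι F) * s.1 * (1 : GL ι F)⁻¹ = s.1
    group
  map_mul' g h := by
    apply MulEquiv.ext
    intro s
    apply Subtype.ext
    show (g.1 * h.1) * s.1 * (g.1 * h.1)⁻¹ = g.1 * (h.1 * s.1 * h.1⁻¹) * g.1⁻¹
    group

theorem conjSub_val (g : ↥(Cfsg.Geo.quadSimilarityGroup (F := F) Q))
    (s : ↥(Cfsg.isometryGroup F Q)) : (conjSub Q g s : GL ι F) = g.1 * s.1 * g.1⁻¹ := rfl

/-- The automorphism of `PΩ` induced by conjugation by a similarity. -/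
noncomputable def theta :
    ↥(Cfsg.Geo.quadSimilarityGroup (F := F) Q) →* MulAut (Cfsg.POmega F Q) :=
  (quotChar (Subgroup.center ↥(Cfsg.Omega F Q))).comp
    ((MulAut.characteristic (Cfsg.Omega F Q)).comp (conjSub Q))

theorem theta_mk (g : ↥(Cfsg.Geo.quadSimilarityGroup (F := F) Q)) (s : ↥(Cfsg.Omega F Q)) :
    theta Q g (QuotientGroup.mk s) =
      QuotientGroup.mk (MulAut.characteristic (Cfsg.Omega F Q) (conjSub Q g) s) := rfl

theorem char_val (g : ↥(Cfsg.Geo.quadSimilarityGroup (F := F) Q)) (s : ↥(Cfsg.Omega F Q)) :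
    (((MulAut.characteristic (Cfsg.Omega F Q) (conjSub Q g) s : ↥(Cfsg.Omega F Q)) :
      ↥(Cfsg.isometryGroup F Q)) : GL ι F) = g.1 * s.1.1 * g.1⁻¹ := rfl

/-- inclusion of the isometry group in the similarity group -/
def incl : ↥(Cfsg.isometryGroup F Q) →* ↥(Cfsg.Geo.quadSimilarityGroup (F := F) Q) :=
  Subgroup.inclusion (iso_le_sim Q)

theorem incl_val (g : ↥(Cfsg.isometryGroup F Q)) : (incl Q g).1 = g.1 := rfl

theorem theta_incl (g : ↥(Cfsg.isometryGroup F Q)) : theta Q (incl Q g) = conjTHom Q g := by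
  apply MulEquiv.ext
  intro t
  induction t using QuotientGroup.induction_on with
  | H s =>
    rw [theta_mk, conjTHom_apply, conjT_mk]
    congr 1

theorem theta_comp_incl : (theta Q).comp (incl Q) = conjTHom Q :=
  MonoidHom.ext (theta_incl Q)

theorem induced_iff (g : GL ι F) (hg : g ∈ Cfsg.Geo.quadSimilarityGroup (F := F) Q)
    (β : Cfsg.POmega F Q ≃* Cfsg.POmega F Q) :
    Cfsg.IsInducedBySemilinearPOmega Q g (RingEquiv.refl F) β ↔ β = theta Q ⟨g, hg⟩ := by
  constructor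
  · intro h
    apply MulEquiv.ext
    intro t
    induction t using QuotientGroup.induction_on with
    | H s =>
      rw [theta_mk]
      apply h
      rw [map_refl]
      rfl
  · rintro rfl s s' hs
    rw [theta_mk]
    congr 1
    apply Subtype.ext
    apply Subtype.ext
    apply Units.ext
    rw [hs, map_refl]
    rfl

theorem pgoAut_eq : Cfsg.pgoAut F Q = (theta Q).range := by
  unfold Cfsg.pgoAut Cfsg.autSubgroupOf
  have hset : {β : MulAut (Cfsg.POmega F Q) | Cfsg.IsSimilarityInducedAutPOmega Q β} =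
      ((theta Q).range : Set (MulAut (Cfsg.POmega F Q))) := by
    ext β
    constructor
    · rintro ⟨g, hg, hind⟩
      exact ⟨⟨g, hg⟩, ((induced_iff Q g hg β).1 hind).symm⟩
    · rintro ⟨g, rfl⟩
      exact ⟨g.1, g.2, (induced_iff Q g.1 g.2 _).2 rfl⟩
  rw [hset, Subgroup.closure_eq]

theorem psoAut_eq' :
    Cfsg.psoAut F Q = ((Cfsg.specialIsometryGroup F Q).map (incl Q)).map (theta Q) := by
  rw [psoAut_eq, Subgroup.map_map, theta_comp_incl]

theorem inn_eq' :
    Cfsg.Inn (Cfsg.POmega F Q) = ((Cfsg.Omega F Q).map (incl Q)).map (theta Q) := by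
  rw [inn_eq, Subgroup.map_map, theta_comp_incl]

end general

section kernel

variable {ι : Type} [Fintype ι] [DecidableEq ι] {F : Type u} [Field F] [Fintype F]
  (Q : QuadraticForm F (ι → F))

/-- A similarity acting trivially on `PΩ` centralises `Ω`. -/
theorem centralizes_of_theta_eq_one (hQ : (polarBilin Q).Nondegenerate)
    (hn : 7 ≤ Fintype.card ι) (g : ↥(Cfsg.Geo.quadSimilarityGroup (F := F) ⇑Q))
    (hg : theta ⇑Q g = 1) (s : ↥(Cfsg.Omega F ⇑Q)) : g.1 * s.1.1 * g.1⁻¹ = s.1.1 := by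
  have hcen : ∀ s : ↥(Cfsg.Omega F ⇑Q),
      s⁻¹ * MulAut.characteristic (Cfsg.Omega F ⇑Q) (conjSub ⇑Q g) s ∈
        Subgroup.center ↥(Cfsg.Omega F ⇑Q) := by
    intro s
    have h1 : theta ⇑Q g (QuotientGroup.mk s) = QuotientGroup.mk s := by
      rw [hg]
      rfl
    rw [theta_mk] at h1
    exact QuotientGroup.eq.1 h1.symm
  have h3 := fix_of_central_commutator (omega_perfect Q hQ hn)
    (MulAut.characteristic (Cfsg.Omega F ⇑Q) (conjSub ⇑Q g)) hcen s
  have h4 := congrArg (fun x : ↥(Cfsg.Omega F ⇑Q) => (x.1.1 : GL ι F)) h3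
  exact h4

/-- A linear map with every singular vector as eigenvector is a scalar. -/
theorem scalar_of_eigen (hQ : (polarBilin Q).Nondegenerate) (hn : 5 ≤ Fintype.card ι)
    (e : (ι → F) →ₗ[F] (ι → F))
    (heig : ∀ u : ι → F, u ≠ 0 → Q u = 0 → ∃ t : F, e u = t • u) :
    ∃ c : F, ∀ x, e x = c • x := by
  have hfr : 5 ≤ finrank F (ι → F) := by
    rw [Module.finrank_fintype_fun_eq_card]
    exact hn
  have hdep : ∀ u w : ι → F, w ≠ 0 → ∀ a t t' : F, w = a • u → e u = t • u → e w = t' • w →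
      t = t' := by
    intro u w hw0 a t t' hw hgu hgw
    have h1 : e w = t • w := by
      rw [hw, map_smul, hgu, smul_smul, smul_smul, mul_comm]
    rw [hgw] at h1
    have h2 : (t' - t) • w = 0 := by rw [sub_smul, h1, sub_self]
    have h3 := (smul_eq_zero.1 h2).resolve_right hw0
    exact (sub_eq_zero.1 h3).symm
  have hort : ∀ u w : ι → F, u ≠ 0 → w ≠ 0 → Q u = 0 → Q w = 0 → polar Q u w = 0 →
      ∀ t t' : F, e u = t • u → e w = t' • w → t = t' := by
    intro u w hu0 hw0 hu hw huw t t' hgu hgw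
    by_cases hind : LinearIndependent F ![u, w]
    · have hz0 : u + w ≠ 0 := by
        intro h
        have := (LinearIndependent.pair_iff.1 hind) 1 1 (by rw [one_smul, one_smul]; exact h)
        exact one_ne_zero this.1
      have hQz : Q (u + w) = 0 := by
        rw [MaxTS.Q_add, hu, hw, huw]
        ring
      obtain ⟨t'', ht''⟩ := heig (u + w) hz0 hQz
      rw [map_add, hgu, hgw] at ht''
      have h2 : (t - t'') • u + (t' - t'') • w = 0 := by
        rw [sub_smul, sub_smul]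
        have : t'' • (u + w) = t'' • u + t'' • w := smul_add _ _ _
        rw [this] at ht''
        linear_combination (exp := 1) ht''
      have h3 := (LinearIndependent.pair_iff.1 hind) _ _ h2
      rw [sub_eq_zero] at h3
      rw [sub_eq_zero] at h3
      rw [h3.1, h3.2]
    · rw [LinearIndependent.pair_iff' hu0] at hind
      push Not at hind
      obtain ⟨a, ha⟩ := hind
      exact hdep u w hw0 a t t' ha.symm hgu hgw
  have hconst : ∀ u w : ι → F, u ≠ 0 → w ≠ 0 → Q u = 0 → Q w = 0 → ∀ t t' : F,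
      e u = t • u → e w = t' • w → t = t' := by
    intro u w hu0 hw0 hu hw t t' hgu hgw
    by_cases huw : polar Q u w = 0
    · exact hort u w hu0 hw0 hu hw huw t t' hgu hgw
    · obtain ⟨z, hz0, hQz, huz, hwz⟩ := OGeom.exists_sing_perp_pair Q hQ hfr hu hw huw
      obtain ⟨tz, htz⟩ := heig z hz0 hQz
      rw [hort u z hu0 hz0 hu hQz huz t tz hgu htz]
      exact hort z w hz0 hw0 hQz hw (by rw [polar_comm]; exact hwz) tz t' htz hgw
  obtain ⟨u₀, hu₀0, hQu₀⟩ := Cfsg.Agent.Lib.Helper15.exists_singular_of_three_le Q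
    (show 3 ≤ finrank F (ι → F) by omega)
  obtain ⟨c, hc⟩ := heig u₀ hu₀0 hQu₀
  refine ⟨c, ?_⟩
  have hsing : ∀ x : ι → F, Q x = 0 → e x = c • x := by
    intro x hx
    by_cases hx0 : x = 0
    · rw [hx0, map_zero, smul_zero]
    · obtain ⟨t, ht⟩ := heig x hx0 hx
      rw [ht, hconst u₀ x hu₀0 hx0 hQu₀ hx c t hc ht]
  have hle : Submodule.span F {x : ι → F | Q x = 0} ≤
      LinearMap.eqLocus e (c • (LinearMap.id : (ι → F) →ₗ[F] (ι → F))) := by
    rw [Submodule.span_le]
    intro x hx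
    rw [SetLike.mem_coe, LinearMap.mem_eqLocus]
    show e x = c • x
    exact hsing x hx
  rw [OGeom.span_singular_eq_top Q hQ (by omega)] at hle
  intro x
  have := hle (Submodule.mem_top (x := x))
  rw [LinearMap.mem_eqLocus] at this
  exact this

/-- A similarity commuting with `Ω` fixes every singular point. -/
theorem eigen_of_commute (hQ : (polarBilin Q).Nondegenerate) (hn : 6 ≤ Fintype.card ι)
    (g : GL ι F) (hg : g ∈ Cfsg.Geo.quadSimilarityGroup (F := F) ⇑Q)
    (hcomm : ∀ s : ↥(Cfsg.Omega F ⇑Q), g * s.1.1 = s.1.1 * g)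
    (u : ι → F) (hu0 : u ≠ 0) (hu : Q u = 0) :
    ∃ t : F, (g : Matrix ι ι F) *ᵥ u = t • u := by
  obtain ⟨c, hc⟩ := hg
  have hu' : Q ((g : Matrix ι ι F) *ᵥ u) = 0 := by rw [hc, hu, mul_zero]
  have hu'0 : (g : Matrix ι ι F) *ᵥ u ≠ 0 := by
    intro h
    apply hu0
    apply (toLE g).injective
    rw [toLE_apply, h, map_zero]
  by_contra hne
  have hPR : mk' Q u hu0 hu ≠ mk' Q _ hu'0 hu' := by
    intro h
    exact hne (exists_smul_of_mk'_eq Q hu0 hu hu'0 hu' h.symm)
  obtain ⟨R', hPR', hR'R, hort⟩ := exists_other Q hQ (by omega) hPR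
  obtain ⟨h, hhP, hhR⟩ := trans_pair Q hQ hn hPR hPR' hort
  apply hR'R
  rw [← hhR]
  have h1 : h.1 • mk' Q u hu0 hu = mk' Q u hu0 hu := hhP
  rw [smul_mk'] at h1
  obtain ⟨t, ht⟩ := exists_smul_of_mk'_eq Q _ _ _ _ h1
  show h.1 • mk' Q _ hu'0 hu' = mk' Q _ hu'0 hu'
  rw [smul_mk']
  apply mk'_eq_of_smul Q (t := t)
  rw [toOG_apply, Matrix.mulVec_mulVec, ← Units.val_mul, ← hcomm h, Units.val_mul,
    ← Matrix.mulVec_mulVec, ← toOG_apply, ht, Matrix.mulVec_smul]

/-- A similarity acting trivially on `PΩ` is a scalar. -/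
theorem scalar_of_theta_eq_one (hQ : (polarBilin Q).Nondegenerate)
    (hn : 7 ≤ Fintype.card ι) (g : ↥(Cfsg.Geo.quadSimilarityGroup (F := F) ⇑Q))
    (hg : theta ⇑Q g = 1) :
    ∃ c : F, ∀ x, (g.1 : Matrix ι ι F) *ᵥ x = c • x := by
  have hcomm : ∀ s : ↥(Cfsg.Omega F ⇑Q), g.1 * s.1.1 = s.1.1 * g.1 := by
    intro s
    have := centralizes_of_theta_eq_one Q hQ hn g hg s
    calc g.1 * s.1.1 = (g.1 * s.1.1 * g.1⁻¹) * g.1 := by group
      _ = s.1.1 * g.1 := by rw [this]
  obtain ⟨c, hc⟩ := scalar_of_eigen Q hQ (by omega) (toLE g.1).toLinearMap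
    (fun u hu0 hu => eigen_of_commute Q hQ (by omega) g.1 g.2 hcomm u hu0 hu)
  exact ⟨c, hc⟩

/-- A scalar similarity acts trivially. -/
theorem theta_eq_one_of_scalar (g : ↥(Cfsg.Geo.quadSimilarityGroup (F := F) ⇑Q)) (c : F)
    (hc : ∀ x, (g.1 : Matrix ι ι F) *ᵥ x = c • x) : theta ⇑Q g = 1 := by
  apply MulEquiv.ext
  intro t
  induction t using QuotientGroup.induction_on with
  | H s =>
    rw [theta_mk]
    show _ = QuotientGroup.mk s
    congr 1
    apply Subtype.ext
    apply Subtype.ext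
    rw [char_val, mul_inv_eq_iff_eq_mul]
    apply toLE.injective
    ext1 x
    rw [map_mul, map_mul, LinearEquiv.mul_apply, LinearEquiv.mul_apply, toLE_apply g.1,
      toLE_apply g.1, hc, hc, map_smul]

end kernel

end Cfsg.Agent.Lib.Helper25.PSim
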