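import Mathlib
import Cfsg.Agent.Lib.Helper25.SpTDefs
import Cfsg.Agent.Lib.Helper25.POmegaSim

/-!
S5704: the elements `kel α β` with `α, β` symplectic similitudes are isometries of `Q`;
`kA x c`, `kB y c` lie in `Ω(Q)` (products of long root elements).
-/

set_option autoImplicit false
set_option linter.unusedSectionVars false
set_option linter.unusedVariables false

namespace Cfsg.Agent.Lib.Helper25.SpT
open Matrix QuadraticMap
open Cfsg.Agent.Lib.Helper25.Tens Cfsg.Agent.Lib.Helper25.TensLeaves Cfsg.Agent.Lib.Helper19.OSub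
open scoped Kronecker

variable {F : Type*} [Field F] {a b : ℕ} {Q : QuadraticForm F (Idx a b → F)}

/-- induction over sums of pure tensors -/
theorem pt_induction {p : (Idx a b → F) → Prop} (h0 : p 0)
    (hadd : ∀ v w, p v → p w → p (v + w)) (hpt : ∀ (x : Fin a → F) (y : Fin b → F), p (pt x y)) :
    ∀ v, p v := by
  intro v
  rw [eq_sum_pt v]
  apply Finset.sum_induction _ p hadd h0
  intro i _
  apply Finset.sum_induction _ p hadd h0
  intro l _
  rw [← pt_smul_left]
  exact hpt _ _

/-- two elements of `GL` agreeing on pure tensors are equal -/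
theorem gl_ext_pt {g h : GL (Idx a b) F}
    (hgh : ∀ (x : Fin a → F) (y : Fin b → F), mv g (pt x y) = mv h (pt x y)) : g = h := by
  apply gl_ext
  apply pt_induction
  · rw [mv_zero, mv_zero]
  · intro v w hv hw
    rw [mv_add, mv_add, hv, hw]
  · exact hgh

lemma cB_add {a b : ℕ} (y : Fin b → F) (v w : Idx a b → F) : cB y (v + w) = cB y v + cB y w :=
  ct_add _ _ _

lemma cB_smul {a b : ℕ} (y : Fin b → F) (c : F) (v : Idx a b → F) : cB y (c • v) = c • cB y v :=
  ct_smul _ _ _

@[simp] lemma cB_zero {a b : ℕ} (y : Fin b → F) : cB y (0 : Idx a b → F) = 0 := by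
  ext i; simp [cB, ct]

/-- the polar form against a pure tensor -/
theorem polar_pt_left (h : Ctx a b Q) (x : Fin a → F) (y : Fin b → F) (v : Idx a b → F) :
    polar Q (pt x y) v = sf (cB y v) x := by
  revert v
  apply pt_induction
  · simp
  · intro v w hv hw
    rw [polar_add_right, hv, hw, cB_add, sf_add_left]
  · intro x' z
    rw [h.pol, cB_pt, sf_smul_left, sf_skew x' x, sf_skew z y]
    ring

/-- a quadratic form with the same values on pure tensors and the same polar form on them is `Q` -/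
theorem Q_eq_of (h : Ctx a b Q) (Q' : QuadraticForm F (Idx a b → F))
    (hpol : ∀ (x : Fin a → F) (y : Fin b → F) (x' : Fin a → F) (y' : Fin b → F),
      polar Q' (pt x y) (pt x' y') = sf x x' * sf y y')
    (hpure : ∀ (x : Fin a → F) (y : Fin b → F), Q' (pt x y) = 0) : ∀ v, Q' v = Q v := by
  have hp : ∀ v w, polar Q' v w = polar Q v w := by
    apply pt_induction
    · intro w; simp
    · intro v v' hv hv' w
      rw [polar_add_left, polar_add_left, hv, hv']
    · intro x y
      apply pt_induction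
      · simp
      · intro w w' hw hw'
        rw [polar_add_right, polar_add_right, hw, hw']
      · intro x' y'
        rw [hpol, h.pol]
  apply pt_induction
  · simp
  · intro v w hv hw
    have e1 : Q' (v + w) = Q' v + Q' w + polar Q' v w := by unfold polar; ring
    have e2 : Q (v + w) = Q v + Q w + polar Q v w := by unfold polar; ring
    rw [e1, e2, hv, hw, hp]
  · intro x y
    rw [hpure, h.pure]

/-- `α ⊗ β` is an isometry when `α, β` are similitudes of `sf` with inverse multipliers -/
theorem kel_mem_iso (h : Ctx a b Q) (α : GL (Fin a) F) (β : GL (Fin b) F) (μ ν : F)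
    (hμν : μ * ν = 1)
    (hα : ∀ x x' : Fin a → F, sf ((α : Matrix (Fin a) (Fin a) F) *ᵥ x)
      ((α : Matrix (Fin a) (Fin a) F) *ᵥ x') = μ * sf x x')
    (hβ : ∀ y y' : Fin b → F, sf ((β : Matrix (Fin b) (Fin b) F) *ᵥ y)
      ((β : Matrix (Fin b) (Fin b) F) *ᵥ y') = ν * sf y y') :
    (kel α β : GL (Idx a b) F) ∈ Cfsg.isometryGroup F ⇑Q := by
  rw [Cfsg.Agent.Lib.Helper25.PSim.mem_iso_iff']
  obtain ⟨Q', hQ'⟩ : ∃ Q' : QuadraticForm F (Idx a b → F),
      Q' = Q.comp (Matrix.toLin' ((kel α β : GL (Idx a b) F) : Matrix (Idx a b) (Idx a b) F)) :=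
    ⟨_, rfl⟩
  have hval : ∀ v, Q' v = Q (((kel α β : GL (Idx a b) F) : Matrix (Idx a b) (Idx a b) F) *ᵥ v) := by
    intro v
    rw [hQ', QuadraticMap.comp_apply, Matrix.toLin'_apply]
  have hpolar : ∀ v w, polar Q' v w =
      polar Q (((kel α β : GL (Idx a b) F) : Matrix (Idx a b) (Idx a b) F) *ᵥ v)
        (((kel α β : GL (Idx a b) F) : Matrix (Idx a b) (Idx a b) F) *ᵥ w) := by
    intro v w
    unfold polar
    rw [hval, hval, hval, Matrix.mulVec_add]
  intro v
  rw [← hval]
  apply Q_eq_of h Q'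
  · intro x y x' y'
    rw [hpolar, kel_mulVec_pt, kel_mulVec_pt, h.pol, hα, hβ]
    linear_combination (sf x x' * sf y y') * hμν
  · intro x y
    rw [hval, kel_mulVec_pt, h.pure]

theorem stv_sf {n : ℕ} (y : Fin n → F) (c : F) (v w : Fin n → F) :
    sf (((stv y c : GL (Fin n) F) : Matrix (Fin n) (Fin n) F) *ᵥ v)
      (((stv y c : GL (Fin n) F) : Matrix (Fin n) (Fin n) F) *ᵥ w) = sf v w := by
  rw [stv_mulVec, stv_mulVec]
  simp only [sf_add_left, sf_add_right, sf_smul_left, sf_smul_right, sf_self]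
  rw [sf_skew y w]
  ring

theorem kB_mem_iso (h : Ctx a b Q) (y : Fin b → F) (c : F) :
    (kB y c : GL (Idx a b) F) ∈ Cfsg.isometryGroup F ⇑Q := by
  apply kel_mem_iso h _ _ 1 1 (by ring)
  · intro x x'; simp
  · intro v w; rw [stv_sf, one_mul]

theorem kA_mem_iso (h : Ctx a b Q) (x : Fin a → F) (c : F) :
    (kA x c : GL (Idx a b) F) ∈ Cfsg.isometryGroup F ⇑Q := by
  apply kel_mem_iso h _ _ 1 1 (by ring)
  · intro v w; rw [stv_sf, one_mul]
  · intro y y'; simp

/-! ### products of root elements inside a totally singular subspace -/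

section prod
variable {ι : Type} [Fintype ι] [DecidableEq ι] {Q₀ : QuadraticForm F (ι → F)} {κ : Type}

/-- the sum of the "root directions" -/
def rsum (Q₀ : QuadraticForm F (ι → F)) (us ws : κ → (ι → F)) (cs : κ → F) (l : List κ)
    (v : ι → F) : ι → F :=
  (l.map (fun k => cs k • (polar Q₀ (us k) v • ws k - polar Q₀ (ws k) v • us k))).sum

theorem polar_rsum (us ws : κ → (ι → F)) (cs : κ → F) (z : ι → F)
    (hzu : ∀ k, polar Q₀ z (us k) = 0) (hzw : ∀ k, polar Q₀ z (ws k) = 0) (l : List κ)
    (v : ι → F) : polar Q₀ z (rsum Q₀ us ws cs l v) = 0 := by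
  induction l with
  | nil => simp [rsum]
  | cons k l ih =>
    unfold rsum at ih ⊢
    rw [List.map_cons, List.sum_cons, polar_add_right, ih, polar_smul_right, polar_sub_right,
      polar_smul_right, polar_smul_right, hzu, hzw]
    simp

/-- a product of root elements with all `u_k, w_k` mutually orthogonal -/
theorem mv_rt_list (us ws : κ → (ι → F)) (cs : κ → F) (hQu : ∀ k, Q₀ (us k) = 0)
    (hQw : ∀ k, Q₀ (ws k) = 0) (huu : ∀ k k', polar Q₀ (us k) (us k') = 0)
    (huw : ∀ k k', polar Q₀ (us k) (ws k') = 0) (hww : ∀ k k', polar Q₀ (ws k) (ws k') = 0)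
    (l : List κ) (v : ι → F) :
    mv ((l.map (fun k => rt Q₀ (us k) (ws k) (cs k))).prod) v = v + rsum Q₀ us ws cs l v := by
  induction l with
  | nil => simp [rsum, mv_one]
  | cons k l ih =>
    rw [List.map_cons, List.prod_cons, mv_mul, ih, mv_rt (hQu k) (hQw k) (huw k k)]
    have h1 : polar Q₀ (us k) (rsum Q₀ us ws cs l v) = 0 :=
      polar_rsum us ws cs (us k) (huu k) (huw k) l v
    have h2 : polar Q₀ (ws k) (rsum Q₀ us ws cs l v) = 0 :=
      polar_rsum us ws cs (ws k) (fun k' => by rw [polar_comm]; exact huw k' k) (hww k) l v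
    rw [polar_add_right, polar_add_right, h1, h2, add_zero, add_zero]
    unfold rsum
    rw [List.map_cons, List.sum_cons]
    abel

end prod

/-- expansion of a vector in the standard hyperbolic pairs -/
theorem sum_pairs {n : ℕ} (hn : Even n) (x : Fin n → F) :
    ∑ k : Fin n, (if k.val % 2 = 0 then
      (sf (Pi.single k (1 : F)) x • (Pi.single (pr hn k) (1 : F) : Fin n → F)
        - sf (Pi.single (pr hn k) (1 : F)) x • (Pi.single k (1 : F) : Fin n → F)) else 0) = x := by
  have hterm : ∀ k : Fin n, (if k.val % 2 = 0 then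
      (sf (Pi.single k (1 : F)) x • (Pi.single (pr hn k) (1 : F) : Fin n → F)
        - sf (Pi.single (pr hn k) (1 : F)) x • (Pi.single k (1 : F) : Fin n → F)) else 0) =
      (if k.val % 2 = 0 then x (pr hn k) • (Pi.single (pr hn k) (1 : F) : Fin n → F) else 0) +
      (if k.val % 2 = 0 then x k • (Pi.single k (1 : F) : Fin n → F) else 0) := by
    intro k
    by_cases hk : k.val % 2 = 0
    · have hodd : ¬ (pr hn k).val % 2 = 0 := by rw [pr_val_even hn k hk]; omega
      have e1 : (Jm n : Matrix (Fin n) (Fin n) F) k (pr hn k) = 1 := by rw [Jm_pr, if_pos hk]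
      have e2 : (Jm n : Matrix (Fin n) (Fin n) F) (pr hn k) k = -1 := by
        have := Jm_pr (F := F) hn (pr hn k)
        rw [pr_pr, if_neg hodd] at this
        exact this
      rw [if_pos hk, if_pos hk, if_pos hk, sf_single_left' hn, sf_single_left' hn, pr_pr, e1, e2]
      module
    · rw [if_neg hk, if_neg hk, if_neg hk, add_zero]
  rw [Finset.sum_congr rfl (fun k _ => hterm k), Finset.sum_add_distrib]
  ext j
  simp only [Pi.add_apply, Finset.sum_apply]
  have h1 : ∑ k : Fin n, (if k.val % 2 = 0 then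
      x (pr hn k) • (Pi.single (pr hn k) (1 : F) : Fin n → F) else 0) j =
      if (pr hn j).val % 2 = 0 then x j else 0 := by
    rw [Finset.sum_eq_single (pr hn j)]
    · rw [pr_pr]
      split_ifs <;> simp
    · intro k _ hk
      have : pr hn k ≠ j := by
        intro e; apply hk; rw [← e, pr_pr]
      split_ifs <;> simp [this.symm]
    · simp
  have h2 : ∑ k : Fin n, (if k.val % 2 = 0 then
      x k • (Pi.single k (1 : F) : Fin n → F) else 0) j = if j.val % 2 = 0 then x j else 0 := by
    rw [Finset.sum_eq_single j]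
    · split_ifs <;> simp
    · intro k _ hk
      split_ifs <;> simp [Ne.symm hk]
    · simp
  rw [h1, h2]
  by_cases hj : j.val % 2 = 0
  · have : ¬ (pr hn j).val % 2 = 0 := by rw [pr_val_even hn j hj]; omega
    rw [if_neg this, if_pos hj, zero_add]
  · have : (pr hn j).val % 2 = 0 := by rw [pr_val_odd hn j hj]; omega
    rw [if_pos this, if_neg hj, add_zero]

theorem card_idx (h : Ctx a b Q) : 13 ≤ Fintype.card (Idx a b) := by
  rw [Fintype.card_prod, Fintype.card_fin, Fintype.card_fin]
  exact h.hn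

theorem pt_ort (h : Ctx a b Q) (x x' : Fin a → F) (y : Fin b → F) :
    polar Q (pt x y) (pt x' y) = 0 := by
  rw [h.pol, sf_self, mul_zero]

theorem pt_ort' (h : Ctx a b Q) (x : Fin a → F) (y y' : Fin b → F) :
    polar Q (pt x y) (pt x y') = 0 := by
  rw [h.pol, sf_self, zero_mul]

/-- `1 ⊗ τ_{y,c}` is a product of long root elements -/
theorem kB_eq_prod (h : Ctx a b Q) (y : Fin b → F) (c : F) :
    (kB y c : GL (Idx a b) F) = ((Finset.univ : Finset (Fin a)).toList.map (fun k =>
      rt Q (pt (Pi.single k 1) y) (pt (Pi.single (pr h.ea k) 1) y)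
        (if k.val % 2 = 0 then -c else 0))).prod := by
  apply gl_ext_pt
  intro x z
  rw [mv_rt_list (fun k : Fin a => pt (Pi.single k 1) y)
    (fun k : Fin a => pt (Pi.single (pr h.ea k) 1) y) (fun k => if k.val % 2 = 0 then -c else 0)
    (fun k => h.pure _ _) (fun k => h.pure _ _) (fun k k' => pt_ort h _ _ _)
    (fun k k' => pt_ort h _ _ _) (fun k k' => pt_ort h _ _ _)]
  unfold rsum
  rw [Finset.sum_map_toList, mv_kB_pt, pt_add_right, pt_smul_right]
  congr 1
  have hterm : ∀ k : Fin a, (if k.val % 2 = 0 then -c else 0) •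
      (polar Q (pt (Pi.single k 1) y) (pt x z) • pt (Pi.single (pr h.ea k) 1) y -
        polar Q (pt (Pi.single (pr h.ea k) 1) y) (pt x z) • pt (Pi.single k 1) y) =
      (-c * sf y z) • pt (if k.val % 2 = 0 then
        (sf (Pi.single k (1 : F)) x • (Pi.single (pr h.ea k) (1 : F) : Fin a → F)
        - sf (Pi.single (pr h.ea k) (1 : F)) x • (Pi.single k (1 : F) : Fin a → F)) else 0) y := by
    intro k
    by_cases hk : k.val % 2 = 0
    · rw [if_pos hk, if_pos hk, h.pol, h.pol]
      have e : pt (sf (Pi.single k (1 : F)) x • (Pi.single (pr h.ea k) (1 : F) : Fin a → F)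
          - sf (Pi.single (pr h.ea k) (1 : F)) x • (Pi.single k (1 : F) : Fin a → F)) y =
          sf (Pi.single k (1 : F)) x • pt (Pi.single (pr h.ea k) (1 : F)) y -
          sf (Pi.single (pr h.ea k) (1 : F)) x • pt (Pi.single k (1 : F)) y := by
        rw [sub_eq_add_neg, pt_add_left, pt_smul_left, ← neg_smul, pt_smul_left, neg_smul,
          ← sub_eq_add_neg]
      rw [e]
      module
    · rw [if_neg hk, if_neg hk, zero_smul, pt_zero_left, smul_zero]
  rw [Finset.sum_congr rfl (fun k _ => hterm k), ← Finset.smul_sum]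
  have hsum : ∑ k : Fin a, pt (if k.val % 2 = 0 then
        (sf (Pi.single k (1 : F)) x • (Pi.single (pr h.ea k) (1 : F) : Fin a → F)
        - sf (Pi.single (pr h.ea k) (1 : F)) x • (Pi.single k (1 : F) : Fin a → F)) else 0) y =
      pt x y := by
    have : ∀ (s : Finset (Fin a)) (f : Fin a → (Fin a → F)),
        ∑ k ∈ s, pt (f k) y = pt (∑ k ∈ s, f k) y := by
      intro s f
      induction s using Finset.induction_on with
      | empty => simp
      | insert k s hk ih => rw [Finset.sum_insert hk, Finset.sum_insert hk, pt_add_left, ih]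
    rw [this, sum_pairs h.ea x]
  rw [hsum, sf_skew y z]
  module

theorem kB_mem_omega [Fintype F] (h : Ctx a b Q) (y : Fin b → F) (c : F) :
    (kB y c : GL (Idx a b) F) ∈ Cfsg.Geo.omegaGL ⇑Q := by
  rw [kB_eq_prod h]
  apply Subgroup.list_prod_mem
  intro g hg
  obtain ⟨k, -, rfl⟩ := List.mem_map.1 hg
  exact rt_mem_omega h.nd (by have := card_idx h; omega) _ _ _

/-- `τ_{x,c} ⊗ 1` is a product of long root elements -/
theorem kA_eq_prod (h : Ctx a b Q) (x₀ : Fin a → F) (c : F) :
    (kA x₀ c : GL (Idx a b) F) = ((Finset.univ : Finset (Fin b)).toList.map (fun k =>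
      rt Q (pt x₀ (Pi.single k 1)) (pt x₀ (Pi.single (pr h.eb k) 1))
        (if k.val % 2 = 0 then -c else 0))).prod := by
  apply gl_ext_pt
  intro x z
  rw [mv_rt_list (fun k : Fin b => pt x₀ (Pi.single k 1))
    (fun k : Fin b => pt x₀ (Pi.single (pr h.eb k) 1)) (fun k => if k.val % 2 = 0 then -c else 0)
    (fun k => h.pure _ _) (fun k => h.pure _ _) (fun k k' => pt_ort' h _ _ _)
    (fun k k' => pt_ort' h _ _ _) (fun k k' => pt_ort' h _ _ _)]
  unfold rsum
  rw [Finset.sum_map_toList, mv_kA_pt, pt_add_left, pt_smul_left]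
  congr 1
  have hterm : ∀ k : Fin b, (if k.val % 2 = 0 then -c else 0) •
      (polar Q (pt x₀ (Pi.single k 1)) (pt x z) • pt x₀ (Pi.single (pr h.eb k) 1) -
        polar Q (pt x₀ (Pi.single (pr h.eb k) 1)) (pt x z) • pt x₀ (Pi.single k 1)) =
      (-c * sf x₀ x) • pt x₀ (if k.val % 2 = 0 then
        (sf (Pi.single k (1 : F)) z • (Pi.single (pr h.eb k) (1 : F) : Fin b → F)
        - sf (Pi.single (pr h.eb k) (1 : F)) z • (Pi.single k (1 : F) : Fin b → F)) else 0) := by
    intro k
    by_cases hk : k.val % 2 = 0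
    · rw [if_pos hk, if_pos hk, h.pol, h.pol]
      have e : pt x₀ (sf (Pi.single k (1 : F)) z • (Pi.single (pr h.eb k) (1 : F) : Fin b → F)
          - sf (Pi.single (pr h.eb k) (1 : F)) z • (Pi.single k (1 : F) : Fin b → F)) =
          sf (Pi.single k (1 : F)) z • pt x₀ (Pi.single (pr h.eb k) (1 : F)) -
          sf (Pi.single (pr h.eb k) (1 : F)) z • pt x₀ (Pi.single k (1 : F)) := by
        rw [sub_eq_add_neg, pt_add_right, pt_smul_right, ← neg_smul, pt_smul_right, neg_smul,
          ← sub_eq_add_neg]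
      rw [e]
      module
    · rw [if_neg hk, if_neg hk, zero_smul, pt_zero_right, smul_zero]
  rw [Finset.sum_congr rfl (fun k _ => hterm k), ← Finset.smul_sum]
  have hsum : ∑ k : Fin b, pt x₀ (if k.val % 2 = 0 then
        (sf (Pi.single k (1 : F)) z • (Pi.single (pr h.eb k) (1 : F) : Fin b → F)
        - sf (Pi.single (pr h.eb k) (1 : F)) z • (Pi.single k (1 : F) : Fin b → F)) else 0) =
      pt x₀ z := by
    have : ∀ (s : Finset (Fin b)) (f : Fin b → (Fin b → F)),
        ∑ k ∈ s, pt x₀ (f k) = pt x₀ (∑ k ∈ s, f k) := by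
      intro s f
      induction s using Finset.induction_on with
      | empty => simp
      | insert k s hk ih => rw [Finset.sum_insert hk, Finset.sum_insert hk, pt_add_right, ih]
    rw [this, sum_pairs h.eb z]
  rw [hsum, sf_skew x₀ x]
  module

theorem kA_mem_omega [Fintype F] (h : Ctx a b Q) (x : Fin a → F) (c : F) :
    (kA x c : GL (Idx a b) F) ∈ Cfsg.Geo.omegaGL ⇑Q := by
  rw [kA_eq_prod h]
  apply Subgroup.list_prod_mem
  intro g hg
  obtain ⟨k, -, rfl⟩ := List.mem_map.1 hg
  exact rt_mem_omega h.nd (by have := card_idx h; omega) _ _ _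

theorem kA_mem [Fintype F] {M : Subgroup (GL (Idx a b) F)} (h : MCtx a b Q M) (x : Fin a → F)
    (c : F) : (kA x c : GL (Idx a b) F) ∈ M :=
  h.le ⟨kA_mem_KG x c, kA_mem_omega h.toCtx x c⟩

theorem kB_mem [Fintype F] {M : Subgroup (GL (Idx a b) F)} (h : MCtx a b Q M) (y : Fin b → F)
    (c : F) : (kB y c : GL (Idx a b) F) ∈ M :=
  h.le ⟨kB_mem_KG y c, kB_mem_omega h.toCtx y c⟩

theorem M_le_iso [Fintype F] {M : Subgroup (GL (Idx a b) F)} (h : MCtx a b Q M) :
    M ≤ Cfsg.isometryGroup F ⇑Q := h.le_om.trans omegaGL_le_iso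

theorem Q_pt (h : Ctx a b Q) (x : Fin a → F) (y : Fin b → F) : Q (pt x y) = 0 := h.pure x y


end Cfsg.Agent.Lib.Helper25.SpT
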