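import Mathlib
import Cfsg.Agent.Lib.Helper25.TensStmt

set_option autoImplicit false
set_option linter.unusedSectionVars false
set_option linter.unusedVariables false

namespace Cfsg.Agent.Lib.Helper25.TensLeaf
open Matrix Cfsg.Agent.Lib.Helper25.Tens Cfsg.Agent.Lib.Helper25.TensLeaves
open scoped Kronecker

variable {F : Type*} [Field F] {a b : ℕ}

/-- (TK) a linear map into a space of smaller dimension has a kernel. -/
theorem exists_ker (hab : a < b) (φ : (Fin b → F) →ₗ[F] (Fin a → F)) :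
    ∃ η : Fin b → F, η ≠ 0 ∧ φ η = 0 := by
  have h : LinearMap.ker φ ≠ ⊥ := by
    apply LinearMap.ker_ne_bot_of_finrank_lt
    simp [hab]
  obtain ⟨η, hη, hne⟩ := Submodule.exists_mem_ne_zero_of_ne_bot h
  exact ⟨η, hne, hη⟩

/-- `w ↦ ct η w` as a linear map -/
def ctR (η : Fin b → F) : (Idx a b → F) →ₗ[F] (Fin a → F) where
  toFun w := ct η w
  map_add' v w := ct_add η v w
  map_smul' c v := ct_smul η c v

/-- `y ↦ pt x y` as a linear map -/
def ptR (x : Fin a → F) : (Fin b → F) →ₗ[F] (Idx a b → F) where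
  toFun y := pt x y
  map_add' y y' := pt_add_right x y y'
  map_smul' c y := pt_smul_right c x y

/-- `x ↦ pt x y` as a linear map -/
def ptL (y : Fin b → F) : (Fin a → F) →ₗ[F] (Idx a b → F) where
  toFun x := pt x y
  map_add' x x' := pt_add_left x x' y
  map_smul' c x := pt_smul_left c x y

lemma gl_mul_inv_mulVec {ι : Type} [Fintype ι] [DecidableEq ι] (m : GL ι F) (v : ι → F) :
    (m : Matrix ι ι F) *ᵥ (((m⁻¹ : GL ι F) : Matrix ι ι F) *ᵥ v) = v := by
  rw [Matrix.mulVec_mulVec, ← Units.val_mul, mul_inv_cancel, Units.val_one, Matrix.one_mulVec]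

lemma gl_inv_mul_mulVec {ι : Type} [Fintype ι] [DecidableEq ι] (m : GL ι F) (v : ι → F) :
    ((m⁻¹ : GL ι F) : Matrix ι ι F) *ᵥ ((m : Matrix ι ι F) *ᵥ v) = v := by
  rw [Matrix.mulVec_mulVec, ← Units.val_mul, inv_mul_cancel, Units.val_one, Matrix.one_mulVec]

lemma gl_mulVec_eq_zero {ι : Type} [Fintype ι] [DecidableEq ι] (m : GL ι F) {v : ι → F}
    (h : (m : Matrix ι ι F) *ᵥ v = 0) : v = 0 := by
  have := gl_inv_mul_mulVec m v
  rw [h, Matrix.mulVec_zero] at this
  exact this.symm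

/-- (TQ) Lemma Q package. -/
theorem leafQ (ha : 1 ≤ a) (hab : a < b) (m : GL (Idx a b) F) (y η : Fin b → F) (hy : y ≠ 0) (hη : η ≠ 0)
    (hηy : η ⬝ᵥ y = 0)
    (hK : m⁻¹ * kel (1 : GL (Fin a) F) (tv y η hηy) * m ∈ KG a b F) :
    ∃ y'' : Fin b → F, y'' ≠ 0 ∧ ∀ x : Fin a → F, ∃ x' : Fin a → F,
      ((m⁻¹ : GL (Idx a b) F) : Matrix (Idx a b) (Idx a b) F) *ᵥ pt x y = pt x' y'' := by
  obtain ⟨α, β, hg⟩ := hK
  set mM : Matrix (Idx a b) (Idx a b) F := (m : Matrix (Idx a b) (Idx a b) F) with hmM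
  set mI : Matrix (Idx a b) (Idx a b) F := ((m⁻¹ : GL (Idx a b) F) : Matrix (Idx a b) (Idx a b) F)
    with hmI
  set G : Matrix (Idx a b) (Idx a b) F :=
    (α : Matrix (Fin a) (Fin a) F) ⊗ₖ (β : Matrix (Fin b) (Fin b) F) with hG
  -- key identity
  have key : ∀ v : Idx a b → F, G *ᵥ v = v + mI *ᵥ pt (ct η (mM *ᵥ v)) y := by
    intro v
    rw [← hg, Units.val_mul, Units.val_mul, ← Matrix.mulVec_mulVec, ← Matrix.mulVec_mulVec,
      kel_one_tv_mulVec, Matrix.mulVec_add, gl_inv_mul_mulVec]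
  have hι : ∀ z : Fin a → F, mI *ᵥ pt z y = 0 → z = 0 := by
    intro z hz
    have h1 := gl_mulVec_eq_zero (m⁻¹) hz
    rcases (pt_eq_zero_iff z y).1 h1 with h | h
    · exact h
    · exact absurd h hy
  have hι2 : ∀ z z' : Fin a → F, mI *ᵥ pt z y = mI *ᵥ pt z' y → z = z' := by
    intro z z' h
    have : mI *ᵥ pt (z - z') y = 0 := by
      rw [sub_eq_add_neg, pt_add_left, Matrix.mulVec_add, ← neg_one_smul F z', pt_smul_left,
        Matrix.mulVec_smul, ← h]
      simp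
    exact sub_eq_zero.1 (hι _ this)
  -- index in Fin a
  let i₀ : Fin a := ⟨0, by omega⟩
  -- Step 1: α is scalar
  obtain ⟨c, hc⟩ : ∃ c : F, Matrix.toLin' (α : Matrix (Fin a) (Fin a) F) = c • 1 := by
    apply LinearMap.exists_eq_smul_id_of_forall_notLinearIndependent
    intro x hli
    obtain ⟨y₁, hy₁, hker⟩ := exists_ker hab ((ctR η).comp ((Matrix.toLin' mM).comp (ptR x)))
    have hker' : ct η (mM *ᵥ pt x y₁) = 0 := hker
    have h1 := key (pt x y₁)
    rw [hker', pt_zero_left, Matrix.mulVec_zero, add_zero, hG, kron_mulVec_pt] at h1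
    have hβ : (β : Matrix (Fin b) (Fin b) F) *ᵥ y₁ ≠ 0 := fun h => hy₁ (gl_mulVec_eq_zero β h)
    obtain ⟨l, hl⟩ := Function.ne_iff.mp hβ
    have h2 : (-(y₁ l)) • x + (((β : Matrix (Fin b) (Fin b) F) *ᵥ y₁) l) •
        ((α : Matrix (Fin a) (Fin a) F) *ᵥ x) = 0 := by
      ext i
      have := congrFun h1 (i, l)
      simp only [pt] at this
      simp only [Pi.add_apply, Pi.smul_apply, smul_eq_mul, Pi.zero_apply]
      linear_combination this
    have h3 := (LinearIndependent.pair_iff.1 hli) (-(y₁ l))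
      (((β : Matrix (Fin b) (Fin b) F) *ᵥ y₁) l) h2
    exact hl h3.2
  have hα : (α : Matrix (Fin a) (Fin a) F) = c • 1 := by
    have : Matrix.toLin' (α : Matrix (Fin a) (Fin a) F) = Matrix.toLin' (c • (1 : Matrix (Fin a) (Fin a) F)) := by
      rw [hc, map_smul, Matrix.toLin'_one]; rfl
    exact Matrix.toLin'.injective this
  -- Step 2
  set β' : Matrix (Fin b) (Fin b) F := c • (β : Matrix (Fin b) (Fin b) F) with hβ'
  have hG2 : G = (1 : Matrix (Fin a) (Fin a) F) ⊗ₖ β' := by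
    rw [hG, hα, hβ', Matrix.smul_kronecker, Matrix.kronecker_smul]
  set δ : Matrix (Fin b) (Fin b) F := β' - 1 with hδ
  have hGδ : ∀ v : Idx a b → F, G *ᵥ v - v = ((1 : Matrix (Fin a) (Fin a) F) ⊗ₖ δ) *ᵥ v := by
    intro v
    have hβδ : β' = 1 + δ := by rw [hδ]; abel
    rw [hG2, hβδ, Matrix.kronecker_add, Matrix.one_kronecker_one, Matrix.add_mulVec,
      Matrix.one_mulVec, add_sub_cancel_left]
  have hpt : ∀ (x : Fin a → F) (y₁ : Fin b → F),
      mI *ᵥ pt (ct η (mM *ᵥ pt x y₁)) y = pt x (δ *ᵥ y₁) := by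
    intro x y₁
    have h1 := hGδ (pt x y₁)
    rw [key, add_sub_cancel_left, kron_mulVec_pt, Matrix.one_mulVec] at h1
    exact h1
  -- Step 2b: δ ≠ 0
  obtain ⟨y₀, hy₀⟩ : ∃ y₀ : Fin b → F, δ *ᵥ y₀ ≠ 0 := by
    by_contra hcon
    push Not at hcon
    obtain ⟨l₀, hl₀⟩ := Function.ne_iff.mp hη
    have hψ : ∀ v : Idx a b → F, ct η (mM *ᵥ v) = 0 := by
      intro v
      rw [eq_sum_pt v]
      simp only [Matrix.mulVec_sum, Matrix.mulVec_smul]
      have : ∀ (i : Fin a) (l : Fin b), ct η (mM *ᵥ pt (Pi.single i (1 : F)) (Pi.single l (1 : F))) = 0 := by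
        intro i l
        apply hι
        rw [hpt, hcon, pt_zero_right]
      have hlin : ∀ (s : Finset (Fin a)) (f : Fin a → Idx a b → F),
          ct η (∑ i ∈ s, f i) = ∑ i ∈ s, ct η (f i) := fun s f => map_sum (ctR η) f s
      have hlin2 : ∀ (s : Finset (Fin b)) (f : Fin b → Idx a b → F),
          ct η (∑ i ∈ s, f i) = ∑ i ∈ s, ct η (f i) := fun s f => map_sum (ctR η) f s
      rw [hlin]
      apply Finset.sum_eq_zero; intro i _
      rw [hlin2]
      apply Finset.sum_eq_zero; intro l _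
      rw [ct_smul, this, smul_zero]
    have h2 := hψ (mI *ᵥ pt (Pi.single i₀ 1) (Pi.single l₀ 1))
    rw [hmM, hmI, gl_mul_inv_mulVec, ct_pt] at h2
    have h3 := congrFun h2 i₀
    simp only [Pi.smul_apply, Pi.single_eq_same, smul_eq_mul, mul_one, Pi.zero_apply] at h3
    rw [dotProduct_single, mul_one] at h3
    exact hl₀ h3
  set y'' : Fin b → F := δ *ᵥ y₀ with hy''
  -- Step 3: δ has rank one
  have hrank : ∀ y₁ : Fin b → F, ∃ c₁ : F, δ *ᵥ y₁ = c₁ • y'' := by
    intro y₁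
    set L₀ : (Fin a → F) →ₗ[F] (Fin a → F) :=
      (ctR η).comp ((Matrix.toLin' mM).comp (ptL y₀)) with hL₀
    have hL₀a : ∀ x, L₀ x = ct η (mM *ᵥ pt x y₀) := fun x => rfl
    have hinj : Function.Injective L₀ := by
      rw [← LinearMap.ker_eq_bot, LinearMap.ker_eq_bot']
      intro x hx
      have h1 := hpt x y₀
      rw [← hL₀a, hx, pt_zero_left, Matrix.mulVec_zero] at h1
      rcases (pt_eq_zero_iff x _).1 h1.symm with h | h
      · exact h
      · exact absurd h hy₀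
    have hsurj : Function.Surjective L₀ := LinearMap.injective_iff_surjective.1 hinj
    obtain ⟨x, hx⟩ := hsurj (ct η (mM *ᵥ pt (Pi.single i₀ 1) y₁))
    have h1 := hpt x y₀
    have h2 := hpt (Pi.single i₀ 1) y₁
    rw [← hL₀a, hx, h2] at h1
    refine ⟨x i₀, ?_⟩
    ext l
    have := congrFun h1 (i₀, l)
    simp only [pt, Pi.single_eq_same, one_mul] at this
    simp only [Pi.smul_apply, smul_eq_mul]
    exact this
  choose ζf hζf using hrank
  set ζ : Fin b → F := fun l => ζf (Pi.single l 1) with hζ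
  have hδeq : δ = Matrix.vecMulVec y'' ζ := by
    ext l' l
    have := congrFun (hζf (Pi.single l 1)) l'
    simp only [Matrix.mulVec_single, MulOpposite.op_one, one_smul, Pi.smul_apply, smul_eq_mul] at this
    simp only [Matrix.vecMulVec_apply, hζ]
    rw [mul_comm]
    simpa using this
  refine ⟨y'', hy₀, fun x => ?_⟩
  obtain ⟨l₀, hl₀⟩ := Function.ne_iff.mp hη
  set y₂ : Fin b → F := (η l₀)⁻¹ • Pi.single l₀ 1 with hy₂
  have hηy₂ : η ⬝ᵥ y₂ = 1 := by
    rw [hy₂, dotProduct_smul, dotProduct_single, mul_one, smul_eq_mul]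
    exact inv_mul_cancel₀ hl₀
  set v : Idx a b → F := mI *ᵥ pt x y₂ with hv
  refine ⟨ct ζ v, ?_⟩
  have h1 := key v
  have h2 : mM *ᵥ v = pt x y₂ := by rw [hv, hmM, hmI, gl_mul_inv_mulVec]
  rw [h2, ct_pt, hηy₂, one_smul] at h1
  have h3 := hGδ v
  rw [h1, add_sub_cancel_left, hδeq, kron_one_vecMulVec_mulVec] at h3
  exact h3

end Cfsg.Agent.Lib.Helper25.TensLeaf
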