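import Mathlib
import Cfsg.Agent.Lib.Helper25.TensStmt
import Cfsg.Agent.Lib.Helper25.TensQ

set_option autoImplicit false
set_option linter.unusedSectionVars false
set_option linter.unusedVariables false

namespace Cfsg.Agent.Lib.Helper25.TensLeaf
open Matrix Cfsg.Agent.Lib.Helper25.Tens Cfsg.Agent.Lib.Helper25.TensLeaves
open scoped Kronecker

variable {F : Type*} [Field F] {a b : ℕ}

lemma single_ne_zero' {n : ℕ} (o : Fin n) : (Pi.single o (1 : F) : Fin n → F) ≠ 0 := by
  intro h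
  have := congrFun h o
  simp at this

/-- a non-zero vector orthogonal to `η` -/
lemma exists_perp (hb : 2 ≤ b) (η : Fin b → F) : ∃ y : Fin b → F, y ≠ 0 ∧ η ⬝ᵥ y = 0 := by
  obtain ⟨y, hy, hker⟩ := exists_ker (a := 1) (b := b) (by omega)
    (Matrix.mulVecLin (Matrix.of fun (_ : Fin 1) l => η l))
  refine ⟨y, hy, ?_⟩
  have := congrFun hker 0
  simpa [Matrix.mulVec, dotProduct] using this

/-- the Lemma Q branch: if `m⁻¹ k m ∈ KG` then Stage I is finished -/
lemma R1_of_conj_mem (ha : 1 ≤ a) (hab : a < b) (M : Subgroup (GL (Idx a b) F)) (m : GL (Idx a b) F)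
    (hm : m ∈ M) (hmK : m ∉ KG a b F) (y η : Fin b → F) (hy : y ≠ 0) (hη : η ≠ 0)
    (hηy : η ⬝ᵥ y = 0)
    (hK : m⁻¹ * kel (1 : GL (Fin a) F) (tv y η hηy) * m ∈ KG a b F) : R1 M := by
  obtain ⟨y'', hy'', hall⟩ := leafQ ha hab m y η hy hη hηy hK
  refine ⟨m⁻¹, M.inv_mem hm, ?_, y, y'', hy, hy'', hall⟩
  intro h
  exact hmK (by simpa using (KG a b F).inv_mem h)

lemma fix_inv {ι : Type} [Fintype ι] [DecidableEq ι] (m : GL ι F) {v : ι → F}
    (h : (m : Matrix ι ι F) *ᵥ v = v) : ((m⁻¹ : GL ι F) : Matrix ι ι F) *ᵥ v = v := by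
  conv_lhs => rw [← h]
  exact gl_inv_mul_mulVec m v

lemma conj_mulVec {ι : Type} [Fintype ι] [DecidableEq ι] (m k : GL ι F) (v : ι → F) :
    ((m⁻¹ * k * m : GL ι F) : Matrix ι ι F) *ᵥ v =
      ((m⁻¹ : GL ι F) : Matrix ι ι F) *ᵥ ((k : Matrix ι ι F) *ᵥ ((m : Matrix ι ι F) *ᵥ v)) := by
  rw [Units.val_mul, Units.val_mul, ← Matrix.mulVec_mulVec, ← Matrix.mulVec_mulVec]

/-- (TI2) `P(a)` gives the Stage I result. -/
theorem stageI_top (o : Fin b) (M : Subgroup (GL (Idx a b) F)) (h : PI o M a) : R1 M := by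
  obtain ⟨m, hm, hmK, hfix⟩ := h
  refine ⟨m, hm, hmK, Pi.single o 1, Pi.single o 1, single_ne_zero' o, single_ne_zero' o,
    fun x => ⟨x, ?_⟩⟩
  rw [pt_eq_sum_left x, Matrix.mulVec_sum]
  apply Finset.sum_congr rfl
  intro i _
  rw [Matrix.mulVec_smul, hfix i i.isLt]

/-- (TI0) base step `d = 0`. -/
theorem stageI_zero (ha : 1 ≤ a) (hab : a < b) (o : Fin b) (M : Subgroup (GL (Idx a b) F))
    (hKM : KG a b F ⊓ SLG a b F ≤ M) (h : PI o M 0) : PI o M 1 ∨ R1 M := by
  obtain ⟨m, hm, hmK, -⟩ := h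
  let i₀ : Fin a := ⟨0, by omega⟩
  set w : Idx a b → F := (m : Matrix (Idx a b) (Idx a b) F) *ᵥ
    pt (Pi.single i₀ 1) (Pi.single o 1) with hw
  obtain ⟨η, hη, hker⟩ := exists_ker hab (ctL w)
  rw [ctL_apply] at hker
  obtain ⟨y, hy, hηy⟩ := exists_perp (by omega : 2 ≤ b) η
  set k : GL (Idx a b) F := kel (1 : GL (Fin a) F) (tv y η hηy) with hk
  have hkM : k ∈ M := hKM (kel_one_tv_mem y η hηy)
  by_cases hK : m⁻¹ * k * m ∈ KG a b F
  · right
    exact R1_of_conj_mem ha hab M m hm hmK y η hy hη hηy hK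
  · left
    refine ⟨m⁻¹ * k * m, M.mul_mem (M.mul_mem (M.inv_mem hm) hkM) hm, hK, ?_⟩
    intro i hi
    have hi0 : i = i₀ := Fin.ext (by simp only [i₀]; omega)
    subst hi0
    rw [conj_mulVec, ← hw, hk, kel_one_tv_mulVec, hker, pt_zero_left, add_zero, hw,
      gl_inv_mul_mulVec]

/-- (TI1) induction step `1 ≤ d < a`. -/
theorem stageI_succ (hab : a < b) (o : Fin b) (M : Subgroup (GL (Idx a b) F))
    (hKM : KG a b F ⊓ SLG a b F ≤ M) (d : ℕ) (hd1 : 1 ≤ d) (hda : d < a) (h : PI o M d) :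
    PI o M (d + 1) ∨ R1 M := by
  obtain ⟨m, hm, hmK, hfix⟩ := h
  let i₀ : Fin a := ⟨0, by omega⟩
  let id : Fin a := ⟨d, hda⟩
  set w : Idx a b → F := (m : Matrix (Idx a b) (Idx a b) F) *ᵥ
    pt (Pi.single id 1) (Pi.single o 1) with hw
  -- the linear conditions
  set φ : (Fin b → F) →ₗ[F] (Fin a → F) :=
    LinearMap.pi (fun i : Fin a => if i.val < d then
      (if i.val = 0 then (LinearMap.proj o : (Fin b → F) →ₗ[F] F) else 0)
      else (LinearMap.proj i).comp (ctL w)) with hφ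
  obtain ⟨η, hη, hker⟩ := exists_ker hab φ
  have hηo : η o = 0 := by
    have := congrFun hker i₀
    simp only [hφ, LinearMap.pi_apply, i₀] at this
    rw [if_pos (by omega)] at this
    simpa using this
  have hx1 : ∀ i : Fin a, d ≤ i.val → ct η w i = 0 := by
    intro i hi
    have := congrFun hker i
    simp only [hφ, LinearMap.pi_apply] at this
    rw [if_neg (by omega)] at this
    simpa using this
  set x₁ : Fin a → F := ct η w with hx₁
  have hηy : η ⬝ᵥ (Pi.single o (1 : F) : Fin b → F) = 0 := by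
    rw [dotProduct_single, mul_one]; exact hηo
  set k : GL (Idx a b) F := kel (1 : GL (Fin a) F) (tv (Pi.single o 1) η hηy) with hk
  have hkM : k ∈ M := hKM (kel_one_tv_mem _ η hηy)
  by_cases hK : m⁻¹ * k * m ∈ KG a b F
  · right
    exact R1_of_conj_mem (by omega) hab M m hm hmK _ η (single_ne_zero' o) hη hηy hK
  · left
    have hξ : (-(Pi.single id (1 : F) : Fin a → F)) ⬝ᵥ x₁ = 0 := by
      rw [neg_dotProduct, single_dotProduct, one_mul, hx1 id le_rfl, neg_zero]
    set α : GL (Fin a) F := tv x₁ (-(Pi.single id (1 : F))) hξ with hα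
    have hαM : kel α (1 : GL (Fin b) F) ∈ M := hKM (kel_tv_one_mem _ _ hξ)
    have hm'M : m⁻¹ * k * m ∈ M := M.mul_mem (M.mul_mem (M.inv_mem hm) hkM) hm
    refine ⟨kel α 1 * (m⁻¹ * k * m), M.mul_mem hαM hm'M, ?_, ?_⟩
    · intro hmem
      apply hK
      have h1 : (kel α (1 : GL (Fin b) F))⁻¹ * (kel α 1 * (m⁻¹ * k * m)) ∈ KG a b F :=
        (KG a b F).mul_mem ((KG a b F).inv_mem (kel_mem_KG _ _)) hmem
      simpa using h1
    · -- the action of m' on the old vectors
      have hold : ∀ i : Fin a, i.val < d →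
          ((m⁻¹ * k * m : GL (Idx a b) F) : Matrix (Idx a b) (Idx a b) F) *ᵥ
            pt (Pi.single i 1) (Pi.single o 1) = pt (Pi.single i 1) (Pi.single o 1) := by
        intro i hi
        rw [conj_mulVec, hfix i hi, hk, kel_one_tv_mulVec, ct_pt, hηy, zero_smul, pt_zero_left,
          add_zero]
        exact fix_inv m (hfix i hi)
      have hmIx : ((m⁻¹ : GL (Idx a b) F) : Matrix (Idx a b) (Idx a b) F) *ᵥ
          pt x₁ (Pi.single o 1) = pt x₁ (Pi.single o 1) := by
        rw [pt_eq_sum_left x₁, Matrix.mulVec_sum]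
        apply Finset.sum_congr rfl
        intro i _
        by_cases hi : i.val < d
        · rw [Matrix.mulVec_smul, fix_inv m (hfix i hi)]
        · rw [hx1 i (by omega), zero_smul, Matrix.mulVec_zero]
      have hnew : ((m⁻¹ * k * m : GL (Idx a b) F) : Matrix (Idx a b) (Idx a b) F) *ᵥ
            pt (Pi.single id 1) (Pi.single o 1) = pt (Pi.single id 1 + x₁) (Pi.single o 1) := by
        rw [conj_mulVec, ← hw, hk, kel_one_tv_mulVec, ← hx₁, Matrix.mulVec_add, hmIx, hw,
          gl_inv_mul_mulVec, pt_add_left]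
      intro i hi
      rw [Units.val_mul, ← Matrix.mulVec_mulVec]
      by_cases hi' : i.val < d
      · rw [hold i hi', kel_mulVec_pt, hα, tv_mulVec, Units.val_one, Matrix.one_mulVec]
        have : (-(Pi.single id (1 : F) : Fin a → F)) ⬝ᵥ (Pi.single i (1 : F) : Fin a → F) = 0 := by
          rw [neg_dotProduct, single_dotProduct, one_mul, Pi.single_apply, if_neg, neg_zero]
          intro hh
          have := congrArg Fin.val hh
          simp only [id] at this
          omega
        rw [this, zero_smul, add_zero]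
      · have hid : i = id := Fin.ext (by simp only [id]; omega)
        subst hid
        rw [hnew, kel_mulVec_pt, hα, tv_mulVec, Units.val_one, Matrix.one_mulVec]
        have : (-(Pi.single id (1 : F) : Fin a → F)) ⬝ᵥ ((Pi.single id (1 : F) : Fin a → F) + x₁)
            = -1 := by
          rw [neg_dotProduct, dotProduct_add, single_dotProduct, single_dotProduct, one_mul, one_mul,
            Pi.single_eq_same, hx1 id le_rfl, add_zero]
        rw [this]
        congr 1
        ext j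
        simp

end Cfsg.Agent.Lib.Helper25.TensLeaf
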