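import Cfsg.Agent.Lib.Helper25.SpinOrth

set_option autoImplicit false

/-!
# Membership in `Ω` for words of reflections, all finite fields
-/

namespace Cfsg.Agent.Lib.Helper25.Spin

open Module QuadraticMap Matrix Cfsg.Agent.Lib.Helper25.CD

variable {ι : Type} [Fintype ι] [DecidableEq ι] {F : Type*} [Field F] [Fintype F]
  (Q : QuadraticForm F (ι → F))

/-- Every isometry is a word in reflections (with the exception of four-dimensional spaces over
the field of two elements). -/
theorem exists_word' (hQ : (polarBilin Q).Nondegenerate)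
    (hex : Fintype.card F ≠ 2 ∨ Fintype.card ι ≠ 4)
    (g : ↥(Cfsg.isometryGroup F ⇑Q)) :
    ∃ vs : List (ι → F), (∀ v ∈ vs, Q v ≠ 0) ∧ wordG Q vs = g := by
  have hg : g ∈ Subgroup.closure (reflSet Q) := by
    rw [reflSet_closure Q hQ hex]; trivial
  induction hg using Subgroup.closure_induction with
  | mem x hx =>
    obtain ⟨v, hv, rfl⟩ := (mem_reflSet_iff Q x).1 hx
    refine ⟨[v], ?_, wordG_singleton Q v⟩
    intro w hw
    rw [List.mem_singleton] at hw
    rw [hw]; exact hv
  | one => exact ⟨[], by simp, wordG_nil Q⟩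
  | mul a b _ _ ha hb =>
    obtain ⟨as, has, rfl⟩ := ha
    obtain ⟨bs, hbs, rfl⟩ := hb
    refine ⟨as ++ bs, ?_, wordG_append Q as bs⟩
    intro v hv
    rcases List.mem_append.1 hv with h | h
    · exact has v h
    · exact hbs v h
  | inv a _ ha =>
    obtain ⟨as, has, rfl⟩ := ha
    refine ⟨as.reverse, ?_, (wordG_inv Q as).symm⟩
    intro v hv
    exact has v (List.mem_reverse.1 hv)

theorem even_word_mem_pairs : ∀ vs : List (ι → F), (∀ v ∈ vs, Q v ≠ 0) → Even vs.length →
    wordG Q vs ∈ Subgroup.closure (ReflGroup.pairs (reflSet Q))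
  | [], _, _ => by rw [wordG_nil]; exact one_mem _
  | [v], _, h => by simp at h
  | v :: w :: vs, hvs, h => by
    rw [wordG_cons, wordG_cons, ← mul_assoc]
    apply mul_mem
    · apply Subgroup.subset_closure
      exact ⟨reflM Q v, reflM_mem Q (hvs v (by simp)), reflM Q w, reflM_mem Q (hvs w (by simp)), rfl⟩
    · apply even_word_mem_pairs vs (fun u hu => hvs u (by simp [hu]))
      rw [List.length_cons, List.length_cons] at h
      rw [Nat.even_add_one, Nat.even_add_one, not_not] at h
      exact h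

theorem mem_omega_iff_char2 [CharP F 2] (hQ : (polarBilin Q).Nondegenerate)
    (hex : Fintype.card F ≠ 2 ∨ Fintype.card ι ≠ 4)
    {vs : List (ι → F)} (hvs : ∀ v ∈ vs, Q v ≠ 0) :
    wordG Q vs ∈ Cfsg.Omega F ⇑Q ↔ Even vs.length := by
  constructor
  · intro h
    by_contra hodd
    cases vs with
    | nil => simp at hodd
    | cons v vs' =>
      have hev : Even vs'.length := by
        rw [List.length_cons, Nat.even_add_one, not_not] at hodd
        exact hodd
      have h1 : wordG Q vs' ∈ Cfsg.Omega F ⇑Q := by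
        rw [omega_eq_closure_pairs Q hQ hex]
        exact even_word_mem_pairs Q vs' (fun u hu => hvs u (List.mem_cons_of_mem _ hu)) hev
      have h3 : reflM Q v ∈ Cfsg.Omega F ⇑Q := by
        have := mul_mem h (inv_mem h1)
        rwa [wordG_cons, mul_inv_cancel_right] at this
      exact reflM_not_mem_omega Q hQ hex (hvs v (List.mem_cons_self ..)) h3
  · intro hev
    rw [omega_eq_closure_pairs Q hQ hex]
    exact even_word_mem_pairs Q vs hvs hev

/-- The criterion for membership in `Ω`, valid over every finite field. -/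
theorem mem_omega_iff' (hQ : (polarBilin Q).Nondegenerate)
    (hex : Fintype.card F ≠ 2 ∨ Fintype.card ι ≠ 4)
    {vs : List (ι → F)} (hvs : ∀ v ∈ vs, Q v ≠ 0) :
    wordG Q vs ∈ Cfsg.Omega F ⇑Q ↔ Even vs.length ∧ IsSquare (normProd Q vs) := by
  by_cases h2 : (2 : F) = 0
  · haveI : CharP F 2 := CharTwo.of_one_ne_zero_of_two_eq_zero one_ne_zero h2
    rw [mem_omega_iff_char2 Q hQ hex hvs]
    exact ⟨fun h => ⟨h, FiniteField.isSquare_of_char_two (ringChar.eq F 2) _⟩, fun h => h.1⟩
  · exact mem_omega_iff Q h2 hQ hvs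

theorem word_mem_omega_iff' (hQ : (polarBilin Q).Nondegenerate)
    (hex : Fintype.card F ≠ 2 ∨ Fintype.card ι ≠ 4)
    {D : Matrix ι ι F} {vs : List (ι → F)} (hvs : ∀ v ∈ vs, Q v ≠ 0)
    (h : ∀ x, D *ᵥ x = wordProd Q vs x) :
    (∃ g : ↥(Cfsg.isometryGroup F ⇑Q), g ∈ Cfsg.Omega F ⇑Q ∧
      ((g : GL ι F) : Matrix ι ι F) = D) ↔ Even vs.length ∧ IsSquare (normProd Q vs) := by
  have hD := eq_wordG_of_apply Q h
  rw [← mem_omega_iff' Q hQ hex hvs]
  constructor
  · rintro ⟨g, hg, hgD⟩
    have : g = wordG Q vs := by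
      apply Subtype.ext
      apply Units.ext
      rw [hgD, hD]
    rwa [← this]
  · intro hg
    exact ⟨wordG Q vs, hg, hD⟩

end Cfsg.Agent.Lib.Helper25.Spin
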