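import Cfsg.Agent.Lib.Helper25.SpinOrth
import Cfsg.Agent.Lib.Helper14.OrthMinus
import Cfsg.Agent.Lib.Helper14.OrthOdd

set_option autoImplicit false

/-!
# Spinor norms for the standard orthogonal forms
-/

namespace Cfsg.Agent.Lib.Helper25.Spin

open Module QuadraticMap Matrix Cfsg.Agent.Lib.Helper25.CD Cfsg.Agent.Lib.Helper14

section bridge

variable {F : Type*} [Field F] {ι : Type*}

/-- The Mathlib quadratic form attached to an abstract quadratic form with its polar form. -/
noncomputable def qfOf {Q : (ι → F) → F} {B : (ι → F) → (ι → F) → F} (h : IsQF Q B) :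
    QuadraticForm F (ι → F) where
  toFun := Q
  toFun_smul c u := by rw [h.q_smul, smul_eq_mul]
  exists_companion' :=
    ⟨LinearMap.mk₂ F B h.b_add (fun c u w => by rw [h.b_smul, smul_eq_mul]) h.b_add_right
      (fun c u w => by rw [h.b_smul_right, smul_eq_mul]), fun u v => by
        rw [h.polar]; rfl⟩

theorem coe_qfOf {Q : (ι → F) → F} {B : (ι → F) → (ι → F) → F} (h : IsQF Q B) :
    ⇑(qfOf h) = Q := rfl

theorem polar_qfOf {Q : (ι → F) → F} {B : (ι → F) → (ι → F) → F} (h : IsQF Q B) (u v : ι → F) :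
    polar (qfOf h) u v = B u v := by
  unfold polar
  rw [coe_qfOf, h.polar]
  ring

theorem qfOf_nondeg {Q : (ι → F) → F} {B : (ι → F) → (ι → F) → F} (h : IsQF Q B) :
    (polarBilin (qfOf h)).Nondegenerate := by
  constructor
  · intro x hx
    by_contra hne
    obtain ⟨v, hv⟩ := h.nondeg x hne
    apply hv
    have := hx v
    rwa [polarBilin_apply_apply, polar_qfOf] at this
  · intro x hx
    by_contra hne
    obtain ⟨v, hv⟩ := h.nondeg x hne
    apply hv
    have := hx v
    rwa [polarBilin_apply_apply, polar_qfOf, h.b_symm] at this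

end bridge

section arith

theorem sq_mod_four_of_odd {q : ℕ} (hodd : Odd q) : q * q % 4 = 1 := by
  obtain ⟨k, rfl⟩ := hodd
  have : (2 * k + 1) * (2 * k + 1) = 4 * (k * k + k) + 1 := by ring
  rw [this]
  omega

theorem pow_mod_four_even {q : ℕ} (hodd : Odd q) (k : ℕ) : q ^ (k + k) % 4 = 1 := by
  rw [← two_mul, pow_mul, pow_two, Nat.pow_mod, sq_mod_four_of_odd hodd]
  simp

theorem pow_mod_four_odd {q : ℕ} (hodd : Odd q) (k : ℕ) : q ^ (2 * k + 1) % 4 = q % 4 := by
  rw [pow_succ, two_mul, Nat.mul_mod, pow_mod_four_even hodd]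
  simp

theorem two_ne_zero_of_odd_card {F : Type*} [Field F] [Fintype F] (hodd : Odd (Fintype.card F)) :
    (2 : F) ≠ 0 := by
  intro h
  obtain ⟨k, hk⟩ := hodd
  have h3 : ((Fintype.card F : ℕ) : F) = 0 := Nat.cast_card_eq_zero F
  rw [hk] at h3
  push_cast at h3
  rw [h, zero_mul, zero_add] at h3
  exact one_ne_zero h3

theorem isSquare_neg_one_pow_iff {F : Type*} [Field F] [Fintype F] {q : ℕ}
    (hF : Fintype.card F = q) (hodd : Odd q) (i : ℕ) :
    IsSquare ((-1 : F) ^ i) ↔ q ^ i % 4 = 1 := by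
  rcases Nat.even_or_odd i with ⟨k, rfl⟩ | ⟨k, rfl⟩
  · rw [Even.neg_one_pow ⟨k, rfl⟩, pow_mod_four_even hodd]
    exact ⟨fun _ => rfl, fun _ => IsSquare.one⟩
  · rw [Odd.neg_one_pow ⟨k, rfl⟩, pow_mod_four_odd hodd, FiniteField.isSquare_neg_one_iff, hF]
    obtain ⟨j, rfl⟩ := hodd
    omega

theorem not_isSquare_neg_one_pow_iff {F : Type*} [Field F] [Fintype F] {q : ℕ}
    (hF : Fintype.card F = q) (hodd : Odd q) (i : ℕ) :
    ¬ IsSquare ((-1 : F) ^ i) ↔ q ^ i % 4 = 3 := by
  rw [isSquare_neg_one_pow_iff hF hodd]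
  have : Odd (q ^ i) := hodd.pow
  obtain ⟨j, hj⟩ := this
  omega

end arith

section std

variable {ι : Type} [Fintype ι] [DecidableEq ι] {F : Type*} [Field F] [Fintype F]
  (Q : QuadraticForm F (ι → F))

theorem sum_ite_inj {K : Type*} [DecidableEq K] (α : K → ι) (hα : Function.Injective α)
    (T : Finset K) (c : ι) (y : F) [Decidable (∃ k ∈ T, c = α k)] :
    ∑ k ∈ T, (if c = α k then y else 0) = if ∃ k ∈ T, c = α k then y else 0 := by
  by_cases h : ∃ k ∈ T, c = α k
  · rw [if_pos h]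
    obtain ⟨k0, hk0, rfl⟩ := h
    rw [Finset.sum_eq_single k0]
    · rw [if_pos rfl]
    · intro b _ hb
      rw [if_neg]
      intro h
      exact hb (hα h).symm
    · intro h; exact absurd hk0 h
  · rw [if_neg h]
    apply Finset.sum_eq_zero
    intro k hk
    rw [if_neg]
    intro hc
    exact h ⟨k, hk, hc⟩

/-- The spinor norm criterion for the negation of a set of standard hyperbolic pairs. -/
theorem std_hyp_mem_omega_iff (h2 : (2 : F) ≠ 0) (hQ : (polarBilin Q).Nondegenerate)
    {K : Type*} [DecidableEq K] (α β : K → ι)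
    (hα : Function.Injective α) (hβ : Function.Injective β) (hαβ : ∀ j j', α j ≠ β j')
    (hB1 : ∀ j x, polar Q (Pi.single (α j) 1) x = x (β j))
    (hB2 : ∀ j x, polar Q (Pi.single (β j) 1) x = x (α j))
    (T : Finset K) (d : ι → F)
    (hd : ∀ c, d c = if (∃ k ∈ T, c = α k) ∨ (∃ k ∈ T, c = β k) then -1 else 1) :
    (∃ g : ↥(Cfsg.isometryGroup F ⇑Q), g ∈ Cfsg.Omega F ⇑Q ∧
      ((g : GL ι F) : Matrix ι ι F) = Matrix.diagonal d) ↔ IsSquare ((-1 : F) ^ T.card) := by
  classical
  apply hyp_mem_omega_iff Q h2 hQ (fun j => Pi.single (α j) 1) (fun j => Pi.single (β j) 1) T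
  · intro i _ j _
    rw [hB1, Pi.single_apply, if_neg]
    intro h
    exact hαβ j i h.symm
  · intro i _ j _
    rw [hB2, Pi.single_apply, if_neg (hαβ i j)]
  · intro i _ j _
    rw [hB1, Pi.single_apply]
    by_cases h : i = j
    · rw [if_pos h, if_pos (by rw [h])]
    · rw [if_neg h, if_neg (fun h' => h (hβ h'))]
  · intro x
    funext c
    rw [Matrix.mulVec_diagonal, hd]
    simp only [hB1, hB2, Pi.sub_apply, Pi.smul_apply, Finset.sum_apply, Pi.add_apply,
      Pi.single_apply, smul_eq_mul, mul_ite, mul_one, mul_zero]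
    rw [Finset.sum_add_distrib]
    have e1 : ∑ k ∈ T, (if c = α k then x (α k) else 0) = ∑ k ∈ T, (if c = α k then x c else 0) := by
      apply Finset.sum_congr rfl
      intro k _
      by_cases h : c = α k
      · rw [if_pos h, if_pos h, h]
      · rw [if_neg h, if_neg h]
    have e2 : ∑ k ∈ T, (if c = β k then x (β k) else 0) = ∑ k ∈ T, (if c = β k then x c else 0) := by
      apply Finset.sum_congr rfl
      intro k _
      by_cases h : c = β k
      · rw [if_pos h, if_pos h, h]
      · rw [if_neg h, if_neg h]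
    rw [e1, e2, sum_ite_inj α hα, sum_ite_inj β hβ]
    by_cases hA : ∃ k ∈ T, c = α k
    · have hB : ¬ ∃ k ∈ T, c = β k := by
        rintro ⟨k, _, hk⟩
        obtain ⟨k', _, hk'⟩ := hA
        exact hαβ k' k (hk'.symm.trans hk)
      rw [if_pos (Or.inl hA), if_pos hA, if_neg hB]
      ring
    · by_cases hB : ∃ k ∈ T, c = β k
      · rw [if_pos (Or.inr hB), if_neg hA, if_pos hB]
        ring
      · rw [if_neg (fun h => h.elim hA hB), if_neg hA, if_neg hB]
        ring

end std

end Cfsg.Agent.Lib.Helper25.Spin
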