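import Mathlib
import Cfsg.Agent.Lib.Helper25.TensStmt
import Cfsg.Agent.Lib.Helper25.TensQ
import Cfsg.Agent.Lib.Helper25.TensI

set_option autoImplicit false
set_option linter.unusedSectionVars false
set_option linter.unusedVariables false

namespace Cfsg.Agent.Lib.Helper25.TensLeaf
open Matrix Cfsg.Agent.Lib.Helper25.Tens Cfsg.Agent.Lib.Helper25.TensLeaves
open scoped Kronecker

variable {F : Type*} [Field F] {a b : ℕ}

lemma exists_ne_fin2' {n : ℕ} (hn : 3 ≤ n) (x y : Fin n) : ∃ z : Fin n, z ≠ x ∧ z ≠ y := by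
  by_contra hcon
  push Not at hcon
  have h0 := hcon ⟨0, by omega⟩
  have h1 := hcon ⟨1, by omega⟩
  have h2 := hcon ⟨2, by omega⟩
  by_cases e0 : (⟨0, by omega⟩ : Fin n) = x
  · by_cases e1 : (⟨1, by omega⟩ : Fin n) = x
    · rw [← e0] at e1; simp [Fin.ext_iff] at e1
    · have e1' := h1 e1
      by_cases e2 : (⟨2, by omega⟩ : Fin n) = x
      · rw [← e0] at e2; simp [Fin.ext_iff] at e2
      · have e2' := h2 e2
        rw [← e1'] at e2'; simp [Fin.ext_iff] at e2'
  · have e0' := h0 e0
    by_cases e1 : (⟨1, by omega⟩ : Fin n) = x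
    · by_cases e2 : (⟨2, by omega⟩ : Fin n) = x
      · rw [← e1] at e2; simp [Fin.ext_iff] at e2
      · have e2' := h2 e2
        rw [← e0'] at e2'; simp [Fin.ext_iff] at e2'
    · have e1' := h1 e1
      rw [← e0'] at e1'; simp [Fin.ext_iff] at e1'

/-- blocks of `(A ⊗ single r s 1) * X` -/
lemma blk_kron_single_mul (A : Matrix (Fin a) (Fin a) F) (r s : Fin b)
    (X : Matrix (Idx a b) (Idx a b) F) (p q : Fin b) :
    blk ((A ⊗ₖ (Matrix.single r s (1 : F) : Matrix (Fin b) (Fin b) F)) * X) p q =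
      if p = r then A * blk X s q else 0 := by
  rw [blk_mul]
  simp only [blk_kron, Matrix.single_apply]
  by_cases hp : p = r
  · rw [if_pos hp, Finset.sum_eq_single s]
    · rw [if_pos ⟨hp.symm, rfl⟩, one_smul]
    · intro m _ hm
      rw [if_neg (fun h => hm h.2.symm), zero_smul, zero_mul]
    · simp
  · rw [if_neg hp]
    apply Finset.sum_eq_zero
    intro m _
    rw [if_neg (fun h => hp h.1.symm), zero_smul, zero_mul]

/-- blocks of `X * (A ⊗ single r s 1)` -/
lemma blk_mul_kron_single (A : Matrix (Fin a) (Fin a) F) (r s : Fin b)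
    (X : Matrix (Idx a b) (Idx a b) F) (p q : Fin b) :
    blk (X * (A ⊗ₖ (Matrix.single r s (1 : F) : Matrix (Fin b) (Fin b) F))) p q =
      if q = s then blk X p r * A else 0 := by
  rw [blk_mul]
  simp only [blk_kron, Matrix.single_apply]
  by_cases hq : q = s
  · rw [if_pos hq, Finset.sum_eq_single r]
    · rw [if_pos ⟨rfl, hq.symm⟩, one_smul]
    · intro m _ hm
      rw [if_neg (fun h => hm h.1.symm), zero_smul, mul_zero]
    · simp
  · rw [if_neg hq]
    apply Finset.sum_eq_zero
    intro m _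
    rw [if_neg (fun h => hq h.2.symm), zero_smul, mul_zero]

/-- (TIIb) extraction of a single non-scalar block. -/
theorem stageIIb (hb : 3 ≤ b) (o : Fin b) (M : Subgroup (GL (Idx a b) F))
    (hKM : KG a b F ⊓ SLG a b F ≤ M) (h : R3 o M) :
    ∃ j : Fin b, j ≠ o ∧ ∃ θ ∈ Bset o j M, ¬ IsScalarMat θ := by
  obtain ⟨u, huM, huK, hU⟩ := h
  set U : Matrix (Idx a b) (Idx a b) F := (u : Matrix (Idx a b) (Idx a b) F) with hUdef
  set θ : Fin b → Matrix (Fin a) (Fin a) F := fun q => blk U o q with hθ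
  have hbU : ∀ p q : Fin b, blk U p q =
      if p = o ∧ q ≠ o then θ q else (if p = q then 1 else 0) := by
    intro p q
    by_cases hc : p = o ∧ q ≠ o
    · rw [if_pos hc, hc.1]
    · rw [if_neg hc]
      have hpq : p ≠ o ∨ q = o := by tauto
      rw [← blk_one]
      ext i i'
      rw [blk_apply, hU i i' p q hpq, blk_apply]
  -- some block is not scalar
  have hex : ∃ k₀ : Fin b, k₀ ≠ o ∧ ¬ IsScalarMat (θ k₀) := by
    by_contra hcon
    push Not at hcon
    simp only [IsScalarMat] at hcon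
    choose! t ht using hcon
    set t' : Fin b → F := fun q => if q = o then 0 else t q with ht'
    have ht'o : t' ⬝ᵥ (Pi.single o (1 : F) : Fin b → F) = 0 := by
      rw [dotProduct_single, mul_one, ht']
      simp
    apply huK
    refine ⟨1, tv (Pi.single o 1) t' ht'o, ?_⟩
    apply ext_blk
    intro p q
    rw [Units.val_one, blk_kron, tv_val, Matrix.add_apply, Matrix.vecMulVec_apply, Matrix.one_apply,
      Pi.single_apply]
    change blk U p q = _
    rw [hbU]
    by_cases hc : p = o ∧ q ≠ o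
    · rw [if_pos hc, ht q hc.2, hc.1, if_neg (Ne.symm hc.2), if_pos rfl]
      simp [ht', hc.2]
    · rw [if_neg hc]
      by_cases hp : p = o
      · have hq : q = o := by
          by_contra hq
          exact hc ⟨hp, hq⟩
        simp [hp, hq, ht']
      · rw [if_neg hp]
        by_cases hpq : p = q
        · rw [if_pos hpq, if_pos hpq]; simp
        · rw [if_neg hpq, if_neg hpq]; simp
  obtain ⟨k₀, hk₀, hns⟩ := hex
  obtain ⟨j, hjo, hjk⟩ := exists_ne_fin2' hb o k₀
  refine ⟨j, hjo, θ k₀, ?_, hns⟩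
  -- the conjugating element
  have hβ0 : (-(Pi.single j (1 : F) : Fin b → F)) ⬝ᵥ (Pi.single k₀ (1 : F) : Fin b → F) = 0 := by
    rw [neg_dotProduct, single_dotProduct, one_mul, Pi.single_apply, if_neg hjk, neg_zero]
  set β : GL (Fin b) F := tv (Pi.single k₀ 1) (-(Pi.single j 1)) hβ0 with hβ
  set c : GL (Idx a b) F := kel (1 : GL (Fin a) F) β with hc
  have hcM : c ∈ M := hKM (kel_one_tv_mem _ _ hβ0)
  set C : Matrix (Idx a b) (Idx a b) F := (c : Matrix (Idx a b) (Idx a b) F) with hC
  set D : Matrix (Idx a b) (Idx a b) F :=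
    (θ k₀) ⊗ₖ (Matrix.single o j (1 : F) : Matrix (Fin b) (Fin b) F) with hD
  have hCval : C = 1 - (1 : Matrix (Fin a) (Fin a) F) ⊗ₖ
      (Matrix.single k₀ j (1 : F) : Matrix (Fin b) (Fin b) F) := by
    rw [hC, hc, kel_val, hβ, tv_val, Units.val_one, Matrix.kronecker_add, Matrix.one_kronecker_one,
      sub_eq_add_neg]
    congr 1
    ext ⟨i, p⟩ ⟨i', q⟩
    simp only [Matrix.kroneckerMap_apply, Matrix.vecMulVec_apply, Pi.neg_apply, Pi.single_apply,
      Matrix.neg_apply, Matrix.single_apply, Matrix.one_apply]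
    by_cases h1 : p = k₀
    · by_cases h2 : q = j
      · subst h1; subst h2; simp
      · subst h1
        have h2' : ¬ j = q := fun h => h2 h.symm
        simp [h2, h2']
    · have h1' : ¬ k₀ = p := fun h => h1 h.symm
      simp [h1, h1']
  have hCX : ∀ (X : Matrix (Idx a b) (Idx a b) F) (p q : Fin b),
      blk (C * X) p q = blk X p q - (if p = k₀ then blk X j q else 0) := by
    intro X p q
    rw [hCval, sub_mul, one_mul, blk_sub, blk_kron_single_mul]
    simp
  have hXC : ∀ (X : Matrix (Idx a b) (Idx a b) F) (p q : Fin b),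
      blk (X * C) p q = blk X p q - (if q = j then blk X p k₀ else 0) := by
    intro X p q
    rw [hCval, mul_sub, mul_one, blk_sub, blk_mul_kron_single]
    simp
  have hDX : ∀ (X : Matrix (Idx a b) (Idx a b) F) (p q : Fin b),
      blk (D * X) p q = if p = o then θ k₀ * blk X j q else 0 := by
    intro X p q
    rw [hD, blk_kron_single_mul]
  have hUj : ∀ q : Fin b, blk U j q = if j = q then 1 else 0 := by
    intro q
    rw [hbU, if_neg (fun h => hjo h.1)]
  have hUk : ∀ p : Fin b, blk U p k₀ = if p = o then θ k₀ else (if p = k₀ then 1 else 0) := by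
    intro p
    rw [hbU]
    by_cases hp : p = o
    · rw [if_pos ⟨hp, hk₀⟩, if_pos hp]
    · rw [if_neg (fun h => hp h.1), if_neg hp]
  -- the key matrix identity
  have key : C * U = (1 + D) * U * C := by
    apply ext_blk
    intro p q
    rw [hCX, hXC, add_mul, one_mul, blk_add, blk_add, hDX, hDX, hUj, hUj, hUk, if_neg hjk]
    simp only [@eq_comm _ j q]
    by_cases hp : p = o
    · have hpk : ¬ p = k₀ := fun h => hk₀ (h.symm.trans hp)
      by_cases hq : q = j
      · simp [hp, hq, hk₀.symm]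
      · simp [hp, hq, hk₀.symm]
    · by_cases hq : q = j
      · by_cases hpk : p = k₀
        · simp [hq, hpk, hk₀]
        · simp [hp, hq, hpk]
      · simp [hp, hq]
  refine ⟨c * u * c⁻¹ * u⁻¹, M.mul_mem (M.mul_mem (M.mul_mem hcM huM) (M.inv_mem hcM))
    (M.inv_mem huM), ?_⟩
  have h1 : ((c * u * c⁻¹ * u⁻¹ : GL (Idx a b) F) : Matrix (Idx a b) (Idx a b) F) =
      C * U * ((c⁻¹ : GL (Idx a b) F) : Matrix (Idx a b) (Idx a b) F) *
        ((u⁻¹ : GL (Idx a b) F) : Matrix (Idx a b) (Idx a b) F) := by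
    simp only [Units.val_mul, hC, hUdef]
  rw [h1, key]
  have h2 : (1 + D) * U * C * ((c⁻¹ : GL (Idx a b) F) : Matrix (Idx a b) (Idx a b) F) *
      ((u⁻¹ : GL (Idx a b) F) : Matrix (Idx a b) (Idx a b) F) = 1 + D := by
    rw [mul_assoc ((1 + D) * U), hC, ← Units.val_mul, mul_inv_cancel, Units.val_one, mul_one,
      mul_assoc, hUdef, ← Units.val_mul, mul_inv_cancel, Units.val_one, mul_one]
  rw [h2]

end Cfsg.Agent.Lib.Helper25.TensLeaf
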