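import Mathlib
import Cfsg.Agent.Lib.Helper25.TensStmt
import Cfsg.Agent.Lib.Helper25.TensQ
import Cfsg.Agent.Lib.Helper25.TensI

set_option autoImplicit false
set_option linter.unusedSectionVars false
set_option linter.unusedVariables false

namespace Cfsg.Agent.Lib.Helper25.TensLeaf
open Matrix Cfsg.Agent.Lib.Helper25.Tens Cfsg.Agent.Lib.Helper25.TensLeaves
open scoped Kronecker

variable {F : Type*} [Field F] {a b : ℕ}

lemma det_inv_eq_one {ι : Type} [Fintype ι] [DecidableEq ι] (β : GL ι F)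
    (h : (β : Matrix ι ι F).det = 1) : ((β⁻¹ : GL ι F) : Matrix ι ι F).det = 1 := by
  rw [← mem_SLG_iff] at h ⊢
  exact (Cfsg.Geo.specialLinear ι F).inv_mem h

lemma det_mul_eq_one {ι : Type} [Fintype ι] [DecidableEq ι] (β γ : GL ι F)
    (h : (β : Matrix ι ι F).det = 1) (h' : (γ : Matrix ι ι F).det = 1) :
    ((β * γ : GL ι F) : Matrix ι ι F).det = 1 := by
  rw [← mem_SLG_iff] at h h' ⊢
  exact (Cfsg.Geo.specialLinear ι F).mul_mem h h'

/-- case `y o = 1` -/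
lemma sl_trans_one (o : Fin b) (y : Fin b → F) (hy : y o = 1) :
    ∃ β : GL (Fin b) F, (β : Matrix (Fin b) (Fin b) F).det = 1 ∧
      (β : Matrix (Fin b) (Fin b) F) *ᵥ Pi.single o 1 = y := by
  have h : (Pi.single o (1 : F) : Fin b → F) ⬝ᵥ (y - Pi.single o 1) = 0 := by
    rw [dotProduct_sub, single_dotProduct, single_dotProduct, one_mul, one_mul, hy,
      Pi.single_eq_same, sub_self]
  refine ⟨tv (y - Pi.single o 1) (Pi.single o 1) h, tv_det _ _ h, ?_⟩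
  rw [tv_mulVec, single_dotProduct, one_mul, Pi.single_eq_same, one_smul]
  abel

/-- case: some coordinate `t ≠ o` of `y` is non-zero -/
lemma sl_trans_two (o t : Fin b) (hto : t ≠ o) (y : Fin b → F) (hy : y t ≠ 0) :
    ∃ β : GL (Fin b) F, (β : Matrix (Fin b) (Fin b) F).det = 1 ∧
      (β : Matrix (Fin b) (Fin b) F) *ᵥ Pi.single o 1 = y := by
  set r : F := (1 - y o) / y t with hr
  have h : (r • (Pi.single t (1 : F) : Fin b → F)) ⬝ᵥ (Pi.single o (1 : F) : Fin b → F) = 0 := by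
    rw [smul_dotProduct, single_dotProduct, one_mul, Pi.single_apply, if_neg hto, smul_zero]
  set β₁ : GL (Fin b) F := tv (Pi.single o 1) (r • Pi.single t 1) h with hβ₁
  set y₁ : Fin b → F := (β₁ : Matrix (Fin b) (Fin b) F) *ᵥ y with hy₁
  have hy₁o : y₁ o = 1 := by
    rw [hy₁, hβ₁, tv_mulVec, smul_dotProduct, single_dotProduct, one_mul]
    simp only [Pi.add_apply, Pi.smul_apply, Pi.single_eq_same, smul_eq_mul, mul_one]
    rw [hr]
    field_simp
    ring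
  obtain ⟨β₂, hβ₂d, hβ₂⟩ := sl_trans_one o y₁ hy₁o
  refine ⟨β₁⁻¹ * β₂, det_mul_eq_one _ _ (det_inv_eq_one _ (tv_det _ _ h)) hβ₂d, ?_⟩
  rw [Units.val_mul, ← Matrix.mulVec_mulVec, hβ₂, hy₁, gl_inv_mul_mulVec]

/-- (TN0) `SL_b` is transitive on non-zero vectors. -/
theorem sl_transitive (hb : 2 ≤ b) (o : Fin b) (y : Fin b → F) (hy : y ≠ 0) :
    ∃ β : GL (Fin b) F, (β : Matrix (Fin b) (Fin b) F).det = 1 ∧
      (β : Matrix (Fin b) (Fin b) F) *ᵥ Pi.single o 1 = y := by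
  by_cases hcase : ∃ t : Fin b, t ≠ o ∧ y t ≠ 0
  · obtain ⟨t, hto, hyt⟩ := hcase
    exact sl_trans_two o t hto y hyt
  · push Not at hcase
    have hyo : y o ≠ 0 := by
      intro h0
      apply hy
      ext l
      by_cases hl : l = o
      · rw [hl, h0]; rfl
      · exact hcase l hl
    obtain ⟨t, hto⟩ : ∃ t : Fin b, t ≠ o := by
      by_cases h0 : o.val = 0
      · exact ⟨⟨1, by omega⟩, fun h' => by rw [← h'] at h0; simp at h0⟩
      · exact ⟨⟨0, by omega⟩, fun h' => by rw [← h'] at h0; simp at h0⟩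
    have h : (Pi.single o (1 : F) : Fin b → F) ⬝ᵥ (Pi.single t (1 : F) : Fin b → F) = 0 := by
      rw [single_dotProduct, one_mul, Pi.single_apply, if_neg hto.symm]
    set γ : GL (Fin b) F := tv (Pi.single t 1) (Pi.single o 1) h with hγ
    set y' : Fin b → F := (γ : Matrix (Fin b) (Fin b) F) *ᵥ y with hy'
    have hy't : y' t ≠ 0 := by
      rw [hy', hγ, tv_mulVec, single_dotProduct, one_mul]
      simp only [Pi.add_apply, Pi.smul_apply, Pi.single_eq_same, smul_eq_mul, mul_one]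
      rw [hcase t hto, zero_add]
      exact hyo
    obtain ⟨β', hβ'd, hβ'⟩ := sl_trans_two o t hto y' hy't
    refine ⟨γ⁻¹ * β', det_mul_eq_one _ _ (det_inv_eq_one _ (tv_det _ _ h)) hβ'd, ?_⟩
    rw [Units.val_mul, ← Matrix.mulVec_mulVec, hβ', hy', gl_inv_mul_mulVec]

/-- (TN) normalisation. -/
theorem normalize (hb : 2 ≤ b) (o : Fin b) (M : Subgroup (GL (Idx a b) F))
    (hKM : KG a b F ⊓ SLG a b F ≤ M) (h : R1 M) : R2 o M := by
  obtain ⟨h, hM, hK, y, y', hy, hy', hall⟩ := h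
  obtain ⟨β₁, hβ₁d, hβ₁⟩ := sl_transitive hb o y hy
  obtain ⟨β₂, hβ₂d, hβ₂⟩ := sl_transitive hb o y' hy'
  have h1 : kel (1 : GL (Fin a) F) β₁ ∈ KG a b F ⊓ SLG a b F :=
    kel_mem_of_det _ _ (by simp) hβ₁d
  have h2 : kel (1 : GL (Fin a) F) β₂⁻¹ ∈ KG a b F ⊓ SLG a b F :=
    kel_mem_of_det _ _ (by simp) (det_inv_eq_one _ hβ₂d)
  refine ⟨kel 1 β₂⁻¹ * h * kel 1 β₁, M.mul_mem (M.mul_mem (hKM h2) hM) (hKM h1), ?_, ?_⟩
  · intro hmem
    apply hK
    have h3 : (kel (1 : GL (Fin a) F) β₂⁻¹)⁻¹ * (kel 1 β₂⁻¹ * h * kel 1 β₁) *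
        (kel (1 : GL (Fin a) F) β₁)⁻¹ ∈ KG a b F :=
      (KG a b F).mul_mem ((KG a b F).mul_mem ((KG a b F).inv_mem h2.1) hmem)
        ((KG a b F).inv_mem h1.1)
    simpa [mul_assoc] using h3
  · intro x
    obtain ⟨x', hx'⟩ := hall x
    refine ⟨x', ?_⟩
    rw [Units.val_mul, Units.val_mul, ← Matrix.mulVec_mulVec, ← Matrix.mulVec_mulVec,
      kel_mulVec_pt, hβ₁, Units.val_one, Matrix.one_mulVec, hx', kel_mulVec_pt, Units.val_one,
      Matrix.one_mulVec, ← hβ₂, gl_inv_mul_mulVec]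

end Cfsg.Agent.Lib.Helper25.TensLeaf
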