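import Mathlib
import Cfsg.Agent.Lib.Helper25.TensStmt
import Cfsg.Agent.Lib.Helper25.TensQ
import Cfsg.Agent.Lib.Helper25.TensI

set_option autoImplicit false
set_option linter.unusedSectionVars false
set_option linter.unusedVariables false

namespace Cfsg.Agent.Lib.Helper25.TensLeaf
open Matrix Cfsg.Agent.Lib.Helper25.Tens Cfsg.Agent.Lib.Helper25.TensLeaves
open scoped Kronecker

variable {F : Type*} [Field F] {a b : ℕ}

/-- entries of `X *ᵥ pt x e_o` via blocks -/
lemma mulVec_pt_single_right (X : Matrix (Idx a b) (Idx a b) F) (x : Fin a → F) (o l : Fin b)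
    (i : Fin a) :
    (X *ᵥ pt x (Pi.single o (1 : F))) (i, l) = (blk X l o *ᵥ x) i := by
  simp only [Matrix.mulVec, dotProduct, pt, blk, Fintype.sum_prod_type]
  apply Finset.sum_congr rfl
  intro i' _
  rw [Finset.sum_eq_single o]
  · simp
  · intro l' _ hl'; simp [hl']
  · simp

lemma pt_single_right_apply (x : Fin a → F) (o l : Fin b) (i : Fin a) :
    pt x (Pi.single o (1 : F)) (i, l) = if l = o then x i else 0 := by
  simp only [pt, Pi.single_apply]
  split_ifs <;> simp

/-- blocks of a matrix mapping `A ⊗ e_o` by `H₁` -/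
lemma blk_of_stab (X : Matrix (Idx a b) (Idx a b) F) (H₁ : Matrix (Fin a) (Fin a) F) (o : Fin b)
    (h : ∀ x : Fin a → F, X *ᵥ pt x (Pi.single o 1) = pt (H₁ *ᵥ x) (Pi.single o 1)) (l : Fin b) :
    blk X l o = if l = o then H₁ else 0 := by
  have key : ∀ x : Fin a → F, blk X l o *ᵥ x = (if l = o then H₁ else 0) *ᵥ x := by
    intro x
    ext i
    rw [← mulVec_pt_single_right, h, pt_single_right_apply]
    split_ifs <;> simp
  ext i i'
  have := congrFun (key (Pi.single i' 1)) i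
  simpa using this

/-- (TS) the stabiliser data of an element stabilising `A ⊗ e_o`. -/
theorem stab_data (o : Fin b) (h : GL (Idx a b) F)
    (hh : ∀ x : Fin a → F, ∃ x' : Fin a → F,
      ((h : GL (Idx a b) F) : Matrix (Idx a b) (Idx a b) F) *ᵥ pt x (Pi.single o 1) =
        pt x' (Pi.single o 1)) :
    ∃ h₁ : GL (Fin a) F,
      (∀ x : Fin a → F, ((h : GL (Idx a b) F) : Matrix (Idx a b) (Idx a b) F) *ᵥ pt x (Pi.single o 1) =
        pt ((h₁ : Matrix (Fin a) (Fin a) F) *ᵥ x) (Pi.single o 1)) ∧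
      (∀ x : Fin a → F, ((h⁻¹ : GL (Idx a b) F) : Matrix (Idx a b) (Idx a b) F) *ᵥ pt x (Pi.single o 1) =
        pt (((h₁⁻¹ : GL (Fin a) F) : Matrix (Fin a) (Fin a) F) *ᵥ x) (Pi.single o 1)) := by
  set H₁ : Matrix (Fin a) (Fin a) F := blk (h : Matrix (Idx a b) (Idx a b) F) o o with hH₁
  have h1 : ∀ x : Fin a → F, ((h : GL (Idx a b) F) : Matrix (Idx a b) (Idx a b) F) *ᵥ
      pt x (Pi.single o 1) = pt (H₁ *ᵥ x) (Pi.single o 1) := by
    intro x
    obtain ⟨x', hx'⟩ := hh x
    have : x' = H₁ *ᵥ x := by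
      ext i
      have := congrFun hx' (i, o)
      rw [mulVec_pt_single_right, pt_single_right_apply, if_pos rfl] at this
      exact this.symm
    rw [hx', this]
  have hinj : Function.Injective H₁.mulVec := by
    intro x x' hxx
    have h2 : ((h : GL (Idx a b) F) : Matrix (Idx a b) (Idx a b) F) *ᵥ pt (x - x') (Pi.single o 1)
        = 0 := by
      rw [h1, Matrix.mulVec_sub]
      have : H₁ *ᵥ x = H₁ *ᵥ x' := hxx
      rw [this, sub_self, pt_zero_left]
    have h3 := gl_mulVec_eq_zero h h2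
    rcases (pt_eq_zero_iff _ _).1 h3 with h4 | h4
    · exact sub_eq_zero.1 h4
    · exact absurd h4 (single_ne_zero' o)
  have hunit : IsUnit H₁ := Matrix.mulVec_injective_iff_isUnit.1 hinj
  obtain ⟨h₁, hh₁⟩ := hunit
  refine ⟨h₁, ?_, ?_⟩
  · intro x
    rw [hh₁]
    exact h1 x
  · intro x
    have h2 := h1 (((h₁⁻¹ : GL (Fin a) F) : Matrix (Fin a) (Fin a) F) *ᵥ x)
    rw [← hh₁, gl_mul_inv_mulVec] at h2
    rw [← h2, gl_inv_mul_mulVec]

/-- (TIIa-i) case (i): some block `h₁ * blk h⁻¹ k l` (`k ≠ o`) is not scalar. -/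
theorem stageIIa_i (o : Fin b) (M : Subgroup (GL (Idx a b) F))
    (hKM : KG a b F ⊓ SLG a b F ≤ M) (h : GL (Idx a b) F) (hM : h ∈ M) (h₁ : GL (Fin a) F)
    (hh : ∀ x : Fin a → F, ((h : GL (Idx a b) F) : Matrix (Idx a b) (Idx a b) F) *ᵥ pt x (Pi.single o 1) =
        pt ((h₁ : Matrix (Fin a) (Fin a) F) *ᵥ x) (Pi.single o 1))
    (hh' : ∀ x : Fin a → F, ((h⁻¹ : GL (Idx a b) F) : Matrix (Idx a b) (Idx a b) F) *ᵥ pt x (Pi.single o 1) =
        pt (((h₁⁻¹ : GL (Fin a) F) : Matrix (Fin a) (Fin a) F) *ᵥ x) (Pi.single o 1))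
    (k l : Fin b) (hk : k ≠ o)
    (hns : ¬ IsScalarMat ((h₁ : Matrix (Fin a) (Fin a) F) *
      blk ((h⁻¹ : GL (Idx a b) F) : Matrix (Idx a b) (Idx a b) F) k l)) : R3 o M := by
  set hMat : Matrix (Idx a b) (Idx a b) F := (h : Matrix (Idx a b) (Idx a b) F) with hhMat
  set hI : Matrix (Idx a b) (Idx a b) F := ((h⁻¹ : GL (Idx a b) F) : Matrix (Idx a b) (Idx a b) F)
    with hhI
  have hek : (Pi.single k (1 : F) : Fin b → F) ⬝ᵥ (Pi.single o (1 : F) : Fin b → F) = 0 := by
    rw [single_dotProduct, one_mul, Pi.single_apply, if_neg hk]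
  set r : GL (Idx a b) F := kel (1 : GL (Fin a) F) (tv (Pi.single o 1) (Pi.single k 1) hek) with hr
  have hrM : r ∈ M := hKM (kel_one_tv_mem _ _ hek)
  set N : Matrix (Idx a b) (Idx a b) F :=
    (1 : Matrix (Fin a) (Fin a) F) ⊗ₖ Matrix.vecMulVec (Pi.single o (1 : F)) (Pi.single k (1 : F))
    with hN
  have hrval : (r : Matrix (Idx a b) (Idx a b) F) = 1 + N := by
    rw [hr, kel_val, tv_val, Units.val_one, Matrix.kronecker_add, Matrix.one_kronecker_one]
  have huval : ((h * r * h⁻¹ : GL (Idx a b) F) : Matrix (Idx a b) (Idx a b) F) =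
      1 + hMat * N * hI := by
    rw [Units.val_mul, Units.val_mul, hrval, mul_add, add_mul, mul_one, ← Units.val_mul,
      mul_inv_cancel, Units.val_one]
  have hbN : ∀ r' s : Fin b, blk N r' s =
      if r' = o ∧ s = k then (1 : Matrix (Fin a) (Fin a) F) else 0 := by
    intro r' s
    rw [hN, blk_kron, Matrix.vecMulVec_apply, Pi.single_apply, Pi.single_apply]
    by_cases h1 : r' = o <;> by_cases h2 : s = k <;> simp [h1, h2]
  have hbh := blk_of_stab hMat (h₁ : Matrix (Fin a) (Fin a) F) o hh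
  have hbI := blk_of_stab hI ((h₁⁻¹ : GL (Fin a) F) : Matrix (Fin a) (Fin a) F) o hh'
  have hbu : ∀ p q : Fin b, blk (hMat * N * hI) p q = blk hMat p o * blk hI k q := by
    intro p q
    rw [blk_mul]
    simp only [blk_mul, hbN]
    rw [Finset.sum_eq_single k]
    · rw [Finset.sum_eq_single o]
      · simp
      · intro r' _ hr'; simp [hr']
      · simp
    · intro s _ hs
      simp [hs]
    · simp
  refine ⟨h * r * h⁻¹, M.mul_mem (M.mul_mem hM hrM) (M.inv_mem hM), ?_, ?_⟩
  · -- not in KG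
    rintro ⟨α, β, hαβ⟩
    rw [huval] at hαβ
    have hblk : ∀ p q : Fin b, blk (1 + hMat * N * hI) p q =
        β p q • (α : Matrix (Fin a) (Fin a) F) := by
      intro p q
      rw [hαβ, blk_kron]
    have hoo := hblk o o
    rw [blk_add, blk_one, if_pos rfl, hbu, hbI k, if_neg hk, mul_zero, add_zero] at hoo
    -- l ≠ o
    have hlo : l ≠ o := by
      intro hlo
      apply hns
      rw [hlo, hbI k, if_neg hk, mul_zero]
      exact ⟨0, by simp⟩
    have hol := hblk o l
    rw [blk_add, blk_one, if_neg (Ne.symm hlo), zero_add, hbu, hbh o, if_pos rfl] at hol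
    apply hns
    rw [hol]
    by_cases hβ : β o o = 0
    · rw [hβ, zero_smul] at hoo
      refine ⟨0, ?_⟩
      rw [zero_smul]
      have : β o l • (α : Matrix (Fin a) (Fin a) F) = β o l • (α : Matrix (Fin a) (Fin a) F) * 1 := by
        rw [mul_one]
      rw [this, hoo, mul_zero]
    · refine ⟨β o l * (β o o)⁻¹, ?_⟩
      have hα : (α : Matrix (Fin a) (Fin a) F) = (β o o)⁻¹ • 1 := by
        rw [hoo, smul_smul, inv_mul_cancel₀ hβ, one_smul]
      rw [hα, smul_smul]
  · -- U1 form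
    intro i i' p q hpq
    rw [huval, Matrix.add_apply]
    have : (hMat * N * hI) (i, p) (i', q) = 0 := by
      have h2 : (hMat * N * hI) (i, p) (i', q) = blk (hMat * N * hI) p q i i' := rfl
      rw [h2, hbu]
      rcases hpq with hp | hq
      · rw [hbh p, if_neg hp, zero_mul]; rfl
      · rw [hq, hbI k, if_neg hk, mul_zero]; rfl
    rw [this, add_zero]

end Cfsg.Agent.Lib.Helper25.TensLeaf
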