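import Mathlib
import Cfsg.Prelude.Def_GeometricClasses
import Cfsg.Agent.Lib.Helper25.TensDefs
import Cfsg.Agent.Lib.Helper25.TensStmt
import Cfsg.Agent.Lib.Helper25.TensQ
import Cfsg.Agent.Lib.Helper25.TensI
import Cfsg.Agent.Lib.Helper25.TensN
import Cfsg.Agent.Lib.Helper25.TensS
import Cfsg.Agent.Lib.Helper25.TensIIb
import Cfsg.Agent.Lib.Helper8.TIIaii
import Cfsg.Agent.Lib.Helper13.TA
import Cfsg.Agent.Lib.Helper2.TIIIsf
import Cfsg.Agent.Lib.Helper20.TIIIabc
import Cfsg.Agent.Lib.Helper9.TB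
import Cfsg.Agent.Lib.Helper9.TP

/-!
S5637: assembly of the core theorem (the Kronecker group `GL_a ⊗ GL_b ∩ SL` is maximal in `SL`
of the model `Fin a × Fin b`) from the leaves.
-/

set_option autoImplicit false
set_option linter.unusedSectionVars false
set_option linter.unusedVariables false

namespace Cfsg.Agent.Lib.Helper25.TensMain
open Matrix Cfsg.Agent.Lib.Helper25.Tens Cfsg.Agent.Lib.Helper25.TensLeaves
open scoped Kronecker

variable {F : Type*} [Field F] {a b : ℕ}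

theorem stageI (ha : 1 ≤ a) (hab : a < b) (o : Fin b) (M : Subgroup (GL (Idx a b) F))
    (hKM : KG a b F ⊓ SLG a b F ≤ M) (hne : ¬ M ≤ KG a b F) : R1 M := by
  by_contra hR
  have h0 : PI o M 0 := by
    obtain ⟨m, hm, hmK⟩ := SetLike.not_le_iff_exists.mp hne
    exact ⟨m, hm, hmK, fun i hi => absurd hi (Nat.not_lt_zero _)⟩
  have h1 : PI o M 1 :=
    (Cfsg.Agent.Lib.Helper25.TensLeaf.stageI_zero ha hab o M hKM h0).resolve_right hR
  have hd : ∀ d, 1 ≤ d → d ≤ a → PI o M d := by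
    intro d hd1
    induction d, hd1 using Nat.le_induction with
    | base => intro _; exact h1
    | succ d hd1 ih =>
      intro hda
      exact (Cfsg.Agent.Lib.Helper25.TensLeaf.stageI_succ hab o M hKM d hd1 (by omega)
        (ih (by omega))).resolve_right hR
  exact hR (Cfsg.Agent.Lib.Helper25.TensLeaf.stageI_top o M (hd a ha le_rfl))

theorem stageIIa (ha : 1 ≤ a) (o : Fin b) (M : Subgroup (GL (Idx a b) F))
    (hKM : KG a b F ⊓ SLG a b F ≤ M) (hMS : M ≤ SLG a b F) (h : R2 o M) : R3 o M := by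
  obtain ⟨h, hM, hK, hh⟩ := h
  obtain ⟨h₁, hh1, hh2⟩ := Cfsg.Agent.Lib.Helper25.TensLeaf.stab_data o h hh
  by_cases hsc : ∀ k l : Fin b, k ≠ o → IsScalarMat ((h₁ : Matrix (Fin a) (Fin a) F) *
      blk ((h⁻¹ : GL (Idx a b) F) : Matrix (Idx a b) (Idx a b) F) k l)
  · exact Cfsg.Agent.Lib.Helper8.TensLeaf.stageIIa_ii ha o M hKM hMS h hM hK h₁ hh1 hh2 hsc
  · push Not at hsc
    obtain ⟨k, l, hk, hns⟩ := hsc
    exact Cfsg.Agent.Lib.Helper25.TensLeaf.stageIIa_i o M hKM h hM h₁ hh1 hh2 k l hk hns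

theorem exists_ne_fin {n : ℕ} (hn : 2 ≤ n) (x : Fin n) : ∃ y : Fin n, y ≠ x := by
  by_cases h : x.val = 0
  · exact ⟨⟨1, by omega⟩, fun h' => by rw [← h'] at h; simp at h⟩
  · exact ⟨⟨0, by omega⟩, fun h' => by rw [← h'] at h; simp at h⟩

theorem stageIII (ha : 2 ≤ a) (hb : 3 ≤ b) (M : Subgroup (GL (Idx a b) F))
    (hKM : KG a b F ⊓ SLG a b F ≤ M)
    (k i : Fin a) (hki : k ≠ i) (o j : Fin b) (hoj : o ≠ j) (h : XT M (k, o) (i, j)) :
    SLG a b F ≤ M := by
  have hA := Cfsg.Agent.Lib.Helper20.TensLeaf.XT_typeA M hKM k i hki o j hoj h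
  have hB : ∀ (k' : Fin a) (l m : Fin b), l ≠ m → XT M (k', l) (k', m) := by
    intro k' l m hlm
    obtain ⟨i'', hi''⟩ := exists_ne_fin ha k'
    obtain ⟨l'', hl1, hl2⟩ := Cfsg.Agent.Lib.Helper25.TensLeaf.exists_ne_fin2' hb l m
    refine Cfsg.Agent.Lib.Helper2.TensLeaf.XT_comm M (k', l) (i'', l'') (k', m) ?_ ?_ ?_
      (hA k' i'' hi''.symm l l'' hl1.symm) (hA i'' k' hi'' l'' m hl2)
    · intro h'; exact hi'' (congrArg Prod.fst h').symm
    · intro h'; exact hi'' (congrArg Prod.fst h')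
    · intro h'; exact hlm (congrArg Prod.snd h')
  have hC : ∀ (k' i' : Fin a) (l : Fin b), k' ≠ i' → XT M (k', l) (i', l) := by
    intro k' i' l hki'
    obtain ⟨l'', hl''⟩ := exists_ne_fin (by omega : 2 ≤ b) l
    refine Cfsg.Agent.Lib.Helper2.TensLeaf.XT_comm M (k', l) (k', l'') (i', l) ?_ ?_ ?_
      (hB k' l l'' hl''.symm) (hA k' i' hki' l'' l hl'')
    · intro h'; exact hl'' (congrArg Prod.snd h').symm
    · intro h'; exact hki' (congrArg Prod.fst h')
    · intro h'; exact hki' (congrArg Prod.fst h')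
  apply Cfsg.Agent.Lib.Helper2.TensLeaf.sl_le_of_XT
  rintro ⟨k', l⟩ ⟨i', m⟩ hne
  by_cases h1 : k' = i'
  · subst h1
    exact hB k' l m (fun h' => hne (by rw [h']))
  · by_cases h2 : l = m
    · subst h2
      exact hC k' i' l h1
    · exact hA k' i' h1 l m h2

/-- the core theorem in the model -/
theorem core (ha : 2 ≤ a) (hab : a < b) (hex : a = 2 → ∃ c : F, c ≠ 0 ∧ c ≠ 1) :
    Cfsg.Geo.IsMaximalIn (SLG a b F) (KG a b F ⊓ SLG a b F) := by
  have hb3 : 3 ≤ b := by omega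
  refine ⟨Cfsg.Agent.Lib.Helper9.TensLeaf.KG_lt ha (by omega), fun M hKM hMS => ?_⟩
  by_cases hle : M ≤ KG a b F
  · left; exact le_antisymm (le_inf hle hMS) hKM
  · right
    refine le_antisymm hMS ?_
    have o : Fin b := ⟨0, by omega⟩
    have r1 := stageI (by omega) hab o M hKM hle
    have r2 := Cfsg.Agent.Lib.Helper25.TensLeaf.normalize (by omega) o M hKM r1
    have r3 := stageIIa (by omega) o M hKM hMS r2
    obtain ⟨j, hj, θ, hθ, hns⟩ := Cfsg.Agent.Lib.Helper25.TensLeaf.stageIIb hb3 o M hKM r3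
    obtain ⟨k, i, hki, hE⟩ := Cfsg.Agent.Lib.Helper13.TensLeaf.lemmaA ha hex (Bset o j M)
      (Cfsg.Agent.Lib.Helper9.TensLeaf.Bset_add o j hj M)
      (Cfsg.Agent.Lib.Helper9.TensLeaf.Bset_neg o j hj M)
      (fun c θ h => Cfsg.Agent.Lib.Helper9.TensLeaf.Bset_smul hb3 o j hj M hKM c θ h)
      (fun α hα θ h => Cfsg.Agent.Lib.Helper9.TensLeaf.Bset_conj o j M hKM α hα θ h) θ hθ hns
    apply stageIII ha hb3 M hKM k i hki o j hj.symm
    intro c
    have h1 := Cfsg.Agent.Lib.Helper9.TensLeaf.Bset_smul hb3 o j hj M hKM c _ hE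
    have h2 : (1 : Matrix (Idx a b) (Idx a b) F) +
        (c • Matrix.single k i (1 : F)) ⊗ₖ (Matrix.single o j (1 : F) : Matrix (Fin b) (Fin b) F) =
        1 + Matrix.single (k, o) (i, j) c := by
      congr 1
      ext ⟨p, q⟩ ⟨p', q'⟩
      simp only [Matrix.kroneckerMap_apply, Matrix.smul_apply, Matrix.single_apply, smul_eq_mul,
        Prod.mk.injEq]
      by_cases e1 : k = p <;> by_cases e2 : i = p' <;> by_cases e3 : o = q <;>
        by_cases e4 : j = q' <;> simp [e1, e2, e3, e4]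
    change InM M _ at h1
    rw [h2] at h1
    exact h1

/-- the hypothesis on the field in the form used by `core` -/
theorem field_hyp {F : Type*} [Field F] [Fintype F] (n₁ : ℕ)
    (hex : ¬ (n₁ = 2 ∧ Fintype.card F = 2)) : n₁ = 2 → ∃ c : F, c ≠ 0 ∧ c ≠ 1 := by
  intro h2
  have hc : Fintype.card F ≠ 2 := fun h => hex ⟨h2, h⟩
  by_contra hcon
  push Not at hcon
  classical
  have hsub : (Finset.univ : Finset F) ⊆ {0, 1} := by
    intro c _
    by_cases h0 : c = 0
    · simp [h0]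
    · simp [hcon c h0]
  have hle : Fintype.card F ≤ 2 := by
    calc Fintype.card F = (Finset.univ : Finset F).card := rfl
      _ ≤ ({0, 1} : Finset F).card := Finset.card_le_card hsub
      _ ≤ 2 := Finset.card_le_two
  have hgt : 1 < Fintype.card F := Fintype.one_lt_card
  omega

end Cfsg.Agent.Lib.Helper25.TensMain
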