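import Mathlib
import Cfsg.Prelude.Def_GeometricClasses
import Cfsg.Agent.Lib.Helper25.TensDefs
import Cfsg.Agent.Lib.Helper25.TensStmt

set_option autoImplicit false
set_option linter.unusedSectionVars false
set_option linter.unusedVariables false

namespace Cfsg.Agent.Lib.Helper25.TensLeaf
open Matrix Cfsg.Agent.Lib.Helper25.Tens Cfsg.Agent.Lib.Helper25.TensLeaves
open scoped Kronecker

variable {F : Type*} [Field F]

theorem isMaximalIn_map' {G G' : Type*} [Group G] [Group G'] (φ : G ≃* G') {K H : Subgroup G}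
    (h : Cfsg.Geo.IsMaximalIn K H) :
    Cfsg.Geo.IsMaximalIn (K.map φ.toMonoidHom) (H.map φ.toMonoidHom) := by
  obtain ⟨hlt, hmax⟩ := h
  have hinj : Function.Injective φ.toMonoidHom := φ.injective
  refine ⟨(Subgroup.map_lt_map_iff_of_injective hinj).mpr hlt, fun M hHM hMK => ?_⟩
  have hM : M = (M.comap φ.toMonoidHom).map φ.toMonoidHom :=
    (Subgroup.map_comap_eq_self_of_surjective φ.surjective M).symm
  have h1 : H ≤ M.comap φ.toMonoidHom := (Subgroup.map_le_iff_le_comap).mp hHM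
  have h2 : M.comap φ.toMonoidHom ≤ K := by
    intro x hx
    have : φ.toMonoidHom x ∈ K.map φ.toMonoidHom := hMK hx
    obtain ⟨y, hy, hyx⟩ := this
    rw [← hinj hyx]; exact hy
  rcases hmax _ h1 h2 with h | h
  · left; rw [hM, h]
  · right; rw [hM, h]

/-- (TT) transport to `Fin n`, `e`, `P`. -/
theorem transport (n n₁ n₂ : ℕ) (e : Fin n ≃ Fin n₁ × Fin n₂) (P : GL (Fin n) F)
    (h : Cfsg.Geo.IsMaximalIn (SLG n₁ n₂ F) (KG n₁ n₂ F ⊓ SLG n₁ n₂ F)) :
    Cfsg.Geo.IsMaximalIn (Cfsg.Geo.specialLinear (Fin n) F)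
      (Cfsg.Geo.tensorProductSubgroup n₁ n₂ e P ⊓ Cfsg.Geo.specialLinear (Fin n) F) := by
  set φ : GL (Idx n₁ n₂) F ≃* GL (Fin n) F :=
    (Cfsg.Geo.glReindex (F := F) e.symm).trans (MulAut.conj P) with hφ
  have hdet : ∀ g : GL (Idx n₁ n₂) F,
      ((φ g : GL (Fin n) F) : Matrix (Fin n) (Fin n) F).det =
        (g : Matrix (Idx n₁ n₂) (Idx n₁ n₂) F).det := by
    intro g
    have h1 : φ g = P * (Cfsg.Geo.glReindex (F := F) e.symm g) * P⁻¹ := rfl
    rw [h1, Units.val_mul, Units.val_mul, Matrix.det_mul, Matrix.det_mul]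
    have h2 : ((Cfsg.Geo.glReindex (F := F) e.symm g : GL (Fin n) F) : Matrix (Fin n) (Fin n) F) =
        Matrix.reindex e.symm e.symm (g : Matrix (Idx n₁ n₂) (Idx n₁ n₂) F) := rfl
    rw [h2, Matrix.det_reindex_self]
    have h3 : (P : Matrix (Fin n) (Fin n) F).det *
        ((P⁻¹ : GL (Fin n) F) : Matrix (Fin n) (Fin n) F).det = 1 := by
      rw [← Matrix.det_mul, ← Units.val_mul, mul_inv_cancel, Units.val_one, Matrix.det_one]
    calc (P : Matrix (Fin n) (Fin n) F).det * (g : Matrix (Idx n₁ n₂) (Idx n₁ n₂) F).det *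
          ((P⁻¹ : GL (Fin n) F) : Matrix (Fin n) (Fin n) F).det
        = (g : Matrix (Idx n₁ n₂) (Idx n₁ n₂) F).det * ((P : Matrix (Fin n) (Fin n) F).det *
          ((P⁻¹ : GL (Fin n) F) : Matrix (Fin n) (Fin n) F).det) := by ring
      _ = _ := by rw [h3, mul_one]
  have hSL : (SLG n₁ n₂ F).map φ.toMonoidHom = Cfsg.Geo.specialLinear (Fin n) F := by
    ext g
    constructor
    · rintro ⟨g', hg', rfl⟩
      have hg'' : g' ∈ Cfsg.Geo.specialLinear (Idx n₁ n₂) F := hg'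
      rw [mem_SLG_iff] at hg'' ⊢
      change ((φ g' : GL (Fin n) F) : Matrix (Fin n) (Fin n) F).det = 1
      rw [hdet, hg'']
    · intro hg
      refine ⟨φ.symm g, ?_, by simp⟩
      change φ.symm g ∈ Cfsg.Geo.specialLinear (Idx n₁ n₂) F
      rw [mem_SLG_iff] at hg ⊢
      rw [← hdet, MulEquiv.apply_symm_apply]
      exact hg
  have hK : (KG n₁ n₂ F).map φ.toMonoidHom = Cfsg.Geo.tensorProductSubgroup n₁ n₂ e P := by
    unfold Cfsg.Geo.tensorProductSubgroup
    rw [Subgroup.map_map]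
    rfl
  have key := isMaximalIn_map' φ h
  rw [Subgroup.map_inf _ _ _ φ.injective, hSL, hK] at key
  exact key

end Cfsg.Agent.Lib.Helper25.TensLeaf
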