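/-
helper25: p-complements (Hall p'-subgroups) in finite p-solvable groups (`Cfsg.IsPSolvable`):
existence, dominance, conjugacy.
-/
import Mathlib
import Cfsg.Prelude.Def_Local
import Cfsg.Agent.Lib.Helper1.Coprime
import Cfsg.Agent.Lib.Helper1.Hall
import Cfsg.Agent.Lib.Helper24.PSolvable

set_option autoImplicit false
open Pointwise

namespace Cfsg.Agent.Lib.Helper25

open Cfsg.Agent.Lib.Helper1 Cfsg.Agent.Lib.Helper24

universe u

/-- `H` is a `p`-complement of `G`: order prime to `p`, index a power of `p`. -/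
def IsPCompl {G : Type*} [Group G] (p : ℕ) (H : Subgroup G) : Prop :=
  (Nat.card H).Coprime p ∧ ∃ n : ℕ, H.index = p ^ n

theorem conj_smul_eq_map {G : Type*} [Group G] (g : G) (H : Subgroup G) :
    MulAut.conj g • H = H.map (MulAut.conj g).toMonoidHom := rfl

theorem card_conj_smul' {G : Type*} [Group G] (g : G) (H : Subgroup G) :
    Nat.card (MulAut.conj g • H : Subgroup G) = Nat.card H :=
  Nat.card_congr ((Subgroup.equivSMul (MulAut.conj g) H).symm.toEquiv)

/-- a number dividing a power of `p` and coprime to `p` is `1`. -/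
theorem eq_one_of_dvd_pow_of_coprime {p : ℕ} (hp : p.Prime) {d k : ℕ} (h1 : d ∣ p ^ k)
    (h2 : d.Coprime p) : d = 1 := by
  obtain ⟨i, _, rfl⟩ := (Nat.dvd_prime_pow hp).mp h1
  rcases Nat.eq_zero_or_pos i with rfl | hi
  · simp
  · exfalso
    have : p ∣ Nat.gcd (p ^ i) p := Nat.dvd_gcd (dvd_pow_self p hi.ne') dvd_rfl
    rw [h2] at this
    exact hp.one_lt.ne' (Nat.dvd_one.mp this)

/-- the order of `H ⊔ N` divides `|H| |N|` for normal `N`. -/
theorem card_sup_dvd_mul {G : Type*} [Group G] [Finite G] (H N : Subgroup G) [N.Normal] :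
    Nat.card (H ⊔ N : Subgroup G) ∣ Nat.card H * Nat.card N := by
  have h1 : N.relIndex (H ⊔ N) = N.relIndex H := Subgroup.relIndex_sup_right H N
  have h2 : N.relIndex (H ⊔ N) * Nat.card N = Nat.card (H ⊔ N : Subgroup G) := by
    have := Subgroup.relIndex_mul_relIndex ⊥ N (H ⊔ N) bot_le le_sup_right
    rw [Subgroup.relIndex_bot_left, Subgroup.relIndex_bot_left] at this
    rw [mul_comm]; exact this
  rw [← h2, h1]
  exact Nat.mul_dvd_mul_right (Subgroup.relIndex_dvd_card _ _) _

/-- A `p`-complement contains every normal `p'`-subgroup. -/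
theorem le_of_isPCompl_of_coprime {G : Type*} [Group G] [Finite G] {p : ℕ} (hp : p.Prime)
    {H N : Subgroup G} [N.Normal] (hH : IsPCompl p H) (hN : (Nat.card N).Coprime p) : N ≤ H := by
  obtain ⟨hHc, k, hk⟩ := hH
  have h1 : H.relIndex (H ⊔ N) ∣ p ^ k := by
    rw [← hk]; exact Subgroup.relIndex_dvd_index_of_le le_sup_left
  have h2 : (H.relIndex (H ⊔ N)).Coprime p := by
    have h3 : H.relIndex (H ⊔ N) ∣ Nat.card (H ⊔ N : Subgroup G) := Subgroup.relIndex_dvd_card _ _
    have h4 := card_sup_dvd_mul H N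
    exact Nat.Coprime.coprime_dvd_left (dvd_trans h3 h4) (Nat.Coprime.mul_left hHc hN)
  have h5 := eq_one_of_dvd_pow_of_coprime hp h1 h2
  rw [Subgroup.relIndex_eq_one] at h5
  exact le_trans le_sup_right h5

/-- The image of a `p`-complement in a quotient is a `p`-complement. -/
theorem isPCompl_map {G : Type*} [Group G] [Finite G] {p : ℕ} (hp : p.Prime) {H : Subgroup G}
    (hH : IsPCompl p H) (N : Subgroup G) [N.Normal] :
    IsPCompl p (H.map (QuotientGroup.mk' N)) := by
  obtain ⟨hHc, k, hk⟩ := hH
  refine ⟨Nat.Coprime.coprime_dvd_left (H.card_map_dvd _) hHc, ?_⟩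
  have h1 : (H.map (QuotientGroup.mk' N)).index ∣ p ^ k := by
    rw [← hk]; exact Subgroup.index_map_dvd H (QuotientGroup.mk'_surjective N)
  obtain ⟨i, _, hi⟩ := (Nat.dvd_prime_pow hp).mp h1
  exact ⟨i, hi⟩

theorem pcompl_aux (p : ℕ) [hp : Fact p.Prime] : ∀ (n : ℕ) (G : Type u) [Group G] [Finite G],
    Nat.card G = n → Cfsg.IsPSolvable p G →
    (∃ H : Subgroup G, IsPCompl p H) ∧
    (∀ U H : Subgroup G, (Nat.card U).Coprime p → IsPCompl p H →
      ∃ g : G, MulAut.conj g • U ≤ H) := by
  intro n
  induction n using Nat.strong_induction_on with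
  | _ n ih =>
    intro G _ _ hcard hsolv
    classical
    rcases subsingleton_or_nontrivial G with hss | hnt
    · refine ⟨⟨⊤, ?_, 0, ?_⟩, ?_⟩
      · rw [Subgroup.card_top, Nat.card_of_subsingleton (1 : G)]; exact Nat.coprime_one_left p
      · simp
      · intro U H _ _
        refine ⟨1, fun x _ => ?_⟩
        rw [Subsingleton.elim x 1]; exact H.one_mem
    obtain ⟨N, hNn, hN1, hNp⟩ := exists_normal_of_isPSolvable p hsolv
    haveI := hNn
    have hlt : Nat.card (G ⧸ N) < n := hcard ▸ card_quotient_lt_of_ne_bot hN1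
    have hsolvQ : Cfsg.IsPSolvable p (G ⧸ N) :=
      isPSolvable_of_surjective p (QuotientGroup.mk' N) (QuotientGroup.mk'_surjective N) hsolv
    obtain ⟨⟨Hbar, hHbar⟩, hdomQ⟩ := ih _ hlt (G ⧸ N) rfl hsolvQ
    have hNnorm : ∀ X : Subgroup G, X ≤ Subgroup.normalizer (N : Set G) := fun X => by
      rw [Subgroup.normalizer_eq_top]; exact le_top
    -- lifting the dominance in the quotient
    have hlift : ∀ U H : Subgroup G, (Nat.card U).Coprime p → IsPCompl p H →
        ∃ g : G, MulAut.conj g • U ≤ H ⊔ N := by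
      intro U H hU hH
      have hUbar : (Nat.card (U.map (QuotientGroup.mk' N))).Coprime p :=
        Nat.Coprime.coprime_dvd_left (U.card_map_dvd _) hU
      obtain ⟨q, hq⟩ := hdomQ _ _ hUbar (isPCompl_map hp.out hH N)
      obtain ⟨g, rfl⟩ := QuotientGroup.mk'_surjective N q
      refine ⟨g, ?_⟩
      intro x hx
      rw [conj_smul_eq_map] at hx
      obtain ⟨u, hu, rfl⟩ := hx
      have h1 : QuotientGroup.mk' N ((MulAut.conj g).toMonoidHom u) ∈
          MulAut.conj (QuotientGroup.mk' N g) • U.map (QuotientGroup.mk' N) := by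
        rw [conj_smul_eq_map]
        refine ⟨QuotientGroup.mk' N u, ⟨u, hu, rfl⟩, ?_⟩
        simp [MulAut.conj_apply]
      have h2 := hq h1
      rw [← Subgroup.mem_comap, Subgroup.comap_map_eq, QuotientGroup.ker_mk'] at h2
      exact h2
    constructor
    · -- existence
      rcases hNp with hpg | hcop
      · -- N a p-group: Schur–Zassenhaus in the preimage
        set L := Hbar.comap (QuotientGroup.mk' N) with hL
        have hNL : N ≤ L := by
          intro x hx
          rw [hL, Subgroup.mem_comap]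
          have : QuotientGroup.mk' N x = 1 := (QuotientGroup.eq_one_iff x).mpr hx
          rw [this]; exact Hbar.one_mem
        have hcardL : Nat.card L = Nat.card Hbar * Nat.card N := card_comap_mk' N Hbar
        obtain ⟨a, ha⟩ := IsPGroup.iff_card.mp hpg
        have hrel : N.relIndex L = Nat.card Hbar := by
          have h1 := Subgroup.relIndex_mul_relIndex ⊥ N L bot_le hNL
          rw [Subgroup.relIndex_bot_left, Subgroup.relIndex_bot_left, hcardL] at h1
          have hpos : 0 < Nat.card N := Nat.card_pos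
          nlinarith [Nat.eq_of_mul_eq_mul_left hpos (by rw [h1]; ring :
            Nat.card N * N.relIndex L = Nat.card N * Nat.card Hbar)]
        have hcopNL : Nat.Coprime (Nat.card N) (N.relIndex L) := by
          rw [hrel, ha]
          exact Nat.Coprime.pow_left a (hHbar.1.symm)
        obtain ⟨K, hK⟩ := internal_sz_exists hNL (hNnorm L) hcopNL
        have hKcard : Nat.card N * Nat.card K = Nat.card L := hK.card_mul_card
        have hKc : Nat.card K = Nat.card Hbar := by
          rw [hcardL] at hKcard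
          have hpos : 0 < Nat.card N := Nat.card_pos
          exact Nat.eq_of_mul_eq_mul_left hpos (by rw [hKcard]; ring)
        refine ⟨K, hKc ▸ hHbar.1, ?_⟩
        obtain ⟨k, hk⟩ := hHbar.2
        refine ⟨a + k, ?_⟩
        have h1 := K.card_mul_index
        have h2 : Nat.card G = Nat.card (G ⧸ N) * Nat.card N :=
          Subgroup.card_eq_card_quotient_mul_card_subgroup N
        have h3 := Hbar.card_mul_index
        rw [h2, ← h3, hk, ha, hKc] at h1
        have hpos : 0 < Nat.card Hbar := Nat.card_pos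
        apply Nat.eq_of_mul_eq_mul_left hpos
        rw [h1, pow_add]; ring
      · -- N a p'-group: the full preimage
        refine ⟨Hbar.comap (QuotientGroup.mk' N), ?_, ?_⟩
        · rw [card_comap_mk' N Hbar]
          exact Nat.Coprime.mul_left hHbar.1 hcop
        · obtain ⟨k, hk⟩ := hHbar.2
          exact ⟨k, by rw [Subgroup.index_comap_of_surjective _ (QuotientGroup.mk'_surjective N), hk]⟩
    · -- dominance
      intro U H hU hH
      obtain ⟨g, hg⟩ := hlift U H hU hH
      rcases hNp with hpg | hcop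
      · -- N a p-group: Schur–Zassenhaus conjugacy in N ⊔ V
        set V : Subgroup G := MulAut.conj g • U with hV
        have hVc : (Nat.card V).Coprime p := by rw [hV, card_conj_smul']; exact hU
        obtain ⟨a, ha⟩ := IsPGroup.iff_card.mp hpg
        have hdNV : Disjoint N V := by
          apply Subgroup.disjoint_of_coprime_natCard
          rw [ha]; exact Nat.Coprime.pow_left a hVc.symm
        have hdNH : Disjoint N H := by
          apply Subgroup.disjoint_of_coprime_natCard
          rw [ha]; exact Nat.Coprime.pow_left a hH.1.symm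
        have hcV : Helper1.IsComplIn N V (N ⊔ V) := isComplIn_sup (hNnorm V) hdNV
        have hcH : Helper1.IsComplIn N H (N ⊔ H) := isComplIn_sup (hNnorm H) hdNH
        have hVle : N ⊔ V ≤ N ⊔ H := by
          rw [sup_comm N H]
          exact sup_le le_sup_right hg
        set H₀ : Subgroup G := (N ⊔ V) ⊓ H with hH₀
        have hcH₀ : Helper1.IsComplIn N H₀ (N ⊔ V) := by
          refine ⟨le_sup_left, inf_le_left, ?_, ?_⟩
          · exact Disjoint.mono_right inf_le_right hdNH
          · intro γ hγ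
            obtain ⟨k, hk, b, hb, hkb⟩ := hcH.2.2.2 γ (hVle hγ)
            refine ⟨k, hk, b, ⟨?_, hb⟩, hkb⟩
            have : b = k⁻¹ * γ := by rw [← hkb, inv_mul_cancel_left]
            rw [this]
            exact (N ⊔ V).mul_mem ((N ⊔ V).inv_mem (le_sup_left (a := N) hk)) hγ
        have hcop' : Nat.Coprime (Nat.card N) (Nat.card H₀) := by
          rw [ha]
          apply Nat.Coprime.pow_left
          have : Nat.card H₀ ∣ Nat.card H := Subgroup.card_dvd_of_le inf_le_right
          exact (Nat.Coprime.coprime_dvd_left this hH.1).symm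
        have hsolvN : Group.IsSolvable N := by
          haveI := IsPGroup.isNilpotent hpg
          infer_instance
        obtain ⟨k, hk, hkV⟩ := internal_sz_conj (hNnorm _) hcH₀ hcV hcop' (Or.inl hsolvN)
        refine ⟨k * g, ?_⟩
        rw [map_mul, mul_smul, ← hV, hkV]
        exact inf_le_right
      · -- N a p'-group: H ⊔ N = H
        have hNH : N ≤ H := le_of_isPCompl_of_coprime hp.out hH hcop
        exact ⟨g, le_trans hg (sup_le le_rfl hNH)⟩


/-- Two `p`-complements have the same order. -/
theorem card_eq_of_isPCompl {G : Type*} [Group G] [Finite G] {p : ℕ} {H₁ H₂ : Subgroup G}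
    (h₁ : IsPCompl p H₁) (h₂ : IsPCompl p H₂) : Nat.card H₁ = Nat.card H₂ := by
  obtain ⟨c₁, a, ha⟩ := h₁
  obtain ⟨c₂, b, hb⟩ := h₂
  have e₁ := H₁.card_mul_index
  have e₂ := H₂.card_mul_index
  rw [ha] at e₁
  rw [hb] at e₂
  apply Nat.dvd_antisymm
  · have : Nat.card H₁ ∣ Nat.card H₂ * p ^ b := by rw [e₂, ← e₁]; exact dvd_mul_right _ _
    exact Nat.Coprime.dvd_of_dvd_mul_right (Nat.Coprime.pow_right b c₁) this
  · have : Nat.card H₂ ∣ Nat.card H₁ * p ^ a := by rw [e₁, ← e₂]; exact dvd_mul_right _ _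
    exact Nat.Coprime.dvd_of_dvd_mul_right (Nat.Coprime.pow_right a c₂) this

/-- **Hall p'-subgroups of p-solvable groups**: existence. -/
theorem exists_isPCompl {G : Type u} [Group G] [Finite G] (p : ℕ) [Fact p.Prime]
    (h : Cfsg.IsPSolvable p G) : ∃ H : Subgroup G, IsPCompl p H :=
  (pcompl_aux p _ G rfl h).1

/-- **Hall p'-subgroups of p-solvable groups**: dominance. -/
theorem exists_conj_le_of_isPCompl {G : Type u} [Group G] [Finite G] (p : ℕ) [Fact p.Prime]
    (h : Cfsg.IsPSolvable p G) {U H : Subgroup G} (hU : (Nat.card U).Coprime p)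
    (hH : IsPCompl p H) : ∃ g : G, MulAut.conj g • U ≤ H :=
  (pcompl_aux p _ G rfl h).2 U H hU hH

/-- **Hall p'-subgroups of p-solvable groups**: conjugacy. -/
theorem exists_conj_eq_of_isPCompl {G : Type u} [Group G] [Finite G] (p : ℕ) [Fact p.Prime]
    (h : Cfsg.IsPSolvable p G) {H₁ H₂ : Subgroup G} (h₁ : IsPCompl p H₁) (h₂ : IsPCompl p H₂) :
    ∃ g : G, MulAut.conj g • H₁ = H₂ := by
  obtain ⟨g, hg⟩ := exists_conj_le_of_isPCompl p h h₁.1 h₂
  refine ⟨g, ?_⟩
  apply Subgroup.eq_of_le_of_card_ge hg
  rw [card_conj_smul', card_eq_of_isPCompl h₁ h₂]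

end Cfsg.Agent.Lib.Helper25
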