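import Cfsg.Agent.Lib.Helper25.A5Pres

/-!
# The group `⟨x, y | x³ = y⁵ = (xy)² = 1⟩` has at most 60 elements, and is `A₅`.
-/

namespace Cfsg.Agent.Lib.Helper25.A5Pres

variable {Γ : Type*} [Group Γ]

theorem exists_coset_form (x y : Γ) (hx3 : x ^ 3 = 1) (hy5 : y ^ 5 = 1) (hxy2 : (x * y) ^ 2 = 1)
    (hgen : Subgroup.closure ({x, y} : Set Γ) = ⊤) (g : Γ) :
    ∃ (c : Fin 12) (k : ℕ), g = y ^ k * tau x y c := by
  have hx : x * x * x = 1 := by rw [← hx3]; simp [pow_succ]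
  have hy : y * y * y * y * y = 1 := by rw [← hy5]; simp [pow_succ]
  have hxy : x * y * x * y = 1 := by rw [← hxy2]; simp [pow_succ, mul_assoc]
  have hstep := step x y hx hy hxy
  have hg : g ∈ Subgroup.closure ({x, y} : Set Γ) := by rw [hgen]; trivial
  have mulx : ∀ g : Γ, (∃ (c : Fin 12) (k : ℕ), g = y ^ k * tau x y c) →
      ∃ (c : Fin 12) (k : ℕ), g * x = y ^ k * tau x y c := by
    rintro g ⟨c, k, rfl⟩
    obtain ⟨c', k', h⟩ := (hstep c).1
    exact ⟨c', k + k', by rw [mul_assoc, h, ← mul_assoc, ← pow_add]⟩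
  have muly : ∀ g : Γ, (∃ (c : Fin 12) (k : ℕ), g = y ^ k * tau x y c) →
      ∃ (c : Fin 12) (k : ℕ), g * y = y ^ k * tau x y c := by
    rintro g ⟨c, k, rfl⟩
    obtain ⟨c', k', h⟩ := (hstep c).2
    exact ⟨c', k + k', by rw [mul_assoc, h, ← mul_assoc, ← pow_add]⟩
  have hxinv : x⁻¹ = x * x := by
    rw [inv_eq_iff_mul_eq_one, ← mul_assoc]; exact hx
  have hyinv : y⁻¹ = y * y * y * y := by
    rw [inv_eq_iff_mul_eq_one]
    simpa [mul_assoc] using hy
  induction hg using Subgroup.closure_induction_right with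
  | one => exact ⟨0, 0, by simp [tau]⟩
  | mul_right g _ s hs ih =>
    rcases hs with rfl | rfl
    · exact mulx g ih
    · exact muly g ih
  | mul_inv_cancel g _ s hs ih =>
    rcases hs with rfl | rfl
    · rw [hxinv, ← mul_assoc]
      exact mulx _ (mulx g ih)
    · rw [hyinv, ← mul_assoc, ← mul_assoc, ← mul_assoc]
      exact muly _ (muly _ (muly _ (muly g ih)))

theorem card_le_sixty (x y : Γ) (hx3 : x ^ 3 = 1) (hy5 : y ^ 5 = 1) (hxy2 : (x * y) ^ 2 = 1)
    (hgen : Subgroup.closure ({x, y} : Set Γ) = ⊤) : Finite Γ ∧ Nat.card Γ ≤ 60 := by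
  let f : Fin 12 × Fin 5 → Γ := fun p => y ^ (p.2 : ℕ) * tau x y p.1
  have hf : Function.Surjective f := by
    intro g
    obtain ⟨c, k, rfl⟩ := exists_coset_form x y hx3 hy5 hxy2 hgen g
    refine ⟨(c, ⟨k % 5, Nat.mod_lt _ (by norm_num)⟩), ?_⟩
    show y ^ (k % 5) * tau x y c = y ^ k * tau x y c
    rw [← pow_eq_pow_mod k hy5]
  haveI : Finite Γ := Finite.of_surjective f hf
  refine ⟨inferInstance, ?_⟩
  have := Nat.card_le_card_of_surjective f hf
  simpa using this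

/-- a 3-cycle and a 5-cycle of `A₅` with product of order 2 -/
def pX : Equiv.Perm (Fin 5) := c[2, 3, 4]
/-- see `pX` -/
def pY : Equiv.Perm (Fin 5) := c[0, 2, 4, 1, 3]
set_option maxRecDepth 100000 in
theorem pX_mem : pX ∈ alternatingGroup (Fin 5) := by
  rw [Equiv.Perm.mem_alternatingGroup]; decide
set_option maxRecDepth 100000 in
theorem pY_mem : pY ∈ alternatingGroup (Fin 5) := by
  rw [Equiv.Perm.mem_alternatingGroup]; decide
set_option maxRecDepth 100000 in
theorem pX3 : pX ^ 3 = 1 := by decide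
set_option maxRecDepth 100000 in
theorem pY5 : pY ^ 5 = 1 := by decide
set_option maxRecDepth 100000 in
theorem pXY2 : (pX * pY) ^ 2 = 1 := by decide
theorem pX1 : pX ≠ 1 := by decide
theorem pY1 : pY ≠ 1 := by decide
theorem pXY1 : pX * pY ≠ 1 := by decide

end Cfsg.Agent.Lib.Helper25.A5Pres
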