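import Cfsg.Agent.Lib.Helper25.MaxTS
import Cfsg.Agent.Lib.Helper25.SpinAll

set_option autoImplicit false

/-!
# `Ω` preserves the two families of maximal totally singular subspaces (general quadratic space)

For a quadratic space `(V, Q)` of dimension `2m` with nondegenerate polar form and a totally singular
subspace `M` of dimension `m`, the map `g ↦ (-1)^(m - dim (M ∩ gM))` is a homomorphism from the
isometry group to `{±1}`; hence it is trivial on the commutator subgroup.
-/

namespace Cfsg.Agent.Lib.Helper25.Fam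

open Module QuadraticMap Cfsg.Agent.Lib.Helper25.MaxTS

section general

variable {F V : Type*} [Field F] [AddCommGroup V] [Module F V] (Q : QuadraticForm F V)

theorem ts_map {g : V ≃ₗ[F] V} (hg : ∀ x, Q (g x) = Q x) {U : Submodule F V} (hU : TS Q U) :
    TS Q (U.map (g : V →ₗ[F] V)) := by
  rintro _ ⟨u, hu, rfl⟩
  show Q (g u) = 0
  rw [hg]
  exact hU u hu

theorem finrank_map_equiv (g : V ≃ₗ[F] V) (U : Submodule F V) :
    finrank F (U.map (g : V →ₗ[F] V)) = finrank F U :=
  LinearEquiv.finrank_map_eq g U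

theorem map_inf_equiv (g : V ≃ₗ[F] V) (U W : Submodule F V) :
    (U ⊓ W).map (g : V →ₗ[F] V) = U.map (g : V →ₗ[F] V) ⊓ W.map (g : V →ₗ[F] V) :=
  Submodule.map_inf _ g.injective

theorem map_mul_equiv (g h : V ≃ₗ[F] V) (U : Submodule F V) :
    U.map ((g * h : V ≃ₗ[F] V) : V →ₗ[F] V) = (U.map (h : V →ₗ[F] V)).map (g : V →ₗ[F] V) := by
  ext x
  constructor
  · rintro ⟨u, hu, rfl⟩
    exact ⟨h u, ⟨u, hu, rfl⟩, rfl⟩
  · rintro ⟨_, ⟨u, hu, rfl⟩, rfl⟩
    exact ⟨u, hu, rfl⟩

/-- A linear equivalence mapping a finite-dimensional subspace into itself maps it onto itself. -/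
theorem map_eq_of_le [FiniteDimensional F V] (g : V ≃ₗ[F] V) {W : Submodule F V}
    (h : ∀ v ∈ W, g v ∈ W) : W.map (g : V →ₗ[F] V) = W := by
  apply Submodule.eq_of_le_of_finrank_eq
  · rintro _ ⟨v, hv, rfl⟩
    exact h v hv
  · exact finrank_map_equiv g W

theorem mem_iff_of_map_eq (g : V ≃ₗ[F] V) {W : Submodule F V}
    (h : W.map (g : V →ₗ[F] V) = W) (v : V) : v ∈ W ↔ g v ∈ W := by
  constructor
  · intro hv
    rw [← h]
    exact ⟨v, hv, rfl⟩
  · intro hv
    rw [← h] at hv
    obtain ⟨u, hu, hgu⟩ := hv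
    have : u = v := g.injective hgu
    rw [← this]
    exact hu

variable [FiniteDimensional F V]

/-- The parity cocycle. -/
theorem parity_mul (hQ : (polarBilin Q).Nondegenerate) {m : ℕ} (hdim : finrank F V = m + m)
    {M : Submodule F V} (hM : TS Q M) (hMm : finrank F M = m) {g h : V ≃ₗ[F] V}
    (hg : ∀ x, Q (g x) = Q x) (hh : ∀ x, Q (h x) = Q x) :
    Even ((m - finrank F (M ⊓ M.map (g : V →ₗ[F] V) : Submodule F V)) +
      (m - finrank F (M ⊓ M.map (h : V →ₗ[F] V) : Submodule F V)) +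
      (m - finrank F (M ⊓ M.map ((g * h : V ≃ₗ[F] V) : V →ₗ[F] V) : Submodule F V))) := by
  have hgM : TS Q (M.map (g : V →ₗ[F] V)) := ts_map Q hg hM
  have hghM : TS Q (M.map ((g * h : V ≃ₗ[F] V) : V →ₗ[F] V)) := by
    apply ts_map Q _ hM
    intro x
    rw [LinearEquiv.mul_apply, hg, hh]
  have h1 := parity hQ hdim hM hMm hgM (by rw [finrank_map_equiv, hMm]) hghM
    (by rw [finrank_map_equiv, hMm])
  have e : (M.map (g : V →ₗ[F] V) ⊓ M.map ((g * h : V ≃ₗ[F] V) : V →ₗ[F] V) : Submodule F V) =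
      (M ⊓ M.map (h : V →ₗ[F] V)).map (g : V →ₗ[F] V) := by
    rw [map_inf_equiv, map_mul_equiv]
  rw [e, finrank_map_equiv] at h1
  exact h1

/-- Every totally singular subspace of dimension `m - 1` lies in one of dimension `m`, provided
some totally singular subspace of dimension `m` exists. -/
theorem exists_ext (hQ : (polarBilin Q).Nondegenerate) {m : ℕ} (hdim : finrank F V = m + m)
    {U Y : Submodule F V} (hU : TS Q U) (hUm : finrank F U = m) (hY : TS Q Y)
    (hYm : finrank F Y + 1 = m) :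
    ∃ M : Submodule F V, TS Q M ∧ finrank F M = m ∧ Y ≤ M := by
  have h1 := Submodule.finrank_sup_add_finrank_inf_eq U (perp Q Y)
  have h2 : U ⊔ perp Q Y ≤ perp Q (U ⊓ Y) := by
    apply sup_le
    · exact hU.le_perp.trans (perp_anti inf_le_left)
    · exact perp_anti inf_le_right
  have h3 := Submodule.finrank_mono h2
  rw [finrank_perp hQ] at h3
  rw [finrank_perp hQ, hUm, hdim] at h1
  have h4 : finrank F (U ⊓ Y : Submodule F V) ≤ finrank F Y := Submodule.finrank_mono inf_le_right
  have h5 : finrank F (U ⊓ Y : Submodule F V) < finrank F (U ⊓ perp Q Y : Submodule F V) := by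
    rw [hdim] at h3
    omega
  have h6 : ¬ (U ⊓ perp Q Y ≤ Y) := by
    intro hle
    have : U ⊓ perp Q Y ≤ U ⊓ Y := le_inf inf_le_left hle
    have := Submodule.finrank_mono this
    omega
  obtain ⟨u, hu, huY⟩ := SetLike.not_le_iff_exists.1 h6
  refine ⟨Y ⊔ Submodule.span F {u}, hY.sup_span (hU u hu.1) hu.2, ?_, le_sup_left⟩
  rw [finrank_sup_span huY, hYm]

/-- The product `r_a r_{a+s}` for `Q a = 1`, `s` singular and orthogonal to `a`. -/
theorem refl_pair_apply {a s : V} (ha : Q a = 1) (hs : Q s = 0) (has : polar Q a s = 0) (x : V) :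
    CD.reflE Q a (CD.reflE Q (a + s) x) =
      x + polar Q s x • a - (polar Q a x + polar Q s x) • s := by
  have hb : Q (a + s) = 1 := by
    rw [Q_add, ha, hs, has]
    ring
  rw [CD.reflE_apply Q (a + s), hb, CD.reflE_apply, ha]
  simp only [polar_sub_right, polar_smul_right, polar_add_left, polar_add_right,
    MaxTS.polar_self, smul_eq_mul, ha, hs, has, polar_comm Q s a]
  module

/-- A subspace of dimension at least two contains a nonzero vector orthogonal to a given vector. -/
theorem exists_perp_in (hQ : (polarBilin Q).Nondegenerate) {U : Submodule F V}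
    (hU : 2 ≤ finrank F U) (f : V) : ∃ x ∈ U, x ≠ 0 ∧ polar Q f x = 0 := by
  by_cases hf : f = 0
  · have hpos : 0 < finrank F U := by omega
    obtain ⟨x, hx⟩ : ∃ x : U, x ≠ 0 := Module.finrank_pos_iff_exists_ne_zero.1 hpos
    refine ⟨x, x.2, fun h => hx (Subtype.ext h), ?_⟩
    rw [hf]
    simp
  · have h1 := Submodule.finrank_sup_add_finrank_inf_eq U (perp Q (Submodule.span F {f}))
    have h2 : finrank F (perp Q (Submodule.span F {f})) = finrank F V - 1 := by
      rw [finrank_perp hQ, finrank_span_singleton hf]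
    have h3 : finrank F (U ⊔ perp Q (Submodule.span F {f}) : Submodule F V) ≤ finrank F V :=
      Submodule.finrank_le _
    have h5 : finrank F U ≤ finrank F V := Submodule.finrank_le _
    have h4 : 0 < finrank F (U ⊓ perp Q (Submodule.span F {f}) : Submodule F V) := by omega
    obtain ⟨x, hx⟩ := Module.finrank_pos_iff_exists_ne_zero.1 h4
    exact ⟨x, x.2.1, fun h => hx (Subtype.ext h), mem_perp_span.1 x.2.2⟩

/-- The dimension of the part of a subspace orthogonal to a given vector drops by at most one. -/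
theorem finrank_inf_perp_ge (hQ : (polarBilin Q).Nondegenerate) (U : Submodule F V) (f : V) :
    finrank F U ≤ finrank F (U ⊓ perp Q (Submodule.span F {f}) : Submodule F V) + 1 := by
  by_cases hf : f = 0
  · have : perp Q (Submodule.span F {f}) = ⊤ := by
      rw [eq_top_iff]
      intro x _
      rw [mem_perp_span, hf]
      simp
    rw [this, inf_top_eq]
    omega
  · have h1 := Submodule.finrank_sup_add_finrank_inf_eq U (perp Q (Submodule.span F {f}))
    have h2 : finrank F (perp Q (Submodule.span F {f})) = finrank F V - 1 := by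
      rw [finrank_perp hQ, finrank_span_singleton hf]
    have h3 : finrank F (U ⊔ perp Q (Submodule.span F {f}) : Submodule F V) ≤ finrank F V :=
      Submodule.finrank_le _
    have h5 : finrank F U ≤ finrank F V := Submodule.finrank_le _
    omega

omit [FiniteDimensional F V] in
/-- A singular partner of a singular vector. -/
theorem exists_sing_partner (hQ : (polarBilin Q).Nondegenerate) {x₀ : V} (hx₀ : x₀ ≠ 0)
    (hQx : Q x₀ = 0) : ∃ f : V, Q f = 0 ∧ polar Q x₀ f = 1 := by
  obtain ⟨y, hy⟩ : ∃ y, polar Q x₀ y ≠ 0 := by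
    by_contra hcon
    push Not at hcon
    exact hx₀ (hQ.1 x₀ hcon)
  obtain ⟨y', hy'⟩ : ∃ y', y' = (polar Q x₀ y)⁻¹ • y := ⟨_, rfl⟩
  have h1 : polar Q x₀ y' = 1 := by
    rw [hy', polar_smul_right, smul_eq_mul, inv_mul_cancel₀ hy]
  refine ⟨y' - Q y' • x₀, ?_, ?_⟩
  · rw [sub_eq_add_neg, ← neg_smul, Q_add_smul, hQx, polar_comm Q y' x₀, h1]
    ring
  · rw [polar_sub_right, polar_smul_right, MaxTS.polar_self, hQx, h1]
    simp

omit [FiniteDimensional F V] in
/-- A singular partner of a singular vector inside the orthogonal complement of a hyperbolic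
pair. -/
theorem exists_sing_partner_perp (hQ : (polarBilin Q).Nondegenerate) {x₀ f e₁ : V}
    (hQx : Q x₀ = 0) (hQf : Q f = 0) (hxf : polar Q x₀ f = 1) (he₁ : e₁ ≠ 0) (hQe : Q e₁ = 0)
    (hxe : polar Q x₀ e₁ = 0) (hfe : polar Q f e₁ = 0) :
    ∃ f₁ : V, Q f₁ = 0 ∧ polar Q e₁ f₁ = 1 ∧ polar Q x₀ f₁ = 0 ∧ polar Q f f₁ = 0 := by
  obtain ⟨y, hy⟩ : ∃ y, polar Q e₁ y ≠ 0 := by
    by_contra hcon
    push Not at hcon
    exact he₁ (hQ.1 e₁ hcon)
  obtain ⟨y1, hy1⟩ : ∃ y1, y1 = y - polar Q f y • x₀ - polar Q x₀ y • f := ⟨_, rfl⟩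
  have h1 : polar Q x₀ y1 = 0 := by
    rw [hy1, polar_sub_right, polar_sub_right, polar_smul_right, polar_smul_right,
      MaxTS.polar_self, hQx, hxf]
    simp
  have h2 : polar Q f y1 = 0 := by
    rw [hy1, polar_sub_right, polar_sub_right, polar_smul_right, polar_smul_right,
      MaxTS.polar_self, hQf, polar_comm Q f x₀, hxf]
    simp
  have h3 : polar Q e₁ y1 = polar Q e₁ y := by
    rw [hy1, polar_sub_right, polar_sub_right, polar_smul_right, polar_smul_right,
      polar_comm Q e₁ x₀, hxe, polar_comm Q e₁ f, hfe]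
    simp
  obtain ⟨y2, hy2⟩ : ∃ y2, y2 = (polar Q e₁ y)⁻¹ • y1 := ⟨_, rfl⟩
  have h4 : polar Q e₁ y2 = 1 := by
    rw [hy2, polar_smul_right, h3, smul_eq_mul, inv_mul_cancel₀ hy]
  have h5 : polar Q x₀ y2 = 0 := by
    rw [hy2, polar_smul_right, h1, smul_zero]
  have h6 : polar Q f y2 = 0 := by
    rw [hy2, polar_smul_right, h2, smul_zero]
  refine ⟨y2 - Q y2 • e₁, ?_, ?_, ?_, ?_⟩
  · rw [sub_eq_add_neg, ← neg_smul, Q_add_smul, hQe, polar_comm Q y2 e₁, h4]
    ring
  · rw [polar_sub_right, polar_smul_right, MaxTS.polar_self, hQe, h4]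
    simp
  · rw [polar_sub_right, polar_smul_right, h5, hxe]
    simp
  · rw [polar_sub_right, polar_smul_right, h6, hfe]
    simp

end general

section matrix

open Cfsg.Agent.Lib.Helper25.Spin

variable {ι : Type} [Fintype ι] [DecidableEq ι] {F : Type*} [Field F]
  (Q : QuadraticForm F (ι → F))

/-- The family sign homomorphism attached to a maximal totally singular subspace. -/
noncomputable def famHom (hQ : (polarBilin Q).Nondegenerate) {m : ℕ}
    (hdim : finrank F (ι → F) = m + m) {M : Submodule F (ι → F)} (hM : TS Q M)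
    (hMm : finrank F M = m) : ↥(Cfsg.isometryGroup F ⇑Q) →* ℤˣ where
  toFun g := (-1) ^ (m - finrank F
    (M ⊓ M.map ((CD.toOG Q g : (ι → F) ≃ₗ[F] (ι → F)) : (ι → F) →ₗ[F] (ι → F)) :
      Submodule F (ι → F)))
  map_one' := by
    have e : M.map (((1 : (ι → F) ≃ₗ[F] (ι → F))) : (ι → F) →ₗ[F] (ι → F)) = M := by
      ext x
      constructor
      · rintro ⟨u, hu, rfl⟩
        exact hu
      · intro hx
        exact ⟨x, hx, rfl⟩
    rw [map_one, e, inf_idem, hMm, Nat.sub_self, pow_zero]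
  map_mul' g h := by
    have h1 := parity_mul Q hQ hdim hM hMm (CD.toOG_mem_OG Q g) (CD.toOG_mem_OG Q h)
    rw [← map_mul] at h1
    have e : ((-1 : ℤˣ)) ^ _ = 1 := h1.neg_one_pow
    rw [pow_add, pow_add, mul_eq_one_iff_eq_inv, Int.units_inv_eq_self] at e
    exact e.symm

theorem famHom_apply (hQ : (polarBilin Q).Nondegenerate) {m : ℕ}
    (hdim : finrank F (ι → F) = m + m) {M : Submodule F (ι → F)} (hM : TS Q M)
    (hMm : finrank F M = m) (g : ↥(Cfsg.isometryGroup F ⇑Q)) :
    famHom Q hQ hdim hM hMm g = (-1) ^ (m - finrank F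
      (M ⊓ M.map ((CD.toOG Q g : (ι → F) ≃ₗ[F] (ι → F)) : (ι → F) →ₗ[F] (ι → F)) :
        Submodule F (ι → F))) := rfl

/-- Elements of `Ω` preserve the family of every maximal totally singular subspace. -/
theorem even_of_mem_omega (hQ : (polarBilin Q).Nondegenerate) {m : ℕ}
    (hdim : finrank F (ι → F) = m + m) {M : Submodule F (ι → F)} (hM : TS Q M)
    (hMm : finrank F M = m) {g : ↥(Cfsg.isometryGroup F ⇑Q)} (hg : g ∈ Cfsg.Omega F ⇑Q) :
    Even (m - finrank F
      (M ⊓ M.map ((CD.toOG Q g : (ι → F) ≃ₗ[F] (ι → F)) : (ι → F) →ₗ[F] (ι → F)) :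
        Submodule F (ι → F))) := by
  have h1 : famHom Q hQ hdim hM hMm g = 1 :=
    Abelianization.commutator_subset_ker (famHom Q hQ hdim hM hMm) hg
  rw [famHom_apply] at h1
  by_contra hodd
  rw [Nat.not_even_iff_odd] at hodd
  rw [hodd.neg_one_pow] at h1
  exact absurd h1 (by decide)

/-- The element `r_a r_{a+s}`. -/
noncomputable def pairG (a s : ι → F) : ↥(Cfsg.isometryGroup F ⇑Q) :=
  CD.reflM Q a * CD.reflM Q (a + s)

theorem toOG_pairG_apply {a s : ι → F} (ha : Q a = 1) (hs : Q s = 0) (has : polar Q a s = 0)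
    (x : ι → F) :
    CD.toOG Q (pairG Q a s) x = x + polar Q s x • a - (polar Q a x + polar Q s x) • s := by
  unfold pairG
  rw [map_mul, CD.toOG_reflM, CD.toOG_reflM, LinearEquiv.mul_apply, refl_pair_apply Q ha hs has]

theorem pairG_mem_omega [Fintype F] (hQ : (polarBilin Q).Nondegenerate)
    (hex : Fintype.card F ≠ 2 ∨ Fintype.card ι ≠ 4) {a s : ι → F} (ha : Q a = 1) (hs : Q s = 0)
    (has : polar Q a s = 0) : pairG Q a s ∈ Cfsg.Omega F ⇑Q := by
  have hb : Q (a + s) = 1 := by
    rw [Q_add, ha, hs, has]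
    ring
  have e : pairG Q a s = wordG Q [a, a + s] := by
    rw [wordG_cons, wordG_singleton]
    rfl
  rw [e, mem_omega_iff' Q hQ hex]
  · refine ⟨⟨1, rfl⟩, ?_⟩
    rw [normProd_cons, normProd_cons, normProd_nil, ha, hb]
    exact ⟨1, by ring⟩
  · intro v hv
    simp only [List.mem_cons, List.not_mem_nil, or_false] at hv
    rcases hv with rfl | rfl
    · rw [ha]; exact one_ne_zero
    · rw [hb]; exact one_ne_zero

end matrix

end Cfsg.Agent.Lib.Helper25.Fam
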