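import Cfsg.Agent.Lib.Helper15.QuadClass
import Cfsg.Agent.Lib.Helper25.OmegaFam

set_option autoImplicit false

/-!
# Geometry of finite quadratic spaces: existence lemmas

General existence results (all characteristics) used for the simplicity of `PΩ`.
-/

namespace Cfsg.Agent.Lib.Helper25.OGeom

open Module QuadraticMap Cfsg.Agent.Lib.Helper15 Cfsg.Agent.Lib.Helper25.MaxTS
  Cfsg.Agent.Lib.Helper25.Fam

variable {F V : Type*} [Field F] [AddCommGroup V] [Module F V] (Q : QuadraticForm F V)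

theorem polar_self0 {e : V} (he : Q e = 0) : polar Q e e = 0 := by
  rw [MaxTS.polar_self, he, mul_zero]

/-- A nondegenerate subspace of dimension at least two represents every scalar. -/
theorem universal [Finite F] [FiniteDimensional F V] {W : Submodule F V} (hW : NdOn Q W)
    (h2 : 2 ≤ finrank F W) (c : F) : ∃ x ∈ W, Q x = c := by
  by_cases hs : ∃ e ∈ W, e ≠ 0 ∧ Q e = 0
  · obtain ⟨e, heW, he0, hQe⟩ := hs
    obtain ⟨f, hfW, hQf, hef⟩ := exists_hyp_partner Q W hW heW he0 hQe
    refine ⟨e + c • f, W.add_mem heW (W.smul_mem _ hfW), ?_⟩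
    rw [Q_add_smul, hQe, hQf, hef]
    ring
  · push Not at hs
    have h3 : ¬ 3 ≤ finrank F W := by
      intro h3
      obtain ⟨e, heW, he0, hQe⟩ := exists_singular_in Q W h3
      exact hs e heW he0 hQe
    have h2' : finrank F W = 2 := by omega
    exact exists_represents Q W h2' (fun w hw hQw => by
      by_contra hw0
      exact hs w hw hw0 hQw) c

/-- Inside a nondegenerate subspace `W₀`, a totally singular subspace `L` of dimension at most `k`
is orthogonal to a nondegenerate subspace of codimension at most `2k` in `W₀`. -/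
theorem exists_nd_perp [FiniteDimensional F V] :
    ∀ (k : ℕ) (W₀ L : Submodule F V), NdOn Q W₀ → L ≤ W₀ → TS Q L → finrank F L ≤ k →
      ∃ W : Submodule F V, W ≤ W₀ ∧ NdOn Q W ∧ W ≤ perp Q L ∧
        finrank F W₀ ≤ finrank F W + 2 * k := by
  intro k
  induction k with
  | zero =>
    intro W₀ L hW₀ hL hTS hk
    refine ⟨W₀, le_rfl, hW₀, ?_, by omega⟩
    have hL0 : L = ⊥ := Submodule.finrank_eq_zero.1 (by omega)
    rw [hL0]
    intro x _
    rw [mem_perp]
    intro u hu
    rw [(Submodule.mem_bot F).1 hu]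
    simp
  | succ k ih =>
    intro W₀ L hW₀ hL hTS hk
    by_cases hL0 : L = ⊥
    · refine ⟨W₀, le_rfl, hW₀, ?_, by omega⟩
      rw [hL0]
      intro x _
      rw [mem_perp]
      intro u hu
      rw [(Submodule.mem_bot F).1 hu]
      simp
    obtain ⟨e, heL, he0⟩ := Submodule.exists_mem_ne_zero_of_ne_bot hL0
    have hQe : Q e = 0 := hTS e heL
    obtain ⟨f, hfW, hQf, hef⟩ := exists_hyp_partner Q W₀ hW₀ (hL heL) he0 hQe
    obtain ⟨W₁, hW₁⟩ : ∃ W₁, W₁ = perpPair Q W₀ e f := ⟨_, rfl⟩
    have hW₁nd : NdOn Q W₁ := by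
      rw [hW₁]
      exact perpPair_nd Q W₀ hW₀ (hL heL) hfW hQe hQf hef
    have hW₁fr : finrank F W₁ + 2 = finrank F W₀ := by
      rw [hW₁]
      exact perpPair_finrank Q W₀ (hL heL) hfW hQe hQf hef
    obtain ⟨L₁, hL₁⟩ : ∃ L₁, L₁ = L ⊓ perp Q (Submodule.span F {f}) := ⟨_, rfl⟩
    have hL₁L : L₁ ≤ L := by rw [hL₁]; exact inf_le_left
    have hL₁W₁ : L₁ ≤ W₁ := by
      intro x hx
      rw [hL₁] at hx
      obtain ⟨hxL, hxf⟩ := Submodule.mem_inf.1 hx
      rw [hW₁, mem_perpPair]
      exact ⟨hL hxL, hTS.polar_eq_zero heL hxL, mem_perp_span.1 hxf⟩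
    have hL₁TS : TS Q L₁ := hTS.mono hL₁L
    have hlt : L₁ < L := by
      refine lt_of_le_of_ne hL₁L ?_
      intro heq
      have he1 : e ∈ L₁ := by rw [heq]; exact heL
      rw [hL₁] at he1
      have := mem_perp_span.1 (Submodule.mem_inf.1 he1).2
      rw [polar_comm, hef] at this
      exact one_ne_zero this
    have hfr : finrank F L₁ ≤ k := by
      have := Submodule.finrank_lt_finrank_of_lt hlt
      omega
    obtain ⟨W, hWW₁, hWnd, hWperp, hWfr⟩ := ih W₁ L₁ hW₁nd hL₁W₁ hL₁TS hfr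
    have hW₁W₀ : W₁ ≤ W₀ := by rw [hW₁]; exact perpPair_le Q W₀ e f
    refine ⟨W, hWW₁.trans hW₁W₀, hWnd, ?_, by omega⟩
    intro x hx
    rw [mem_perp]
    intro l hl
    have hxW₁ := hWW₁ hx
    rw [hW₁, mem_perpPair] at hxW₁
    obtain ⟨_, hex, hfx⟩ := hxW₁
    have hl₁ : l - polar Q f l • e ∈ L₁ := by
      rw [hL₁]
      refine Submodule.mem_inf.2 ⟨L.sub_mem hl (L.smul_mem _ heL), ?_⟩
      rw [mem_perp_span, polar_sub_right, polar_smul_right, polar_comm Q f e, hef]
      simp
    have h1 := (mem_perp.1 (hWperp hx)) _ hl₁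
    rw [polar_sub_left, polar_smul_left, hex] at h1
    simpa using h1

theorem ts_span_pair {u v : V} (hu : Q u = 0) (hv : Q v = 0) (huv : polar Q u v = 0) :
    TS Q (Submodule.span F ({u, v} : Set V)) := by
  intro x hx
  obtain ⟨a, b, rfl⟩ := Submodule.mem_span_pair.1 hx
  rw [Q_add, QuadraticMap.map_smul, QuadraticMap.map_smul, hu, hv, polar_smul_left,
    polar_smul_right, huv]
  simp

theorem finrank_span_pair_le [FiniteDimensional F V] (u v : V) :
    finrank F (Submodule.span F ({u, v} : Set V)) ≤ 2 := by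
  classical
  have h := finrank_span_finset_le_card (R := F) ({u, v} : Finset V)
  have h2 : ({u, v} : Finset V).card ≤ 2 := Finset.card_le_two
  have e : ((({u, v} : Finset V) : Set V)) = ({u, v} : Set V) := by simp
  rw [e] at h
  exact h.trans h2

/-- A hyperbolic pair orthogonal to two given orthogonal singular vectors. -/
theorem exists_hyp_perp [Finite F] [FiniteDimensional F V] (hQ : (polarBilin Q).Nondegenerate)
    (hn : 7 ≤ finrank F V) {u v : V} (hu : Q u = 0) (hv : Q v = 0) (huv : polar Q u v = 0) :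
    ∃ w w' : V, Q w = 0 ∧ Q w' = 0 ∧ polar Q w w' = 1 ∧ polar Q u w = 0 ∧ polar Q v w = 0 ∧
      polar Q u w' = 0 ∧ polar Q v w' = 0 := by
  obtain ⟨W, -, hWnd, hWperp, hWfr⟩ := exists_nd_perp Q 2 ⊤ (Submodule.span F ({u, v} : Set V))
    (ndOn_top Q hQ) le_top (ts_span_pair Q hu hv huv) (finrank_span_pair_le u v)
  rw [finrank_top] at hWfr
  have h3 : 3 ≤ finrank F W := by omega
  obtain ⟨e, heW, he0, hQe⟩ := exists_singular_in Q W h3
  obtain ⟨f, hfW, hQf, hef⟩ := exists_hyp_partner Q W hWnd heW he0 hQe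
  have hu' : u ∈ Submodule.span F ({u, v} : Set V) := Submodule.subset_span (by simp)
  have hv' : v ∈ Submodule.span F ({u, v} : Set V) := Submodule.subset_span (by simp)
  exact ⟨e, f, hQe, hQf, hef, mem_perp.1 (hWperp heW) u hu', mem_perp.1 (hWperp heW) v hv',
    mem_perp.1 (hWperp hfW) u hu', mem_perp.1 (hWperp hfW) v hv'⟩

/-- In a nondegenerate subspace of dimension at least three, every nonzero vector is
non-orthogonal to some singular vector. -/
theorem exists_sing_not_perp [Finite F] [FiniteDimensional F V] {W : Submodule F V}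
    (hW : NdOn Q W) (h3 : 3 ≤ finrank F W) {a : V} (ha : a ∈ W) (ha0 : a ≠ 0) :
    ∃ z ∈ W, Q z = 0 ∧ polar Q a z ≠ 0 := by
  obtain ⟨e, heW, he0, hQe⟩ := exists_singular_in Q W h3
  obtain ⟨f, hfW, hQf, hef⟩ := exists_hyp_partner Q W hW heW he0 hQe
  by_cases h1 : polar Q a e = 0
  swap
  · exact ⟨e, heW, hQe, h1⟩
  by_cases h2 : polar Q a f = 0
  swap
  · exact ⟨f, hfW, hQf, h2⟩
  obtain ⟨y, hyW, hay⟩ : ∃ y ∈ W, polar Q a y ≠ 0 := by
    by_contra hcon
    push Not at hcon
    exact ha0 (hW a ha hcon)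
  obtain ⟨y', hy'⟩ : ∃ y', y' = y - polar Q y f • e - polar Q y e • f := ⟨_, rfl⟩
  have hy'W : y' ∈ W := by
    rw [hy']
    exact W.sub_mem (W.sub_mem hyW (W.smul_mem _ heW)) (W.smul_mem _ hfW)
  have hy'e : polar Q y' e = 0 := by
    rw [hy', polar_sub_left, polar_sub_left, polar_smul_left, polar_smul_left, polar_self0 Q hQe,
      polar_comm Q f e, hef]
    simp
  have hy'f : polar Q y' f = 0 := by
    rw [hy', polar_sub_left, polar_sub_left, polar_smul_left, polar_smul_left, polar_self0 Q hQf,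
      hef]
    simp
  have hay' : polar Q a y' = polar Q a y := by
    rw [hy', polar_sub_right, polar_sub_right, polar_smul_right, polar_smul_right, h1, h2]
    simp
  refine ⟨y' - Q y' • e + f, W.add_mem (W.sub_mem hy'W (W.smul_mem _ heW)) hfW, ?_, ?_⟩
  · have e1 : y' - Q y' • e + f = (y' + (-Q y') • e) + (1 : F) • f := by module
    rw [e1, Q_add_smul, Q_add_smul, hQe, hQf, polar_add_left, polar_smul_left, hy'e, hy'f, hef]
    simp
  · rw [polar_add_right, polar_sub_right, polar_smul_right, h1, h2, hay']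
    simpa using hay

/-- Every scalar is represented in the orthogonal complement of two singular vectors. -/
theorem exists_value_perp [Finite F] [FiniteDimensional F V] (hQ : (polarBilin Q).Nondegenerate)
    (hn : 6 ≤ finrank F V) {u w : V} (hu : Q u = 0) (hw : Q w = 0) (c : F) :
    ∃ x, Q x = c ∧ polar Q u x = 0 ∧ polar Q w x = 0 := by
  by_cases h : polar Q u w = 0
  · obtain ⟨W, -, hWnd, hWperp, hWfr⟩ := exists_nd_perp Q 2 ⊤ (Submodule.span F ({u, w} : Set V))
      (ndOn_top Q hQ) le_top (ts_span_pair Q hu hw h) (finrank_span_pair_le u w)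
    rw [finrank_top] at hWfr
    obtain ⟨x, hxW, hQx⟩ := universal Q hWnd (by omega) c
    have hu' : u ∈ Submodule.span F ({u, w} : Set V) := Submodule.subset_span (by simp)
    have hw' : w ∈ Submodule.span F ({u, w} : Set V) := Submodule.subset_span (by simp)
    exact ⟨x, hQx, mem_perp.1 (hWperp hxW) u hu', mem_perp.1 (hWperp hxW) w hw'⟩
  · obtain ⟨w', hw'⟩ : ∃ w', w' = (polar Q u w)⁻¹ • w := ⟨_, rfl⟩
    have hQw' : Q w' = 0 := by rw [hw', QuadraticMap.map_smul, hw, smul_zero]
    have huw' : polar Q u w' = 1 := by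
      rw [hw', polar_smul_right, smul_eq_mul, inv_mul_cancel₀ h]
    have hnd := perpPair_nd Q ⊤ (ndOn_top Q hQ) (e := u) (f := w') Submodule.mem_top
      Submodule.mem_top hu hQw' huw'
    have hfr := perpPair_finrank Q ⊤ (e := u) (f := w') Submodule.mem_top Submodule.mem_top hu
      hQw' huw'
    rw [finrank_top] at hfr
    obtain ⟨x, hxW, hQx⟩ := universal Q hnd (by omega) c
    rw [mem_perpPair] at hxW
    refine ⟨x, hQx, hxW.2.1, ?_⟩
    have e : w = polar Q u w • w' := by
      rw [hw', smul_smul, mul_inv_cancel₀ h, one_smul]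
    rw [e, polar_smul_left, hxW.2.2, smul_zero]

/-- A nonzero singular vector orthogonal to a hyperbolic pair. -/
theorem exists_sing_perp_pair [Finite F] [FiniteDimensional F V]
    (hQ : (polarBilin Q).Nondegenerate) (hn : 5 ≤ finrank F V) {u s : V} (hu : Q u = 0)
    (hs : Q s = 0) (hus : polar Q u s ≠ 0) :
    ∃ z, z ≠ 0 ∧ Q z = 0 ∧ polar Q u z = 0 ∧ polar Q s z = 0 := by
  obtain ⟨s', hs'⟩ : ∃ s', s' = (polar Q u s)⁻¹ • s := ⟨_, rfl⟩
  have hQs' : Q s' = 0 := by rw [hs', QuadraticMap.map_smul, hs, smul_zero]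
  have hus' : polar Q u s' = 1 := by
    rw [hs', polar_smul_right, smul_eq_mul, inv_mul_cancel₀ hus]
  have hfr := perpPair_finrank Q ⊤ (e := u) (f := s') Submodule.mem_top Submodule.mem_top hu
    hQs' hus'
  rw [finrank_top] at hfr
  obtain ⟨z, hzW, hz0, hQz⟩ := exists_singular_in Q (perpPair Q ⊤ u s') (by omega)
  rw [mem_perpPair] at hzW
  refine ⟨z, hz0, hQz, hzW.2.1, ?_⟩
  have e : s = polar Q u s • s' := by
    rw [hs', smul_smul, mul_inv_cancel₀ hus, one_smul]
  rw [e, polar_smul_left, hzW.2.2, smul_zero]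

/-- A singular vector non-orthogonal to two given orthogonal singular vectors. -/
theorem exists_sing_nonperp_pair (hQ : (polarBilin Q).Nondegenerate) {u s : V} (hu0 : u ≠ 0)
    (hs0 : s ≠ 0) (hu : Q u = 0) (hs : Q s = 0) (hus : polar Q u s = 0) :
    ∃ z, Q z = 0 ∧ polar Q z u ≠ 0 ∧ polar Q z s ≠ 0 := by
  obtain ⟨u', hQu', huu'⟩ := exists_sing_partner Q hQ hu0 hu
  by_cases h1 : polar Q u' s = 0
  swap
  · exact ⟨u', hQu', by rw [polar_comm, huu']; exact one_ne_zero, h1⟩
  obtain ⟨s', hQs', hss'⟩ := exists_sing_partner Q hQ hs0 hs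
  by_cases h2 : polar Q s' u = 0
  swap
  · exact ⟨s', hQs', h2, by rw [polar_comm, hss']; exact one_ne_zero⟩
  refine ⟨u' + s' + (-polar Q u' s') • u, ?_, ?_, ?_⟩
  · rw [Q_add_smul, Q_add, hQu', hQs', hu, polar_add_left, polar_comm Q u' u, huu', h2]
    ring
  · rw [polar_add_left, polar_add_left, polar_smul_left, polar_comm Q u' u, huu', h2,
      polar_self0 Q hu]
    simp
  · rw [polar_add_left, polar_add_left, polar_smul_left, h1, polar_comm Q s' s, hss', hus]
    simp

/-- The singular vectors span the space. -/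
theorem span_singular_eq_top [Finite F] [FiniteDimensional F V]
    (hQ : (polarBilin Q).Nondegenerate) (h3 : 3 ≤ finrank F V) :
    Submodule.span F {x : V | Q x = 0} = ⊤ := by
  obtain ⟨e, he0, hQe⟩ := exists_singular_of_three_le Q h3
  obtain ⟨f, hQf, hef⟩ := exists_sing_partner Q hQ he0 hQe
  rw [eq_top_iff]
  intro x _
  obtain ⟨y, hy⟩ : ∃ y, y = x - polar Q x f • e - polar Q x e • f := ⟨_, rfl⟩
  have hye : polar Q y e = 0 := by
    rw [hy, polar_sub_left, polar_sub_left, polar_smul_left, polar_smul_left, polar_self0 Q hQe,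
      polar_comm Q f e, hef]
    simp
  have hyf : polar Q y f = 0 := by
    rw [hy, polar_sub_left, polar_sub_left, polar_smul_left, polar_smul_left, polar_self0 Q hQf,
      hef]
    simp
  have hz : Q (y - Q y • e + f) = 0 := by
    have e1 : y - Q y • e + f = (y + (-Q y) • e) + (1 : F) • f := by module
    rw [e1, Q_add_smul, Q_add_smul, hQe, hQf, polar_add_left, polar_smul_left, hye, hyf, hef]
    simp
  have hx : x = (y - Q y • e + f) + (Q y + polar Q x f) • e + (polar Q x e - 1) • f := by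
    rw [hy]
    module
  rw [hx]
  exact add_mem (add_mem (Submodule.subset_span hz)
    (Submodule.smul_mem _ _ (Submodule.subset_span hQe)))
    (Submodule.smul_mem _ _ (Submodule.subset_span hQf))

end Cfsg.Agent.Lib.Helper25.OGeom
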