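import Cfsg.Agent.Lib.Helper25.Siegel2

set_option autoImplicit false

/-!
# The action of the orthogonal group on singular points
-/

namespace Cfsg.Agent.Lib.Helper25.PS

open Module QuadraticMap Matrix Cfsg.Agent.Lib.Helper25.CD Cfsg.Agent.Lib.Helper25.Spin
  Cfsg.Agent.Lib.Helper25.MaxTS Cfsg.Agent.Lib.Helper25.Fam Cfsg.Agent.Lib.Helper25.Siegel

open scoped Pointwise

section basic

variable {ι : Type} [Fintype ι] [DecidableEq ι] {F : Type*} [Field F]
  (Q : QuadraticForm F (ι → F))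

/-- The singular points of the quadratic space. -/
def SPt : Type _ := {P : Submodule F (ι → F) // finrank F P = 1 ∧ TS Q P}

/-- The linear map of an isometry. -/
noncomputable abbrev lm (g : ↥(Cfsg.isometryGroup F ⇑Q)) : (ι → F) →ₗ[F] (ι → F) :=
  ((toOG Q g : (ι → F) ≃ₗ[F] (ι → F)) : (ι → F) →ₗ[F] (ι → F))

theorem lm_apply (g : ↥(Cfsg.isometryGroup F ⇑Q)) (x : ι → F) : lm Q g x = toOG Q g x := rfl

theorem Q_toOG (g : ↥(Cfsg.isometryGroup F ⇑Q)) (x : ι → F) : Q (toOG Q g x) = Q x :=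
  toOG_mem_OG Q g x

theorem polar_toOG (g : ↥(Cfsg.isometryGroup F ⇑Q)) (x y : ι → F) :
    polar Q (toOG Q g x) (toOG Q g y) = polar Q x y :=
  polar_of_iso Q (toOG_mem_OG Q g) x y

noncomputable instance : MulAction ↥(Cfsg.isometryGroup F ⇑Q) (SPt Q) where
  smul g P := ⟨P.1.map (lm Q g), by rw [finrank_map_equiv]; exact P.2.1,
    ts_map Q (toOG_mem_OG Q g) P.2.2⟩
  one_smul P := by
    apply Subtype.ext
    show P.1.map (lm Q 1) = P.1
    ext x
    constructor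
    · rintro ⟨y, hy, rfl⟩
      rw [lm_apply, map_one]
      exact hy
    · intro hx
      refine ⟨x, hx, ?_⟩
      rw [lm_apply, map_one]
      rfl
  mul_smul g h P := by
    apply Subtype.ext
    show P.1.map (lm Q (g * h)) = (P.1.map (lm Q h)).map (lm Q g)
    unfold lm
    rw [map_mul]
    exact map_mul_equiv _ _ _

theorem smul_val (g : ↥(Cfsg.isometryGroup F ⇑Q)) (P : SPt Q) : (g • P).1 = P.1.map (lm Q g) := rfl

/-- The point spanned by a nonzero singular vector. -/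
def mk' (u : ι → F) (hu0 : u ≠ 0) (hu : Q u = 0) : SPt Q :=
  ⟨Submodule.span F {u}, finrank_span_singleton hu0, by
    intro x hx
    obtain ⟨a, rfl⟩ := Submodule.mem_span_singleton.1 hx
    rw [QuadraticMap.map_smul, hu, smul_zero]⟩

theorem mk'_val (u : ι → F) (hu0 : u ≠ 0) (hu : Q u = 0) :
    (mk' Q u hu0 hu).1 = Submodule.span F {u} := rfl

theorem exists_rep (P : SPt Q) : ∃ (u : ι → F) (hu0 : u ≠ 0) (hu : Q u = 0), P = mk' Q u hu0 hu := by
  obtain ⟨v, hv0, hv⟩ := finrank_eq_one_iff'.1 P.2.1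
  refine ⟨v.1, fun h => hv0 (Subtype.ext h), P.2.2 v.1 v.2, ?_⟩
  apply Subtype.ext
  rw [mk'_val]
  apply le_antisymm
  · intro x hx
    obtain ⟨c, hc⟩ := hv ⟨x, hx⟩
    rw [Submodule.mem_span_singleton]
    exact ⟨c, congrArg Subtype.val hc⟩
  · rw [Submodule.span_singleton_le_iff_mem]
    exact v.2

theorem smul_mk' (g : ↥(Cfsg.isometryGroup F ⇑Q)) (u : ι → F) (hu0 : u ≠ 0) (hu : Q u = 0) :
    g • mk' Q u hu0 hu = mk' Q (toOG Q g u)
      (fun h => hu0 ((toOG Q g).injective (by rw [h, map_zero]))) (by rw [Q_toOG, hu]) := by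
  apply Subtype.ext
  rw [smul_val, mk'_val, mk'_val, Submodule.map_span, Set.image_singleton]
  rfl

theorem mk'_eq_of_smul {u w : ι → F} (hu0 : u ≠ 0) (hu : Q u = 0) (hw0 : w ≠ 0) (hw : Q w = 0)
    {t : F} (h : w = t • u) : mk' Q w hw0 hw = mk' Q u hu0 hu := by
  have ht : t ≠ 0 := by
    rintro rfl
    rw [zero_smul] at h
    exact hw0 h
  apply Subtype.ext
  rw [mk'_val, mk'_val, h]
  exact Submodule.span_singleton_smul_eq (IsUnit.mk0 t ht) u

theorem exists_smul_of_mk'_eq {u w : ι → F} (hu0 : u ≠ 0) (hu : Q u = 0) (hw0 : w ≠ 0)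
    (hw : Q w = 0) (h : mk' Q w hw0 hw = mk' Q u hu0 hu) : ∃ t : F, w = t • u := by
  have h1 : w ∈ (mk' Q u hu0 hu).1 := by
    rw [← h, mk'_val]
    exact Submodule.mem_span_singleton_self w
  rw [mk'_val] at h1
  obtain ⟨t, ht⟩ := Submodule.mem_span_singleton.1 h1
  exact ⟨t, ht.symm⟩

/-- Orthogonality of points. -/
def ort (P R : SPt Q) : Prop := ∀ x ∈ P.1, ∀ y ∈ R.1, polar Q x y = 0

theorem ort_mk' {u w : ι → F} (hu0 : u ≠ 0) (hu : Q u = 0) (hw0 : w ≠ 0) (hw : Q w = 0) :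
    ort Q (mk' Q u hu0 hu) (mk' Q w hw0 hw) ↔ polar Q u w = 0 := by
  constructor
  · intro h
    exact h u (Submodule.mem_span_singleton_self u) w (Submodule.mem_span_singleton_self w)
  · intro h x hx y hy
    obtain ⟨a, rfl⟩ := Submodule.mem_span_singleton.1 hx
    obtain ⟨b, rfl⟩ := Submodule.mem_span_singleton.1 hy
    rw [polar_smul_left, polar_smul_right, h]
    simp

theorem ort_comm {P R : SPt Q} : ort Q P R ↔ ort Q R P := by
  constructor
  · intro h x hx y hy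
    rw [polar_comm]
    exact h y hy x hx
  · intro h x hx y hy
    rw [polar_comm]
    exact h y hy x hx

theorem ort_self (P : SPt Q) : ort Q P P := fun _ hx _ hy => P.2.2.polar_eq_zero hx hy

end basic

section trans

variable {ι : Type} [Fintype ι] [DecidableEq ι] {F : Type*} [Field F] [Fintype F]
  (Q : QuadraticForm F (ι → F))

/-- `Ω` is transitive on the singular points. -/
theorem omega_pretransitive (hQ : (polarBilin Q).Nondegenerate) (hn : 5 ≤ Fintype.card ι) :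
    MulAction.IsPretransitive ↥(Cfsg.Omega F ⇑Q) (SPt Q) := by
  constructor
  intro P P'
  obtain ⟨g, hgΩ, hg⟩ := omega_trans_ts Q hQ (Or.inr (by omega)) (k := 1) (by omega) P.2.1 P'.2.1
    P.2.2 P'.2.2
  exact ⟨⟨g, hgΩ⟩, Subtype.ext hg⟩

/-- Witt's theorem for pairs of singular vectors, realised inside `Ω` up to scalars. -/
theorem exists_omega_pair (hQ : (polarBilin Q).Nondegenerate) (hn : 6 ≤ Fintype.card ι)
    {u w w' : ι → F} (hu : Q u = 0) (hw : Q w = 0) (hw' : Q w' = 0)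
    (hi : LinearIndependent F ![u, w]) (hi' : LinearIndependent F ![u, w'])
    (hp : polar Q u w = polar Q u w') :
    ∃ g : ↥(Cfsg.isometryGroup F ⇑Q), g ∈ Cfsg.Omega F ⇑Q ∧ (∃ t : F, toOG Q g u = t • u) ∧
      (∃ t : F, toOG Q g w = t • w') := by
  have hfr : 6 ≤ finrank F (ι → F) := by
    rw [Module.finrank_fintype_fun_eq_card]
    exact hn
  obtain ⟨ρ, hρQ, hρ⟩ := Cfsg.Agent.S0750.S0750aux.witt_tuple Q hQ 2 ![u, w] ![u, w'] hi hi'
    (by
      intro a
      fin_cases a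
      · rfl
      · show Q w = Q w'
        rw [hw, hw'])
    (by
      intro a b
      fin_cases a <;> fin_cases b
      · rfl
      · exact hp
      · show polar Q w u = polar Q w' u
        rw [polar_comm Q w u, polar_comm Q w' u]
        exact hp
      · show polar Q w w = polar Q w' w'
        rw [polar_self'', polar_self'', hw, hw'])
  have hρu : ρ u = u := hρ 0
  have hρw : ρ w = w' := hρ 1
  have hρOG : ρ ∈ OG Q := hρQ
  obtain ⟨x, hQx, hux, hwx⟩ := OGeom.exists_value_perp Q hQ hfr hu hw' 1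
  obtain ⟨A, hA⟩ : ∃ A, A = stabSub Q (Submodule.span F {u}) ⊓ stabSub Q (Submodule.span F {w'}) :=
    ⟨_, rfl⟩
  have hxA : ∀ y, polar Q u y = 0 → polar Q w' y = 0 → reflM Q y ∈ A := by
    intro y h1 h2
    rw [hA]
    exact Subgroup.mem_inf.2 ⟨refl_mem_stab Q (Or.inr (mem_perp_span.2 h1)),
      refl_mem_stab Q (Or.inr (mem_perp_span.2 h2))⟩
  have hA1 : wordG Q [x] ∈ A := by
    rw [wordG_singleton]
    exact hxA x hux hwx
  have hB : (2 : F) ≠ 0 → ∃ bs : List (ι → F), (∀ v ∈ bs, Q v ≠ 0) ∧ wordG Q bs ∈ A ∧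
      Even bs.length ∧ ¬ IsSquare (normProd Q bs) := by
    intro h2
    obtain ⟨ν, hν⟩ := FiniteField.exists_nonsquare (ringChar_ne_two h2)
    have hν0 : ν ≠ 0 := by
      rintro rfl
      exact hν ⟨0, by simp⟩
    obtain ⟨y, hQy, huy, hwy⟩ := OGeom.exists_value_perp Q hQ hfr hu hw' ν
    refine ⟨[x, y], ?_, ?_, ⟨1, rfl⟩, ?_⟩
    · intro v hv
      simp only [List.mem_cons, List.not_mem_nil, or_false] at hv
      rcases hv with rfl | rfl
      · rw [hQx]; exact one_ne_zero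
      · rw [hQy]; exact hν0
    · rw [wordG_cons, wordG_singleton]
      exact mul_mem (hxA x hux hwx) (hxA y huy hwy)
    · rw [normProd_cons, normProd_cons, normProd_nil, hQx, hQy]
      simpa using hν
  obtain ⟨h, hhA, hhΩ⟩ := exists_adjust Q hQ (Or.inr (by omega)) A (as := [x])
    (by
      intro v hv
      rw [List.mem_singleton] at hv
      rw [hv, hQx]
      exact one_ne_zero) hA1 ⟨0, rfl⟩ hB (ofOG Q ρ hρOG)
  rw [hA] at hhA
  obtain ⟨hh1, hh2⟩ := Subgroup.mem_inf.1 hhA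
  have hfix : ∀ z : ι → F, h ∈ stabSub Q (Submodule.span F {z}) → ∃ t : F, toOG Q h z = t • z := by
    intro z hz
    have h1 := (mem_stabSub Q).1 hz
    have h2 : toOG Q h z ∈ (Submodule.span F {z}).map
        ((toOG Q h : (ι → F) ≃ₗ[F] (ι → F)) : (ι → F) →ₗ[F] (ι → F)) :=
      ⟨z, Submodule.mem_span_singleton_self z, rfl⟩
    rw [h1] at h2
    obtain ⟨t, ht⟩ := Submodule.mem_span_singleton.1 h2
    exact ⟨t, ht.symm⟩
  refine ⟨h * ofOG Q ρ hρOG, hhΩ, ?_, ?_⟩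
  · rw [map_mul, LinearEquiv.mul_apply, toOG_ofOG, hρu]
    exact hfix u hh1
  · rw [map_mul, LinearEquiv.mul_apply, toOG_ofOG, hρw]
    exact hfix w' hh2

theorem indep_of_ne {u z : ι → F} (hu0 : u ≠ 0) (hu : Q u = 0) (hz0 : z ≠ 0) (hz : Q z = 0)
    (hne : mk' Q u hu0 hu ≠ mk' Q z hz0 hz) : LinearIndependent F ![u, z] := by
  rw [LinearIndependent.pair_iff]
  intro s t hst
  by_cases ht : t = 0
  · subst ht
    rw [zero_smul, add_zero] at hst
    exact ⟨(smul_eq_zero.1 hst).resolve_right hu0, rfl⟩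
  · exfalso
    apply hne
    symm
    apply mk'_eq_of_smul Q hu0 hu hz0 hz (t := -(s / t))
    have h1 : t • z = -(s • u) := eq_neg_of_add_eq_zero_right hst
    have h2 : z = t⁻¹ • (t • z) := by rw [smul_smul, inv_mul_cancel₀ ht, one_smul]
    rw [h2, h1]
    match_scalars
    field_simp

theorem trans_pair_aux (hQ : (polarBilin Q).Nondegenerate) (hn : 6 ≤ Fintype.card ι)
    {u w w' : ι → F} (hu0 : u ≠ 0) (hu : Q u = 0) (hw0 : w ≠ 0) (hw : Q w = 0) (hw'0 : w' ≠ 0)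
    (hw' : Q w' = 0) (hne : mk' Q u hu0 hu ≠ mk' Q w hw0 hw)
    (hne' : mk' Q u hu0 hu ≠ mk' Q w' hw'0 hw') (hp : polar Q u w = polar Q u w') :
    ∃ g : ↥(Cfsg.Omega F ⇑Q), g • mk' Q u hu0 hu = mk' Q u hu0 hu ∧
      g • mk' Q w hw0 hw = mk' Q w' hw'0 hw' := by
  obtain ⟨g, hgΩ, ⟨t, ht⟩, ⟨t', ht'⟩⟩ := exists_omega_pair Q hQ hn hu hw hw'
    (indep_of_ne Q hu0 hu hw0 hw hne) (indep_of_ne Q hu0 hu hw'0 hw' hne') hp
  refine ⟨⟨g, hgΩ⟩, ?_, ?_⟩
  · show g • mk' Q u hu0 hu = mk' Q u hu0 hu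
    rw [smul_mk']
    exact mk'_eq_of_smul Q _ _ _ _ ht
  · show g • mk' Q w hw0 hw = mk' Q w' hw'0 hw'
    rw [smul_mk']
    exact mk'_eq_of_smul Q _ _ _ _ ht'

/-- The stabiliser of a point in `Ω` is transitive on the other points orthogonal to it, and on the
points not orthogonal to it. -/
theorem trans_pair (hQ : (polarBilin Q).Nondegenerate) (hn : 6 ≤ Fintype.card ι)
    {P R R' : SPt Q} (hPR : P ≠ R) (hPR' : P ≠ R') (h : ort Q P R ↔ ort Q P R') :
    ∃ g : ↥(Cfsg.Omega F ⇑Q), g • P = P ∧ g • R = R' := by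
  obtain ⟨u, hu0, hu, rfl⟩ := exists_rep Q P
  obtain ⟨w, hw0, hw, rfl⟩ := exists_rep Q R
  obtain ⟨w', hw'0, hw', rfl⟩ := exists_rep Q R'
  rw [ort_mk', ort_mk'] at h
  by_cases hp : polar Q u w = 0
  · exact trans_pair_aux Q hQ hn hu0 hu hw0 hw hw'0 hw' hPR hPR' (hp.trans (h.1 hp).symm)
  · have hp' : polar Q u w' ≠ 0 := fun h0 => hp (h.2 h0)
    obtain ⟨w₁, hw₁⟩ : ∃ w₁, w₁ = (polar Q u w)⁻¹ • w := ⟨_, rfl⟩
    obtain ⟨w₂, hw₂⟩ : ∃ w₂, w₂ = (polar Q u w')⁻¹ • w' := ⟨_, rfl⟩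
    have hw₁0 : w₁ ≠ 0 := by
      rw [hw₁]
      exact smul_ne_zero (inv_ne_zero hp) hw0
    have hw₂0 : w₂ ≠ 0 := by
      rw [hw₂]
      exact smul_ne_zero (inv_ne_zero hp') hw'0
    have hQw₁ : Q w₁ = 0 := by rw [hw₁, QuadraticMap.map_smul, hw, smul_zero]
    have hQw₂ : Q w₂ = 0 := by rw [hw₂, QuadraticMap.map_smul, hw', smul_zero]
    have e₁ : mk' Q w₁ hw₁0 hQw₁ = mk' Q w hw0 hw := mk'_eq_of_smul Q _ _ _ _ hw₁
    have e₂ : mk' Q w₂ hw₂0 hQw₂ = mk' Q w' hw'0 hw' := mk'_eq_of_smul Q _ _ _ _ hw₂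
    have hpp : polar Q u w₁ = polar Q u w₂ := by
      rw [hw₁, hw₂, polar_smul_right, polar_smul_right, smul_eq_mul, smul_eq_mul,
        inv_mul_cancel₀ hp, inv_mul_cancel₀ hp']
    obtain ⟨g, hg1, hg2⟩ := trans_pair_aux Q hQ hn hu0 hu hw₁0 hQw₁ hw₂0 hQw₂
      (by rw [e₁]; exact hPR) (by rw [e₂]; exact hPR') hpp
    rw [e₁, e₂] at hg2
    exact ⟨g, hg1, hg2⟩

/-- `Ω` acts primitively on the singular points. -/
theorem omega_preprimitive (hQ : (polarBilin Q).Nondegenerate) (hn : 6 ≤ Fintype.card ι) :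
    MulAction.IsPreprimitive ↥(Cfsg.Omega F ⇑Q) (SPt Q) := by
  haveI := omega_pretransitive Q hQ (by omega)
  have hfr : 6 ≤ finrank F (ι → F) := by
    rw [Module.finrank_fintype_fun_eq_card]
    exact hn
  refine ⟨?_⟩
  intro B hB
  by_cases hsub : B.Subsingleton
  · exact Or.inl hsub
  right
  rw [Set.not_subsingleton_iff] at hsub
  obtain ⟨P, hP, R, hR, hPR⟩ := hsub
  have step : ∀ P R S : SPt Q, P ∈ B → R ∈ B → P ≠ R → P ≠ S → (ort Q P R ↔ ort Q P S) →
      S ∈ B := by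
    intro P R S hP hR hPR hPS h
    obtain ⟨g, hgP, hgR⟩ := trans_pair Q hQ hn hPR hPS h
    have hgB : g • B = B := hB.smul_eq_of_mem hP (by rw [hgP]; exact hP)
    rw [← hgB, ← hgR]
    exact Set.smul_mem_smul_set hR
  rw [Set.eq_univ_iff_forall]
  intro S
  by_cases hPS : P = S
  · rw [← hPS]; exact hP
  by_cases h : (ort Q P R ↔ ort Q P S)
  · exact step P R S hP hR hPR hPS h
  obtain ⟨R', hPR', h1, hR'S, h2⟩ : ∃ R' : SPt Q, P ≠ R' ∧ (ort Q P R ↔ ort Q P R') ∧ R' ≠ S ∧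
      (ort Q R' P ↔ ort Q R' S) := by
    obtain ⟨u, hu0, hu, rfl⟩ := exists_rep Q P
    obtain ⟨s, hs0, hs, rfl⟩ := exists_rep Q S
    by_cases hPRo : ort Q (mk' Q u hu0 hu) R
    · have hnPS : ¬ ort Q (mk' Q u hu0 hu) (mk' Q s hs0 hs) := fun h' =>
        h ⟨fun _ => h', fun _ => hPRo⟩
      have hus : polar Q u s ≠ 0 := fun h' => hnPS ((ort_mk' Q hu0 hu hs0 hs).2 h')
      obtain ⟨z, hz0, hQz, huz, hsz⟩ := OGeom.exists_sing_perp_pair Q hQ (by omega) hu hs hus
      have hPz : ort Q (mk' Q u hu0 hu) (mk' Q z hz0 hQz) := (ort_mk' Q hu0 hu hz0 hQz).2 huz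
      have hzS : ort Q (mk' Q z hz0 hQz) (mk' Q s hs0 hs) :=
        (ort_mk' Q hz0 hQz hs0 hs).2 (by rw [polar_comm]; exact hsz)
      refine ⟨mk' Q z hz0 hQz, ?_, ⟨fun _ => hPz, fun _ => hPRo⟩, ?_,
        ⟨fun _ => hzS, fun _ => (ort_comm Q).1 hPz⟩⟩
      · intro heq
        apply hnPS
        rw [heq]
        exact hzS
      · intro heq
        apply hnPS
        rw [← heq]
        exact hPz
    · have hPSo : ort Q (mk' Q u hu0 hu) (mk' Q s hs0 hs) := by
        by_contra h'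
        exact h ⟨fun h'' => absurd h'' hPRo, fun h'' => absurd h'' h'⟩
      have hus : polar Q u s = 0 := (ort_mk' Q hu0 hu hs0 hs).1 hPSo
      obtain ⟨z, hQz, hzu, hzs⟩ := OGeom.exists_sing_nonperp_pair Q hQ hu0 hs0 hu hs hus
      have hz0 : z ≠ 0 := by
        rintro rfl
        apply hzu
        simp
      have hnzP : ¬ ort Q (mk' Q z hz0 hQz) (mk' Q u hu0 hu) := fun h' =>
        hzu ((ort_mk' Q hz0 hQz hu0 hu).1 h')
      have hnzS : ¬ ort Q (mk' Q z hz0 hQz) (mk' Q s hs0 hs) := fun h' =>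
        hzs ((ort_mk' Q hz0 hQz hs0 hs).1 h')
      refine ⟨mk' Q z hz0 hQz, ?_, ⟨fun h' => absurd h' hPRo, fun h' =>
        absurd ((ort_comm Q).1 h') hnzP⟩, ?_, ⟨fun h' => absurd h' hnzP, fun h' => absurd h' hnzS⟩⟩
      · intro heq
        apply hnzP
        rw [← heq]
        exact ort_self Q _
      · intro heq
        apply hnzS
        rw [heq]
        exact ort_self Q _
  have hR' : R' ∈ B := step P R R' hP hR hPR hPR' h1
  exact step R' P S hR' hP (Ne.symm hPR') hR'S h2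

end trans

section kernel

variable {ι : Type} [Fintype ι] [DecidableEq ι] {F : Type*} [Field F] [Fintype F]
  (Q : QuadraticForm F (ι → F))

theorem eigen_dep (g : ↥(Cfsg.isometryGroup F ⇑Q)) {u w : ι → F} (hw0 : w ≠ 0) {a t t' : F}
    (hw : w = a • u) (hgu : toOG Q g u = t • u) (hgw : toOG Q g w = t' • w) : t = t' := by
  have h1 : toOG Q g w = t • w := by
    rw [hw, map_smul, hgu, smul_smul, smul_smul, mul_comm]
  rw [hgw] at h1
  have h2 : (t' - t) • w = 0 := by rw [sub_smul, h1, sub_self]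
  have h3 := (smul_eq_zero.1 h2).resolve_right hw0
  exact (sub_eq_zero.1 h3).symm

theorem eigen_ort (g : ↥(Cfsg.isometryGroup F ⇑Q)) (hfix : ∀ P : SPt Q, g • P = P)
    {u w : ι → F} (hu0 : u ≠ 0) (hw0 : w ≠ 0) (hu : Q u = 0) (hw : Q w = 0)
    (huw : polar Q u w = 0) {t t' : F} (hgu : toOG Q g u = t • u) (hgw : toOG Q g w = t' • w) :
    t = t' := by
  by_cases hind : LinearIndependent F ![u, w]
  · have hz0 : u + w ≠ 0 := by
      intro h
      have := (LinearIndependent.pair_iff.1 hind) 1 1 (by rw [one_smul, one_smul]; exact h)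
      exact one_ne_zero this.1
    have hQz : Q (u + w) = 0 := by
      rw [MaxTS.Q_add, hu, hw, huw]
      ring
    have h1 := hfix (mk' Q (u + w) hz0 hQz)
    rw [smul_mk'] at h1
    obtain ⟨t'', ht''⟩ := exists_smul_of_mk'_eq Q _ _ _ _ h1
    rw [map_add, hgu, hgw] at ht''
    have h2 : (t - t'') • u + (t' - t'') • w = 0 := by
      rw [sub_smul, sub_smul]
      have : t'' • (u + w) = t'' • u + t'' • w := smul_add _ _ _
      rw [this] at ht''
      linear_combination (exp := 1) ht''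
    have h3 := (LinearIndependent.pair_iff.1 hind) _ _ h2
    rw [sub_eq_zero] at h3
    rw [sub_eq_zero] at h3
    rw [h3.1, h3.2]
  · rw [LinearIndependent.pair_iff' hu0] at hind
    push Not at hind
    obtain ⟨a, ha⟩ := hind
    exact eigen_dep Q g hw0 ha.symm hgu hgw

/-- An isometry fixing every singular point is a scalar. -/
theorem scalar_of_fix_all (hQ : (polarBilin Q).Nondegenerate) (hn : 5 ≤ Fintype.card ι)
    (g : ↥(Cfsg.isometryGroup F ⇑Q)) (hfix : ∀ P : SPt Q, g • P = P) :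
    ∃ c : F, ∀ x, toOG Q g x = c • x := by
  have hfr : 5 ≤ finrank F (ι → F) := by
    rw [Module.finrank_fintype_fun_eq_card]
    exact hn
  have heig : ∀ u : ι → F, u ≠ 0 → Q u = 0 → ∃ t : F, toOG Q g u = t • u := by
    intro u hu0 hu
    have h1 := hfix (mk' Q u hu0 hu)
    rw [smul_mk'] at h1
    exact exists_smul_of_mk'_eq Q _ _ _ _ h1
  have hconst : ∀ u w : ι → F, u ≠ 0 → w ≠ 0 → Q u = 0 → Q w = 0 → ∀ t t' : F,
      toOG Q g u = t • u → toOG Q g w = t' • w → t = t' := by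
    intro u w hu0 hw0 hu hw t t' hgu hgw
    by_cases huw : polar Q u w = 0
    · exact eigen_ort Q g hfix hu0 hw0 hu hw huw hgu hgw
    · obtain ⟨z, hz0, hQz, huz, hwz⟩ := OGeom.exists_sing_perp_pair Q hQ hfr hu hw huw
      obtain ⟨tz, htz⟩ := heig z hz0 hQz
      rw [eigen_ort Q g hfix hu0 hz0 hu hQz huz hgu htz]
      exact eigen_ort Q g hfix hz0 hw0 hQz hw (by rw [polar_comm]; exact hwz) htz hgw
  obtain ⟨u₀, hu₀0, hQu₀⟩ := Cfsg.Agent.Lib.Helper15.exists_singular_of_three_le Q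
    (show 3 ≤ finrank F (ι → F) by omega)
  obtain ⟨c, hc⟩ := heig u₀ hu₀0 hQu₀
  refine ⟨c, ?_⟩
  have hsing : ∀ x : ι → F, Q x = 0 → toOG Q g x = c • x := by
    intro x hx
    by_cases hx0 : x = 0
    · rw [hx0, map_zero, smul_zero]
    · obtain ⟨t, ht⟩ := heig x hx0 hx
      rw [ht, hconst u₀ x hu₀0 hx0 hQu₀ hx c t hc ht]
  have hle : Submodule.span F {x : ι → F | Q x = 0} ≤
      LinearMap.eqLocus (lm Q g) (c • (LinearMap.id : (ι → F) →ₗ[F] (ι → F))) := by
    rw [Submodule.span_le]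
    intro x hx
    rw [SetLike.mem_coe, LinearMap.mem_eqLocus]
    show toOG Q g x = c • x
    exact hsing x hx
  rw [OGeom.span_singular_eq_top Q hQ (by omega)] at hle
  intro x
  have := hle (Submodule.mem_top (x := x))
  rw [LinearMap.mem_eqLocus] at this
  exact this

/-- An element of `Ω` fixing every singular point is central in `Ω`. -/
theorem mem_center_of_fix_all (hQ : (polarBilin Q).Nondegenerate) (hn : 5 ≤ Fintype.card ι)
    (g : ↥(Cfsg.Omega F ⇑Q)) (hfix : ∀ P : SPt Q, g • P = P) :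
    g ∈ Subgroup.center ↥(Cfsg.Omega F ⇑Q) := by
  obtain ⟨c, hc⟩ := scalar_of_fix_all Q hQ hn g.1 hfix
  rw [Subgroup.mem_center_iff]
  intro h
  apply Subtype.ext
  apply toOG_injective Q
  ext1 x
  show toOG Q (h.1 * g.1) x = toOG Q (g.1 * h.1) x
  rw [map_mul, map_mul, LinearEquiv.mul_apply, LinearEquiv.mul_apply, hc, hc, map_smul]

end kernel

end Cfsg.Agent.Lib.Helper25.PS
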