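import Mathlib
import Cfsg.Agent.Lib.Helper1.PRDefs

/-!
# PRSQ (S3612, market PR): an affine subgroup of order `p (p-1)/2` containing the translation
induces every `j ↦ u j + b`, `u` a non-zero square
-/

set_option autoImplicit false

namespace Cfsg.Agent.Lib.Helper25.PRSQ

open MulAction Cfsg.Agent.Lib.Helper1.PR

/-- the subgroup of multipliers realised inside `N` -/
def mult {G Ω : Type*} [Group G] [MulAction G Ω] {p : ℕ} (e : ZMod p ≃ Ω) (N : Subgroup G) :
    Subgroup (ZMod p)ˣ where
  carrier := {u | ∃ n ∈ N, ∀ j : ZMod p, n • e j = e ((u : ZMod p) * j)}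
  mul_mem' := by
    rintro u v ⟨n, hn, hnu⟩ ⟨m, hm, hmv⟩
    refine ⟨n * m, N.mul_mem hn hm, fun j => ?_⟩
    rw [mul_smul, hmv, hnu, Units.val_mul, mul_assoc]
  one_mem' := ⟨1, N.one_mem, fun j => by simp⟩
  inv_mem' := by
    rintro u ⟨n, hn, hnu⟩
    refine ⟨n⁻¹, N.inv_mem hn, fun j => ?_⟩
    rw [inv_smul_eq_iff, hnu, ← mul_assoc, Units.mul_inv, one_mul]

theorem PRSQ {G Ω : Type*} [Group G] [Finite G] [MulAction G Ω] [FaithfulSMul G Ω] {p : ℕ}
    [Fact p.Prime] (hp2 : p ≠ 2) (e : ZMod p ≃ Ω) (x : G)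
    (hx : ∀ j : ZMod p, x • e j = e (j + 1)) (N : Subgroup G) (hxN : x ∈ N)
    (hNaff : ∀ n ∈ N, ∃ u b : ZMod p, ∀ j : ZMod p, n • e j = e (u * j + b))
    (hNcard : 2 * Nat.card N = p * (p - 1)) : Coord G e := by
  classical
  have hp : p.Prime := Fact.out
  haveI : NeZero p := ⟨hp.ne_zero⟩
  -- powers of the translation
  have hxpow : ∀ (k : ℕ) (j : ZMod p), x ^ k • e j = e (j + k) := by
    intro k
    induction k with
    | zero => intro j; simp
    | succ k ih =>
      intro j
      rw [pow_succ, mul_smul, hx, ih]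
      congr 1
      push_cast
      ring
  have hxinv : ∀ (k : ℕ) (j : ZMod p), (x ^ k)⁻¹ • e j = e (j - k) := by
    intro k j
    rw [inv_smul_eq_iff, hxpow]
    congr 1
    ring
  -- every element of N gives a multiplier in `mult e N`
  have hmult : ∀ n ∈ N, ∀ u b : ZMod p, (∀ j : ZMod p, n • e j = e (u * j + b)) →
      ∃ hu : u ≠ 0, Units.mk0 u hu ∈ mult e N := by
    intro n hn u b hnub
    have hu : u ≠ 0 := by
      intro hu0
      have h0 := hnub 0
      have h1 := hnub 1
      rw [hu0] at h0 h1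
      have : n • e 0 = n • e 1 := by rw [h0, h1]; simp
      have := e.injective (smul_left_cancel n this)
      exact zero_ne_one this
    refine ⟨hu, (x ^ b.val)⁻¹ * n, N.mul_mem (N.inv_mem (N.pow_mem hxN _)) hn, fun j => ?_⟩
    rw [mul_smul, hnub, hxinv, ZMod.natCast_zmod_val]
    congr 1
    simp
  -- an injection N → mult × ZMod p
  have hchoose : ∀ n : N, ∃ ub : ZMod p × ZMod p, ∀ j : ZMod p, (n : G) • e j = e (ub.1 * j + ub.2) := by
    intro n
    obtain ⟨u, b, h⟩ := hNaff n n.2
    exact ⟨(u, b), h⟩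
  choose ub hub using hchoose
  let φ : N → (mult e N) × ZMod p := fun n =>
    (⟨Units.mk0 (ub n).1 (hmult n n.2 _ _ (hub n)).1, (hmult n n.2 _ _ (hub n)).2⟩, (ub n).2)
  have hφ : Function.Injective φ := by
    intro n m hnm
    have h1 : (ub n).1 = (ub m).1 := by
      have := congrArg (fun t => ((t.1 : (ZMod p)ˣ) : ZMod p)) hnm
      simpa [φ] using this
    have h2 : (ub n).2 = (ub m).2 := by
      have := congrArg (fun t => t.2) hnm
      simpa [φ] using this
    apply Subtype.ext
    apply FaithfulSMul.eq_of_smul_eq_smul (α := Ω)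
    intro ω
    obtain ⟨j, rfl⟩ := e.surjective ω
    rw [hub n, hub m, h1, h2]
  have hcard := Nat.card_le_card_of_injective φ hφ
  rw [Nat.card_prod, Nat.card_zmod] at hcard
  -- the index of `mult e N` is at most 2
  have hunits : Nat.card (ZMod p)ˣ = p - 1 := by
    rw [Nat.card_eq_fintype_card, ZMod.card_units_eq_totient, Nat.totient_prime hp]
  have hidx : Nat.card (mult e N) * (mult e N).index = p - 1 := by
    rw [Subgroup.card_mul_index, hunits]
  have hpos : 0 < Nat.card (mult e N) := Nat.card_pos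
  have hle : (mult e N).index ≤ 2 := by
    have h1 : p * (p - 1) ≤ 2 * (Nat.card (mult e N) * p) := by
      rw [← hNcard]; exact Nat.mul_le_mul_left 2 hcard
    have h2 : p - 1 ≤ 2 * Nat.card (mult e N) := by
      have hp0 : 0 < p := hp.pos
      have : p * (p - 1) ≤ p * (2 * Nat.card (mult e N)) := by
        calc p * (p - 1) ≤ 2 * (Nat.card (mult e N) * p) := h1
          _ = p * (2 * Nat.card (mult e N)) := by ring
      exact Nat.le_of_mul_le_mul_left this hp0
    rw [← hidx] at h2
    by_contra hcon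
    push Not at hcon
    have : Nat.card (mult e N) * 3 ≤ Nat.card (mult e N) * (mult e N).index :=
      Nat.mul_le_mul_left _ hcon
    omega
  -- squares lie in `mult e N`
  have hsq : ∀ v : (ZMod p)ˣ, v ^ 2 ∈ mult e N := by
    intro v
    have hne : (mult e N).index ≠ 0 := Subgroup.index_ne_zero_of_finite
    have h12 : (mult e N).index = 1 ∨ (mult e N).index = 2 := by omega
    rcases h12 with h | h
    · rw [Subgroup.index_eq_one] at h
      rw [h]; exact Subgroup.mem_top _
    · have := Subgroup.pow_index_mem (mult e N) v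
      rwa [h] at this
  intro u b hu hsqu
  obtain ⟨v, rfl⟩ := hsqu
  have hv : v ≠ 0 := by
    intro h; apply hu; rw [h]; simp
  obtain ⟨n, -, hn⟩ := hsq (Units.mk0 v hv)
  refine ⟨x ^ b.val * n, fun j => ?_⟩
  rw [mul_smul, hn, hxpow, ZMod.natCast_zmod_val]
  congr 1
  simp [pow_two]

end Cfsg.Agent.Lib.Helper25.PRSQ
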