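import Mathlib
import Cfsg.Agent.Lib.Helper1.PRDefs

/-!
# PRSYM (S3612, market PR): symmetry of the blocks of the point stabilizers
-/

set_option autoImplicit false

namespace Cfsg.Agent.Lib.Helper25.PRSYM

open MulAction Cfsg.Agent.Lib.Helper1.PR

theorem PRSYM {G Ω : Type*} [Group G] [MulAction G Ω] [Finite Ω] (hodd : Odd (Nat.card Ω))
    (h2 : TwoTrans G Ω) (h4 : FewOrbits G Ω) (a b : Ω) (B : Set Ω)
    (hB : NontrivABlock G a B) (hb : b ∈ B) : ABlock G b (insert a (B \ {b})) := by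
  classical
  obtain ⟨⟨haB, hblk⟩, ⟨y₁, hy₁, y₂, hy₂, hy₁₂⟩, z, hza, hzB⟩ := hB
  have hab : a ≠ b := fun h => haB (h ▸ hb)
  have hzb : z ≠ b := fun h => hzB (h ▸ hb)
  -- a point of B other than b
  obtain ⟨y₀, hy₀B, hy₀b⟩ : ∃ y₀ ∈ B, y₀ ≠ b := by
    by_cases h : y₁ = b
    · exact ⟨y₂, hy₂, fun h' => hy₁₂ (h.trans h'.symm)⟩
    · exact ⟨y₁, hy₁, h⟩
  have hy₀a : y₀ ≠ a := fun h => haB (h ▸ hy₀B)
  -- elements of H = G_a ∩ G_b map B into B
  have hHB : ∀ g : G, g • a = a → g • b = b → ∀ y ∈ B, g • y ∈ B := by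
    intro g hga hgb
    rcases hblk g hga with h | h
    · exact h
    · exact absurd (by rw [hgb]; exact hb) (h b hb)
  have hinvfix : ∀ g : G, ∀ c : Ω, g • c = c → g⁻¹ • c = c := by
    intro g c h; rw [inv_smul_eq_iff, h]
  -- the two H-invariant sets
  set O1 : Set Ω := B \ {b} with hO1
  set O2 : Set Ω := {w | w ≠ a ∧ w ∉ B} with hO2
  have hO1inv : ∀ g : G, g • a = a → g • b = b → ∀ y ∈ O1, g • y ∈ O1 := by
    intro g hga hgb y hy
    refine ⟨hHB g hga hgb y hy.1, ?_⟩
    intro h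
    have h' : g • y = g • b := by rw [Set.mem_singleton_iff.1 h, hgb]
    exact hy.2 (smul_left_cancel g h')
  have hO2inv : ∀ g : G, g • a = a → g • b = b → ∀ w ∈ O2, g • w ∈ O2 := by
    intro g hga hgb w hw
    refine ⟨?_, ?_⟩
    · intro h
      exact hw.1 (smul_left_cancel g (h.trans hga.symm))
    · intro h
      have := hHB g⁻¹ (hinvfix g a hga) (hinvfix g b hgb) _ h
      rw [inv_smul_smul] at this
      exact hw.2 this
  have hy₀O1 : y₀ ∈ O1 := ⟨hy₀B, hy₀b⟩
  have hzO2 : z ∈ O2 := ⟨hza, hzB⟩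
  have htr1 := h4 a b hab O1 hO1inv (fun h => haB h.1) (fun h => h.2 rfl)
    ⟨z, fun h => hzB h.1, hza, hzb⟩
  have htr2 := h4 a b hab O2 hO2inv (fun h => h.1 rfl) (fun h => h.2 hb)
    ⟨y₀, fun h => h.2 hy₀B, hy₀a, hy₀b⟩
  -- every element swapping a and b maps O1 into O1
  have hswap : ∀ s : G, s • a = b → s • b = a → ∀ y ∈ O1, s • y ∈ O1 := by
    intro s hsa hsb
    by_contra hcon
    push Not at hcon
    obtain ⟨y₃, hy₃, hsy₃⟩ := hcon
    have hsia : s⁻¹ • a = b := by rw [inv_smul_eq_iff, hsb]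
    have hsib : s⁻¹ • b = a := by rw [inv_smul_eq_iff, hsa]
    have hsy₃O2 : s • y₃ ∈ O2 := by
      refine ⟨?_, ?_⟩
      · intro h
        exact hy₃.2 (smul_left_cancel s (h.trans hsb.symm))
      · intro h
        by_cases hsb' : s • y₃ = b
        · have : y₃ = a := smul_left_cancel s (hsb'.trans hsa.symm)
          exact haB (this ▸ hy₃.1)
        · exact hsy₃ ⟨h, hsb'⟩
    have himg : (fun y => s • y) '' O1 = O2 := by
      ext w
      constructor
      · rintro ⟨y, hy, rfl⟩
        obtain ⟨g, hga, hgb, hgy⟩ := htr1 y₃ hy₃ y hy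
        have : s • y = (s * g * s⁻¹) • (s • y₃) := by
          rw [← hgy, mul_smul, mul_smul, inv_smul_smul]
        show s • y ∈ O2
        rw [this]
        apply hO2inv _ _ _ _ hsy₃O2
        · rw [mul_smul, mul_smul, hsia, hgb, hsb]
        · rw [mul_smul, mul_smul, hsib, hga, hsa]
      · intro hw
        obtain ⟨g, hga, hgb, hgw⟩ := htr2 (s • y₃) hsy₃O2 w hw
        refine ⟨(s⁻¹ * g * s) • y₃, ?_, ?_⟩
        · apply hO1inv _ _ _ _ hy₃
          · rw [mul_smul, mul_smul, hsa, hgb, hsib]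
          · rw [mul_smul, mul_smul, hsb, hga, hsia]
        · show s • (s⁻¹ * g * s) • y₃ = w
          rw [mul_smul, mul_smul, smul_inv_smul, hgw]
    have hcard : O1.ncard = O2.ncard := by
      rw [← himg]
      exact (Set.ncard_image_of_injective O1 (MulAction.injective s)).symm
    have hdisj : Disjoint O1 O2 := by
      rw [Set.disjoint_left]
      intro w hw1 hw2
      exact hw2.2 hw1.1
    have huniv : (Set.univ : Set Ω) = insert a (insert b (O1 ∪ O2)) := by
      ext w
      simp only [Set.mem_univ, Set.mem_insert_iff, Set.mem_union, true_iff]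
      by_cases hwa : w = a
      · exact Or.inl hwa
      · by_cases hwb : w = b
        · exact Or.inr (Or.inl hwb)
        · by_cases hwB : w ∈ B
          · exact Or.inr (Or.inr (Or.inl ⟨hwB, hwb⟩))
          · exact Or.inr (Or.inr (Or.inr ⟨hwa, hwB⟩))
    have hbn : b ∉ O1 ∪ O2 := by
      rintro (h | h)
      · exact h.2 rfl
      · exact h.2 hb
    have han : a ∉ insert b (O1 ∪ O2) := by
      rintro (h | h | h)
      · exact hab h
      · exact haB h.1
      · exact h.1 rfl
    have htot : Nat.card Ω = O1.ncard + O2.ncard + 1 + 1 := by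
      rw [← Set.ncard_univ, huniv, Set.ncard_insert_of_notMem han, Set.ncard_insert_of_notMem hbn,
        Set.ncard_union_eq hdisj]
    rw [htot, ← hcard] at hodd
    rcases hodd with ⟨k, hk⟩
    omega
  -- the block property
  obtain ⟨s, hsa, hsb⟩ := h2 a b b a hab hab.symm
  have hsia : s⁻¹ • a = b := by rw [inv_smul_eq_iff, hsb]
  have hsib : s⁻¹ • b = a := by rw [inv_smul_eq_iff, hsa]
  -- s maps B into the new set, s⁻¹ maps the new set into B
  have hsB : ∀ y ∈ B, s • y ∈ insert a (B \ {b}) := by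
    intro y hy
    by_cases hyb : y = b
    · rw [hyb, hsb]; exact Set.mem_insert _ _
    · exact Set.mem_insert_of_mem _ (hswap s hsa hsb y ⟨hy, hyb⟩)
  have hsiB : ∀ y ∈ insert a (B \ {b}), s⁻¹ • y ∈ B := by
    intro y hy
    rcases hy with rfl | hy
    · rw [hsia]; exact hb
    · exact (hswap s⁻¹ hsia hsib y hy).1
  refine ⟨?_, ?_⟩
  · rintro (h | h)
    · exact hab h.symm
    · exact h.2 rfl
  · intro g hgb
    have hg'a : (s⁻¹ * g * s) • a = a := by
      rw [mul_smul, mul_smul, hsa, hgb, hsib]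
    have key : ∀ y ∈ insert a (B \ {b}), g • y = s • ((s⁻¹ * g * s) • (s⁻¹ • y)) := by
      intro y _
      rw [mul_smul, mul_smul, smul_inv_smul, smul_inv_smul]
    rcases hblk _ hg'a with h | h
    · left
      intro y hy
      rw [key y hy]
      exact hsB _ (h _ (hsiB y hy))
    · right
      intro y hy hgy
      have h1 := hsiB _ hgy
      rw [key y hy, inv_smul_smul] at h1
      exact h _ (hsiB y hy) h1

end Cfsg.Agent.Lib.Helper25.PRSYM
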