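import Mathlib
import Cfsg.Agent.Lib.Helper9.PLocal2

set_option autoImplicit false

/-!
If a finite group `X` has a normal `p`-subgroup `Q` with `C_X(Q) ≤ Q`, then `F*(X) = O_p(X)`.
-/

namespace Cfsg.Agent.Lib.Helper25

open Cfsg

theorem generalizedFittingSubgroup_eq_pCore_of_normal_pSubgroup {X : Type*} [Group X] [Finite X]
    {p : ℕ} [Fact p.Prime] (Q : Subgroup X) (hQn : Q.Normal) (hQp : IsPGroup p Q)
    (hC : Subgroup.centralizer (Q : Set X) ≤ Q) :
    generalizedFittingSubgroup X = pCore p X := by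
  have hsolv : Group.IsSolvable ↥Q := by
    have : Group.IsNilpotent ↥Q := hQp.isNilpotent
    infer_instance
  have hlay : layer X = ⊥ :=
    Cfsg.Agent.Lib.Helper9.layer_eq_bot_of_le_isSolvable hsolv
      (Cfsg.Agent.Lib.Helper9.layer_le_of_centralizer_le hQn.isSubnormal hC)
  have hpp : pPrimeCore p X = ⊥ := by
    have hQle : Q ≤ pCore p X := Cfsg.Agent.Lib.Helper1.le_pCore hQn hQp
    have h2 := Cfsg.Agent.Lib.Helper9.commutator_pCore_pPrimeCore (G := X) p
    rw [Subgroup.commutator_comm, Subgroup.commutator_eq_bot_iff_le_centralizer] at h2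
    have h3 : pPrimeCore p X ≤ Q := (h2.trans (Subgroup.centralizer_le hQle)).trans hC
    have h4 : IsPGroup p ↥(pPrimeCore p X) := hQp.to_le h3
    have h5 := Cfsg.Agent.Lib.Helper12.pPrimeCore_coprime (X := X) p
    rcases h4.card_eq_or_dvd with h6 | h6
    · exact Subgroup.card_eq_one.1 h6
    · exfalso
      have hp : p.Prime := Fact.out
      have := Nat.Coprime.eq_one_of_dvd h5.symm h6
      exact hp.one_lt.ne' this
  unfold generalizedFittingSubgroup
  rw [hlay, bot_sup_eq]
  exact Cfsg.Agent.Lib.Helper9.fittingSubgroup_eq_pCore_of_pPrimeCore_eq_bot p hpp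

end Cfsg.Agent.Lib.Helper25
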