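import Mathlib
import Cfsg.Agent.Lib.Helper25.SpTK
import Cfsg.Agent.Lib.Helper25.TensS

/-!
S5704, part (N) (Lemma N): definitions.  `o, o' : Fin b` is the first hyperbolic pair of indices
(`o.val = 0`, `o'.val = 1`), `W = A ⊗ e_o`; `UF o o' g`: `g - 1` lives on block-row `o` and
block-column `o'` (the unipotent radical of the stabiliser of `W`); `NR`: "non-rigid".
-/

set_option autoImplicit false
set_option linter.unusedSectionVars false
set_option linter.unusedVariables false

namespace Cfsg.Agent.Lib.Helper25.SpT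
open Matrix QuadraticMap
open Cfsg.Agent.Lib.Helper25.Tens Cfsg.Agent.Lib.Helper25.TensLeaves Cfsg.Agent.Lib.Helper19.OSub
open scoped Kronecker

variable {F : Type*} [Field F] {a b : ℕ}

/-- `U`-form: all blocks off block-row `o` and off block-column `o'` are those of `1`, and the two
diagonal blocks `(o,o)`, `(o',o')` are `1` -/
def UF (o o' : Fin b) (g : Matrix (Idx a b) (Idx a b) F) : Prop :=
  (∀ k l : Fin b, k ≠ o → l ≠ o' → blk g k l = if k = l then 1 else 0) ∧
    blk g o o = 1 ∧ blk g o' o' = 1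

/-- non-rigid: some `U`-form element of `M` has a non-scalar block in row `o`, column `l ∉ {o, o'}` -/
def NR (o o' : Fin b) (M : Subgroup (GL (Idx a b) F)) : Prop :=
  ∃ g ∈ M, UF o o' ((g : GL (Idx a b) F) : Matrix (Idx a b) (Idx a b) F) ∧
    ∃ l : Fin b, l ≠ o ∧ l ≠ o' ∧
      ¬ IsScalarMat (blk ((g : GL (Idx a b) F) : Matrix (Idx a b) (Idx a b) F) o l)

/-- the element `1 ⊗ η_z` of `K`, `η_z v = v + sf v e_o • z + sf v z • e_o` (for `sf z e_o = 0`),
as a word in the `kB` -/
def uB {a b : ℕ} (o : Fin b) (z : Fin b → F) : GL (Idx a b) F :=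
  kB (Pi.single o 1 + z) 1 * kB (Pi.single o 1) (-1) * kB z (-1)

lemma uB_mem_KG (o : Fin b) (z : Fin b → F) : (uB o z : GL (Idx a b) F) ∈ KG a b F :=
  (KG a b F).mul_mem ((KG a b F).mul_mem (kB_mem_KG _ _) (kB_mem_KG _ _)) (kB_mem_KG _ _)

lemma mv_uB_pt (o : Fin b) (z : Fin b → F) (hz : sf z (Pi.single o (1 : F)) = 0)
    (x : Fin a → F) (y : Fin b → F) :
    mv (uB o z : GL (Idx a b) F) (pt x y) =
      pt x (y + sf y (Pi.single o 1) • z + sf y z • Pi.single o 1) := by
  unfold uB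
  rw [mv_mul, mv_mul, mv_kB_pt, mv_kB_pt, mv_kB_pt]
  congr 1
  have hz' : sf (Pi.single o (1 : F)) z = 0 := by rw [sf_skew, hz, neg_zero]
  simp only [sf_add_left, sf_add_right, sf_smul_left, sf_self, hz, hz']
  module

lemma uB_mem [Fintype F] {Q : QuadraticForm F (Idx a b → F)} {M : Subgroup (GL (Idx a b) F)}
    (h : MCtx a b Q M) (o : Fin b) (z : Fin b → F) : (uB o z : GL (Idx a b) F) ∈ M :=
  M.mul_mem (M.mul_mem (kB_mem h _ _) (kB_mem h _ _)) (kB_mem h _ _)

end Cfsg.Agent.Lib.Helper25.SpT
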