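import Mathlib
import Cfsg.Prelude.Def_GeometricClasses
import Cfsg.Agent.Lib.Helper25.C3O2Defs

/-!
C3O2 leaf S4B (helper25): the conjugate `t` of an `E`-Siegel element on `W = {p, t J p}^{⟂E}`: a reflection in `u₀` modulo `⟨p, t J p⟩`.
-/

set_option autoImplicit false
set_option linter.unusedSectionVars false
set_option linter.unusedVariables false

namespace Cfsg.Agent.Lib.Helper25.C3O2Leaf
open Matrix Module QuadraticMap Cfsg Cfsg.Geo Cfsg.Agent.Lib.Helper25.OEFsa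
  Cfsg.Agent.Lib.Helper25.CD Cfsg.Agent.Lib.Helper25.Siegel
  Cfsg.Agent.Lib.Helper5.NSMax Cfsg.Agent.Lib.Helper5.TSMax Cfsg.Agent.Lib.Helper25.AutO
  Cfsg.Agent.Lib.Helper25.C3O2

variable {F : Type*} [Field F] [Fintype F] {E : Type*} [Field E] [Algebra F E] [FiniteDimensional F E]
  {ι : Type} [Fintype ι] [DecidableEq ι]
  {ρ : E →ₐ[F] Matrix ι ι F} {Q : QuadraticForm F (ι → F)} {B : (ι → F) → (ι → F) → E} {QE : (ι → F) → E}
  {κ : E} {δ : F}

theorem Q_add' (Q : QuadraticForm F (ι → F)) (x y : ι → F) : Q (x + y) = Q x + Q y + polar Q x y := by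
  unfold polar
  ring

/-- S4B -/
theorem t_on_W (h : Forms ρ Q B QE) (hκ : Kap κ δ) (h2 : (2 : F) ≠ 0) {p e' b' : ι → F} (hp : QE p = 0)
    (he' : Q e' = 0) (hpe' : polar Q p e' = 0) (hpb : polar Q p b' = 0) (he'b : polar Q e' b' = 0)
    (heb : polar Q (ρ κ *ᵥ p) b' = 0) (hQb : Q b' ≠ 0) (hε : polar Q e' (ρ κ *ᵥ p) ≠ 0)
    (t : (ι → F) ≃ₗ[F] (ι → F)) (htQ : ∀ x, Q (t x) = Q x) (htp : t p = p)
    (ht : ∀ x, polar Q p x = 0 → ∃ c : F, t x = egen Q e' b' x + c • p) :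
    ∃ u₀ : ι → F, polar Q (ρ κ *ᵥ p) (t (ρ κ *ᵥ p)) ≠ 0 ∧ B p u₀ = 0 ∧ B (t (ρ κ *ᵥ p)) u₀ = 0 ∧ Q u₀ ≠ 0 ∧
      ∀ w, B p w = 0 → B (t (ρ κ *ᵥ p)) w = 0 →
        ∃ c : F, t w = w - (polar Q u₀ w / Q u₀) • u₀ + (2 * polar Q u₀ w / Q u₀) • t (ρ κ *ᵥ p) + c • p := by
  -- notation
  obtain ⟨e, he⟩ : ∃ e, e = ρ κ *ᵥ p := ⟨_, rfl⟩
  obtain ⟨ε, hεdef⟩ : ∃ ε, ε = polar Q e' e := ⟨_, rfl⟩
  obtain ⟨q', hq'⟩ : ∃ q', q' = Q b' := ⟨_, rfl⟩
  rw [← he] at heb hε ⊢
  rw [← hεdef] at hε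
  rw [← hq'] at hQb
  have hQp : Q p = 0 := Q_of_QE h hp
  have hQe : Q e = 0 := by rw [he, Q_J h hκ, hQp, mul_zero]
  -- base polar values
  have ppp : polar Q p p = 0 := by rw [polar_self', hQp, mul_zero]
  have ppe : polar Q p e = 0 := by
    rw [he, polar_J_right h, h.B_self, hp, mul_zero, mul_zero, map_zero]
  have pep : polar Q e p = 0 := by rw [polar_comm, ppe]
  have pe'p : polar Q e' p = 0 := by rw [polar_comm, hpe']
  have pb'p : polar Q b' p = 0 := by rw [polar_comm, hpb]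
  have pee : polar Q e e = 0 := by rw [polar_self', hQe, mul_zero]
  have pee' : polar Q e e' = ε := by rw [polar_comm, hεdef]
  have pe'e : polar Q e' e = ε := hεdef.symm
  have pb'e : polar Q b' e = 0 := by rw [polar_comm, heb]
  have pe'e' : polar Q e' e' = 0 := by rw [polar_self', he', mul_zero]
  have pb'e' : polar Q b' e' = 0 := by rw [polar_comm, he'b]
  have pb'b' : polar Q b' b' = 2 * q' := by rw [polar_self', hq']
  -- v = t e
  obtain ⟨l₀, hl₀⟩ := ht e ppe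
  obtain ⟨v, hv⟩ : ∃ v, v = t e := ⟨_, rfl⟩
  have hvf : v = e + ε • b' - (q' * ε) • e' + l₀ • p := by
    rw [hv, hl₀]
    unfold egen
    rw [pe'e, pb'e, ← hq', zero_smul, sub_zero]
  rw [← hv]
  have hQv : Q v = 0 := by rw [hv, htQ, hQe]
  -- polar values with v
  have ppv : polar Q p v = 0 := by
    rw [hvf]
    simp only [polar_add_right, polar_sub_right, polar_smul_right, smul_eq_mul, ppe, hpb, hpe', ppp]
    ring
  have pvp : polar Q v p = 0 := by rw [polar_comm, ppv]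
  have pev : polar Q e v = -(q' * ε * ε) := by
    rw [hvf]
    simp only [polar_add_right, polar_sub_right, polar_smul_right, smul_eq_mul, pee, heb, pee', pep]
    ring
  have pve : polar Q v e = -(q' * ε * ε) := by rw [polar_comm, pev]
  have hη : polar Q e v ≠ 0 := by
    rw [pev]
    exact neg_ne_zero.2 (mul_ne_zero (mul_ne_zero hQb hε) hε)
  -- u₂, a, u₀
  obtain ⟨u₂, hu₂⟩ : ∃ u₂, u₂ = e + (ε * q') • e' := ⟨_, rfl⟩
  have ppu₂ : polar Q p u₂ = 0 := by
    rw [hu₂]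
    simp only [polar_add_right, polar_smul_right, smul_eq_mul, ppe, hpe']
    ring
  have peu₂ : polar Q e u₂ = ε * ε * q' := by
    rw [hu₂]
    simp only [polar_add_right, polar_smul_right, smul_eq_mul, pee, pee']
    ring
  have pvu₂ : polar Q v u₂ = 0 := by
    rw [hvf, hu₂]
    simp only [polar_add_right, polar_add_left, polar_sub_left, polar_smul_right, polar_smul_left, smul_eq_mul, pee,
      pee', pb'e, pb'e', pe'e, pe'e', pep, ppe, hpe']
    ring
  have hQu₂ : Q u₂ = ε * ε * q' := by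
    rw [hu₂, Q_add', QuadraticMap.map_smul, hQe, he', polar_smul_right, pee']
    simp only [smul_eq_mul]
    ring
  obtain ⟨a, ha⟩ : ∃ a : F, a = (polar Q (ρ κ *ᵥ v) u₂ + polar Q (ρ κ *ᵥ v) v) / polar Q e v := ⟨_, rfl⟩
  obtain ⟨u₀, hu₀⟩ : ∃ u₀, u₀ = u₂ + v - a • p := ⟨_, rfl⟩
  have pJvp : polar Q (ρ κ *ᵥ v) p = polar Q e v := by
    rw [h.ctx.sa, ← he, polar_comm]
  have hQu₀ : Q u₀ = ε * ε * q' := by
    have e1 : u₀ = u₂ + (v + (-a) • p) := by rw [hu₀, neg_smul]; abel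
    rw [e1, Q_add', Q_add', QuadraticMap.map_smul, hQp, hQv, hQu₂]
    simp only [polar_add_right, polar_smul_right, smul_eq_mul, pvp, pvu₂, polar_comm Q u₂ v, polar_comm Q u₂ p, ppu₂]
    ring
  have hQu₀ne : Q u₀ ≠ 0 := by
    rw [hQu₀]
    exact mul_ne_zero (mul_ne_zero hε hε) hQb
  refine ⟨u₀, hη, ?_, ?_, hQu₀ne, ?_⟩
  · rw [B_eq_zero_iff h hκ h2, ← he]
    constructor
    · rw [hu₀]
      simp only [polar_add_right, polar_sub_right, polar_smul_right, smul_eq_mul, ppu₂, ppv, ppp]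
      ring
    · rw [hu₀]
      simp only [polar_add_right, polar_sub_right, polar_smul_right, smul_eq_mul, peu₂, pev, pep]
      ring
  · rw [B_eq_zero_iff h hκ h2]
    constructor
    · rw [hu₀]
      simp only [polar_add_right, polar_sub_right, polar_smul_right, smul_eq_mul, pvu₂, pvp, polar_self', hQv]
      ring
    · rw [hu₀]
      simp only [polar_add_right, polar_sub_right, polar_smul_right, smul_eq_mul, pJvp]
      rw [ha]
      field_simp
      ring
  · intro w hpw hvw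
    obtain ⟨hpw1, hpw2⟩ := (B_eq_zero_iff h hκ h2 p w).1 hpw
    rw [← he] at hpw2
    obtain ⟨hvw1, hvw2⟩ := (B_eq_zero_iff h hκ h2 v w).1 hvw
    obtain ⟨f', hf'⟩ : ∃ f', f' = polar Q e' w := ⟨_, rfl⟩
    have hb'w : polar Q b' w = q' * f' := by
      have h1 := hvw1
      rw [hvf] at h1
      simp only [polar_add_left, polar_sub_left, polar_smul_left, smul_eq_mul, hpw1, hpw2, ← hf'] at h1
      have h3 : ε * (polar Q b' w - q' * f') = 0 := by linear_combination h1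
      rcases mul_eq_zero.1 h3 with h4 | h4
      · exact absurd h4 hε
      · exact sub_eq_zero.1 h4
    have hu₀w : polar Q u₀ w = ε * q' * f' := by
      rw [hu₀, hu₂]
      simp only [polar_add_left, polar_sub_left, polar_smul_left, smul_eq_mul, hpw1, hpw2, hvw1, ← hf']
      ring
    obtain ⟨c, hc⟩ := ht w hpw1
    have hφ : polar Q u₀ w / Q u₀ = f' / ε := by
      rw [hu₀w, hQu₀]
      field_simp
    have hφ2 : 2 * polar Q u₀ w / Q u₀ = 2 * (f' / ε) := by
      rw [mul_div_assoc, hφ]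
    refine ⟨c - (f' / ε) * (l₀ + a), ?_⟩
    rw [hc, hφ, hφ2]
    unfold egen
    rw [← hf', hb'w, ← hq', hu₀, hu₂, hvf]
    match_scalars <;> field_simp <;> ring

end Cfsg.Agent.Lib.Helper25.C3O2Leaf
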