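import Mathlib
import Cfsg.Prelude.Def_GeometricClasses
import Cfsg.Agent.Lib.Helper25.C3O2Defs
import Cfsg.Agent.Lib.Helper22.C3O2Tools

/-!
C3O2 leaf SK (helper25, spare): a matrix stabilising every `E`-singular `E`-line is in `K` (`E`-Witt index one).
-/

set_option autoImplicit false
set_option linter.unusedSectionVars false
set_option linter.unusedVariables false

namespace Cfsg.Agent.Lib.Helper25.C3O2Leaf
open Matrix Module QuadraticMap Cfsg Cfsg.Geo Cfsg.Agent.Lib.Helper25.OEFsa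
  Cfsg.Agent.Lib.Helper25.CD Cfsg.Agent.Lib.Helper25.Siegel
  Cfsg.Agent.Lib.Helper5.NSMax Cfsg.Agent.Lib.Helper5.TSMax Cfsg.Agent.Lib.Helper25.AutO
  Cfsg.Agent.Lib.Helper25.C3O2 Cfsg.Agent.Lib.Helper22.C3O2Leaf

variable {F : Type*} [Field F] [Fintype F] {E : Type*} [Field E] [Algebra F E] [FiniteDimensional F E]
  {ι : Type} [Fintype ι] [DecidableEq ι]
  {ρ : E →ₐ[F] Matrix ι ι F} {Q : QuadraticForm F (ι → F)} {B : (ι → F) → (ι → F) → E} {QE : (ι → F) → E}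
  {κ : E} {δ : F}

theorem rho_sub_mulVec (ρ : E →ₐ[F] Matrix ι ι F) (a b : E) (v : ι → F) :
    ρ (a - b) *ᵥ v = ρ a *ᵥ v - ρ b *ᵥ v := by
  rw [map_sub, Matrix.sub_mulVec]

theorem rho_inj_of_ne {a b : E} {v : ι → F} (hv : v ≠ 0) (hab : ρ a *ᵥ v = ρ b *ᵥ v) : a = b := by
  have h1 : ρ (a - b) *ᵥ v = 0 := by rw [rho_sub_mulVec, hab, sub_self]
  rcases rho_mulVec_eq_zero h1 with h3 | h3
  · exact sub_eq_zero.1 h3
  · exact absurd h3 hv

theorem B_sub_left (h : Forms ρ Q B QE) (u u' v : ι → F) : B (u - u') v = B u v - B u' v := by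
  rw [sub_eq_add_neg, h.B_add_left, h.B_neg_left, ← sub_eq_add_neg]

/-- a vector `E`-orthogonal to a hyperbolic pair is non-singular (Witt index one) -/
theorem QE_ne_of_perp_pair (h : Forms ρ Q B QE) (hw1 : W1 ρ B QE) {y y' z : ι → F} (hy0 : y ≠ 0) (hy : QE y = 0)
    (hyy' : B y y' = 1) (hz0 : z ≠ 0) (hyz : B y z = 0) (hy'z : B y' z = 0) : QE z ≠ 0 := by
  intro hz
  obtain ⟨a, ha⟩ := hw1 y z hy0 hy hz hyz
  have h1 : B y' z = a := by rw [ha, h.B_smul_right, h.B_symm, hyy', mul_one]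
  rw [hy'z] at h1
  rw [← h1, rho_zero_mulVec] at ha
  exact hz0 ha

/-- the projection to the complement of a hyperbolic pair -/
theorem perp_pair_proj (h : Forms ρ Q B QE) {y y' : ι → F} (hy : QE y = 0) (hy' : QE y' = 0) (hyy' : B y y' = 1)
    (v : ι → F) : B y (v - ρ (B v y') *ᵥ y - ρ (B v y) *ᵥ y') = 0 ∧
      B y' (v - ρ (B v y') *ᵥ y - ρ (B v y) *ᵥ y') = 0 := by
  have hyy : B y y = 0 := by rw [h.B_self, hy, mul_zero]
  have hy'y' : B y' y' = 0 := by rw [h.B_self, hy', mul_zero]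
  have hy'y : B y' y = 1 := by rw [h.B_symm, hyy']
  constructor
  · rw [sub_eq_add_neg, sub_eq_add_neg, ← rho_neg_mulVec, ← rho_neg_mulVec, h.B_add_right, h.B_add_right,
      h.B_smul_right, h.B_smul_right, hyy, hyy', h.B_symm y v]
    ring
  · rw [sub_eq_add_neg, sub_eq_add_neg, ← rho_neg_mulVec, ← rho_neg_mulVec, h.B_add_right, h.B_add_right,
      h.B_smul_right, h.B_smul_right, hy'y', hy'y, h.B_symm y' v]
    ring

/-- a non-zero vector `E`-orthogonal to two given vectors (`F`-dimension `≥ 5`) -/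
theorem exists_perp_two (h : Forms ρ Q B QE) (hE : finrank F E = 2) (hcard : 5 ≤ Fintype.card ι) (y y' : ι → F) :
    ∃ z : ι → F, z ≠ 0 ∧ B y z = 0 ∧ B y' z = 0 := by
  let φ : (ι → F) →ₗ[F] (E × E) :=
    { toFun := fun v => (B y v, B y' v)
      map_add' := by
        intro u v
        show (B y (u + v), B y' (u + v)) = (B y u, B y' u) + (B y v, B y' v)
        rw [h.B_add_right, h.B_add_right]
        rfl
      map_smul' := by
        intro c v
        show (B y (c • v), B y' (c • v)) = c • (B y v, B y' v)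
        rw [smul_eq_rho_mulVec ρ, h.B_smul_right, h.B_smul_right, Prod.smul_mk, Algebra.smul_def, Algebra.smul_def] }
  have hlt : finrank F (E × E) < finrank F (ι → F) := by
    rw [Module.finrank_prod, hE, Module.finrank_fintype_fun_eq_card]
    omega
  have hker := LinearMap.ker_ne_bot_of_finrank_lt (f := φ) hlt
  obtain ⟨z, hz, hz0⟩ := (Submodule.ne_bot_iff _).1 hker
  have hz' : (B y z, B y' z) = 0 := hz
  exact ⟨z, hz0, (Prod.ext_iff.1 hz').1, (Prod.ext_iff.1 hz').2⟩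

/-- the core computation of SK -/
theorem sk_core (h : Forms ρ Q B QE) (h2 : (2 : F) ≠ 0) (A : Matrix ι ι F)
    (hA : ∀ p : ι → F, p ≠ 0 → QE p = 0 → ∃ a : E, A *ᵥ p = ρ a *ᵥ p)
    {y y' z : ι → F} (hy : QE y = 0) (hy' : QE y' = 0) (hyy' : B y y' = 1) (hyz : B y z = 0) (hy'z : B y' z = 0)
    (hc : QE z ≠ 0) {k : E} (hk : A *ᵥ y = ρ k *ᵥ y) (μ : E) : A *ᵥ (ρ μ *ᵥ y') = ρ k *ᵥ (ρ μ *ᵥ y') := by
  have h2E : (2 : E) ≠ 0 := two_ne_zero_E (F := F) h2
  obtain ⟨c, hcdef⟩ : ∃ c, c = QE z := ⟨_, rfl⟩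
  rw [← hcdef] at hc
  have hyy : B y y = 0 := by rw [h.B_self, hy, mul_zero]
  have hy'y' : B y' y' = 0 := by rw [h.B_self, hy', mul_zero]
  have hy'y : B y' y = 1 := by rw [h.B_symm, hyy']
  have hzy : B z y = 0 := by rw [h.B_symm, hyz]
  have hzy' : B z y' = 0 := by rw [h.B_symm, hy'z]
  have hzz : B z z = 2 * c := by rw [h.B_self, hcdef]
  -- the singular vectors `y_a`
  obtain ⟨ya, hya⟩ : ∃ ya : E → (ι → F), ∀ a, ya a = y + ρ (-(a * a * c)) *ᵥ y' + ρ a *ᵥ z := ⟨_, fun _ => rfl⟩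
  have hBy' : ∀ a, B (ya a) y' = 1 := by
    intro a
    rw [hya, h.B_add_left, h.B_add_left, h.B_smul_left, h.B_smul_left, hyy', hy'y', hzy']
    ring
  have hBz : ∀ a, B (ya a) z = 2 * a * c := by
    intro a
    rw [hya, h.B_add_left, h.B_add_left, h.B_smul_left, h.B_smul_left, hyz, hy'z, hzz]
    ring
  have hBy : ∀ a, B (ya a) y = -(a * a * c) := by
    intro a
    rw [hya, h.B_add_left, h.B_add_left, h.B_smul_left, h.B_smul_left, hyy, hy'y, hzy]
    ring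
  have hQya : ∀ a, QE (ya a) = 0 := by
    intro a
    rw [hya, h.QE_add, h.QE_add, h.QE_smul, h.QE_smul, hy, hy', ← hcdef, h.B_add_left, h.B_smul_left,
      h.B_smul_right, h.B_smul_right, h.B_smul_right, hyy', hyz, hy'z]
    ring
  have hya0 : ∀ a, ya a ≠ 0 := by
    intro a h0
    have := hBy' a
    rw [h0, h.B_zero_left] at this
    exact zero_ne_one this
  choose ka hka using fun a => hA (ya a) (hya0 a) (hQya a)
  -- `A` on `E y'`
  have hφ : ∀ l : E, ∃ f : E, A *ᵥ (ρ l *ᵥ y') = ρ f *ᵥ y' := by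
    intro l
    by_cases hl : l = 0
    · refine ⟨0, ?_⟩
      rw [hl, rho_zero_mulVec, Matrix.mulVec_zero]
    · have hy'0 : y' ≠ 0 := by
        intro h0
        rw [h0, h.B_zero_right] at hyy'
        exact zero_ne_one hyy'
      have h1 : ρ l *ᵥ y' ≠ 0 := by
        intro h0
        rcases rho_mulVec_eq_zero h0 with h3 | h3
        · exact hl h3
        · exact hy'0 h3
      obtain ⟨a, ha⟩ := hA _ h1 (by rw [h.QE_smul, hy', mul_zero])
      exact ⟨a * l, by rw [ha, ← rho_mul_mulVec]⟩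
  choose φ hφ' using hφ
  -- the linear relation
  have hrel : ∀ a b : E, ya a + ya b - ya (a + b) = y + ρ (2 * a * b * c) *ᵥ y' := by
    intro a b
    rw [hya, hya, hya]
    have e1 : ∀ (s t u : E) (v : ι → F), ρ s *ᵥ v + ρ t *ᵥ v - ρ u *ᵥ v = ρ (s + t - u) *ᵥ v := by
      intro s t u v
      rw [rho_sub_mulVec, rho_add_mulVec]
    have e2 : y + ρ (-(a * a * c)) *ᵥ y' + ρ a *ᵥ z + (y + ρ (-(b * b * c)) *ᵥ y' + ρ b *ᵥ z) -
        (y + ρ (-((a + b) * (a + b) * c)) *ᵥ y' + ρ (a + b) *ᵥ z) =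
        y + (ρ (-(a * a * c)) *ᵥ y' + ρ (-(b * b * c)) *ᵥ y' - ρ (-((a + b) * (a + b) * c)) *ᵥ y') +
          (ρ a *ᵥ z + ρ b *ᵥ z - ρ (a + b) *ᵥ z) := by abel
    rw [e2, e1, e1]
    have e3 : a + b - (a + b) = 0 := by ring
    have e4 : -(a * a * c) + -(b * b * c) - -((a + b) * (a + b) * c) = 2 * a * b * c := by ring
    rw [e3, e4, rho_zero_mulVec, add_zero]
  have hArel : ∀ a b : E, ρ (ka a) *ᵥ ya a + ρ (ka b) *ᵥ ya b - ρ (ka (a + b)) *ᵥ ya (a + b) =
      ρ k *ᵥ y + ρ (φ (2 * a * b * c)) *ᵥ y' := by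
    intro a b
    rw [← hka, ← hka, ← hka, ← hk, ← hφ', ← Matrix.mulVec_add, ← Matrix.mulVec_add, ← Matrix.mulVec_sub, hrel]
  -- coefficients
  have eq1 : ∀ a b : E, ka a + ka b - ka (a + b) = k := by
    intro a b
    have := congrArg (fun v => B v y') (hArel a b)
    simp only [B_sub_left h, h.B_add_left, h.B_smul_left, hBy', hyy', hy'y'] at this
    linear_combination this
  have eq2 : ∀ a b : E, ka a * a + ka b * b - ka (a + b) * (a + b) = 0 := by
    intro a b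
    have := congrArg (fun v => B v z) (hArel a b)
    simp only [B_sub_left h, h.B_add_left, h.B_smul_left, hBz, hyz, hy'z] at this
    have h3 : 2 * c * (ka a * a + ka b * b - ka (a + b) * (a + b)) = 0 := by linear_combination this
    rcases mul_eq_zero.1 h3 with h4 | h4
    · exact absurd h4 (mul_ne_zero h2E hc)
    · exact h4
  have eq3 : ∀ a b : E, -(ka a * (a * a * c)) - ka b * (b * b * c) + ka (a + b) * ((a + b) * (a + b) * c) =
      φ (2 * a * b * c) := by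
    intro a b
    have := congrArg (fun v => B v y) (hArel a b)
    simp only [B_sub_left h, h.B_add_left, h.B_smul_left, hBy, hyy, hy'y] at this
    linear_combination this
  have hka_ne : ∀ a : E, a ≠ 0 → ka a = k := by
    intro a ha
    have h1 := eq1 a a
    have h3 := eq2 a a
    have h4 : 2 * a * (ka a - k) = 0 := by linear_combination (-1) * h3 + (2 * a) * h1
    rcases mul_eq_zero.1 h4 with h5 | h5
    · exact absurd h5 (mul_ne_zero h2E ha)
    · exact sub_eq_zero.1 h5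
  -- conclusion
  by_cases hμ : μ = 0
  · rw [hμ, rho_zero_mulVec, Matrix.mulVec_zero, Matrix.mulVec_zero]
  · obtain ⟨b, hb⟩ : ∃ b : E, b = μ * (2 * c)⁻¹ := ⟨_, rfl⟩
    have hb0 : b ≠ 0 := by
      rw [hb]
      exact mul_ne_zero hμ (inv_ne_zero (mul_ne_zero h2E hc))
    have hμb : 2 * 1 * b * c = μ := by
      rw [hb]
      field_simp
    have h1 := eq1 1 b
    have h3 := eq3 1 b
    rw [hka_ne 1 one_ne_zero, hka_ne b hb0] at h1 h3
    have h4 : ka (1 + b) = k := by linear_combination -h1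
    rw [h4, hμb] at h3
    have h5 : φ μ = k * μ := by
      rw [← h3, ← hμb]
      ring
    rw [hφ', h5, rho_mul_mulVec]

/-- SK -/
theorem sk (h : Forms ρ Q B QE) (h2 : (2 : F) ≠ 0) (hE : finrank F E = 2) (hcard : 7 ≤ Fintype.card ι)
    (hw1 : W1 ρ B QE) (A : Matrix ι ι F)
    (hA : ∀ p : ι → F, p ≠ 0 → QE p = 0 → ∃ a : E, A *ᵥ p = ρ a *ᵥ p) : ∃ k : E, A = ρ k := by
  obtain ⟨y, hy0, hy, -⟩ := exists_esing_perp h h2 hE hcard 0
  obtain ⟨y', hy', hyy'⟩ := exists_partner h hy0 hy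
  have hy'y : B y' y = 1 := by rw [h.B_symm, hyy']
  have hy'0 : y' ≠ 0 := by
    intro h0
    rw [h0, h.B_zero_right] at hyy'
    exact zero_ne_one hyy'
  obtain ⟨z, hz0, hyz, hy'z⟩ := exists_perp_two h hE (by omega) y y'
  have hc := QE_ne_of_perp_pair h hw1 hy0 hy hyy' hz0 hyz hy'z
  obtain ⟨k, hk⟩ := hA y hy0 hy
  refine ⟨k, ?_⟩
  -- `A = ρ k` on `E y'` and on `E y`
  have hAy' : ∀ μ : E, A *ᵥ (ρ μ *ᵥ y') = ρ k *ᵥ (ρ μ *ᵥ y') := sk_core h h2 A hA hy hy' hyy' hyz hy'z hc hk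
  have hky' : A *ᵥ y' = ρ k *ᵥ y' := by
    have := hAy' 1
    rwa [rho_one_mulVec] at this
  have hAy : ∀ μ : E, A *ᵥ (ρ μ *ᵥ y) = ρ k *ᵥ (ρ μ *ᵥ y) := sk_core h h2 A hA hy' hy hy'y hy'z hyz hc hky'
  -- `A = ρ k` on every singular vector
  have hsing : ∀ s : ι → F, QE s = 0 → A *ᵥ s = ρ k *ᵥ s := by
    intro s hs
    by_cases hys : B y s = 0
    · obtain ⟨a, ha⟩ := hw1 y s hy0 hy hs hys
      rw [ha]
      exact hAy a
    · obtain ⟨y'', hy''def⟩ : ∃ y'', y'' = ρ (B y s)⁻¹ *ᵥ s := ⟨_, rfl⟩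
      have hy'' : QE y'' = 0 := by rw [hy''def, h.QE_smul, hs, mul_zero]
      have hyy'' : B y y'' = 1 := by rw [hy''def, h.B_smul_right, inv_mul_cancel₀ hys]
      obtain ⟨z', hz'0, hyz', hy''z'⟩ := exists_perp_two h hE (by omega) y y''
      have hc' := QE_ne_of_perp_pair h hw1 hy0 hy hyy'' hz'0 hyz' hy''z'
      have := sk_core h h2 A hA hy hy'' hyy'' hyz' hy''z' hc' hk (B y s)
      rwa [hy''def, ← rho_mul_mulVec, mul_inv_cancel₀ hys, rho_one_mulVec] at this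
  -- spanning
  have hall : ∀ v : ι → F, A *ᵥ v = ρ k *ᵥ v := by
    intro v
    obtain ⟨zv, hzv⟩ : ∃ zv, zv = v - ρ (B v y') *ᵥ y - ρ (B v y) *ᵥ y' := ⟨_, rfl⟩
    obtain ⟨hyzv, hy'zv⟩ := perp_pair_proj h hy hy' hyy' v
    rw [← hzv] at hyzv hy'zv
    have hv : v = ρ (B v y') *ᵥ y + ρ (B v y) *ᵥ y' + zv := by rw [hzv]; abel
    have hzvA : A *ᵥ zv = ρ k *ᵥ zv := by
      by_cases hzv0 : zv = 0
      · rw [hzv0, Matrix.mulVec_zero, Matrix.mulVec_zero]
      · have hcv := QE_ne_of_perp_pair h hw1 hy0 hy hyy' hzv0 hyzv hy'zv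
        obtain ⟨s, hsdef⟩ : ∃ s, s = y + ρ (-(QE zv)) *ᵥ y' + zv := ⟨_, rfl⟩
        have hs : QE s = 0 := by
          rw [hsdef, h.QE_add, h.QE_add, h.QE_smul, hy, hy', h.B_add_left, h.B_smul_left, h.B_smul_right, hyy',
            hyzv, hy'zv]
          ring
        have h1 := hsing s hs
        have h3 : zv = s - y - ρ (-(QE zv)) *ᵥ y' := by rw [hsdef]; abel
        have h4 := hAy 1
        rw [rho_one_mulVec] at h4
        rw [h3, Matrix.mulVec_sub, Matrix.mulVec_sub, Matrix.mulVec_sub, Matrix.mulVec_sub, h1, h4, hAy']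
    rw [hv, Matrix.mulVec_add, Matrix.mulVec_add, Matrix.mulVec_add, Matrix.mulVec_add, hAy, hAy', hzvA]
  apply Matrix.toLin'.injective
  apply LinearMap.ext
  intro v
  rw [Matrix.toLin'_apply, Matrix.toLin'_apply, hall]

end Cfsg.Agent.Lib.Helper25.C3O2Leaf
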