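import Mathlib
import Cfsg.Prelude.Def_Classical
import Cfsg.Agent.Lib.Helper25.MaxTS
import Cfsg.Agent.Lib.Helper15.WittBound
import Cfsg.Agent.S0750

set_option autoImplicit false

/-!
Maximal totally singular subspaces of the hyperbolic quadric `Σ x_i y_i`: the two families
(S0831) and the two maximal totally singular subspaces through an `(m-1)`-dimensional one (S0832).
-/

namespace Cfsg.Agent.Lib.Helper25.MaxTS

open Module QuadraticMap

variable {F : Type*} [Field F] (m : ℕ)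

/-- the hyperbolic quadratic form as a Mathlib quadratic form -/
noncomputable def plusQ : QuadraticForm F (Fin m ⊕ Fin m → F) :=
  ∑ i : Fin m, QuadraticMap.proj (Sum.inl i) (Sum.inr i)

theorem plusQ_apply (v : Fin m ⊕ Fin m → F) : plusQ m v = Cfsg.quadFormPlus m F v := by
  unfold plusQ Cfsg.quadFormPlus
  rw [_root_.sum_apply]
  simp only [QuadraticMap.proj_apply]

theorem polar_plusQ (u v : Fin m ⊕ Fin m → F) :
    polar (plusQ m (F := F)) u v =
      ∑ i, (u (Sum.inl i) * v (Sum.inr i) + v (Sum.inl i) * u (Sum.inr i)) := by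
  simp only [polar, plusQ_apply, Cfsg.quadFormPlus, Pi.add_apply]
  rw [← Finset.sum_sub_distrib, ← Finset.sum_sub_distrib]
  refine Finset.sum_congr rfl fun i _ => ?_
  ring

theorem plusQ_nondegenerate : (polarBilin (plusQ m (F := F))).Nondegenerate := by
  classical
  rw [isRefl.nondegenerate_iff_separatingLeft]
  intro x hx
  funext j
  rcases j with i | i
  · have := hx (Pi.single (Sum.inr i) 1)
    rw [polarBilin_apply_apply, polar_plusQ] at this
    simp only [Pi.single_apply, Sum.inr.injEq, reduceCtorEq, if_false, zero_mul, add_zero] at this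
    rw [Finset.sum_eq_single i] at this
    · simpa using this
    · intro b _ hb
      rw [if_neg hb, mul_zero]
    · intro h; exact absurd (Finset.mem_univ i) h
  · have := hx (Pi.single (Sum.inl i) 1)
    rw [polarBilin_apply_apply, polar_plusQ] at this
    simp only [Pi.single_apply, Sum.inl.injEq, reduceCtorEq, if_false, mul_zero, zero_add] at this
    rw [Finset.sum_eq_single i] at this
    · simpa using this
    · intro b _ hb
      rw [if_neg hb, zero_mul]
    · intro h; exact absurd (Finset.mem_univ i) h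

theorem finrank_plus : finrank F (Fin m ⊕ Fin m → F) = m + m := by
  simp

theorem ts_iff (U : Submodule F (Fin m ⊕ Fin m → F)) :
    TS (plusQ m) U ↔ ∀ u ∈ U, Cfsg.quadFormPlus m F u = 0 := by
  unfold TS
  simp only [plusQ_apply]

/-- the standard maximal totally singular subspace `{y = 0}` -/
noncomputable def stdE : Submodule F (Fin m ⊕ Fin m → F) :=
  LinearMap.ker (LinearMap.funLeft F F (Sum.inr : Fin m → Fin m ⊕ Fin m))

theorem stdE_ts : TS (plusQ m) (stdE m (F := F)) := by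
  rw [ts_iff]
  exact (Cfsg.Agent.Lib.Helper15.plus_std_ts m).1

theorem stdE_finrank : finrank F (stdE m (F := F)) = m :=
  (Cfsg.Agent.Lib.Helper15.plus_std_ts m).2

/-- S0831 -/
theorem two_families (hm : 1 ≤ m) :
    (∀ U W X : Submodule F (Fin m ⊕ Fin m → F),
      (Module.finrank F U = m ∧ ∀ w ∈ U, Cfsg.quadFormPlus m F w = 0) →
      (Module.finrank F W = m ∧ ∀ w ∈ W, Cfsg.quadFormPlus m F w = 0) →
      (Module.finrank F X = m ∧ ∀ w ∈ X, Cfsg.quadFormPlus m F w = 0) →
      Even ((m - Module.finrank F ↥(U ⊓ W)) + (m - Module.finrank F ↥(W ⊓ X)) +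
        (m - Module.finrank F ↥(U ⊓ X)))) ∧
    ∃ U W : Submodule F (Fin m ⊕ Fin m → F),
      (Module.finrank F U = m ∧ ∀ w ∈ U, Cfsg.quadFormPlus m F w = 0) ∧
      (Module.finrank F W = m ∧ ∀ w ∈ W, Cfsg.quadFormPlus m F w = 0) ∧
      Module.finrank F ↥(U ⊓ W) + 1 = m := by
  classical
  constructor
  · rintro U W X ⟨hUm, hU⟩ ⟨hWm, hW⟩ ⟨hXm, hX⟩
    exact parity (plusQ_nondegenerate m) (finrank_plus m) ((ts_iff m U).2 hU) hUm
      ((ts_iff m W).2 hW) hWm ((ts_iff m X).2 hX) hXm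
  · obtain ⟨v, hv⟩ : ∃ v : Fin m ⊕ Fin m → F, v = Pi.single (Sum.inr ⟨0, hm⟩) 1 := ⟨_, rfl⟩
    have hQv : plusQ m v = 0 := by
      rw [plusQ_apply, hv]
      unfold Cfsg.quadFormPlus
      apply Finset.sum_eq_zero
      intro i _
      simp
    have hvE : v ∉ stdE m := by
      intro h
      unfold stdE at h
      rw [LinearMap.mem_ker] at h
      have h2 := congrFun h ⟨0, hm⟩
      rw [hv] at h2
      simp [LinearMap.funLeft] at h2
    obtain ⟨h1, h2, _, h4, _⟩ := nbr_spec (plusQ_nondegenerate m) (finrank_plus m) (stdE_ts m)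
      (stdE_finrank m) hQv hvE
    exact ⟨stdE m, nbr (plusQ m) (stdE m) v, ⟨stdE_finrank m, (ts_iff m _).1 (stdE_ts m)⟩,
      ⟨h2, (ts_iff m _).1 h1⟩, h4⟩

/-- Every `(m-1)`-dimensional totally singular subspace lies in a maximal one (Witt). -/
theorem exists_max_ts (U : Submodule F (Fin m ⊕ Fin m → F)) (hU : TS (plusQ m) U)
    (hUm : finrank F U ≤ m) :
    ∃ W : Submodule F (Fin m ⊕ Fin m → F), TS (plusQ m) W ∧ finrank F W = m ∧ U ≤ W := by
  have hle : finrank F U ≤ finrank F (stdE m (F := F)) := by rw [stdE_finrank]; exact hUm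
  obtain ⟨φ₀, hφ₀⟩ := finrank_le_iff_exists_linearMap.1 hle
  obtain ⟨ψ, hψ⟩ : ∃ ψ : U →ₗ[F] (Fin m ⊕ Fin m → F), ψ = (stdE m).subtype ∘ₗ φ₀ := ⟨_, rfl⟩
  have hψinj : Function.Injective ψ := by
    rw [hψ]
    exact (Submodule.injective_subtype _).comp hφ₀
  have hψE : ∀ x, ψ x ∈ stdE m := by
    intro x
    rw [hψ]
    exact (φ₀ x).2
  obtain ⟨g, hg1, hg2⟩ := Cfsg.Agent.S0750.S0750aux.main (plusQ m) (plusQ_nondegenerate m) U
    (LinearMap.range ψ) (LinearEquiv.ofInjective ψ hψinj) (by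
      intro x
      rw [LinearEquiv.ofInjective_apply, stdE_ts m _ (hψE x), hU _ x.2])
  refine ⟨(stdE m).map (g.symm : (Fin m ⊕ Fin m → F) →ₗ[F] (Fin m ⊕ Fin m → F)), ?_, ?_, ?_⟩
  · rintro _ ⟨e, he, rfl⟩
    rw [← hg1, LinearEquiv.coe_coe, LinearEquiv.apply_symm_apply]
    exact stdE_ts m e he
  · rw [LinearEquiv.finrank_map_eq, stdE_finrank]
  · intro u hu
    refine ⟨g u, ?_, ?_⟩
    · have := hg2 ⟨u, hu⟩
      rw [LinearEquiv.ofInjective_apply] at this
      rw [this]
      exact hψE _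
    · rw [LinearEquiv.coe_coe, LinearEquiv.symm_apply_apply]

/-- S0832 -/
theorem card_extensions (hm : 1 ≤ m) (U : Submodule F (Fin m ⊕ Fin m → F))
    (hU : Module.finrank F U + 1 = m ∧ ∀ u ∈ U, Cfsg.quadFormPlus m F u = 0) :
    Nat.card {W : Submodule F (Fin m ⊕ Fin m → F) // Module.finrank F W = m ∧
      (∀ w ∈ W, Cfsg.quadFormPlus m F w = 0) ∧ U ≤ W} = 2 := by
  obtain ⟨hUm, hUts⟩ := hU
  have hUts' : TS (plusQ m) U := (ts_iff m U).2 hUts
  obtain ⟨W, hWts, hWm, hUW⟩ := exists_max_ts m U hUts' (by omega)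
  obtain ⟨W', hW'ts, hW'm, hUW', hne, huniq⟩ :=
    two_extensions (plusQ_nondegenerate m) (finrank_plus m) hUm hWts hWm hUW
  rw [Nat.card_eq_two_iff]
  refine ⟨⟨W, hWm, (ts_iff m W).1 hWts, hUW⟩, ⟨W', hW'm, (ts_iff m W').1 hW'ts, hUW'⟩, ?_, ?_⟩
  · intro h
    exact hne (congrArg Subtype.val h).symm
  · ext ⟨T, hTm, hTts, hUT⟩
    simp only [Set.mem_insert_iff, Set.mem_singleton_iff, Set.mem_univ, iff_true, Subtype.mk.injEq]
    exact huniq T ((ts_iff m T).2 hTts) hTm hUT

end Cfsg.Agent.Lib.Helper25.MaxTS
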