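/-
helper25: definitions for S3797 (Thompson: soluble groups with one class of involutions).
Group level: `Hyp` (the S-free hypothesis package), `invSub`, `K2 = O_{2,2'}`, the configuration
structures `Cfg`, `KCfg`, `Crit`.  Module level: polar form `pol`, `QCtx` (anisotropic quadratic map
between elementary abelian 2-groups), `isom`, `fixedPts`, `commSub`.
-/
import Mathlib
import Cfsg.Prelude.Def_Local

set_option autoImplicit false

namespace Cfsg.Agent.Lib.Helper25.TS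

open scoped commutatorElement

/-! ### group level -/

/-- The hypotheses of S3797 without reference to a Sylow subgroup: `G` soluble, all involutions
conjugate, and there are two distinct commuting involutions. -/
structure Hyp (G : Type*) [Group G] : Prop where
  sol : Group.IsSolvable G
  conj : ∀ x y : G, x ≠ 1 → x ^ 2 = 1 → y ≠ 1 → y ^ 2 = 1 → IsConj x y
  two : ∃ x y : G, x ≠ y ∧ x ≠ 1 ∧ x ^ 2 = 1 ∧ y ≠ 1 ∧ y ^ 2 = 1 ∧ x * y = y * x

/-- the subgroup generated by the involutions -/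
def invSub (G : Type*) [Group G] : Subgroup G := Subgroup.closure {x : G | x ^ 2 = 1}

/-- `O_{2,2'}(G)`: the preimage of `O_{2'}(G / O_2(G))`. -/
def K2 (G : Type*) [Group G] : Subgroup G :=
  (Cfsg.pPrimeCore 2 (G ⧸ Cfsg.pCore 2 G)).comap (QuotientGroup.mk' (Cfsg.pCore 2 G))

/-- The standing configuration after the first reductions (`O(G) = 1`): `T = O_2(G)` is
self-centralizing and `E` = the set of all `x` with `x ^ 2 = 1` is a subgroup of `Z(T)`. -/
structure Cfg (G : Type*) [Group G] (T E : Subgroup G) : Prop where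
  hyp : Hyp G
  T_normal : T.Normal
  T_two : IsPGroup 2 T
  T_max : ∀ R : Subgroup G, R.Normal → IsPGroup 2 R → R ≤ T
  cent_T : Subgroup.centralizer (T : Set G) ≤ T
  odd_normal : ∀ R : Subgroup G, R.Normal → Odd (Nat.card R) → R = ⊥
  mem_E : ∀ x : G, x ∈ E ↔ x ^ 2 = 1
  E_le : E ≤ T
  E_central : ∀ e ∈ E, ∀ t ∈ T, e * t = t * e

/-- `K` plays the role of `O_{2,2'}(G)` over `T = O_2(G)`. -/
structure KCfg {G : Type*} [Group G] (T K : Subgroup G) : Prop where
  K_normal : K.Normal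
  T_le : T ≤ K
  odd : Odd (T.relIndex K)
  max : ∀ R : Subgroup G, R.Normal → T ≤ R → Odd (T.relIndex R) → R ≤ K

/-- `C` is a (Thompson) critical subgroup of the normal 2-subgroup `T` of `G`. -/
structure Crit {G : Type*} [Group G] (T C : Subgroup G) : Prop where
  le : C ≤ T
  normal : C.Normal
  sq : ∀ x ∈ C, ∀ y ∈ C, x ^ 2 * y = y * x ^ 2
  comm : ∀ t ∈ T, ∀ x ∈ C, ∀ y ∈ C, ⁅t, x⁆ * y = y * ⁅t, x⁆
  self_cent : T ⊓ Subgroup.centralizer (C : Set G) ≤ C
  odd_faithful : ∀ g : G, Odd (orderOf g) → (∀ x ∈ C, g * x = x * g) → ∀ t ∈ T, g * t = t * g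

namespace Cfg

variable {G : Type*} [Group G] {T E : Subgroup G}

theorem E_normal (c : Cfg G T E) : E.Normal := by
  refine ⟨fun x hx g => ?_⟩
  rw [c.mem_E] at hx ⊢
  rw [conj_pow, hx, mul_one, mul_inv_cancel]

theorem E_comm (c : Cfg G T E) : ∀ a ∈ E, ∀ b ∈ E, a * b = b * a :=
  fun a ha b hb => c.E_central a ha b (c.E_le hb)

theorem T_le_centralizer (c : Cfg G T E) : T ≤ Subgroup.centralizer (E : Set G) := by
  intro t ht
  rw [Subgroup.mem_centralizer_iff]
  intro e he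
  exact c.E_central e he t ht

theorem trans (c : Cfg G T E) : ∀ x ∈ E, ∀ y ∈ E, x ≠ 1 → y ≠ 1 → ∃ g : G, g * x * g⁻¹ = y := by
  intro x hx y hy hx1 hy1
  have h := c.hyp.conj x y hx1 ((c.mem_E x).mp hx) hy1 ((c.mem_E y).mp hy)
  obtain ⟨g, hg⟩ := isConj_iff.mp h
  exact ⟨g, hg⟩

theorem exists_two (c : Cfg G T E) :
    ∃ x ∈ E, ∃ y ∈ E, x ≠ y ∧ x ≠ 1 ∧ y ≠ 1 := by
  obtain ⟨x, y, hxy, hx1, hx2, hy1, hy2, -⟩ := c.hyp.two
  exact ⟨x, (c.mem_E x).mpr hx2, y, (c.mem_E y).mpr hy2, hxy, hx1, hy1⟩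

/-- "irreducibility": a normal subgroup of `G` inside `E` is `⊥` or `E`. -/
theorem eq_bot_or_eq_of_normal (c : Cfg G T E) (D : Subgroup G) (hD : D.Normal) (hDE : D ≤ E) :
    D = ⊥ ∨ D = E := by
  by_cases h : D = ⊥
  · exact Or.inl h
  · right
    obtain ⟨d, hd, hd1⟩ := (Subgroup.ne_bot_iff_exists_ne_one.mp h) |> fun ⟨⟨d, hd⟩, h1⟩ =>
      (⟨d, hd, fun h' => h1 (Subtype.ext h')⟩ : ∃ d, d ∈ D ∧ d ≠ 1)
    apply le_antisymm hDE
    intro e he
    by_cases he1 : e = 1
    · rw [he1]; exact D.one_mem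
    · obtain ⟨g, hg⟩ := c.trans d (hDE hd) e he hd1 he1
      rw [← hg]
      exact hD.conj_mem d hd g

end Cfg

/-! ### module level -/

section module

variable {V E : Type*} [AddCommGroup V] [AddCommGroup E]

/-- the polar form of `q` -/
def pol (q : V → E) (x y : V) : E := q (x + y) - q x - q y

/-- `q : V → E` is an anisotropic quadratic map between elementary abelian 2-groups. -/
structure QCtx (q : V → E) : Prop where
  two_V : ∀ v : V, v + v = 0
  two_E : ∀ e : E, e + e = 0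
  pol_add : ∀ x y z : V, pol q (x + y) z = pol q x z + pol q y z
  aniso : ∀ v : V, q v = 0 → v = 0

variable {Γ : Type*} [Group Γ] [DistribMulAction Γ V]

/-- the isometry group of `q` inside `Γ` -/
def isom (Γ : Type*) [Group Γ] [DistribMulAction Γ V] (q : V → E) : Subgroup Γ where
  carrier := {g | ∀ v : V, q (g • v) = q v}
  one_mem' := by intro v; rw [one_smul]
  mul_mem' := by
    intro a b ha hb v
    rw [mul_smul, ha, hb]
  inv_mem' := by
    intro a ha v
    have h := ha (a⁻¹ • v)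
    rw [smul_inv_smul] at h
    exact h.symm

omit [AddCommGroup E] in
theorem mem_isom (q : V → E) (g : Γ) : g ∈ isom Γ q ↔ ∀ v : V, q (g • v) = q v := Iff.rfl

/-- `C_V(Y)` -/
def fixedPts (Y : Subgroup Γ) : AddSubgroup V where
  carrier := {v | ∀ y ∈ Y, y • v = v}
  zero_mem' := by intro y _; rw [smul_zero]
  add_mem' := by
    intro a b ha hb y hy
    rw [smul_add, ha y hy, hb y hy]
  neg_mem' := by
    intro a ha y hy
    rw [smul_neg, ha y hy]

theorem mem_fixedPts (Y : Subgroup Γ) (v : V) : v ∈ fixedPts Y ↔ ∀ y ∈ Y, y • v = v := Iff.rfl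

/-- `[V, Y]` -/
def commSub (Y : Subgroup Γ) : AddSubgroup V :=
  AddSubgroup.closure {w : V | ∃ y ∈ Y, ∃ v : V, w = y • v - v}

theorem smul_sub_mem_commSub (Y : Subgroup Γ) {y : Γ} (hy : y ∈ Y) (v : V) :
    y • v - v ∈ commSub Y :=
  AddSubgroup.subset_closure ⟨y, hy, v, rfl⟩

/-- `C_F(X)` -/
def cen (F X : Subgroup Γ) : Subgroup Γ := F ⊓ Subgroup.centralizer (X : Set Γ)

theorem mem_cen (F X : Subgroup Γ) (f : Γ) : f ∈ cen F X ↔ f ∈ F ∧ ∀ x ∈ X, x * f = f * x := by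
  unfold cen
  rw [Subgroup.mem_inf, Subgroup.mem_centralizer_iff]
  rfl

/-- `U₀` is a hyperplane (subgroup of index 2) of `U` -/
def IsHyp (U₀ U : Subgroup Γ) : Prop := U₀ ≤ U ∧ U₀.relIndex U = 2

/-- The abstract configuration: `Γ` acts faithfully on `V`; `F` (odd order) and the elementary abelian
2-group `U ≠ 1` act by isometries of the anisotropic quadratic map `q : V → E`; `U` normalizes `F` and acts
faithfully on it; `B` normalizes `F` and `U`, fixes no non-identity element of `U`, and is transitive on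
`E ∖ 0` through `q`. -/
structure ActCtx (q : V → E) (F U B : Subgroup Γ) : Prop where
  hq : QCtx q
  faithful : ∀ g : Γ, (∀ v : V, g • v = v) → g = 1
  F_odd : Odd (Nat.card F)
  F_isom : F ≤ isom Γ q
  U_isom : U ≤ isom Γ q
  U_two : ∀ u ∈ U, u * u = 1
  U_ne : U ≠ ⊥
  U_norm : ∀ u ∈ U, ∀ f ∈ F, u * f * u⁻¹ ∈ F
  U_faithful : ∀ u ∈ U, (∀ f ∈ F, u * f = f * u) → u = 1
  B_normF : ∀ b ∈ B, ∀ f ∈ F, b * f * b⁻¹ ∈ F
  B_normU : ∀ b ∈ B, ∀ u ∈ U, b * u * b⁻¹ ∈ U
  B_fix : ∀ u ∈ U, (∀ b ∈ B, b * u = u * b) → u = 1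
  trans : ∀ e e' : E, e ≠ 0 → e' ≠ 0 →
    ∃ b ∈ B, ∃ s : E → E, s e = e' ∧ ∀ v : V, q (b • v) = s (q v)

end module

end Cfsg.Agent.Lib.Helper25.TS
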