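import Mathlib

set_option autoImplicit false

/-!
# Weyl systems over a finite symplectic space (towards the Weil representation, for S2347)

`Setting F V`: an alternating nondegenerate bilinear form `B` on an `F`-space `V`, `2 ≠ 0` in `F`, and an additive character
`ψ : F → ℂ` all of whose dilates `s ↦ ψ (a s)`, `a ≠ 0`, are nontrivial.
`S.χ u v = ψ (B u v / 2)` (half bicharacter), `S.β u v = ψ (B u v)` (bicharacter).
`S.Weyl M`: operators `W v` on a complex vector space `M` with `W 0 = 1`, `W u * W v = χ u v • W (u + v)`.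
`S.model Y` (for a submodule `Y ≤ V`): the functions `f : V → ℂ` with `f (y + v) = χ v y * f v` for `y ∈ Y`; it carries the Weyl
system `S.modelW Y`, `(W u f) v = χ v u * f (v + u)`, and the operators `S.liftEnd g`, `f ↦ f ∘ g⁻¹`, for the isometries `g`
stabilising `Y`.
-/

namespace Cfsg.Agent.Lib.Helper25.Weil

variable {F V : Type*} [Field F] [AddCommGroup V] [Module F V]

/-- symplectic data with an additive character -/
structure Setting (F V : Type*) [Field F] [AddCommGroup V] [Module F V] where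
  /-- the form -/
  B : V →ₗ[F] V →ₗ[F] F
  alt : ∀ x, B x x = 0
  nondeg : ∀ x, (∀ y, B x y = 0) → x = 0
  two_ne : (2 : F) ≠ 0
  /-- the character -/
  ψ : AddChar F ℂ
  prim : ∀ a : F, a ≠ 0 → ∃ s : F, ψ (a * s) ≠ 1

namespace Setting

variable (S : Setting F V)

theorem B_swap (u v : V) : S.B u v = -S.B v u := by
  have h := S.alt (u + v)
  simp only [map_add, LinearMap.add_apply, S.alt, zero_add, add_zero] at h
  exact eq_neg_of_add_eq_zero_left (by rw [add_comm]; exact h)

/-- the half bicharacter `ψ (B u v / 2)` -/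
noncomputable def χ (u v : V) : ℂ := S.ψ (2⁻¹ * S.B u v)

/-- the bicharacter `ψ (B u v)` -/
noncomputable def β (u v : V) : ℂ := S.ψ (S.B u v)

theorem χ_add_left (u u' v : V) : S.χ (u + u') v = S.χ u v * S.χ u' v := by
  unfold χ
  rw [map_add, LinearMap.add_apply, mul_add, AddChar.map_add_eq_mul]

theorem χ_add_right (u v v' : V) : S.χ u (v + v') = S.χ u v * S.χ u v' := by
  unfold χ
  rw [map_add, mul_add, AddChar.map_add_eq_mul]

theorem χ_zero_left (v : V) : S.χ 0 v = 1 := by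
  unfold χ
  rw [map_zero, LinearMap.zero_apply, mul_zero, AddChar.map_zero_eq_one]

theorem χ_zero_right (u : V) : S.χ u 0 = 1 := by
  unfold χ
  rw [map_zero, mul_zero, AddChar.map_zero_eq_one]

theorem χ_self (u : V) : S.χ u u = 1 := by
  unfold χ
  rw [S.alt, mul_zero, AddChar.map_zero_eq_one]

theorem χ_swap (u v : V) : S.χ u v * S.χ v u = 1 := by
  unfold χ
  rw [← AddChar.map_add_eq_mul, S.B_swap u v, mul_neg, neg_add_cancel, AddChar.map_zero_eq_one]

theorem χ_ne_zero (u v : V) : S.χ u v ≠ 0 := by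
  intro h
  have := S.χ_swap u v
  rw [h, zero_mul] at this
  exact zero_ne_one this

theorem χ_neg_left (u v : V) : S.χ (-u) v = (S.χ u v)⁻¹ := by
  have h := S.χ_add_left u (-u) v
  rw [add_neg_cancel, χ_zero_left] at h
  exact eq_inv_of_mul_eq_one_right h.symm

theorem χ_neg_right (u v : V) : S.χ u (-v) = (S.χ u v)⁻¹ := by
  have h := S.χ_add_right u v (-v)
  rw [add_neg_cancel, χ_zero_right] at h
  exact eq_inv_of_mul_eq_one_right h.symm

theorem χ_swap' (u v : V) : S.χ v u = (S.χ u v)⁻¹ :=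
  eq_inv_of_mul_eq_one_right (S.χ_swap u v)

theorem χ_mul_self (u v : V) : S.χ u v * S.χ u v = S.β u v := by
  unfold χ β
  rw [← AddChar.map_add_eq_mul, ← two_mul, ← mul_assoc, mul_inv_cancel₀ S.two_ne, one_mul]

theorem χ_of_B_eq_zero {u v : V} (h : S.B u v = 0) : S.χ u v = 1 := by
  unfold χ
  rw [h, mul_zero, AddChar.map_zero_eq_one]

theorem β_add_left (u u' v : V) : S.β (u + u') v = S.β u v * S.β u' v := by
  unfold β
  rw [map_add, LinearMap.add_apply, AddChar.map_add_eq_mul]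

theorem β_add_right (u v v' : V) : S.β u (v + v') = S.β u v * S.β u v' := by
  unfold β
  rw [map_add, AddChar.map_add_eq_mul]

theorem β_zero_left (v : V) : S.β 0 v = 1 := by
  unfold β
  rw [map_zero, LinearMap.zero_apply, AddChar.map_zero_eq_one]

theorem β_zero_right (u : V) : S.β u 0 = 1 := by
  unfold β
  rw [map_zero, AddChar.map_zero_eq_one]

theorem β_swap (u v : V) : S.β u v * S.β v u = 1 := by
  unfold β
  rw [← AddChar.map_add_eq_mul, S.B_swap u v, neg_add_cancel, AddChar.map_zero_eq_one]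

theorem β_ne_zero (u v : V) : S.β u v ≠ 0 := by
  intro h
  have := S.β_swap u v
  rw [h, zero_mul] at this
  exact zero_ne_one this

/-- for `x ≠ 0` the character `u ↦ β u x` is non-trivial -/
theorem exists_β_ne_one {x : V} (hx : x ≠ 0) : ∃ u : V, S.β u x ≠ 1 := by
  have h1 : ¬ ∀ y, S.B x y = 0 := fun h => hx (S.nondeg x h)
  obtain ⟨y, hy⟩ := not_forall.mp h1
  have hy' : S.B y x ≠ 0 := by
    rw [S.B_swap]
    exact neg_ne_zero.mpr hy
  obtain ⟨s, hs⟩ := S.prim _ hy'
  refine ⟨s • y, ?_⟩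
  unfold β
  rw [map_smul, LinearMap.smul_apply, smul_eq_mul, mul_comm]
  exact hs

theorem sum_ψ_mul [Fintype F] {a : F} (ha : a ≠ 0) : ∑ s : F, S.ψ (a * s) = 0 := by
  obtain ⟨t, ht⟩ := S.prim a ha
  have h : (∑ s : F, S.ψ (a * s)) * S.ψ (a * t) = ∑ s : F, S.ψ (a * s) := by
    rw [Finset.sum_mul]
    refine Fintype.sum_equiv (Equiv.addRight t) _ _ (fun s => ?_)
    rw [← AddChar.map_add_eq_mul, ← mul_add]
    rfl
  have h2 : (∑ s : F, S.ψ (a * s)) * (S.ψ (a * t) - 1) = 0 := by
    rw [mul_sub, h, mul_one, sub_self]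
  rcases mul_eq_zero.mp h2 with h3 | h3
  · exact h3
  · exact absurd (sub_eq_zero.mp h3) ht

theorem sum_β_left [Fintype V] {x : V} (hx : x ≠ 0) : ∑ u : V, S.β u x = 0 := by
  obtain ⟨t, ht⟩ := S.exists_β_ne_one hx
  have h : (∑ u : V, S.β u x) * S.β t x = ∑ u : V, S.β u x := by
    rw [Finset.sum_mul]
    refine Fintype.sum_equiv (Equiv.addRight t) _ _ (fun s => ?_)
    rw [← β_add_left]
    rfl
  have h2 : (∑ u : V, S.β u x) * (S.β t x - 1) = 0 := by
    rw [mul_sub, h, mul_one, sub_self]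
  rcases mul_eq_zero.mp h2 with h3 | h3
  · exact h3
  · exact absurd (sub_eq_zero.mp h3) ht

/-- a Weyl system on `M` -/
structure Weyl (M : Type*) [AddCommGroup M] [Module ℂ M] where
  /-- the Weyl operators -/
  W : V → Module.End ℂ M
  W_zero : W 0 = 1
  W_mul : ∀ u v, W u * W v = S.χ u v • W (u + v)

namespace Weyl

variable {S} {M : Type*} [AddCommGroup M] [Module ℂ M] (𝒲 : S.Weyl M)

theorem W_mul_neg (v : V) : 𝒲.W v * 𝒲.W (-v) = 1 := by
  rw [𝒲.W_mul, add_neg_cancel, 𝒲.W_zero, S.χ_neg_right, S.χ_self, inv_one, one_smul]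

theorem W_neg_mul (v : V) : 𝒲.W (-v) * 𝒲.W v = 1 := by
  rw [𝒲.W_mul, neg_add_cancel, 𝒲.W_zero, S.χ_neg_left, S.χ_self, inv_one, one_smul]

/-- the Weyl operators as units -/
def Wu (v : V) : (Module.End ℂ M)ˣ := ⟨𝒲.W v, 𝒲.W (-v), 𝒲.W_mul_neg v, 𝒲.W_neg_mul v⟩

theorem W_comm (u v : V) : 𝒲.W u * 𝒲.W v = S.β u v • (𝒲.W v * 𝒲.W u) := by
  rw [𝒲.W_mul, 𝒲.W_mul, add_comm v u, smul_smul, ← S.χ_mul_self, mul_assoc, S.χ_swap, mul_one]

theorem W_mul_of_B_eq_zero {u v : V} (h : S.B u v = 0) : 𝒲.W u * 𝒲.W v = 𝒲.W (u + v) := by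
  rw [𝒲.W_mul, S.χ_of_B_eq_zero h, one_smul]

/-- `T` implements the map `e` of `V` -/
def Impl (e : V → V) (T : Module.End ℂ M) : Prop := ∀ v, T * 𝒲.W v = 𝒲.W (e v) * T

end Weyl

/-! ### The induced model -/

/-- the Weyl operator on all functions -/
noncomputable def WFun (u : V) : (V → ℂ) →ₗ[ℂ] (V → ℂ) where
  toFun f := fun v => S.χ v u * f (v + u)
  map_add' f g := by
    funext v
    simp only [Pi.add_apply, mul_add]
  map_smul' c f := by
    funext v
    simp only [Pi.smul_apply, smul_eq_mul, RingHom.id_apply]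
    ring

theorem WFun_apply (u : V) (f : V → ℂ) (v : V) : S.WFun u f v = S.χ v u * f (v + u) := rfl

/-- the space of the induced model attached to the submodule `Y` -/
def model (Y : Submodule F V) : Submodule ℂ (V → ℂ) where
  carrier := {f | ∀ y ∈ Y, ∀ v, f (y + v) = S.χ v y * f v}
  add_mem' := by
    intro f g hf hg y hy v
    simp only [Pi.add_apply, hf y hy v, hg y hy v, mul_add]
  zero_mem' := by
    intro y _ v
    simp only [Pi.zero_apply, mul_zero]
  smul_mem' := by
    intro c f hf y hy v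
    simp only [Pi.smul_apply, smul_eq_mul, hf y hy v]
    ring

theorem mem_model (Y : Submodule F V) (f : V → ℂ) :
    f ∈ S.model Y ↔ ∀ y ∈ Y, ∀ v, f (y + v) = S.χ v y * f v := Iff.rfl

theorem WFun_mem_model (Y : Submodule F V) (u : V) {f : V → ℂ} (hf : f ∈ S.model Y) :
    S.WFun u f ∈ S.model Y := by
  intro y hy v
  rw [WFun_apply, WFun_apply, add_assoc, hf y hy (v + u), χ_add_left, χ_add_left]
  have h1 : S.χ y u * S.χ u y = 1 := S.χ_swap y u
  calc S.χ y u * S.χ v u * (S.χ v y * S.χ u y * f (v + u))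
      = (S.χ y u * S.χ u y) * (S.χ v y * (S.χ v u * f (v + u))) := by ring
    _ = S.χ v y * (S.χ v u * f (v + u)) := by rw [h1, one_mul]

/-- the Weyl system of the induced model -/
noncomputable def modelW (Y : Submodule F V) : S.Weyl (S.model Y) where
  W u := (S.WFun u).restrict (fun _ hf => S.WFun_mem_model Y u hf)
  W_zero := by
    apply LinearMap.ext
    intro f
    apply Subtype.ext
    funext v
    show S.χ v 0 * (f : V → ℂ) (v + 0) = (f : V → ℂ) v
    rw [χ_zero_right, one_mul, add_zero]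
  W_mul u v := by
    apply LinearMap.ext
    intro f
    apply Subtype.ext
    funext x
    show S.χ x u * (S.χ (x + u) v * (f : V → ℂ) (x + u + v)) = S.χ u v * (S.χ x (u + v) * (f : V → ℂ) (x + (u + v)))
    rw [χ_add_left, χ_add_right, add_assoc]
    ring

theorem modelW_apply (Y : Submodule F V) (u : V) (f : S.model Y) (v : V) :
    (((S.modelW Y).W u f : S.model Y) : V → ℂ) v = S.χ v u * (f : V → ℂ) (v + u) := rfl

section lift

variable {G : Type*} [Group G] [DistribMulAction G V]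

/-- `f ↦ f ∘ g⁻¹` on all functions -/
def liftFun (g : G) : (V → ℂ) →ₗ[ℂ] (V → ℂ) where
  toFun f := fun v => f (g⁻¹ • v)
  map_add' _ _ := rfl
  map_smul' _ _ := rfl

theorem liftFun_apply (g : G) (f : V → ℂ) (v : V) : liftFun g f v = f (g⁻¹ • v) := rfl

end lift

namespace Weyl

variable {S} {M : Type*} [AddCommGroup M] [Module ℂ M] (𝒲 : S.Weyl M)

/-- the sum of all Weyl operators (`card V` to the one half times the parity operator) -/
noncomputable def E [Fintype V] : Module.End ℂ M := ∑ v : V, 𝒲.W v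

/-- the odd part: the eigenspace of `E` for the eigenvalue `-(finrank M)` -/
noncomputable def minus [Fintype V] : Submodule ℂ M :=
  LinearMap.ker (𝒲.E + (Module.finrank ℂ M : ℂ) • (1 : Module.End ℂ M))

theorem mem_minus [Fintype V] (x : M) :
    x ∈ 𝒲.minus ↔ 𝒲.E x + (Module.finrank ℂ M : ℂ) • x = 0 := by
  unfold minus
  rw [LinearMap.mem_ker, LinearMap.add_apply, LinearMap.smul_apply, Module.End.one_apply]

theorem Impl.mul {e e' : V → V} {T T' : Module.End ℂ M} (h : 𝒲.Impl e T) (h' : 𝒲.Impl e' T') :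
    𝒲.Impl (e ∘ e') (T * T') := by
  intro v
  rw [mul_assoc, h' v, ← mul_assoc, h (e' v), mul_assoc]
  rfl

theorem Impl.one : 𝒲.Impl id (1 : Module.End ℂ M) := by
  intro v
  rw [one_mul, mul_one]
  rfl

theorem Impl.smul {e : V → V} {T : Module.End ℂ M} (h : 𝒲.Impl e T) (c : ℂ) : 𝒲.Impl e (c • T) := by
  intro v
  rw [smul_mul_assoc, h v, mul_smul_comm]

/-- the group of the pairs `(g, T)` with `T` implementing `g` -/
def implGroup (G : Type*) [Group G] [MulAction G V] : Subgroup (G × (Module.End ℂ M)ˣ) where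
  carrier := {x | 𝒲.Impl (fun v => x.1 • v) (x.2 : Module.End ℂ M)}
  mul_mem' := by
    intro x y hx hy v
    have h := Impl.mul 𝒲 hx hy v
    rw [Prod.snd_mul, Units.val_mul, Prod.fst_mul]
    show _ = 𝒲.W ((x.1 * y.1) • v) * _
    rw [mul_smul]
    exact h
  one_mem' := by
    intro v
    rw [Prod.snd_one, Units.val_one, Prod.fst_one]
    show _ = 𝒲.W ((1 : G) • v) * _
    rw [one_smul, one_mul, mul_one]
  inv_mem' := by
    intro x hx v
    have h := hx (x.1⁻¹ • v)
    simp only [smul_inv_smul] at h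
    rw [Prod.snd_inv, Prod.fst_inv]
    calc ((x.2⁻¹ : (Module.End ℂ M)ˣ) : Module.End ℂ M) * 𝒲.W v
        = ((x.2⁻¹ : (Module.End ℂ M)ˣ) : Module.End ℂ M) * (𝒲.W v * (x.2 : Module.End ℂ M)) *
            ((x.2⁻¹ : (Module.End ℂ M)ˣ) : Module.End ℂ M) := by
          rw [mul_assoc, mul_assoc, Units.mul_inv, mul_one]
      _ = ((x.2⁻¹ : (Module.End ℂ M)ˣ) : Module.End ℂ M) *
            ((x.2 : Module.End ℂ M) * 𝒲.W (x.1⁻¹ • v)) *
            ((x.2⁻¹ : (Module.End ℂ M)ˣ) : Module.End ℂ M) := by rw [h]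
      _ = 𝒲.W (x.1⁻¹ • v) * ((x.2⁻¹ : (Module.End ℂ M)ˣ) : Module.End ℂ M) := by
          rw [← mul_assoc, Units.inv_mul, one_mul]

theorem mem_implGroup {G : Type*} [Group G] [MulAction G V] (x : G × (Module.End ℂ M)ˣ) :
    x ∈ 𝒲.implGroup G ↔ 𝒲.Impl (fun v => x.1 • v) (x.2 : Module.End ℂ M) := Iff.rfl

end Weyl

end Setting

end Cfsg.Agent.Lib.Helper25.Weil
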