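import Mathlib
import Cfsg.Agent.Lib.Helper25.WeilDefs

set_option autoImplicit false

/-! # S2347 leaf WA: the Weyl operators are linearly independent -/

open Cfsg.Agent.Lib.Helper25.Weil Module

namespace Cfsg.Agent.Lib.Helper25.WeilLeaf

variable {F V : Type*} [Field F] [AddCommGroup V] [Module F V] {S : Setting F V}
variable {M : Type*} [AddCommGroup M] [Module ℂ M]

theorem β_neg_right (S : Setting F V) (u v : V) : S.β u (-v) = (S.β u v)⁻¹ := by
  have h := S.β_add_right u v (-v)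
  rw [add_neg_cancel, S.β_zero_right] at h
  exact eq_inv_of_mul_eq_one_right h.symm

theorem β_sub_right (S : Setting F V) (u v w : V) : S.β u (v - w) = S.β u v * (S.β u w)⁻¹ := by
  rw [sub_eq_add_neg, S.β_add_right, β_neg_right]

/-- conjugation of a Weyl operator by another one -/
theorem W_conj (𝒲 : S.Weyl M) (u v : V) : 𝒲.W u * 𝒲.W v * 𝒲.W (-u) = S.β u v • 𝒲.W v := by
  rw [𝒲.W_comm u v, smul_mul_assoc, mul_assoc, 𝒲.W_mul_neg, mul_one]

theorem sum_β_eq [Fintype V] [DecidableEq V] (S : Setting F V) (x : V) :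
    ∑ u : V, S.β u x = if x = 0 then (Fintype.card V : ℂ) else 0 := by
  split_ifs with h
  · subst h
    simp only [S.β_zero_right, Finset.sum_const, Finset.card_univ, nsmul_eq_mul, mul_one]
  · exact S.sum_β_left h

theorem W_ne_zero [Nontrivial M] (𝒲 : S.Weyl M) (v : V) : 𝒲.W v ≠ 0 := by
  intro h
  have h1 := 𝒲.W_mul_neg v
  rw [h, zero_mul] at h1
  exact zero_ne_one h1

theorem linearIndependent_W [Fintype V] [Nontrivial M] (𝒲 : S.Weyl M) : LinearIndependent ℂ 𝒲.W := by
  classical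
  rw [Fintype.linearIndependent_iff]
  intro c hc v₀
  have h1 : ∀ u : V, ∑ v : V, (c v * S.β u v) • 𝒲.W v = 0 := by
    intro u
    have h2 : 𝒲.W u * (∑ v : V, c v • 𝒲.W v) * 𝒲.W (-u) = 0 := by
      rw [hc, mul_zero, zero_mul]
    rw [Finset.mul_sum, Finset.sum_mul] at h2
    rw [← h2]
    refine Finset.sum_congr rfl (fun v _ => ?_)
    rw [mul_smul_comm, smul_mul_assoc, W_conj, smul_smul]
  have h3 : ∑ u : V, (S.β u v₀)⁻¹ • ∑ v : V, (c v * S.β u v) • 𝒲.W v = 0 := by
    apply Finset.sum_eq_zero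
    intro u _
    rw [h1 u, smul_zero]
  have h4 : ∑ u : V, (S.β u v₀)⁻¹ • ∑ v : V, (c v * S.β u v) • 𝒲.W v =
      ∑ v : V, (c v * ∑ u : V, S.β u (v - v₀)) • 𝒲.W v := by
    simp only [Finset.smul_sum]
    rw [Finset.sum_comm]
    refine Finset.sum_congr rfl (fun v _ => ?_)
    rw [Finset.mul_sum, Finset.sum_smul]
    refine Finset.sum_congr rfl (fun u _ => ?_)
    rw [smul_smul, β_sub_right]
    congr 1
    ring
  rw [h4] at h3
  have h5 : ∑ v : V, (c v * ∑ u : V, S.β u (v - v₀)) • 𝒲.W v =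
      (c v₀ * (Fintype.card V : ℂ)) • 𝒲.W v₀ := by
    rw [Finset.sum_eq_single v₀]
    · rw [sub_self, sum_β_eq, if_pos rfl]
    · intro v _ hv
      rw [sum_β_eq, if_neg (sub_ne_zero.mpr hv), mul_zero, zero_smul]
    · intro h
      exact absurd (Finset.mem_univ v₀) h
  rw [h5] at h3
  rcases smul_eq_zero.mp h3 with h6 | h6
  · rcases mul_eq_zero.mp h6 with h7 | h7
    · exact h7
    · exfalso
      have : (Fintype.card V : ℂ) ≠ 0 := by
        rw [Nat.cast_ne_zero]
        exact Fintype.card_ne_zero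
      exact this h7
  · exact absurd h6 (W_ne_zero 𝒲 v₀)

end Cfsg.Agent.Lib.Helper25.WeilLeaf
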