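import Mathlib
import Cfsg.Agent.Lib.Helper25.WeilDefs
import Cfsg.Agent.Lib.Helper25.WeilA

set_option autoImplicit false

/-! # S2347 leaf WB: the Weyl operators span `End M` when `(dim M)² = |V|`; Schur's lemma for a Weyl system -/

open Cfsg.Agent.Lib.Helper25.Weil Module

namespace Cfsg.Agent.Lib.Helper25.WeilLeaf

variable {F V : Type*} [Field F] [AddCommGroup V] [Module F V] {S : Setting F V}
variable {M : Type*} [AddCommGroup M] [Module ℂ M]

theorem exists_eq_sum [Fintype V] (𝒲 : S.Weyl M) (hli : LinearIndependent ℂ 𝒲.W)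
    (hN : finrank ℂ M * finrank ℂ M = Fintype.card V) (T : Module.End ℂ M) :
    ∃ c : V → ℂ, T = ∑ v, c v • 𝒲.W v := by
  have hpos : 0 < finrank ℂ M := by
    have h1 : 0 < Fintype.card V := Fintype.card_pos
    rw [← hN] at h1
    exact Nat.pos_of_mul_pos_right h1
  have hfin : Module.Finite ℂ M := Module.finite_of_finrank_pos hpos
  have hcard : Fintype.card V = finrank ℂ (Module.End ℂ M) := by
    rw [Module.finrank_linearMap, hN]
  have hspan := hli.span_eq_top_of_card_eq_finrank' hcard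
  have hT : T ∈ Submodule.span ℂ (Set.range 𝒲.W) := by
    rw [hspan]
    trivial
  obtain ⟨c, hc⟩ := (Submodule.mem_span_range_iff_exists_fun ℂ).mp hT
  exact ⟨c, hc.symm⟩

theorem schur [Fintype V] (𝒲 : S.Weyl M) (hli : LinearIndependent ℂ 𝒲.W)
    (hspan : ∀ T : Module.End ℂ M, ∃ c : V → ℂ, T = ∑ v, c v • 𝒲.W v)
    (T : Module.End ℂ M) (hT : ∀ v, T * 𝒲.W v = 𝒲.W v * T) : ∃ c : ℂ, T = c • 1 := by
  classical
  obtain ⟨c, hc⟩ := hspan T
  have h1 : ∀ u : V, ∑ v : V, (c v * S.β u v - c v) • 𝒲.W v = 0 := by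
    intro u
    have h2 : 𝒲.W u * T * 𝒲.W (-u) = T := by
      rw [← hT u, mul_assoc, 𝒲.W_mul_neg, mul_one]
    have h3 : 𝒲.W u * T * 𝒲.W (-u) = ∑ v : V, (c v * S.β u v) • 𝒲.W v := by
      rw [hc, Finset.mul_sum, Finset.sum_mul]
      refine Finset.sum_congr rfl (fun v _ => ?_)
      rw [mul_smul_comm, smul_mul_assoc, W_conj, smul_smul]
    have h4 : ∑ v : V, (c v * S.β u v) • 𝒲.W v = ∑ v : V, c v • 𝒲.W v := by
      rw [← h3, h2, hc]
    rw [← sub_eq_zero, ← Finset.sum_sub_distrib] at h4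
    rw [← h4]
    refine Finset.sum_congr rfl (fun v _ => ?_)
    rw [sub_smul]
  have h5 : ∀ v : V, v ≠ 0 → c v = 0 := by
    intro v hv
    obtain ⟨u, hu⟩ := S.exists_β_ne_one hv
    have h6 := Fintype.linearIndependent_iff.mp hli _ (h1 u) v
    have h7 : c v * (S.β u v - 1) = 0 := by
      rw [mul_sub, mul_one]
      exact h6
    rcases mul_eq_zero.mp h7 with h8 | h8
    · exact h8
    · exact absurd (sub_eq_zero.mp h8) hu
  refine ⟨c 0, ?_⟩
  rw [hc, Finset.sum_eq_single (0 : V)]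
  · rw [𝒲.W_zero]
  · intro v _ hv
    rw [h5 v hv, zero_smul]
  · intro h
    exact absurd (Finset.mem_univ (0 : V)) h

end Cfsg.Agent.Lib.Helper25.WeilLeaf
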