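import Mathlib
import Cfsg.Agent.Lib.Helper25.WeilDefs

set_option autoImplicit false

/-! # S2347 leaf WD1: the operator `E = ∑ W v` squares to `|V|` and commutes with all implementing operators -/

open Cfsg.Agent.Lib.Helper25.Weil Module

namespace Cfsg.Agent.Lib.Helper25.WeilLeaf

variable {F V : Type*} [Field F] [AddCommGroup V] [Module F V] {S : Setting F V}
variable {M : Type*} [AddCommGroup M] [Module ℂ M]

theorem exists_χ_ne_one (S : Setting F V) {w : V} (hw : w ≠ 0) : ∃ t : V, S.χ t w ≠ 1 := by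
  by_contra h
  have h1 : ∀ t, S.χ t w = 1 := by
    intro t
    by_contra h2
    exact h ⟨t, h2⟩
  obtain ⟨u, hu⟩ := S.exists_β_ne_one hw
  apply hu
  rw [← S.χ_mul_self, h1 u, mul_one]

theorem sum_χ_left [Fintype V] (S : Setting F V) {w : V} (hw : w ≠ 0) : ∑ u : V, S.χ u w = 0 := by
  obtain ⟨t, ht⟩ := exists_χ_ne_one S hw
  have h : (∑ u : V, S.χ u w) * S.χ t w = ∑ u : V, S.χ u w := by
    rw [Finset.sum_mul]
    refine Fintype.sum_equiv (Equiv.addRight t) _ _ (fun s => ?_)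
    rw [← S.χ_add_left]
    rfl
  have h2 : (∑ u : V, S.χ u w) * (S.χ t w - 1) = 0 := by
    rw [mul_sub, h, mul_one, sub_self]
  rcases mul_eq_zero.mp h2 with h3 | h3
  · exact h3
  · exact absurd (sub_eq_zero.mp h3) ht

theorem E_mul_E [Fintype V] (𝒲 : S.Weyl M) : 𝒲.E * 𝒲.E = (Fintype.card V : ℂ) • 1 := by
  classical
  unfold Setting.Weyl.E
  rw [Finset.sum_mul]
  have h1 : ∀ u : V, 𝒲.W u * ∑ v : V, 𝒲.W v = ∑ w : V, S.χ u w • 𝒲.W w := by
    intro u
    rw [Finset.mul_sum]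
    refine Fintype.sum_equiv (Equiv.addLeft u) _ _ (fun v => ?_)
    rw [𝒲.W_mul]
    show S.χ u v • 𝒲.W (u + v) = S.χ u (u + v) • 𝒲.W (u + v)
    rw [S.χ_add_right, S.χ_self, one_mul]
  simp only [h1]
  rw [Finset.sum_comm]
  simp only [← Finset.sum_smul]
  rw [Finset.sum_eq_single (0 : V)]
  · simp only [S.χ_zero_right, Finset.sum_const, Finset.card_univ, nsmul_eq_mul, mul_one]
    rw [𝒲.W_zero]
  · intro w _ hw
    rw [sum_χ_left S hw, zero_smul]
  · intro h
    exact absurd (Finset.mem_univ (0 : V)) h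

theorem E_comm_of_impl [Fintype V] (𝒲 : S.Weyl M) {e : V → V} (he : Function.Bijective e)
    {T : Module.End ℂ M} (hT : 𝒲.Impl e T) : T * 𝒲.E = 𝒲.E * T := by
  unfold Setting.Weyl.E
  rw [Finset.mul_sum, Finset.sum_mul]
  have h1 : ∑ v : V, T * 𝒲.W v = ∑ v : V, 𝒲.W (e v) * T :=
    Finset.sum_congr rfl (fun v _ => hT v)
  rw [h1]
  exact he.sum_comp (fun v => 𝒲.W v * T)

end Cfsg.Agent.Lib.Helper25.WeilLeaf
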