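import Mathlib
import Cfsg.Agent.Lib.Helper25.WeilDefs

set_option autoImplicit false

/-! # S2347 leaf WI (backup by helper25): the stabiliser of `Y` acts on the induced model -/

open Cfsg.Agent.Lib.Helper25.Weil Module

namespace Cfsg.Agent.Lib.Helper25.WeilLeaf

variable {F V : Type*} [Field F] [AddCommGroup V] [Module F V] {S : Setting F V}
variable {M : Type*} [AddCommGroup M] [Module ℂ M]

theorem χ_smul_smul (S : Setting F V) {P : Type*} [Group P] [DistribMulAction P V]
    (hiso : ∀ (g : P) (u v : V), S.B (g • u) (g • v) = S.B u v) (g : P) (u v : V) :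
    S.χ (g • u) (g • v) = S.χ u v := by
  unfold Setting.χ
  rw [hiso]

theorem liftFun_mem_model (S : Setting F V) {P : Type*} [Group P] [DistribMulAction P V]
    (hiso : ∀ (g : P) (u v : V), S.B (g • u) (g • v) = S.B u v)
    (Y : Submodule F V) (hstab : ∀ (g : P), ∀ y ∈ Y, g • y ∈ Y) (g : P) {f : V → ℂ}
    (hf : f ∈ S.model Y) : Setting.liftFun g f ∈ S.model Y := by
  intro y hy v
  rw [Setting.liftFun_apply, Setting.liftFun_apply, smul_add, hf _ (hstab g⁻¹ y hy),
    χ_smul_smul S hiso]

theorem exists_lift (S : Setting F V) {P : Type*} [Group P] [DistribMulAction P V]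
    (hiso : ∀ (g : P) (u v : V), S.B (g • u) (g • v) = S.B u v)
    (Y : Submodule F V) (hstab : ∀ (g : P), ∀ y ∈ Y, g • y ∈ Y) :
    ∃ τ : P →* (Module.End ℂ (S.model Y))ˣ, ∀ g, (g, τ g) ∈ (S.modelW Y).implGroup P := by
  let τ₀ : P →* Module.End ℂ (S.model Y) :=
    { toFun := fun g => (Setting.liftFun g).restrict (fun _ hf => liftFun_mem_model S hiso Y hstab g hf)
      map_one' := by
        apply LinearMap.ext
        intro f
        apply Subtype.ext
        funext v
        show (f : V → ℂ) ((1 : P)⁻¹ • v) = (f : V → ℂ) v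
        rw [inv_one, one_smul]
      map_mul' := by
        intro g h
        apply LinearMap.ext
        intro f
        apply Subtype.ext
        funext v
        show (f : V → ℂ) ((g * h)⁻¹ • v) = (f : V → ℂ) (h⁻¹ • g⁻¹ • v)
        rw [mul_inv_rev, mul_smul] }
  refine ⟨τ₀.toHomUnits, ?_⟩
  intro g
  rw [Setting.Weyl.mem_implGroup]
  intro u
  show τ₀ g * (S.modelW Y).W u = (S.modelW Y).W (g • u) * τ₀ g
  apply LinearMap.ext
  intro f
  apply Subtype.ext
  funext v
  show S.χ (g⁻¹ • v) u * (f : V → ℂ) (g⁻¹ • v + u) = S.χ v (g • u) * (f : V → ℂ) (g⁻¹ • (v + g • u))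
  rw [smul_add, inv_smul_smul]
  congr 1
  have := χ_smul_smul S hiso g (g⁻¹ • v) u
  rw [smul_inv_smul] at this
  exact this.symm

end Cfsg.Agent.Lib.Helper25.WeilLeaf
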