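import Mathlib
import Cfsg.Agent.Lib.Helper25.WeilDefs
import Cfsg.Agent.Lib.Helper25.WeilA
import Cfsg.Agent.Lib.Helper25.WeilB
import Cfsg.Agent.Lib.Helper25.WeilD1
import Cfsg.Agent.Lib.Helper23.WeilC
import Cfsg.Agent.Lib.Helper6.WeilD2
import Cfsg.Agent.Lib.Helper6.WeilE
import Cfsg.Agent.Lib.Helper23.WeilF
import Cfsg.Agent.Lib.Helper9.WeilH
import Cfsg.Agent.Lib.Helper25.WeilI
import Cfsg.Agent.Lib.Helper7.WeilJ
import Cfsg.Agent.Lib.Helper18.WeilK
import Cfsg.Agent.Lib.Helper9.WeilL

set_option autoImplicit false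

/-!
# The Weil representation, abstractly (S2347, existence half)

A finite group `G` of isometries of a symplectic space `V` over a finite field of odd characteristic which is generated by
transvections and transitive on the non-zero vectors has an irreducible complex representation of degree `(N - 1) / 2`,
`N * N = |V|`.
-/

open Cfsg.Agent.Lib.Helper25.Weil Module
open Cfsg.Agent.Lib.Helper25.WeilLeaf Cfsg.Agent.Lib.Helper23.WeilLeaf Cfsg.Agent.Lib.Helper6.WeilLeaf
  Cfsg.Agent.Lib.Helper9.WeilLeaf Cfsg.Agent.Lib.Helper7.WeilLeaf Cfsg.Agent.Lib.Helper18.WeilLeaf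

namespace Cfsg.Agent.Lib.Helper25.WeilMain

variable {F V : Type*} [Field F] [AddCommGroup V] [Module F V] {S : Setting F V}
variable {M : Type*} [AddCommGroup M] [Module ℂ M]

/-! ### the abstract assembly -/

set_option linter.unusedSectionVars false in
set_option linter.unusedVariables false in
theorem exists_irreducible [Fintype F] [Fintype V] (S : Setting F V) {p : ℕ} [Fact p.Prime] [CharP F p]
    {G : Type*} [Group G] [Finite G] [DistribMulAction G V] [SMulCommClass G F V]
    (hiso : ∀ (g : G) (u v : V), S.B (g • u) (g • v) = S.B u v)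
    (hgen : Subgroup.closure {g : G | ∃ (w : V) (c : F), ∀ x : V, g • x = x + (c * S.B x w) • w} = ⊤)
    (htrans : ∀ u v : V, u ≠ 0 → v ≠ 0 → ∃ g : G, g • u = v)
    (N : ℕ) (hN : N * N = Fintype.card V) (hN3 : 3 ≤ N) :
    ∃ ρ : Representation ℂ G (Fin ((N - 1) / 2) → ℂ), ρ.IsIrreducible := by
  classical
  -- a Sylow subgroup and its Lagrangian
  obtain ⟨P⟩ : Nonempty (Sylow p G) := inferInstance
  have hPp : IsPGroup p (P : Subgroup G) := P.isPGroup'
  have hidx : ¬ p ∣ (P : Subgroup G).index := P.not_dvd_index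
  obtain ⟨Y, hYiso, hYstab, hYcard⟩ := exists_lagrangian S (P := (P : Subgroup G)) hPp
    (fun g u v => hiso (g : G) u v)
  -- the model
  have hcV : Nat.card V = Fintype.card V := Nat.card_eq_fintype_card
  have hfin := finrank_model S Y hYiso
  have hYpos : 0 < Nat.card Y := Nat.card_pos
  have hNY : N = Nat.card Y := by
    have h1 : N * N = Nat.card Y * Nat.card Y := by rw [hN, hYcard, hcV]
    exact Nat.mul_self_inj.mp h1
  have hfM : finrank ℂ (S.model Y) = N := by
    rw [← hYcard] at hfin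
    rw [hNY]
    exact Nat.eq_of_mul_eq_mul_right hYpos hfin
  have hNN : finrank ℂ (S.model Y) * finrank ℂ (S.model Y) = Fintype.card V := by
    rw [hfM, hN]
  have hnt : Nontrivial (S.model Y) := Module.nontrivial_of_finrank_pos (R := ℂ) (by rw [hfM]; omega)
  set 𝒲 := S.modelW Y with h𝒲
  have hli := linearIndependent_W 𝒲
  have hspan := exists_eq_sum 𝒲 hli hNN
  -- the finite rank is a power of p
  obtain ⟨a, ha⟩ : ∃ a, N = p ^ a := by
    obtain ⟨k, hp, hk⟩ := FiniteField.card F p
    have h1 : Fintype.card V = p ^ ((k : ℕ) * finrank F V) := by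
      rw [Module.card_eq_pow_finrank (K := F) (V := V), hk, pow_mul]
    have h2 : N ∣ p ^ ((k : ℕ) * finrank F V) := by
      rw [← h1, ← hN]
      exact Dvd.intro _ rfl
    obtain ⟨a, -, ha⟩ := (Nat.dvd_prime_pow hp).mp h2
    exact ⟨a, ha⟩
  -- the lift over the Sylow subgroup
  obtain ⟨τ, hτ⟩ := exists_lift S (P := (P : Subgroup G)) (fun g u v => hiso (g : G) u v) Y hYstab
  -- the homomorphism
  obtain ⟨ω, hω⟩ := exists_hom_of_projective p a (hfM.trans ha) (𝒲.implGroup G)
    (fun g => exists_impl 𝒲 hgen g)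
    (by
      intro c g T hT
      rw [Setting.Weyl.mem_implGroup] at hT ⊢
      exact Setting.Weyl.Impl.smul 𝒲 hT (c : ℂ))
    (by
      intro T hT
      rw [Setting.Weyl.mem_implGroup] at hT
      apply schur 𝒲 hli hspan
      intro v
      have := hT v
      simp only [one_smul] at this
      exact this)
    (P : Subgroup G) hPp hidx τ (fun g => hτ g)
  have hω' : ∀ g, 𝒲.Impl (fun v => g • v) (ω g : Module.End ℂ (S.model Y)) := fun g => hω g
  -- the odd part
  have hEE := E_mul_E 𝒲
  have hfm := finrank_minus 𝒲 hNN hEE (fun v hv => trace_W 𝒲 hv)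
  have hk : finrank ℂ 𝒲.minus = (N - 1) / 2 := by
    rw [hfM] at hfm
    omega
  have hEc : ∀ g, (ω g : Module.End ℂ (S.model Y)) * 𝒲.E = 𝒲.E * (ω g : Module.End ℂ (S.model Y)) :=
    fun g => E_comm_of_impl 𝒲 (MulAction.bijective g) (hω' g)
  have hinv : ∀ g, ∀ x ∈ 𝒲.minus, (ω g : Module.End ℂ (S.model Y)) x ∈ 𝒲.minus := by
    intro g x hx
    rw [Setting.Weyl.mem_minus] at hx ⊢
    have h1 : 𝒲.E ((ω g : Module.End ℂ (S.model Y)) x) =
        (ω g : Module.End ℂ (S.model Y)) (𝒲.E x) := by
      have := congrArg (fun T : Module.End ℂ (S.model Y) => T x) (hEc g)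
      exact this.symm
    rw [h1, ← map_smul, ← map_add, hx, map_zero]
  have hcomm : ∀ T : Module.End ℂ (S.model Y),
      (∀ g, T * (ω g : Module.End ℂ (S.model Y)) = (ω g : Module.End ℂ (S.model Y)) * T) →
      ∃ a b : ℂ, T = a • 1 + b • 𝒲.E := by
    intro T hT
    exact commutant 𝒲 hli hspan htrans (fun g => (ω g : Module.End ℂ (S.model Y))) hω'
      (fun g => (ω g).isUnit) T hT
  refine exists_rep_of_invariant ω 𝒲.minus hinv ?_ ((N - 1) / 2) hk (by omega)
  intro U' hU' hinv'
  exact minus_irreducible 𝒲 ω hcomm U' hU' hinv'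

end Cfsg.Agent.Lib.Helper25.WeilMain
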