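import Mathlib
import Cfsg.Agent.Lib.Helper25.WeilDefs
import Cfsg.Agent.Lib.Helper5.SympGen2
import Cfsg.Agent.Lib.Helper25.WeilMain

set_option autoImplicit false

/-! # The Weil representation of `Sp_{2n}(q)`, `q` odd (S2347, existence half) -/

open Cfsg.Agent.Lib.Helper25.Weil Module Matrix

namespace Cfsg.Agent.Lib.Helper25.WeilSp

variable {F : Type*} [Field F] {n : ℕ}

/-- the symplectic form as a bilinear map -/
def sympB (n : ℕ) (F : Type*) [Field F] :
    (Fin n ⊕ Fin n → F) →ₗ[F] (Fin n ⊕ Fin n → F) →ₗ[F] F :=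
  LinearMap.mk₂ F (Cfsg.sympForm n F)
    Cfsg.Agent.Lib.Helper5.sympForm_add_left
    (fun c x z => by rw [Cfsg.Agent.Lib.Helper5.sympForm_smul_left, smul_eq_mul])
    Cfsg.Agent.Lib.Helper5.sympForm_add_right
    (fun c x z => by rw [Cfsg.Agent.Lib.Helper5.sympForm_smul_right, smul_eq_mul])

theorem sympB_apply (u v : Fin n ⊕ Fin n → F) : sympB n F u v = Cfsg.sympForm n F u v := rfl

/-- the setting of the standard symplectic space over a finite field of odd order -/
noncomputable def sympSetting [Finite F] (n : ℕ) (h2 : (2 : F) ≠ 0) : Setting F (Fin n ⊕ Fin n → F) where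
  B := sympB n F
  alt := fun x => Cfsg.Agent.Lib.Helper5.sympForm_self n x
  nondeg := by
    intro x hx
    by_contra hne
    obtain ⟨a, ha⟩ := Cfsg.Agent.Lib.Helper5.sympForm_nondeg x hne
    exact ha (hx a)
  two_ne := h2
  ψ := (AddChar.exists_apply_ne_zero.mpr (one_ne_zero (α := F))).choose
  prim := by
    intro a ha
    refine ⟨a⁻¹, ?_⟩
    rw [mul_inv_cancel₀ ha]
    exact (AddChar.exists_apply_ne_zero.mpr (one_ne_zero (α := F))).choose_spec

theorem sympSetting_B [Finite F] (h2 : (2 : F) ≠ 0) (u v : Fin n ⊕ Fin n → F) :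
    (sympSetting n h2).B u v = Cfsg.sympForm n F u v := rfl

/-- the Weil representation: an irreducible representation of degree `(q ^ n - 1) / 2` -/
theorem symp_exists [Fintype F] [DecidableEq F] (n : ℕ) (hn : 1 ≤ n) (hodd : Odd (Fintype.card F)) :
    ∃ ρ : Representation ℂ (Matrix.symplecticGroup (Fin n) F)
      (Fin ((Fintype.card F ^ n - 1) / 2) → ℂ), ρ.IsIrreducible := by
  classical
  obtain ⟨p, hp⟩ := CharP.exists F
  have hpp : p.Prime := by
    obtain ⟨m, hpp, -⟩ := FiniteField.card F p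
    exact hpp
  have : Fact p.Prime := ⟨hpp⟩
  have h2 : (2 : F) ≠ 0 := by
    intro h
    have h3 : ((2 : ℕ) : F) = 0 := by exact_mod_cast h
    have h4 : p ∣ 2 := (CharP.cast_eq_zero_iff F p 2).mp h3
    obtain ⟨m, -, hm⟩ := FiniteField.card F p
    have h5 : p = 2 := (Nat.prime_dvd_prime_iff_eq hpp Nat.prime_two).mp h4
    rw [hm, h5] at hodd
    have h6 : (m : ℕ) ≠ 0 := m.ne_zero
    exact (Nat.not_even_iff_odd.mpr hodd) ((Nat.even_pow.mpr ⟨even_two, h6⟩))
  have hq3 : 3 ≤ Fintype.card F := by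
    have h1 : 1 < Fintype.card F := Fintype.one_lt_card
    rcases hodd with ⟨k, hk⟩
    omega
  have hN3 : 3 ≤ Fintype.card F ^ n := by
    calc 3 ≤ Fintype.card F ^ 1 := by rw [pow_one]; exact hq3
      _ ≤ Fintype.card F ^ n := Nat.pow_le_pow_right (by omega) hn
  have hcard : Fintype.card F ^ n * Fintype.card F ^ n = Fintype.card (Fin n ⊕ Fin n → F) := by
    rw [Fintype.card_fun, Fintype.card_sum, Fintype.card_fin, pow_add]
  refine Cfsg.Agent.Lib.Helper25.WeilMain.exists_irreducible (sympSetting n h2) (p := p)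
    (G := Matrix.symplecticGroup (Fin n) F) ?_ ?_ ?_ (Fintype.card F ^ n) hcard hN3
  · intro g u v
    exact Cfsg.Agent.Lib.Helper5.sympForm_mulVec_of_mem g.2 u v
  · rw [eq_top_iff, ← Cfsg.Agent.Lib.Helper5.transvGroup_eq_top]
    apply Subgroup.closure_mono
    rintro A ⟨w, c, hA⟩
    refine ⟨w, c, fun x => ?_⟩
    show (A : Matrix (Fin n ⊕ Fin n) (Fin n ⊕ Fin n) F) *ᵥ x = _
    rw [hA, Cfsg.Agent.Lib.Helper5.sympTransvection_mulVec]
    rfl
  · intro u v hu hv
    obtain ⟨A, -, hA⟩ := Cfsg.Agent.Lib.Helper5.transv_trans1 u v hu hv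
    exact ⟨A, hA⟩

end Cfsg.Agent.Lib.Helper25.WeilSp
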