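import Mathlib
import Cfsg.Prelude.Def_RootSubgroups
import Cfsg.Agent.Lib.Helper25.RankOneConj

set_option autoImplicit false

namespace Cfsg.Agent.Lib.Helper25

open Cfsg

variable {G : Type*} [Group G]

theorem comm_of_isMulCommutative {A : Subgroup G} (h : IsMulCommutative A) {a b : G}
    (ha : a ∈ A) (hb : b ∈ A) : a * b = b * a := by
  have := (isMulCommutative_iff.1 h) ⟨a, ha⟩ ⟨b, hb⟩
  exact congrArg Subtype.val this

/-- If all commutators `x c x⁻¹ c⁻¹` (`c ∈ C`) normalize `C`, then `x C x⁻¹ ≤ N(C)`. -/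
theorem conjBy_le_normalizer_of_commutators {C : Subgroup G} {x : G}
    (hc : ∀ c ∈ C, x * c * x⁻¹ * c⁻¹ ∈ Subgroup.normalizer (C : Set G)) :
    conjBy C x ≤ Subgroup.normalizer (C : Set G) := by
  intro y hy
  rw [mem_conjBy] at hy
  have h1 := hc _ hy
  have h2 : y = (x * (x⁻¹ * y * x) * x⁻¹ * (x⁻¹ * y * x)⁻¹) * (x⁻¹ * y * x) := by group
  rw [h2]
  exact (Subgroup.normalizer (C : Set G)).mul_mem h1 (Subgroup.le_normalizer hy)

/-- In a rank one pair `(A, C)`, a non-identity `x ∈ A` cannot have all its commutators with `C`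
normalizing `C`. -/
theorem rankOne_no_normalizing_commutators {A C : Subgroup G} (h : IsRankOnePair A C) {x : G}
    (hx : x ∈ A) (hx1 : x ≠ 1)
    (hc : ∀ c ∈ C, x * c * x⁻¹ * c⁻¹ ∈ Subgroup.normalizer (C : Set G)) : False := by
  have h1 := conjBy_le_normalizer_of_commutators hc
  have hmem : conjBy C x ∈ unipotentSubgroups C A :=
    ⟨x, Subgroup.mem_sup_right hx, rfl⟩
  have hne : conjBy C x ≠ C := by
    intro he
    exact hx1 (rankOne_eq_one_of_mem_normalizer h hx (conjBy_eq_self_iff.1 he))
  exact rankOne_conj_not_le_normalizer (RankOnePair_symm h) hmem hne h1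

theorem commutator_eq_bot_iff_commute {A B : Subgroup G} :
    ⁅A, B⁆ = ⊥ ↔ ∀ a ∈ A, ∀ b ∈ B, a * b = b * a := by
  rw [Subgroup.commutator_eq_bot_iff_le_centralizer]
  constructor
  · intro h a ha b hb
    have := h ha
    rw [Subgroup.mem_centralizer_iff] at this
    exact (this b hb).symm
  · intro h a ha
    rw [Subgroup.mem_centralizer_iff]
    intro b hb
    exact (h a ha b hb).symm

theorem conj_eq_of_comm {e y : G} (h : e * y = y * e) : e * y * e⁻¹ = y := by
  rw [h, mul_inv_cancel_right]

/-- An element commuting with every element of `B` normalizes `B`. -/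
theorem mem_normalizer_of_comm {B : Subgroup G} {e : G} (h : ∀ y ∈ B, e * y = y * e) :
    e ∈ Subgroup.normalizer (B : Set G) := by
  rw [Subgroup.mem_normalizer_iff]
  intro y
  constructor
  · intro hy
    rw [conj_eq_of_comm (h y hy)]; exact hy
  · intro hy
    have h1 : e⁻¹ * (e * y * e⁻¹) * e = y := by group
    have h2 : e * (e * y * e⁻¹) = (e * y * e⁻¹) * e := h _ hy
    have h3 : e * y * e⁻¹ = y := by
      have : e⁻¹ * (e * (e * y * e⁻¹)) = e⁻¹ * ((e * y * e⁻¹) * e) := by rw [h2]
      rw [← mul_assoc, ← mul_assoc, ← mul_assoc, inv_mul_cancel, one_mul, ← mul_assoc] at this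
      rw [← h1]
      convert this using 1
      group
    rwa [h3] at hy

/-- In the commutator case all commutators `a b a⁻¹ b⁻¹` centralize `B`. -/
theorem rootCommutatorCase_commutator_mem_normalizer {S : Set (Subgroup G)} {A B : Subgroup G}
    (h : RootCommutatorCase S A B) {a b : G} (ha : a ∈ A) (hb : b ∈ B) :
    a * b * a⁻¹ * b⁻¹ ∈ Subgroup.normalizer (B : Set G) := by
  have hmem : a * b * a⁻¹ * b⁻¹ ∈ ⁅A, B⁆ := Subgroup.commutator_mem_commutator ha hb
  exact mem_normalizer_of_comm (fun y hy => h.2.1 _ hmem y (Subgroup.mem_sup_right hy))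

/-- For a rank one pair the members do not commute. -/
theorem rankOne_commutator_ne_bot {A B : Subgroup G} (h : IsRankOnePair A B) : ⁅A, B⁆ ≠ ⊥ := by
  intro he
  rw [commutator_eq_bot_iff_commute] at he
  apply rankOne_left_ne_bot h
  rw [eq_bot_iff]
  intro a ha
  rw [Subgroup.mem_bot]
  exact rankOne_eq_one_of_mem_normalizer h ha (mem_normalizer_of_comm (he a ha))

/-- A rank one pair is never in the commutator case. -/
theorem rankOne_not_commutatorCase {S : Set (Subgroup G)} {A B : Subgroup G}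
    (h : IsRankOnePair A B) : ¬ RootCommutatorCase S A B := by
  intro hc
  obtain ⟨a, ha1⟩ := (Subgroup.ne_bot_iff_exists_ne_one).1 (rankOne_left_ne_bot h)
  have ha1' : (a : G) ≠ 1 := fun e => ha1 (Subtype.ext e)
  exact rankOne_no_normalizing_commutators h a.2 ha1'
    (fun c hcB => rootCommutatorCase_commutator_mem_normalizer hc a.2 hcB)

end Cfsg.Agent.Lib.Helper25
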