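import Mathlib
import Cfsg.Prelude.Def_RootSubgroups
import Cfsg.Agent.Lib.Helper25.RootSet

set_option autoImplicit false

namespace Cfsg.Agent.Lib.Helper25

open Cfsg

variable {G : Type*} [Group G]

/-- A member of `S` that is not isolated in the graph of rank one pairs has a rank one partner. -/
theorem exists_partner_of_not_isolated {S : Set (Subgroup G)} {A : Subgroup G} (hA : A ∈ S)
    (h : ¬ IsIsolatedIn (FAdj S) S A) : ∃ C ∈ S, IsRankOnePair A C := by
  unfold IsIsolatedIn at h
  push Not at h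
  obtain ⟨C, hC⟩ := h hA
  by_cases h1 : FAdj S A C
  · exact ⟨C, h1.2.1, h1.2.2⟩
  · have h2 := hC h1
    exact ⟨C, h2.1, RankOnePair_symm h2.2.2⟩

/-- If `x ≠ 1` lies in `A ∩ B`, where `(A, C)` and `(B, C)` are rank one pairs, then `B` is a conjugate
of `A` under `⟨A, C⟩`. -/
theorem mem_unipotent_of_common_element {A B C : Subgroup G} (hAC : IsRankOnePair A C)
    (hBC : IsRankOnePair B C) {x : G} (hxA : x ∈ A) (hxB : x ∈ B) (hx1 : x ≠ 1) :
    B ∈ unipotentSubgroups A C := by
  obtain ⟨c, hc, _, hAc⟩ := hAC.cond_left x hxA hx1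
  obtain ⟨c', hc', _, hBc⟩ := hBC.cond_left x hxB hx1
  have h1 : conjBy A c⁻¹ = conjBy B c'⁻¹ := hAc.trans hBc.symm
  refine ⟨c' * c⁻¹, (A ⊔ C).mul_mem (Subgroup.mem_sup_right hc')
    (Subgroup.mem_sup_right (C.inv_mem hc)), ?_⟩
  rw [conjBy_mul, h1, conjBy_inv_conjBy]

/-- A member of a set of abstract root subgroups that has a rank one partner meets every other member
trivially. -/
theorem root_TI {S : Set (Subgroup G)} (hS : IsRootSubgroupSet S) {A C : Subgroup G} (hA : A ∈ S)
    (hC : C ∈ S) (hAC : IsRankOnePair A C) {B : Subgroup G} (hB : B ∈ S) :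
    A ⊓ B = ⊥ ∨ A = B := by
  by_cases hAB : A = B
  · exact Or.inr hAB
  left
  rw [eq_bot_iff]
  rintro x ⟨hxA, hxB⟩
  rw [Subgroup.mem_bot]
  by_contra hx1
  rcases hS.pair A hA B hB with h1 | h1 | h1
  · -- A and B commute
    rw [commutator_eq_bot_iff_commute] at h1
    rcases hS.pair B hB C hC with h2 | h2 | h2
    · rw [commutator_eq_bot_iff_commute] at h2
      exact hx1 (rankOne_eq_one_of_mem_normalizer hAC hxA (mem_normalizer_of_comm (h2 x hxB)))
    · have hmem := mem_unipotent_of_common_element hAC h2 hxA hxB hx1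
      apply rankOne_conj_not_le_normalizer hAC hmem (Ne.symm hAB)
      intro b hb
      exact mem_normalizer_of_comm (fun a ha => (h1 a ha b hb).symm)
    · exact rankOne_no_normalizing_commutators hAC hxA hx1
        (fun c hc => rootCommutatorCase_commutator_mem_normalizer h2 hxB hc)
  · exact hx1 (rankOne_eq_one_of_mem_normalizer h1 hxA (Subgroup.le_normalizer hxB))
  · -- commutator case: all commutators with `x ∈ A ∩ B` are trivial as `A` is commutative
    have h2 := h1.2.2.2 x hxB hx1
    have h3 : (fun a : G => a * x * a⁻¹ * x⁻¹) '' (A : Set G) ⊆ {1} := by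
      rintro _ ⟨a, ha, rfl⟩
      rw [Set.mem_singleton_iff]
      change a * x * a⁻¹ * x⁻¹ = 1
      rw [comm_of_isMulCommutative (hS.commutative A hA) ha hxA]
      group
    have h4 : ⁅A, B⁆ = ⊥ := by
      rw [← h2, eq_bot_iff]
      calc Subgroup.closure ((fun a : G => a * x * a⁻¹ * x⁻¹) '' (A : Set G))
          ≤ Subgroup.closure {1} := Subgroup.closure_mono h3
        _ = ⊥ := Subgroup.closure_singleton_one
    exact hS.ne_bot _ h1.1 h4

end Cfsg.Agent.Lib.Helper25
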