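import Mathlib
import Cfsg.Prelude.Def_RootSubgroups
import Cfsg.Agent.Lib.Helper25.RootSetTI

set_option autoImplicit false

namespace Cfsg.Agent.Lib.Helper25

open Cfsg

variable {G : Type*} [Group G]

/-- Two distinct conjugates of `A` under `⟨A, B⟩`: neither lies in the normalizer of the other. -/
theorem rankOne_conj_not_le_normalizer' {A B : Subgroup G} (h : IsRankOnePair A B)
    {E C : Subgroup G} (hE : E ∈ unipotentSubgroups A B) (hC : C ∈ unipotentSubgroups A B)
    (hne : C ≠ E) : ¬ C ≤ Subgroup.normalizer (E : Set G) := by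
  intro hle
  have hp := (rankOne_pair_of_mem h hC hE hne).1
  apply rankOne_left_ne_bot hp
  rw [← rankOne_inf_normalizer hp]
  exact (inf_eq_left.2 hle).symm

theorem exists_other_conj {A B : Subgroup G} (h : IsRankOnePair A B) (E : Subgroup G) :
    ∃ E' ∈ unipotentSubgroups A B, E' ≠ E := by
  by_cases hE : E = A
  · exact ⟨B, rankOne_right_mem_unipotentSubgroups h, by rw [hE]; exact h.ne.symm⟩
  · exact ⟨A, self_mem_unipotentSubgroups A B, Ne.symm hE⟩

theorem unipotentSubgroups_subset {S : Set (Subgroup G)} (hS : IsRootSubgroupSet S)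
    {C D : Subgroup G} (hC : C ∈ S) {E : Subgroup G} (hE : E ∈ unipotentSubgroups C D) : E ∈ S := by
  obtain ⟨y, _, rfl⟩ := hE
  exact hS.conj_mem C hC y

/-- A member of `S` inside a rank one group `⟨C, D⟩` (`C, D ∈ S`) is never in the commutator case with
a conjugate of `C`. -/
theorem no_commutatorCase_in_rankOne {S : Set (Subgroup G)} (hS : IsRootSubgroupSet S)
    {C D : Subgroup G} (hC : C ∈ S) (hCD : IsRankOnePair C D)
    {A' : Subgroup G} (hA'le : A' ≤ C ⊔ D) {E : Subgroup G}
    (hE : E ∈ unipotentSubgroups C D) : ¬ RootCommutatorCase S A' E := by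
  intro hcc
  have hES : E ∈ S := unipotentSubgroups_subset hS hC hE
  -- A' normalizes E
  have hnorm : ∀ a ∈ A', conjBy E a = E := by
    intro a ha
    by_contra hne
    have h1 : conjBy E a ≤ Subgroup.normalizer (E : Set G) :=
      conjBy_le_normalizer_of_commutators
        (fun e he => rootCommutatorCase_commutator_mem_normalizer hcc ha he)
    exact rankOne_conj_not_le_normalizer' hCD hE
      (unipotentSubgroups_conjBy_mem hE (hA'le ha)) hne h1
  -- hence ⁅A', E⁆ ≤ E
  have hle : ⁅A', E⁆ ≤ E := by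
    rw [Subgroup.commutator_le]
    intro a ha e he
    rw [commutatorElement_def]
    have h1 : a * e * a⁻¹ ∈ conjBy E a := conj_mem_conjBy he
    rw [hnorm a ha] at h1
    exact E.mul_mem h1 (E.inv_mem he)
  obtain ⟨E', hE', hne'⟩ := exists_other_conj hCD E
  have hp := (rankOne_pair_of_mem hCD hE hE' (Ne.symm hne')).1
  have hE'S : E' ∈ S := unipotentSubgroups_subset hS hC hE'
  rcases root_TI hS hES hE'S hp hcc.1 with h1 | h1
  · apply hS.ne_bot _ hcc.1
    rw [← h1]
    exact (inf_eq_right.2 hle).symm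
  · -- E = ⁅A', E⁆ is centralized by A'
    apply hS.ne_bot _ hcc.1
    rw [commutator_eq_bot_iff_commute]
    intro a ha e he
    have he' : e ∈ ⁅A', E⁆ := h1 ▸ he
    exact (hcc.2.1 e he' a (Subgroup.mem_sup_left ha)).symm

/-- A member of `S` lying in a rank one group `⟨C, D⟩` (`C, D ∈ S`) and having a rank one partner inside
that group is a conjugate of `C` under `⟨C, D⟩`. -/
theorem mem_unipotent_of_le {S : Set (Subgroup G)} (hS : IsRootSubgroupSet S)
    {C D : Subgroup G} (hC : C ∈ S) (hCD : IsRankOnePair C D)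
    {A' B' : Subgroup G} (hA' : A' ∈ S) (hA'le : A' ≤ C ⊔ D) (hB'le : B' ≤ C ⊔ D)
    (hAB' : IsRankOnePair A' B') : A' ∈ unipotentSubgroups C D := by
  by_contra hnot
  obtain ⟨a, ha1⟩ := (Subgroup.ne_bot_iff_exists_ne_one).1 (rankOne_left_ne_bot hAB')
  have ha1' : (a : G) ≠ 1 := fun e => ha1 (Subtype.ext e)
  have ha : (a : G) ∈ A' := a.2
  have hainv1 : (a : G)⁻¹ ≠ 1 := by simpa using ha1'
  by_cases hex : ∃ E ∈ unipotentSubgroups C D, ⁅A', E⁆ = ⊥
  · obtain ⟨E, hE, hcomm⟩ := hex
    rw [commutator_eq_bot_iff_commute] at hcomm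
    obtain ⟨E', hE', hne'⟩ := exists_other_conj hCD E
    have hES : E ∈ S := unipotentSubgroups_subset hS hC hE
    have hE'S : E' ∈ S := unipotentSubgroups_subset hS hC hE'
    obtain ⟨hp, hsup, hΩ⟩ := rankOne_pair_of_mem hCD hE hE' (Ne.symm hne')
    rcases hS.pair A' hA' E' hE'S with h1 | h1 | h1
    · -- A' centralizes E ⊔ E' = C ⊔ D ≥ B'
      rw [commutator_eq_bot_iff_commute] at h1
      apply ha1'
      apply rankOne_eq_one_of_mem_normalizer hAB' ha
      apply mem_normalizer_of_comm
      intro b hb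
      have hb' : b ∈ E ⊔ E' := by rw [hsup]; exact hB'le hb
      have hcent : E ⊔ E' ≤ Subgroup.centralizer ({(a : G)} : Set G) := by
        apply sup_le
        · intro e he
          rw [Subgroup.mem_centralizer_iff]
          intro m hm
          rw [Set.mem_singleton_iff] at hm
          subst hm
          exact hcomm _ ha e he
        · intro e he
          rw [Subgroup.mem_centralizer_iff]
          intro m hm
          rw [Set.mem_singleton_iff] at hm
          subst hm
          exact h1 _ ha e he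
      have := hcent hb'
      rw [Subgroup.mem_centralizer_iff] at this
      exact this _ rfl
    · -- rank one pair (A', E')
      obtain ⟨e', he', _, hAe'⟩ := h1.cond_left a ha ha1'
      set E₂ := conjBy E' (a : G)⁻¹ with hE₂
      have hE₂mem : E₂ ∈ unipotentSubgroups C D :=
        unipotentSubgroups_conjBy_mem hE' (hA'le (A'.inv_mem ha))
      have hE₂ne' : E₂ ≠ E' := by
        intro he
        exact hainv1 (rankOne_eq_one_of_mem_normalizer h1 (A'.inv_mem ha) (conjBy_eq_self_iff.1 he))
      have hEa : conjBy E (a : G)⁻¹ = E :=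
        conjBy_eq_self_iff.2 (mem_normalizer_of_comm (fun y hy => hcomm _ (A'.inv_mem ha) y hy))
      have hE₂ne : E₂ ≠ E := by
        intro he
        apply hne'
        apply conjBy_injective (a : G)⁻¹
        change conjBy E' (a : G)⁻¹ = conjBy E (a : G)⁻¹
        rw [hEa]; exact he
      -- regularity of E on the conjugates different from E
      have hE'mem : E' ∈ unipotentSubgroups E E' := by rw [hΩ]; exact hE'
      have hE₂mem' : E₂ ∈ unipotentSubgroups E E' := by rw [hΩ]; exact hE₂mem
      obtain ⟨e₀, ⟨he₀, he₀c⟩, _⟩ := rankOne_regular hp hE'mem hE₂mem' hne' hE₂ne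
      have he₀1 : e₀ ≠ 1 := by
        intro he
        rw [he, conjBy_one] at he₀c
        exact hE₂ne' he₀c.symm
      have he₀inv1 : e₀⁻¹ ≠ 1 := by simpa using he₀1
      obtain ⟨e'', he'', _, hEe''⟩ := hp.cond_left e₀⁻¹ (E.inv_mem he₀) he₀inv1
      rw [inv_inv, he₀c] at hEe''
      -- conjBy A' e'⁻¹ = E₂ = conjBy E e''⁻¹
      have h2 : conjBy A' e'⁻¹ = conjBy E e''⁻¹ := by rw [hAe', hEe'']
      apply hnot
      have h3 : A' = conjBy E (e' * e''⁻¹) := by
        rw [conjBy_mul, ← h2, conjBy_inv_conjBy]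
      rw [h3]
      apply unipotentSubgroups_conjBy_mem hE
      have : e' * e''⁻¹ ∈ E' := E'.mul_mem he' (E'.inv_mem he'')
      exact rankOne_conj_le hE' this
    · exact no_commutatorCase_in_rankOne hS hC hCD hA'le hE' h1
  · push Not at hex
    rcases hS.pair A' hA' C hC with h1 | h1 | h1
    · exact hex C (self_mem_unipotentSubgroups C D) h1
    · obtain ⟨c, hc, _, hAc⟩ := h1.cond_left a ha ha1'
      apply hnot
      have h3 : A' = conjBy C (c * (a : G)⁻¹) := by
        rw [conjBy_mul, ← hAc, conjBy_inv_conjBy]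
      rw [h3]
      apply unipotentSubgroups_conjBy_mem (self_mem_unipotentSubgroups C D)
      exact (C ⊔ D).mul_mem (Subgroup.mem_sup_left hc) (hA'le (A'.inv_mem ha))
    · exact no_commutatorCase_in_rankOne hS hC hCD hA'le (self_mem_unipotentSubgroups C D) h1

end Cfsg.Agent.Lib.Helper25
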