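import Mathlib
import Cfsg.Prelude.Def_RootSubgroups
import Cfsg.Agent.Lib.Helper25.RootSetSub

set_option autoImplicit false

namespace Cfsg.Agent.Lib.Helper25

open Cfsg

variable {G H : Type*} [Group G] [Group H]

/-- The image of a conjugate is the conjugate of the image. -/
theorem map_conjBy (f : G →* H) (A : Subgroup G) (g : G) :
    (conjBy A g).map f = conjBy (A.map f) (f g) := by
  unfold conjBy
  rw [Subgroup.map_map, Subgroup.map_map]
  congr 1
  ext x
  simp [MulAut.conj_apply]

theorem conjBy_bot (g : G) : conjBy (⊥ : Subgroup G) g = ⊥ := by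
  unfold conjBy
  exact Subgroup.map_bot _

theorem conjBy_eq_bot_iff {A : Subgroup G} {g : G} : conjBy A g = ⊥ ↔ A = ⊥ := by
  constructor
  · intro h
    by_contra hA
    exact conjBy_ne_bot hA g h
  · rintro rfl
    exact conjBy_bot g

theorem isNilpotent_of_isMulCommutative {A : Subgroup G} (hA : IsMulCommutative A) :
    Group.IsNilpotent A := by
  have := hA
  let _ : CommGroup A := { (inferInstance : Group A) with mul_comm := fun a b => mul_comm' a b }
  exact CommGroup.isNilpotent

/-- the image of a rank one condition -/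
theorem rankOneCondition_map (f : G →* H) {A B : Subgroup G} (h : RankOneCondition A B)
    (hne : A.map f ≠ B.map f) : RankOneCondition (A.map f) (B.map f) := by
  intro a' ha' ha'1
  obtain ⟨a, ha, rfl⟩ := ha'
  have ha1 : a ≠ 1 := by
    rintro rfl
    exact ha'1 (map_one f)
  obtain ⟨b, hb, hb1, hconj⟩ := h a ha ha1
  have hconj' : conjBy (A.map f) (f b)⁻¹ = conjBy (B.map f) (f a)⁻¹ := by
    rw [← map_inv, ← map_inv, ← map_conjBy, ← map_conjBy, hconj]
  refine ⟨f b, Subgroup.mem_map_of_mem f hb, ?_, hconj'⟩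
  intro hfb
  apply hne
  rw [hfb, inv_one, conjBy_one] at hconj'
  -- A' = conjBy B' (f a)⁻¹, and f a ∈ A'
  have hfa : f a ∈ A.map f := Subgroup.mem_map_of_mem f ha
  have h1 : conjBy (A.map f) (f a) = A.map f := conjBy_eq_self_of_mem hfa
  have h2 : conjBy (A.map f) (f a) = B.map f := by
    conv_lhs => rw [hconj']
    rw [← conjBy_mul]
    simp [conjBy_one]
  rw [← h1, h2]


theorem isNilpotent_map (f : G →* H) {A : Subgroup G} (hA : Group.IsNilpotent A) :
    Group.IsNilpotent (A.map f) :=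
  Group.nilpotent_of_surjective (f.subgroupMap A) (f.subgroupMap_surjective A)

theorem rankOnePair_map (f : G →* H) {A B : Subgroup G} (h : IsRankOnePair A B)
    (hne : A.map f ≠ B.map f) : IsRankOnePair (A.map f) (B.map f) :=
  ⟨hne, isNilpotent_map f h.nilpotent_left, isNilpotent_map f h.nilpotent_right,
    rankOneCondition_map f h.cond_left hne, rankOneCondition_map f h.cond_right (Ne.symm hne)⟩

theorem rootCommutatorCase_map (f : G →* H) {S : Set (Subgroup G)} {A B : Subgroup G}
    (h : RootCommutatorCase S A B) :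
    RootCommutatorCase ((fun A : Subgroup G => A.map f) '' S) (A.map f) (B.map f) := by
  obtain ⟨hmem, hcen, hA, hB⟩ := h
  have hcomm : ⁅A.map f, B.map f⁆ = (⁅A, B⁆).map f := (Subgroup.map_commutator A B f).symm
  refine ⟨?_, ?_, ?_, ?_⟩
  · rw [hcomm]
    exact ⟨_, hmem, rfl⟩
  · intro c hc x hx
    rw [hcomm] at hc
    rw [← Subgroup.map_sup] at hx
    obtain ⟨c, hc, rfl⟩ := hc
    obtain ⟨x, hx, rfl⟩ := hx
    rw [← map_mul, ← map_mul, hcen c hc x hx]
  · intro a' ha' ha'1
    obtain ⟨a, ha, rfl⟩ := ha'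
    have ha1 : a ≠ 1 := by
      rintro rfl
      exact ha'1 (map_one f)
    rw [hcomm, ← hA a ha ha1, MonoidHom.map_closure]
    congr 1
    ext x
    simp only [Set.mem_image, Subgroup.coe_map, SetLike.mem_coe]
    constructor
    · rintro ⟨_, ⟨b, hb, rfl⟩, rfl⟩
      exact ⟨_, ⟨b, hb, rfl⟩, by simp⟩
    · rintro ⟨_, ⟨b, hb, rfl⟩, rfl⟩
      exact ⟨_, ⟨b, hb, rfl⟩, by simp⟩
  · intro b' hb' hb'1
    obtain ⟨b, hb, rfl⟩ := hb'
    have hb1 : b ≠ 1 := by
      rintro rfl
      exact hb'1 (map_one f)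
    rw [hcomm, ← hB b hb hb1, MonoidHom.map_closure]
    congr 1
    ext x
    simp only [Set.mem_image, Subgroup.coe_map, SetLike.mem_coe]
    constructor
    · rintro ⟨_, ⟨a, ha, rfl⟩, rfl⟩
      exact ⟨_, ⟨a, ha, rfl⟩, by simp⟩
    · rintro ⟨_, ⟨a, ha, rfl⟩, rfl⟩
      exact ⟨_, ⟨a, ha, rfl⟩, by simp⟩

theorem isMulCommutative_map (f : G →* H) {A : Subgroup G} (hA : IsMulCommutative A) :
    IsMulCommutative (A.map f) := by
  rw [isMulCommutative_iff]
  rintro ⟨_, ⟨a, ha, rfl⟩⟩ ⟨_, ⟨b, hb, rfl⟩⟩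
  apply Subtype.ext
  show f a * f b = f b * f a
  rw [← map_mul, ← map_mul, comm_of_isMulCommutative hA ha hb]

theorem commutator_self_eq_bot {A : Subgroup G} (hA : IsMulCommutative A) : ⁅A, A⁆ = ⊥ := by
  rw [commutator_eq_bot_iff_commute]
  intro a ha b hb
  exact comm_of_isMulCommutative hA ha hb

/-- The image of a set of abstract root subgroups under a surjective homomorphism, provided no
member is mapped to the trivial subgroup. -/
theorem isRootSubgroupSet_map {S : Set (Subgroup G)} (hS : IsRootSubgroupSet S) (f : G →* H)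
    (hf : Function.Surjective f) (hne : ∀ A ∈ S, A.map f ≠ ⊥) :
    IsRootSubgroupSet ((fun A : Subgroup G => A.map f) '' S) := by
  refine ⟨?_, ?_, ?_, ?_, ?_⟩
  · rintro _ ⟨A, hA, rfl⟩
    exact isMulCommutative_map f (hS.commutative A hA)
  · rintro _ ⟨A, hA, rfl⟩
    exact hne A hA
  · rw [iSup_image]
    have h1 : (⨆ A ∈ S, A).map f = ⨆ A ∈ S, A.map f := by
      rw [Subgroup.map_iSup]
      congr 1
      ext A
      rw [Subgroup.map_iSup]
    rw [← h1, hS.generates, ← MonoidHom.range_eq_map]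
    exact MonoidHom.range_eq_top.2 hf
  · rintro _ ⟨A, hA, rfl⟩ h
    obtain ⟨g, rfl⟩ := hf h
    exact ⟨conjBy A g, hS.conj_mem A hA g, map_conjBy f A g⟩
  · rintro _ ⟨A, hA, rfl⟩ _ ⟨B, hB, rfl⟩
    rcases hS.pair A hA B hB with h | h | h
    · left
      show ⁅A.map f, B.map f⁆ = ⊥
      rw [← Subgroup.map_commutator, h, Subgroup.map_bot]
    · by_cases heq : A.map f = B.map f
      · left
        show ⁅A.map f, B.map f⁆ = ⊥
        rw [← heq]
        exact commutator_self_eq_bot (isMulCommutative_map f (hS.commutative A hA))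
      · right; left
        exact rankOnePair_map f h heq
    · right; right
      exact rootCommutatorCase_map f h

/-- Connectivity of the rank one graph passes to the image. -/
theorem isConnectedFamily_map {S : Set (Subgroup G)} (f : G →* H)
    (hc : IsConnectedFamily (FAdj S) S) :
    IsConnectedFamily (FAdj ((fun A : Subgroup G => A.map f) '' S))
      ((fun A : Subgroup G => A.map f) '' S) := by
  rintro _ ⟨A, hA, rfl⟩ _ ⟨B, hB, rfl⟩
  refine Relation.ReflTransGen.lift' (fun A : Subgroup G => A.map f) ?_ A B (hc A hA B hB)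
  rintro C D ⟨hC, hD, hCD⟩
  by_cases heq : C.map f = D.map f
  · show Relation.ReflTransGen _ (C.map f) (D.map f)
    rw [heq]
  · exact Relation.ReflTransGen.single ⟨⟨C, hC, rfl⟩, ⟨D, hD, rfl⟩, rankOnePair_map f hCD heq⟩

/-- If one member of a connected set of root subgroups is killed by `f`, all are. -/
theorem map_eq_bot_of_connected {S : Set (Subgroup G)} (hS : IsRootSubgroupSet S)
    (hc : IsConnectedFamily (FAdj S) S) (f : G →* H) {A : Subgroup G} (hA : A ∈ S)
    (hAf : A.map f = ⊥) : ∀ B ∈ S, B.map f = ⊥ := by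
  intro B hB
  have hpath := hc A hA B hB
  induction hpath with
  | refl => exact hAf
  | @tail C D _ hCD ih =>
    obtain ⟨hC, hD, hpair⟩ := hCD
    have hCf := ih hC
    obtain ⟨d, hd, hd1⟩ := (Subgroup.bot_or_exists_ne_one D).resolve_left (hS.ne_bot D hD)
    obtain ⟨c, hc', hc1, hconj⟩ := hpair.cond_right d hd hd1
    have h2 : conjBy (D.map f) (f c)⁻¹ = conjBy (C.map f) (f d)⁻¹ := by
      rw [← map_inv, ← map_inv, ← map_conjBy, ← map_conjBy, hconj]
    rw [hCf, conjBy_bot, conjBy_eq_bot_iff] at h2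
    exact h2

end Cfsg.Agent.Lib.Helper25
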