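import Mathlib
import Cfsg.Prelude.Def_RootSubgroups
import Cfsg.Agent.Lib.Helper25.RootSetMap
import Cfsg.Agent.Lib.Helper25.RankOneNormal
import Cfsg.Agent.S5025

set_option autoImplicit false

namespace Cfsg.Agent.Lib.Helper25

open Cfsg
open scoped commutatorElement

variable {G : Type*} [Group G]

/-- `⁅A, B⁆` is normalized by `A`. -/
theorem conj_commutator_mem_left {A B : Subgroup G} {x : G} (hx : x ∈ A) {n : G}
    (hn : n ∈ ⁅A, B⁆) : x * n * x⁻¹ ∈ ⁅A, B⁆ := by
  have h : ⁅A, B⁆ ≤ (⁅A, B⁆).comap (MulAut.conj x).toMonoidHom := by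
    rw [Subgroup.commutator_le]
    intro a ha b hb
    rw [Subgroup.mem_comap]
    show x * ⁅a, b⁆ * x⁻¹ ∈ _
    have e : x * ⁅a, b⁆ * x⁻¹ = ⁅x * a, b⁆ * ⁅x, b⁆⁻¹ := by
      simp only [commutatorElement_def]; group
    rw [e]
    exact Subgroup.mul_mem _ (Subgroup.commutator_mem_commutator (A.mul_mem hx ha) hb)
      (Subgroup.inv_mem _ (Subgroup.commutator_mem_commutator hx hb))
  exact h hn

/-- `⁅A, B⁆` is normalized by `B`. -/
theorem conj_commutator_mem_right {A B : Subgroup G} {x : G} (hx : x ∈ B) {n : G}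
    (hn : n ∈ ⁅A, B⁆) : x * n * x⁻¹ ∈ ⁅A, B⁆ := by
  have h : ⁅A, B⁆ ≤ (⁅A, B⁆).comap (MulAut.conj x).toMonoidHom := by
    rw [Subgroup.commutator_le]
    intro a ha b hb
    rw [Subgroup.mem_comap]
    show x * ⁅a, b⁆ * x⁻¹ ∈ _
    have e : x * ⁅a, b⁆ * x⁻¹ = ⁅a, x⁆⁻¹ * ⁅a, x * b⁆ := by
      simp only [commutatorElement_def]; group
    rw [e]
    exact Subgroup.mul_mem _ (Subgroup.inv_mem _ (Subgroup.commutator_mem_commutator ha hx))
      (Subgroup.commutator_mem_commutator ha (B.mul_mem hx hb))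
  exact h hn

theorem sup_le_normalizer_commutator (A B : Subgroup G) :
    A ⊔ B ≤ Subgroup.normalizer ((⁅A, B⁆ : Subgroup G) : Set G) := by
  apply sup_le
  · intro a ha
    rw [Subgroup.mem_normalizer_iff]
    intro n
    constructor
    · exact conj_commutator_mem_left ha
    · intro h
      have := conj_commutator_mem_left (B := B) (A.inv_mem ha) h
      simpa [mul_assoc] using this
  · intro b hb
    rw [Subgroup.mem_normalizer_iff]
    intro n
    constructor
    · exact conj_commutator_mem_right hb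
    · intro h
      have := conj_commutator_mem_right (A := A) (B.inv_mem hb) h
      simpa [mul_assoc] using this

theorem commutator_le_sup (A B : Subgroup G) : ⁅A, B⁆ ≤ A ⊔ B := by
  rw [Subgroup.commutator_le]
  intro a ha b hb
  rw [commutatorElement_def]
  exact (A ⊔ B).mul_mem ((A ⊔ B).mul_mem ((A ⊔ B).mul_mem (Subgroup.mem_sup_left ha)
    (Subgroup.mem_sup_right hb)) (Subgroup.mem_sup_left (A.inv_mem ha)))
    (Subgroup.mem_sup_right (B.inv_mem hb))

/-- conjugation by `x ∈ normalizer N` -/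
theorem conj_mem_of_mem_normalizer {N : Subgroup G} {x : G}
    (hx : x ∈ Subgroup.normalizer (N : Set G)) {n : G} (hn : n ∈ N) : x * n * x⁻¹ ∈ N :=
  (Subgroup.mem_normalizer_iff.1 hx n).1 hn

/-- Relative version of the dichotomy for normal subgroups of a rank one group. -/
theorem rankOne_normal_dichotomy' {A B : Subgroup G} (h : IsRankOnePair A B)
    {N : Subgroup G} (hNle : N ≤ A ⊔ B) (hN : A ⊔ B ≤ Subgroup.normalizer (N : Set G)) :
    A ⊔ B ≤ N ⊔ A ∨ ∀ n ∈ N, (∀ a ∈ A, a * n = n * a) ∧ (∀ b ∈ B, b * n = n * b) := by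
  by_cases hNA : ∀ n ∈ N, conjBy A n = A
  · right
    have hBmem := rankOne_right_mem_unipotentSubgroups h
    obtain ⟨x, hx, hBx⟩ := hBmem
    have hNB : ∀ n ∈ N, conjBy B n = B := by
      intro n hn
      rw [hBx]
      have h1 : x⁻¹ * n * x ∈ N := by
        have := conj_mem_of_mem_normalizer (hN ((A ⊔ B).inv_mem hx)) hn
        simpa using this
      have h2 : n * x = x * (x⁻¹ * n * x) := by group
      rw [← conjBy_mul, h2, conjBy_mul, hNA _ h1]
    intro n hn
    constructor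
    · intro a ha
      have h1 : n * a * n⁻¹ ∈ A := by
        have : n * a * n⁻¹ ∈ conjBy A n := conj_mem_conjBy ha
        rwa [hNA n hn] at this
      have h2 : n * a * n⁻¹ * a⁻¹ ∈ A := A.mul_mem h1 (A.inv_mem ha)
      have h3 : n * a * n⁻¹ * a⁻¹ ∈ N := by
        have : a * n⁻¹ * a⁻¹ ∈ N :=
          conj_mem_of_mem_normalizer (hN (Subgroup.mem_sup_left ha)) (N.inv_mem hn)
        have := N.mul_mem hn this
        simpa [mul_assoc] using this
      have h4 : n * a * n⁻¹ * a⁻¹ ∈ Subgroup.normalizer (B : Set G) :=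
        conjBy_eq_self_iff.1 (hNB _ h3)
      have h5 := rankOne_eq_one_of_mem_normalizer h h2 h4
      have : n * a * n⁻¹ * a⁻¹ * (a * n) = 1 * (a * n) := by rw [h5]
      simpa [mul_assoc] using this.symm
    · intro b hb
      have h1 : n * b * n⁻¹ ∈ B := by
        have : n * b * n⁻¹ ∈ conjBy B n := conj_mem_conjBy hb
        rwa [hNB n hn] at this
      have h2 : n * b * n⁻¹ * b⁻¹ ∈ B := B.mul_mem h1 (B.inv_mem hb)
      have h3 : n * b * n⁻¹ * b⁻¹ ∈ N := by
        have : b * n⁻¹ * b⁻¹ ∈ N :=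
          conj_mem_of_mem_normalizer (hN (Subgroup.mem_sup_right hb)) (N.inv_mem hn)
        have := N.mul_mem hn this
        simpa [mul_assoc] using this
      have h4 : n * b * n⁻¹ * b⁻¹ ∈ Subgroup.normalizer (A : Set G) :=
        conjBy_eq_self_iff.1 (hNA _ h3)
      have h5 := rankOne_eq_one_of_mem_normalizer (RankOnePair_symm h) h2 h4
      have : n * b * n⁻¹ * b⁻¹ * (b * n) = 1 * (b * n) := by rw [h5]
      simpa [mul_assoc] using this.symm
  · left
    push Not at hNA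
    obtain ⟨n, hn, hne⟩ := hNA
    have hC₀ : conjBy A n ∈ unipotentSubgroups A B := ⟨n, hNle hn, rfl⟩
    obtain ⟨a, ⟨ha, hB⟩, _⟩ :=
      rankOne_regular h hC₀ (rankOne_right_mem_unipotentSubgroups h) hne h.ne.symm
    rw [← conjBy_mul] at hB
    have hBle : B ≤ N ⊔ A := by
      rw [← hB]
      exact conjBy_le_of_mem_of_le le_sup_right
        ((N ⊔ A).mul_mem (Subgroup.mem_sup_right ha) (Subgroup.mem_sup_left hn))
    exact sup_le le_sup_right hBle


theorem exists_ne_one_of_ne_bot {A : Subgroup G} (hA : A ≠ ⊥) : ∃ a ∈ A, a ≠ 1 :=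
  (Subgroup.bot_or_exists_ne_one A).resolve_left hA

/-- Two members of `S` whose commutator subgroup is a member of `S` are not a rank one pair. -/
theorem not_rankOne_of_commutator_mem {S : Set (Subgroup G)} (hS : IsRootSubgroupSet S)
    {A B : Subgroup G} (hA : A ∈ S) (hB : B ∈ S) (hC : ⁅A, B⁆ ∈ S) : ¬ IsRankOnePair A B := by
  intro h
  have hCle : ⁅A, B⁆ ≤ A ⊔ B := commutator_le_sup A B
  have hnorm := sup_le_normalizer_commutator A B
  obtain ⟨a, ha, ha1⟩ := exists_ne_one_of_ne_bot (rankOne_left_ne_bot h)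
  rcases rankOne_normal_dichotomy' h hCle hnorm with h1 | h1
  · rcases hS.pair A hA _ hC with h2 | h2 | h2
    · -- `⁅A, B⁆` centralizes `A`, so `A ⊔ B` normalizes `A`
      rw [commutator_eq_bot_iff_commute] at h2
      have h3 : ⁅A, B⁆ ≤ Subgroup.normalizer (A : Set G) := by
        intro c hc
        exact mem_normalizer_of_comm (fun y hy => (h2 y hy c hc).symm)
      have h4 : B ≤ Subgroup.normalizer (A : Set G) :=
        le_sup_right.trans (h1.trans (sup_le h3 Subgroup.le_normalizer))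
      apply rankOne_right_ne_bot h
      rw [← rankOne_inf_normalizer' h]
      exact (inf_eq_left.2 h4).symm
    · apply rankOne_left_ne_bot h
      rw [← rankOne_inf_normalizer h2]
      exact (inf_eq_left.2 (le_sup_left.trans hnorm)).symm
    · obtain ⟨hD, hcen, hcl, _⟩ := h2
      have hex : ∃ c ∈ ⁅A, B⁆, a * c * a⁻¹ * c⁻¹ ≠ 1 := by
        by_contra hcon
        push Not at hcon
        apply hS.ne_bot _ hD
        rw [← hcl a ha ha1, Subgroup.closure_eq_bot_iff]
        rintro _ ⟨c, hc, rfl⟩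
        exact hcon c hc
      obtain ⟨c, hc, hz1⟩ := hex
      have hzD : a * c * a⁻¹ * c⁻¹ ∈ ⁅A, ⁅A, B⁆⁆ := Subgroup.commutator_mem_commutator ha hc
      have hz : a * c * a⁻¹ * c⁻¹ ∈ Subgroup.centralizer ((A ⊔ B : Subgroup G) : Set G) := by
        rw [Subgroup.mem_centralizer_iff]
        intro x hx
        have hx' : x ∈ A ⊔ ⁅A, B⁆ := by
          have := h1 hx
          rwa [sup_comm] at this
        exact (hcen _ hzD x hx').symm
      apply Cfsg.Agent.S5025.result hS hA ⟨hB, h⟩ hz hz1 a⁻¹ (A.inv_mem ha) (by simpa using ha1)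
      have hcomm := hcen _ hzD a⁻¹ (Subgroup.mem_sup_left (A.inv_mem ha))
      have heq : a * c * a⁻¹ * c⁻¹ * a⁻¹ = c * a⁻¹ * c⁻¹ := by
        rw [hcomm]; group
      refine ⟨?_, conjBy A c, hS.conj_mem A hA c, ?_⟩
      · rw [heq]
        intro h0
        apply ha1
        have : c⁻¹ * (c * a⁻¹ * c⁻¹) * c = c⁻¹ * 1 * c := by rw [h0]
        simpa [mul_assoc] using this
      · rw [heq]
        exact conj_mem_conjBy (A.inv_mem ha)
  · apply rankOne_no_normalizing_commutators h ha ha1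
    intro b hb
    have hmem : a * b * a⁻¹ * b⁻¹ ∈ ⁅A, B⁆ := Subgroup.commutator_mem_commutator ha hb
    exact mem_normalizer_of_comm (fun y hy => ((h1 _ hmem).2 y hy).symm)

/-- Two members of `S` whose commutator subgroup is a member of `S` are in the commutator case. -/
theorem commutatorCase_of_commutator_mem {S : Set (Subgroup G)} (hS : IsRootSubgroupSet S)
    {A B : Subgroup G} (hA : A ∈ S) (hB : B ∈ S) (hC : ⁅A, B⁆ ∈ S) : RootCommutatorCase S A B := by
  rcases hS.pair A hA B hB with h | h | h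
  · exact absurd h (hS.ne_bot _ hC)
  · exact absurd h (not_rankOne_of_commutator_mem hS hA hB hC)
  · exact h


/-! ### The commutator case -/

section CommCase

variable {S : Set (Subgroup G)} {A B : Subgroup G}

theorem commCase_central (h : RootCommutatorCase S A B) {c : G} (hc : c ∈ ⁅A, B⁆) {x : G}
    (hx : x ∈ A ⊔ B) : c * x = x * c := h.2.1 c hc x hx

theorem commCase_comm_mem {a b : G} (ha : a ∈ A) (hb : b ∈ B) : a⁻¹ * b⁻¹ * a * b ∈ ⁅A, B⁆ := by
  have := Subgroup.commutator_mem_commutator (A.inv_mem ha) (B.inv_mem hb)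
  rw [commutatorElement_def] at this
  simpa using this

/-- Multiplicativity of `b ↦ a⁻¹ b⁻¹ a b` in the commutator case. -/
theorem commCase_mul (h : RootCommutatorCase S A B) {a b b' : G} (ha : a ∈ A) (hb : b ∈ B)
    (hb' : b' ∈ B) :
    a⁻¹ * (b * b')⁻¹ * a * (b * b') = (a⁻¹ * b⁻¹ * a * b) * (a⁻¹ * b'⁻¹ * a * b') := by
  have hz := commCase_comm_mem ha hb
  have h1 := commCase_central h hz (Subgroup.mem_sup_right hb')
  have h2 := commCase_central h hz
    ((A ⊔ B).mul_mem ((A ⊔ B).mul_mem ((A ⊔ B).mul_mem (Subgroup.mem_sup_left (A.inv_mem ha))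
      (Subgroup.mem_sup_right (B.inv_mem hb'))) (Subgroup.mem_sup_left ha)) (Subgroup.mem_sup_right hb'))
  -- z = a⁻¹ b⁻¹ a b ; b⁻¹ a b = a z
  have e1 : a⁻¹ * (b * b')⁻¹ * a * (b * b') = a⁻¹ * b'⁻¹ * a * ((a⁻¹ * b⁻¹ * a * b) * b') := by group
  rw [e1, h1, h2]
  group

/-- The homomorphism `b ↦ a⁻¹ b⁻¹ a b` from `B` to `⁅A, B⁆` in the commutator case. -/
noncomputable def commCaseHom (h : RootCommutatorCase S A B) {a : G} (ha : a ∈ A) : ↥B →* ↥⁅A, B⁆ :=
  MonoidHom.mk' (fun b => ⟨a⁻¹ * (b : G)⁻¹ * a * b, commCase_comm_mem ha b.2⟩)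
    (fun b b' => Subtype.ext (by
      show a⁻¹ * ((b : G) * b')⁻¹ * a * ((b : G) * b') = _
      exact commCase_mul h ha b.2 b'.2))

theorem commCaseHom_apply (h : RootCommutatorCase S A B) {a : G} (ha : a ∈ A) (b : ↥B) :
    (commCaseHom h ha b : G) = a⁻¹ * (b : G)⁻¹ * a * b := rfl

/-- Surjectivity of `b ↦ a⁻¹ b⁻¹ a b` onto `⁅A, B⁆`. -/
theorem commCase_surj (h : RootCommutatorCase S A B) {a : G} (ha : a ∈ A) (ha1 : a ≠ 1) {f : G}
    (hf : f ∈ ⁅A, B⁆) : ∃ b ∈ B, a⁻¹ * b⁻¹ * a * b = f := by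
  have hcl := h.2.2.1 a⁻¹ (A.inv_mem ha) (by simpa using ha1)
  let R : Subgroup G := ((commCaseHom h ha).range).map (⁅A, B⁆).subtype
  have hle : ⁅A, B⁆ ≤ R := by
    rw [← hcl, Subgroup.closure_le]
    rintro _ ⟨b, hb, rfl⟩
    refine ⟨commCaseHom h ha ⟨b⁻¹, B.inv_mem hb⟩, ⟨_, rfl⟩, ?_⟩
    show a⁻¹ * (b⁻¹)⁻¹ * a * b⁻¹ = a⁻¹ * b * a⁻¹⁻¹ * b⁻¹
    simp
  obtain ⟨_, ⟨b, rfl⟩, hb⟩ := hle hf
  exact ⟨b, b.2, hb⟩

theorem commCase_comm_bot_left (h : RootCommutatorCase S A B) :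
    ∀ c ∈ ⁅A, B⁆, ∀ a ∈ A, c * a = a * c :=
  fun _ hc _ ha => commCase_central h hc (Subgroup.mem_sup_left ha)

theorem commCase_comm_bot_right (h : RootCommutatorCase S A B) :
    ∀ c ∈ ⁅A, B⁆, ∀ b ∈ B, c * b = b * c :=
  fun _ hc _ hb => commCase_central h hc (Subgroup.mem_sup_right hb)

/-- In the commutator case `A ≠ ⁅A, B⁆` (when `⁅A, B⁆ ≠ ⊥`). -/
theorem commCase_ne (hS : IsRootSubgroupSet S) (h : RootCommutatorCase S A B) : A ≠ ⁅A, B⁆ := by
  intro he
  apply hS.ne_bot _ h.1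
  rw [commutator_eq_bot_iff_commute]
  intro a ha b hb
  rw [he] at ha
  exact commCase_comm_bot_right h a ha b hb

/-- Injectivity: in the commutator case, with `A` having a rank one partner, no non-identity
element of `B` commutes with a non-identity element of `A`. -/
theorem commCase_eq_one_of_comm (hS : IsRootSubgroupSet S) (hA : A ∈ S) {P : Subgroup G}
    (hP : P ∈ S) (hAP : IsRankOnePair A P) (h : RootCommutatorCase S A B)
    {a b : G} (ha : a ∈ A) (ha1 : a ≠ 1) (hb : b ∈ B) (hab : a * b = b * a) : b = 1 := by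
  by_contra hb1
  have hmem : a ∈ conjBy A b := by
    have : b * a * b⁻¹ ∈ conjBy A b := conj_mem_conjBy ha
    rwa [← hab, mul_inv_cancel_right] at this
  have hconj : conjBy A b = A := by
    rcases root_TI hS hA hP hAP (hS.conj_mem A hA b) with h1 | h1
    · exfalso
      apply ha1
      have : a ∈ A ⊓ conjBy A b := ⟨ha, hmem⟩
      rw [h1] at this
      exact this
    · exact h1.symm
  have hCle : ⁅A, B⁆ ≤ A := by
    rw [← h.2.2.2 b hb hb1, Subgroup.closure_le]
    rintro _ ⟨a', ha', rfl⟩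
    have h2 : b * a'⁻¹ * b⁻¹ ∈ A := by
      have : b * a'⁻¹ * b⁻¹ ∈ conjBy A b := conj_mem_conjBy (A.inv_mem ha')
      rwa [hconj] at this
    have := A.mul_mem ha' h2
    simpa [mul_assoc] using this
  rcases root_TI hS hA hP hAP h.1 with h1 | h1
  · apply hS.ne_bot _ h.1
    rw [← h1]
    exact (inf_eq_right.2 hCle).symm
  · exact commCase_ne hS h h1

theorem commCase_inj (hS : IsRootSubgroupSet S) (hA : A ∈ S) {P : Subgroup G}
    (hP : P ∈ S) (hAP : IsRankOnePair A P) (h : RootCommutatorCase S A B)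
    {a b b' : G} (ha : a ∈ A) (ha1 : a ≠ 1) (hb : b ∈ B) (hb' : b' ∈ B)
    (he : a⁻¹ * b⁻¹ * a * b = a⁻¹ * b'⁻¹ * a * b') : b = b' := by
  -- apply the homomorphism to `b * b'⁻¹`
  have h1 : commCaseHom h ha ⟨b, hb⟩ = commCaseHom h ha ⟨b', hb'⟩ := Subtype.ext he
  have h2 : commCaseHom h ha (⟨b, hb⟩ * ⟨b', hb'⟩⁻¹) = 1 := by
    rw [map_mul, map_inv, h1, mul_inv_cancel]
  have h3 : a⁻¹ * (b * b'⁻¹)⁻¹ * a * (b * b'⁻¹) = 1 := congrArg Subtype.val h2
  have h4 : a * (b * b'⁻¹) = (b * b'⁻¹) * a := by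
    have : (b * b'⁻¹) * a * (a⁻¹ * (b * b'⁻¹)⁻¹ * a * (b * b'⁻¹)) = (b * b'⁻¹) * a * 1 := by rw [h3]
    rw [mul_one] at this
    rw [← this]; group
  have h5 := commCase_eq_one_of_comm hS hA hP hAP h ha ha1 (B.mul_mem hb (B.inv_mem hb')) h4
  exact mul_inv_eq_one.1 h5

/-- The isomorphism `B ≃* ⁅A, B⁆`, `b ↦ a⁻¹ b⁻¹ a b`. -/
theorem commCase_equiv (hS : IsRootSubgroupSet S) (hA : A ∈ S) {P : Subgroup G}
    (hP : P ∈ S) (hAP : IsRankOnePair A P) (h : RootCommutatorCase S A B)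
    {a : G} (ha : a ∈ A) (ha1 : a ≠ 1) :
    ∃ φ : ↥B ≃* ↥⁅A, B⁆, ∀ b : ↥B, (φ b : G) = a⁻¹ * (b : G)⁻¹ * a * b := by
  have hbij : Function.Bijective (commCaseHom h ha) := by
    constructor
    · intro b b' he
      apply Subtype.ext
      exact commCase_inj hS hA hP hAP h ha ha1 b.2 b'.2 (congrArg Subtype.val he)
    · intro f
      obtain ⟨b, hb, hbf⟩ := commCase_surj h ha ha1 f.2
      exact ⟨⟨b, hb⟩, Subtype.ext hbf⟩
  exact ⟨MulEquiv.ofBijective (commCaseHom h ha) hbij, fun b => rfl⟩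


/-- Elements of `A ⊔ C` for commuting `A`, `C` are products. -/
theorem mem_sup_of_commute {A C : Subgroup G} (hcomm : ∀ c ∈ C, ∀ a ∈ A, c * a = a * c) {x : G}
    (hx : x ∈ A ⊔ C) : ∃ a ∈ A, ∃ c ∈ C, x = c * a := by
  let T : Subgroup G :=
    { carrier := {x | ∃ a ∈ A, ∃ c ∈ C, x = c * a}
      one_mem' := ⟨1, A.one_mem, 1, C.one_mem, by simp⟩
      mul_mem' := by
        rintro _ _ ⟨a, ha, c, hc, rfl⟩ ⟨a', ha', c', hc', rfl⟩
        refine ⟨a * a', A.mul_mem ha ha', c * c', C.mul_mem hc hc', ?_⟩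
        have := hcomm c' hc' a ha
        calc c * a * (c' * a') = c * (a * c') * a' := by group
          _ = c * (c' * a) * a' := by rw [this]
          _ = c * c' * (a * a') := by group
      inv_mem' := by
        rintro _ ⟨a, ha, c, hc, rfl⟩
        refine ⟨a⁻¹, A.inv_mem ha, c⁻¹, C.inv_mem hc, ?_⟩
        have := hcomm c⁻¹ (C.inv_mem hc) a⁻¹ (A.inv_mem ha)
        rw [mul_inv_rev, this] }
  have hle : A ⊔ C ≤ T := by
    apply sup_le
    · intro a ha
      exact ⟨a, ha, 1, C.one_mem, by simp⟩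
    · intro c hc
      exact ⟨1, A.one_mem, c, hc, by simp⟩
  exact hle hx

theorem mem_centralizer_sup {A B : Subgroup G} {z : G} (hA : ∀ a ∈ A, a * z = z * a)
    (hB : ∀ b ∈ B, b * z = z * b) : z ∈ Subgroup.centralizer ((A ⊔ B : Subgroup G) : Set G) := by
  have h1 : A ⊔ B ≤ Subgroup.centralizer ({z} : Set G) := by
    apply sup_le
    · intro a ha
      rw [Subgroup.mem_centralizer_iff]
      intro m hm
      rw [Set.mem_singleton_iff] at hm
      subst hm
      exact (hA a ha).symm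
    · intro b hb
      rw [Subgroup.mem_centralizer_iff]
      intro m hm
      rw [Set.mem_singleton_iff] at hm
      subst hm
      exact (hB b hb).symm
  rw [Subgroup.mem_centralizer_iff]
  intro x hx
  have := h1 hx
  rw [Subgroup.mem_centralizer_iff] at this
  exact (this z rfl).symm

section CommCase2

variable {S : Set (Subgroup G)} {A B : Subgroup G}

theorem commCase_conj_le {b : G} (hb : b ∈ B) : conjBy A b ≤ A ⊔ ⁅A, B⁆ := by
  intro x hx
  rw [mem_conjBy] at hx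
  -- x = b (b⁻¹ x b) b⁻¹ = ⁅b, a⁆ a with a = b⁻¹ x b
  have h1 : (b⁻¹ * x * b) * b * (b⁻¹ * x * b)⁻¹ * b⁻¹ ∈ ⁅A, B⁆ :=
    Subgroup.commutator_mem_commutator hx hb
  have h2 : x = ((b⁻¹ * x * b) * b * (b⁻¹ * x * b)⁻¹ * b⁻¹)⁻¹ * (b⁻¹ * x * b) := by group
  rw [h2]
  exact (A ⊔ ⁅A, B⁆).mul_mem (Subgroup.mem_sup_right (Subgroup.inv_mem _ h1))
    (Subgroup.mem_sup_left hx)

/-- Every `c a` with `a ∈ A` non-identity and `c ∈ ⁅A, B⁆` is a `B`-conjugate of `a`. -/
theorem commCase_cover (h : RootCommutatorCase S A B) {a : G} (ha : a ∈ A) (ha1 : a ≠ 1) {c : G}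
    (hc : c ∈ ⁅A, B⁆) : ∃ b ∈ B, c * a = b * a * b⁻¹ := by
  obtain ⟨b', hb', he⟩ := commCase_surj h (A.inv_mem ha) (by simpa using ha1)
    (Subgroup.inv_mem _ hc)
  refine ⟨b'⁻¹, B.inv_mem hb', ?_⟩
  have : c = (a⁻¹⁻¹ * b'⁻¹ * a⁻¹ * b')⁻¹ := by rw [he, inv_inv]
  rw [this]
  group

/-- A member of `S` inside `⁅A, B⁆` is all of `⁅A, B⁆`. -/
theorem commCase_eq_of_le (hS : IsRootSubgroupSet S) (hA : A ∈ S) {P : Subgroup G}
    (hP : P ∈ S) (hAP : IsRankOnePair A P) (h : RootCommutatorCase S A B)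
    {E : Subgroup G} (hE : E ∈ S) (hEle : E ≤ ⁅A, B⁆) : E = ⁅A, B⁆ := by
  have hC : ⁅A, B⁆ ∈ S := h.1
  have hPA := RankOnePair_symm hAP
  obtain ⟨e, he, he1⟩ := exists_ne_one_of_ne_bot (hS.ne_bot E hE)
  obtain ⟨p, hp, hp1⟩ := exists_ne_one_of_ne_bot (hS.ne_bot P hP)
  rcases hS.pair P hP _ hC with h1 | h1 | h1
  · exfalso
    rw [commutator_eq_bot_iff_commute] at h1
    obtain ⟨a, ha, ha1⟩ := exists_ne_one_of_ne_bot (hS.ne_bot A hA)
    obtain ⟨b, hb, hcov⟩ := commCase_cover h ha ha1 (hEle he)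
    have hz : e ∈ Subgroup.centralizer ((A ⊔ P : Subgroup G) : Set G) :=
      mem_centralizer_sup (fun a' ha' => (commCase_comm_bot_left h e (hEle he) a' ha').symm)
        (fun p' hp' => h1 p' hp' e (hEle he))
    apply Cfsg.Agent.S5025.result hS hA ⟨hP, hAP⟩ hz he1 a ha ha1
    refine ⟨?_, conjBy A b, hS.conj_mem A hA b, ?_⟩
    · rw [hcov]
      intro h0
      apply ha1
      have : b⁻¹ * (b * a * b⁻¹) * b = b⁻¹ * 1 * b := by rw [h0]
      simpa [mul_assoc] using this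
    · rw [hcov]
      exact conj_mem_conjBy ha
  · rcases root_TI hS hC hP (RankOnePair_symm h1) hE with h2 | h2
    · exfalso
      apply hS.ne_bot E hE
      rw [← h2]
      exact (inf_eq_right.2 hEle).symm
    · exact h2.symm
  · rcases hS.pair P hP E hE with h2 | h2 | h2
    · exfalso
      rw [commutator_eq_bot_iff_commute] at h2
      exact he1 (commCase_eq_one_of_comm hS hP hA hPA h1 hp hp1 (hEle he) (h2 p hp e he))
    · exfalso
      apply rankOne_no_normalizing_commutators (RankOnePair_symm h2) he he1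
      intro p' hp'
      have hm : p' * e * p'⁻¹ * e⁻¹ ∈ ⁅P, ⁅A, B⁆⁆ :=
        Subgroup.commutator_mem_commutator hp' (hEle he)
      have hm' : e * p' * e⁻¹ * p'⁻¹ ∈ ⁅P, ⁅A, B⁆⁆ := by
        have := Subgroup.inv_mem _ hm
        have e2 : (p' * e * p'⁻¹ * e⁻¹)⁻¹ = e * p' * e⁻¹ * p'⁻¹ := by group
        rwa [e2] at this
      exact mem_normalizer_of_comm (fun y hy => commCase_comm_bot_left h1 _ hm' y hy)
    · have hFF : ⁅P, E⁆ = ⁅P, ⁅A, B⁆⁆ := by
        rw [← h2.2.2.2 e he he1, ← h1.2.2.2 e (hEle he) he1]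
      apply le_antisymm hEle
      intro c hc
      have hf : p⁻¹ * c⁻¹ * p * c ∈ ⁅P, E⁆ := by
        rw [hFF]
        exact commCase_comm_mem hp hc
      obtain ⟨e', he', heq⟩ := commCase_surj h2 hp hp1 hf
      have := commCase_inj hS hP hA hPA h1 hp hp1 (hEle he') hc heq
      rwa [← this]

theorem conj_not_isolated_pair (hS : IsRootSubgroupSet S) {P : Subgroup G}
    (hP : P ∈ S) (hAP : IsRankOnePair A P) (g : G) :
    conjBy P g ∈ S ∧ IsRankOnePair (conjBy A g) (conjBy P g) :=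
  ⟨hS.conj_mem P hP g, rankOnePair_conj hAP g⟩

/-- The members of `S` inside `A ⊔ ⁅A, B⁆` in the commutator case. -/
theorem commCase_membersIn (hS : IsRootSubgroupSet S) (hA : A ∈ S) {P : Subgroup G}
    (hP : P ∈ S) (hAP : IsRankOnePair A P) (h : RootCommutatorCase S A B) :
    membersIn S (A ⊔ ⁅A, B⁆) = (fun b : G => conjBy A b) '' (B : Set G) ∪ {⁅A, B⁆} := by
  ext E
  constructor
  · rintro ⟨hE, hEle⟩
    by_cases hEC : E ≤ ⁅A, B⁆
    · right
      exact commCase_eq_of_le hS hA hP hAP h hE hEC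
    · left
      rw [SetLike.not_le_iff_exists] at hEC
      obtain ⟨e, he, heC⟩ := hEC
      obtain ⟨a, ha, c, hc, rfl⟩ := mem_sup_of_commute (commCase_comm_bot_left h) (hEle he)
      have ha1 : a ≠ 1 := by
        rintro rfl
        apply heC
        simpa using hc
      obtain ⟨b, hb, hcov⟩ := commCase_cover h ha ha1 hc
      refine ⟨b, hb, ?_⟩
      obtain ⟨hPb, hpair⟩ := conj_not_isolated_pair hS hP hAP b
      rcases root_TI hS (hS.conj_mem A hA b) hPb hpair hE with h1 | h1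
      · exfalso
        apply heC
        have : c * a ∈ conjBy A b ⊓ E := ⟨by rw [hcov]; exact conj_mem_conjBy ha, he⟩
        rw [h1, Subgroup.mem_bot] at this
        rw [this]
        exact Subgroup.one_mem _
      · exact h1
  · rintro (⟨b, hb, rfl⟩ | rfl)
    · exact ⟨hS.conj_mem A hA b, commCase_conj_le hb⟩
    · exact ⟨h.1, le_sup_right⟩

/-- The members of `S` inside `A ⊔ ⁅A, B⁆` partition it. -/
theorem commCase_partition (hS : IsRootSubgroupSet S) (hA : A ∈ S) {P : Subgroup G}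
    (hP : P ∈ S) (hAP : IsRankOnePair A P) (h : RootCommutatorCase S A B) :
    IsSubgroupPartition (A ⊔ ⁅A, B⁆) (membersIn S (A ⊔ ⁅A, B⁆)) := by
  refine ⟨fun E hE => hE.2, ?_, ?_⟩
  · intro x hx hx1
    obtain ⟨a, ha, c, hc, rfl⟩ := mem_sup_of_commute (commCase_comm_bot_left h) hx
    by_cases ha1 : a = 1
    · subst ha1
      exact ⟨_, ⟨h.1, le_sup_right⟩, by simpa using hc⟩
    · obtain ⟨b, hb, hcov⟩ := commCase_cover h ha ha1 hc
      refine ⟨conjBy A b, ⟨hS.conj_mem A hA b, commCase_conj_le hb⟩, ?_⟩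
      rw [hcov]
      exact conj_mem_conjBy ha
  · intro E₁ hE₁ E₂ hE₂ hne
    have hE₁S := hE₁.1
    have hE₂S := hE₂.1
    rw [commCase_membersIn hS hA hP hAP h] at hE₁ hE₂
    rcases hE₁ with ⟨b, hb, rfl⟩ | rfl
    · obtain ⟨hPb, hpair⟩ := conj_not_isolated_pair hS hP hAP b
      exact (root_TI hS hE₁S hPb hpair hE₂S).resolve_right hne
    · rcases hE₂ with ⟨b, hb, rfl⟩ | rfl
      · obtain ⟨hPb, hpair⟩ := conj_not_isolated_pair hS hP hAP b
        rw [inf_comm]
        exact (root_TI hS hE₂S hPb hpair hE₁S).resolve_right (Ne.symm hne)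
      · exact absurd rfl hne

end CommCase2

end CommCase

end Cfsg.Agent.Lib.Helper25
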