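/-
helper25: transvection subgroups `TV v φ = {1 + c • v φᵀ}` (`φ ⬝ᵥ v = 0`) of `SL ι k`:
basic calculus (products, conjugation, scaling).
-/
import Mathlib
import Cfsg.Prelude.Def_RootSubgroups
import Cfsg.Agent.Lib.Helper25.RankOne

set_option autoImplicit false

namespace Cfsg.Agent.Lib.Helper25.SLRoot

open Cfsg Matrix
open Cfsg.Agent.Lib.Helper25

variable {ι : Type*} [Fintype ι] [DecidableEq ι] {k : Type*} [Field k]

/-- `1 + c • v φᵀ`. -/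
def tvMat (v φ : ι → k) (c : k) : Matrix ι ι k := 1 + c • vecMulVec v φ

theorem vv_mul (v φ w ψ : ι → k) :
    vecMulVec v φ * vecMulVec w ψ = (φ ⬝ᵥ w) • vecMulVec v ψ := by
  rw [vecMulVec_mul_vecMulVec, vecMulVec_smul]

theorem tvMat_mul (v φ w ψ : ι → k) (a b : k) :
    tvMat v φ a * tvMat w ψ b =
      1 + a • vecMulVec v φ + b • vecMulVec w ψ + (a * b * (φ ⬝ᵥ w)) • vecMulVec v ψ := by
  unfold tvMat
  rw [add_mul, mul_add, mul_add, one_mul, mul_one, one_mul, smul_mul_smul_comm, vv_mul, smul_smul]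
  abel

theorem tvMat_zero (v φ : ι → k) : tvMat v φ 0 = 1 := by
  unfold tvMat; rw [zero_smul, add_zero]

theorem tvMat_mul_self {v φ : ι → k} (h : φ ⬝ᵥ v = 0) (a b : k) :
    tvMat v φ a * tvMat v φ b = tvMat v φ (a + b) := by
  rw [tvMat_mul, h, mul_zero, zero_smul, add_zero]
  unfold tvMat
  rw [add_smul, add_assoc]

theorem tvMat_det {v φ : ι → k} (h : φ ⬝ᵥ v = 0) (c : k) : (tvMat v φ c).det = 1 := by
  unfold tvMat
  rw [← smul_vecMulVec, vecMulVec_eq Unit, det_one_add_replicateCol_mul_replicateRow,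
    dotProduct_smul, h, smul_zero, add_zero]

/-- The transvection `1 + c • v φᵀ` as an element of `SL`. -/
def tvSL (v φ : ι → k) (h : φ ⬝ᵥ v = 0) (c : k) : Matrix.SpecialLinearGroup ι k :=
  ⟨tvMat v φ c, tvMat_det h c⟩

theorem tvSL_coe (v φ : ι → k) (h : φ ⬝ᵥ v = 0) (c : k) :
    (tvSL v φ h c : Matrix ι ι k) = 1 + c • vecMulVec v φ := rfl

theorem tvSL_mul {v φ : ι → k} (h : φ ⬝ᵥ v = 0) (a b : k) :
    tvSL v φ h a * tvSL v φ h b = tvSL v φ h (a + b) := by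
  apply Subtype.ext
  exact tvMat_mul_self h a b

theorem tvSL_zero {v φ : ι → k} (h : φ ⬝ᵥ v = 0) : tvSL v φ h 0 = 1 := by
  apply Subtype.ext
  exact tvMat_zero v φ

theorem tvSL_inv {v φ : ι → k} (h : φ ⬝ᵥ v = 0) (a : k) :
    (tvSL v φ h a)⁻¹ = tvSL v φ h (-a) := by
  rw [inv_eq_iff_mul_eq_one, tvSL_mul, add_neg_cancel, tvSL_zero]

/-- the one-parameter homomorphism. -/
def tvHom (v φ : ι → k) (h : φ ⬝ᵥ v = 0) : Multiplicative k →* Matrix.SpecialLinearGroup ι k where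
  toFun c := tvSL v φ h (Multiplicative.toAdd c)
  map_one' := tvSL_zero h
  map_mul' a b := (tvSL_mul h _ _).symm

/-- The transvection subgroup attached to `(v, φ)`. -/
def TV (v φ : ι → k) (h : φ ⬝ᵥ v = 0) : Subgroup (Matrix.SpecialLinearGroup ι k) := (tvHom v φ h).range

theorem mem_TV {v φ : ι → k} {h : φ ⬝ᵥ v = 0} {g : Matrix.SpecialLinearGroup ι k} :
    g ∈ TV v φ h ↔ ∃ c : k, tvSL v φ h c = g := by
  constructor
  · rintro ⟨c, rfl⟩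
    exact ⟨Multiplicative.toAdd c, rfl⟩
  · rintro ⟨c, rfl⟩
    exact ⟨Multiplicative.ofAdd c, rfl⟩

theorem tvSL_mem {v φ : ι → k} (h : φ ⬝ᵥ v = 0) (c : k) : tvSL v φ h c ∈ TV v φ h :=
  mem_TV.2 ⟨c, rfl⟩

theorem TV_comm {v φ : ι → k} (h : φ ⬝ᵥ v = 0) : IsMulCommutative (TV v φ h) := by
  rw [isMulCommutative_iff]
  rintro ⟨_, hx⟩ ⟨_, hy⟩
  obtain ⟨a, rfl⟩ := mem_TV.1 hx
  obtain ⟨b, rfl⟩ := mem_TV.1 hy
  apply Subtype.ext
  show tvSL v φ h a * tvSL v φ h b = tvSL v φ h b * tvSL v φ h a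
  rw [tvSL_mul, tvSL_mul, add_comm]

theorem tvSL_eq_one_iff {v φ : ι → k} (h : φ ⬝ᵥ v = 0) (hv : v ≠ 0) (hφ : φ ≠ 0) {c : k} :
    tvSL v φ h c = 1 ↔ c = 0 := by
  constructor
  · intro e
    have e1 : (tvSL v φ h c : Matrix ι ι k) = 1 := congrArg Subtype.val e
    rw [tvSL_coe, add_eq_left, smul_eq_zero] at e1
    rcases e1 with e1 | e1
    · exact e1
    · rw [vecMulVec_eq_zero] at e1
      rcases e1 with e1 | e1
      · exact absurd e1 hv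
      · exact absurd e1 hφ
  · rintro rfl
    exact tvSL_zero h

theorem TV_ne_bot {v φ : ι → k} (h : φ ⬝ᵥ v = 0) (hv : v ≠ 0) (hφ : φ ≠ 0) : TV v φ h ≠ ⊥ := by
  intro e
  have h1 : tvSL v φ h 1 ∈ TV v φ h := tvSL_mem h 1
  rw [e, Subgroup.mem_bot, tvSL_eq_one_iff h hv hφ] at h1
  exact one_ne_zero h1

/-- conjugation -/
theorem conj_dot {v φ : ι → k} (h : φ ⬝ᵥ v = 0) (g : Matrix.SpecialLinearGroup ι k) :
    (φ ᵥ* (↑(g⁻¹) : Matrix ι ι k)) ⬝ᵥ ((↑g : Matrix ι ι k) *ᵥ v) = 0 := by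
  rw [← dotProduct_mulVec, mulVec_mulVec]
  have : (↑(g⁻¹) : Matrix ι ι k) * (↑g : Matrix ι ι k) = 1 := by
    rw [← Matrix.SpecialLinearGroup.coe_mul, inv_mul_cancel, Matrix.SpecialLinearGroup.coe_one]
  rw [this, one_mulVec, h]

theorem conj_tvSL {v φ : ι → k} (h : φ ⬝ᵥ v = 0) (g : Matrix.SpecialLinearGroup ι k) (c : k) :
    g * tvSL v φ h c * g⁻¹ =
      tvSL ((↑g : Matrix ι ι k) *ᵥ v) (φ ᵥ* (↑(g⁻¹) : Matrix ι ι k)) (conj_dot h g) c := by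
  apply Subtype.ext
  show (↑g : Matrix ι ι k) * (1 + c • vecMulVec v φ) * (↑(g⁻¹) : Matrix ι ι k) =
    1 + c • vecMulVec ((↑g : Matrix ι ι k) *ᵥ v) (φ ᵥ* (↑(g⁻¹) : Matrix ι ι k))
  have hgi : (↑g : Matrix ι ι k) * (↑(g⁻¹) : Matrix ι ι k) = 1 := by
    rw [← Matrix.SpecialLinearGroup.coe_mul, mul_inv_cancel, Matrix.SpecialLinearGroup.coe_one]
  rw [mul_add, add_mul, mul_one, hgi, Matrix.mul_smul, Matrix.smul_mul, mul_vecMulVec,
    vecMulVec_mul]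

theorem conjBy_TV {v φ : ι → k} (h : φ ⬝ᵥ v = 0) (g : Matrix.SpecialLinearGroup ι k) :
    conjBy (TV v φ h) g = TV ((↑g : Matrix ι ι k) *ᵥ v) (φ ᵥ* (↑(g⁻¹) : Matrix ι ι k)) (conj_dot h g) := by
  ext x
  rw [mem_conjBy, mem_TV, mem_TV]
  constructor
  · rintro ⟨c, hc⟩
    refine ⟨c, ?_⟩
    rw [← conj_tvSL h g c, hc]
    group
  · rintro ⟨c, rfl⟩
    refine ⟨c, ?_⟩
    rw [← conj_tvSL h g c]
    group

/-- scaling -/
theorem TV_smul {v φ : ι → k} (h : φ ⬝ᵥ v = 0) {a b : k} (ha : a ≠ 0) (hb : b ≠ 0)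
    (h' : (b • φ) ⬝ᵥ (a • v) = 0) : TV (a • v) (b • φ) h' = TV v φ h := by
  have key : ∀ c : k, tvSL (a • v) (b • φ) h' c = tvSL v φ h (c * a * b) := by
    intro c
    apply Subtype.ext
    show 1 + c • vecMulVec (a • v) (b • φ) = 1 + (c * a * b) • vecMulVec v φ
    rw [smul_vecMulVec, vecMulVec_smul, smul_smul, smul_smul]
  ext x
  rw [mem_TV, mem_TV]
  constructor
  · rintro ⟨c, rfl⟩
    exact ⟨c * a * b, (key c).symm⟩
  · rintro ⟨c, rfl⟩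
    refine ⟨c / (a * b), ?_⟩
    rw [key]
    congr 1
    field_simp

/-- equality of the data gives equality of subgroups. -/
theorem TV_congr {v φ v' φ' : ι → k} (h : φ ⬝ᵥ v = 0) (hv : v = v') (hφ : φ = φ')
    (h' : φ' ⬝ᵥ v' = 0) : TV v φ h = TV v' φ' h' := by
  subst hv; subst hφ; rfl

end Cfsg.Agent.Lib.Helper25.SLRoot
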