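/-
helper25: pairs of transvection subgroups `TV v φ`, `TV w ψ` of `SL ι k`:
commuting / commutator case / rank one pair, according to `φ ⬝ᵥ w` and `ψ ⬝ᵥ v`.
-/
import Mathlib
import Cfsg.Prelude.Def_RootSubgroups
import Cfsg.Agent.Lib.Helper25.SLRoot1
import Cfsg.Agent.Lib.Helper25.RootSetMap
import Cfsg.Agent.Lib.Helper25.RootSetComm

set_option autoImplicit false

namespace Cfsg.Agent.Lib.Helper25.SLRoot

open Cfsg Matrix
open Cfsg.Agent.Lib.Helper25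
open scoped commutatorElement

variable {ι : Type*} [Fintype ι] [DecidableEq ι] {k : Type*} [Field k]

theorem tvSL_commute {v φ w ψ : ι → k} (hv : φ ⬝ᵥ v = 0) (hw : ψ ⬝ᵥ w = 0)
    (h1 : φ ⬝ᵥ w = 0) (h2 : ψ ⬝ᵥ v = 0) (a b : k) :
    tvSL v φ hv a * tvSL w ψ hw b = tvSL w ψ hw b * tvSL v φ hv a := by
  apply Subtype.ext
  show tvMat v φ a * tvMat w ψ b = tvMat w ψ b * tvMat v φ a
  rw [tvMat_mul, tvMat_mul, h1, h2, mul_zero, mul_zero, zero_smul, zero_smul, add_zero, add_zero]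
  abel

/-- the basic commutator identity: `a b = ⁅a,b⁆ b a` with `⁅a, b⁆ = 1 + s t (φ⬝w) v ψᵀ`. -/
theorem tvSL_comm_identity {v φ w ψ : ι → k} (hv : φ ⬝ᵥ v = 0) (hw : ψ ⬝ᵥ w = 0)
    (h2 : ψ ⬝ᵥ v = 0) (s t : k) :
    tvSL v φ hv s * tvSL w ψ hw t =
      tvSL v ψ h2 (s * t * (φ ⬝ᵥ w)) * (tvSL w ψ hw t * tvSL v φ hv s) := by
  apply Subtype.ext
  show tvMat v φ s * tvMat w ψ t = tvMat v ψ (s * t * (φ ⬝ᵥ w)) * (tvMat w ψ t * tvMat v φ s)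
  rw [tvMat_mul, tvMat_mul, h2, mul_zero, zero_smul, add_zero]
  unfold tvMat
  rw [add_mul, one_mul, mul_add, mul_add, mul_one, smul_mul_smul_comm, smul_mul_smul_comm, vv_mul,
    vv_mul, hw, h2, zero_smul, zero_smul, smul_zero, smul_zero, add_zero, add_zero]
  abel

theorem tvSL_commutatorElement {v φ w ψ : ι → k} (hv : φ ⬝ᵥ v = 0) (hw : ψ ⬝ᵥ w = 0)
    (h2 : ψ ⬝ᵥ v = 0) (s t : k) :
    tvSL v φ hv s * tvSL w ψ hw t * (tvSL v φ hv s)⁻¹ * (tvSL w ψ hw t)⁻¹ =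
      tvSL v ψ h2 (s * t * (φ ⬝ᵥ w)) := by
  rw [tvSL_comm_identity hv hw h2]
  group

theorem elements_commute {v φ w ψ : ι → k} (hv : φ ⬝ᵥ v = 0) (hw : ψ ⬝ᵥ w = 0)
    (h1 : φ ⬝ᵥ w = 0) (h2 : ψ ⬝ᵥ v = 0) :
    ∀ a ∈ TV v φ hv, ∀ b ∈ TV w ψ hw, a * b = b * a := by
  intro a ha b hb
  obtain ⟨s, rfl⟩ := mem_TV.1 ha
  obtain ⟨t, rfl⟩ := mem_TV.1 hb
  exact tvSL_commute hv hw h1 h2 s t

/-- (P1) -/
theorem commutator_eq_bot_of {v φ w ψ : ι → k} (hv : φ ⬝ᵥ v = 0) (hw : ψ ⬝ᵥ w = 0)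
    (h1 : φ ⬝ᵥ w = 0) (h2 : ψ ⬝ᵥ v = 0) : ⁅TV v φ hv, TV w ψ hw⁆ = ⊥ :=
  commutator_eq_bot_iff_commute.2 (elements_commute hv hw h1 h2)

theorem commutator_eq_TV {v φ w ψ : ι → k} (hv : φ ⬝ᵥ v = 0) (hw : ψ ⬝ᵥ w = 0)
    (h1 : φ ⬝ᵥ w ≠ 0) (h2 : ψ ⬝ᵥ v = 0) : ⁅TV v φ hv, TV w ψ hw⁆ = TV v ψ h2 := by
  apply le_antisymm
  · rw [Subgroup.commutator_le]
    intro a ha b hb
    obtain ⟨s, rfl⟩ := mem_TV.1 ha
    obtain ⟨t, rfl⟩ := mem_TV.1 hb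
    rw [commutatorElement_def, tvSL_commutatorElement hv hw h2]
    exact tvSL_mem h2 _
  · intro z hz
    obtain ⟨c, rfl⟩ := mem_TV.1 hz
    have := Subgroup.commutator_mem_commutator (tvSL_mem hv (c / (φ ⬝ᵥ w))) (tvSL_mem hw 1)
    rw [commutatorElement_def, tvSL_commutatorElement hv hw h2] at this
    convert this using 2
    field_simp

theorem closure_TV {v φ : ι → k} (h : φ ⬝ᵥ v = 0) (f : k → k) (hf : Function.Surjective f) :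
    Subgroup.closure (Set.range (fun t => tvSL v φ h (f t))) = TV v φ h := by
  have : Set.range (fun t => tvSL v φ h (f t)) = (TV v φ h : Set (Matrix.SpecialLinearGroup ι k)) := by
    ext x
    constructor
    · rintro ⟨t, rfl⟩
      exact tvSL_mem h _
    · intro hx
      obtain ⟨c, rfl⟩ := mem_TV.1 hx
      obtain ⟨t, rfl⟩ := hf c
      exact ⟨t, rfl⟩
  rw [this, Subgroup.closure_eq]

/-- (P3): the commutator case. -/
theorem commCase_of {S : Set (Subgroup (Matrix.SpecialLinearGroup ι k))} {v φ w ψ : ι → k}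
    (hv : φ ⬝ᵥ v = 0) (hw : ψ ⬝ᵥ w = 0) (hv0 : v ≠ 0) (hφ0 : φ ≠ 0) (hw0 : w ≠ 0) (hψ0 : ψ ≠ 0)
    (h1 : φ ⬝ᵥ w ≠ 0) (h2 : ψ ⬝ᵥ v = 0) (hS : TV v ψ h2 ∈ S) :
    RootCommutatorCase S (TV v φ hv) (TV w ψ hw) := by
  have hcomm := commutator_eq_TV hv hw h1 h2
  refine ⟨by rw [hcomm]; exact hS, ?_, ?_, ?_⟩
  · rw [hcomm]
    intro c hc x hx
    have hmem : c ∈ Subgroup.centralizer ((TV v φ hv ⊔ TV w ψ hw : Subgroup _) : Set _) := by
      apply mem_centralizer_sup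
      · intro a ha
        exact (elements_commute h2 hv h2 hv c hc a ha).symm
      · intro b hb
        exact (elements_commute h2 hw hw h2 c hc b hb).symm
    exact (Subgroup.mem_centralizer_iff.1 hmem x hx).symm
  · intro a ha ha1
    obtain ⟨s, rfl⟩ := mem_TV.1 ha
    have hs : s ≠ 0 := fun e => ha1 ((tvSL_eq_one_iff hv hv0 hφ0).2 e)
    rw [hcomm, ← closure_TV h2 (fun t => s * t * (φ ⬝ᵥ w))]
    · congr 1
      ext x
      constructor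
      · rintro ⟨b, hb, rfl⟩
        obtain ⟨t, rfl⟩ := mem_TV.1 hb
        exact ⟨t, (tvSL_commutatorElement hv hw h2 s t).symm⟩
      · rintro ⟨t, rfl⟩
        exact ⟨tvSL w ψ hw t, tvSL_mem hw t, tvSL_commutatorElement hv hw h2 s t⟩
    · intro c
      refine ⟨c / (s * (φ ⬝ᵥ w)), ?_⟩
      field_simp
  · intro b hb hb1
    obtain ⟨t, rfl⟩ := mem_TV.1 hb
    have ht : t ≠ 0 := fun e => hb1 ((tvSL_eq_one_iff hw hw0 hψ0).2 e)
    rw [hcomm, ← closure_TV h2 (fun s => s * t * (φ ⬝ᵥ w))]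
    · congr 1
      ext x
      constructor
      · rintro ⟨a, ha, rfl⟩
        obtain ⟨s, rfl⟩ := mem_TV.1 ha
        exact ⟨s, (tvSL_commutatorElement hv hw h2 s t).symm⟩
      · rintro ⟨s, rfl⟩
        exact ⟨tvSL v φ hv s, tvSL_mem hv s, tvSL_commutatorElement hv hw h2 s t⟩
    · intro c
      refine ⟨c / (t * (φ ⬝ᵥ w)), ?_⟩
      field_simp

end Cfsg.Agent.Lib.Helper25.SLRoot
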