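/-
helper25: pairs of transvection subgroups of `SL ι k`: the rank one case, and symmetry of the
commutator case.
-/
import Mathlib
import Cfsg.Prelude.Def_RootSubgroups
import Cfsg.Agent.Lib.Helper25.SLRoot2

set_option autoImplicit false

namespace Cfsg.Agent.Lib.Helper25.SLRoot

open Cfsg Matrix
open Cfsg.Agent.Lib.Helper25
open scoped commutatorElement

/-- the commutator case is symmetric. -/
theorem rootCommutatorCase_symm {G : Type*} [Group G] {S : Set (Subgroup G)} {A B : Subgroup G}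
    (h : RootCommutatorCase S B A) : RootCommutatorCase S A B := by
  obtain ⟨h1, h2, h3, h4⟩ := h
  have hc : ⁅A, B⁆ = ⁅B, A⁆ := Subgroup.commutator_comm A B
  have hset1 : ∀ (a : G) (T : Set G), ((fun b => a * b * a⁻¹ * b⁻¹) '' T)⁻¹ =
      (fun b => b * a * b⁻¹ * a⁻¹) '' T := by
    intro a T
    ext x
    rw [Set.mem_inv]
    constructor
    · rintro ⟨b, hb, hx⟩
      refine ⟨b, hb, ?_⟩
      have hx' : a * b * a⁻¹ * b⁻¹ = x⁻¹ := hx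
      have : x = (a * b * a⁻¹ * b⁻¹)⁻¹ := by rw [hx', inv_inv]
      rw [this]; group
    · rintro ⟨b, hb, rfl⟩
      exact ⟨b, hb, by group⟩
  have hset2 : ∀ (b : G) (T : Set G), ((fun a => a * b * a⁻¹ * b⁻¹) '' T)⁻¹ =
      (fun a => b * a * b⁻¹ * a⁻¹) '' T := by
    intro b T
    ext x
    rw [Set.mem_inv]
    constructor
    · rintro ⟨a, ha, hx⟩
      refine ⟨a, ha, ?_⟩
      have hx' : a * b * a⁻¹ * b⁻¹ = x⁻¹ := hx
      have : x = (a * b * a⁻¹ * b⁻¹)⁻¹ := by rw [hx', inv_inv]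
      rw [this]; group
    · rintro ⟨a, ha, rfl⟩
      exact ⟨a, ha, by group⟩
  refine ⟨by rw [hc]; exact h1, ?_, ?_, ?_⟩
  · rw [hc, sup_comm]; exact h2
  · intro a ha ha1
    rw [hc, ← h4 a ha ha1, ← hset1 a, Subgroup.closure_inv]
  · intro b hb hb1
    rw [hc, ← h3 b hb hb1, ← hset2 b, Subgroup.closure_inv]

variable {ι : Type*} [Fintype ι] [DecidableEq ι] {k : Type*} [Field k]

theorem tvSL_mulVec {w ψ : ι → k} (hw : ψ ⬝ᵥ w = 0) (c : k) (v : ι → k) :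
    (↑(tvSL w ψ hw c) : Matrix ι ι k) *ᵥ v = v + (c * (ψ ⬝ᵥ v)) • w := by
  rw [tvSL_coe, add_mulVec, one_mulVec, smul_mulVec, vecMulVec_mulVec, op_smul_eq_smul, smul_smul]

theorem vecMul_tvSL {w ψ : ι → k} (hw : ψ ⬝ᵥ w = 0) (c : k) (φ : ι → k) :
    φ ᵥ* (↑(tvSL w ψ hw c) : Matrix ι ι k) = φ + (c * (φ ⬝ᵥ w)) • ψ := by
  rw [tvSL_coe, vecMul_add, vecMul_one, vecMul_smul, vecMul_vecMulVec, smul_smul]

/-- the one-sided rank one condition. -/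
theorem rankOneCondition_of {v φ w ψ : ι → k} (hv : φ ⬝ᵥ v = 0) (hw : ψ ⬝ᵥ w = 0)
    (hv0 : v ≠ 0) (hφ0 : φ ≠ 0) (hw0 : w ≠ 0) (hψ0 : ψ ≠ 0)
    (h1 : φ ⬝ᵥ w ≠ 0) (h2 : ψ ⬝ᵥ v ≠ 0) : RankOneCondition (TV v φ hv) (TV w ψ hw) := by
  intro a ha ha1
  obtain ⟨s, rfl⟩ := mem_TV.1 ha
  have hs : s ≠ 0 := fun e => ha1 ((tvSL_eq_one_iff hv hv0 hφ0).2 e)
  set α := φ ⬝ᵥ w with hα
  set β := ψ ⬝ᵥ v with hβ
  have ht0 : (s * α * β)⁻¹ ≠ 0 := inv_ne_zero (mul_ne_zero (mul_ne_zero hs h1) h2)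
  refine ⟨tvSL w ψ hw (s * α * β)⁻¹, tvSL_mem hw _, ?_, ?_⟩
  · intro e
    exact ht0 ((tvSL_eq_one_iff hw hw0 hψ0).1 e)
  · rw [conjBy_TV, conjBy_TV]
    have e1 : (↑((tvSL w ψ hw (s * α * β)⁻¹)⁻¹) : Matrix ι ι k) *ᵥ v =
        (-((s * α * β)⁻¹ * β)) • ((↑((tvSL v φ hv s)⁻¹) : Matrix ι ι k) *ᵥ w) := by
      rw [tvSL_inv, tvSL_inv, tvSL_mulVec, tvSL_mulVec, ← hα, ← hβ, smul_add, smul_smul]
      have : -((s * α * β)⁻¹ * β) * (-s * α) = 1 := by field_simp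
      rw [this, one_smul, add_comm]
      congr 1
      rw [neg_mul]
    have e2 : φ ᵥ* (↑((tvSL w ψ hw (s * α * β)⁻¹)⁻¹⁻¹) : Matrix ι ι k) =
        ((s * α * β)⁻¹ * α) • (ψ ᵥ* (↑((tvSL v φ hv s)⁻¹⁻¹) : Matrix ι ι k)) := by
      rw [inv_inv, inv_inv, vecMul_tvSL, vecMul_tvSL, ← hα, ← hβ, smul_add, smul_smul]
      have : (s * α * β)⁻¹ * α * (s * β) = 1 := by field_simp
      rw [this, one_smul, add_comm]
    have hne1 : -((s * α * β)⁻¹ * β) ≠ 0 := neg_ne_zero.2 (mul_ne_zero ht0 h2)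
    have hne2 : (s * α * β)⁻¹ * α ≠ 0 := mul_ne_zero ht0 h1
    rw [TV_congr _ e1 e2 (by
      rw [← e1, ← e2]
      exact conj_dot hv _)]
    exact TV_smul _ hne1 hne2 _

/-- (P2): the rank one case. -/
theorem rankOnePair_of {v φ w ψ : ι → k} (hv : φ ⬝ᵥ v = 0) (hw : ψ ⬝ᵥ w = 0)
    (hv0 : v ≠ 0) (hφ0 : φ ≠ 0) (hw0 : w ≠ 0) (hψ0 : ψ ≠ 0)
    (h1 : φ ⬝ᵥ w ≠ 0) (h2 : ψ ⬝ᵥ v ≠ 0) : IsRankOnePair (TV v φ hv) (TV w ψ hw) := by
  refine ⟨?_, isNilpotent_of_isMulCommutative (TV_comm hv),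
    isNilpotent_of_isMulCommutative (TV_comm hw),
    rankOneCondition_of hv hw hv0 hφ0 hw0 hψ0 h1 h2,
    rankOneCondition_of hw hv hw0 hψ0 hv0 hφ0 h2 h1⟩
  intro e
  have hmem : tvSL v φ hv 1 ∈ TV w ψ hw := e ▸ tvSL_mem hv 1
  obtain ⟨c, hc⟩ := mem_TV.1 hmem
  have h3 : (↑(tvSL w ψ hw c) : Matrix ι ι k) *ᵥ w = (↑(tvSL v φ hv 1) : Matrix ι ι k) *ᵥ w := by
    rw [hc]
  rw [tvSL_mulVec, tvSL_mulVec, hw, mul_zero, zero_smul, add_zero, one_mul, left_eq_add,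
    smul_eq_zero] at h3
  rcases h3 with h3 | h3
  · exact h1 h3
  · exact hv0 h3

end Cfsg.Agent.Lib.Helper25.SLRoot
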