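/-
helper25: a rank one pair of transvection subgroups of `SL ι k` is the image of `SL₂(k)` under an
injective homomorphism mapping the unitriangular subgroups onto the two transvection subgroups.
-/
import Mathlib
import Cfsg.Prelude.Def_RootSubgroups
import Cfsg.Agent.Lib.Helper25.SLRoot3
import Cfsg.Agent.Lib.Helper2.SLGen

set_option autoImplicit false

namespace Cfsg.Agent.Lib.Helper25.SLRoot

open Cfsg Matrix
open Cfsg.Agent.Lib.Helper25

variable {ι : Type*} [Fintype ι] [DecidableEq ι] {k : Type*} [Field k]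

section emb

variable (P : Matrix ι (Fin 2) k) (Q : Matrix (Fin 2) ι k)

/-- `M ↦ 1 + P (M - 1) Q`. -/
def embMat (M : Matrix (Fin 2) (Fin 2) k) : Matrix ι ι k := 1 + P * (M - 1) * Q

theorem embMat_one : embMat P Q 1 = 1 := by
  unfold embMat
  rw [sub_self, Matrix.mul_zero, Matrix.zero_mul, add_zero]

theorem embMat_mul (hQP : Q * P = 1) (M N : Matrix (Fin 2) (Fin 2) k) :
    embMat P Q M * embMat P Q N = embMat P Q (M * N) := by
  unfold embMat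
  have h1 : P * (M - 1) * Q * (P * (N - 1) * Q) = P * ((M - 1) * (N - 1)) * Q := by
    calc P * (M - 1) * Q * (P * (N - 1) * Q)
        = P * (M - 1) * (Q * P) * (N - 1) * Q := by simp only [Matrix.mul_assoc]
      _ = P * ((M - 1) * (N - 1)) * Q := by rw [hQP, Matrix.mul_one]; simp only [Matrix.mul_assoc]
  rw [add_mul, mul_add, mul_add, one_mul, mul_one, one_mul, h1]
  have h2 : M * N - 1 = (M - 1) + (N - 1) + (M - 1) * (N - 1) := by noncomm_ring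
  rw [h2, Matrix.mul_add, Matrix.mul_add, Matrix.add_mul, Matrix.add_mul]
  abel

theorem embMat_det (hQP : Q * P = 1) (M : Matrix (Fin 2) (Fin 2) k) :
    (embMat P Q M).det = M.det := by
  unfold embMat
  rw [det_one_add_mul_comm, ← Matrix.mul_assoc, hQP, Matrix.one_mul, add_sub_cancel]

/-- the embedding of `SL₂(k)`. -/
def embSL (hQP : Q * P = 1) : Matrix.SpecialLinearGroup (Fin 2) k →* Matrix.SpecialLinearGroup ι k where
  toFun g := ⟨embMat P Q (↑g : Matrix (Fin 2) (Fin 2) k), by rw [embMat_det P Q hQP]; exact g.2⟩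
  map_one' := by
    apply Subtype.ext
    show embMat P Q (↑(1 : Matrix.SpecialLinearGroup (Fin 2) k) : Matrix (Fin 2) (Fin 2) k) = 1
    rw [Matrix.SpecialLinearGroup.coe_one, embMat_one]
  map_mul' g h := by
    apply Subtype.ext
    show embMat P Q (↑(g * h) : Matrix (Fin 2) (Fin 2) k) = embMat P Q ↑g * embMat P Q ↑h
    rw [Matrix.SpecialLinearGroup.coe_mul, embMat_mul P Q hQP]

theorem embSL_coe (hQP : Q * P = 1) (g : Matrix.SpecialLinearGroup (Fin 2) k) :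
    (↑(embSL P Q hQP g) : Matrix ι ι k) = 1 + P * ((↑g : Matrix (Fin 2) (Fin 2) k) - 1) * Q := rfl

theorem embSL_injective (hQP : Q * P = 1) : Function.Injective (embSL P Q hQP) := by
  rw [injective_iff_map_eq_one]
  intro g hg
  have h1 : (↑(embSL P Q hQP g) : Matrix ι ι k) = 1 := by rw [hg]; rfl
  rw [embSL_coe, add_eq_left] at h1
  have h2 : Q * (P * ((↑g : Matrix (Fin 2) (Fin 2) k) - 1) * Q) * P = 0 := by
    rw [h1, Matrix.mul_zero, Matrix.zero_mul]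
  have h3 : Q * (P * ((↑g : Matrix (Fin 2) (Fin 2) k) - 1) * Q) * P =
      (Q * P) * ((↑g : Matrix (Fin 2) (Fin 2) k) - 1) * (Q * P) := by
    simp only [Matrix.mul_assoc]
  rw [h3, hQP, Matrix.one_mul, Matrix.mul_one, sub_eq_zero] at h2
  apply Subtype.ext
  exact h2

end emb

section pair

variable (v φ w ψ : ι → k)

/-- the `ι × 2` matrix with columns `v`, `w`. -/
def pairP : Matrix ι (Fin 2) k := Matrix.of (fun i (j : Fin 2) => if j = 0 then v i else w i)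

/-- the `2 × ι` matrix with rows `(ψ⬝v)⁻¹ ψ`, `(φ⬝w)⁻¹ φ`. -/
def pairQ : Matrix (Fin 2) ι k :=
  Matrix.of (fun (j : Fin 2) i => if j = 0 then (ψ ⬝ᵥ v)⁻¹ * ψ i else (φ ⬝ᵥ w)⁻¹ * φ i)

variable {v φ w ψ}

theorem pairQ_mul_pairP (hv : φ ⬝ᵥ v = 0) (hw : ψ ⬝ᵥ w = 0) (h1 : φ ⬝ᵥ w ≠ 0)
    (h2 : ψ ⬝ᵥ v ≠ 0) : pairQ v φ w ψ * pairP v w = 1 := by
  ext j j'
  fin_cases j <;> fin_cases j'
  · simp only [Fin.zero_eta, Fin.isValue, Matrix.mul_apply, pairQ, pairP, Matrix.of_apply,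
      if_true, mul_assoc, ← Finset.mul_sum, Matrix.one_apply_eq]
    show (ψ ⬝ᵥ v)⁻¹ * (ψ ⬝ᵥ v) = 1
    exact inv_mul_cancel₀ h2
  · simp only [Fin.zero_eta, Fin.isValue, Fin.mk_one, Matrix.mul_apply, pairQ, pairP,
      Matrix.of_apply, if_true, one_ne_zero, if_false, mul_assoc, ← Finset.mul_sum]
    show (ψ ⬝ᵥ v)⁻¹ * (ψ ⬝ᵥ w) = (1 : Matrix (Fin 2) (Fin 2) k) 0 1
    rw [hw, mul_zero]; rfl
  · simp only [Fin.zero_eta, Fin.isValue, Fin.mk_one, Matrix.mul_apply, pairQ, pairP,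
      Matrix.of_apply, if_true, one_ne_zero, if_false, mul_assoc, ← Finset.mul_sum]
    show (φ ⬝ᵥ w)⁻¹ * (φ ⬝ᵥ v) = (1 : Matrix (Fin 2) (Fin 2) k) 1 0
    rw [hv, mul_zero]; rfl
  · simp only [Fin.isValue, Fin.mk_one, Matrix.mul_apply, pairQ, pairP, Matrix.of_apply,
      one_ne_zero, if_false, mul_assoc, ← Finset.mul_sum, Matrix.one_apply_eq]
    show (φ ⬝ᵥ w)⁻¹ * (φ ⬝ᵥ w) = 1
    exact inv_mul_cancel₀ h1

theorem emb_upper (M : Matrix (Fin 2) (Fin 2) k) (h00 : M 0 0 = 1) (h10 : M 1 0 = 0)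
    (h11 : M 1 1 = 1) :
    pairP v w * (M - 1) * pairQ v φ w ψ = (M 0 1 * (φ ⬝ᵥ w)⁻¹) • vecMulVec v φ := by
  ext i j
  simp only [Matrix.mul_apply, Fin.sum_univ_two, pairP, pairQ, Matrix.of_apply, Matrix.sub_apply,
    Matrix.one_apply_eq, h00, h10, h11, sub_self, mul_zero, zero_mul, add_zero, zero_add,
    Matrix.smul_apply, vecMulVec_apply, smul_eq_mul, if_true, one_ne_zero, if_false,
    Fin.isValue, Matrix.one_apply_ne, ne_eq, zero_ne_one, not_false_eq_true, sub_zero]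
  ring

theorem emb_lower (M : Matrix (Fin 2) (Fin 2) k) (h00 : M 0 0 = 1) (h01 : M 0 1 = 0)
    (h11 : M 1 1 = 1) :
    pairP v w * (M - 1) * pairQ v φ w ψ = (M 1 0 * (ψ ⬝ᵥ v)⁻¹) • vecMulVec w ψ := by
  ext i j
  simp only [Matrix.mul_apply, Fin.sum_univ_two, pairP, pairQ, Matrix.of_apply, Matrix.sub_apply,
    Matrix.one_apply_eq, h00, h01, h11, sub_self, mul_zero, zero_mul, add_zero, zero_add,
    Matrix.smul_apply, vecMulVec_apply, smul_eq_mul, if_true, one_ne_zero, if_false,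
    Fin.isValue, Matrix.one_apply_ne, ne_eq, zero_ne_one, not_false_eq_true, sub_zero]
  ring

end pair

section psl2

variable {v φ w ψ : ι → k}

theorem emb_map_upper (hv : φ ⬝ᵥ v = 0) (hw : ψ ⬝ᵥ w = 0) (h1 : φ ⬝ᵥ w ≠ 0)
    (h2 : ψ ⬝ᵥ v ≠ 0) :
    (upperUnipotentSL2 k).map (embSL (pairP v w) (pairQ v φ w ψ) (pairQ_mul_pairP hv hw h1 h2)) =
      TV v φ hv := by
  unfold upperUnipotentSL2
  rw [MonoidHom.map_closure]
  have himg : (embSL (pairP v w) (pairQ v φ w ψ) (pairQ_mul_pairP hv hw h1 h2)) ''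
      {g : Matrix.SpecialLinearGroup (Fin 2) k | (g : Matrix (Fin 2) (Fin 2) k) 1 0 = 0 ∧
        (g : Matrix (Fin 2) (Fin 2) k) 0 0 = 1 ∧ (g : Matrix (Fin 2) (Fin 2) k) 1 1 = 1} =
      (TV v φ hv : Set (Matrix.SpecialLinearGroup ι k)) := by
    ext x
    constructor
    · rintro ⟨g, ⟨h10, h00, h11⟩, rfl⟩
      rw [SetLike.mem_coe, mem_TV]
      refine ⟨(↑g : Matrix (Fin 2) (Fin 2) k) 0 1 * (φ ⬝ᵥ w)⁻¹, ?_⟩
      apply Subtype.ext
      rw [tvSL_coe, embSL_coe, emb_upper _ h00 h10 h11]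
    · intro hx
      rw [SetLike.mem_coe, mem_TV] at hx
      obtain ⟨c, rfl⟩ := hx
      have hdet : (!![1, c * (φ ⬝ᵥ w); 0, 1] : Matrix (Fin 2) (Fin 2) k).det = 1 := by
        simp [Matrix.det_fin_two]
      refine ⟨⟨!![1, c * (φ ⬝ᵥ w); 0, 1], hdet⟩, ⟨rfl, rfl, rfl⟩, ?_⟩
      apply Subtype.ext
      have hc : (!![1, c * (φ ⬝ᵥ w); 0, 1] : Matrix (Fin 2) (Fin 2) k) 0 1 * (φ ⬝ᵥ w)⁻¹ = c := by
        show c * (φ ⬝ᵥ w) * (φ ⬝ᵥ w)⁻¹ = c
        rw [mul_assoc, mul_inv_cancel₀ h1, mul_one]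
      have e := emb_upper (v := v) (φ := φ) (w := w) (ψ := ψ)
        (!![1, c * (φ ⬝ᵥ w); 0, 1] : Matrix (Fin 2) (Fin 2) k) rfl rfl rfl
      rw [hc] at e
      rw [tvSL_coe, ← e]
      rfl
  rw [himg, Subgroup.closure_eq]

theorem emb_map_lower (hv : φ ⬝ᵥ v = 0) (hw : ψ ⬝ᵥ w = 0) (h1 : φ ⬝ᵥ w ≠ 0)
    (h2 : ψ ⬝ᵥ v ≠ 0) :
    (lowerUnipotentSL2 k).map (embSL (pairP v w) (pairQ v φ w ψ) (pairQ_mul_pairP hv hw h1 h2)) =
      TV w ψ hw := by
  unfold lowerUnipotentSL2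
  rw [MonoidHom.map_closure]
  have himg : (embSL (pairP v w) (pairQ v φ w ψ) (pairQ_mul_pairP hv hw h1 h2)) ''
      {g : Matrix.SpecialLinearGroup (Fin 2) k | (g : Matrix (Fin 2) (Fin 2) k) 0 1 = 0 ∧
        (g : Matrix (Fin 2) (Fin 2) k) 0 0 = 1 ∧ (g : Matrix (Fin 2) (Fin 2) k) 1 1 = 1} =
      (TV w ψ hw : Set (Matrix.SpecialLinearGroup ι k)) := by
    ext x
    constructor
    · rintro ⟨g, ⟨h01, h00, h11⟩, rfl⟩
      rw [SetLike.mem_coe, mem_TV]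
      refine ⟨(↑g : Matrix (Fin 2) (Fin 2) k) 1 0 * (ψ ⬝ᵥ v)⁻¹, ?_⟩
      apply Subtype.ext
      rw [tvSL_coe, embSL_coe, emb_lower _ h00 h01 h11]
    · intro hx
      rw [SetLike.mem_coe, mem_TV] at hx
      obtain ⟨c, rfl⟩ := hx
      have hdet : (!![1, 0; c * (ψ ⬝ᵥ v), 1] : Matrix (Fin 2) (Fin 2) k).det = 1 := by
        simp [Matrix.det_fin_two]
      refine ⟨⟨!![1, 0; c * (ψ ⬝ᵥ v), 1], hdet⟩, ⟨rfl, rfl, rfl⟩, ?_⟩
      apply Subtype.ext
      have hc : (!![1, 0; c * (ψ ⬝ᵥ v), 1] : Matrix (Fin 2) (Fin 2) k) 1 0 * (ψ ⬝ᵥ v)⁻¹ = c := by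
        show c * (ψ ⬝ᵥ v) * (ψ ⬝ᵥ v)⁻¹ = c
        rw [mul_assoc, mul_inv_cancel₀ h2, mul_one]
      have e := emb_lower (v := v) (φ := φ) (w := w) (ψ := ψ)
        (!![1, 0; c * (ψ ⬝ᵥ v), 1] : Matrix (Fin 2) (Fin 2) k) rfl rfl rfl
      rw [hc] at e
      rw [tvSL_coe, ← e]
      rfl
  rw [himg, Subgroup.closure_eq]

/-- a rank one pair of transvection subgroups generates an embedded `SL₂(k)`. -/
theorem psl2Pair_of (hv : φ ⬝ᵥ v = 0) (hw : ψ ⬝ᵥ w = 0) (h1 : φ ⬝ᵥ w ≠ 0)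
    (h2 : ψ ⬝ᵥ v ≠ 0) : IsPSL2PairOver k (TV v φ hv) (TV w ψ hw) := by
  refine ⟨embSL (pairP v w) (pairQ v φ w ψ) (pairQ_mul_pairP hv hw h1 h2), ?_, ?_,
    emb_map_upper hv hw h1 h2, emb_map_lower hv hw h1 h2⟩
  · apply le_antisymm
    · rintro _ ⟨g, rfl⟩
      refine Cfsg.Agent.Lib.Helper2.sl_transvection_induction
        (fun g => embSL (pairP v w) (pairQ v φ w ψ) (pairQ_mul_pairP hv hw h1 h2) g ∈
          TV v φ hv ⊔ TV w ψ hw) ?_ ?_ g
      · intro i j hij c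
        have hcases : (i = 0 ∧ j = 1) ∨ (i = 1 ∧ j = 0) := by
          fin_cases i <;> fin_cases j <;> simp_all
        rcases hcases with ⟨rfl, rfl⟩ | ⟨rfl, rfl⟩
        · apply Subgroup.mem_sup_left
          rw [← emb_map_upper hv hw h1 h2]
          refine Subgroup.mem_map_of_mem _ (Subgroup.subset_closure ?_)
          show (1 + Matrix.single (0 : Fin 2) 1 c : Matrix (Fin 2) (Fin 2) k) 1 0 = 0 ∧
            (1 + Matrix.single (0 : Fin 2) 1 c : Matrix (Fin 2) (Fin 2) k) 0 0 = 1 ∧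
            (1 + Matrix.single (0 : Fin 2) 1 c : Matrix (Fin 2) (Fin 2) k) 1 1 = 1
          simp
        · apply Subgroup.mem_sup_right
          rw [← emb_map_lower hv hw h1 h2]
          refine Subgroup.mem_map_of_mem _ (Subgroup.subset_closure ?_)
          show (1 + Matrix.single (1 : Fin 2) 0 c : Matrix (Fin 2) (Fin 2) k) 0 1 = 0 ∧
            (1 + Matrix.single (1 : Fin 2) 0 c : Matrix (Fin 2) (Fin 2) k) 0 0 = 1 ∧
            (1 + Matrix.single (1 : Fin 2) 0 c : Matrix (Fin 2) (Fin 2) k) 1 1 = 1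
          simp
      · intro a b ha hb
        show embSL (pairP v w) (pairQ v φ w ψ) (pairQ_mul_pairP hv hw h1 h2) (a * b) ∈ _
        rw [map_mul]
        exact mul_mem ha hb
    · rw [sup_le_iff]
      constructor
      · rw [← emb_map_upper hv hw h1 h2]
        exact Subgroup.map_le_range _ _
      · rw [← emb_map_lower hv hw h1 h2]
        exact Subgroup.map_le_range _ _
  · rw [(MonoidHom.ker_eq_bot_iff _).2 (embSL_injective _ _ _)]
    exact bot_le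

end psl2

end Cfsg.Agent.Lib.Helper25.SLRoot
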