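/-
helper25: the class of transvection subgroups of `SL ι k` (conjugates of the elementary root
subgroup `1 + c E_{i₀ i₁}`): membership lemmas (transitivity of `SL` on incident
point-hyperplane pairs, in the form needed).
-/
import Mathlib
import Cfsg.Prelude.Def_RootSubgroups
import Cfsg.Agent.Lib.Helper25.SLRoot4

set_option autoImplicit false

namespace Cfsg.Agent.Lib.Helper25.SLRoot

open Cfsg Matrix
open Cfsg.Agent.Lib.Helper25

variable {ι : Type*} [Fintype ι] [DecidableEq ι] {k : Type*} [Field k]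

/-- the standard basis vector. -/
def bv (i : ι) : ι → k := Pi.single i 1

theorem dot_bv (φ : ι → k) (i : ι) : φ ⬝ᵥ bv i = φ i := by
  unfold bv; rw [dotProduct_single, mul_one]

theorem bv_dot (i : ι) (v : ι → k) : bv i ⬝ᵥ v = v i := by
  unfold bv; rw [single_dotProduct, one_mul]

theorem bv_self (i : ι) : (bv i : ι → k) i = 1 := by
  unfold bv; rw [Pi.single_eq_same]

theorem bv_ne {i j : ι} (h : i ≠ j) : (bv i : ι → k) j = 0 := by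
  unfold bv; rw [Pi.single_eq_of_ne h.symm]

theorem bv_ne_zero (i : ι) : (bv i : ι → k) ≠ 0 := by
  intro e
  have := congrFun e i
  rw [bv_self] at this
  exact one_ne_zero this

theorem bv_dot_bv {i j : ι} (h : i ≠ j) : (bv j : ι → k) ⬝ᵥ bv i = 0 := by
  rw [dot_bv, bv_ne h.symm]

theorem bv_dot_bv_self (i : ι) : (bv i : ι → k) ⬝ᵥ bv i = 1 := by
  rw [dot_bv, bv_self]

theorem coe_inv_mul_coe (g : Matrix.SpecialLinearGroup ι k) :
    (↑(g⁻¹) : Matrix ι ι k) * (↑g : Matrix ι ι k) = 1 := by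
  rw [← Matrix.SpecialLinearGroup.coe_mul, inv_mul_cancel, Matrix.SpecialLinearGroup.coe_one]

theorem coe_mul_coe_inv (g : Matrix.SpecialLinearGroup ι k) :
    (↑g : Matrix ι ι k) * (↑(g⁻¹) : Matrix ι ι k) = 1 := by
  rw [← Matrix.SpecialLinearGroup.coe_mul, mul_inv_cancel, Matrix.SpecialLinearGroup.coe_one]

theorem mulVec_ne_zero' (g : Matrix.SpecialLinearGroup ι k) {v : ι → k} (hv : v ≠ 0) :
    (↑g : Matrix ι ι k) *ᵥ v ≠ 0 := by
  intro e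
  apply hv
  have : (↑(g⁻¹) : Matrix ι ι k) *ᵥ ((↑g : Matrix ι ι k) *ᵥ v) = 0 := by rw [e, mulVec_zero]
  rwa [mulVec_mulVec, coe_inv_mul_coe, one_mulVec] at this

theorem vecMul_ne_zero' (g : Matrix.SpecialLinearGroup ι k) {φ : ι → k} (hφ : φ ≠ 0) :
    φ ᵥ* (↑g : Matrix ι ι k) ≠ 0 := by
  intro e
  apply hφ
  have : (φ ᵥ* (↑g : Matrix ι ι k)) ᵥ* (↑(g⁻¹) : Matrix ι ι k) = 0 := by rw [e, zero_vecMul]
  rwa [vecMul_vecMul, coe_mul_coe_inv, vecMul_one] at this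

/-- the root subgroup of elementary transvections `1 + c E_{i₀ i₁}`. -/
def rootU (i₀ i₁ : ι) (h : i₀ ≠ i₁) : Subgroup (Matrix.SpecialLinearGroup ι k) :=
  TV (bv i₀) (bv i₁) (bv_dot_bv h)

theorem tvMat_bv (i j : ι) (c : k) :
    (1 + c • vecMulVec (bv i) (bv j) : Matrix ι ι k) = Matrix.transvection i j c := by
  unfold Matrix.transvection bv
  rw [← single_eq_single_vecMulVec_single, Matrix.smul_single, smul_eq_mul, mul_one]

theorem closure_transvection (i₀ i₁ : ι) (h : i₀ ≠ i₁) :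
    Subgroup.closure {t : Matrix.SpecialLinearGroup ι k |
      ∃ c : k, (t : Matrix ι ι k) = Matrix.transvection i₀ i₁ c} = rootU i₀ i₁ h := by
  have hset : {t : Matrix.SpecialLinearGroup ι k |
      ∃ c : k, (t : Matrix ι ι k) = Matrix.transvection i₀ i₁ c} =
      ((rootU i₀ i₁ h : Subgroup (Matrix.SpecialLinearGroup ι k)) :
        Set (Matrix.SpecialLinearGroup ι k)) := by
    ext t
    rw [SetLike.mem_coe]
    unfold rootU
    rw [mem_TV]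
    constructor
    · rintro ⟨c, hc⟩
      refine ⟨c, ?_⟩
      apply Subtype.ext
      rw [tvSL_coe, tvMat_bv, hc]
    · rintro ⟨c, rfl⟩
      refine ⟨c, ?_⟩
      rw [tvSL_coe, tvMat_bv]
  rw [hset, Subgroup.closure_eq]

/-- the class of conjugates of `rootU`. -/
def rootS (i₀ i₁ : ι) (h : i₀ ≠ i₁) : Set (Subgroup (Matrix.SpecialLinearGroup ι k)) :=
  {A | ∃ g : Matrix.SpecialLinearGroup ι k, A = conjBy (rootU i₀ i₁ h) g}

/-- `SL` moves any basis vector to any other. -/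
theorem exists_map_bv (i j : ι) :
    ∃ g : Matrix.SpecialLinearGroup ι k, (↑g : Matrix ι ι k) *ᵥ bv i = bv j := by
  by_cases hij : i = j
  · subst hij
    exact ⟨1, by rw [Matrix.SpecialLinearGroup.coe_one, one_mulVec]⟩
  · refine ⟨tvSL (bv i) (bv j) (bv_dot_bv hij) (-1) *
      tvSL (bv j) (bv i) (bv_dot_bv (Ne.symm hij)) 1, ?_⟩
    rw [Matrix.SpecialLinearGroup.coe_mul, ← mulVec_mulVec, tvSL_mulVec, tvSL_mulVec]
    simp only [bv_dot_bv_self, mul_one, one_smul, dotProduct_add, bv_dot_bv hij, zero_add,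
      neg_smul]
    abel

theorem exists_stab_adjust_aux {i₀ i₁ : ι} {ρ : ι → k} (h0 : ρ i₀ = 0)
    (h1 : ρ i₁ ≠ 0) :
    ∃ u : Matrix.SpecialLinearGroup ι k, (↑u : Matrix ι ι k) *ᵥ bv i₀ = bv i₀ ∧
      ∃ c : k, c ≠ 0 ∧ ρ ᵥ* (↑u : Matrix ι ι k) = c • bv i₁ := by
  have h01 : i₀ ≠ i₁ := by
    rintro rfl
    exact h1 h0
  set σ : ι → k := (ρ i₁)⁻¹ • (ρ i₁ • bv i₁ - ρ) with hσdef
  have hσ1 : σ ⬝ᵥ bv i₁ = 0 := by
    rw [dot_bv, hσdef]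
    simp only [Pi.smul_apply, Pi.sub_apply, bv_self, smul_eq_mul, mul_one, sub_self, mul_zero]
  have hσ0 : σ ⬝ᵥ bv i₀ = 0 := by
    rw [dot_bv, hσdef]
    simp only [Pi.smul_apply, Pi.sub_apply, bv_ne h01.symm, smul_eq_mul, mul_zero, h0, sub_self]
  refine ⟨tvSL (bv i₁) σ hσ1 1, ?_, ρ i₁, h1, ?_⟩
  · rw [tvSL_mulVec, hσ0, mul_zero, zero_smul, add_zero]
  · rw [vecMul_tvSL, dot_bv, one_mul, hσdef, smul_smul, mul_inv_cancel₀ h1, one_smul]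
    abel

/-- the stabilizer of `e_{i₀}` is transitive (up to scalars) on hyperplanes through `e_{i₀}`. -/
theorem exists_stab_adjust {i₀ i₁ : ι} (h01 : i₀ ≠ i₁) {ρ : ι → k} (hρ : ρ ≠ 0)
    (h0 : ρ i₀ = 0) :
    ∃ u : Matrix.SpecialLinearGroup ι k, (↑u : Matrix ι ι k) *ᵥ bv i₀ = bv i₀ ∧
      ∃ c : k, c ≠ 0 ∧ ρ ᵥ* (↑u : Matrix ι ι k) = c • bv i₁ := by
  by_cases h1 : ρ i₁ = 0
  · obtain ⟨j, hj⟩ := Function.ne_iff.1 hρ
    have hj' : ρ j ≠ 0 := hj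
    have hj1 : j ≠ i₁ := by
      rintro rfl
      exact hj' h1
    set ρ' : ι → k := ρ + ρ j • bv i₁ with hρ'
    have h0' : ρ' i₀ = 0 := by
      rw [hρ']
      simp only [Pi.add_apply, Pi.smul_apply, bv_ne h01.symm, smul_eq_mul, mul_zero, h0, add_zero]
    have h1' : ρ' i₁ ≠ 0 := by
      rw [hρ']
      simp only [Pi.add_apply, Pi.smul_apply, bv_self, smul_eq_mul, mul_one, h1, zero_add]
      exact hj'
    obtain ⟨u₂, hu₂, c, hc, hρu⟩ := exists_stab_adjust_aux h0' h1'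
    refine ⟨tvSL (bv j) (bv i₁) (bv_dot_bv hj1) 1 * u₂, ?_, c, hc, ?_⟩
    · rw [Matrix.SpecialLinearGroup.coe_mul, ← mulVec_mulVec, hu₂, tvSL_mulVec,
        bv_dot_bv h01, mul_zero, zero_smul, add_zero]
    · rw [Matrix.SpecialLinearGroup.coe_mul, ← vecMul_vecMul, vecMul_tvSL, dot_bv, one_mul,
        ← hρ', hρu]
  · exact exists_stab_adjust_aux h0 h1

theorem TV_smul_right {v φ : ι → k} (h : φ ⬝ᵥ v = 0) {b : k} (hb : b ≠ 0)
    (h' : (b • φ) ⬝ᵥ v = 0) : TV v (b • φ) h' = TV v φ h := by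
  have h'' : (b • φ) ⬝ᵥ ((1 : k) • v) = 0 := by rw [one_smul]; exact h'
  rw [TV_congr h' (one_smul k v).symm rfl h'']
  exact TV_smul h one_ne_zero hb h''

/-- every transvection subgroup whose centre is in the `SL`-orbit of `e_{i₀}` is in the class. -/
theorem TV_mem_rootS {i₀ i₁ : ι} (h01 : i₀ ≠ i₁) (g : Matrix.SpecialLinearGroup ι k)
    {ψ : ι → k} (hψ : ψ ≠ 0) (h : ψ ⬝ᵥ ((↑g : Matrix ι ι k) *ᵥ bv i₀) = 0) :
    TV ((↑g : Matrix ι ι k) *ᵥ bv i₀) ψ h ∈ rootS i₀ i₁ h01 := by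
  have hρ : ψ ᵥ* (↑g : Matrix ι ι k) ≠ 0 := vecMul_ne_zero' g hψ
  have hρ0 : (ψ ᵥ* (↑g : Matrix ι ι k)) i₀ = 0 := by
    have e : (ψ ᵥ* (↑g : Matrix ι ι k)) i₀ = (ψ ᵥ* (↑g : Matrix ι ι k)) ⬝ᵥ bv i₀ :=
      (dot_bv _ _).symm
    rw [e, ← dotProduct_mulVec]
    exact h
  obtain ⟨u, hu, c, hc, hρu⟩ := exists_stab_adjust h01 hρ hρ0
  refine ⟨g * u, ?_⟩
  unfold rootU
  rw [conjBy_TV]
  have e1 : (↑(g * u) : Matrix ι ι k) *ᵥ bv i₀ = (↑g : Matrix ι ι k) *ᵥ bv i₀ := by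
    rw [Matrix.SpecialLinearGroup.coe_mul, ← mulVec_mulVec, hu]
  have e2 : (bv i₁ : ι → k) ᵥ* (↑((g * u)⁻¹) : Matrix ι ι k) = c⁻¹ • ψ := by
    have h3 : (bv i₁ : ι → k) = c⁻¹ • (ψ ᵥ* (↑g : Matrix ι ι k) ᵥ* (↑u : Matrix ι ι k)) := by
      rw [hρu, smul_smul, inv_mul_cancel₀ hc, one_smul]
    rw [_root_.mul_inv_rev, Matrix.SpecialLinearGroup.coe_mul, ← vecMul_vecMul]
    conv_lhs => rw [h3]
    rw [smul_vecMul, vecMul_vecMul _ (↑u : Matrix ι ι k), coe_mul_coe_inv, vecMul_one,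
      smul_vecMul, vecMul_vecMul, coe_mul_coe_inv, vecMul_one]
  have h' : (c⁻¹ • ψ) ⬝ᵥ ((↑g : Matrix ι ι k) *ᵥ bv i₀) = 0 := by
    rw [smul_dotProduct, h, smul_zero]
  rw [TV_congr _ e1 e2 h', TV_smul_right h (inv_ne_zero hc) h']

theorem TV_bv_mem_rootS {i₀ i₁ : ι} (h01 : i₀ ≠ i₁) {i j : ι} (hij : i ≠ j) :
    TV (bv i) (bv j) (bv_dot_bv hij) ∈ rootS (k := k) i₀ i₁ h01 := by
  obtain ⟨g, hg⟩ := exists_map_bv (k := k) i₀ i
  have h : (bv j : ι → k) ⬝ᵥ ((↑g : Matrix ι ι k) *ᵥ bv i₀) = 0 := by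
    rw [hg]; exact bv_dot_bv hij
  rw [TV_congr (bv_dot_bv hij) hg.symm rfl h]
  exact TV_mem_rootS h01 g (bv_ne_zero j) h

theorem mem_rootS_iff {i₀ i₁ : ι} (h01 : i₀ ≠ i₁)
    {A : Subgroup (Matrix.SpecialLinearGroup ι k)} :
    A ∈ rootS i₀ i₁ h01 ↔ ∃ (g : Matrix.SpecialLinearGroup ι k) (ψ : ι → k)
      (h : ψ ⬝ᵥ ((↑g : Matrix ι ι k) *ᵥ bv i₀) = 0), ψ ≠ 0 ∧
        A = TV ((↑g : Matrix ι ι k) *ᵥ bv i₀) ψ h := by
  constructor
  · rintro ⟨g, rfl⟩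
    refine ⟨g, (bv i₁ : ι → k) ᵥ* (↑(g⁻¹) : Matrix ι ι k), conj_dot (bv_dot_bv h01) g,
      vecMul_ne_zero' _ (bv_ne_zero i₁), ?_⟩
    unfold rootU
    rw [conjBy_TV]
  · rintro ⟨g, ψ, h, hψ, rfl⟩
    exact TV_mem_rootS h01 g hψ h

end Cfsg.Agent.Lib.Helper25.SLRoot
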