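import Cfsg.Agent.Lib.Helper25.SingPts

set_option autoImplicit false

/-!
# Simplicity of `PΩ(Q)` in dimension at least seven, via Iwasawa's criterion
-/

namespace Cfsg.Agent.Lib.Helper25.PS

open Module QuadraticMap Matrix Cfsg.Agent.Lib.Helper25.CD Cfsg.Agent.Lib.Helper25.Spin
  Cfsg.Agent.Lib.Helper25.MaxTS Cfsg.Agent.Lib.Helper25.Fam Cfsg.Agent.Lib.Helper25.Siegel

open scoped Pointwise commutatorElement

section root

variable {ι : Type} [Fintype ι] [DecidableEq ι] {F : Type*} [Field F]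
  (Q : QuadraticForm F (ι → F))

theorem conj_siegG_eq (k : ↥(Cfsg.isometryGroup F ⇑Q)) (u v : ι → F) (c : F) (hu : Q u = 0)
    (hv : Q v = 0) (huv : polar Q u v = 0) :
    k * siegG Q u v c hu hv huv * k⁻¹ =
      siegG Q (toOG Q k u) (toOG Q k v) c (by rw [Q_toOG, hu]) (by rw [Q_toOG, hv])
        (by rw [polar_toOG, huv]) := by
  apply toOG_injective
  ext1 x
  rw [map_mul, map_mul, map_inv, LinearEquiv.mul_apply, LinearEquiv.mul_apply, toOG_siegG,
    toOG_siegG]
  unfold siegF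
  have h1 : polar Q (toOG Q k u) x = polar Q u ((toOG Q k)⁻¹ x) := by
    have := polar_toOG Q k u ((toOG Q k)⁻¹ x)
    rw [apply_inv_self'] at this
    exact this
  have h2 : polar Q (toOG Q k v) x = polar Q v ((toOG Q k)⁻¹ x) := by
    have := polar_toOG Q k v ((toOG Q k)⁻¹ x)
    rw [apply_inv_self'] at this
    exact this
  rw [h1, h2, map_add, map_smul, map_sub, map_smul, map_smul, apply_inv_self']

theorem siegG_smul_left {p v : ι → F} (t c : F) (hp : Q p = 0) (hv : Q v = 0)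
    (hpv : polar Q p v = 0) (h1 : Q (t • p) = 0) (h3 : polar Q (t • p) v = 0) :
    siegG Q (t • p) v c h1 hv h3 = siegG Q p v (t * c) hp hv hpv := by
  apply toOG_injective
  ext1 x
  rw [toOG_siegG, toOG_siegG]
  unfold siegF
  rw [polar_smul_left, smul_eq_mul]
  module

theorem siegG_zero_left {v : ι → F} (c : F) (h1 : Q (0 : ι → F) = 0) (hv : Q v = 0)
    (h3 : polar Q (0 : ι → F) v = 0) : siegG Q 0 v c h1 hv h3 = 1 := by
  apply toOG_injective
  ext1 x
  rw [toOG_siegG, map_one]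
  unfold siegF
  simp

/-- The generators of the root group at a singular point. -/
def rootGen (P : SPt Q) : Set ↥(Cfsg.isometryGroup F ⇑Q) :=
  {g | ∃ u ∈ P.1, u ≠ 0 ∧ ∃ (v : ι → F) (c : F), Q v = 0 ∧ polar Q u v = 0 ∧
    ((g : GL ι F) : Matrix ι ι F) = Cfsg.siegelMatrix ⇑Q u v c}

/-- The root group at a singular point. -/
def X (P : SPt Q) : Subgroup ↥(Cfsg.isometryGroup F ⇑Q) := Subgroup.closure (rootGen Q P)

theorem rootGen_comm (P : SPt Q) :
    ∀ g ∈ rootGen Q P, ∀ g' ∈ rootGen Q P, g * g' = g' * g := by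
  rintro g ⟨u, huP, hu0, v, c, hv, huv, hg⟩ g' ⟨u', hu'P, hu'0, v', c', hv', hu'v', hg'⟩
  have hu : Q u = 0 := P.2.2 u huP
  have hu' : Q u' = 0 := P.2.2 u' hu'P
  obtain ⟨t, ht⟩ : ∃ t : F, u' = t • u := by
    obtain ⟨t, ht⟩ := (finrank_eq_one_iff_of_nonzero' (⟨u, huP⟩ : P.1)
      (fun h => hu0 (congrArg Subtype.val h))).1 P.2.1 ⟨u', hu'P⟩
    exact ⟨t, (congrArg Subtype.val ht).symm⟩
  have ht0 : t ≠ 0 := by
    rintro rfl
    rw [zero_smul] at ht
    exact hu'0 ht
  have huv' : polar Q u v' = 0 := by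
    rw [ht, polar_smul_left, smul_eq_mul] at hu'v'
    exact (mul_eq_zero.1 hu'v').resolve_left ht0
  rw [eq_siegG_of_coe Q hu hv huv hg, eq_siegG_of_coe Q hu' hv' hu'v' hg']
  have e : siegG Q u' v' c' hu' hv' hu'v' = siegG Q u v' (t * c') hu hv' huv' := by
    subst ht
    exact siegG_smul_left Q t c' hu hv' huv' _ _
  rw [e]
  exact siegG_comm Q hu hv hv' huv huv' c (t * c')

instance X_comm (P : SPt Q) : IsMulCommutative (X Q P) :=
  Subgroup.isMulCommutative_closure (rootGen_comm Q P)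

theorem conj_mem_rootGen (k : ↥(Cfsg.isometryGroup F ⇑Q)) (P : SPt Q)
    {g : ↥(Cfsg.isometryGroup F ⇑Q)} (hg : g ∈ rootGen Q P) :
    k * g * k⁻¹ ∈ rootGen Q (k • P) := by
  obtain ⟨u, huP, hu0, v, c, hv, huv, hg⟩ := hg
  have hu : Q u = 0 := P.2.2 u huP
  rw [eq_siegG_of_coe Q hu hv huv hg, conj_siegG_eq]
  refine ⟨toOG Q k u, ⟨u, huP, rfl⟩, ?_, toOG Q k v, c, by rw [Q_toOG, hv],
    by rw [polar_toOG, huv], rfl⟩
  intro h
  exact hu0 ((toOG Q k).injective (by rw [h, map_zero]))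

theorem conj_mem_X (k : ↥(Cfsg.isometryGroup F ⇑Q)) (P : SPt Q)
    {g : ↥(Cfsg.isometryGroup F ⇑Q)} (hg : g ∈ X Q P) : k * g * k⁻¹ ∈ X Q (k • P) := by
  unfold X at hg ⊢
  induction hg using Subgroup.closure_induction with
  | mem x hx => exact Subgroup.subset_closure (conj_mem_rootGen Q k P hx)
  | one =>
    rw [mul_one, mul_inv_cancel]
    exact one_mem _
  | mul a b _ _ ha hb =>
    have : k * (a * b) * k⁻¹ = (k * a * k⁻¹) * (k * b * k⁻¹) := by group
    rw [this]
    exact mul_mem ha hb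
  | inv a _ ha =>
    have : k * a⁻¹ * k⁻¹ = (k * a * k⁻¹)⁻¹ := by group
    rw [this]
    exact inv_mem ha

theorem mem_X_smul (k h : ↥(Cfsg.isometryGroup F ⇑Q)) (P : SPt Q) :
    h ∈ X Q (k • P) ↔ k⁻¹ * h * k ∈ X Q P := by
  constructor
  · intro hh
    have := conj_mem_X Q k⁻¹ (k • P) hh
    rw [inv_smul_smul, inv_inv] at this
    exact this
  · intro hh
    have := conj_mem_X Q k P hh
    have e : k * (k⁻¹ * h * k) * k⁻¹ = h := by group
    rw [e] at this
    exact this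

variable [Fintype F]

theorem X_le_omega (hQ : (polarBilin Q).Nondegenerate) (hn : 7 ≤ Fintype.card ι) (P : SPt Q) :
    X Q P ≤ Cfsg.Omega F ⇑Q := by
  unfold X
  rw [Subgroup.closure_le]
  rintro g ⟨u, huP, hu0, v, c, hv, huv, hg⟩
  have hu : Q u = 0 := P.2.2 u huP
  rw [eq_siegG_of_coe Q hu hv huv hg]
  exact siegG_mem_omega Q hQ hn u v c hu hv huv

theorem rootSet_le_iSup_X : Subgroup.closure (rootSet Q) ≤ ⨆ P : SPt Q, X Q P := by
  rw [Subgroup.closure_le]
  rintro g ⟨u, v, c, hu, hv, huv, hg⟩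
  rw [eq_siegG_of_coe Q hu hv huv hg]
  by_cases hu0 : u = 0
  · subst hu0
    rw [siegG_zero_left]
    exact one_mem _
  · have : siegG Q u v c hu hv huv ∈ X Q (mk' Q u hu0 hu) :=
      Subgroup.subset_closure ⟨u, Submodule.mem_span_singleton_self u, hu0, v, c, hv, huv, rfl⟩
    exact Subgroup.mem_iSup_of_mem (mk' Q u hu0 hu) this

/-- The Iwasawa structure of `Ω` on the singular points. -/
noncomputable def iwasawa (hQ : (polarBilin Q).Nondegenerate) (hn : 7 ≤ Fintype.card ι) :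
    MulAction.IwasawaStructure ↥(Cfsg.Omega F ⇑Q) (SPt Q) where
  T P := (X Q P).subgroupOf (Cfsg.Omega F ⇑Q)
  is_comm P := inferInstance
  is_conj g P := by
    ext h
    rw [Subgroup.mem_pointwise_smul_iff_inv_smul_mem, MulAut.smul_def, MulAut.conj_inv_apply,
      Subgroup.mem_subgroupOf, Subgroup.mem_subgroupOf]
    exact mem_X_smul Q g.1 h.1 P
  is_generator := by
    apply Subgroup.map_injective (Cfsg.Omega F ⇑Q).subtype_injective
    rw [Subgroup.map_iSup, ← MonoidHom.range_eq_map, Subgroup.range_subtype]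
    have e : ∀ P : SPt Q, ((X Q P).subgroupOf (Cfsg.Omega F ⇑Q)).map
        (Cfsg.Omega F ⇑Q).subtype = X Q P :=
      fun P => Subgroup.map_subgroupOf_eq_of_le (X_le_omega Q hQ hn P)
    simp_rw [e]
    apply le_antisymm
    · exact iSup_le (X_le_omega Q hQ hn)
    · rw [omega_eq_root' Q hQ hn]
      exact rootSet_le_iSup_X Q

end root

section main

variable {ι : Type} [Fintype ι] [DecidableEq ι] {F : Type*} [Field F] [Fintype F]
  (Q : QuadraticForm F (ι → F))

theorem exists_two_points (hQ : (polarBilin Q).Nondegenerate) (hn : 3 ≤ Fintype.card ι) :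
    ∃ P R : SPt Q, P ≠ R := by
  have hfr : 3 ≤ finrank F (ι → F) := by
    rw [Module.finrank_fintype_fun_eq_card]
    exact hn
  obtain ⟨u, hu0, hu⟩ := Cfsg.Agent.Lib.Helper15.exists_singular_of_three_le Q hfr
  obtain ⟨u', hu', huu'⟩ := exists_sing_partner Q hQ hu0 hu
  have hu'0 : u' ≠ 0 := by
    rintro rfl
    simp at huu'
  refine ⟨mk' Q u hu0 hu, mk' Q u' hu'0 hu', ?_⟩
  intro h
  have h1 := ort_self Q (mk' Q u hu0 hu)
  rw [h] at h1
  nth_rewrite 1 [← h] at h1
  rw [ort_mk', huu'] at h1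
  exact one_ne_zero h1

/-- `PΩ(Q)` is simple when `dim ≥ 7`. -/
theorem pomega_simple (hQ : (polarBilin Q).Nondegenerate) (hn : 7 ≤ Fintype.card ι) :
    IsSimpleGroup (Cfsg.POmega F ⇑Q) := by
  haveI := omega_preprimitive Q hQ (by omega)
  have hperf := omega_perfect Q hQ hn
  have key : ∀ N : Subgroup ↥(Cfsg.Omega F ⇑Q), N.Normal →
      N ≤ Subgroup.center ↥(Cfsg.Omega F ⇑Q) ∨ N = ⊤ := by
    intro N hN
    by_cases hfix : MulAction.fixedPoints N (SPt Q) = Set.univ
    · left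
      intro g hg
      apply mem_center_of_fix_all Q hQ (by omega) g
      intro P
      have hP : P ∈ MulAction.fixedPoints N (SPt Q) := by
        rw [hfix]
        trivial
      exact hP ⟨g, hg⟩
    · right
      have h1 := (iwasawa Q hQ hn).commutator_le N hfix
      rw [hperf] at h1
      exact top_le_iff.1 h1
  have hZ : Subgroup.center ↥(Cfsg.Omega F ⇑Q) ≠ ⊤ := by
    intro hZ
    have h1 : commutator ↥(Cfsg.Omega F ⇑Q) = ⊥ := (commutator_eq_bot_iff_center_eq_top _).2 hZ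
    rw [hperf] at h1
    obtain ⟨P, R, hPR⟩ := exists_two_points Q hQ (by omega)
    haveI := omega_pretransitive Q hQ (by omega)
    obtain ⟨g, hg⟩ := MulAction.exists_smul_eq ↥(Cfsg.Omega F ⇑Q) P R
    have hg1 : g ∈ (⊤ : Subgroup ↥(Cfsg.Omega F ⇑Q)) := Subgroup.mem_top g
    rw [h1, Subgroup.mem_bot] at hg1
    rw [hg1, one_smul] at hg
    exact hPR hg
  haveI : Nontrivial (Cfsg.POmega F ⇑Q) := by
    by_contra hnt
    rw [not_nontrivial_iff_subsingleton] at hnt
    apply hZ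
    rw [eq_top_iff]
    intro g _
    have : (QuotientGroup.mk' (Subgroup.center ↥(Cfsg.Omega F ⇑Q))) g = 1 :=
      Subsingleton.elim _ _
    exact (QuotientGroup.eq_one_iff g).1 this
  refine ⟨?_⟩
  intro H hH
  have hN : (H.comap (QuotientGroup.mk' (Subgroup.center ↥(Cfsg.Omega F ⇑Q)))).Normal :=
    hH.comap _
  rcases key _ hN with h | h
  · left
    rw [eq_bot_iff]
    intro x hx
    obtain ⟨y, rfl⟩ := QuotientGroup.mk'_surjective (Subgroup.center ↥(Cfsg.Omega F ⇑Q)) x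
    rw [Subgroup.mem_bot]
    exact (QuotientGroup.eq_one_iff y).2 (h hx)
  · right
    rw [eq_top_iff]
    intro x _
    obtain ⟨y, rfl⟩ := QuotientGroup.mk'_surjective (Subgroup.center ↥(Cfsg.Omega F ⇑Q)) x
    have : y ∈ H.comap (QuotientGroup.mk' (Subgroup.center ↥(Cfsg.Omega F ⇑Q))) := by
      rw [h]
      trivial
    exact this

end main

end Cfsg.Agent.Lib.Helper25.PS
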