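import Cfsg.Agent.Lib.Helper25.SpinDisc
import Cfsg.Agent.Lib.Helper25.SpinForms

set_option autoImplicit false

/-!
# `-1 ∈ Ω⁻` iff `q^m ≡ 3 (mod 4)`
-/

namespace Cfsg.Agent.Lib.Helper25.Spin

open Module QuadraticMap Matrix Cfsg.Agent.Lib.Helper25.CD Cfsg.Agent.Lib.Helper14
  Cfsg.Agent.Lib.Helper14.OrthMinus

section det

variable {R : Type*} [CommRing R]

theorem det_swapBlocks (k : ℕ) :
    (Matrix.fromBlocks (0 : Matrix (Fin k) (Fin k) R) (1 : Matrix (Fin k) (Fin k) R)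
      (1 : Matrix (Fin k) (Fin k) R) (0 : Matrix (Fin k) (Fin k) R)).det = (-1) ^ k := by
  have e : (Matrix.fromBlocks (0 : Matrix (Fin k) (Fin k) R) (1 : Matrix (Fin k) (Fin k) R)
      (1 : Matrix (Fin k) (Fin k) R) (0 : Matrix (Fin k) (Fin k) R)) =
      Matrix.fromBlocks (1 : Matrix (Fin k) (Fin k) R) 0 1 1 *
        (Matrix.fromBlocks (1 : Matrix (Fin k) (Fin k) R) 1 0 (-1) *
          Matrix.fromBlocks (1 : Matrix (Fin k) (Fin k) R) 0 (-1) 1) := by
    rw [Matrix.fromBlocks_multiply, Matrix.fromBlocks_multiply]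
    simp
  rw [e, Matrix.det_mul, Matrix.det_mul, Matrix.det_fromBlocks_zero₁₂, Matrix.det_fromBlocks_zero₂₁,
    Matrix.det_fromBlocks_zero₁₂, Matrix.det_neg, Matrix.det_one, Fintype.card_fin]
  ring

end det

section minus

variable {F : Type*} [Field F] {k : ℕ} {a b : F}

theorem gram_minus (hD : a ^ 2 - 4 * b ≠ 0) :
    (Matrix.of (fun i j : Idx k => polar ⇑(qfOf (isQF_minus (n := k) hD)) (Pi.single i 1)
      (Pi.single j 1))) =
      Matrix.fromBlocks (Matrix.fromBlocks (0 : Matrix (Fin k) (Fin k) F) 1 1 0) 0 0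
        !![2, a; a, 2 * b] := by
  have hq := isQF_minus (n := k) hD
  have hh := minus_std_hypQ (F := F) (n := k) (a := a) (b := b)
  ext i j
  rw [Matrix.of_apply, polar_qfOf]
  rcases i with (i | i) | i <;> rcases j with (j | j) | j
  · simp only [Matrix.fromBlocks_apply₁₁, Matrix.zero_apply]
    exact hh.ee i j
  · simp only [Matrix.fromBlocks_apply₁₁, Matrix.fromBlocks_apply₁₂, Matrix.one_apply]
    exact hh.ef i j
  · simp only [Matrix.fromBlocks_apply₁₂, Matrix.zero_apply]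
    rw [hq.b_symm]
    exact (minus_std_perp j i).1
  · simp only [Matrix.fromBlocks_apply₁₁, Matrix.fromBlocks_apply₂₁, Matrix.one_apply]
    exact hh.fe hq i j
  · simp only [Matrix.fromBlocks_apply₁₁, Matrix.fromBlocks_apply₂₂, Matrix.zero_apply]
    exact hh.ff i j
  · simp only [Matrix.fromBlocks_apply₁₂, Matrix.zero_apply]
    rw [hq.b_symm]
    exact (minus_std_perp j i).2
  · simp only [Matrix.fromBlocks_apply₂₁, Matrix.zero_apply]
    exact (minus_std_perp i j).1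
  · simp only [Matrix.fromBlocks_apply₂₁, Matrix.zero_apply]
    exact (minus_std_perp i j).2
  · simp only [Matrix.fromBlocks_apply₂₂]
    fin_cases i <;> fin_cases j
    · rw [hq.b_self]
      simp [minus_std_q0]
    · simp [minus_std_b01]
    · rw [hq.b_symm]
      simp [minus_std_b01]
    · rw [hq.b_self]
      simp [minus_std_q1]

theorem det_gram_minus (hD : a ^ 2 - 4 * b ≠ 0) :
    (Matrix.of (fun i j : Idx k => polar ⇑(qfOf (isQF_minus (n := k) hD)) (Pi.single i 1)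
      (Pi.single j 1))).det = (-1) ^ (k + 1) * (a ^ 2 - 4 * b) := by
  rw [gram_minus hD, Matrix.det_fromBlocks_zero₂₁, det_swapBlocks, Matrix.det_fin_two_of]
  ring

theorem not_isSquare_disc (h2 : (2 : F) ≠ 0)
    (hab : ∀ z₁ z₂ : F, z₁ ^ 2 + a * z₁ * z₂ + b * z₂ ^ 2 = 0 → z₁ = 0 ∧ z₂ = 0) :
    ¬ IsSquare (a ^ 2 - 4 * b) := by
  rintro ⟨s, hs⟩
  have := hab ((s - a) / 2) 1 (by
    field_simp
    linear_combination (-1 : F) * hs)
  exact one_ne_zero this.2

end minus

section main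

variable {F : Type*} [Field F] [Fintype F]

theorem neg_one_mem_omega_minus {q : ℕ} (hF : Fintype.card F = q) (hodd : Odd q) (k : ℕ)
    (a b : F) (hab : ∀ z₁ z₂ : F, z₁ ^ 2 + a * z₁ * z₂ + b * z₂ ^ 2 = 0 → z₁ = 0 ∧ z₂ = 0) :
    (∃ g : ↥(Cfsg.isometryGroup F (Cfsg.quadFormMinus k F a b)),
      g ∈ Cfsg.Omega F (Cfsg.quadFormMinus k F a b) ∧
      ((g : GL (Idx k) F) : Matrix (Idx k) (Idx k) F) = -1) ↔ q ^ (k + 1) % 4 = 3 := by
  have hoddF : Odd (Fintype.card F) := by rw [hF]; exact hodd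
  have h2 := two_ne_zero_of_odd_card hoddF
  have hD : a ^ 2 - 4 * b ≠ 0 := disc_ne_zero hab
  have key := neg_one_mem_omega_iff (qfOf (isQF_minus (n := k) hD)) h2 (qfOf_nondeg _) (by
    simp only [Fintype.card_sum, Fintype.card_fin]
    exact ⟨k + 1, by ring⟩)
  rw [det_gram_minus hD] at key
  have hns := not_isSquare_disc h2 hab
  have hne : ((-1 : F)) ^ (k + 1) ≠ 0 := pow_ne_zero _ (neg_ne_zero.2 one_ne_zero)
  rw [isSquare_mul_iff hne hD] at key
  rw [← not_isSquare_neg_one_pow_iff hF hodd]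
  rw [coe_qfOf] at key
  rw [key]
  constructor
  · intro h h'
    exact hns (h.1 h')
  · intro h
    exact ⟨fun h' => absurd h' h, fun h' => absurd h' hns⟩

end main

end Cfsg.Agent.Lib.Helper25.Spin
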