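import Cfsg.Agent.Lib.Lead.SteinN
import Cfsg.Agent.Lib.Helper11.ChevRootChar
import Cfsg.Prelude.Def_ChevAutomorphisms

/-! Conversion between the frozen predicates `IsDiagonalAut`, `IsFieldAut`, `IsGraphAut` and the
automorphisms `diagAut`, `phiOf` of the lead's `Stein*` files (helper25). -/

set_option autoImplicit false

namespace Cfsg.Agent.Lib.Helper25.SteinConv

open Cfsg Cfsg.Lie Matrix Cfsg.Agent.Lib.Helper7 Cfsg.Agent.Lib.Helper3.BN Cfsg.Agent.Lib.Helper11
open Cfsg.Agent.Lib.Lead.ChevCent Cfsg.Agent.Lib.Lead.ChevFix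
open Cfsg.Agent.Lib.Lead.Stein Cfsg.Agent.Lib.Helper11.ChevRootChar

/-- a first chain step gives a triple of `ccAll` -/
theorem mem_ccAll_of_chainRoot_one (D : ChevalleyDatum) (r : ℕ) (h : rootOKB D r = true) (s k : ℕ)
    (hk : D.chainRoot r s 1 = some k) : ∃ M : ℤ, (k, 1, M) ∈ ccAll D r s := by
  rcases cc_entry D r h s with ⟨-, h0⟩ | ⟨e, -, -, hcc, hce⟩
  · unfold ChevalleyDatum.chainRoot at hk
    rw [h0] at hk
    simp at hk
  · unfold ChevalleyDatum.chainRoot at hk
    rw [hce] at hk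
    rw [hcc]
    unfold entryList
    rcases hl : e.2.toList with _ | ⟨a, l⟩
    · rw [hl] at hk; simp at hk
    · rw [hl] at hk
      simp only [Nat.sub_self, List.getElem?_cons_zero, Option.map_some, Option.some.injEq] at hk
      refine ⟨a.2, ?_⟩
      simp only [List.zipIdx_cons, List.map_cons, List.mem_cons]
      left
      rw [← hk]

section
variable (D : ChevalleyDatum) (hD : D ∈ [chevG2, chevB2, chevD4, chevF4, chevE6, chevE7, chevE8])
variable (F : Type*) [Field F]

/-- the unit-valued version of a chain character -/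
noncomputable def unitOf (χ : ℕ → F) (hχ : ChainChar D F χ) (r : ℕ) : Fˣ :=
  if h : r < D.nroots then Units.mk0 (χ r) (hχ.ne0 r h) else 1

theorem unitOf_coe (χ : ℕ → F) (hχ : ChainChar D F χ) (r : ℕ) (hr : r < D.nroots) :
    ((unitOf D F χ hχ r : Fˣ) : F) = χ r := by
  unfold unitOf
  rw [dif_pos hr]
  rfl

include hD in
/-- a chain character gives a character of the root lattice in the frozen sense -/
theorem isRootCharacter_unitOf (χ : ℕ → F) (hχ : ChainChar D F χ) :
    D.IsRootCharacter (unitOf D F χ hχ) := by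
  have hOK := addOKB_of_mem D hD
  constructor
  · intro r hr
    have hnr : D.neg r < D.nroots := (negOK_of_mem D hD r hr).1
    apply Units.ext
    rw [Units.val_inv_eq_inv_val, unitOf_coe D F χ hχ _ hnr, unitOf_coe D F χ hχ _ hr]
    exact hχ.negC r hr hnr
  · intro r s k hr hs hk
    have hroot : rootOKB D r = true := by
      unfold addOKB at hOK
      rw [List.all_eq_true] at hOK
      exact hOK r (List.mem_range.mpr hr)
    obtain ⟨M, hM⟩ := mem_ccAll_of_chainRoot_one D r hroot s k hk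
    obtain ⟨-, hlt, -⟩ := addHyp_of_rootOKB D r hroot
    have hk' : k < D.nroots := (hlt s _ hM).1
    have := hχ.addC r hr s hs _ hM hk'
    apply Units.ext
    rw [Units.val_mul, unitOf_coe D F χ hχ _ hk', unitOf_coe D F χ hχ _ hr, unitOf_coe D F χ hχ _ hs]
    simp only [pow_one] at this
    rw [this, mul_comm]

theorem diagChar_unitOf (χ : ℕ → F) (hχ : ChainChar D F χ) :
    diagChar D F (fun s => ((unitOf D F χ hχ s : Fˣ) : F)) = diagChar D F χ := by
  unfold diagChar
  congr 1
  funext x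
  rcases x with j | s
  · rfl
  · simp only [Sum.elim_inr]
    exact unitOf_coe D F χ hχ s.val s.isLt

theorem diagChar_unitOf_inv (χ : ℕ → F) (hχ : ChainChar D F χ) :
    diagChar D F (fun s => (((unitOf D F χ hχ s)⁻¹ : Fˣ) : F)) = diagChar D F (fun s => (χ s)⁻¹) := by
  unfold diagChar
  congr 1
  funext x
  rcases x with j | s
  · rfl
  · simp only [Sum.elim_inr]
    rw [Units.val_inv_eq_inv_val, unitOf_coe D F χ hχ s.val s.isLt]

include hD in
/-- the lead's `diagAut` is a diagonal automorphism in the frozen sense -/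
theorem isDiagonalAut_diagAut (χ : ℕ → F) (hχ : ChainChar D F χ) :
    D.IsDiagonalAut (diagAut D hD F χ hχ) := by
  refine ⟨unitOf D F χ hχ, isRootCharacter_unitOf D hD F χ hχ, fun g => ?_⟩
  rw [coe_diagAut, charDiag_eq_diagChar, charDiag_eq_diagChar, diagChar_unitOf, diagChar_unitOf_inv,
    Units.val_mul, Units.val_mul, coe_diagGL, diagGL_inv, coe_diagGL]

include hD in
/-- a diagonal automorphism in the frozen sense is a `diagAut` -/
theorem exists_diagAut_of_isDiagonalAut (φ : ↥(D.group F) ≃* ↥(D.group F)) (hφ : D.IsDiagonalAut φ) :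
    ∃ (χ : ℕ → F) (hχ : ChainChar D F χ), φ = diagAut D hD F χ hχ := by
  obtain ⟨χ, hχ, h⟩ := hφ
  have hCC := chainChar_of_isRootCharacter D hD χ hχ
  refine ⟨fun s => ((χ s : Fˣ) : F), hCC, ?_⟩
  refine MulEquiv.ext (fun g => Subtype.ext (Units.ext ?_))
  rw [h g, coe_diagAut, charDiag_eq_diagChar, charDiag_eq_diagChar, Units.val_mul, Units.val_mul,
    coe_diagGL, diagGL_inv, coe_diagGL]
  congr 2
  funext s
  exact Units.val_inv_eq_inv_val _

include hD in
/-- the lead's `phiOf` is a field automorphism in the frozen sense -/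
theorem isFieldAut_phiOf (σ : F ≃+* F) : D.IsFieldAut (phiOf D σ) := by
  refine ⟨σ, fun g r t _ hg => ?_⟩
  have h1 : g = xG D hD F r t := eq_xG_of_coe D hD F g r t hg
  rw [h1, phiOf_xG D σ hD]
  rfl

include hD in
/-- a field automorphism in the frozen sense is a `phiOf` -/
theorem exists_phiOf_of_isFieldAut (φ : ↥(D.group F) ≃* ↥(D.group F)) (hφ : D.IsFieldAut φ) :
    ∃ σ : F ≃+* F, φ = phiOf D σ := by
  obtain ⟨σ, h⟩ := hφ
  refine ⟨σ, ?_⟩
  have heq : φ.toMonoidHom = (phiOf D σ).toMonoidHom := by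
    apply hom_ext_of_fund D hD F
    · intro j hj t
      show φ _ = phiOf D σ _
      rw [phiOf_xG D σ hD]
      exact eq_xG_of_coe D hD F _ _ _
        (h _ _ t (simple_lt D hD j hj) (coe_coe_xG D hD F _ _))
    · intro j hj t
      show φ _ = phiOf D σ _
      rw [phiOf_xG D σ hD]
      exact eq_xG_of_coe D hD F _ _ _
        (h _ _ t (neg_simple_lt D hD j hj) (coe_coe_xG D hD F _ _))
  exact MulEquiv.ext (fun y => congrArg (fun ψ : ↥(D.group F) →* ↥(D.group F) => ψ y) heq)

theorem graphExp_self (c i : ℕ) : D.graphExp c i i = 1 := by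
  unfold ChevalleyDatum.graphExp
  cases D.isLong (D.simple i) <;> simp

/-- the identity is a graph automorphism -/
theorem isGraphAut_refl : D.IsGraphAut (MulEquiv.refl ↥(D.group F)) := by
  refine ⟨1, fun i j _ => rfl, fun g i t => ⟨fun h => ?_, fun h => ?_⟩⟩
  · rw [Equiv.Perm.one_apply, graphExp_self, pow_one]; exact h
  · rw [Equiv.Perm.one_apply, graphExp_self, pow_one]; exact h

include hD in
/-- a sufficient condition for `IsGraphAut`, in terms of `xG` -/
theorem isGraphAut_of (φ : ↥(D.group F) ≃* ↥(D.group F)) (π : Equiv.Perm (Fin D.rank))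
    (hπ : D.IsDiagramSymmetry π)
    (hpos : ∀ (i : Fin D.rank) (t : F), φ (xG D hD F (D.simple i) t) =
      xG D hD F (D.simple (π i)) (t ^ D.graphExp (ringChar F) i (π i)))
    (hneg : ∀ (i : Fin D.rank) (t : F), φ (xG D hD F (D.neg (D.simple i)) t) =
      xG D hD F (D.neg (D.simple (π i))) (t ^ D.graphExp (ringChar F) i (π i))) :
    D.IsGraphAut φ := by
  refine ⟨π, hπ, fun g i t => ⟨fun h => ?_, fun h => ?_⟩⟩
  · have h1 : g = xG D hD F (D.simple i) t := eq_xG_of_coe D hD F g _ t h
    rw [h1, hpos]; rfl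
  · have h1 : g = xG D hD F (D.neg (D.simple i)) t := eq_xG_of_coe D hD F g _ t h
    rw [h1, hneg]; rfl

include hD in
/-- the data of a graph automorphism in the frozen sense, in terms of `xG` -/
theorem isGraphAut_xG (φ : ↥(D.group F) ≃* ↥(D.group F)) (hφ : D.IsGraphAut φ) :
    ∃ π : Equiv.Perm (Fin D.rank), D.IsDiagramSymmetry π ∧
      (∀ (i : Fin D.rank) (t : F), φ (xG D hD F (D.simple i) t) =
        xG D hD F (D.simple (π i)) (t ^ D.graphExp (ringChar F) i (π i))) ∧
      (∀ (i : Fin D.rank) (t : F), φ (xG D hD F (D.neg (D.simple i)) t) =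
        xG D hD F (D.neg (D.simple (π i))) (t ^ D.graphExp (ringChar F) i (π i))) := by
  obtain ⟨π, hπ, h⟩ := hφ
  refine ⟨π, hπ, fun i t => ?_, fun i t => ?_⟩
  · exact eq_xG_of_coe D hD F _ _ _ ((h _ i t).1 (coe_coe_xG D hD F _ _))
  · exact eq_xG_of_coe D hD F _ _ _ ((h _ i t).2 (coe_coe_xG D hD F _ _))

end

end Cfsg.Agent.Lib.Helper25.SteinConv
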