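import Mathlib

set_option autoImplicit false

/-!
# Determinants of involutions and of square roots of nonsquare scalars
-/

namespace Cfsg.Agent.Lib.Helper25.GraphSplit

open Module Polynomial

section invol

variable {F : Type*} [Field F] {V : Type*} [AddCommGroup V] [Module F V]

/-- The `+1` and `-1` eigenspaces of an involution are complementary (characteristic not two). -/
theorem isCompl_eigen (h2 : (2 : F) ≠ 0) (σ : V →ₗ[F] V) (hσσ : ∀ x, σ (σ x) = x) :
    IsCompl (LinearMap.ker (σ - LinearMap.id)) (LinearMap.ker (σ + LinearMap.id)) := by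
  constructor
  · rw [Submodule.disjoint_def]
    intro x hx hx'
    rw [LinearMap.mem_ker, LinearMap.sub_apply, LinearMap.id_apply, sub_eq_zero] at hx
    rw [LinearMap.mem_ker, LinearMap.add_apply, LinearMap.id_apply, hx] at hx'
    have h3 : (2 : F) • x = 0 := by rw [two_smul]; exact hx'
    exact (smul_eq_zero.1 h3).resolve_left h2
  · rw [codisjoint_iff, eq_top_iff]
    intro x _
    have e : x = (2 : F)⁻¹ • (x + σ x) + (2 : F)⁻¹ • (x - σ x) := by
      rw [← smul_add]
      have : x + σ x + (x - σ x) = (2 : F) • x := by rw [two_smul]; abel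
      rw [this, smul_smul, inv_mul_cancel₀ h2, one_smul]
    rw [e]
    apply Submodule.add_mem_sup
    · rw [LinearMap.mem_ker, LinearMap.sub_apply, LinearMap.id_apply, map_smul, map_add, hσσ,
        add_comm (σ x) x, sub_self]
    · rw [LinearMap.mem_ker, LinearMap.add_apply, LinearMap.id_apply, map_smul, map_sub, hσσ,
        ← smul_add]
      have : σ x - x + (x - σ x) = 0 := by abel
      rw [this, smul_zero]

theorem finrank_eigen_add [FiniteDimensional F V] (h2 : (2 : F) ≠ 0) (σ : V →ₗ[F] V)
    (hσσ : ∀ x, σ (σ x) = x) :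
    finrank F (LinearMap.ker (σ - LinearMap.id)) + finrank F (LinearMap.ker (σ + LinearMap.id)) =
      finrank F V :=
  Submodule.finrank_add_eq_of_isCompl (isCompl_eigen h2 σ hσσ)

/-- The determinant of an involution. -/
theorem det_invol [FiniteDimensional F V] (h2 : (2 : F) ≠ 0) (σ : V →ₗ[F] V)
    (hσσ : ∀ x, σ (σ x) = x) :
    LinearMap.det σ = (-1) ^ finrank F (LinearMap.ker (σ + LinearMap.id)) := by
  have hc := isCompl_eigen h2 σ hσσ
  obtain ⟨P, hP⟩ : ∃ P : Submodule F V, P = LinearMap.ker (σ - LinearMap.id) := ⟨_, rfl⟩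
  obtain ⟨N, hN⟩ : ∃ N : Submodule F V, N = LinearMap.ker (σ + LinearMap.id) := ⟨_, rfl⟩
  rw [← hP, ← hN] at hc
  rw [← hN]
  let e := Submodule.prodEquivOfIsCompl P N hc
  have hσe : σ = (e : (↥P × ↥N) →ₗ[F] V) ∘ₗ
      ((LinearMap.id : ↥P →ₗ[F] ↥P).prodMap ((-1 : F) • (LinearMap.id : ↥N →ₗ[F] ↥N))) ∘ₗ
      (e.symm : V →ₗ[F] (↥P × ↥N)) := by
    apply LinearMap.ext
    intro x
    obtain ⟨⟨p, n⟩, rfl⟩ := e.surjective x
    simp only [LinearMap.comp_apply, LinearEquiv.coe_coe, LinearEquiv.symm_apply_apply,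
      LinearMap.prodMap_apply, LinearMap.id_apply, LinearMap.smul_apply]
    show σ (e (p, n)) = e (p, (-1 : F) • n)
    rw [Submodule.coe_prodEquivOfIsCompl', Submodule.coe_prodEquivOfIsCompl', map_add]
    have hp : σ (p : V) = p := by
      have h3 : (p : V) ∈ LinearMap.ker (σ - LinearMap.id) := hP ▸ p.2
      rw [LinearMap.mem_ker, LinearMap.sub_apply, LinearMap.id_apply, sub_eq_zero] at h3
      exact h3
    have hn : σ (n : V) = -(n : V) := by
      have h3 : (n : V) ∈ LinearMap.ker (σ + LinearMap.id) := hN ▸ n.2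
      rw [LinearMap.mem_ker, LinearMap.add_apply, LinearMap.id_apply] at h3
      exact eq_neg_of_add_eq_zero_left h3
    rw [hp, hn]
    simp
  rw [hσe, LinearMap.det_conj, LinearMap.det_prodMap, LinearMap.det_id, one_mul,
    LinearMap.det_smul, LinearMap.det_id, mul_one]

end invol

section charpoly

variable {F : Type*} [Field F] {ι : Type*} [Fintype ι] [DecidableEq ι]

/-- A matrix whose square is a nonsquare scalar `lam` has determinant `(-lam)^k`, where the
dimension is `2k`. -/
theorem det_of_sq_nonsquare {k : ℕ} (hcard : Fintype.card ι = 2 * k) (G : Matrix ι ι F) (lam : F)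
    (hlam : ¬ IsSquare lam) (hGG : G * G = lam • (1 : Matrix ι ι F)) :
    G.det = (-lam) ^ k := by
  obtain ⟨p, hp⟩ : ∃ p : F[X], p = X ^ 2 - C lam := ⟨_, rfl⟩
  have hpdeg : p.natDegree = 2 := by
    rw [hp]
    exact natDegree_X_pow_sub_C
  have hpmonic : p.Monic := by
    rw [hp]
    exact monic_X_pow_sub_C lam (by norm_num)
  have hirr : Irreducible p := by
    apply irreducible_of_degree_le_three_of_not_isRoot
    · rw [hpdeg]
      simp
    · intro x hx
      apply hlam
      refine ⟨x, ?_⟩
      have : p.eval x = 0 := hx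
      rw [hp, eval_sub, eval_pow, eval_X, eval_C, sub_eq_zero] at this
      rw [← this, pow_two]
  obtain ⟨G', hG'⟩ : ∃ G' : Matrix ι ι F[X], G' = C.mapMatrix G := ⟨_, rfl⟩
  have hG'G' : G' * G' = (C lam) • (1 : Matrix ι ι F[X]) := by
    rw [hG', ← map_mul, hGG]
    ext i j
    simp [Matrix.one_apply]
    split_ifs <;> simp
  have h1 : Matrix.charmatrix G = Matrix.scalar ι (X : F[X]) - G' := by
    rw [hG']
    rfl
  have h2 : Matrix.charmatrix (-G) = Matrix.scalar ι (X : F[X]) + G' := by
    rw [hG']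
    unfold Matrix.charmatrix
    rw [map_neg, sub_neg_eq_add]
  have hprod : G.charpoly * (-G).charpoly = p ^ Fintype.card ι := by
    unfold Matrix.charpoly
    rw [← Matrix.det_mul, h1, h2]
    have e : (Matrix.scalar ι (X : F[X]) - G') * (Matrix.scalar ι (X : F[X]) + G') =
        p • (1 : Matrix ι ι F[X]) := by
      have hcomm : G' * Matrix.scalar ι (X : F[X]) = Matrix.scalar ι (X : F[X]) * G' :=
        (Matrix.scalar_commute (X : F[X]) (fun r => mul_comm _ _) G').symm.eq
      rw [sub_mul, mul_add, mul_add, hcomm, hG'G']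
      have hs : Matrix.scalar ι (X : F[X]) * Matrix.scalar ι (X : F[X]) =
          (X ^ 2 : F[X]) • (1 : Matrix ι ι F[X]) := by
        rw [← map_mul, ← pow_two]
        ext i j
        by_cases hij : i = j
        · subst hij
          simp
        · simp [hij]
      rw [hs, hp, sub_smul]
      abel
    rw [e, Matrix.det_smul, Matrix.det_one, mul_one]
  have hdvd : G.charpoly ∣ p ^ Fintype.card ι := ⟨_, hprod.symm⟩
  obtain ⟨i, -, hi⟩ := (dvd_prime_pow hirr.prime _).1 hdvd
  have heq : G.charpoly = p ^ i :=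
    eq_of_monic_of_associated (Matrix.charpoly_monic G) (hpmonic.pow i) hi
  have hdeg := Matrix.charpoly_natDegree_eq_dim G
  rw [heq, natDegree_pow, hpdeg, hcard] at hdeg
  have hik : i = k := by omega
  rw [Matrix.det_eq_sign_charpoly_coeff, heq, hik, hcard, coeff_zero_eq_eval_zero, eval_pow,
    hp, eval_sub, eval_pow, eval_X, eval_C]
  rw [pow_mul, neg_one_sq, one_pow, one_mul]
  congr 1
  ring

end charpoly

end Cfsg.Agent.Lib.Helper25.GraphSplit
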