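import Mathlib
import Cfsg.Agent.Lib.Helper25.SpTK
import Cfsg.Agent.Lib.Helper25.TensT
import Cfsg.Agent.Lib.Helper9.QuadBridge
import Cfsg.Agent.Lib.Helper8.OSubBR
import Cfsg.Agent.Lib.Helper18.OSubR2
import Cfsg.Agent.Lib.Helper13.SpTSB

/-!
S5704: transport of the model statement to the frozen statement (leaves `core_gen`, `transport`).
-/

set_option autoImplicit false
set_option linter.unusedSectionVars false
set_option linter.unusedVariables false

namespace Cfsg.Agent.Lib.Helper25.SpTLeaf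
open Matrix QuadraticMap
open Cfsg.Agent.Lib.Helper25.Tens Cfsg.Agent.Lib.Helper25.TensLeaves Cfsg.Agent.Lib.Helper19.OSub
open Cfsg.Agent.Lib.Helper25.SpT
open scoped Kronecker

variable {F : Type*} [Field F]

section reindex
variable {ι κ : Type} [Fintype ι] [DecidableEq ι] [Fintype κ] [DecidableEq κ]

/-- the quadratic form `v ↦ Q (v ∘ e)` on `κ → F` -/
noncomputable def reQ (e : ι ≃ κ) (Q : QuadraticForm F (ι → F)) : QuadraticForm F (κ → F) :=
  Q.comp (LinearMap.funLeft F F e)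

lemma reQ_apply (e : ι ≃ κ) (Q : QuadraticForm F (ι → F)) (v : κ → F) :
    reQ e Q v = Q (v ∘ e) := rfl

lemma glReindex_val (e : ι ≃ κ) (g : GL κ F) :
    ((Cfsg.Geo.glReindex (F := F) e.symm g : GL ι F) : Matrix ι ι F) =
      (g : Matrix κ κ F).submatrix e e := rfl

lemma submatrix_mulVec_comp (e : ι ≃ κ) (X : Matrix κ κ F) (v : κ → F) :
    (X.submatrix e e) *ᵥ (v ∘ e) = (X *ᵥ v) ∘ e := by
  ext i
  simp only [Matrix.mulVec, dotProduct, Matrix.submatrix_apply, Function.comp_apply]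
  exact Fintype.sum_equiv e _ _ (fun _ => rfl)

lemma isometryGroup_reindex (e : ι ≃ κ) (Q : QuadraticForm F (ι → F)) :
    (Cfsg.isometryGroup F ⇑(reQ e Q)).map (Cfsg.Geo.glReindex (F := F) e.symm).toMonoidHom =
      Cfsg.isometryGroup F ⇑Q := by
  ext g
  constructor
  · rintro ⟨g', hg', rfl⟩
    rw [SetLike.mem_coe] at hg'
    rw [Cfsg.Agent.Lib.Helper25.PSim.mem_iso_iff'] at hg' ⊢
    intro w
    have hw : w = (w ∘ e.symm) ∘ e := by ext i; simp
    have := hg' (w ∘ e.symm)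
    rw [reQ_apply, reQ_apply, ← submatrix_mulVec_comp, ← hw] at this
    exact this
  · intro hg
    refine ⟨(Cfsg.Geo.glReindex (F := F) e.symm).symm g, ?_, by simp⟩
    rw [SetLike.mem_coe]
    rw [Cfsg.Agent.Lib.Helper25.PSim.mem_iso_iff'] at hg ⊢
    intro v
    have h1 : Cfsg.Geo.glReindex (F := F) e.symm ((Cfsg.Geo.glReindex (F := F) e.symm).symm g) = g :=
      MulEquiv.apply_symm_apply _ _
    have h2 := glReindex_val e ((Cfsg.Geo.glReindex (F := F) e.symm).symm g)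
    rw [h1] at h2
    rw [reQ_apply, reQ_apply, ← submatrix_mulVec_comp, ← h2]
    exact hg (v ∘ e)

lemma omegaGL_reindex (e : ι ≃ κ) (Q : QuadraticForm F (ι → F)) :
    (Cfsg.Geo.omegaGL ⇑(reQ e Q)).map (Cfsg.Geo.glReindex (F := F) e.symm).toMonoidHom =
      Cfsg.Geo.omegaGL ⇑Q := by
  rw [omegaGL_eq_comm, omegaGL_eq_comm, Subgroup.map_commutator, isometryGroup_reindex]

lemma polar_reQ (e : ι ≃ κ) (Q : QuadraticForm F (ι → F)) (v w : κ → F) :
    polar (reQ e Q) v w = polar Q (v ∘ e) (w ∘ e) := by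
  unfold polar
  rw [reQ_apply, reQ_apply, reQ_apply]
  rfl

lemma reQ_nondeg (e : ι ≃ κ) (Q : QuadraticForm F (ι → F)) (hQ : (polarBilin Q).Nondegenerate) :
    (polarBilin (reQ e Q)).Nondegenerate := by
  constructor
  · intro u hu
    have h0 : u ∘ e = 0 := by
      apply hQ.1
      intro y
      have := hu (y ∘ e.symm)
      rw [polarBilin_apply_apply, polar_reQ] at this
      rw [polarBilin_apply_apply]
      have hy : (y ∘ e.symm) ∘ e = y := by ext i; simp
      rwa [hy] at this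
    ext k
    have := congrFun h0 (e.symm k)
    simpa using this
  · intro u hu
    have h0 : u ∘ e = 0 := by
      apply hQ.2
      intro y
      have := hu (y ∘ e.symm)
      rw [polarBilin_apply_apply, polar_reQ] at this
      rw [polarBilin_apply_apply]
      have hy : (y ∘ e.symm) ∘ e = y := by ext i; simp
      rwa [hy] at this
    ext k
    have := congrFun h0 (e.symm k)
    simpa using this

end reindex

variable [Fintype F]

/-- (TT1) transport to the frozen statement -/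
theorem transport {n : ℕ} (hn : 13 ≤ n) (Q₀ : (Fin n → F) → F)
    (hQ : Cfsg.Geo.IsNondegenerateQuadraticForm Q₀) (n₁ n₂ : ℕ) (h12 : n₁ < n₂)
    (hex : ¬ (Fintype.card F = 2 ∧ n₁ = 2)) (e : (Fin n) ≃ Fin n₁ × Fin n₂)
    (P : Matrix.GeneralLinearGroup (Fin n) F) (f₁ : (Fin n₁ → F) → (Fin n₁ → F) → F)
    (f₂ : (Fin n₂ → F) → (Fin n₂ → F) → F) (hf₁ : Cfsg.Geo.IsSymplecticForm f₁)
    (hf₂ : Cfsg.Geo.IsSymplecticForm f₂)
    (hT : Cfsg.Geo.IsTensorFormStructure id (QuadraticMap.polar Q₀) f₁ f₂ e P)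
    (hpure : ∀ (x₁ : Fin n₁ → F) (x₂ : Fin n₂ → F), Q₀ (Matrix.mulVec (P : Matrix (Fin n) (Fin n) F)
      ((fun p : Fin n₁ × Fin n₂ => x₁ p.1 * x₂ p.2) ∘ e)) = 0)
    (hcore : ∀ (Q' : QuadraticForm F (Idx n₁ n₂ → F)), (polarBilin Q').Nondegenerate →
      (∀ (x : Fin n₁ → F) (y : Fin n₂ → F), Q' (pt x y) = 0) →
      (∀ (x : Fin n₁ → F) (y : Fin n₂ → F) (x' : Fin n₁ → F) (y' : Fin n₂ → F),
        polar Q' (pt x y) (pt x' y') = f₁ x x' * f₂ y y') →
      Cfsg.Geo.IsMaximalIn (Cfsg.Geo.omegaGL ⇑Q') (KG n₁ n₂ F ⊓ Cfsg.Geo.omegaGL ⇑Q')) :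
    Cfsg.Geo.IsMaximalIn (Cfsg.Geo.omegaGL Q₀)
      (Cfsg.Geo.tensorProductSubgroup n₁ n₂ e P ⊓ Cfsg.Geo.omegaGL Q₀) := by
  obtain ⟨c, hc0, hc⟩ := hT
  obtain ⟨Qf, hQf⟩ : ∃ Qf : QuadraticForm F (Fin n → F), Qf =
    Cfsg.Agent.Lib.Helper9.QuadBridge.ofFun Q₀ hQ := ⟨_, rfl⟩
  have hcoe : ⇑Qf = Q₀ := by rw [hQf]; rfl
  have hnd : (polarBilin Qf).Nondegenerate := by
    rw [hQf]; exact Cfsg.Agent.Lib.Helper9.QuadBridge.ofFun_nondeg Q₀ hQ
  -- `Q₁ = Qf ∘ P` on `Fin n → F`, `Q₂ = Q₁ ∘ (· ∘ e)` on `Idx → F`, `Q' = c⁻¹ • Q₂`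
  obtain ⟨Q₁, hQ₁⟩ : ∃ Q₁ : QuadraticForm F (Fin n → F),
      Q₁ = Qf.comp (Matrix.toLin' (P : Matrix (Fin n) (Fin n) F)) := ⟨_, rfl⟩
  have hnd₁ : (polarBilin Q₁).Nondegenerate := by
    rw [hQ₁]; exact Cfsg.Agent.Lib.Helper18.OSubLeaf.comp_nondeg Qf P hnd
  obtain ⟨Q₂, hQ₂⟩ : ∃ Q₂ : QuadraticForm F (Idx n₁ n₂ → F), Q₂ = reQ e Q₁ := ⟨_, rfl⟩
  have hnd₂ : (polarBilin Q₂).Nondegenerate := by rw [hQ₂]; exact reQ_nondeg e Q₁ hnd₁
  have hc0' : c⁻¹ ≠ 0 := inv_ne_zero hc0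
  have hnd' : (polarBilin (c⁻¹ • Q₂)).Nondegenerate :=
    Cfsg.Agent.Lib.Helper8.OSubLeaf19.smul_nondeg Q₂ hc0' hnd₂
  have hval : ∀ v : Idx n₁ n₂ → F, Q₂ v = Q₀ ((P : Matrix (Fin n) (Fin n) F) *ᵥ (v ∘ e)) := by
    intro v
    rw [hQ₂, reQ_apply, hQ₁, QuadraticMap.comp_apply, Matrix.toLin'_apply, hcoe]
  have hpol₂ : ∀ v w : Idx n₁ n₂ → F, polar Q₂ v w =
      polar Q₀ ((P : Matrix (Fin n) (Fin n) F) *ᵥ (v ∘ e))
        ((P : Matrix (Fin n) (Fin n) F) *ᵥ (w ∘ e)) := by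
    intro v w
    unfold polar
    rw [hval, hval, hval]
    congr 2
    rw [← Matrix.mulVec_add]
    rfl
  have hform : ∀ (x : Fin n₁ → F) (y : Fin n₂ → F) (x' : Fin n₁ → F) (y' : Fin n₂ → F),
      Cfsg.Geo.formOfGram id (Cfsg.Geo.gramMatrix f₁ ⊗ₖ Cfsg.Geo.gramMatrix f₂) (pt x y) (pt x' y') =
        f₁ x x' * f₂ y y' := by
    intro x y x' y'
    have e1 : f₁ x x' = ∑ i, ∑ i', x i * Cfsg.Geo.gramMatrix f₁ i i' * x' i' := by
      have hx : x = ∑ i, x i • (Pi.single i (1 : F) : Fin n₁ → F) := by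
        ext k; simp [Finset.sum_apply, Pi.single_apply]
      have hx' : x' = ∑ i, x' i • (Pi.single i (1 : F) : Fin n₁ → F) := by
        ext k; simp [Finset.sum_apply, Pi.single_apply]
      have hl : ∀ (s : Finset (Fin n₁)) (g : Fin n₁ → (Fin n₁ → F)) (w : Fin n₁ → F),
          f₁ (∑ i ∈ s, g i) w = ∑ i ∈ s, f₁ (g i) w := by
        intro s g w
        induction s using Finset.induction_on with
        | empty =>
          simp only [Finset.sum_empty]
          have := hf₁.bilinear.smul_left 0 0 w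
          simpa using this
        | insert k s hk ih => rw [Finset.sum_insert hk, Finset.sum_insert hk, hf₁.bilinear.add_left, ih]
      have hr : ∀ (s : Finset (Fin n₁)) (g : Fin n₁ → (Fin n₁ → F)) (w : Fin n₁ → F),
          f₁ w (∑ i ∈ s, g i) = ∑ i ∈ s, f₁ w (g i) := by
        intro s g w
        induction s using Finset.induction_on with
        | empty =>
          simp only [Finset.sum_empty]
          have := hf₁.bilinear.smul_right 0 w 0
          simpa using this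
        | insert k s hk ih => rw [Finset.sum_insert hk, Finset.sum_insert hk, hf₁.bilinear.add_right, ih]
      conv_lhs => rw [hx, hl]
      apply Finset.sum_congr rfl; intro i _
      rw [hf₁.bilinear.smul_left]
      conv_lhs => rw [hx', hr, Finset.mul_sum]
      apply Finset.sum_congr rfl; intro i' _
      rw [hf₁.bilinear.smul_right]
      unfold Cfsg.Geo.gramMatrix
      ring
    have e2 : f₂ y y' = ∑ l, ∑ l', y l * Cfsg.Geo.gramMatrix f₂ l l' * y' l' := by
      have hx : y = ∑ i, y i • (Pi.single i (1 : F) : Fin n₂ → F) := by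
        ext k; simp [Finset.sum_apply, Pi.single_apply]
      have hx' : y' = ∑ i, y' i • (Pi.single i (1 : F) : Fin n₂ → F) := by
        ext k; simp [Finset.sum_apply, Pi.single_apply]
      have hl : ∀ (s : Finset (Fin n₂)) (g : Fin n₂ → (Fin n₂ → F)) (w : Fin n₂ → F),
          f₂ (∑ i ∈ s, g i) w = ∑ i ∈ s, f₂ (g i) w := by
        intro s g w
        induction s using Finset.induction_on with
        | empty =>
          simp only [Finset.sum_empty]
          have := hf₂.bilinear.smul_left 0 0 w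
          simpa using this
        | insert k s hk ih => rw [Finset.sum_insert hk, Finset.sum_insert hk, hf₂.bilinear.add_left, ih]
      have hr : ∀ (s : Finset (Fin n₂)) (g : Fin n₂ → (Fin n₂ → F)) (w : Fin n₂ → F),
          f₂ w (∑ i ∈ s, g i) = ∑ i ∈ s, f₂ w (g i) := by
        intro s g w
        induction s using Finset.induction_on with
        | empty =>
          simp only [Finset.sum_empty]
          have := hf₂.bilinear.smul_right 0 w 0
          simpa using this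
        | insert k s hk ih => rw [Finset.sum_insert hk, Finset.sum_insert hk, hf₂.bilinear.add_right, ih]
      conv_lhs => rw [hx, hl]
      apply Finset.sum_congr rfl; intro i _
      rw [hf₂.bilinear.smul_left]
      conv_lhs => rw [hx', hr, Finset.mul_sum]
      apply Finset.sum_congr rfl; intro i' _
      rw [hf₂.bilinear.smul_right]
      unfold Cfsg.Geo.gramMatrix
      ring
    unfold Cfsg.Geo.formOfGram
    rw [e1, e2, Finset.sum_mul_sum]
    simp only [Fintype.sum_prod_type, id, pt, Matrix.kroneckerMap_apply]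
    apply Finset.sum_congr rfl; intro i _
    apply Finset.sum_congr rfl; intro l _
    rw [Finset.sum_mul_sum]
    apply Finset.sum_congr rfl; intro i' _
    apply Finset.sum_congr rfl; intro l' _
    ring
  have hmax := hcore (c⁻¹ • Q₂) hnd'
    (by
      intro x y
      rw [_root_.smul_apply, hval]
      have := hpure x y
      have e1 : (fun p : Fin n₁ × Fin n₂ => x p.1 * y p.2) = pt x y := rfl
      rw [e1] at this
      rw [this, smul_zero])
    (by
      intro x y x' y'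
      rw [Cfsg.Agent.Lib.Helper8.OSubLeaf19.polar_smul_form, hpol₂, hc, hform, ← mul_assoc,
        inv_mul_cancel₀ hc0, one_mul])
  -- transport along `φ`
  set φ : GL (Idx n₁ n₂) F ≃* GL (Fin n) F :=
    (Cfsg.Geo.glReindex (F := F) e.symm).trans (MulAut.conj P) with hφ
  have h1 := Cfsg.Agent.Lib.Helper25.TensLeaf.isMaximalIn_map' φ hmax
  have hmapφ : ∀ H : Subgroup (GL (Idx n₁ n₂) F), H.map φ.toMonoidHom =
      (H.map (Cfsg.Geo.glReindex (F := F) e.symm).toMonoidHom).map (MulAut.conj P).toMonoidHom := by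
    intro H
    rw [Subgroup.map_map]
    rfl
  have hO : (Cfsg.Geo.omegaGL ⇑(c⁻¹ • Q₂)).map φ.toMonoidHom = Cfsg.Geo.omegaGL Q₀ := by
    rw [Cfsg.Agent.Lib.Helper8.OSubLeaf19.omegaGL_smul Q₂ hc0', hmapφ, hQ₂, omegaGL_reindex, hQ₁,
      Cfsg.Agent.Lib.Helper18.OSubLeaf.omegaGL_comp, hcoe]
  have hK : (KG n₁ n₂ F).map φ.toMonoidHom = Cfsg.Geo.tensorProductSubgroup n₁ n₂ e P := by
    rw [hmapφ]
    rfl
  rw [Subgroup.map_inf _ _ _ φ.injective, hO, hK] at h1
  exact h1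

lemma map_conj_of_mem {G : Type*} [Group G] (H : Subgroup G) {r : G} (hr : r ∈ H) :
    H.map (MulAut.conj r).toMonoidHom = H := by
  ext g
  constructor
  · rintro ⟨g', hg', rfl⟩
    simp only [MulEquiv.coe_toMonoidHom, MulAut.conj_apply]
    exact H.mul_mem (H.mul_mem hr hg') (H.inv_mem hr)
  · intro hg
    refine ⟨r⁻¹ * g * r, H.mul_mem (H.mul_mem (H.inv_mem hr) hg) hr, ?_⟩
    simp only [MulEquiv.coe_toMonoidHom, MulAut.conj_apply]
    group

/-- (TT2) from the standard symplectic forms to arbitrary symplectic Gram forms -/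
theorem core_gen_of {a b : ℕ}
    (hcore : ∀ (Q' : QuadraticForm F (Idx a b → F)), Ctx a b Q' →
      Cfsg.Geo.IsMaximalIn (Cfsg.Geo.omegaGL ⇑Q') (KG a b F ⊓ Cfsg.Geo.omegaGL ⇑Q'))
    (g₁ : (Fin a → F) → (Fin a → F) → F) (g₂ : (Fin b → F) → (Fin b → F) → F)
    (hg₁ : Cfsg.Geo.IsSymplecticForm g₁) (hg₂ : Cfsg.Geo.IsSymplecticForm g₂) (hab : a < b)
    (hn : 13 ≤ a * b) (Q : QuadraticForm F (Idx a b → F))
    (hnd : (polarBilin Q).Nondegenerate)
    (hpure : ∀ (x : Fin a → F) (y : Fin b → F), Q (pt x y) = 0)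
    (hpol : ∀ (x : Fin a → F) (y : Fin b → F) (x' : Fin a → F) (y' : Fin b → F),
      polar Q (pt x y) (pt x' y') = g₁ x x' * g₂ y y') :
    Cfsg.Geo.IsMaximalIn (Cfsg.Geo.omegaGL ⇑Q) (KG a b F ⊓ Cfsg.Geo.omegaGL ⇑Q) := by
  obtain ⟨hea, P₁, hP₁⟩ := Cfsg.Agent.Lib.Helper13.SpTLeaf.exists_symp_basis g₁ hg₁
  obtain ⟨heb, P₂, hP₂⟩ := Cfsg.Agent.Lib.Helper13.SpTLeaf.exists_symp_basis g₂ hg₂
  obtain ⟨R, hR⟩ : ∃ R : GL (Idx a b) F, R = kel P₁ P₂ := ⟨_, rfl⟩
  obtain ⟨Q', hQ'⟩ : ∃ Q' : QuadraticForm F (Idx a b → F),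
      Q' = Q.comp (Matrix.toLin' (R : Matrix (Idx a b) (Idx a b) F)) := ⟨_, rfl⟩
  have hval : ∀ v, Q' v = Q ((R : Matrix (Idx a b) (Idx a b) F) *ᵥ v) := by
    intro v
    rw [hQ', QuadraticMap.comp_apply, Matrix.toLin'_apply]
  have hpolar : ∀ v w, polar Q' v w = polar Q ((R : Matrix (Idx a b) (Idx a b) F) *ᵥ v)
      ((R : Matrix (Idx a b) (Idx a b) F) *ᵥ w) := by
    intro v w
    unfold polar
    rw [hval, hval, hval, Matrix.mulVec_add]
  have hctx : Ctx a b Q' := by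
    refine ⟨hea, heb, ?_, ?_, hn, ?_, ?_, ?_⟩
    · obtain ⟨k, hk⟩ := hea
      rcases Nat.eq_zero_or_pos a with h0 | h0
      · rw [h0] at hn; omega
      · omega
    · obtain ⟨k, hk⟩ := hea
      obtain ⟨l, hl⟩ := heb
      omega
    · rw [hQ']; exact Cfsg.Agent.Lib.Helper18.OSubLeaf.comp_nondeg Q R hnd
    · intro x y
      rw [hval, hR, kel_mulVec_pt, hpure]
    · intro x y x' y'
      rw [hpolar, hR, kel_mulVec_pt, kel_mulVec_pt, hpol, hP₁, hP₂]
  have hmax := hcore Q' hctx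
  have h1 := Cfsg.Agent.Lib.Helper25.TensLeaf.isMaximalIn_map' (MulAut.conj R) hmax
  have hRK : R ∈ KG a b F := by rw [hR]; exact kel_mem_KG _ _
  rw [Subgroup.map_inf _ _ _ (MulAut.conj R).injective, map_conj_of_mem _ hRK, hQ',
    Cfsg.Agent.Lib.Helper18.OSubLeaf.omegaGL_comp] at h1
  exact h1


end Cfsg.Agent.Lib.Helper25.SpTLeaf
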