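import Mathlib
import Cfsg.Prelude.Def_ClassicalGeometry
import Cfsg.Prelude.Def_GeometricClasses
import Cfsg.Agent.Lib.Helper25.TensDefs
import Cfsg.Agent.Lib.Helper2.SOTDefs
import Cfsg.Agent.Lib.Helper7.OTT
import Cfsg.Agent.Lib.Helper19.OSubBasic

/-!
S5681 / S5709 (`O_a ⊗ O_b` is maximal in `Ω_{ab}(q)`, `q` odd): the model and the shared definitions.

Model: `V = F^(Fin a × Fin b)`, pure tensors `pt x y` (helper25 `Tens`); two symmetric invertible Gram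
matrices `G1` (on `A = F^a`, the COEFFICIENT side) and `G2` (on `B = F^b`, the ROOT side: `5 ≤ b`, so `B`
has Witt index at least two); bilinear forms `fB G1`, `fB G2` (helper2 `SOT.fB`, generic in the
dimension) and `fV G1 G2` (Gram matrix `G1 ⊗ₖ G2`).  All three quadratic forms are helper7's
`OTT.QG K v = 2⁻¹ * (v ⬝ᵥ K *ᵥ v)`: `QA G1 = QG G1`, `QB G2 = QG G2`, `QV G1 G2 = QG (G1 ⊗ₖ G2)`, so that
helper19's long root elements `rt Q u v c : GL` (`OSub`) and helper5's `Ω`-library are available for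
`A`, `B` and `V` alike.  `OmV G1 G2 = omegaGL (QV G1 G2)`, `H = KG a b F ⊓ OmV G1 G2`.

* `kB G2 y z c = 1 ⊗ ρ_{y,z}(c)` (`ρ_{y,z}(c) = rt (QB G2) y z c`), the root groups `X_L` of `H`,
  `L = ⟨y,z⟩` a totally singular line of `B` (`TSL G2 y z`); `WL y z = A ⊗ L`;
* `rtV G1 G2 u w c = rt (QV G1 G2) u w c`, the long root elements of `Ω(V)`;
* `HasRtS` / `HasRtL` / `HasRt` : `M` contains a full root group of type (S) `T_{x⊗y, x⊗z}` resp. of
  type (L) `T_{c₁⊗y, c₂⊗y}` (the output of the local lemmas = the input of the growth part (G));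
* `Ctx`, `MCtx`; the interface `L1'`, `L2'` between the local part (LA') and the global part (GA').
Paper proof: `notes/S5681_plan.md`.
-/

set_option autoImplicit false
set_option linter.unusedSectionVars false
set_option linter.unusedVariables false

namespace Cfsg.Agent.Lib.Helper25.OT
open Matrix QuadraticMap
open Cfsg.Agent.Lib.Helper25.Tens Cfsg.Agent.Lib.Helper19.OSub Cfsg.Agent.Lib.Helper2.SOT
open Cfsg.Agent.Lib.Helper7.OTT
open scoped Kronecker

variable {F : Type*} [Field F] {a b : ℕ}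

/-! ### forms -/

/-- the form on `V = A ⊗ B` with Gram matrix `G1 ⊗ₖ G2` -/
def fV (G1 : Matrix (Fin a) (Fin a) F) (G2 : Matrix (Fin b) (Fin b) F) (v w : Idx a b → F) : F :=
  v ⬝ᵥ ((G1 ⊗ₖ G2 : Matrix (Idx a b) (Idx a b) F) *ᵥ w)

/-- the quadratic form on `A` -/
noncomputable abbrev QA (G1 : Matrix (Fin a) (Fin a) F) : QuadraticForm F (Fin a → F) := QG G1

/-- the quadratic form on `B` -/
noncomputable abbrev QB (G2 : Matrix (Fin b) (Fin b) F) : QuadraticForm F (Fin b → F) := QG G2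

/-- the quadratic form on `V` -/
noncomputable abbrev QV (G1 : Matrix (Fin a) (Fin a) F) (G2 : Matrix (Fin b) (Fin b) F) :
    QuadraticForm F (Idx a b → F) := QG (G1 ⊗ₖ G2)

variable (G1 : Matrix (Fin a) (Fin a) F) (G2 : Matrix (Fin b) (Fin b) F)

lemma fV_add_left (v v' w : Idx a b → F) : fV G1 G2 (v + v') w = fV G1 G2 v w + fV G1 G2 v' w := by
  simp only [fV, add_dotProduct]

lemma fV_add_right (v w w' : Idx a b → F) : fV G1 G2 v (w + w') = fV G1 G2 v w + fV G1 G2 v w' := by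
  simp only [fV, Matrix.mulVec_add, dotProduct_add]

lemma fV_smul_left (c : F) (v w : Idx a b → F) : fV G1 G2 (c • v) w = c * fV G1 G2 v w := by
  simp only [fV, smul_dotProduct, smul_eq_mul]

lemma fV_smul_right (c : F) (v w : Idx a b → F) : fV G1 G2 v (c • w) = c * fV G1 G2 v w := by
  simp only [fV, Matrix.mulVec_smul, dotProduct_smul, smul_eq_mul]

lemma fV_neg_left (v w : Idx a b → F) : fV G1 G2 (-v) w = -fV G1 G2 v w := by
  simp only [fV, neg_dotProduct]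

lemma fV_neg_right (v w : Idx a b → F) : fV G1 G2 v (-w) = -fV G1 G2 v w := by
  simp only [fV, Matrix.mulVec_neg, dotProduct_neg]

lemma fV_sub_left (v v' w : Idx a b → F) : fV G1 G2 (v - v') w = fV G1 G2 v w - fV G1 G2 v' w := by
  simp only [fV, sub_dotProduct]

lemma fV_sub_right (v w w' : Idx a b → F) : fV G1 G2 v (w - w') = fV G1 G2 v w - fV G1 G2 v w' := by
  simp only [fV, Matrix.mulVec_sub, dotProduct_sub]

@[simp] lemma fV_zero_left (w : Idx a b → F) : fV G1 G2 0 w = 0 := by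
  simp only [fV, zero_dotProduct]

@[simp] lemma fV_zero_right (v : Idx a b → F) : fV G1 G2 v 0 = 0 := by
  simp only [fV, Matrix.mulVec_zero, dotProduct_zero]

/-- the form on pure tensors -/
lemma fV_pt (x x' : Fin a → F) (y y' : Fin b → F) :
    fV G1 G2 (pt x y) (pt x' y') = fB G1 x x' * fB G2 y y' := by
  unfold fV fB
  rw [kron_mulVec_pt, Cfsg.Agent.Lib.Helper7.SOTLeaf.pt_dot_pt]

/-- the Kronecker product of symmetric matrices is symmetric -/
lemma kron_symm {G1 : Matrix (Fin a) (Fin a) F} {G2 : Matrix (Fin b) (Fin b) F} (h1 : G1ᵀ = G1)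
    (h2 : G2ᵀ = G2) : (G1 ⊗ₖ G2 : Matrix (Idx a b) (Idx a b) F)ᵀ = G1 ⊗ₖ G2 := by
  rw [← Matrix.kroneckerMap_transpose, h1, h2]

lemma fV_comm {G1 : Matrix (Fin a) (Fin a) F} {G2 : Matrix (Fin b) (Fin b) F} (h1 : G1ᵀ = G1)
    (h2 : G2ᵀ = G2) (v w : Idx a b → F) : fV G1 G2 v w = fV G1 G2 w v := by
  unfold fV
  exact dot_mulVec_comm (kron_symm h1 h2) w v

lemma QV_apply (v : Idx a b → F) : QV G1 G2 v = (2 : F)⁻¹ * fV G1 G2 v v := QG_apply _ v

lemma QB_apply (y : Fin b → F) : QB G2 y = (2 : F)⁻¹ * fB G2 y y := QG_apply _ y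

lemma QA_apply (x : Fin a → F) : QA G1 x = (2 : F)⁻¹ * fB G1 x x := QG_apply _ x

lemma polar_QV {G1 : Matrix (Fin a) (Fin a) F} {G2 : Matrix (Fin b) (Fin b) F} (h1 : G1ᵀ = G1)
    (h2 : G2ᵀ = G2) (h : (2 : F) ≠ 0) (v w : Idx a b → F) :
    polar (QV G1 G2) v w = fV G1 G2 v w := polar_QG (kron_symm h1 h2) h v w

lemma polar_QB {G2 : Matrix (Fin b) (Fin b) F} (h2 : G2ᵀ = G2) (h : (2 : F) ≠ 0)
    (y z : Fin b → F) : polar (QB G2) y z = fB G2 y z := polar_QG h2 h y z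

lemma polar_QA {G1 : Matrix (Fin a) (Fin a) F} (h1 : G1ᵀ = G1) (h : (2 : F) ≠ 0)
    (x x' : Fin a → F) : polar (QA G1) x x' = fB G1 x x' := polar_QG h1 h x x'

lemma QV_pt (x : Fin a → F) (y : Fin b → F) :
    QV G1 G2 (pt x y) = (2 : F)⁻¹ * (fB G1 x x * fB G2 y y) := by
  rw [QV_apply, fV_pt]

lemma QB_eq_zero_iff (h : (2 : F) ≠ 0) (y : Fin b → F) : QB G2 y = 0 ↔ fB G2 y y = 0 := by
  rw [QB_apply]
  constructor
  · intro h0
    rcases mul_eq_zero.1 h0 with h1 | h1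
    · exact absurd (inv_eq_zero.1 h1) h
    · exact h1
  · intro h0
    rw [h0, mul_zero]

lemma QV_eq_zero_iff (h : (2 : F) ≠ 0) (v : Idx a b → F) : QV G1 G2 v = 0 ↔ fV G1 G2 v v = 0 := by
  rw [QV_apply]
  constructor
  · intro h0
    rcases mul_eq_zero.1 h0 with h1 | h1
    · exact absurd (inv_eq_zero.1 h1) h
    · exact h1
  · intro h0
    rw [h0, mul_zero]

/-! ### groups -/

/-- the isometry group of the model, in `GL` -/
noncomputable abbrev OV : Subgroup (GL (Idx a b) F) := Cfsg.isometryGroup F ⇑(QV G1 G2)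

/-- `Ω` of the model, in `GL` -/
noncomputable abbrev OmV : Subgroup (GL (Idx a b) F) := Cfsg.Geo.omegaGL ⇑(QV G1 G2)

lemma OmV_le_OV : OmV G1 G2 ≤ OV G1 G2 := omegaGL_le_iso

lemma mem_OV {g : GL (Idx a b) F} :
    g ∈ OV G1 G2 ↔ ∀ v, QV G1 G2 (mv g v) = QV G1 G2 v :=
  ⟨fun h v => h v v, fun h v _ => h v⟩

/-- isometries preserve `fV` -/
lemma fV_mv {G1 : Matrix (Fin a) (Fin a) F} {G2 : Matrix (Fin b) (Fin b) F} (h1 : G1ᵀ = G1)
    (h2 : G2ᵀ = G2) (h : (2 : F) ≠ 0) {g : GL (Idx a b) F} (hg : g ∈ OV G1 G2)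
    (v w : Idx a b → F) : fV G1 G2 (mv g v) (mv g w) = fV G1 G2 v w := by
  rw [← polar_QV h1 h2 h, ← polar_QV h1 h2 h]
  exact iso_polar hg v w

/-- an element of `GL` preserving `fV` is an isometry -/
lemma mem_OV_of_fV {g : GL (Idx a b) F}
    (hg : ∀ v w, fV G1 G2 (mv g v) (mv g w) = fV G1 G2 v w) : g ∈ OV G1 G2 := by
  rw [mem_OV]
  intro v
  rw [QV_apply, QV_apply, hg]

/-! ### the root elements -/

/-- the long root elements of `Ω(V)`: `v ↦ v + c (fV u v • w - fV w v • u)` for a totally singular pair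
`u, w` (and `1` otherwise) -/
noncomputable abbrev rtV (u w : Idx a b → F) (c : F) : GL (Idx a b) F := rt (QV G1 G2) u w c

/-- the long root elements `ρ_{y,z}(c)` of `Ω(B)` -/
noncomputable abbrev rhoB (y z : Fin b → F) (c : F) : GL (Fin b) F := rt (QB G2) y z c

/-- `1 ⊗ ρ_{y,z}(c)`: the root groups `X_L`, `L = ⟨y,z⟩`, of `H` -/
noncomputable def kB {a : ℕ} (y z : Fin b → F) (c : F) : GL (Idx a b) F :=
  kel (1 : GL (Fin a) F) (rhoB G2 y z c)

lemma kB_mem_KG {a : ℕ} (y z : Fin b → F) (c : F) : (kB G2 y z c : GL (Idx a b) F) ∈ KG a b F :=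
  kel_mem_KG _ _

/-- `y, z` span a totally singular line of `B` -/
structure TSL (y z : Fin b → F) : Prop where
  yy : fB G2 y y = 0
  zz : fB G2 z z = 0
  yz : fB G2 y z = 0
  li : LinearIndependent F ![y, z]

variable {G2} in
lemma TSL.Qy (h2 : (2 : F) ≠ 0) {y z : Fin b → F} (h : TSL G2 y z) : QB G2 y = 0 :=
  (QB_eq_zero_iff G2 h2 y).2 h.yy

variable {G2} in
lemma TSL.Qz (h2 : (2 : F) ≠ 0) {y z : Fin b → F} (h : TSL G2 y z) : QB G2 z = 0 :=
  (QB_eq_zero_iff G2 h2 z).2 h.zz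

variable {G2} in
/-- `ρ_{y,z}(c) v = v + c (fB y v • z - fB z v • y)` -/
lemma mv_rhoB (hs : G2ᵀ = G2) (h2 : (2 : F) ≠ 0) {y z : Fin b → F} (h : TSL G2 y z) (c : F)
    (v : Fin b → F) :
    mv (rhoB G2 y z c) v = v + c • (fB G2 y v • z - fB G2 z v • y) := by
  rw [mv_rt (h.Qy h2) (h.Qz h2) (by rw [polar_QB hs h2]; exact h.yz), polar_QB hs h2,
    polar_QB hs h2]

variable {G2} in
/-- `1 ⊗ ρ_{y,z}(c)` on pure tensors -/
lemma mv_kB_pt {a : ℕ} (hs : G2ᵀ = G2) (h2 : (2 : F) ≠ 0) {y z : Fin b → F} (h : TSL G2 y z)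
    (c : F) (x : Fin a → F) (v : Fin b → F) :
    mv (kB G2 y z c : GL (Idx a b) F) (pt x v) =
      pt x (v + c • (fB G2 y v • z - fB G2 z v • y)) := by
  unfold kB
  have := kel_mulVec_pt (1 : GL (Fin a) F) (rhoB G2 y z c) x v
  rw [Units.val_one, Matrix.one_mulVec] at this
  rw [← mv_rhoB hs h2 h c v]
  exact this

/-- `A ⊗ L`, `L = ⟨y, z⟩` -/
def WL {a : ℕ} (y z : Fin b → F) : Submodule F (Idx a b → F) :=
  Submodule.span F {v | ∃ x : Fin a → F, v = pt x y ∨ v = pt x z}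

lemma pt_left_mem_WL {a : ℕ} (x : Fin a → F) (y z : Fin b → F) :
    pt x y ∈ (WL y z : Submodule F (Idx a b → F)) :=
  Submodule.subset_span ⟨x, Or.inl rfl⟩

lemma pt_right_mem_WL {a : ℕ} (x : Fin a → F) (y z : Fin b → F) :
    pt x z ∈ (WL y z : Submodule F (Idx a b → F)) :=
  Submodule.subset_span ⟨x, Or.inr rfl⟩

lemma mem_WL_iff {a : ℕ} (y z : Fin b → F) (v : Idx a b → F) :
    v ∈ (WL y z : Submodule F (Idx a b → F)) ↔
      ∃ x₁ x₂ : Fin a → F, v = pt x₁ y + pt x₂ z := by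
  constructor
  · intro hv
    refine Submodule.span_induction ?_ ?_ ?_ ?_ hv
    · rintro w ⟨x, rfl | rfl⟩
      · exact ⟨x, 0, by rw [pt_zero_left, add_zero]⟩
      · exact ⟨0, x, by rw [pt_zero_left, zero_add]⟩
    · exact ⟨0, 0, by rw [pt_zero_left, pt_zero_left, add_zero]⟩
    · rintro v w _ _ ⟨x₁, x₂, rfl⟩ ⟨x₁', x₂', rfl⟩
      exact ⟨x₁ + x₁', x₂ + x₂', by rw [pt_add_left, pt_add_left]; abel⟩
    · rintro c v _ ⟨x₁, x₂, rfl⟩
      exact ⟨c • x₁, c • x₂, by rw [pt_smul_left, pt_smul_left, smul_add]⟩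
  · rintro ⟨x₁, x₂, rfl⟩
    exact Submodule.add_mem _ (pt_left_mem_WL x₁ y z) (pt_right_mem_WL x₂ y z)

/-! ### the output of the local lemmas / the input of the growth part -/

/-- type (S): `M` contains the full root group `T_{x⊗y, x⊗z}`, `x ≠ 0` singular in `A`,
`⟨y,z⟩` a totally singular line of `B` -/
def HasRtS (M : Subgroup (GL (Idx a b) F)) : Prop :=
  ∃ (x : Fin a → F) (y z : Fin b → F), x ≠ 0 ∧ fB G1 x x = 0 ∧ TSL G2 y z ∧
    ∀ c : F, rtV G1 G2 (pt x y) (pt x z) c ∈ M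

/-- type (L): `M` contains the full root group `T_{c₁⊗y, c₂⊗y}`, `c₁, c₂` linearly independent in `A`,
`y ≠ 0` singular in `B` -/
def HasRtL (M : Subgroup (GL (Idx a b) F)) : Prop :=
  ∃ (c₁ c₂ : Fin a → F) (y : Fin b → F), LinearIndependent F ![c₁, c₂] ∧ y ≠ 0 ∧ fB G2 y y = 0 ∧
    ∀ c : F, rtV G1 G2 (pt c₁ y) (pt c₂ y) c ∈ M

/-- `M` contains a full root group of type (S) or (L) -/
def HasRt (M : Subgroup (GL (Idx a b) F)) : Prop := HasRtS G1 G2 M ∨ HasRtL G1 G2 M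

/-! ### contexts -/

/-- the context: `A` the coefficient side (`3 ≤ a`, not `(q,a) = (3,3)`), `B` the root side
(`5 ≤ b`, `b ∤ a`), `a` or `b` odd (`a` odd in S5681 and in the unswapped case of S5709; `a = 4`, `b` odd
in the swapped case of S5709), `G1`, `G2` symmetric invertible, `q` odd -/
structure Ctx [Fintype F] (a b : ℕ) (G1 : Matrix (Fin a) (Fin a) F)
    (G2 : Matrix (Fin b) (Fin b) F) : Prop where
  oab : Odd a ∨ Odd b
  ha : 3 ≤ a
  hb : 5 ≤ b
  ndvd : ¬ b ∣ a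
  symm1 : G1ᵀ = G1
  symm2 : G2ᵀ = G2
  nd1 : G1.det ≠ 0
  nd2 : G2.det ≠ 0
  two : (2 : F) ≠ 0
  hex : ¬ (Fintype.card F = 3 ∧ a = 3)

/-- the overgroup context `KG ⊓ Ω(V) ≤ M ≤ Ω(V)` -/
structure MCtx [Fintype F] (a b : ℕ) (G1 : Matrix (Fin a) (Fin a) F)
    (G2 : Matrix (Fin b) (Fin b) F) (M : Subgroup (GL (Idx a b) F)) : Prop
    extends Ctx a b G1 G2 where
  le : KG a b F ⊓ OmV G1 G2 ≤ M
  le_om : M ≤ OmV G1 G2

/-- (L1') elements of `M` stabilising a fibre subspace `A ⊗ L`, `L` a totally singular line of `B`, lie in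
the Kronecker group -/
def L1' (M : Subgroup (GL (Idx a b) F)) : Prop :=
  ∀ y z : Fin b → F, TSL G2 y z → ∀ g ∈ M,
    (∀ v ∈ (WL y z : Submodule F (Idx a b → F)), mv g v ∈ (WL y z : Submodule F (Idx a b → F))) →
    g ∈ KG a b F

/-- (L2') fusion control for the root groups `X_L = {kB y z c}` -/
def L2' (M : Subgroup (GL (Idx a b) F)) : Prop :=
  ∀ y z : Fin b → F, TSL G2 y z → ∀ m ∈ M,
    (∀ c : F, m⁻¹ * (kB G2 y z c : GL (Idx a b) F) * m ∈ KG a b F) → m ∈ KG a b F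

end Cfsg.Agent.Lib.Helper25.OT
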