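import Cfsg.Agent.Lib.Helper25.OmegaNonMax
import Cfsg.Agent.S0750

set_option autoImplicit false

/-!
# Transitivity of `Ω` on totally singular and on nondegenerate subspaces

Witt's extension theorem (helper5, S0750) gives an isometry; it is then corrected by an element of
the stabiliser of the target subspace so as to land in `Ω`.
-/

namespace Cfsg.Agent.Lib.Helper25.Fam

open Module QuadraticMap Matrix Cfsg.Agent.Lib.Helper25.MaxTS Cfsg.Agent.Lib.Helper25.Spin

section trans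

variable {ι : Type} [Fintype ι] [DecidableEq ι] {F : Type*} [Field F]
  (Q : QuadraticForm F (ι → F))

/-- Witt's theorem in matrix form. -/
theorem witt_matrix (hQ : (polarBilin Q).Nondegenerate) (X Y : Submodule F (ι → F))
    (φ : X ≃ₗ[F] Y) (hφ : ∀ x : X, Q (φ x : ι → F) = Q (x : ι → F)) :
    ∃ g : ↥(Cfsg.isometryGroup F ⇑Q),
      X.map ((CD.toOG Q g : (ι → F) ≃ₗ[F] (ι → F)) : (ι → F) →ₗ[F] (ι → F)) = Y := by
  obtain ⟨ρ, hρ', hρφ⟩ := Cfsg.Agent.S0750.S0750aux.main Q hQ X Y φ hφ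
  have hρ : ρ ∈ CD.OG Q := hρ'
  refine ⟨CD.ofOG Q ρ hρ, ?_⟩
  rw [CD.toOG_ofOG]
  ext y
  constructor
  · rintro ⟨x, hx, rfl⟩
    show ρ x ∈ Y
    rw [hρφ ⟨x, hx⟩]
    exact (φ ⟨x, hx⟩).2
  · intro hy
    refine ⟨(φ.symm ⟨y, hy⟩ : ι → F), (φ.symm ⟨y, hy⟩).2, ?_⟩
    show ρ (φ.symm ⟨y, hy⟩ : ι → F) = y
    rw [hρφ, LinearEquiv.apply_symm_apply]

/-- The stabiliser of a subspace in the isometry group. -/
def stabSub (W : Submodule F (ι → F)) : Subgroup ↥(Cfsg.isometryGroup F ⇑Q) :=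
  (Cfsg.Geo.subspaceStabilizer W).comap (Cfsg.isometryGroup F ⇑Q).subtype

theorem mem_stabSub {W : Submodule F (ι → F)} {g : ↥(Cfsg.isometryGroup F ⇑Q)} :
    g ∈ stabSub Q W ↔
      W.map ((CD.toOG Q g : (ι → F) ≃ₗ[F] (ι → F)) : (ι → F) →ₗ[F] (ι → F)) = W := by
  unfold stabSub
  rw [Subgroup.mem_comap]
  exact coe_mem_subspaceStabilizer_iff_map Q

theorem mem_stabSub_of_le {W : Submodule F (ι → F)} {g : ↥(Cfsg.isometryGroup F ⇑Q)}
    (h : ∀ w ∈ W, CD.toOG Q g w ∈ W) : g ∈ stabSub Q W := by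
  rw [mem_stabSub]
  exact map_eq_of_le _ h

variable [Fintype F]

/-- Correcting an isometry into `Ω` by an element of a subgroup containing elements of all
classes modulo `Ω`. -/
theorem exists_adjust (hQ : (polarBilin Q).Nondegenerate)
    (hex : Fintype.card F ≠ 2 ∨ Fintype.card ι ≠ 4)
    (A : Subgroup ↥(Cfsg.isometryGroup F ⇑Q)) {as : List (ι → F)} (has : ∀ v ∈ as, Q v ≠ 0)
    (hA1 : wordG Q as ∈ A) (hodd : Odd as.length)
    (hB : (2 : F) ≠ 0 → ∃ bs : List (ι → F), (∀ v ∈ bs, Q v ≠ 0) ∧ wordG Q bs ∈ A ∧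
      Even bs.length ∧ ¬ IsSquare (normProd Q bs))
    (g : ↥(Cfsg.isometryGroup F ⇑Q)) : ∃ h ∈ A, h * g ∈ Cfsg.Omega F ⇑Q := by
  obtain ⟨vs, hvs, rfl⟩ := exists_word' Q hQ hex g
  -- first fix the parity
  obtain ⟨p, hp, hpA, hpev⟩ : ∃ p : List (ι → F), (∀ v ∈ p, Q v ≠ 0) ∧ wordG Q p ∈ A ∧
      Even (p ++ vs).length := by
    by_cases hev : Even vs.length
    · exact ⟨[], by simp, by rw [wordG_nil]; exact one_mem _, by simpa using hev⟩
    · rw [Nat.not_even_iff_odd] at hev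
      refine ⟨as, has, hA1, ?_⟩
      rw [List.length_append]
      exact hodd.add_odd hev
  have hws : ∀ v ∈ p ++ vs, Q v ≠ 0 := by
    intro v hv
    rcases List.mem_append.1 hv with h | h
    · exact hp v h
    · exact hvs v h
  by_cases hsq : IsSquare (normProd Q (p ++ vs))
  · refine ⟨wordG Q p, hpA, ?_⟩
    rw [← wordG_append, mem_omega_iff' Q hQ hex hws]
    exact ⟨hpev, hsq⟩
  · have h2 : (2 : F) ≠ 0 := by
      intro h2
      apply hsq
      have : CharP F 2 := CharTwo.of_one_ne_zero_of_two_eq_zero one_ne_zero h2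
      exact FiniteField.isSquare_of_char_two (ringChar.eq F 2) _
    obtain ⟨bs, hbs, hbA, hbev, hbns⟩ := hB h2
    refine ⟨wordG Q bs * wordG Q p, mul_mem hbA hpA, ?_⟩
    rw [mul_assoc, ← wordG_append, ← wordG_append]
    have hall : ∀ v ∈ bs ++ (p ++ vs), Q v ≠ 0 := by
      intro v hv
      rcases List.mem_append.1 hv with h | h
      · exact hbs v h
      · exact hws v h
    rw [mem_omega_iff' Q hQ hex hall]
    refine ⟨?_, ?_⟩
    · rw [List.length_append]
      exact hbev.add hpev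
    · rw [normProd_append, isSquare_mul_iff (normProd_ne_zero Q hbs) (normProd_ne_zero Q hws)]
      exact ⟨fun h => absurd h hbns, fun h => absurd h hsq⟩

/-- `Ω` is transitive on the totally singular subspaces of a given dimension `k < n/2`. -/
theorem omega_trans_ts (hQ : (polarBilin Q).Nondegenerate)
    (hex : Fintype.card F ≠ 2 ∨ Fintype.card ι ≠ 4) {U W : Submodule F (ι → F)} {k : ℕ}
    (hk : 2 * k < Fintype.card ι) (hU : finrank F U = k) (hW : finrank F W = k)
    (hU0 : TS Q U) (hW0 : TS Q W) :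
    ∃ g : ↥(Cfsg.isometryGroup F ⇑Q), g ∈ Cfsg.Omega F ⇑Q ∧
      U.map ((CD.toOG Q g : (ι → F) ≃ₗ[F] (ι → F)) : (ι → F) →ₗ[F] (ι → F)) = W := by
  have hn : finrank F (ι → F) = Fintype.card ι := Module.finrank_fintype_fun_eq_card F
  by_cases hk0 : k = 0
  · subst hk0
    have hU' : U = ⊥ := Submodule.finrank_eq_zero.1 hU
    have hW' : W = ⊥ := Submodule.finrank_eq_zero.1 hW
    refine ⟨1, one_mem _, ?_⟩
    rw [hU', hW', Submodule.map_bot]
  obtain ⟨g₀, hg₀⟩ := witt_matrix Q hQ U W (LinearEquiv.ofFinrankEq U W (hU.trans hW.symm))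
    (fun x => by rw [hU0 x x.2, hW0 _ (Subtype.mem _)])
  obtain ⟨v, hvW, hv0⟩ : ∃ v ∈ perp Q W, Q v ≠ 0 := by
    by_contra hcon
    push Not at hcon
    have hts : TS Q (perp Q W) := hcon
    have h1 := Submodule.finrank_mono hts.le_perp
    rw [perp_perp hQ, finrank_perp hQ, hW, hn] at h1
    omega
  have hvA : wordG Q [v] ∈ stabSub Q W := by
    rw [wordG_singleton]
    apply mem_stabSub_of_le
    intro w hw
    rw [CD.toOG_reflM, CD.reflE_of_perp Q (by rw [polar_comm]; exact (mem_perp.1 hvW) w hw)]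
    exact hw
  have hB : (2 : F) ≠ 0 → ∃ bs : List (ι → F), (∀ v ∈ bs, Q v ≠ 0) ∧
      wordG Q bs ∈ stabSub Q W ∧ Even bs.length ∧ ¬ IsSquare (normProd Q bs) := by
    intro h2
    obtain ⟨ν, hν⟩ := FiniteField.exists_nonsquare (ringChar_ne_two h2)
    have hν0 : ν ≠ 0 := by
      rintro rfl
      exact hν ⟨0, by simp⟩
    obtain ⟨e, heW, he0⟩ : ∃ e ∈ W, e ≠ 0 := by
      have hpos : 0 < finrank F W := by omega
      obtain ⟨x, hx⟩ := Module.finrank_pos_iff_exists_ne_zero.1 hpos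
      exact ⟨x, x.2, fun h => hx (Subtype.ext h)⟩
    have hQe : Q e = 0 := hW0 e heW
    obtain ⟨f, hQf, hef⟩ := exists_sing_partner Q hQ he0 hQe
    have hQa : Q (e + f) = 1 := by
      rw [Q_add, hQe, hQf, hef]
      ring
    have hQb : Q (e + ν • f) = ν := by
      rw [Q_add_smul, hQe, hQf, hef]
      ring
    refine ⟨[e + f, e + ν • f], ?_, ?_, ⟨1, rfl⟩, ?_⟩
    · intro x hx
      simp only [List.mem_cons, List.not_mem_nil, or_false] at hx
      rcases hx with rfl | rfl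
      · rw [hQa]; exact one_ne_zero
      · rw [hQb]; exact hν0
    · apply mem_stabSub_of_le
      intro w hw
      have hew : polar Q e w = 0 := hW0.polar_eq_zero heW hw
      have key : CD.toOG Q (wordG Q [e + f, e + ν • f]) w =
          w - (polar Q f w * (1 - ν)) • e := by
        rw [toOG_wordG, wordProd_cons, wordProd_cons, wordProd_nil, mul_one,
          LinearEquiv.mul_apply, CD.reflE_apply Q (e + ν • f), hQb, CD.reflE_apply, hQa]
        simp only [polar_sub_right, polar_smul_right, polar_smul_left, polar_add_left,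
          polar_add_right, MaxTS.polar_self, smul_eq_mul, hQe, hQf, hef, hew,
          polar_comm Q f e]
        generalize polar Q f w = t
        match_scalars <;> field_simp <;> ring
      rw [key]
      exact W.sub_mem hw (W.smul_mem _ heW)
    · rw [normProd_cons, normProd_cons, normProd_nil, hQa, hQb]
      simpa using hν
  obtain ⟨h, hhA, hhΩ⟩ := exists_adjust Q hQ hex (stabSub Q W) (as := [v])
    (by
      intro x hx
      rw [List.mem_singleton] at hx
      rw [hx]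
      exact hv0) hvA ⟨0, rfl⟩ hB g₀
  refine ⟨h * g₀, hhΩ, ?_⟩
  rw [map_mul, map_mul_equiv, hg₀]
  exact (mem_stabSub Q).1 hhA

omit [Fintype F] in
theorem refl_mem_stab {W : Submodule F (ι → F)} {v : ι → F} (hv : v ∈ W ∨ v ∈ perp Q W) :
    CD.reflM Q v ∈ stabSub Q W := by
  apply mem_stabSub_of_le
  intro w hw
  rw [CD.toOG_reflM]
  rcases hv with hv | hv
  · rw [CD.reflE_apply]
    exact W.sub_mem hw (W.smul_mem _ hv)
  · rw [CD.reflE_of_perp Q (by rw [polar_comm]; exact (mem_perp.1 hv) w hw)]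
    exact hw

omit [Fintype ι] [DecidableEq ι] [Fintype F] in
/-- The restriction of `Q` to a subspace meeting its orthogonal complement trivially is
nondegenerate. -/
theorem nondeg_of_inf_perp {Z : Submodule F (ι → F)} (hZ : Z ⊓ perp Q Z = ⊥) :
    (polarBilin (CD.QR Q Z)).Nondegenerate := by
  have hsep : ∀ z : Z, (∀ z' : Z, polar Q (z : ι → F) (z' : ι → F) = 0) → z = 0 := by
    intro z hz
    have h1 : (z : ι → F) ∈ Z ⊓ perp Q Z := by
      refine Submodule.mem_inf.2 ⟨z.2, ?_⟩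
      rw [mem_perp]
      intro u hu
      rw [polar_comm]
      exact hz ⟨u, hu⟩
    rw [hZ] at h1
    exact Subtype.ext ((Submodule.mem_bot F).1 h1)
  constructor
  · intro z hz
    apply hsep z
    intro z'
    have := hz z'
    rwa [polarBilin_apply_apply, CD.polar_QR] at this
  · intro z hz
    apply hsep z
    intro z'
    have := hz z'
    rwa [polarBilin_apply_apply, CD.polar_QR, polar_comm] at this

/-- `Ω` is transitive on the nondegenerate subspaces of a given isometry type (dimension at least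
three). -/
theorem omega_trans_nondeg (hQ : (polarBilin Q).Nondegenerate) (hn : 3 ≤ Fintype.card ι)
    (hex : Fintype.card F ≠ 2 ∨ Fintype.card ι ≠ 4) {U W : Submodule F (ι → F)}
    (hW : W ⊓ perp Q W = ⊥) (e : U ≃ₗ[F] W)
    (he : ∀ u : U, Q (e u : ι → F) = Q (u : ι → F)) :
    ∃ g : ↥(Cfsg.isometryGroup F ⇑Q), g ∈ Cfsg.Omega F ⇑Q ∧
      U.map ((CD.toOG Q g : (ι → F) ≃ₗ[F] (ι → F)) : (ι → F) →ₗ[F] (ι → F)) = W := by
  have hcard : finrank F (ι → F) = Fintype.card ι := Module.finrank_fintype_fun_eq_card F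
  obtain ⟨g₀, hg₀⟩ := witt_matrix Q hQ U W e he
  obtain ⟨Z, hZ2, hZnd, hZstab⟩ : ∃ Z : Submodule F (ι → F), 2 ≤ finrank F Z ∧
      Z ⊓ perp Q Z = ⊥ ∧ ∀ v ∈ Z, v ∈ W ∨ v ∈ perp Q W := by
    by_cases h2 : 2 ≤ finrank F W
    · exact ⟨W, h2, hW, fun v hv => Or.inl hv⟩
    · refine ⟨perp Q W, ?_, ?_, fun v hv => Or.inr hv⟩
      · rw [finrank_perp hQ, hcard]
        omega
      · rw [perp_perp hQ, inf_comm]
        exact hW
  have hnd := nondeg_of_inf_perp Q hZnd
  obtain ⟨v₁, hv₁⟩ := exists_rep (CD.QR Q Z) hnd hZ2 1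
  have hv₁' : Q (v₁ : ι → F) = 1 := hv₁
  have hA1 : wordG Q [(v₁ : ι → F)] ∈ stabSub Q W := by
    rw [wordG_singleton]
    exact refl_mem_stab Q (hZstab _ v₁.2)
  have hB : (2 : F) ≠ 0 → ∃ bs : List (ι → F), (∀ v ∈ bs, Q v ≠ 0) ∧
      wordG Q bs ∈ stabSub Q W ∧ Even bs.length ∧ ¬ IsSquare (normProd Q bs) := by
    intro h2
    obtain ⟨ν, hν⟩ := FiniteField.exists_nonsquare (ringChar_ne_two h2)
    have hν0 : ν ≠ 0 := by
      rintro rfl
      exact hν ⟨0, by simp⟩
    obtain ⟨v₂, hv₂⟩ := exists_rep (CD.QR Q Z) hnd hZ2 ν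
    have hv₂' : Q (v₂ : ι → F) = ν := hv₂
    refine ⟨[(v₁ : ι → F), (v₂ : ι → F)], ?_, ?_, ⟨1, rfl⟩, ?_⟩
    · intro x hx
      simp only [List.mem_cons, List.not_mem_nil, or_false] at hx
      rcases hx with rfl | rfl
      · rw [hv₁']; exact one_ne_zero
      · rw [hv₂']; exact hν0
    · rw [wordG_cons, wordG_singleton]
      exact mul_mem (refl_mem_stab Q (hZstab _ v₁.2)) (refl_mem_stab Q (hZstab _ v₂.2))
    · rw [normProd_cons, normProd_cons, normProd_nil, hv₁', hv₂']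
      simpa using hν
  obtain ⟨h, hhA, hhΩ⟩ := exists_adjust Q hQ hex (stabSub Q W) (as := [(v₁ : ι → F)])
    (by
      intro x hx
      rw [List.mem_singleton] at hx
      rw [hx, hv₁']
      exact one_ne_zero) hA1 ⟨0, rfl⟩ hB g₀
  refine ⟨h * g₀, hhΩ, ?_⟩
  rw [map_mul, map_mul_equiv, hg₀]
  exact (mem_stabSub Q).1 hhA

end trans

end Cfsg.Agent.Lib.Helper25.Fam
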