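import Cfsg.Agent.Lib.Helper25.SpinMatrix
import Cfsg.Agent.Lib.Helper15.QuadClass

set_option autoImplicit false

/-!
# The index of `Ω` in the orthogonal group over a finite field of odd characteristic
-/

namespace Cfsg.Agent.Lib.Helper25.Spin

open Module QuadraticMap Matrix Cfsg.Agent.Lib.Helper25.CD

/-- A nondegenerate quadratic form in dimension at least two over a finite field represents every
scalar. -/
theorem exists_rep {F V : Type*} [Field F] [Finite F] [AddCommGroup V] [Module F V]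
    [FiniteDimensional F V] (Q : QuadraticForm F V) (hQ : (polarBilin Q).Nondegenerate)
    (h2 : 2 ≤ finrank F V) (c : F) : ∃ x, Q x = c := by
  let Q' : QuadraticForm F (V × F) := Q.prod ((-c) • (QuadraticMap.sq (R := F) (A := F)))
  have h3 : 3 ≤ finrank F (V × F) := by
    rw [finrank_prod, finrank_self]; omega
  obtain ⟨⟨w, t⟩, hne, hq⟩ := Cfsg.Agent.Lib.Helper15.exists_singular_of_three_le Q' h3
  have hq' : Q w + -(c * (t * t)) = 0 := by
    simpa [Q'] using hq
  by_cases ht : t = 0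
  · have hw0 : w ≠ 0 := by
      intro hw
      apply hne
      rw [hw, ht]
      rfl
    have hQw : Q w = 0 := by
      rw [ht] at hq'
      simpa using hq'
    obtain ⟨z, hz⟩ : ∃ z, polar Q w z ≠ 0 := by
      by_contra hcon
      push Not at hcon
      exact hw0 (hQ.1 w hcon)
    refine ⟨z + ((c - Q z) / polar Q w z) • w, ?_⟩
    rw [QuadraticMap.map_add (⇑Q), QuadraticMap.map_smul, hQw, polar_smul_right, polar_comm Q z w,
      smul_eq_mul, smul_eq_mul]
    field_simp
    ring
  · refine ⟨t⁻¹ • w, ?_⟩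
    rw [QuadraticMap.map_smul, smul_eq_mul]
    have : Q w = c * (t * t) := by linear_combination hq'
    rw [this]
    field_simp

section index

variable {ι : Type} [Fintype ι] [DecidableEq ι] {F : Type*} [Field F] [Fintype F]
  (Q : QuadraticForm F (ι → F))

theorem mem_special_iff (h2 : (2 : F) ≠ 0) {vs : List (ι → F)} (hvs : ∀ v ∈ vs, Q v ≠ 0) :
    wordG Q vs ∈ Cfsg.specialIsometryGroup F ⇑Q ↔ Even vs.length := by
  unfold Cfsg.specialIsometryGroup
  rw [MonoidHom.mem_ker, Units.ext_iff]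
  have e : ((Matrix.GeneralLinearGroup.det.comp (Cfsg.isometryGroup F ⇑Q).subtype)
      (wordG Q vs) : Fˣ).val = ((wordG Q vs : GL ι F) : Matrix ι ι F).det := rfl
  rw [e, det_wordG Q h2 hvs, Units.val_one]
  have hne : (-1 : F) ≠ 1 := by
    intro h
    apply h2
    linear_combination -h
  exact neg_one_pow_eq_one_iff_even hne

theorem special_index_two (h2 : (2 : F) ≠ 0) (hQ : (polarBilin Q).Nondegenerate)
    {u : ι → F} (hu : Q u ≠ 0) : (Cfsg.specialIsometryGroup F ⇑Q).index = 2 := by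
  rw [Subgroup.index_eq_two_iff]
  refine ⟨reflM Q u, fun b => ?_⟩
  obtain ⟨vs, hvs, rfl⟩ := exists_word Q h2 hQ b
  have e : wordG Q vs * reflM Q u = wordG Q (vs ++ [u]) := by
    rw [wordG_append, wordG_singleton]
  have hvs' : ∀ v ∈ vs ++ [u], Q v ≠ 0 := by
    intro v hv
    rcases List.mem_append.1 hv with h | h
    · exact hvs v h
    · rw [List.mem_singleton] at h
      rw [h]; exact hu
  rw [e, mem_special_iff Q h2 hvs, mem_special_iff Q h2 hvs', List.length_append,
    List.length_singleton, Nat.even_add_one]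
  by_cases h : Even vs.length
  · exact Or.inr ⟨h, fun h' => h' h⟩
  · exact Or.inl ⟨h, h⟩

theorem omega_le_special (h2 : (2 : F) ≠ 0) (hQ : (polarBilin Q).Nondegenerate) :
    Cfsg.Omega F ⇑Q ≤ Cfsg.specialIsometryGroup F ⇑Q := by
  intro g hg
  rw [omega_eq_goodSub Q h2 hQ] at hg
  obtain ⟨vs, ⟨hvs, hev, -⟩, rfl⟩ := hg
  exact (mem_special_iff Q h2 hvs).2 hev

theorem omega_relIndex_two (h2 : (2 : F) ≠ 0) (hQ : (polarBilin Q).Nondegenerate)
    {u w : ι → F} (hu : Q u ≠ 0) (hw : Q w ≠ 0) (huw : ¬ IsSquare (Q u * Q w)) :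
    (Cfsg.Omega F ⇑Q).relIndex (Cfsg.specialIsometryGroup F ⇑Q) = 2 := by
  unfold Subgroup.relIndex
  rw [Subgroup.index_eq_two_iff]
  have hmem : wordG Q [u, w] ∈ Cfsg.specialIsometryGroup F ⇑Q := by
    rw [mem_special_iff Q h2]
    · exact ⟨1, rfl⟩
    · intro v hv
      simp only [List.mem_cons, List.not_mem_nil, or_false] at hv
      rcases hv with rfl | rfl
      · exact hu
      · exact hw
  refine ⟨⟨wordG Q [u, w], hmem⟩, fun b => ?_⟩
  obtain ⟨b, hb⟩ := b
  obtain ⟨vs, hvs, rfl⟩ := exists_word Q h2 hQ b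
  have hev := (mem_special_iff Q h2 hvs).1 hb
  rw [Subgroup.mem_subgroupOf, Subgroup.mem_subgroupOf]
  show Xor' (wordG Q vs * wordG Q [u, w] ∈ Cfsg.Omega F ⇑Q) (wordG Q vs ∈ Cfsg.Omega F ⇑Q)
  have hvs' : ∀ v ∈ vs ++ [u, w], Q v ≠ 0 := by
    intro v hv
    rcases List.mem_append.1 hv with h | h
    · exact hvs v h
    · simp only [List.mem_cons, List.not_mem_nil, or_false] at h
      rcases h with rfl | rfl
      · exact hu
      · exact hw
  rw [← wordG_append, mem_omega_iff Q h2 hQ hvs, mem_omega_iff Q h2 hQ hvs', normProd_append]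
  have e : normProd Q [u, w] = Q u * Q w := by
    rw [normProd_cons, normProd_cons, normProd_nil, mul_one]
  have hlen : Even (vs ++ [u, w]).length := by
    rw [List.length_append]
    exact hev.add ⟨1, rfl⟩
  rw [e, isSquare_mul_iff (normProd_ne_zero Q hvs) (mul_ne_zero hu hw)]
  by_cases h : IsSquare (normProd Q vs)
  · refine Or.inr ⟨⟨hev, h⟩, ?_⟩
    rintro ⟨-, h'⟩
    exact huw (h'.1 h)
  · refine Or.inl ⟨⟨hlen, ?_⟩, ?_⟩
    · exact ⟨fun h' => absurd h' h, fun h' => absurd h' huw⟩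
    · rintro ⟨-, h'⟩
      exact h h'

theorem omega_index_four (h2 : (2 : F) ≠ 0) (hQ : (polarBilin Q).Nondegenerate)
    (hn : 2 ≤ Fintype.card ι) : (Cfsg.Omega F ⇑Q).index = 4 := by
  have hfin : 2 ≤ finrank F (ι → F) := by
    rw [Module.finrank_fintype_fun_eq_card]; exact hn
  obtain ⟨u, hu⟩ := exists_rep Q hQ hfin 1
  obtain ⟨a, ha⟩ := FiniteField.exists_nonsquare (ringChar_ne_two h2)
  obtain ⟨w, hw⟩ := exists_rep Q hQ hfin a
  have ha0 : a ≠ 0 := by
    rintro rfl
    exact ha ⟨0, by simp⟩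
  have hu0 : Q u ≠ 0 := by rw [hu]; exact one_ne_zero
  have hw0 : Q w ≠ 0 := by rw [hw]; exact ha0
  have h3 := Subgroup.relIndex_mul_index (omega_le_special Q h2 hQ)
  rw [special_index_two Q h2 hQ hu0,
    omega_relIndex_two Q h2 hQ hu0 hw0 (by rw [hu, hw, one_mul]; exact ha)] at h3
  exact h3.symm

end index

end Cfsg.Agent.Lib.Helper25.Spin
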