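import Cfsg.Agent.Lib.Helper25.Siegel
import Cfsg.Agent.Lib.Helper25.OrthGeom

set_option autoImplicit false

/-!
# Long root elements: commutator relations, generation of `Ω` in all characteristics, perfectness
-/

namespace Cfsg.Agent.Lib.Helper25.Siegel

open Module QuadraticMap Matrix Cfsg.Agent.Lib.Helper25.CD Cfsg.Agent.Lib.Helper25.Spin
  Cfsg.Agent.Lib.Helper15

open scoped commutatorElement

section general

variable {F : Type*} [Field F] {V : Type*} [AddCommGroup V] [Module F V] (Q : QuadraticForm F V)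

/-- Root elements with the same singular centre commute. -/
theorem siegF_comm {p v v' : V} (hp : Q p = 0) (hpv : polar Q p v = 0) (hpv' : polar Q p v' = 0)
    (c c' : F) (x : V) :
    siegF Q p v c (siegF Q p v' c' x) = siegF Q p v' c' (siegF Q p v c x) := by
  unfold siegF
  simp only [polar_add_right, polar_smul_right, polar_sub_right, smul_eq_mul, hpv, hpv',
    polar_self'', hp, polar_comm Q v p, polar_comm Q v' p, polar_comm Q v' v]
  module

/-- The commutator relation `[x_{u,w}(a), x_{w',v}(b)] = x_{u,v}(-ab)`. -/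
theorem siegF_commutator {u v w w' : V} (hu : Q u = 0) (hv : Q v = 0) (hw : Q w = 0)
    (hw' : Q w' = 0) (huv : polar Q u v = 0) (huw : polar Q u w = 0) (hvw : polar Q v w = 0)
    (huw' : polar Q u w' = 0) (hvw' : polar Q v w' = 0) (hww' : polar Q w w' = 1) (a b : F)
    (x : V) :
    siegF Q u w a (siegF Q w' v b x) =
      siegF Q u v (-(a * b)) (siegF Q w' v b (siegF Q u w a x)) := by
  unfold siegF
  simp only [polar_add_right, polar_smul_right, polar_sub_right, smul_eq_mul, huv, huw, hvw,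
    huw', hvw', hww', polar_self'', hu, hv, hw, hw', polar_comm Q v u, polar_comm Q w u,
    polar_comm Q w v, polar_comm Q w' u, polar_comm Q w' v, polar_comm Q w' w]
  module

end general

section matrix

variable {ι : Type} [Fintype ι] [DecidableEq ι] {F : Type*} [Field F]
  (Q : QuadraticForm F (ι → F))

theorem siegG_comm {p v v' : ι → F} (hp : Q p = 0) (hv : Q v = 0) (hv' : Q v' = 0)
    (hpv : polar Q p v = 0) (hpv' : polar Q p v' = 0) (c c' : F) :
    siegG Q p v c hp hv hpv * siegG Q p v' c' hp hv' hpv' =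
      siegG Q p v' c' hp hv' hpv' * siegG Q p v c hp hv hpv := by
  apply toOG_injective
  ext1 x
  rw [map_mul, map_mul, LinearEquiv.mul_apply, LinearEquiv.mul_apply, toOG_siegG, toOG_siegG,
    toOG_siegG, toOG_siegG]
  exact siegF_comm Q hp hpv hpv' c c' x

theorem siegG_commutator {u v w w' : ι → F} (hu : Q u = 0) (hv : Q v = 0) (hw : Q w = 0)
    (hw' : Q w' = 0) (huv : polar Q u v = 0) (huw : polar Q u w = 0) (hvw : polar Q v w = 0)
    (huw' : polar Q u w' = 0) (hvw' : polar Q v w' = 0) (hww' : polar Q w w' = 1) (a b : F) :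
    ⁅siegG Q u w a hu hw huw, siegG Q w' v b hw' hv (by rw [polar_comm]; exact hvw')⁆ =
      siegG Q u v (-(a * b)) hu hv huv := by
  have key : siegG Q u w a hu hw huw * siegG Q w' v b hw' hv (by rw [polar_comm]; exact hvw') =
      siegG Q u v (-(a * b)) hu hv huv * siegG Q w' v b hw' hv (by rw [polar_comm]; exact hvw') *
        siegG Q u w a hu hw huw := by
    apply toOG_injective
    ext1 x
    rw [map_mul, map_mul, map_mul, LinearEquiv.mul_apply, LinearEquiv.mul_apply,
      LinearEquiv.mul_apply, toOG_siegG, toOG_siegG, toOG_siegG, toOG_siegG, toOG_siegG]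
    exact siegF_commutator Q hu hv hw hw' huv huw hvw huw' hvw' hww' a b x
  rw [commutatorElement_def, key]
  group

variable [Fintype F]

/-- Long root elements lie in `Ω` (all characteristics, `n ≥ 7`). -/
theorem siegG_mem_omega (hQ : (polarBilin Q).Nondegenerate) (hn : 7 ≤ Fintype.card ι)
    (u v : ι → F) (c : F) (hu : Q u = 0) (hv : Q v = 0) (huv : polar Q u v = 0) :
    siegG Q u v c hu hv huv ∈ Cfsg.Omega F ⇑Q := by
  have hfr : 7 ≤ finrank F (ι → F) := by
    rw [Module.finrank_fintype_fun_eq_card]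
    exact hn
  obtain ⟨w, w', hw, hw', hww', huw, hvw, huw', hvw'⟩ :=
    OGeom.exists_hyp_perp Q hQ hfr hu hv huv
  have h := siegG_commutator Q hu hv hw hw' huv huw hvw huw' hvw' hww' (-c) 1
  have hc : -(-c * 1) = c := by ring
  rw [hc] at h
  unfold Cfsg.Omega
  rw [commutator_def, ← h]
  exact Subgroup.commutator_mem_commutator (Subgroup.mem_top _) (Subgroup.mem_top _)

theorem rootSet_le_omega' (hQ : (polarBilin Q).Nondegenerate) (hn : 7 ≤ Fintype.card ι) :
    Subgroup.closure (rootSet Q) ≤ Cfsg.Omega F ⇑Q := by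
  rw [Subgroup.closure_le]
  rintro g ⟨u, v, c, hu, hv, huv, hg⟩
  rw [eq_siegG_of_coe Q hu hv huv hg]
  exact siegG_mem_omega Q hQ hn u v c hu hv huv

/-- `r_a r_{a+s}` is a product of two long root elements (all characteristics). -/
theorem pair_mem_root' (hQ : (polarBilin Q).Nondegenerate)
    (hn : 5 ≤ Fintype.card ι) {a s : ι → F} (ha : Q a ≠ 0) (hs : Q s = 0)
    (has : polar Q a s = 0) :
    reflM Q a * reflM Q (a + s) ∈ Subgroup.closure (rootSet Q) := by
  by_cases hs0 : s = 0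
  · rw [hs0, add_zero, reflM_mul_self]
    exact one_mem _
  obtain ⟨s', hQs', hss'⟩ := Fam.exists_sing_partner Q hQ hs0 hs
  obtain ⟨k, hk⟩ : ∃ k, k = Q a := ⟨_, rfl⟩
  rw [← hk] at ha
  have hnd := perpPair_nd Q ⊤ (ndOn_top Q hQ) (e := s) (f := s') Submodule.mem_top
    Submodule.mem_top hs hQs' hss'
  have hfr := perpPair_finrank Q ⊤ (e := s) (f := s') Submodule.mem_top Submodule.mem_top hs
    hQs' hss'
  rw [finrank_top, Module.finrank_fintype_fun_eq_card] at hfr
  obtain ⟨a', ha'⟩ : ∃ a', a' = a - polar Q a s' • s := ⟨_, rfl⟩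
  have ha'W : a' ∈ perpPair Q ⊤ s s' := by
    rw [mem_perpPair]
    refine ⟨Submodule.mem_top, ?_, ?_⟩
    · rw [ha', polar_sub_right, polar_smul_right, polar_comm Q s a, has, polar_self'', hs]
      simp
    · rw [ha', polar_sub_right, polar_smul_right, polar_comm Q s' a, polar_comm Q s' s, hss']
      simp
  have hQa' : Q a' = k := by
    rw [ha', sub_eq_add_neg, ← neg_smul, MaxTS.Q_add_smul, hs, has, ← hk]
    ring
  have ha'0 : a' ≠ 0 := by
    intro h
    rw [h, map_zero] at hQa'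
    exact ha hQa'.symm
  obtain ⟨z, hzW, hQz, haz⟩ := OGeom.exists_sing_not_perp Q hnd (by omega) ha'W ha'0
  rw [mem_perpPair] at hzW
  obtain ⟨-, hsz, hs'z⟩ := hzW
  have haz' : polar Q a z ≠ 0 := by
    have e : polar Q a z = polar Q a' z := by
      rw [ha', polar_sub_left, polar_smul_left, hsz]
      simp
    rw [e]
    exact haz
  obtain ⟨v₁, hv₁⟩ : ∃ v₁, v₁ = (k / polar Q a z) • z := ⟨_, rfl⟩
  obtain ⟨v₂, hv₂⟩ : ∃ v₂, v₂ = a - v₁ := ⟨_, rfl⟩
  have hQv₁ : Q v₁ = 0 := by
    rw [hv₁, QuadraticMap.map_smul, hQz, smul_zero]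
  have hav₁ : polar Q a v₁ = k := by
    rw [hv₁, polar_smul_right, smul_eq_mul]
    field_simp
  have hsv₁ : polar Q s v₁ = 0 := by
    rw [hv₁, polar_smul_right, hsz, smul_zero]
  have hQv₂ : Q v₂ = 0 := by
    rw [hv₂, sub_eq_add_neg, QuadraticMap.map_add (⇑Q), QuadraticMap.map_neg, polar_neg_right,
      hQv₁, hav₁, ← hk]
    ring
  have hsv₂ : polar Q s v₂ = 0 := by
    rw [hv₂, polar_sub_right, polar_comm Q s a, has, hsv₁, sub_zero]
  have hv₁₂ : polar Q v₁ v₂ = k := by
    rw [hv₂, polar_sub_right, polar_comm Q v₁ a, hav₁, polar_self'', hQv₁]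
    ring
  have hav : a = v₁ + v₂ := by
    rw [hv₂]
    abel
  have e : reflM Q a * reflM Q (a + s) =
      siegG Q s v₁ k⁻¹ hs hQv₁ hsv₁ * siegG Q s v₂ k⁻¹ hs hQv₂ hsv₂ := by
    apply toOG_injective
    ext1 x
    rw [map_mul, map_mul, toOG_reflM, toOG_reflM, LinearEquiv.mul_apply, LinearEquiv.mul_apply,
      toOG_siegG, toOG_siegG, hav]
    exact refl_pair_eq_sieg Q ha hs hQv₁ hQv₂ hsv₁ hsv₂ hv₁₂ x
  rw [e]
  exact mul_mem (Subgroup.subset_closure (siegG_mem Q _ _ _ hs hQv₁ hsv₁))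
    (Subgroup.subset_closure (siegG_mem Q _ _ _ hs hQv₂ hsv₂))

/-- `r_a r_b ∈ ⟨root elements⟩` when `Q a = Q b ≠ 0` and `b - a` is singular. -/
theorem pair_same_norm_aux' (hQ : (polarBilin Q).Nondegenerate)
    (hn : 5 ≤ Fintype.card ι) {a b : ι → F} {c : F} (hc : c ≠ 0) (ha : Q a = c) (hb : Q b = c)
    (hab : Q (b - a) = 0) :
    reflM Q a * reflM Q b ∈ Subgroup.closure (rootSet Q) := by
  have hpol : polar Q a b = 2 * c := by
    have e : Q (b - a) = Q b + Q a - polar Q a b := by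
      rw [sub_eq_add_neg, QuadraticMap.map_add (⇑Q), QuadraticMap.map_neg, polar_neg_right,
        polar_comm Q b a]
      ring
    rw [hab, ha, hb] at e
    linear_combination e
  have hs : polar Q a (b - a) = 0 := by
    rw [polar_sub_right, polar_self'', hpol, ha]
    ring
  have h := pair_mem_root' Q hQ hn (a := a) (s := b - a) (by rw [ha]; exact hc) hab hs
  rwa [add_sub_cancel] at h

/-- In characteristic two, `r_a r_b ∈ ⟨root elements⟩` when `Q a = Q b ≠ 0`. -/
theorem pair_same_norm_even (h2 : (2 : F) = 0) (hQ : (polarBilin Q).Nondegenerate)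
    (hn : 5 ≤ Fintype.card ι) {a b : ι → F} {c : F} (hc : c ≠ 0) (ha : Q a = c) (hb : Q b = c) :
    reflM Q a * reflM Q b ∈ Subgroup.closure (rootSet Q) := by
  have hsub : ∀ x y : ι → F, Q x = c → Q y = c → polar Q x y = 0 → Q (y - x) = 0 := by
    intro x y hx hy hxy
    rw [sub_eq_add_neg, QuadraticMap.map_add (⇑Q), QuadraticMap.map_neg, polar_neg_right,
      polar_comm Q y x, hxy, hx, hy]
    linear_combination c * h2
  by_cases h : polar Q a b = 0
  · exact pair_same_norm_aux' Q hQ hn hc ha hb (hsub a b ha hb h)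
  obtain ⟨Z, hZ⟩ : ∃ Z, Z = Submodule.span F ({a, b} : Set (ι → F)) := ⟨_, rfl⟩
  have haZ : a ∈ Z := by rw [hZ]; exact Submodule.subset_span (by simp)
  have hbZ : b ∈ Z := by rw [hZ]; exact Submodule.subset_span (by simp)
  have hself : ∀ x : ι → F, polar Q x x = 0 := by
    intro x
    rw [polar_self'', h2, zero_mul]
  have hZperp : Z ⊓ MaxTS.perp Q Z = ⊥ := by
    rw [eq_bot_iff]
    intro x hx
    obtain ⟨hxZ, hxp⟩ := Submodule.mem_inf.1 hx
    rw [hZ] at hxZ
    obtain ⟨α, β, rfl⟩ := Submodule.mem_span_pair.1 hxZ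
    have h1 := MaxTS.mem_perp.1 hxp a haZ
    have h2' := MaxTS.mem_perp.1 hxp b hbZ
    rw [polar_add_right, polar_smul_right, polar_smul_right, hself, smul_eq_mul, smul_eq_mul,
      mul_zero, zero_add] at h1
    rw [polar_add_right, polar_smul_right, polar_smul_right, hself, smul_eq_mul, smul_eq_mul,
      mul_zero, add_zero, polar_comm Q b a] at h2'
    have hβ : β = 0 := (mul_eq_zero.1 h1).resolve_right h
    have hα : α = 0 := (mul_eq_zero.1 h2').resolve_right h
    rw [hα, hβ]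
    simp
  have hnd : NdOn Q (MaxTS.perp Q Z) := by
    intro x hx hall
    have hxZ : x ∈ MaxTS.perp Q (MaxTS.perp Q Z) := by
      rw [MaxTS.mem_perp]
      intro y hy
      rw [polar_comm]
      exact hall y hy
    rw [MaxTS.perp_perp hQ] at hxZ
    have : x ∈ Z ⊓ MaxTS.perp Q Z := Submodule.mem_inf.2 ⟨hxZ, hx⟩
    rw [hZperp] at this
    exact (Submodule.mem_bot F).1 this
  have hfr : 2 ≤ finrank F (MaxTS.perp Q Z) := by
    rw [MaxTS.finrank_perp hQ, Module.finrank_fintype_fun_eq_card]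
    have := OGeom.finrank_span_pair_le (F := F) a b
    rw [← hZ] at this
    omega
  obtain ⟨x, hxW, hQx⟩ := OGeom.universal Q hnd hfr c
  have hax : polar Q a x = 0 := MaxTS.mem_perp.1 hxW a haZ
  have hbx : polar Q b x = 0 := MaxTS.mem_perp.1 hxW b hbZ
  have m1 := pair_same_norm_aux' Q hQ hn hc ha hQx (hsub a x ha hQx hax)
  have m2 := pair_same_norm_aux' Q hQ hn hc hQx hb (hsub x b hQx hb (by rw [polar_comm]; exact hbx))
  have e : reflM Q a * reflM Q b = (reflM Q a * reflM Q x) * (reflM Q x * reflM Q b) := by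
    rw [mul_assoc, ← mul_assoc (reflM Q x), reflM_mul_self, one_mul]
  rw [e]
  exact mul_mem m1 m2

/-- If the images of the reflections commute modulo the normal subgroup `S`, then `Ω ≤ S`. -/
theorem omega_le_of_comm (hQ : (polarBilin Q).Nondegenerate)
    (hex : Fintype.card F ≠ 2 ∨ Fintype.card ι ≠ 4)
    (S : Subgroup ↥(Cfsg.isometryGroup F ⇑Q)) [S.Normal]
    (hkey : ∀ a b : ι → F, Q a ≠ 0 → Q b ≠ 0 →
      (QuotientGroup.mk' S) (reflM Q a) * (QuotientGroup.mk' S) (reflM Q b) =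
      (QuotientGroup.mk' S) (reflM Q b) * (QuotientGroup.mk' S) (reflM Q a)) :
    Cfsg.Omega F ⇑Q ≤ S := by
  have hgen : Subgroup.closure ((QuotientGroup.mk' S) '' reflSet Q) = ⊤ := by
    rw [← MonoidHom.map_closure, reflSet_closure Q hQ hex,
      ← MonoidHom.range_eq_map, MonoidHom.range_eq_top]
    exact QuotientGroup.mk'_surjective S
  have hk : ∀ x ∈ (QuotientGroup.mk' S) '' reflSet Q, ∀ y ∈ (QuotientGroup.mk' S) '' reflSet Q,
      x * y = y * x := by
    rintro _ ⟨r, hr, rfl⟩ _ ⟨r', hr', rfl⟩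
    obtain ⟨u, hu, rfl⟩ := (mem_reflSet_iff Q r).1 hr
    obtain ⟨w, hw, rfl⟩ := (mem_reflSet_iff Q r').1 hr'
    exact hkey u w hu hw
  have hcomm : ∀ x y : ↥(Cfsg.isometryGroup F ⇑Q) ⧸ S, x * y = y * x := by
    intro x y
    have hcc := Subgroup.closure_le_centralizer_centralizer ((QuotientGroup.mk' S) '' reflSet Q)
    rw [hgen] at hcc
    exact Set.centralizer_centralizer_comm_of_comm hk x (hcc (Subgroup.mem_top x)) y
      (hcc (Subgroup.mem_top y))
  unfold Cfsg.Omega
  rw [commutator_def, Subgroup.commutator_le]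
  intro g _ h _
  rw [← QuotientGroup.eq_one_iff (N := S), commutatorElement_def]
  show (QuotientGroup.mk' S) (g * h * g⁻¹ * h⁻¹) = 1
  rw [map_mul, map_mul, map_mul, map_inv, map_inv, hcomm ((QuotientGroup.mk' S) g)]
  group

/-- `Ω ≤ ⟨root elements⟩` in characteristic two, `n ≥ 5`. -/
theorem omega_le_root_even (h2 : (2 : F) = 0) (hQ : (polarBilin Q).Nondegenerate)
    (hn : 5 ≤ Fintype.card ι) :
    Cfsg.Omega F ⇑Q ≤ Subgroup.closure (rootSet Q) := by
  haveI := rootSet_normal Q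
  obtain ⟨S, hS⟩ : ∃ S, S = Subgroup.closure (rootSet Q) := ⟨_, rfl⟩
  rw [← hS]
  haveI : S.Normal := by rw [hS]; infer_instance
  have hchar : ringChar F = 2 := by
    haveI : CharP F 2 := CharTwo.of_one_ne_zero_of_two_eq_zero one_ne_zero h2
    exact ringChar.eq F 2
  have hsame : ∀ a b : ι → F, Q a ≠ 0 → Q b = Q a →
      (QuotientGroup.mk' S) (reflM Q a) = (QuotientGroup.mk' S) (reflM Q b) := by
    intro a b ha hb
    have hm : reflM Q a * reflM Q b ∈ S := by
      rw [hS]
      exact pair_same_norm_even Q h2 hQ hn ha rfl hb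
    have h1 : (QuotientGroup.mk' S) (reflM Q a * reflM Q b) = 1 :=
      (QuotientGroup.eq_one_iff _).2 hm
    rw [map_mul] at h1
    have h2' : (QuotientGroup.mk' S) (reflM Q b) * (QuotientGroup.mk' S) (reflM Q b) = 1 := by
      rw [← map_mul, reflM_mul_self, map_one]
    calc (QuotientGroup.mk' S) (reflM Q a)
        = (QuotientGroup.mk' S) (reflM Q a) * ((QuotientGroup.mk' S) (reflM Q b) *
            (QuotientGroup.mk' S) (reflM Q b)) := by rw [h2', mul_one]
      _ = (QuotientGroup.mk' S) (reflM Q b) := by rw [← mul_assoc, h1, one_mul]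
  apply omega_le_of_comm Q hQ (Or.inr (by omega)) S
  intro a b ha hb
  obtain ⟨t, ht⟩ := FiniteField.isSquare_of_char_two hchar (Q a / Q b)
  have ht0 : t ≠ 0 := by
    rintro rfl
    rw [mul_zero] at ht
    exact (div_ne_zero ha hb) ht
  have hQtb : Q (t • b) = Q a := by
    rw [QuadraticMap.map_smul, smul_eq_mul, ← ht]
    field_simp
  have e : reflM Q b = reflM Q (t • b) := (ReflClass.reflM_smul Q ht0 b).symm
  rw [e, ← hsame a (t • b) ha hQtb]

/-- `Ω` is generated by the long root elements (`n ≥ 7`, all characteristics). -/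
theorem omega_eq_root' (hQ : (polarBilin Q).Nondegenerate) (hn : 7 ≤ Fintype.card ι) :
    Cfsg.Omega F ⇑Q = Subgroup.closure (rootSet Q) := by
  by_cases h2 : (2 : F) = 0
  · exact le_antisymm (omega_le_root_even Q h2 hQ (by omega)) (rootSet_le_omega' Q hQ hn)
  · exact omega_eq_root Q h2 hQ (by omega)

/-- `Ω` is perfect (`n ≥ 7`). -/
theorem omega_perfect (hQ : (polarBilin Q).Nondegenerate) (hn : 7 ≤ Fintype.card ι) :
    commutator ↥(Cfsg.Omega F ⇑Q) = ⊤ := by
  have hfr : 7 ≤ finrank F (ι → F) := by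
    rw [Module.finrank_fintype_fun_eq_card]
    exact hn
  have hroot : rootSet Q ⊆
      ((commutator ↥(Cfsg.Omega F ⇑Q)).map (Cfsg.Omega F ⇑Q).subtype :
        Set ↥(Cfsg.isometryGroup F ⇑Q)) := by
    rintro g ⟨u, v, c, hu, hv, huv, hg⟩
    rw [eq_siegG_of_coe Q hu hv huv hg]
    obtain ⟨w, w', hw, hw', hww', huw, hvw, huw', hvw'⟩ :=
      OGeom.exists_hyp_perp Q hQ hfr hu hv huv
    have h := siegG_commutator Q hu hv hw hw' huv huw hvw huw' hvw' hww' (-c) 1
    have hc : -(-c * 1) = c := by ring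
    rw [hc] at h
    refine ⟨⁅(⟨siegG Q u w (-c) hu hw huw, siegG_mem_omega Q hQ hn _ _ _ _ _ _⟩ :
        ↥(Cfsg.Omega F ⇑Q)),
      (⟨siegG Q w' v 1 hw' hv (by rw [polar_comm]; exact hvw'),
        siegG_mem_omega Q hQ hn _ _ _ _ _ _⟩ : ↥(Cfsg.Omega F ⇑Q))⁆, ?_, ?_⟩
    · rw [SetLike.mem_coe, commutator_def]
      exact Subgroup.commutator_mem_commutator (Subgroup.mem_top _) (Subgroup.mem_top _)
    · rw [map_commutatorElement]
      exact h
  rw [eq_top_iff]
  intro g _
  have hg : (g : ↥(Cfsg.isometryGroup F ⇑Q)) ∈ Subgroup.closure (rootSet Q) := by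
    rw [← omega_eq_root' Q hQ hn]
    exact g.2
  obtain ⟨g', hg', hgg'⟩ := (Subgroup.closure_le _).2 hroot hg
  have e : g' = g := Subtype.ext hgg'
  rw [← e]
  exact hg'

end matrix

end Cfsg.Agent.Lib.Helper25.Siegel
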