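/-
helper25 (S4861 market, planner helper12): two general tools for the leaves R1 / R2.

* `exists_hom_extension` : a linear character `lam` of a normal subgroup `K` with a complement `H` that
  fixes `lam` extends to the whole group, trivially on `H`.
* `exists_fixed_odd` : an involution of a finite type preserving a weight with odd total has a fixed
  point of odd weight.
-/
import Mathlib
import Cfsg.Agent.Lib.Helper1.ComplProj

set_option autoImplicit false

namespace Cfsg.Agent.Lib.Helper25.RealP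

open Cfsg.Agent.Lib.Helper1

/-- EXT: extension of an invariant linear character of a normal subgroup with a complement. -/
theorem exists_hom_extension {W : Type*} [Group W] (K H : Subgroup W) [hK : K.Normal]
    (hc : Subgroup.IsComplement' K H) (lam : K →* ℂˣ)
    (hinv : ∀ h ∈ H, ∀ k : K, lam ⟨h * k * h⁻¹, hK.conj_mem k k.2 h⟩ = lam k) :
    ∃ lam₀ : W →* ℂˣ, (∀ k : K, lam₀ k = lam k) ∧ ∀ h ∈ H, lam₀ h = 1 := by
  classical
  set π : W →* H := complProj hc with hπ
  have hmem : ∀ w : W, w * ((π w : H) : W)⁻¹ ∈ K := fun w => complProj_mul_inv_mem hc w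
  let f : W → ℂˣ := fun w => lam ⟨w * ((π w : H) : W)⁻¹, hmem w⟩
  have hf1 : f 1 = 1 := by
    show lam ⟨1 * ((π 1 : H) : W)⁻¹, hmem 1⟩ = 1
    have : (⟨1 * ((π 1 : H) : W)⁻¹, hmem 1⟩ : K) = 1 := by
      apply Subtype.ext
      simp
    rw [this, map_one]
  have hfmul : ∀ w w' : W, f (w * w') = f w * f w' := by
    intro w w'
    show lam ⟨(w * w') * ((π (w * w') : H) : W)⁻¹, hmem (w * w')⟩ =
      lam ⟨w * ((π w : H) : W)⁻¹, hmem w⟩ * lam ⟨w' * ((π w' : H) : W)⁻¹, hmem w'⟩
    rw [← hinv ((π w : H) : W) (π w).2 ⟨w' * ((π w' : H) : W)⁻¹, hmem w'⟩, ← map_mul]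
    congr 1
    apply Subtype.ext
    show (w * w') * ((π (w * w') : H) : W)⁻¹ =
      (w * ((π w : H) : W)⁻¹) * (((π w : H) : W) * (w' * ((π w' : H) : W)⁻¹) * ((π w : H) : W)⁻¹)
    rw [map_mul, Subgroup.coe_mul, mul_inv_rev]
    group
  refine ⟨⟨⟨f, hf1⟩, hfmul⟩, ?_, ?_⟩
  · intro k
    show lam ⟨(k : W) * ((π (k : W) : H) : W)⁻¹, hmem k⟩ = lam k
    congr 1
    apply Subtype.ext
    show (k : W) * ((π (k : W) : H) : W)⁻¹ = k
    rw [hπ, complProj_of_mem_left hc k.2]
    simp
  · intro h hh
    show lam ⟨h * ((π h : H) : W)⁻¹, hmem h⟩ = 1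
    have : (⟨h * ((π h : H) : W)⁻¹, hmem h⟩ : K) = 1 := by
      apply Subtype.ext
      show h * ((π h : H) : W)⁻¹ = 1
      rw [hπ, complProj_of_mem hc hh, mul_inv_cancel]
    rw [this, map_one]

/-- PAR: an involution preserving a weight of odd total has a fixed point of odd weight. -/
theorem exists_fixed_odd {α : Type*} [Fintype α] [DecidableEq α] (σ : α → α)
    (hσ : ∀ a, σ (σ a) = a) (f : α → ℕ) (hf : ∀ a, f (σ a) = f a)
    (hodd : Odd (∑ a, f a)) : ∃ a, σ a = a ∧ Odd (f a) := by
  by_contra hcon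
  push Not at hcon
  have h0 : ∑ a : α, ((f a : ℕ) : ZMod 2) = 0 := by
    apply Finset.sum_involution (fun a _ => σ a)
    · intro a _
      rw [hf a, ← two_mul]
      have : (2 : ZMod 2) = 0 := by decide
      rw [this, zero_mul]
    · intro a _ hne hfix
      have hno := hcon a hfix
      apply hne
      rw [Nat.not_odd_iff_even] at hno
      exact (ZMod.natCast_eq_zero_iff_even).mpr hno
    · intro a _
      exact Finset.mem_univ _
    · intro a _
      exact hσ a
  rw [← Nat.cast_sum] at h0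
  have heven : Even (∑ a, f a) := (ZMod.natCast_eq_zero_iff_even).mp h0
  exact (Nat.not_even_iff_odd.mpr hodd) heven

end Cfsg.Agent.Lib.Helper25.RealP
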