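import Cfsg.Agent.Lib.Helper18.SPDec
import Cfsg.Agent.Lib.Helper18.SPHom

/-! S3713 leaf SL2DEC (helper25): the Bruhat decomposition of `S_o`. -/

set_option autoImplicit false

namespace Cfsg.Agent.Lib.Helper25.SPSL2DEC

open Matrix Cfsg.Agent.Lib.Helper18.SP Cfsg.Agent.Lib.Helper5 Cfsg.Agent.Lib.Helper14.SpPerfect

variable {F : Type*} [Field F] {n : ℕ}

/-- a vector of `VJ {o}` is a combination of `e_o` and `f_o` -/
theorem vec_of_mem_VJ_singleton {o : Fin n} {x : V n F} (hx : x ∈ VJ n F {o}) :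
    x = x (Sum.inl o) • eV n F o + x (Sum.inr o) • fV n F o := by
  funext i
  rcases i with k | k
  · simp only [Pi.add_apply, Pi.smul_apply, smul_eq_mul, eV_inl, fV_inl, mul_zero, add_zero]
    by_cases hk : k = o
    · subst hk
      rw [if_pos rfl, mul_one]
    · rw [if_neg hk, mul_zero]
      exact (hx k hk).1
  · simp only [Pi.add_apply, Pi.smul_apply, smul_eq_mul, eV_inr, fV_inr, mul_zero, zero_add]
    by_cases hk : k = o
    · subst hk
      rw [if_pos rfl, mul_one]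
    · rw [if_neg hk, mul_zero]
      exact (hx k hk).2

/-- **SL2DEC** (Bruhat decomposition of `S_o`). -/
theorem SS_decomp {o : Fin n} {g : Sp n F} (hg : g ∈ SS n F o) :
    g ∈ PhJ n F {o} o ∨ ∃ b₁ ∈ PhJ n F {o} o, ∃ b₂ ∈ PhJ n F {o} o, g = b₁ * nW n F o * b₂ := by
  have hoo : o ∈ ({o} : Set (Fin n)) := rfl
  have hg' : g ∈ GJ n F {o} := hg
  have hv : act g (eV n F o) ∈ VJ n F {o} := act_mem_VJ hg' (eV_mem_VJ hoo)
  have hdec := vec_of_mem_VJ_singleton hv
  set α := act g (eV n F o) (Sum.inl o) with hα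
  set γ := act g (eV n F o) (Sum.inr o) with hγ
  by_cases hγ0 : γ = 0
  · left
    refine ⟨hg', α, ?_, ?_⟩
    · intro hα0
      rw [hγ0, hα0, zero_smul, zero_smul, add_zero, act_eq_zero_iff] at hdec
      exact eV_ne_zero o hdec
    · rw [hdec, hγ0, zero_smul, add_zero]
  · right
    have hβ : (-γ)⁻¹ ≠ 0 := inv_ne_zero (neg_ne_zero.mpr hγ0)
    obtain ⟨t, ht, hte, htf⟩ := exists_TT (n := n) (F := F) o hβ
    set b₁ : Sp n F := t * Tr (eV n F o) (α * γ) with hb₁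
    have hb₁P : b₁ ∈ PhJ n F {o} o :=
      mul_mem (TT_le_PhJ hoo ht) (PJ_le_PhJ _ _ (Tr_eV_mem_PJ hoo _))
    have hb₁v : act b₁ (act (nW n F o) (eV n F o)) = act g (eV n F o) := by
      rw [nW_eV, hb₁, act_mul, act_neg, act_Tr, ω_fV_eV, if_pos rfl, mul_one, act_neg, act_add, act_smul, hte,
        htf, inv_inv, hdec]
      rw [smul_smul]
      have e1 : α * γ * (-γ)⁻¹ = -α := by
        field_simp
      rw [e1]
      module
    set b₂ : Sp n F := (nW n F o)⁻¹ * b₁⁻¹ * g with hb₂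
    have hb₂P : b₂ ∈ PhJ n F {o} o := by
      apply PJ_le_PhJ
      refine ⟨mul_mem (mul_mem (inv_mem (nW_mem_SS o)) (inv_mem hb₁P.1)) hg', ?_⟩
      rw [hb₂, act_mul, act_mul, ← hb₁v, act_inv_act, act_inv_act]
    refine ⟨b₁, hb₁P, b₂, hb₂P, ?_⟩
    rw [hb₂]
    group

end Cfsg.Agent.Lib.Helper25.SPSL2DEC
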