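import Mathlib
import Cfsg.Agent.Lib.Helper11.Su2Tools

/-! S2153 market "SU2", leaf S2N (`card_le_of_forall_one`): an additive subgroup `E` with
`F x ⊆ E ⊆ x^⊥` all of whose vectors outside `F x` have norm one has at most 16 elements. -/

set_option autoImplicit false
set_option linter.unusedVariables false
set_option linter.style.haveILetI false

namespace Cfsg.Agent.Lib.Helper25.Su2Leaf

open MulAction Pointwise Cfsg.Agent.Lib.Helper11.Su2

variable {F V G : Type*} [Field F] [AddCommGroup V] [Module F V] [Group G] [DistribMulAction G V]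
variable (S : Setting F V G)

/-- pigeonhole: an additive subgroup with more elements than the index type of `f` has an element
outside the range of `f`. -/
theorem exists_mem_forall_ne {V ι : Type*} [AddCommGroup V] [Finite ι] (E : AddSubgroup V)
    (f : ι → V) (h : Nat.card ι < Nat.card E) : ∃ w ∈ E, ∀ i, w ≠ f i := by
  by_contra hcon
  push Not at hcon
  obtain ⟨i0, _⟩ := hcon 0 E.zero_mem
  have : Nonempty ι := ⟨i0⟩
  choose! i hi using hcon
  have hinj : Function.Injective (fun w : E => i w.1) := by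
    intro a b hab
    apply Subtype.ext
    calc (a : V) = f (i a.1) := hi a.1 a.2
      _ = f (i b.1) := congrArg f hab
      _ = b := (hi b.1 b.2).symm
  have := Nat.card_le_card_of_injective _ hinj
  omega

theorem card_le_of_forall_one [Finite V] {x : V} (hx0 : x ≠ 0) (hx : S.h x x = 0)
    (E : AddSubgroup V) (hxE : ∀ a : F, a • x ∈ E) (hEx : ∀ u ∈ E, S.h u x = 0)
    (h1 : ∀ u ∈ E, (∀ a : F, u ≠ a • x) → S.h u u = 1) : Nat.card E ≤ 16 := by
  by_contra hcon
  push Not at hcon
  have hF : Finite F := S.finite_F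
  have hF4 : Nat.card F = 4 := S.natCard_F
  have hB : Nat.card Bool = 2 := by rw [Nat.card_eq_fintype_card, Fintype.card_bool]
  obtain ⟨w1, hw1, hw1x⟩ := exists_mem_forall_ne E (fun a : F => a • x) (by omega)
  obtain ⟨w2, hw2, hw2x⟩ := exists_mem_forall_ne E
    (fun p : F × Bool => p.1 • x + (if p.2 then w1 else 0))
    (by rw [Nat.card_prod, hF4, hB]; omega)
  obtain ⟨w3, hw3, hw3x⟩ := exists_mem_forall_ne E
    (fun p : F × Bool × Bool => p.1 • x + (if p.2.1 then w1 else 0) + (if p.2.2 then w2 else 0))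
    (by rw [Nat.card_prod, Nat.card_prod, hF4, hB]; omega)
  have n1 : S.h w1 w1 = 1 := h1 w1 hw1 hw1x
  have n2 : S.h w2 w2 = 1 := h1 w2 hw2 (fun a => by simpa using hw2x (a, false))
  have n3 : S.h w3 w3 = 1 := h1 w3 hw3 (fun a => by simpa using hw3x (a, false, false))
  have n12 : S.h (w1 + w2) (w1 + w2) = 1 := by
    refine h1 _ (E.add_mem hw1 hw2) (fun a he => hw2x (a, true) ?_)
    simp only [if_true]
    rw [← he, add_comm w1 w2, S.vadd_add_cancel_right]
  have n13 : S.h (w1 + w3) (w1 + w3) = 1 := by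
    refine h1 _ (E.add_mem hw1 hw3) (fun a he => hw3x (a, true, false) ?_)
    simp only [if_true, Bool.false_eq_true, if_false, add_zero]
    rw [← he, add_comm w1 w3, S.vadd_add_cancel_right]
  have n23 : S.h (w2 + w3) (w2 + w3) = 1 := by
    refine h1 _ (E.add_mem hw2 hw3) (fun a he => hw3x (a, false, true) ?_)
    simp only [if_true, Bool.false_eq_true, if_false, add_zero]
    rw [← he, add_comm w2 w3, S.vadd_add_cancel_right]
  have n123 : S.h (w1 + w2 + w3) (w1 + w2 + w3) = 1 := by
    refine h1 _ (E.add_mem (E.add_mem hw1 hw2) hw3) (fun a he => hw3x (a, true, true) ?_)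
    simp only [if_true]
    rw [← he]
    calc w3 = w3 + (w1 + w1) + (w2 + w2) := by rw [S.vadd_self, S.vadd_self, add_zero, add_zero]
      _ = w1 + w2 + w3 + w1 + w2 := by abel
  have e12 := S.h_self_add w1 w2
  have e13 := S.h_self_add w1 w3
  have e23 := S.h_self_add w2 w3
  have t12 : S.h w1 w2 + S.h w1 w2 * S.h w1 w2 = 1 := by
    linear_combination -e12 + n12 - n1 - n2 - S.two
  have t13 : S.h w1 w3 + S.h w1 w3 * S.h w1 w3 = 1 := by
    linear_combination -e13 + n13 - n1 - n3 - S.two
  have t23 : S.h w2 w3 + S.h w2 w3 * S.h w2 w3 = 1 := by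
    linear_combination -e23 + n23 - n2 - n3 - S.two
  have e123 := S.h_self_add (w1 + w2) w3
  rw [S.h_add_left w1 w2 w3, S.tr_add] at e123
  have : (1 : F) = 0 := by
    linear_combination -n123 + e123 + n12 + n3 + t13 + t23 + 2 * S.two
  exact one_ne_zero this

end Cfsg.Agent.Lib.Helper25.Su2Leaf
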