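import Mathlib
import Cfsg.Agent.Lib.Helper11.Su2Tools
import Cfsg.Agent.Lib.Helper14.Su2GEO
import Cfsg.Agent.Lib.Helper25.Su2S2N

/-! S2153 market "SU2", leaf MULT part I (`mult_I`), and the common assembly lemma `mult_of`. -/

set_option autoImplicit false
set_option linter.unusedVariables false
set_option linter.style.haveILetI false

namespace Cfsg.Agent.Lib.Helper25.Su2Leaf

open MulAction Pointwise Cfsg.Agent.Lib.Helper11.Su2

variable {F V G : Type*} [Field F] [AddCommGroup V] [Module F V] [Group G] [DistribMulAction G V]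
variable (S : Setting F V G)

theorem injective_fin_three {α : Type*} (f : Fin 3 → α) (h01 : f 0 ≠ f 1) (h02 : f 0 ≠ f 2)
    (h12 : f 1 ≠ f 2) : Function.Injective f := by
  intro i j hij
  fin_cases i <;> fin_cases j
  · rfl
  · exact absurd hij h01
  · exact absurd hij h02
  · exact absurd hij.symm h01
  · rfl
  · exact absurd hij h12
  · exact absurd hij.symm h02
  · exact absurd hij.symm h12
  · rfl

/-- assembling the conclusion of the MULT leaves from two elements `g1, g2` of `G_x` fixing `u0`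
such that `U`, `g1 U`, `g2 U` are pairwise distinct -/
theorem mult_of {x : V} (U : AddSubgroup V) {u0 : V} (hu0 : u0 ∈ U) (hu0x : ∀ a : F, u0 ≠ a • x)
    (g1 g2 : G) (h1x : g1 • x = x) (h2x : g2 • x = x) (h1u : g1 • u0 = u0) (h2u : g2 • u0 = u0)
    (h1 : ∃ v ∈ U, g1 • v ∉ U) (h2 : ∃ v ∈ U, g2 • v ∉ U) (h12 : ∃ v ∈ U, g2⁻¹ • g1 • v ∉ U) :
    ∃ u0 ∈ U, (∀ a : F, u0 ≠ a • x) ∧ ∃ g : Fin 3 → G, (∀ i, g i • x = x) ∧
      (∀ i, u0 ∈ g i • (U : Set V)) ∧ Function.Injective (fun i => g i • (U : Set V)) := by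
  refine ⟨u0, hu0, hu0x, ![1, g1, g2], ?_, ?_, ?_⟩
  · intro i
    fin_cases i
    · exact one_smul _ _
    · exact h1x
    · exact h2x
  · intro i
    fin_cases i
    · show u0 ∈ (1 : G) • (U : Set V)
      rw [one_smul]; exact hu0
    · exact ⟨u0, hu0, h1u⟩
    · exact ⟨u0, hu0, h2u⟩
  · apply injective_fin_three
    · show (1 : G) • (U : Set V) ≠ g1 • (U : Set V)
      obtain ⟨v, hv, hv'⟩ := h1
      intro he
      apply hv'
      have : g1 • v ∈ g1 • (U : Set V) := Set.smul_mem_smul_set hv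
      rw [← he, one_smul] at this
      exact this
    · show (1 : G) • (U : Set V) ≠ g2 • (U : Set V)
      obtain ⟨v, hv, hv'⟩ := h2
      intro he
      apply hv'
      have : g2 • v ∈ g2 • (U : Set V) := Set.smul_mem_smul_set hv
      rw [← he, one_smul] at this
      exact this
    · show g1 • (U : Set V) ≠ g2 • (U : Set V)
      obtain ⟨v, hv, hv'⟩ := h12
      intro he
      apply hv'
      have : g1 • v ∈ g1 • (U : Set V) := Set.smul_mem_smul_set hv
      rw [he, Set.mem_smul_set_iff_inv_smul_mem] at this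
      exact this

theorem mult_I [Finite V] {n : ℕ} (hV : Nat.card V = 4 ^ n) (hn : 6 ≤ n) {x : V} (hx0 : x ≠ 0)
    (hx : S.h x x = 0) (U : AddSubgroup V) (hxU : ∀ a : F, a • x ∈ U)
    (hUx : ∀ u ∈ U, S.h u x = 0) (hU0 : ∀ u ∈ U, S.h u u = 0) (hcard : 32 ≤ Nat.card U)
    (hom : ∀ u ∈ U, S.om • u ∈ U) :
    ∃ u0 ∈ U, (∀ a : F, u0 ≠ a • x) ∧ ∃ g : Fin 3 → G, (∀ i, g i • x = x) ∧
      (∀ i, u0 ∈ g i • (U : Set V)) ∧ Function.Injective (fun i => g i • (U : Set V)) := by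
  have hF : Finite F := S.finite_F
  have hF4 : Nat.card F = 4 := S.natCard_F
  obtain ⟨u0, hu0, hu0x⟩ := exists_mem_forall_ne U (fun a : F => a • x) (by omega)
  obtain ⟨u1, hu1, hu1x⟩ := exists_mem_forall_ne U (fun p : F × F => p.1 • x + p.2 • u0)
    (by rw [Nat.card_prod, hF4]; omega)
  -- total isotropy
  have htr : ∀ u ∈ U, ∀ u' ∈ U, S.h u u' + S.h u u' * S.h u u' = 0 := by
    intro u hu u' hu'
    have e := S.h_self_add u u'
    rw [hU0 _ (U.add_mem hu hu'), hU0 u hu, hU0 u' hu'] at e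
    linear_combination -e
  have hUU : ∀ u ∈ U, ∀ u' ∈ U, S.h u u' = 0 := by
    intro u hu u' hu'
    apply S.eq_zero_of_tr_mul (htr u hu u' hu')
    have := htr _ (hom u hu) u' hu'
    rwa [S.h_smul_left] at this
  -- independence
  have hind : ∀ α β γ : F, α • x + β • u0 + γ • u1 = 0 → α = 0 ∧ β = 0 ∧ γ = 0 := by
    intro α β γ he
    have hγ : γ = 0 := by
      by_contra hγ
      apply hu1x (γ⁻¹ * α, γ⁻¹ * β)
      have h1 : γ • u1 = α • x + β • u0 := (S.veq_of_add_eq_zero he).symm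
      calc u1 = γ⁻¹ • (γ • u1) := by rw [smul_smul, inv_mul_cancel₀ hγ, one_smul]
        _ = (γ⁻¹ * α) • x + (γ⁻¹ * β) • u0 := by rw [h1, smul_add, smul_smul, smul_smul]
    rw [hγ, zero_smul, add_zero] at he
    have hβ : β = 0 := by
      by_contra hβ
      apply hu0x (β⁻¹ * α)
      have h1 : β • u0 = α • x := (S.veq_of_add_eq_zero he).symm
      calc u0 = β⁻¹ • (β • u0) := by rw [smul_smul, inv_mul_cancel₀ hβ, one_smul]
        _ = (β⁻¹ * α) • x := by rw [h1, smul_smul]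
    rw [hβ, zero_smul, add_zero] at he
    rcases smul_eq_zero.mp he with h0 | h0
    · exact ⟨h0, hβ, hγ⟩
    · exact absurd h0 hx0
  obtain ⟨y1, hy1, hy1x, hy1u0, hy1u1⟩ :=
    Cfsg.Agent.Lib.Helper14.Su2Leaf.exists_iso_h_eq_three S hV hn hind 0 0 1
  have hu1iso : S.h u1 u1 = 0 := hU0 u1 hu1
  have hxy1 : S.h x y1 = 0 := S.h_eq_zero_symm hy1x
  have hu0y1 : S.h u0 y1 = 0 := S.h_eq_zero_symm hy1u0
  have hu1y1 : S.h u1 y1 = 1 := S.h_eq_one_symm hy1u1
  have hxu1 : S.h x u1 = 0 := S.h_eq_zero_symm (hUx u1 hu1)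
  have hu0u1 : S.h u0 u1 = 0 := hUU u0 hu0 u1 hu1
  have hy1U : y1 ∉ U := by
    intro hmem
    have := hUU y1 hmem u1 hu1
    rw [hy1u1] at this
    exact one_ne_zero this
  have hsumU : u1 + y1 ∉ U := by
    intro hmem
    have := hUU _ hmem u1 hu1
    rw [S.h_add_left, hu1iso, hy1u1, zero_add] at this
    exact one_ne_zero this
  have e1 : S.tv y1 • u1 = u1 + y1 := by
    rw [S.tv_smul hy1, hu1y1, one_smul]
  have e2 : S.tv u1 • (u1 + y1) = y1 := by
    rw [S.tv_smul hu1iso, S.h_add_left, hu1iso, hy1u1, zero_add, one_smul, add_comm u1 y1,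
      S.vadd_add_cancel_right]
  have e3 : S.tv y1 • y1 = y1 := by
    rw [S.tv_smul hy1, hy1, zero_smul, add_zero]
  refine mult_of U hu0 hu0x (S.tv y1) (S.tv u1 * S.tv y1) ?_ ?_ ?_ ?_ ⟨u1, hu1, ?_⟩ ⟨u1, hu1, ?_⟩
    ⟨u1, hu1, ?_⟩
  · rw [S.tv_smul hy1, hxy1, zero_smul, add_zero]
  · rw [mul_smul, S.tv_smul hy1, hxy1, zero_smul, add_zero, S.tv_smul hu1iso, hxu1, zero_smul,
      add_zero]
  · rw [S.tv_smul hy1, hu0y1, zero_smul, add_zero]
  · rw [mul_smul, S.tv_smul hy1, hu0y1, zero_smul, add_zero, S.tv_smul hu1iso, hu0u1, zero_smul,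
      add_zero]
  · rw [e1]; exact hsumU
  · rw [mul_smul, e1, e2]; exact hy1U
  · rw [mul_inv_rev, S.tv_inv hy1, S.tv_inv hu1iso, mul_smul, e1, e2, e3]; exact hy1U

end Cfsg.Agent.Lib.Helper25.Su2Leaf
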