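import Mathlib
import Cfsg.Agent.Lib.Helper11.Su2Tools
import Cfsg.Agent.Lib.Helper17.Su2MULTAux
import Cfsg.Agent.Lib.Helper24.Su2P1
import Cfsg.Agent.Lib.Helper25.Su2MULTI

/-! S2153 market "SU2", leaf MULT part IIa (`mult_IIa`). -/

set_option autoImplicit false
set_option linter.unusedVariables false
set_option linter.style.haveILetI false

namespace Cfsg.Agent.Lib.Helper25.Su2Leaf

open MulAction Pointwise Cfsg.Agent.Lib.Helper11.Su2

variable {F V G : Type*} [Field F] [AddCommGroup V] [Module F V] [Group G] [DistribMulAction G V]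
variable (S : Setting F V G)

theorem mult_IIa [Finite V] {n : ℕ} (hV : Nat.card V = 4 ^ n) (hn : 6 ≤ n) {x : V} (hx0 : x ≠ 0)
    (hx : S.h x x = 0) (U : AddSubgroup V) (hxU : ∀ a : F, a • x ∈ U)
    (hUx : ∀ u ∈ U, S.h u x = 0) (hU0 : ∀ u ∈ U, S.h u u = 0) (hcard : 32 ≤ Nat.card U)
    {w1 : V} (hw1 : w1 ∈ U) (hw1' : S.om • w1 ∉ U) (hperp : ∀ u ∈ U, S.h u w1 = 0) :
    ∃ u0 ∈ U, (∀ a : F, u0 ≠ a • x) ∧ ∃ g : Fin 3 → G, (∀ i, g i • x = x) ∧
      (∀ i, u0 ∈ g i • (U : Set V)) ∧ Function.Injective (fun i => g i • (U : Set V)) := by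
  classical
  have hw1w1 : S.h w1 w1 = 0 := hU0 w1 hw1
  have hw1x : S.h w1 x = 0 := hUx w1 hw1
  have hxw1 : S.h x w1 = 0 := S.h_eq_zero_symm hw1x
  let A : AddSubgroup V :=
    { carrier := {a | S.h a x = 0 ∧ S.h a w1 = 0}
      add_mem' := by
        rintro a b ⟨ha1, ha2⟩ ⟨hb1, hb2⟩
        exact ⟨by rw [S.h_add_left, ha1, hb1, add_zero], by rw [S.h_add_left, ha2, hb2, add_zero]⟩
      zero_mem' := ⟨S.h_zero_left _, S.h_zero_left _⟩
      neg_mem' := by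
        rintro a ha
        rw [S.vneg]; exact ha }
  let W : AddSubgroup V :=
    { carrier := {v | ∃ u ∈ U, ∃ b : F, v = u + b • w1}
      add_mem' := by
        rintro _ _ ⟨u, hu, b, rfl⟩ ⟨u', hu', b', rfl⟩
        exact ⟨u + u', U.add_mem hu hu', b + b', by module⟩
      zero_mem' := ⟨0, U.zero_mem, 0, by simp⟩
      neg_mem' := by
        rintro a ha
        rw [S.vneg]; exact ha }
  have hUW : U ≤ W := fun u hu => ⟨u, hu, 0, by simp⟩
  have homW : S.om • w1 ∈ W := ⟨0, U.zero_mem, S.om, by simp⟩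
  have h2U : 2 * Nat.card U ≤ Nat.card W := by
    obtain ⟨k, hk⟩ := AddSubgroup.card_dvd_of_le hUW
    have hk1 : k ≠ 1 := by
      rintro rfl
      have hUeq : U = W := AddSubgroup.eq_of_le_of_card_ge hUW (by rw [hk, mul_one])
      exact hw1' (hUeq ▸ homW)
    have hk0 : k ≠ 0 := by
      rintro rfl
      have : 0 < Nat.card W := Nat.card_pos
      omega
    have hk2 : 2 ≤ k := by omega
    rw [hk, mul_comm]
    exact Nat.mul_le_mul_left _ hk2
  have hP1 := Cfsg.Agent.Lib.Helper24.Su2Leaf.card_mul_card_perp S W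
  have hA16 : Nat.card V ≤ 16 * Nat.card A :=
    Cfsg.Agent.Lib.Helper17.Su2Leaf.card_perp_two_ge S x w1
  have hlt : 2 * Nat.card (S.perp W) < Nat.card A := by
    have hpos : 0 < Nat.card (S.perp W) := Nat.card_pos
    have h64 : 64 ≤ Nat.card W := by omega
    have h3 := Nat.mul_le_mul_right (Nat.card (S.perp W)) h64
    rw [hP1] at h3
    omega
  obtain ⟨a1, ha1, a2, ha2, ha1B, ha2B, ha12B⟩ :=
    Cfsg.Agent.Lib.Helper17.Su2Leaf.exists_two_not_mem A (S.perp W) hlt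
  obtain ⟨c1, hc1⟩ := S.exists_tr_eq (S.h_self_mem a1)
  obtain ⟨c2, hc2⟩ := S.exists_tr_eq (S.h_self_mem a2)
  -- the key lemma
  have key : ∀ (a : V) (c : F), S.h a w1 = 0 → a ∉ S.perp W → c + c * c = S.h a a →
      ∃ v ∈ U, S.gq w1 a c • v ∉ U := by
    intro a c haw haB hc
    rw [S.mem_perp] at haB
    push Not at haB
    obtain ⟨v, ⟨u, hu, b, rfl⟩, hv⟩ := haB
    have hw1a : S.h w1 a = 0 := S.h_eq_zero_symm haw
    rw [S.h_add_left, S.h_smul_left, hw1a, mul_zero, add_zero] at hv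
    refine ⟨u, hu, ?_⟩
    rw [S.gq_smul_of_perp hw1w1 haw hc (hperp u hu)]
    intro hmem
    have hmem' : S.h u a • w1 ∈ U := (U.add_mem_cancel_left hu).mp hmem
    have htr : S.h u a + S.h u a * S.h u a = 1 := by
      rcases S.tr_mem (S.h u a) with h0 | h0
      · exact absurd h0 hv
      · exact h0
    rcases (S.tr_eq_one_iff _).mp htr with h0 | h0
    · rw [h0] at hmem'; exact hw1' hmem'
    · rw [h0, add_smul, one_smul] at hmem'
      exact hw1' ((U.add_mem_cancel_right hw1).mp hmem')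
  have hw1ne : ∀ a : F, w1 ≠ a • x := by
    intro a he
    apply hw1'
    rw [he, smul_smul]
    exact hxU _
  have hxa1 : S.h x a1 = 0 := S.h_eq_zero_symm ha1.1
  have hxa2 : S.h x a2 = 0 := S.h_eq_zero_symm ha2.1
  refine mult_of U hw1 hw1ne (S.gq w1 a1 c1) (S.gq w1 a2 c2)
    (S.gq_smul_of_perp_perp hw1w1 ha1.2 hc1 hxw1 hxa1)
    (S.gq_smul_of_perp_perp hw1w1 ha2.2 hc2 hxw1 hxa2)
    (S.gq_smul_self hw1w1 ha1.2 hc1) (S.gq_smul_self hw1w1 ha2.2 hc2)
    (key a1 c1 ha1.2 ha1B hc1) (key a2 c2 ha2.2 ha2B hc2) ?_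
  have hs : S.h (a2 + a1) w1 = 0 := by rw [S.h_add_left, ha1.2, ha2.2, add_zero]
  have hsB : a2 + a1 ∉ S.perp W := by rw [add_comm]; exact ha12B
  obtain ⟨v, hv, hv'⟩ := key (a2 + a1) _ hs hsB (S.norm_add (S.norm_sq hc2) hc1)
  refine ⟨v, hv, ?_⟩
  rw [← mul_smul, S.gq_inv hw1w1 ha2.2 hc2, S.gq_mul hw1w1 ha2.2 ha1.2 (S.norm_sq hc2) hc1]
  exact hv'

end Cfsg.Agent.Lib.Helper25.Su2Leaf
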