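import Mathlib
import Cfsg.Agent.Lib.Helper11.LSDefs
import Cfsg.Agent.Lib.Helper11.LSSp
import Cfsg.Agent.Lib.Helper14.PSpSimple

set_option autoImplicit false

/-!
# Leaf R4 of S2333: an irreducible representation of degree at least two of `Sp_{2n}(F)` gives a matrix
homomorphism with central kernel
-/

open QuadraticMap Module Matrix Cfsg.Agent.Lib.Helper11.LS

namespace Cfsg.Agent.Lib.Helper25.LSLeaf

variable {F : Type*} [Field F] {n : ℕ}

/-- the matrix homomorphism of a representation on `Fin k → ℂ` -/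
noncomputable def matHom {G : Type*} [Group G] (k : ℕ) (ρ : Representation ℂ G (Fin k → ℂ)) :
    G →* GL (Fin k) ℂ :=
  MonoidHom.toHomUnits
    ((LinearMap.toMatrixAlgEquiv' (R := ℂ) (n := Fin k)).toAlgHom.toRingHom.toMonoidHom.comp ρ)

theorem matHom_eq_one_iff {G : Type*} [Group G] (k : ℕ) (ρ : Representation ℂ G (Fin k → ℂ)) (g : G) :
    matHom k ρ g = 1 ↔ ρ g = 1 := by
  rw [← Units.val_inj]
  show LinearMap.toMatrixAlgEquiv' (ρ g) = 1 ↔ ρ g = 1
  constructor
  · intro h
    apply (LinearMap.toMatrixAlgEquiv' (R := ℂ) (n := Fin k)).injective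
    rw [h, map_one]
  · intro h
    rw [h, map_one]

/-- a trivial representation of degree at least two is not irreducible -/
theorem not_irreducible_of_trivial {G : Type*} [Group G] (k : ℕ) (hk : 2 ≤ k)
    (ρ : Representation ℂ G (Fin k → ℂ)) (h : ∀ g, ρ g = 1) : ¬ ρ.IsIrreducible := by
  intro hρ
  let e0 : Fin k → ℂ := Pi.single ⟨0, by omega⟩ 1
  let S : Subrepresentation ρ :=
    { toSubmodule := Submodule.span ℂ {e0}
      apply_mem_toSubmodule := by
        intro g v hv
        rw [h g]
        exact hv }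
  rcases hρ.eq_bot_or_eq_top S with hS | hS
  · have h0 : e0 ∈ S.toSubmodule := Submodule.subset_span rfl
    rw [hS] at h0
    have h1 : e0 = 0 := h0
    have := congrFun h1 ⟨0, by omega⟩
    simp [e0] at this
  · have h0 : (Pi.single ⟨1, by omega⟩ 1 : Fin k → ℂ) ∈ S.toSubmodule := by
      rw [hS]
      trivial
    obtain ⟨c, hc⟩ := Submodule.mem_span_singleton.mp h0
    have := congrFun hc ⟨1, by omega⟩
    simp [e0, Fin.ext_iff] at this

theorem exists_hom_of_irreducible [Fintype F] (hn : 2 ≤ n) (hex : (n, Fintype.card F) ≠ (2, 2)) (k : ℕ)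
    (ρ : Representation ℂ (Matrix.symplecticGroup (Fin n) F) (Fin k → ℂ)) (hρ : ρ.IsIrreducible)
    (hk : 2 ≤ k) :
    ∃ ρ' : ↥(Matrix.symplecticGroup (Fin n) F) →* GL (Fin k) ℂ,
      ρ'.ker ≤ Subgroup.center ↥(Matrix.symplecticGroup (Fin n) F) := by
  refine ⟨matHom k ρ, ?_⟩
  have hperf : commutator (Matrix.symplecticGroup (Fin n) F) = ⊤ := by
    apply Cfsg.Agent.Lib.Helper14.SpPerfect.commutator_symplecticGroup_eq_top
    by_cases h3 : 3 ≤ n
    · exact Or.inl h3
    · right
      left
      have hn2 : n = 2 := by omega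
      refine ⟨hn2, ?_⟩
      have h1 : 1 < Fintype.card F := Fintype.one_lt_card
      by_contra hlt
      apply hex
      have : Fintype.card F = 2 := by omega
      rw [hn2, this]
  rcases Cfsg.Agent.Lib.Helper14.PSpSimple.normal_le_center_or_eq_top (by omega) hperf
    (matHom k ρ).ker with h | h
  · exact h
  · exfalso
    apply not_irreducible_of_trivial k hk ρ _ hρ
    intro g
    have hg : g ∈ (matHom k ρ).ker := by
      rw [h]
      trivial
    exact (matHom_eq_one_iff k ρ g).mp (MonoidHom.mem_ker.mp hg)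

end Cfsg.Agent.Lib.Helper25.LSLeaf
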