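import Cfsg.Agent.Lib.Helper25.CDConj

set_option autoImplicit false

/-!
# The Dickson invariant through the Clifford algebra (characteristic two)

For a quadratic form `Q` with nondegenerate polar form over a field of characteristic two there is
`z` in the Clifford algebra with `z x + x z = x` for all vectors `x`; a reflection maps `z` to
`z + 1`, so no reflection is a product of an even number of reflections.
-/

namespace Cfsg.Agent.Lib.Helper25.CD

open Module QuadraticMap CliffordAlgebra

universe u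

section general

variable {F : Type*} [Field F] {V : Type*} [AddCommGroup V] [Module F V] (Q : QuadraticForm F V)

theorem clifford_nontrivial : Nontrivial (CliffordAlgebra Q) := by
  obtain ⟨B, hB⟩ := LinearMap.BilinMap.toQuadraticMap_surjective (0 - Q)
  have : Nontrivial (CliffordAlgebra (0 : QuadraticForm F V)) :=
    inferInstanceAs (Nontrivial (ExteriorAlgebra F V))
  exact (CliffordAlgebra.changeFormEquiv hB).symm.injective.nontrivial

/-- The isometry attached to an element of `OG Q`. -/
def isoOf {g : V ≃ₗ[F] V} (hg : g ∈ OG Q) : Q →qᵢ Q :=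
  { (g : V →ₗ[F] V) with map_app' := hg }

/-- The induced automorphism of the Clifford algebra. -/
noncomputable def CA {g : V ≃ₗ[F] V} (hg : g ∈ OG Q) :
    CliffordAlgebra Q →ₐ[F] CliffordAlgebra Q :=
  CliffordAlgebra.map (isoOf Q hg)

theorem CA_ι {g : V ≃ₗ[F] V} (hg : g ∈ OG Q) (x : V) : CA Q hg (ι Q x) = ι Q (g x) :=
  map_apply_ι _ _

theorem CA_mul {g h : V ≃ₗ[F] V} (hg : g ∈ OG Q) (hh : h ∈ OG Q) (hgh : g * h ∈ OG Q)
    (y : CliffordAlgebra Q) : CA Q hgh y = CA Q hg (CA Q hh y) := by
  have : CA Q hgh = (CA Q hg).comp (CA Q hh) := by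
    apply CliffordAlgebra.hom_ext
    apply LinearMap.ext
    intro x
    simp only [LinearMap.comp_apply, AlgHom.toLinearMap_apply, AlgHom.comp_apply, CA_ι]
    rfl
  rw [this]
  rfl

theorem CA_one (h1 : (1 : V ≃ₗ[F] V) ∈ OG Q) (y : CliffordAlgebra Q) : CA Q h1 y = y := by
  have : CA Q h1 = AlgHom.id F _ := by
    apply CliffordAlgebra.hom_ext
    apply LinearMap.ext
    intro x
    simp only [LinearMap.comp_apply, AlgHom.toLinearMap_apply, CA_ι]
    rfl
  rw [this]
  rfl

/-- `z x + x z = x` for all vectors `x`. -/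
def IsArf (z : CliffordAlgebra Q) : Prop := ∀ x : V, z * ι Q x + ι Q x * z = ι Q x

end general

section char2

variable {F : Type*} [Field F] [CharP F 2] {V : Type*} [AddCommGroup V] [Module F V]
  (Q : QuadraticForm F V)

theorem ι_comm_of_perp {a b : V} (h : polar Q a b = 0) : ι Q a * ι Q b = ι Q b * ι Q a := by
  have := ι_mul_ι_add_swap (Q := Q) a b
  rw [h, map_zero] at this
  have h2 := vadd_cancel F (ι Q b * ι Q a) (ι Q a * ι Q b)
  rw [add_comm (ι Q b * ι Q a) (ι Q a * ι Q b), this, add_zero] at h2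
  exact h2.symm

theorem CA_refl_mul (v : V) (hv : Q v ≠ 0) (y : CliffordAlgebra Q) :
    CA Q (reflE_mem_OG Q v) y * ι Q v = ι Q v * y := by
  induction y using CliffordAlgebra.induction with
  | algebraMap r =>
    rw [AlgHom.commutes]
    exact Algebra.commutes r (ι Q v)
  | ι x =>
    rw [CA_ι, reflE_apply2, map_add, map_smul, add_mul, smul_mul_assoc, ι_sq_scalar]
    have e : ((Q v)⁻¹ * polar Q v x) • (algebraMap F (CliffordAlgebra Q) (Q v))
        = algebraMap F _ (polar Q v x) := by
      rw [Algebra.smul_def, ← RingHom.map_mul]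
      congr 1
      field_simp
    rw [e]
    have h1 := ι_mul_ι_add_swap (Q := Q) v x
    rw [← h1, add_comm (ι Q v * ι Q x), ← add_assoc, vadd_self F, zero_add]
  | mul a b ha hb =>
    rw [map_mul, mul_assoc, hb, ← mul_assoc, ha, mul_assoc]
  | add a b ha hb =>
    rw [map_add, add_mul, ha, hb, mul_add]

theorem CA_refl_arf {z : CliffordAlgebra Q} (hz : IsArf Q z) {v : V} (hv : Q v ≠ 0) :
    CA Q (reflE_mem_OG Q v) z = z + 1 := by
  have h1 := CA_refl_mul Q v hv z
  have h2 : ι Q v * z = (z + 1) * ι Q v := by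
    have := hz v
    calc ι Q v * z = z * ι Q v + (z * ι Q v + ι Q v * z) := (vadd_cancel F _ _).symm
      _ = z * ι Q v + ι Q v := by rw [this]
      _ = (z + 1) * ι Q v := by rw [add_mul, one_mul]
  rw [h2] at h1
  have h3 := congrArg (· * ι Q v) h1
  simp only [mul_assoc, ι_sq_scalar] at h3
  rw [← Algebra.commutes, ← Algebra.commutes, ← Algebra.smul_def, ← Algebra.smul_def] at h3
  exact smul_right_injective _ hv h3

/-- The inclusion of a subspace as an isometry. -/
def inclIso (W : Submodule F V) : QR Q W →qᵢ Q :=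
  { W.subtype with map_app' := fun _ => rfl }

/-- The induced map of Clifford algebras. -/
noncomputable def jW (W : Submodule F V) : CliffordAlgebra (QR Q W) →ₐ[F] CliffordAlgebra Q :=
  CliffordAlgebra.map (inclIso Q W)

omit [CharP F 2] in
theorem jW_ι (W : Submodule F V) (w : W) : jW Q W (ι (QR Q W) w) = ι Q (w : V) :=
  map_apply_ι _ _

theorem jW_comm (W : Submodule F V) {p : V} (hp : ∀ w ∈ W, polar Q p w = 0)
    (y : CliffordAlgebra (QR Q W)) : jW Q W y * ι Q p = ι Q p * jW Q W y := by
  induction y using CliffordAlgebra.induction with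
  | algebraMap r =>
    rw [AlgHom.commutes]
    exact Algebra.commutes r _
  | ι w =>
    rw [jW_ι]
    exact (ι_comm_of_perp Q (hp w w.2)).symm
  | mul a b ha hb =>
    rw [map_mul, mul_assoc, hb, ← mul_assoc, ha, mul_assoc]
  | add a b ha hb =>
    rw [map_add, add_mul, ha, hb, mul_add]

theorem hyp_decomp {x y : V} (hxy : polar Q x y = 1) :
    Submodule.span F ({x, y} : Set V) ⊔ perp Q (Submodule.span F ({x, y} : Set V)) = ⊤ := by
  obtain ⟨P, hPdef⟩ : ∃ P, P = Submodule.span F ({x, y} : Set V) := ⟨_, rfl⟩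
  rw [← hPdef]
  have hPmem : ∀ q ∈ P, ∃ a b : F, a • x + b • y = q := by
    intro q hq
    rw [hPdef] at hq
    exact Submodule.mem_span_pair.1 hq
  have hxP : x ∈ P := by
    rw [hPdef]; exact Submodule.subset_span (Or.inl rfl)
  have hyP : y ∈ P := by
    rw [hPdef]; exact Submodule.subset_span (Or.inr rfl)
  have hperpP : ∀ z, polar Q x z = 0 → polar Q y z = 0 → z ∈ perp Q P := by
    intro z h1 h2 q hq
    obtain ⟨a, b, rfl⟩ := hPmem q hq
    show polar Q (a • x + b • y) z = 0
    rw [polar_add_left, polar_smul_left, polar_smul_left, h1, h2, smul_zero, smul_zero,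
      add_zero]
  rw [eq_top_iff]
  intro v _
  obtain ⟨p, hpdef⟩ : ∃ p, p = polar Q v y • x + polar Q v x • y := ⟨_, rfl⟩
  have hpP : p ∈ P := by
    rw [hpdef]
    exact P.add_mem (P.smul_mem _ hxP) (P.smul_mem _ hyP)
  refine Submodule.mem_sup.2 ⟨p, hpP, p + v, hperpP _ ?_ ?_, vadd_cancel F p v⟩
  · rw [polar_add_right, hpdef, polar_add_right, polar_smul_right, polar_smul_right,
      polar_self2, hxy, polar_comm Q x v]
    simp [CharTwo.add_self_eq_zero]
  · rw [polar_add_right, hpdef, polar_add_right, polar_smul_right, polar_smul_right,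
      polar_self2, polar_comm Q y x, hxy, polar_comm Q y v]
    simp [CharTwo.add_self_eq_zero]

end char2

/-- Existence of an element `z` of the Clifford algebra with `z x + x z = x` for all vectors. -/
theorem exists_arf {F : Type*} [Field F] [CharP F 2] :
    ∀ (n : ℕ) (V : Type u) [AddCommGroup V] [Module F V] [FiniteDimensional F V]
      (Q : QuadraticForm F V), finrank F V = n → (polarBilin Q).Nondegenerate →
      ∃ z : CliffordAlgebra Q, IsArf Q z := by
  intro n
  induction n using Nat.strong_induction_on with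
  | _ n ih =>
    intro V _ _ _ Q hn hQ
    rcases subsingleton_or_nontrivial V with hV | hV
    · refine ⟨0, fun x => ?_⟩
      rw [Subsingleton.elim x 0, map_zero, mul_zero, add_zero]
    · obtain ⟨e, he0⟩ := exists_ne (0 : V)
      obtain ⟨f0, hf0⟩ : ∃ f0, polar Q e f0 ≠ 0 := by
        by_contra hcon
        push Not at hcon
        exact he0 (hQ.1 e (fun y => by rw [polarBilin_apply_apply]; exact hcon y))
      obtain ⟨f, hfdef⟩ : ∃ f, f = (polar Q e f0)⁻¹ • f0 := ⟨_, rfl⟩
      have hef : polar Q e f = 1 := by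
        rw [hfdef, polar_smul_right, smul_eq_mul, inv_mul_cancel₀ hf0]
      have hPW := hyp_decomp Q hef
      obtain ⟨P, hPdef⟩ : ∃ P, P = Submodule.span F ({e, f} : Set V) := ⟨_, rfl⟩
      rw [← hPdef] at hPW
      have heP : e ∈ P := by
        rw [hPdef]; exact Submodule.subset_span (Or.inl rfl)
      have hfP : f ∈ P := by
        rw [hPdef]; exact Submodule.subset_span (Or.inr rfl)
      have hfin : finrank F (perp Q P) < n := by
        have h1 := LinearMap.BilinForm.finrank_orthogonal hQ P
        have h2 : 0 < finrank F P := by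
          rw [Module.finrank_pos_iff_exists_ne_zero]
          refine ⟨⟨e, heP⟩, ?_⟩
          intro h0
          exact he0 (congrArg Subtype.val h0)
        have h3 := Submodule.finrank_le P
        rw [perp, h1, hn]
        omega
      obtain ⟨zW, hzW⟩ := ih _ hfin _ (QR Q (perp Q P)) rfl (nondeg_perp Q hQ P hPW)
      have hWe : ∀ w ∈ perp Q P, polar Q e w = 0 := fun w hw => hw e heP
      have hWf : ∀ w ∈ perp Q P, polar Q f w = 0 := fun w hw => hw f hfP
      obtain ⟨j, hjdef⟩ : ∃ j, j = jW Q (perp Q P) zW := ⟨_, rfl⟩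
      have hje : j * ι Q e = ι Q e * j := by rw [hjdef]; exact jW_comm Q _ hWe zW
      have hjf : j * ι Q f = ι Q f * j := by rw [hjdef]; exact jW_comm Q _ hWf zW
      refine ⟨ι Q e * ι Q f + j, ?_⟩
      -- the defect as a linear map
      obtain ⟨L, hL⟩ : ∃ L : V →ₗ[F] CliffordAlgebra Q, ∀ x, L x =
          (ι Q e * ι Q f + j) * ι Q x + ι Q x * (ι Q e * ι Q f + j) + ι Q x :=
        ⟨(LinearMap.mulLeft F (ι Q e * ι Q f + j)).comp (ι Q) +
          (LinearMap.mulRight F (ι Q e * ι Q f + j)).comp (ι Q) + ι Q, fun x => rfl⟩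
      have hLe : L e = 0 := by
        rw [hL]
        have h1 : (ι Q e * ι Q f + j) * ι Q e + ι Q e * (ι Q e * ι Q f + j)
            = ι Q e * (ι Q f * ι Q e + ι Q e * ι Q f) + (j * ι Q e + ι Q e * j) := by
          noncomm_ring
        rw [h1, ι_mul_ι_add_swap, hje, vadd_self F, add_zero, polar_comm, hef, map_one, mul_one,
          vadd_self F]
      have hLf : L f = 0 := by
        rw [hL]
        have h1 : (ι Q e * ι Q f + j) * ι Q f + ι Q f * (ι Q e * ι Q f + j)
            = (ι Q e * ι Q f + ι Q f * ι Q e) * ι Q f + (j * ι Q f + ι Q f * j) := by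
          noncomm_ring
        rw [h1, ι_mul_ι_add_swap, hjf, vadd_self F, add_zero, hef, map_one, one_mul,
          vadd_self F]
      have hLw : ∀ w ∈ perp Q P, L w = 0 := by
        intro w hw
        rw [hL]
        have hwe : ι Q w * ι Q e = ι Q e * ι Q w :=
          ι_comm_of_perp Q (by rw [polar_comm]; exact hWe w hw)
        have h1 : (ι Q e * ι Q f + j) * ι Q w + ι Q w * (ι Q e * ι Q f + j)
            = ι Q e * (ι Q f * ι Q w + ι Q w * ι Q f) + (j * ι Q w + ι Q w * j) := by
          have : ι Q w * (ι Q e * ι Q f) = ι Q e * (ι Q w * ι Q f) := by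
            rw [← mul_assoc, hwe, mul_assoc]
          rw [mul_add, this]
          noncomm_ring
        have h2 : j * ι Q w + ι Q w * j = ι Q w := by
          have := congrArg (jW Q (perp Q P)) (hzW ⟨w, hw⟩)
          rw [map_add, map_mul, map_mul, jW_ι, ← hjdef] at this
          exact this
        rw [h1, ι_mul_ι_add_swap, hWf w hw, map_zero, mul_zero, zero_add, h2, vadd_self F]
      have hker : LinearMap.ker L = ⊤ := by
        rw [eq_top_iff, ← hPW]
        apply sup_le
        · rw [hPdef, Submodule.span_le]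
          intro q hq
          rcases hq with hq | hq
          · rw [hq]; exact hLe
          · rw [Set.mem_singleton_iff] at hq
            rw [hq]; exact hLf
        · intro w hw
          exact hLw w hw
      intro x
      have hx : L x = 0 := by
        have : x ∈ LinearMap.ker L := by rw [hker]; trivial
        exact this
      rw [hL] at hx
      have := vadd_cancel F (ι Q x)
        ((ι Q e * ι Q f + j) * ι Q x + ι Q x * (ι Q e * ι Q f + j))
      rw [add_comm (ι Q x), add_comm (ι Q x), hx, zero_add] at this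
      exact this.symm

/-- In characteristic two a reflection is not a product of an even number of reflections. -/
theorem refl_not_mem_pairs {F : Type*} [Field F] [CharP F 2] {V : Type u} [AddCommGroup V]
    [Module F V] [FiniteDimensional F V] (Q : QuadraticForm F V)
    (hQ : (polarBilin Q).Nondegenerate) {v : V} (hv : Q v ≠ 0) :
    reflE Q v ∉ Subgroup.closure
      {g : V ≃ₗ[F] V | ∃ u w, Q u ≠ 0 ∧ Q w ≠ 0 ∧ g = reflE Q u * reflE Q w} := by
  obtain ⟨z, hz⟩ := exists_arf _ V Q rfl hQ
  have hnt : Nontrivial (CliffordAlgebra Q) := clifford_nontrivial Q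
  intro hmem
  have hle : Subgroup.closure
      {g : V ≃ₗ[F] V | ∃ u w, Q u ≠ 0 ∧ Q w ≠ 0 ∧ g = reflE Q u * reflE Q w} ≤ OG Q := by
    rw [Subgroup.closure_le]
    rintro _ ⟨u, w, -, -, rfl⟩
    exact mul_mem (reflE_mem_OG Q u) (reflE_mem_OG Q w)
  have key : ∀ g ∈ Subgroup.closure
      {g : V ≃ₗ[F] V | ∃ u w, Q u ≠ 0 ∧ Q w ≠ 0 ∧ g = reflE Q u * reflE Q w},
      ∀ hg : g ∈ OG Q, CA Q hg z = z := by
    intro g hg
    induction hg using Subgroup.closure_induction with
    | mem g hg =>
      obtain ⟨u, w, hu, hw, rfl⟩ := hg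
      intro hgO
      rw [CA_mul Q (reflE_mem_OG Q u) (reflE_mem_OG Q w) hgO, CA_refl_arf Q hz hw, map_add,
        map_one, CA_refl_arf Q hz hu, add_assoc, vadd_self F, add_zero]
    | one =>
      intro h1
      exact CA_one Q h1 z
    | mul a b ha hb iha ihb =>
      intro hab
      rw [CA_mul Q (hle ha) (hle hb) hab, ihb (hle hb), iha (hle ha)]
    | inv a ha iha =>
      intro hinv
      have h1 : a⁻¹ * a ∈ OG Q := by rw [inv_mul_cancel]; exact one_mem _
      have := CA_mul Q hinv (hle ha) h1 z
      rw [iha (hle ha)] at this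
      rw [← this]
      have h2 : CA Q h1 = CA Q (one_mem (OG Q)) := by
        congr 1
        exact inv_mul_cancel a
      rw [h2, CA_one]
  have h1 := key _ hmem (reflE_mem_OG Q v)
  rw [CA_refl_arf Q hz hv] at h1
  have h2 : (1 : CliffordAlgebra Q) = 0 := by
    have := vadd_cancel F z (1 : CliffordAlgebra Q)
    rw [h1, vadd_self F] at this
    exact this.symm
  exact one_ne_zero h2

section matrix

variable {ι : Type} [Fintype ι] [DecidableEq ι] {F : Type*} [Field F] [Fintype F] [CharP F 2]
  (Q : QuadraticForm F (ι → F))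

theorem reflM_not_mem_omega (hQ : (polarBilin Q).Nondegenerate)
    (hex : Fintype.card F ≠ 2 ∨ Fintype.card ι ≠ 4) {v : ι → F} (hv : Q v ≠ 0) :
    reflM Q v ∉ Cfsg.Omega F ⇑Q := by
  rw [omega_eq_closure_pairs Q hQ hex]
  intro hmem
  apply refl_not_mem_pairs Q hQ hv
  have := Subgroup.mem_map_of_mem (toOG Q) hmem
  rw [MonoidHom.map_closure, toOG_reflM] at this
  refine Subgroup.closure_mono ?_ this
  rintro _ ⟨g, ⟨r, hr, r', hr', rfl⟩, rfl⟩
  obtain ⟨u, hu, rfl⟩ := (mem_reflSet_iff Q r).1 hr
  obtain ⟨w, hw, rfl⟩ := (mem_reflSet_iff Q r').1 hr'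
  exact ⟨u, w, hu, hw, by rw [map_mul, toOG_reflM, toOG_reflM]⟩

/-- In characteristic two `Ω` has index two in the orthogonal group. -/
theorem omega_index_two (hQ : (polarBilin Q).Nondegenerate)
    (hex : Fintype.card F ≠ 2 ∨ Fintype.card ι ≠ 4) [Nonempty ι] :
    (Cfsg.Omega F ⇑Q).index = 2 := by
  obtain ⟨v, hv⟩ := exists_nonsing Q hQ
  rw [Subgroup.index_eq_two_iff]
  refine ⟨reflM Q v, fun b => ?_⟩
  have hnot := reflM_not_mem_omega Q hQ hex hv
  rcases mem_omega_or Q hQ hex hv b with h | h
  · refine Or.inr ⟨h, fun h2 => hnot ?_⟩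
    have := mul_mem (inv_mem h) h2
    rwa [inv_mul_cancel_left] at this
  · by_cases hb : b ∈ Cfsg.Omega F ⇑Q
    · exfalso
      apply hnot
      have := mul_mem (inv_mem hb) h
      rwa [inv_mul_cancel_left] at this
    · exact Or.inl ⟨h, hb⟩

end matrix

end Cfsg.Agent.Lib.Helper25.CD
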