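import Cfsg.Agent.Lib.Helper25.ReflClass
import Cfsg.Prelude.Def_FischerSpaces

set_option autoImplicit false

/-!
# Reflections over the field with three elements are 3-transpositions
-/

namespace Cfsg.Agent.Lib.Helper25.ReflClass

open Module QuadraticMap Matrix Cfsg.Agent.Lib.Helper25.CD Cfsg.Agent.Lib.Helper25.Spin

section grp

variable {G : Type*} [Group G]

theorem braid_cube {a b : G} (ha : a * a = 1) (hb : b * b = 1) (h : a * b * a = b * a * b) :
    (a * b) ^ 3 = 1 := by
  have e : (a * b) ^ 3 = (a * b * a) * (b * a * b) := by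
    simp [pow_succ, mul_assoc]
  rw [e, h]
  calc b * a * b * (b * a * b) = b * a * (b * b) * a * b := by group
    _ = b * (a * a) * b := by rw [hb]; group
    _ = 1 := by rw [ha, mul_one, hb]

theorem braid_conj {a b : G} (ha : a * a = 1) (hb : b * b = 1) (h : a * b * a = b * a * b) :
    (a * b) * a * (a * b)⁻¹ = b := by
  have ha' : a⁻¹ = a := inv_eq_of_mul_eq_one_left ha
  have hb' : b⁻¹ = b := inv_eq_of_mul_eq_one_left hb
  rw [_root_.mul_inv_rev, ha', hb']
  calc a * b * a * (b * a) = (a * b * a) * b * a := by group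
    _ = b * a * (b * b) * a := by rw [h]; group
    _ = b * (a * a) := by rw [hb]; group
    _ = b := by rw [ha, mul_one]

end grp

section matrix2

variable {ι : Type} [Fintype ι] [DecidableEq ι] {F : Type*} [Field F]
  (Q : QuadraticForm F (ι → F))

theorem reflM_conj_reflM (u w : ι → F) :
    reflM Q u * reflM Q w * reflM Q u = reflM Q (reflE Q u w) := by
  have h := conj_reflM Q (reflM Q u) w
  have hinv : (reflM Q u)⁻¹ = reflM Q u := inv_eq_of_mul_eq_one_left (reflM_mul_self Q u)
  rw [hinv] at h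
  rw [h]
  congr 1
  rw [← toOG_apply, toOG_reflM]

theorem reflM_smul {a : F} (ha : a ≠ 0) (v : ι → F) : reflM Q (a • v) = reflM Q v := by
  apply toOG_injective
  rw [toOG_reflM, toOG_reflM, reflE_smul Q ha]

theorem reflM_comm_of_perp {u w : ι → F} (h : polar Q u w = 0) :
    reflM Q u * reflM Q w = reflM Q w * reflM Q u := by
  have h1 := reflM_conj_reflM Q u w
  rw [reflE_of_perp Q h] at h1
  calc reflM Q u * reflM Q w = reflM Q u * reflM Q w * (reflM Q u * reflM Q u) := by
        rw [reflM_mul_self, mul_one]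
    _ = (reflM Q u * reflM Q w * reflM Q u) * reflM Q u := by group
    _ = reflM Q w * reflM Q u := by rw [h1]

theorem reflM_braid {c ε : F} (hc : c ≠ 0) (hε : ε ^ 2 = 1) {u w : ι → F} (hu : Q u = c)
    (hw : Q w = c) (hB : polar Q u w = ε * c) :
    reflM Q u * reflM Q w * reflM Q u = reflM Q w * reflM Q u * reflM Q w := by
  rw [reflM_conj_reflM, reflM_conj_reflM]
  have hcc : c⁻¹ * (ε * c) = ε := by field_simp
  have e1 : reflE Q u w = w - ε • u := by
    rw [reflE_apply, hu, hB, hcc]
  have e2 : reflE Q w u = (-ε) • (w - ε • u) := by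
    rw [reflE_apply, hw, polar_comm, hB, hcc, smul_sub, smul_smul]
    have : -ε * ε = -1 := by linear_combination -hε
    rw [this]
    module
  have hε0 : -ε ≠ 0 := by
    intro h
    have : ε = 0 := neg_eq_zero.1 h
    rw [this] at hε
    simp at hε
  rw [e1, e2, reflM_smul Q hε0]

theorem reflM_ne_one (h2 : (2 : F) ≠ 0) {v : ι → F} (hv : Q v ≠ 0) : reflM Q v ≠ 1 := by
  intro h
  have h1 := det_reflectionMatrix Q h2 hv
  rw [← reflM_coe, h] at h1
  have h3 : (((1 : ↥(Cfsg.isometryGroup F ⇑Q)) : GL ι F) : Matrix ι ι F) = 1 := rfl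
  rw [h3, det_one] at h1
  apply h2
  linear_combination h1

end matrix2

section F3

variable {n : ℕ} (Q : QuadraticForm (ZMod 3) (Fin n → ZMod 3))

theorem sq_eq_one_zmod3 : ∀ t : ZMod 3, t ≠ 0 → t ^ 2 = 1 := by decide

/-- Over `𝔽₃`, two reflections of the same norm `c` are conjugate under the subgroup generated by
the reflections of norm `c` (dimension at least four). -/
theorem exists_conj_F3 (hn : 4 ≤ n) (hQ : (polarBilin Q).Nondegenerate) {c : ZMod 3} (hc : c ≠ 0)
    {u w : Fin n → ZMod 3} (hu : Q u = c) (hw : Q w = c) :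
    ∃ g ∈ Cfsg.reflectionSubgroup (⇑Q) c, g * reflM Q u * g⁻¹ = reflM Q w := by
  have h2 : (2 : ZMod 3) ≠ 0 := by decide
  have hmem : ∀ v : Fin n → ZMod 3, Q v = c → reflM Q v ∈ Cfsg.reflectionSubgroup (⇑Q) c :=
    fun v hv => Subgroup.subset_closure ⟨v, hv, reflM_coe Q v⟩
  have key : ∀ u w : Fin n → ZMod 3, Q u = c → Q w = c → polar Q u w ≠ 0 →
      ∃ g ∈ Cfsg.reflectionSubgroup (⇑Q) c, g * reflM Q u * g⁻¹ = reflM Q w := by
    intro u w hu hw hB
    refine ⟨reflM Q u * reflM Q w, mul_mem (hmem u hu) (hmem w hw), ?_⟩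
    apply braid_conj (reflM_mul_self Q u) (reflM_mul_self Q w)
    have hε : (polar Q u w / c) ^ 2 = 1 := sq_eq_one_zmod3 _ (div_ne_zero hB hc)
    apply reflM_braid Q hc hε hu hw
    field_simp
  by_cases hB : polar Q u w = 0
  · let v : Fin 2 → (Fin n → ZMod 3) := ![u, w]
    have hv : ∀ i, Q (v i) ≠ 0 := by
      intro i
      fin_cases i
      · show Q u ≠ 0
        rw [hu]; exact hc
      · show Q w ≠ 0
        rw [hw]; exact hc
    have hperp : ∀ i j, i ≠ j → polar Q (v i) (v j) = 0 := by
      intro i j hij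
      fin_cases i <;> fin_cases j
      · exact absurd rfl hij
      · exact hB
      · show polar Q w u = 0
        rw [polar_comm]; exact hB
      · exact absurd rfl hij
    have hdim : 2 + 2 ≤ finrank (ZMod 3) (Fin n → ZMod 3) := by
      rw [Module.finrank_fintype_fun_eq_card, Fintype.card_fin]
      exact hn
    obtain ⟨y, hy, hyv⟩ := exists_perp_rep Q h2 hQ v hv hperp hdim (-c)
    have hyu : polar Q u y = 0 := hyv 0
    have hyw : polar Q w y = 0 := hyv 1
    have hx : Q (u + w + y) = c := by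
      rw [QuadraticMap.map_add (⇑Q), QuadraticMap.map_add (⇑Q), polar_add_left, hu, hw, hy, hB,
        hyu, hyw]
      ring
    have h2c : 2 * c ≠ 0 := mul_ne_zero h2 hc
    have hux : polar Q u (u + w + y) ≠ 0 := by
      rw [polar_add_right, polar_add_right, polar_self', hu, hB, hyu]
      simpa using h2c
    have hxw : polar Q (u + w + y) w ≠ 0 := by
      rw [polar_add_left, polar_add_left, polar_self', hw, hB, polar_comm Q y w, hyw]
      simpa using h2c
    obtain ⟨g1, hg1, h1⟩ := key u (u + w + y) hu hx hux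
    obtain ⟨g2, hg2, h2'⟩ := key (u + w + y) w hx hw hxw
    refine ⟨g2 * g1, mul_mem hg2 hg1, ?_⟩
    rw [← h2', ← h1]
    group
  · exact key u w hu hw hB

end F3

end Cfsg.Agent.Lib.Helper25.ReflClass
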