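import Cfsg.Agent.Lib.Helper25.OmegaTrans
import Cfsg.Agent.Lib.Helper25.ReflF3

set_option autoImplicit false

/-!
# Siegel transformations (long root elements) and the generation of `Ω` in odd characteristic
-/

namespace Cfsg.Agent.Lib.Helper25.Siegel

open Module QuadraticMap Matrix Cfsg.Agent.Lib.Helper25.CD Cfsg.Agent.Lib.Helper25.Spin

section general

variable {F : Type*} [Field F] {V : Type*} [AddCommGroup V] [Module F V] (Q : QuadraticForm F V)

/-- The Siegel transformation `x ↦ x + c (f(u,x) v - f(v,x) u)`. -/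
def siegF (u v : V) (c : F) (x : V) : V := x + c • (polar Q u x • v - polar Q v x • u)

theorem polar_self'' (u : V) : polar Q u u = 2 * Q u := by
  rw [polar_self]; simp

theorem Q_siegF {u v : V} (hu : Q u = 0) (hv : Q v = 0) (huv : polar Q u v = 0) (c : F) (x : V) :
    Q (siegF Q u v c x) = Q x := by
  unfold siegF
  have e : x + c • (polar Q u x • v - polar Q v x • u) =
      x + ((c * polar Q u x) • v + (-(c * polar Q v x)) • u) := by module
  rw [e, QuadraticMap.map_add (⇑Q), ReflClass.Q_lin, hu, hv, polar_comm Q v u, huv,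
    ReflClass.polar_lin_right, polar_comm Q x v, polar_comm Q x u]
  ring

theorem polar_siegF_left {u v : V} (hu : Q u = 0) (huv : polar Q u v = 0) (c : F) (x : V) :
    polar Q u (siegF Q u v c x) = polar Q u x := by
  unfold siegF
  rw [polar_add_right, polar_smul_right, polar_sub_right, polar_smul_right, polar_smul_right,
    huv, polar_self'', hu]
  simp

theorem polar_siegF_right {u v : V} (hv : Q v = 0) (huv : polar Q u v = 0) (c : F) (x : V) :
    polar Q v (siegF Q u v c x) = polar Q v x := by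
  unfold siegF
  rw [polar_add_right, polar_smul_right, polar_sub_right, polar_smul_right, polar_smul_right,
    polar_comm Q v u, huv, polar_self'', hv]
  simp

theorem siegF_siegF {u v : V} (hu : Q u = 0) (hv : Q v = 0) (huv : polar Q u v = 0) (c d : F)
    (x : V) : siegF Q u v c (siegF Q u v d x) = siegF Q u v (c + d) x := by
  rw [siegF, polar_siegF_left Q hu huv, polar_siegF_right Q hv huv]
  unfold siegF
  module

theorem siegF_zero (u v x : V) : siegF Q u v 0 x = x := by
  unfold siegF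
  simp

/-- The product `r_a r_{a+s}` for a nonsingular `a` and a singular `s ⊥ a`. -/
theorem refl_pair_apply' {a s : V} {k : F} (hk : k ≠ 0) (ha : Q a = k) (hs : Q s = 0)
    (has : polar Q a s = 0) (x : V) :
    reflE Q a (reflE Q (a + s) x) =
      x + (k⁻¹ * polar Q s x) • a - (k⁻¹ * (polar Q a x + polar Q s x)) • s := by
  have hb : Q (a + s) = k := by
    rw [QuadraticMap.map_add (⇑Q), ha, hs, has]
    ring
  rw [reflE_apply Q (a + s), hb, reflE_apply, ha]
  simp only [polar_sub_right, polar_smul_right, polar_add_left, polar_add_right,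
    polar_self'', smul_eq_mul, ha, hs, has, polar_comm Q s a]
  match_scalars <;> field_simp <;> ring

/-- `r_a r_{a+s}` is the product of two long root elements when `a = v₁ + v₂` with `v₁, v₂`
singular and orthogonal to `s`. -/
theorem refl_pair_eq_sieg {s v₁ v₂ : V} {k : F} (hk : k ≠ 0) (hs : Q s = 0) (h1 : Q v₁ = 0)
    (h2 : Q v₂ = 0) (hs1 : polar Q s v₁ = 0) (hs2 : polar Q s v₂ = 0)
    (h12 : polar Q v₁ v₂ = k) (x : V) :
    reflE Q (v₁ + v₂) (reflE Q (v₁ + v₂ + s) x) =
      siegF Q s v₁ k⁻¹ (siegF Q s v₂ k⁻¹ x) := by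
  have ha : Q (v₁ + v₂) = k := by
    rw [QuadraticMap.map_add (⇑Q), h1, h2, h12]
    ring
  have has : polar Q (v₁ + v₂) s = 0 := by
    rw [polar_add_left, polar_comm Q v₁ s, polar_comm Q v₂ s, hs1, hs2, add_zero]
  rw [refl_pair_apply' Q hk ha hs has]
  rw [siegF, polar_siegF_left Q hs hs2]
  unfold siegF
  simp only [polar_add_right, polar_smul_right, polar_sub_right, polar_add_left, smul_eq_mul,
    polar_comm Q v₁ s, hs1, h12, polar_self'', h1]
  match_scalars <;> field_simp <;> ring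

end general

section matrix

variable {ι : Type} [Fintype ι] [DecidableEq ι] {F : Type*} [Field F]
  (Q : QuadraticForm F (ι → F))

theorem siegelMatrix_mulVec (u v : ι → F) (c : F) (x : ι → F) :
    Cfsg.siegelMatrix ⇑Q u v c *ᵥ x = siegF Q u v c x := by
  unfold Cfsg.siegelMatrix siegF
  rw [Matrix.add_mulVec, Matrix.one_mulVec, Matrix.smul_mulVec, Matrix.sub_mulVec,
    Matrix.vecMulVec_mulVec, Matrix.vecMulVec_mulVec, polarVec_dot, polarVec_dot,
    op_smul_eq_smul, op_smul_eq_smul]

theorem siegelMatrix_mul {u v : ι → F} (hu : Q u = 0) (hv : Q v = 0) (huv : polar Q u v = 0)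
    (c d : F) :
    Cfsg.siegelMatrix ⇑Q u v c * Cfsg.siegelMatrix ⇑Q u v d =
      Cfsg.siegelMatrix ⇑Q u v (c + d) := by
  apply Matrix.toLin'.injective
  apply LinearMap.ext
  intro x
  rw [Matrix.toLin'_apply, Matrix.toLin'_apply, ← Matrix.mulVec_mulVec, siegelMatrix_mulVec,
    siegelMatrix_mulVec, siegelMatrix_mulVec, siegF_siegF Q hu hv huv]

theorem siegelMatrix_zero (u v : ι → F) : Cfsg.siegelMatrix ⇑Q u v 0 = 1 := by
  unfold Cfsg.siegelMatrix
  simp

/-- The long root element as an element of the isometry group. -/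
noncomputable def siegG (u v : ι → F) (c : F) (hu : Q u = 0) (hv : Q v = 0)
    (huv : polar Q u v = 0) : ↥(Cfsg.isometryGroup F ⇑Q) :=
  ⟨⟨Cfsg.siegelMatrix ⇑Q u v c, Cfsg.siegelMatrix ⇑Q u v (-c),
    by rw [siegelMatrix_mul Q hu hv huv, add_neg_cancel, siegelMatrix_zero],
    by rw [siegelMatrix_mul Q hu hv huv, neg_add_cancel, siegelMatrix_zero]⟩, by
    rw [mem_iso_iff]
    intro x
    rw [toLE_apply]
    show Q (Cfsg.siegelMatrix ⇑Q u v c *ᵥ x) = Q x
    rw [siegelMatrix_mulVec, Q_siegF Q hu hv huv]⟩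

theorem siegG_coe (u v : ι → F) (c : F) (hu : Q u = 0) (hv : Q v = 0) (huv : polar Q u v = 0) :
    ((siegG Q u v c hu hv huv : GL ι F) : Matrix ι ι F) = Cfsg.siegelMatrix ⇑Q u v c := rfl

theorem toOG_siegG (u v : ι → F) (c : F) (hu : Q u = 0) (hv : Q v = 0) (huv : polar Q u v = 0)
    (x : ι → F) : toOG Q (siegG Q u v c hu hv huv) x = siegF Q u v c x := by
  rw [toOG_apply, siegG_coe, siegelMatrix_mulVec]

theorem eq_siegG_of_coe {g : ↥(Cfsg.isometryGroup F ⇑Q)} {u v : ι → F} {c : F} (hu : Q u = 0)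
    (hv : Q v = 0) (huv : polar Q u v = 0)
    (h : ((g : GL ι F) : Matrix ι ι F) = Cfsg.siegelMatrix ⇑Q u v c) :
    g = siegG Q u v c hu hv huv :=
  Subtype.ext (Units.ext h)

/-- The set of long root elements. -/
def rootSet : Set ↥(Cfsg.isometryGroup F ⇑Q) :=
  {g | ∃ (u v : ι → F) (c : F), Q u = 0 ∧ Q v = 0 ∧ polar Q u v = 0 ∧
    ((g : GL ι F) : Matrix ι ι F) = Cfsg.siegelMatrix ⇑Q u v c}

theorem siegG_mem (u v : ι → F) (c : F) (hu : Q u = 0) (hv : Q v = 0) (huv : polar Q u v = 0) :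
    siegG Q u v c hu hv huv ∈ rootSet Q :=
  ⟨u, v, c, hu, hv, huv, rfl⟩

theorem siegG_sq (u v : ι → F) (c : F) (hu : Q u = 0) (hv : Q v = 0) (huv : polar Q u v = 0) :
    siegG Q u v c hu hv huv * siegG Q u v c hu hv huv = siegG Q u v (c + c) hu hv huv := by
  apply Subtype.ext
  apply Units.ext
  show Cfsg.siegelMatrix ⇑Q u v c * Cfsg.siegelMatrix ⇑Q u v c = _
  rw [siegelMatrix_mul Q hu hv huv]
  rfl

/-- Conjugates of long root elements are long root elements. -/
theorem conj_siegG (k : ↥(Cfsg.isometryGroup F ⇑Q)) (u v : ι → F) (c : F) (hu : Q u = 0)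
    (hv : Q v = 0) (huv : polar Q u v = 0) :
    k * siegG Q u v c hu hv huv * k⁻¹ ∈ rootSet Q := by
  have hk : ∀ x, Q (toOG Q k x) = Q x := toOG_mem_OG Q k
  have hpol : ∀ x y, polar Q (toOG Q k x) (toOG Q k y) = polar Q x y :=
    polar_of_iso Q hk
  have hu' : Q (toOG Q k u) = 0 := by rw [hk, hu]
  have hv' : Q (toOG Q k v) = 0 := by rw [hk, hv]
  have huv' : polar Q (toOG Q k u) (toOG Q k v) = 0 := by rw [hpol, huv]
  have e : k * siegG Q u v c hu hv huv * k⁻¹ =
      siegG Q (toOG Q k u) (toOG Q k v) c hu' hv' huv' := by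
    apply toOG_injective
    ext1 x
    rw [map_mul, map_mul, map_inv, LinearEquiv.mul_apply, LinearEquiv.mul_apply, toOG_siegG,
      toOG_siegG]
    unfold siegF
    have h1 : polar Q (toOG Q k u) x = polar Q u ((toOG Q k)⁻¹ x) := by
      have := hpol u ((toOG Q k)⁻¹ x)
      rw [apply_inv_self'] at this
      exact this
    have h2 : polar Q (toOG Q k v) x = polar Q v ((toOG Q k)⁻¹ x) := by
      have := hpol v ((toOG Q k)⁻¹ x)
      rw [apply_inv_self'] at this
      exact this
    rw [h1, h2, map_add, map_smul, map_sub, map_smul, map_smul, apply_inv_self']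
  rw [e]
  exact siegG_mem Q _ _ c hu' hv' huv'

theorem rootSet_normal : (Subgroup.closure (rootSet Q)).Normal := by
  constructor
  intro n hn g
  induction hn using Subgroup.closure_induction with
  | mem x hx =>
    obtain ⟨u, v, c, hu, hv, huv, hx⟩ := hx
    rw [eq_siegG_of_coe Q hu hv huv hx]
    exact Subgroup.subset_closure (conj_siegG Q g u v c hu hv huv)
  | one =>
    rw [mul_one, mul_inv_cancel]
    exact one_mem _
  | mul a b _ _ ha hb =>
    have : g * (a * b) * g⁻¹ = (g * a * g⁻¹) * (g * b * g⁻¹) := by group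
    rw [this]
    exact mul_mem ha hb
  | inv a _ ha =>
    have : g * a⁻¹ * g⁻¹ = (g * a * g⁻¹)⁻¹ := by group
    rw [this]
    exact inv_mem ha

end matrix

section odd

variable {ι : Type} [Fintype ι] [DecidableEq ι] {F : Type*} [Field F] [Fintype F]
  (Q : QuadraticForm F (ι → F))

theorem sq_mem_omega (h2 : (2 : F) ≠ 0) (hQ : (polarBilin Q).Nondegenerate)
    (g : ↥(Cfsg.isometryGroup F ⇑Q)) : g * g ∈ Cfsg.Omega F ⇑Q := by
  obtain ⟨vs, hvs, rfl⟩ := exists_word Q h2 hQ g
  have hall : ∀ v ∈ vs ++ vs, Q v ≠ 0 := by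
    intro v hv
    rcases List.mem_append.1 hv with h | h <;> exact hvs v h
  rw [← wordG_append, mem_omega_iff Q h2 hQ hall]
  refine ⟨?_, ?_⟩
  · rw [List.length_append]
    exact ⟨_, rfl⟩
  · rw [normProd_append]
    exact ⟨_, rfl⟩

theorem rootSet_le_omega (h2 : (2 : F) ≠ 0) (hQ : (polarBilin Q).Nondegenerate) :
    Subgroup.closure (rootSet Q) ≤ Cfsg.Omega F ⇑Q := by
  rw [Subgroup.closure_le]
  rintro g ⟨u, v, c, hu, hv, huv, hg⟩
  rw [eq_siegG_of_coe Q hu hv huv hg]
  have hc : c / 2 + c / 2 = c := by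
    field_simp
    ring
  have e : siegG Q u v c hu hv huv =
      siegG Q u v (c / 2) hu hv huv * siegG Q u v (c / 2) hu hv huv := by
    rw [siegG_sq]
    apply Subtype.ext
    apply Units.ext
    show Cfsg.siegelMatrix ⇑Q u v c = Cfsg.siegelMatrix ⇑Q u v (c / 2 + c / 2)
    rw [hc]
  rw [e]
  exact sq_mem_omega Q h2 hQ _

/-- `r_a r_{a+s}` is a product of two long root elements. -/
theorem pair_mem_root (h2 : (2 : F) ≠ 0) (hQ : (polarBilin Q).Nondegenerate)
    (hn : 5 ≤ Fintype.card ι) {a s : ι → F} (ha : Q a ≠ 0) (hs : Q s = 0)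
    (has : polar Q a s = 0) :
    reflM Q a * reflM Q (a + s) ∈ Subgroup.closure (rootSet Q) := by
  by_cases hs0 : s = 0
  · rw [hs0, add_zero, reflM_mul_self]
    exact one_mem _
  obtain ⟨s', hs'Q, hss', has'⟩ := ReflClass.exists_partner Q h2 hQ ha hs0 hs has
  obtain ⟨k, hk⟩ : ∃ k, k = Q a := ⟨_, rfl⟩
  rw [← hk] at ha
  have hQp : Q (s + s') = 1 := by
    rw [QuadraticMap.map_add (⇑Q), hs, hs'Q, hss']
    ring
  have hQm : Q (s - s') = -1 := by
    rw [sub_eq_add_neg, QuadraticMap.map_add (⇑Q), QuadraticMap.map_neg, polar_neg_right, hs,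
      hs'Q, hss']
    ring
  have h12 : polar Q a (s + s') = 0 := by
    rw [polar_add_right, has, has', add_zero]
  have h13 : polar Q a (s - s') = 0 := by
    rw [polar_sub_right, has, has', sub_zero]
  have h23 : polar Q (s + s') (s - s') = 0 := by
    rw [polar_add_left, polar_sub_right, polar_sub_right, polar_self'', polar_self'', hs, hs'Q,
      polar_comm Q s' s, hss']
    ring
  let v : Fin 3 → (ι → F) := ![a, s + s', s - s']
  have hv : ∀ i, Q (v i) ≠ 0 := by
    intro i
    fin_cases i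
    · show Q a ≠ 0
      rw [← hk]; exact ha
    · show Q (s + s') ≠ 0
      rw [hQp]
      exact one_ne_zero
    · show Q (s - s') ≠ 0
      rw [hQm]
      exact neg_ne_zero.2 one_ne_zero
  have hperp : ∀ i j, i ≠ j → polar Q (v i) (v j) = 0 := by
    intro i j hij
    fin_cases i <;> fin_cases j
    · exact absurd rfl hij
    · exact h12
    · exact h13
    · show polar Q (s + s') a = 0
      rw [polar_comm]
      exact h12
    · exact absurd rfl hij
    · exact h23
    · show polar Q (s - s') a = 0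
      rw [polar_comm]
      exact h13
    · show polar Q (s - s') (s + s') = 0
      rw [polar_comm]
      exact h23
    · exact absurd rfl hij
  have hdim : 3 + 2 ≤ finrank F (ι → F) := by
    rw [Module.finrank_fintype_fun_eq_card]
    exact hn
  obtain ⟨y, hQy, hy⟩ := ReflClass.exists_perp_rep Q h2 hQ v hv hperp hdim (-k)
  have hay : polar Q a y = 0 := hy 0
  have hp : polar Q (s + s') y = 0 := hy 1
  have hm : polar Q (s - s') y = 0 := hy 2
  rw [polar_add_left] at hp
  rw [polar_sub_left] at hm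
  have hsy : polar Q s y = 0 := by
    have e : 2 * polar Q s y = 0 := by linear_combination hp + hm
    rcases mul_eq_zero.1 e with h | h
    · exact absurd h h2
    · exact h
  -- the singular vector `w = a + y`
  have hQw : Q (a + y) = 0 := by
    rw [QuadraticMap.map_add (⇑Q), ← hk, hQy, hay]
    ring
  have haw : polar Q a (a + y) = 2 * k := by
    rw [polar_add_right, polar_self'', hay, ← hk]
    ring
  have hsw : polar Q s (a + y) = 0 := by
    rw [polar_add_right, polar_comm Q s a, has, hsy, add_zero]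
  obtain ⟨v₁, hv₁⟩ : ∃ v₁, v₁ = (2 : F)⁻¹ • (a + y) := ⟨_, rfl⟩
  obtain ⟨v₂, hv₂⟩ : ∃ v₂, v₂ = a - v₁ := ⟨_, rfl⟩
  have hQv₁ : Q v₁ = 0 := by
    rw [hv₁, QuadraticMap.map_smul, hQw, smul_zero]
  have hav₁ : polar Q a v₁ = k := by
    rw [hv₁, polar_smul_right, haw, smul_eq_mul]
    field_simp
  have hsv₁ : polar Q s v₁ = 0 := by
    rw [hv₁, polar_smul_right, hsw, smul_zero]
  have hQv₂ : Q v₂ = 0 := by
    rw [hv₂, sub_eq_add_neg, QuadraticMap.map_add (⇑Q), QuadraticMap.map_neg, polar_neg_right,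
      hQv₁, hav₁, ← hk]
    ring
  have hsv₂ : polar Q s v₂ = 0 := by
    rw [hv₂, polar_sub_right, polar_comm Q s a, has, hsv₁, sub_zero]
  have hv₁₂ : polar Q v₁ v₂ = k := by
    rw [hv₂, polar_sub_right, polar_comm Q v₁ a, hav₁, polar_self'', hQv₁]
    ring
  have hav : a = v₁ + v₂ := by
    rw [hv₂]
    abel
  have e : reflM Q a * reflM Q (a + s) =
      siegG Q s v₁ k⁻¹ hs hQv₁ hsv₁ * siegG Q s v₂ k⁻¹ hs hQv₂ hsv₂ := by
    apply toOG_injective
    ext1 x
    rw [map_mul, map_mul, toOG_reflM, toOG_reflM, LinearEquiv.mul_apply, LinearEquiv.mul_apply,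
      toOG_siegG, toOG_siegG, hav]
    exact refl_pair_eq_sieg Q ha hs hQv₁ hQv₂ hsv₁ hsv₂ hv₁₂ x
  rw [e]
  exact mul_mem (Subgroup.subset_closure (siegG_mem Q _ _ _ hs hQv₁ hsv₁))
    (Subgroup.subset_closure (siegG_mem Q _ _ _ hs hQv₂ hsv₂))

/-- `r_a r_b ∈ ⟨root elements⟩` when `Q a = Q b ≠ 0` and `b - a` is singular. -/
theorem pair_same_norm_aux (h2 : (2 : F) ≠ 0) (hQ : (polarBilin Q).Nondegenerate)
    (hn : 5 ≤ Fintype.card ι) {a b : ι → F} {c : F} (hc : c ≠ 0) (ha : Q a = c) (hb : Q b = c)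
    (hab : Q (b - a) = 0) :
    reflM Q a * reflM Q b ∈ Subgroup.closure (rootSet Q) := by
  have hpol : polar Q a b = 2 * c := by
    have e : Q (b - a) = Q b + Q a - polar Q a b := by
      rw [sub_eq_add_neg, QuadraticMap.map_add (⇑Q), QuadraticMap.map_neg, polar_neg_right,
        polar_comm Q b a]
      ring
    rw [hab, ha, hb] at e
    linear_combination e
  have hs : polar Q a (b - a) = 0 := by
    rw [polar_sub_right, polar_self'', hpol, ha]
    ring
  have h := pair_mem_root Q h2 hQ hn (a := a) (s := b - a) (by rw [ha]; exact hc) hab hs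
  rwa [add_sub_cancel] at h

/-- `r_a r_b ∈ ⟨root elements⟩` when `Q a = Q b ≠ 0`. -/
theorem pair_same_norm (h2 : (2 : F) ≠ 0) (hQ : (polarBilin Q).Nondegenerate)
    (hn : 5 ≤ Fintype.card ι) {a b : ι → F} {c : F} (hc : c ≠ 0) (ha : Q a = c) (hb : Q b = c) :
    reflM Q a * reflM Q b ∈ Subgroup.closure (rootSet Q) := by
  by_cases h1 : Q (b - a) = 0
  · exact pair_same_norm_aux Q h2 hQ hn hc ha hb h1
  by_cases h3 : Q (b + a) = 0
  · have e : reflM Q b = reflM Q (-b) := by
      have := ReflClass.reflM_smul Q (a := (-1 : F)) (neg_ne_zero.2 one_ne_zero) b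
      rw [neg_one_smul] at this
      exact this.symm
    rw [e]
    refine pair_same_norm_aux Q h2 hQ hn hc ha (by rw [QuadraticMap.map_neg]; exact hb) ?_
    have e2 : -b - a = -(b + a) := by abel
    rw [e2, QuadraticMap.map_neg]
    exact h3
  obtain ⟨β, hβ⟩ : ∃ β, β = polar Q a b := ⟨_, rfl⟩
  have hp : Q (b + a) = 2 * c + β := by
    rw [QuadraticMap.map_add (⇑Q), ha, hb, polar_comm Q b a, ← hβ]
    ring
  have hm : Q (b - a) = 2 * c - β := by
    rw [sub_eq_add_neg, QuadraticMap.map_add (⇑Q), QuadraticMap.map_neg, polar_neg_right,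
      polar_comm Q b a, ha, hb, ← hβ]
    ring
  have hD : 2 * c + β ≠ 0 := by rw [← hp]; exact h3
  have hpm : polar Q (b + a) (b - a) = 0 := by
    rw [polar_add_left, polar_sub_right, polar_sub_right, polar_self'', polar_self'', ha, hb,
      polar_comm Q b a]
    ring
  let v : Fin 2 → (ι → F) := ![b + a, b - a]
  have hv : ∀ i, Q (v i) ≠ 0 := by
    intro i
    fin_cases i
    · exact h3
    · exact h1
  have hperp : ∀ i j, i ≠ j → polar Q (v i) (v j) = 0 := by
    intro i j hij
    fin_cases i <;> fin_cases j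
    · exact absurd rfl hij
    · exact hpm
    · show polar Q (b - a) (b + a) = 0
      rw [polar_comm]
      exact hpm
    · exact absurd rfl hij
  have hdim : 2 + 2 ≤ finrank F (ι → F) := by
    rw [Module.finrank_fintype_fun_eq_card]
    omega
  obtain ⟨y, hQy, hy⟩ := ReflClass.exists_perp_rep Q h2 hQ v hv hperp hdim
    (c * (β - 2 * c) / (2 * c + β))
  have hy0 : polar Q (b + a) y = 0 := hy 0
  have hy1 : polar Q (b - a) y = 0 := hy 1
  rw [polar_add_left] at hy0
  rw [polar_sub_left] at hy1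
  have hby : polar Q b y = 0 := by
    have e : 2 * polar Q b y = 0 := by linear_combination hy0 + hy1
    rcases mul_eq_zero.1 e with h | h
    · exact absurd h h2
    · exact h
  have hay : polar Q a y = 0 := by
    rw [hby, zero_add] at hy0
    exact hy0
  obtain ⟨x, hx⟩ : ∃ x, x = (2 * c / (2 * c + β)) • (b + a) + y := ⟨_, rfl⟩
  have hQx : Q x = c := by
    rw [hx, QuadraticMap.map_add (⇑Q), QuadraticMap.map_smul, polar_smul_left, polar_add_left,
      hby, hay, hp, hQy, smul_eq_mul, smul_eq_mul]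
    field_simp
    ring
  have hax : polar Q a x = 2 * c := by
    rw [hx, polar_add_right, polar_smul_right, polar_add_right, polar_self'', ha, hay, ← hβ,
      smul_eq_mul]
    field_simp
    ring
  have hbx : polar Q b x = 2 * c := by
    rw [hx, polar_add_right, polar_smul_right, polar_add_right, polar_self'', hb, hby,
      polar_comm Q b a, ← hβ, smul_eq_mul]
    field_simp
    ring
  have hxa : Q (x - a) = 0 := by
    rw [sub_eq_add_neg, QuadraticMap.map_add (⇑Q), QuadraticMap.map_neg, polar_neg_right,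
      polar_comm Q x a, hax, hQx, ha]
    ring
  have hbx' : Q (b - x) = 0 := by
    rw [sub_eq_add_neg, QuadraticMap.map_add (⇑Q), QuadraticMap.map_neg, polar_neg_right,
      hbx, hQx, hb]
    ring
  have m1 := pair_same_norm_aux Q h2 hQ hn hc ha hQx hxa
  have m2 := pair_same_norm_aux Q h2 hQ hn hc hQx hb hbx'
  have e : reflM Q a * reflM Q b = (reflM Q a * reflM Q x) * (reflM Q x * reflM Q b) := by
    rw [mul_assoc, ← mul_assoc (reflM Q x), reflM_mul_self, one_mul]
  rw [e]
  exact mul_mem m1 m2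

/-- `Ω ≤ ⟨root elements⟩` in odd characteristic, `n ≥ 5`. -/
theorem omega_le_root (h2 : (2 : F) ≠ 0) (hQ : (polarBilin Q).Nondegenerate)
    (hn : 5 ≤ Fintype.card ι) :
    Cfsg.Omega F ⇑Q ≤ Subgroup.closure (rootSet Q) := by
  haveI := rootSet_normal Q
  obtain ⟨S, hS⟩ : ∃ S, S = Subgroup.closure (rootSet Q) := ⟨_, rfl⟩
  rw [← hS]
  haveI : S.Normal := by rw [hS]; infer_instance
  have hsame : ∀ a b : ι → F, Q a ≠ 0 → Q b = Q a →
      (QuotientGroup.mk' S) (reflM Q a) = (QuotientGroup.mk' S) (reflM Q b) := by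
    intro a b ha hb
    have hm : reflM Q a * reflM Q b ∈ S := by
      rw [hS]
      exact pair_same_norm Q h2 hQ hn ha rfl hb
    have h1 : (QuotientGroup.mk' S) (reflM Q a * reflM Q b) = 1 :=
      (QuotientGroup.eq_one_iff _).2 hm
    rw [map_mul] at h1
    have h2' : (QuotientGroup.mk' S) (reflM Q b) * (QuotientGroup.mk' S) (reflM Q b) = 1 := by
      rw [← map_mul, reflM_mul_self, map_one]
    calc (QuotientGroup.mk' S) (reflM Q a)
        = (QuotientGroup.mk' S) (reflM Q a) * ((QuotientGroup.mk' S) (reflM Q b) *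
            (QuotientGroup.mk' S) (reflM Q b)) := by rw [h2', mul_one]
      _ = (QuotientGroup.mk' S) (reflM Q b) := by rw [← mul_assoc, h1, one_mul]
  have hkey : ∀ a b : ι → F, Q a ≠ 0 → Q b ≠ 0 →
      (QuotientGroup.mk' S) (reflM Q a) * (QuotientGroup.mk' S) (reflM Q b) =
      (QuotientGroup.mk' S) (reflM Q b) * (QuotientGroup.mk' S) (reflM Q a) := by
    intro a b ha hb
    have hdim : 1 + 2 ≤ finrank F (ι → F) := by
      rw [Module.finrank_fintype_fun_eq_card]
      omega
    obtain ⟨b', hQb', hb'⟩ := ReflClass.exists_perp_rep Q h2 hQ (![a] : Fin 1 → (ι → F))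
      (fun i => by fin_cases i; exact ha)
      (fun i j hij => absurd (Subsingleton.elim i j) hij) hdim (Q b)
    have hab' : polar Q a b' = 0 := hb' 0
    rw [hsame b b' hb hQb', ← map_mul, ← map_mul, ReflClass.reflM_comm_of_perp Q hab']
  have hgen : Subgroup.closure ((QuotientGroup.mk' S) '' reflSet Q) = ⊤ := by
    rw [← MonoidHom.map_closure, reflSet_closure Q hQ (Or.inl (card_ne_two h2)),
      ← MonoidHom.range_eq_map, MonoidHom.range_eq_top]
    exact QuotientGroup.mk'_surjective S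
  have hk : ∀ x ∈ (QuotientGroup.mk' S) '' reflSet Q, ∀ y ∈ (QuotientGroup.mk' S) '' reflSet Q,
      x * y = y * x := by
    rintro _ ⟨r, hr, rfl⟩ _ ⟨r', hr', rfl⟩
    obtain ⟨u, hu, rfl⟩ := (mem_reflSet_iff Q r).1 hr
    obtain ⟨w, hw, rfl⟩ := (mem_reflSet_iff Q r').1 hr'
    exact hkey u w hu hw
  have hcomm : ∀ x y : ↥(Cfsg.isometryGroup F ⇑Q) ⧸ S, x * y = y * x := by
    intro x y
    have hcc := Subgroup.closure_le_centralizer_centralizer ((QuotientGroup.mk' S) '' reflSet Q)
    rw [hgen] at hcc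
    exact Set.centralizer_centralizer_comm_of_comm hk x (hcc (Subgroup.mem_top x)) y
      (hcc (Subgroup.mem_top y))
  unfold Cfsg.Omega
  rw [commutator_def, Subgroup.commutator_le]
  intro g _ h _
  rw [← QuotientGroup.eq_one_iff (N := S), commutatorElement_def]
  show (QuotientGroup.mk' S) (g * h * g⁻¹ * h⁻¹) = 1
  rw [map_mul, map_mul, map_mul, map_inv, map_inv, hcomm ((QuotientGroup.mk' S) g)]
  group

/-- `Ω` is generated by the long root elements (odd `q`, `n ≥ 5`). -/
theorem omega_eq_root (h2 : (2 : F) ≠ 0) (hQ : (polarBilin Q).Nondegenerate)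
    (hn : 5 ≤ Fintype.card ι) :
    Cfsg.Omega F ⇑Q = Subgroup.closure (rootSet Q) :=
  le_antisymm (omega_le_root Q h2 hQ hn) (rootSet_le_omega Q h2 hQ)

end odd

end Cfsg.Agent.Lib.Helper25.Siegel
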