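import Cfsg.Agent.Lib.Helper25.SpinNorm

set_option autoImplicit false

/-!
# The spinor norm for matrix isometry groups over finite fields of odd characteristic

Words of reflections in `Cfsg.isometryGroup F Q`; `Ω` (the commutator subgroup) consists of the
words of even length whose product of norms is a square; its index is four.
-/

namespace Cfsg.Agent.Lib.Helper25.Spin

open Module QuadraticMap Matrix Cfsg.Agent.Lib.Helper25.CD

section words

variable {ι : Type} [Fintype ι] [DecidableEq ι] {F : Type*} [Field F]
  (Q : QuadraticForm F (ι → F))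

/-- The product of reflections along a list of vectors, in the matrix isometry group. -/
noncomputable def wordG (vs : List (ι → F)) : ↥(Cfsg.isometryGroup F ⇑Q) :=
  (vs.map (reflM Q)).prod

theorem wordG_nil : wordG Q [] = 1 := rfl

theorem wordG_cons (v : ι → F) (vs : List (ι → F)) :
    wordG Q (v :: vs) = reflM Q v * wordG Q vs := by
  simp [wordG]

theorem wordG_append (vs ws : List (ι → F)) : wordG Q (vs ++ ws) = wordG Q vs * wordG Q ws := by
  simp [wordG]

theorem wordG_singleton (v : ι → F) : wordG Q [v] = reflM Q v := by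
  simp [wordG]

theorem toOG_wordG (vs : List (ι → F)) : toOG Q (wordG Q vs) = wordProd Q vs := by
  induction vs with
  | nil => rw [wordG_nil, map_one, wordProd_nil]
  | cons v vs ih => rw [wordG_cons, map_mul, toOG_reflM, ih, wordProd_cons]

theorem wordG_coe (vs : List (ι → F)) :
    ((wordG Q vs : GL ι F) : Matrix ι ι F) =
      (vs.map (fun v => Cfsg.reflectionMatrix ⇑Q v)).prod := by
  induction vs with
  | nil => rfl
  | cons v vs ih =>
    rw [wordG_cons, List.map_cons, List.prod_cons, ← ih, ← reflM_coe]
    rfl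

theorem wordG_inv (vs : List (ι → F)) : (wordG Q vs)⁻¹ = wordG Q vs.reverse := by
  apply toOG_injective
  rw [map_inv, toOG_wordG, toOG_wordG, wordProd_inv]

theorem eq_wordG_of_coe {g : ↥(Cfsg.isometryGroup F ⇑Q)} {vs : List (ι → F)}
    (h : ((g : GL ι F) : Matrix ι ι F) = (vs.map (fun v => Cfsg.reflectionMatrix ⇑Q v)).prod) :
    g = wordG Q vs := by
  apply Subtype.ext
  apply Units.ext
  rw [h, wordG_coe]

theorem det_reflectionMatrix (h2 : (2 : F) ≠ 0) {v : ι → F} (hv : Q v ≠ 0) :
    (Cfsg.reflectionMatrix ⇑Q v).det = -1 := by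
  have h1 : Cfsg.reflectionMatrix ⇑Q v =
      1 + replicateCol Unit (-(Q v)⁻¹ • v) * replicateRow Unit (Cfsg.polarVec ⇑Q v) := by
    ext i j
    simp [Cfsg.reflectionMatrix, vecMulVec_apply, Matrix.mul_apply, sub_eq_add_neg, mul_assoc]
  rw [h1, det_one_add_replicateCol_mul_replicateRow, dotProduct_smul, polarVec_dot, polar_self,
    smul_eq_mul]
  simp only [nsmul_eq_mul, Nat.cast_ofNat]
  field_simp
  ring

theorem det_wordG (h2 : (2 : F) ≠ 0) {vs : List (ι → F)} (hvs : ∀ v ∈ vs, Q v ≠ 0) :
    ((wordG Q vs : GL ι F) : Matrix ι ι F).det = (-1) ^ vs.length := by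
  induction vs with
  | nil => simp [wordG_nil]
  | cons v vs ih =>
    have e : ((wordG Q (v :: vs) : GL ι F) : Matrix ι ι F) =
        Cfsg.reflectionMatrix ⇑Q v * ((wordG Q vs : GL ι F) : Matrix ι ι F) := by
      rw [wordG_cons, ← reflM_coe]
      rfl
    rw [e, det_mul, det_reflectionMatrix Q h2 (hvs v (List.mem_cons_self ..)),
      ih (fun w hw => hvs w (List.mem_cons_of_mem _ hw)), List.length_cons, pow_succ]
    ring

/-- Well-definedness of parity and spinor norm for words representing the identity. -/
theorem wd (h2 : (2 : F) ≠ 0) (hQ : (polarBilin Q).Nondegenerate) {vs : List (ι → F)}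
    (hvs : ∀ v ∈ vs, Q v ≠ 0) (h1 : wordG Q vs = 1) :
    Even vs.length ∧ IsSquare (normProd Q vs) := by
  have hev : Even vs.length := by
    have h3 := det_wordG Q h2 hvs
    rw [h1] at h3
    have h4 : ((1 : ↥(Cfsg.isometryGroup F ⇑Q)) : GL ι F) = 1 := rfl
    rw [h4, Units.val_one, det_one] at h3
    have hne : (-1 : F) ≠ 1 := by
      intro h
      apply h2
      linear_combination -h
    exact (neg_one_pow_eq_one_iff_even hne).1 h3.symm
  refine ⟨hev, isSquare_normProd Q h2 hQ hvs ?_ hev⟩
  rw [← toOG_wordG, h1, map_one]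

end words

section finite

variable {F : Type*} [Field F] [Fintype F]

theorem ringChar_ne_two (h2 : (2 : F) ≠ 0) : ringChar F ≠ 2 := by
  intro h
  apply h2
  have := CharP.cast_eq_zero F (ringChar F)
  rw [h] at this
  exact_mod_cast this

theorem isSquare_mul_iff {a b : F} (ha : a ≠ 0) (hb : b ≠ 0) :
    IsSquare (a * b) ↔ (IsSquare a ↔ IsSquare b) := by
  classical
  rw [← quadraticChar_one_iff_isSquare (mul_ne_zero ha hb), ← quadraticChar_one_iff_isSquare ha,
    ← quadraticChar_one_iff_isSquare hb, map_mul]
  rcases quadraticChar_dichotomy ha with h | h <;> rcases quadraticChar_dichotomy hb with h' | h' <;>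
    rw [h, h'] <;> decide

end finite

section omega

variable {ι : Type} [Fintype ι] [DecidableEq ι] {F : Type*} [Field F] [Fintype F]
  (Q : QuadraticForm F (ι → F))

theorem card_ne_two (h2 : (2 : F) ≠ 0) : Fintype.card F ≠ 2 := by
  intro h
  apply h2
  have h3 : ((Fintype.card F : ℕ) : F) = 0 := Nat.cast_card_eq_zero F
  rw [h] at h3
  exact_mod_cast h3

/-- Every isometry is a word in reflections. -/
theorem exists_word (h2 : (2 : F) ≠ 0) (hQ : (polarBilin Q).Nondegenerate)
    (g : ↥(Cfsg.isometryGroup F ⇑Q)) :
    ∃ vs : List (ι → F), (∀ v ∈ vs, Q v ≠ 0) ∧ wordG Q vs = g := by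
  have hg : g ∈ Subgroup.closure (reflSet Q) := by
    rw [reflSet_closure Q hQ (Or.inl (card_ne_two h2))]; trivial
  induction hg using Subgroup.closure_induction with
  | mem x hx =>
    obtain ⟨v, hv, rfl⟩ := (mem_reflSet_iff Q x).1 hx
    refine ⟨[v], ?_, wordG_singleton Q v⟩
    intro w hw
    rw [List.mem_singleton] at hw
    rw [hw]; exact hv
  | one => exact ⟨[], by simp, wordG_nil Q⟩
  | mul a b _ _ ha hb =>
    obtain ⟨as, has, rfl⟩ := ha
    obtain ⟨bs, hbs, rfl⟩ := hb
    refine ⟨as ++ bs, ?_, wordG_append Q as bs⟩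
    intro v hv
    rcases List.mem_append.1 hv with h | h
    · exact has v h
    · exact hbs v h
  | inv a _ ha =>
    obtain ⟨as, has, rfl⟩ := ha
    refine ⟨as.reverse, ?_, (wordG_inv Q as).symm⟩
    intro v hv
    exact has v (List.mem_reverse.1 hv)

/-- The words of even length with square product of norms. -/
def IsGoodWord (vs : List (ι → F)) : Prop :=
  (∀ v ∈ vs, Q v ≠ 0) ∧ Even vs.length ∧ IsSquare (normProd Q vs)

/-- The subgroup of isometries represented by good words. -/
def goodSub : Subgroup ↥(Cfsg.isometryGroup F ⇑Q) where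
  carrier := {g | ∃ vs, IsGoodWord Q vs ∧ wordG Q vs = g}
  mul_mem' := by
    rintro _ _ ⟨as, ⟨h1, h2, h3⟩, rfl⟩ ⟨bs, ⟨h4, h5, h6⟩, rfl⟩
    refine ⟨as ++ bs, ⟨?_, ?_, ?_⟩, wordG_append Q as bs⟩
    · intro v hv
      rcases List.mem_append.1 hv with h | h
      · exact h1 v h
      · exact h4 v h
    · rw [List.length_append]; exact h2.add h5
    · rw [normProd_append]; exact h3.mul h6
  one_mem' := ⟨[], ⟨by simp, by simp, by rw [normProd_nil]; exact IsSquare.one⟩, wordG_nil Q⟩
  inv_mem' := by
    rintro _ ⟨as, ⟨h1, h2, h3⟩, rfl⟩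
    refine ⟨as.reverse, ⟨?_, ?_, ?_⟩, (wordG_inv Q as).symm⟩
    · intro v hv
      exact h1 v (List.mem_reverse.1 hv)
    · rw [List.length_reverse]; exact h2
    · rw [normProd_reverse]; exact h3

theorem omega_le_goodSub (h2 : (2 : F) ≠ 0) (hQ : (polarBilin Q).Nondegenerate) :
    Cfsg.Omega F ⇑Q ≤ goodSub Q := by
  show commutator ↥(Cfsg.isometryGroup F ⇑Q) ≤ goodSub Q
  rw [commutator_eq_closure, Subgroup.closure_le]
  rintro _ ⟨a, b, rfl⟩
  obtain ⟨as, has, rfl⟩ := exists_word Q h2 hQ a
  obtain ⟨bs, hbs, rfl⟩ := exists_word Q h2 hQ b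
  refine ⟨as ++ bs ++ as.reverse ++ bs.reverse, ⟨?_, ?_, ?_⟩, ?_⟩
  · intro v hv
    simp only [List.mem_append, List.mem_reverse] at hv
    rcases hv with ((h | h) | h) | h
    · exact has v h
    · exact hbs v h
    · exact has v h
    · exact hbs v h
  · simp only [List.length_append, List.length_reverse]
    exact ⟨as.length + bs.length, by ring⟩
  · simp only [normProd_append, normProd_reverse]
    exact ⟨normProd Q as * normProd Q bs, by ring⟩
  · rw [wordG_append, wordG_append, wordG_append, ← wordG_inv, ← wordG_inv,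
      commutatorElement_def]

/-- Reflections whose norms lie in the same square class have the same image in the
abelianization. -/
theorem of_reflM_eq (h2 : (2 : F) ≠ 0) {v v' : ι → F} (hv : Q v ≠ 0) (hv' : Q v' ≠ 0)
    (hsq : IsSquare (Q v * Q v')) :
    (Abelianization.of (reflM Q v) : Abelianization ↥(Cfsg.isometryGroup F ⇑Q)) =
      Abelianization.of (reflM Q v') := by
  obtain ⟨c, hc⟩ := hsq
  have hc0 : c ≠ 0 := by
    rintro rfl
    rw [mul_zero] at hc
    exact mul_ne_zero hv hv' hc
  have ht0 : c / Q v' ≠ 0 := div_ne_zero hc0 hv'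
  have hQt : Q ((c / Q v') • v') = Q v := by
    rw [QuadraticMap.map_smul, smul_eq_mul]
    field_simp
    rw [pow_two, ← hc, mul_comm]
  obtain ⟨ρ, hρ, hρv⟩ := exists_RG_map_odd h2 Q hv hQt
  have hconj : ρ * reflE Q v' * ρ⁻¹ = reflE Q v := by
    rw [← reflE_smul Q ht0 v', conj_reflE Q (RG_le_OG Q hρ), hρv]
  have hG : ofOG Q ρ (RG_le_OG Q hρ) * reflM Q v' * (ofOG Q ρ (RG_le_OG Q hρ))⁻¹ = reflM Q v := by
    apply toOG_injective
    rw [map_mul, map_mul, map_inv, toOG_ofOG, toOG_reflM, toOG_reflM, hconj]
  rw [← hG, map_mul, map_mul, map_inv, mul_comm, inv_mul_cancel_left]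

theorem of_reflM_sq (v : ι → F) :
    (Abelianization.of (reflM Q v) : Abelianization ↥(Cfsg.isometryGroup F ⇑Q)) *
      Abelianization.of (reflM Q v) = 1 := by
  rw [← map_mul, reflM_mul_self, map_one]

end omega

section pairing

open Classical in
/-- In a commutative group, a product of involutions `f x` depending only on the class `c x`
is trivial when both classes occur an even number of times. -/
theorem prod_eq_one_of_pairs {A : Type*} [CommGroup A] {X : Type*} (f : X → A) (c : X → Prop)
    (hf2 : ∀ x, f x * f x = 1) :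
    ∀ (k : ℕ) (l : List X), l.length = k → (∀ x ∈ l, ∀ y ∈ l, (c x ↔ c y) → f x = f y) →
      Even (l.countP (fun x => decide (c x))) →
      Even (l.countP (fun x => decide (¬ c x))) → (l.map f).prod = 1 := by
  intro k
  induction k using Nat.strong_induction_on with
  | _ k ih =>
    intro l hk hfc h1 h2
    cases l with
    | nil => simp
    | cons x l' =>
      -- find a partner of `x`
      have hpartner : ∃ y ∈ l', (c x ↔ c y) := by
        by_cases hx : c x
        · rw [List.countP_cons_of_pos (by simpa using hx)] at h1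
          have h3 : 0 < l'.countP (fun x => decide (c x)) := by
            rcases Nat.eq_zero_or_pos (l'.countP (fun x => decide (c x))) with h0 | h0
            · rw [h0] at h1; exact absurd h1 (by decide)
            · exact h0
          obtain ⟨y, hy, hcy⟩ := List.countP_pos_iff.1 h3
          exact ⟨y, hy, by simpa [hx] using hcy⟩
        · rw [List.countP_cons_of_pos (by simpa using hx)] at h2
          have h3 : 0 < l'.countP (fun x => decide (¬ c x)) := by
            rcases Nat.eq_zero_or_pos (l'.countP (fun x => decide (¬ c x))) with h0 | h0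
            · rw [h0] at h2; exact absurd h2 (by decide)
            · exact h0
          obtain ⟨y, hy, hcy⟩ := List.countP_pos_iff.1 h3
          exact ⟨y, hy, by simpa [hx] using hcy⟩
      obtain ⟨y, hy, hxy⟩ := hpartner
      obtain ⟨l1, l2, rfl⟩ := List.append_of_mem hy
      have hlen : (l1 ++ l2).length < k := by
        rw [← hk]; simp
      have e : ((x :: (l1 ++ y :: l2)).map f).prod = ((l1 ++ l2).map f).prod := by
        simp only [List.map_cons, List.map_append, List.prod_cons, List.prod_append]
        rw [← hfc x (List.mem_cons_self ..) y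
          (List.mem_cons_of_mem _ (List.mem_append_right _ (List.mem_cons_self ..))) hxy]
        calc f x * ((l1.map f).prod * (f x * (l2.map f).prod))
            = (f x * f x) * ((l1.map f).prod * (l2.map f).prod) := by
              rw [mul_left_comm (l1.map f).prod, ← mul_assoc]
          _ = (l1.map f).prod * (l2.map f).prod := by rw [hf2, one_mul]
      rw [e]
      apply ih _ hlen _ rfl
      · intro a ha b hb
        have hsub : ∀ z ∈ l1 ++ l2, z ∈ x :: (l1 ++ y :: l2) := by
          intro z hz
          rcases List.mem_append.1 hz with h | h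
          · exact List.mem_cons_of_mem _ (List.mem_append_left _ h)
          · exact List.mem_cons_of_mem _ (List.mem_append_right _ (List.mem_cons_of_mem _ h))
        exact hfc a (hsub a ha) b (hsub b hb)
      · rw [List.countP_cons, List.countP_append, List.countP_cons] at h1
        rw [List.countP_append]
        by_cases hx : c x
        · have hy' : c y := hxy.1 hx
          simp only [hx, hy', decide_true, if_true] at h1
          rw [Nat.even_iff] at h1 ⊢
          omega
        · have hy' : ¬ c y := fun h => hx (hxy.2 h)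
          simp only [hx, hy', decide_false, Bool.false_eq_true, if_false] at h1
          simpa using h1
      · rw [List.countP_cons, List.countP_append, List.countP_cons] at h2
        rw [List.countP_append]
        by_cases hx : c x
        · have hy' : c y := hxy.1 hx
          simp only [hx, hy', not_true_eq_false, decide_false, Bool.false_eq_true, if_false] at h2
          simpa using h2
        · have hy' : ¬ c y := fun h => hx (hxy.2 h)
          simp only [hx, hy', not_false_eq_true, decide_true, if_true] at h2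
          rw [Nat.even_iff] at h2 ⊢
          omega

open Classical in
theorem countP_add_countP_not {X : Type*} (c : X → Prop) (l : List X) :
    l.countP (fun x => decide (c x)) + l.countP (fun x => decide (¬ c x)) = l.length := by
  induction l with
  | nil => simp
  | cons x l ih =>
    rw [List.countP_cons, List.countP_cons, List.length_cons]
    by_cases hx : c x
    · simp only [hx, decide_true, if_true, not_true_eq_false, decide_false, Bool.false_eq_true,
        if_false]
      omega
    · simp only [hx, decide_false, Bool.false_eq_true, if_false, not_false_eq_true, decide_true,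
        if_true]
      omega

end pairing

section main

variable {ι : Type} [Fintype ι] [DecidableEq ι] {F : Type*} [Field F] [Fintype F]
  (Q : QuadraticForm F (ι → F))

open Classical in
theorem isSquare_normProd_iff {vs : List (ι → F)} (hvs : ∀ v ∈ vs, Q v ≠ 0) :
    IsSquare (normProd Q vs) ↔ Even (vs.countP (fun v => @decide (¬ IsSquare (Q v))
      (@instDecidableNot _ (Classical.propDecidable _)))) := by
  induction vs with
  | nil => simp [normProd_nil]
  | cons v vs ih =>
    have hv := hvs v (List.mem_cons_self ..)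
    have hvs' : ∀ w ∈ vs, Q w ≠ 0 := fun w hw => hvs w (List.mem_cons_of_mem _ hw)
    rw [normProd_cons, isSquare_mul_iff hv (normProd_ne_zero Q hvs'), ih hvs', List.countP_cons]
    by_cases hsq : IsSquare (Q v)
    · simp [hsq]
    · simp [hsq, Nat.even_add_one]

theorem goodSub_le_omega (h2 : (2 : F) ≠ 0) : goodSub Q ≤ Cfsg.Omega F ⇑Q := by
  rintro _ ⟨vs, ⟨hvs, hev, hsq⟩, rfl⟩
  show wordG Q vs ∈ commutator ↥(Cfsg.isometryGroup F ⇑Q)
  rw [← Abelianization.ker_of, MonoidHom.mem_ker]
  have e : (Abelianization.of (wordG Q vs) : Abelianization ↥(Cfsg.isometryGroup F ⇑Q)) =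
      (vs.map (fun v => Abelianization.of (reflM Q v))).prod := by
    unfold wordG
    rw [map_list_prod, List.map_map]
    rfl
  rw [e]
  have ht := (isSquare_normProd_iff Q hvs).1 hsq
  have hs : Even (vs.countP
      (fun v => @decide (IsSquare (Q v)) (Classical.propDecidable _))) := by
    have h3 := countP_add_countP_not (fun v : ι → F => IsSquare (Q v)) vs
    beta_reduce at h3
    rw [Nat.even_iff] at hev ht ⊢
    omega
  apply prod_eq_one_of_pairs (fun v => Abelianization.of (reflM Q v))
    (fun v : ι → F => IsSquare (Q v)) (of_reflM_sq Q) _ vs rfl _ hs ht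
  intro x hx y hy hxy
  apply of_reflM_eq Q h2 (hvs x hx) (hvs y hy)
  rw [isSquare_mul_iff (hvs x hx) (hvs y hy)]
  exact hxy

theorem omega_eq_goodSub (h2 : (2 : F) ≠ 0) (hQ : (polarBilin Q).Nondegenerate) :
    Cfsg.Omega F ⇑Q = goodSub Q :=
  le_antisymm (omega_le_goodSub Q h2 hQ) (goodSub_le_omega Q h2)

/-- The spinor norm criterion for membership in `Ω`. -/
theorem mem_omega_iff (h2 : (2 : F) ≠ 0) (hQ : (polarBilin Q).Nondegenerate)
    {vs : List (ι → F)} (hvs : ∀ v ∈ vs, Q v ≠ 0) :
    wordG Q vs ∈ Cfsg.Omega F ⇑Q ↔ Even vs.length ∧ IsSquare (normProd Q vs) := by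
  constructor
  · intro h
    obtain ⟨ws, ⟨hws, hwev, hwsq⟩, hw⟩ := omega_le_goodSub Q h2 hQ h
    have h1 : wordG Q (vs ++ ws.reverse) = 1 := by
      rw [wordG_append, ← wordG_inv, hw, mul_inv_cancel]
    have hall : ∀ v ∈ vs ++ ws.reverse, Q v ≠ 0 := by
      intro v hv
      rcases List.mem_append.1 hv with h | h
      · exact hvs v h
      · exact hws v (List.mem_reverse.1 h)
    obtain ⟨h3, h4⟩ := wd Q h2 hQ hall h1
    rw [List.length_append, List.length_reverse] at h3
    rw [normProd_append, normProd_reverse,
      isSquare_mul_iff (normProd_ne_zero Q hvs) (normProd_ne_zero Q hws)] at h4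
    refine ⟨?_, h4.2 hwsq⟩
    rw [Nat.even_iff] at h3 hwev ⊢
    omega
  · rintro ⟨hev, hsq⟩
    exact goodSub_le_omega Q h2 ⟨vs, ⟨hvs, hev, hsq⟩, rfl⟩

end main

end Cfsg.Agent.Lib.Helper25.Spin
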