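import Mathlib
import Cfsg.Agent.Lib.Helper25.OTDefs
import Cfsg.Agent.Lib.Helper25.SpinMatrix
import Cfsg.Agent.Lib.Helper25.Siegel
import Cfsg.Agent.Lib.Helper25.OmegaTrans

/-!
S5681 / S5709 (`O_a ⊗ O_b` in `Ω_{ab}(q)`, `q` odd): the `Ω`-membership facts of the owner
(black boxes (Ω-B), (Ω-C), (Ω-D) of `notes/S5681_LA_plan.md`), in coordinate-free form.

* `QG_nondeg`, `QV_nondeg`, `QB_nondeg`, `QA_nondeg`: the model forms are nondegenerate;
* `sq_mem_OmV`: squares of isometries lie in `Ω(V)`; `mem_OmV_of_pow_odd`: isometries of odd order lie in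
  `Ω(V)`; `mem_OmV_of_cube`: isometries `g` with `(g - 1)³ = 0` lie in `Ω(V)` (= (Ω-C));
* `kel_mem_OV`: `α ⊗ β` is an isometry for isometries `α`, `β`; `kel_mem_OmV`: `α ⊗ β ∈ Ω(V)` for
  `α ∈ Ω(A)`, `β ∈ Ω(B)`; `kel_one_sq_mem_OmV`, `kB_mem_OmV` (= (Ω-B));
* `exists_omega_line`: `Ω(B)` is transitive on totally singular lines (= (Ω-D)).
-/

set_option autoImplicit false
set_option linter.unusedSectionVars false
set_option linter.unusedVariables false

namespace Cfsg.Agent.Lib.Helper25.OT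
open Matrix QuadraticMap
open Cfsg.Agent.Lib.Helper25.Tens Cfsg.Agent.Lib.Helper19.OSub Cfsg.Agent.Lib.Helper2.SOT
open Cfsg.Agent.Lib.Helper7.OTT
open scoped Kronecker

variable {F : Type*} [Field F]

/-! ### nondegeneracy -/

/-- the Gram model form is nondegenerate -/
lemma QG_nondeg {κ : Type} [Fintype κ] [DecidableEq κ] {K : Matrix κ κ F} (hK : Kᵀ = K)
    (h2 : (2 : F) ≠ 0) (hdet : K.det ≠ 0) : (polarBilin (QG K)).Nondegenerate := by
  have key : ∀ u : κ → F, (∀ y, u ⬝ᵥ (K *ᵥ y) = 0) → u = 0 := by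
    intro u hu
    have h0 : Matrix.vecMul u K = 0 := by
      ext j
      have := hu (Pi.single j 1)
      rw [Matrix.dotProduct_mulVec, dotProduct_single, mul_one] at this
      exact this
    exact Matrix.eq_zero_of_vecMul_eq_zero hdet h0
  constructor
  · intro u hu
    apply key
    intro y
    have := hu y
    rwa [polarBilin_apply_apply, polar_QG hK h2] at this
  · intro u hu
    apply key
    intro y
    have := hu y
    rwa [polarBilin_apply_apply, polar_comm, polar_QG hK h2] at this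

variable {a b : ℕ} {G1 : Matrix (Fin a) (Fin a) F} {G2 : Matrix (Fin b) (Fin b) F}

lemma kron_det_ne_zero (h1 : G1.det ≠ 0) (h2 : G2.det ≠ 0) :
    (G1 ⊗ₖ G2 : Matrix (Idx a b) (Idx a b) F).det ≠ 0 := by
  rw [Matrix.det_kronecker]
  exact mul_ne_zero (pow_ne_zero _ h1) (pow_ne_zero _ h2)

variable [Fintype F]

lemma QV_nondeg (h : Ctx a b G1 G2) : (polarBilin (QV G1 G2)).Nondegenerate :=
  QG_nondeg (kron_symm h.symm1 h.symm2) h.two (kron_det_ne_zero h.nd1 h.nd2)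

lemma QB_nondeg (h : Ctx a b G1 G2) : (polarBilin (QB G2)).Nondegenerate :=
  QG_nondeg h.symm2 h.two h.nd2

lemma QA_nondeg (h : Ctx a b G1 G2) : (polarBilin (QA G1)).Nondegenerate :=
  QG_nondeg h.symm1 h.two h.nd1

/-! ### squares, odd order, unipotent isometries -/

/-- squares of isometries lie in `Ω(V)` -/
theorem sq_mem_OmV (h : Ctx a b G1 G2) {g : GL (Idx a b) F} (hg : g ∈ OV G1 G2) :
    g * g ∈ OmV G1 G2 :=
  ⟨⟨g, hg⟩ * ⟨g, hg⟩,
    Cfsg.Agent.Lib.Helper25.Siegel.sq_mem_omega (QV G1 G2) h.two (QV_nondeg h) ⟨g, hg⟩, rfl⟩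

/-- isometries of odd order lie in `Ω(V)` -/
theorem mem_OmV_of_pow_odd (h : Ctx a b G1 G2) {g : GL (Idx a b) F} (hg : g ∈ OV G1 G2) {n : ℕ}
    (hn : Odd n) (hgn : g ^ n = 1) : g ∈ OmV G1 G2 := by
  obtain ⟨k, rfl⟩ := hn
  have e : g = g ^ (k + 1) * g ^ (k + 1) := by
    rw [← pow_add]
    have : k + 1 + (k + 1) = (2 * k + 1) + 1 := by ring
    rw [this, pow_succ, hgn, one_mul]
  rw [e]
  exact sq_mem_OmV h (Subgroup.pow_mem _ hg _)

/-- (Ω-C) isometries `g` with `(g - 1)³ = 0` lie in `Ω(V)` -/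
theorem mem_OmV_of_cube (h : Ctx a b G1 G2) {g : GL (Idx a b) F} (hg : g ∈ OV G1 G2)
    (hc : ((g : Matrix (Idx a b) (Idx a b) F) - 1) ^ 3 = 0) : g ∈ OmV G1 G2 := by
  obtain ⟨p, hp⟩ := CharP.exists F
  have : CharP F p := hp
  have hprime : p.Prime := by
    rcases CharP.char_is_prime_or_zero F p with h' | h'
    · exact h'
    · exfalso
      subst h'
      have : CharZero F := CharP.charP_to_charZero F
      exact not_finite F
  have : Fact p.Prime := ⟨hprime⟩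
  have hp2 : p ≠ 2 := by
    rintro rfl
    apply h.two
    exact CharTwo.two_eq_zero
  have hp3 : 3 ≤ p := by
    have := hprime.two_le
    omega
  have : Nonempty (Idx a b) := by
    have ha := h.ha
    have hb := h.hb
    exact ⟨(⟨0, by omega⟩, ⟨0, by omega⟩)⟩
  have : CharP (Matrix (Idx a b) (Idx a b) F) p := inferInstance
  have hodd : Odd p := hprime.odd_of_ne_two hp2
  apply mem_OmV_of_pow_odd h hg hodd
  apply Units.ext
  rw [Units.val_pow_eq_pow_val, Units.val_one]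
  have e : (g : Matrix (Idx a b) (Idx a b) F) = ((g : Matrix (Idx a b) (Idx a b) F) - 1) + 1 := by
    abel
  rw [e, add_pow_char_of_commute _ (Commute.one_right _), one_pow]
  have : ((g : Matrix (Idx a b) (Idx a b) F) - 1) ^ p = 0 := by
    have hp' : p = 3 + (p - 3) := by omega
    rw [hp', pow_add, hc, zero_mul]
  rw [this, zero_add]

/-! ### Kronecker products of isometries -/

/-- isometries of `A` preserve `fB G1` -/
lemma fB_mv_of_mem {n : ℕ} {G : Matrix (Fin n) (Fin n) F} (hs : Gᵀ = G) (h2 : (2 : F) ≠ 0)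
    {α : GL (Fin n) F} (hα : α ∈ Cfsg.isometryGroup F ⇑(QG G)) (x x' : Fin n → F) :
    fB G (mv α x) (mv α x') = fB G x x' := by
  have := iso_polar hα x x'
  rwa [polar_QG hs h2, polar_QG hs h2] at this

/-- `α ⊗ β` is an isometry of `V` for isometries `α` of `A` and `β` of `B` -/
theorem kel_mem_OV (h : Ctx a b G1 G2) {α : GL (Fin a) F} {β : GL (Fin b) F}
    (hα : α ∈ Cfsg.isometryGroup F ⇑(QA G1)) (hβ : β ∈ Cfsg.isometryGroup F ⇑(QB G2)) :
    kel α β ∈ OV G1 G2 := by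
  apply mem_OV_of_fV
  intro v
  refine Cfsg.Agent.Lib.Helper7.SOTLeaf.pt_ind (p := fun v => ∀ w, fV G1 G2 (mv (kel α β) v)
    (mv (kel α β) w) = fV G1 G2 v w) ?_ ?_ ?_ v
  · intro w
    rw [mv_zero, fV_zero_left, fV_zero_left]
  · intro v v' hv hv' w
    rw [mv_add, fV_add_left, fV_add_left, hv, hv']
  · intro x y w
    refine Cfsg.Agent.Lib.Helper7.SOTLeaf.pt_ind (p := fun w => fV G1 G2 (mv (kel α β) (pt x y))
      (mv (kel α β) w) = fV G1 G2 (pt x y) w) ?_ ?_ ?_ w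
    · rw [mv_zero, fV_zero_right, fV_zero_right]
    · intro w w' hw hw'
      rw [mv_add, fV_add_right, fV_add_right, hw, hw']
    · intro x' y'
      have e1 : mv (kel α β) (pt x y) = pt (mv α x) (mv β y) := kel_mulVec_pt α β x y
      have e2 : mv (kel α β) (pt x' y') = pt (mv α x') (mv β y') := kel_mulVec_pt α β x' y'
      rw [e1, e2, fV_pt, fV_pt, fB_mv_of_mem h.symm1 h.two hα, fB_mv_of_mem h.symm2 h.two hβ]

omit [Fintype F] in
lemma kel_mul (α α' : GL (Fin a) F) (β β' : GL (Fin b) F) :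
    kel (α * α') (β * β') = kel α β * kel α' β' := by
  apply Units.ext
  show ((α * α' : GL (Fin a) F) : Matrix (Fin a) (Fin a) F) ⊗ₖ
    ((β * β' : GL (Fin b) F) : Matrix (Fin b) (Fin b) F) = _
  rw [Units.val_mul, Units.val_mul, Matrix.mul_kronecker_mul]
  rfl

omit [Fintype F] in
lemma kel_one_one : kel (1 : GL (Fin a) F) (1 : GL (Fin b) F) = 1 := by
  apply Units.ext
  show ((1 : GL (Fin a) F) : Matrix (Fin a) (Fin a) F) ⊗ₖ
    ((1 : GL (Fin b) F) : Matrix (Fin b) (Fin b) F) = _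
  rw [Units.val_one, Units.val_one, Matrix.one_kronecker_one]
  rfl

/-- homomorphisms map the commutator subgroup into the commutator subgroup -/
lemma map_mem_commutator {G G' : Type*} [Group G] [Group G'] (f : G →* G') {x : G}
    (hx : x ∈ commutator G) : f x ∈ commutator G' := by
  have h1 : f x ∈ Subgroup.map f (commutator G) := Subgroup.mem_map_of_mem f hx
  rw [commutator_def, Subgroup.map_commutator] at h1
  rw [commutator_def]
  exact Subgroup.commutator_mono le_top le_top h1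

/-- the homomorphism `O(B) → O(V)`, `β ↦ 1 ⊗ β` -/
noncomputable def kelHomB (h : Ctx a b G1 G2) :
    ↥(Cfsg.isometryGroup F ⇑(QB G2)) →* ↥(OV G1 G2) where
  toFun β := ⟨kel 1 β.1, kel_mem_OV h (one_mem _) β.2⟩
  map_one' := Subtype.ext kel_one_one
  map_mul' β β' := Subtype.ext (by
    show kel (1 : GL (Fin a) F) (β.1 * β'.1) = kel 1 β.1 * kel 1 β'.1
    rw [← kel_mul, one_mul])

/-- the homomorphism `O(A) → O(V)`, `α ↦ α ⊗ 1` -/
noncomputable def kelHomA (h : Ctx a b G1 G2) :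
    ↥(Cfsg.isometryGroup F ⇑(QA G1)) →* ↥(OV G1 G2) where
  toFun α := ⟨kel α.1 1, kel_mem_OV h α.2 (one_mem _)⟩
  map_one' := Subtype.ext kel_one_one
  map_mul' α α' := Subtype.ext (by
    show kel (α.1 * α'.1) (1 : GL (Fin b) F) = kel α.1 1 * kel α'.1 1
    rw [← kel_mul, one_mul])

/-- `1 ⊗ β ∈ Ω(V)` for `β ∈ Ω(B)` -/
theorem kel_one_mem_OmV (h : Ctx a b G1 G2) {β : GL (Fin b) F}
    (hβ : β ∈ Cfsg.Geo.omegaGL ⇑(QB G2)) : kel (1 : GL (Fin a) F) β ∈ OmV G1 G2 := by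
  obtain ⟨β', hβ', rfl⟩ := hβ
  exact ⟨kelHomB h β', map_mem_commutator (kelHomB h) hβ', rfl⟩

/-- `α ⊗ 1 ∈ Ω(V)` for `α ∈ Ω(A)` -/
theorem kel_mem_OmV_one (h : Ctx a b G1 G2) {α : GL (Fin a) F}
    (hα : α ∈ Cfsg.Geo.omegaGL ⇑(QA G1)) : kel α (1 : GL (Fin b) F) ∈ OmV G1 G2 := by
  obtain ⟨α', hα', rfl⟩ := hα
  exact ⟨kelHomA h α', map_mem_commutator (kelHomA h) hα', rfl⟩

/-- `α ⊗ β ∈ Ω(V)` for `α ∈ Ω(A)`, `β ∈ Ω(B)` -/
theorem kel_mem_OmV (h : Ctx a b G1 G2) {α : GL (Fin a) F} {β : GL (Fin b) F}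
    (hα : α ∈ Cfsg.Geo.omegaGL ⇑(QA G1)) (hβ : β ∈ Cfsg.Geo.omegaGL ⇑(QB G2)) :
    kel α β ∈ OmV G1 G2 := by
  have e : kel α β = kel α 1 * kel 1 β := by rw [← kel_mul, mul_one, one_mul]
  rw [e]
  exact Subgroup.mul_mem _ (kel_mem_OmV_one h hα) (kel_one_mem_OmV h hβ)

/-- (Ω-B) `1 ⊗ β² ∈ Ω(V)` for every isometry `β` of `B` -/
theorem kel_one_sq_mem_OmV (h : Ctx a b G1 G2) {β : GL (Fin b) F}
    (hβ : β ∈ Cfsg.isometryGroup F ⇑(QB G2)) : kel (1 : GL (Fin a) F) (β * β) ∈ OmV G1 G2 := by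
  have e : kel (1 : GL (Fin a) F) (β * β) = kel 1 β * kel 1 β := by rw [← kel_mul, one_mul]
  rw [e]
  exact sq_mem_OmV h (kel_mem_OV h (one_mem _) hβ)

/-- (Ω-B) the root groups `X_L` lie in `Ω(V)` -/
theorem kB_mem_OmV (h : Ctx a b G1 G2) (y z : Fin b → F) (c : F) :
    (kB G2 y z c : GL (Idx a b) F) ∈ OmV G1 G2 := by
  have e : rhoB G2 y z c = rhoB G2 y z (c / 2) * rhoB G2 y z (c / 2) := by
    rw [rt_mul]
    congr 1
    have := h.two
    field_simp
    ring
  unfold kB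
  rw [e]
  exact kel_one_sq_mem_OmV h (rt_mem_iso _ _ _)

/-- (Ω-B) the root groups `X_L` lie in `H` -/
theorem kB_mem_H (h : Ctx a b G1 G2) (y z : Fin b → F) (c : F) :
    (kB G2 y z c : GL (Idx a b) F) ∈ KG a b F ⊓ OmV G1 G2 :=
  ⟨kB_mem_KG G2 y z c, kB_mem_OmV h y z c⟩

/-! ### transitivity on totally singular lines -/

/-- (Ω-D) `Ω(B)` is transitive on the totally singular lines of `B` -/
theorem exists_omega_line (h : Ctx a b G1 G2) {y z y' z' : Fin b → F} (hL : TSL G2 y z)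
    (hL' : TSL G2 y' z') :
    ∃ β : GL (Fin b) F, β ∈ Cfsg.Geo.omegaGL ⇑(QB G2) ∧
      (∃ s t : F, mv β y = s • y' + t • z') ∧ (∃ s t : F, mv β z = s • y' + t • z') := by
  have hts : ∀ {y z : Fin b → F}, TSL G2 y z →
      Cfsg.Agent.Lib.Helper25.MaxTS.TS (QB G2) (Submodule.span F {y, z}) := by
    intro y z hL u hu
    obtain ⟨s, t, rfl⟩ := Submodule.mem_span_pair.1 hu
    rw [QB_apply, fB_add_left, fB_add_right, fB_add_right, fB_smul_left, fB_smul_left,
      fB_smul_left, fB_smul_left, fB_smul_right, fB_smul_right, fB_smul_right, fB_smul_right,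
      hL.yy, hL.zz, hL.yz, fB_comm G2 h.symm2 z y, hL.yz]
    ring
  have hfr : ∀ {y z : Fin b → F}, TSL G2 y z →
      Module.finrank F (Submodule.span F ({y, z} : Set (Fin b → F))) = 2 := by
    intro y z hL
    have := finrank_span_eq_card hL.li
    rw [Matrix.range_cons_cons_empty] at this
    simpa using this
  have hb := h.hb
  obtain ⟨g, hg, hmap⟩ := Cfsg.Agent.Lib.Helper25.Fam.omega_trans_ts (QB G2)
    (QB_nondeg h) (Or.inr (by rw [Fintype.card_fin]; omega)) (k := 2)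
    (by rw [Fintype.card_fin]; omega) (hfr hL) (hfr hL') (hts hL) (hts hL')
  refine ⟨g.1, ⟨g, hg, rfl⟩, ?_, ?_⟩
  · have : mv g.1 y ∈ Submodule.span F ({y', z'} : Set (Fin b → F)) := by
      rw [← hmap]
      exact Submodule.mem_map_of_mem (Submodule.subset_span (by simp))
    obtain ⟨s, t, hst⟩ := Submodule.mem_span_pair.1 this
    exact ⟨s, t, hst.symm⟩
  · have : mv g.1 z ∈ Submodule.span F ({y', z'} : Set (Fin b → F)) := by
      rw [← hmap]
      exact Submodule.mem_map_of_mem (Submodule.subset_span (by simp))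
    obtain ⟨s, t, hst⟩ := Submodule.mem_span_pair.1 this
    exact ⟨s, t, hst.symm⟩

end Cfsg.Agent.Lib.Helper25.OT
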