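import Mathlib
import Cfsg.Agent.Lib.Helper15.QuadOrth
import Cfsg.Agent.Lib.Helper19.OrthoType

/-! Helper25 library: plus/minus type of nondegenerate symmetric bilinear forms over finite fields
of odd characteristic via the discriminant. -/

set_option autoImplicit false

namespace Cfsg.Agent.Lib.Helper25.DiscType

open Module Matrix

variable {F : Type*} [Field F]

section basic

variable {V : Type*} [AddCommGroup V] [Module F V]

/-- The Gram determinant changes by a nonzero square under change of basis. -/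
theorem gram_det_change {ι κ : Type*} [Fintype ι] [DecidableEq ι] [Fintype κ] [DecidableEq κ]
    (b : Basis ι F V) (c : Basis κ F V) (B : LinearMap.BilinForm F V) :
    ∃ d : F, d ≠ 0 ∧
      (LinearMap.BilinForm.toMatrix c B).det = d * d * (LinearMap.BilinForm.toMatrix b B).det := by
  classical
  let e : κ ≃ ι := c.indexEquiv b
  let c' : Basis ι F V := c.reindex e
  have h1 : LinearMap.BilinForm.toMatrix c' B
      = (LinearMap.BilinForm.toMatrix c B).submatrix e.symm e.symm := by
    ext i j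
    simp [LinearMap.BilinForm.toMatrix_apply, c']
  have h2 := LinearMap.BilinForm.toMatrix_mul_basis_toMatrix b c' B
  have h3 : (LinearMap.BilinForm.toMatrix c B).det = (LinearMap.BilinForm.toMatrix c' B).det := by
    rw [h1, Matrix.det_submatrix_equiv_self]
  refine ⟨(b.toMatrix c').det, ?_, ?_⟩
  · have h4 := Basis.toMatrix_mul_toMatrix_flip b c'
    intro h0
    have h5 := congrArg Matrix.det h4
    rw [det_mul, h0, zero_mul, det_one] at h5
    exact zero_ne_one h5
  · rw [h3, ← h2, det_mul, det_mul, det_transpose]; ring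

/-- A totally isotropic subspace of half the dimension forces `(-1)^N disc` to be a square. -/
theorem isSquare_of_isotropic {ι : Type*} [Fintype ι] [DecidableEq ι] [FiniteDimensional F V]
    (b : Basis ι F V) (B : LinearMap.BilinForm F V) (hS : B.IsSymm) (N : ℕ)
    (hdim : finrank F V = 2 * N) (X : Submodule F V) (hX : finrank F X = N)
    (hti : ∀ x ∈ X, ∀ y ∈ X, B x y = 0) :
    IsSquare ((-1 : F) ^ N * (LinearMap.BilinForm.toMatrix b B).det) := by
  classical
  obtain ⟨Y, hXY⟩ := Submodule.exists_isCompl X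
  have hY : finrank F Y = N := by
    have := Submodule.finrank_add_eq_of_isCompl hXY
    omega
  let bX := finBasisOfFinrankEq F X hX
  let bY := finBasisOfFinrankEq F Y hY
  let c : Basis (Fin N ⊕ Fin N) F V := (bX.prod bY).map (Submodule.prodEquivOfIsCompl X Y hXY)
  have hcl : ∀ i, c (Sum.inl i) = (bX i : V) := by
    intro i; simp [c]
  have hcr : ∀ i, c (Sum.inr i) = (bY i : V) := by
    intro i; simp [c]
  let P : Matrix (Fin N) (Fin N) F := Matrix.of fun i j => B (bX i) (bY j)
  let R : Matrix (Fin N) (Fin N) F := Matrix.of fun i j => B (bY i) (bY j)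
  have hG : LinearMap.BilinForm.toMatrix c B = fromBlocks 0 P Pᵀ R := by
    ext x y
    rcases x with i | i <;> rcases y with j | j
    · rw [LinearMap.BilinForm.toMatrix_apply, hcl, hcl, fromBlocks_apply₁₁, Matrix.zero_apply]
      exact hti _ (bX i).2 _ (bX j).2
    · rw [LinearMap.BilinForm.toMatrix_apply, hcl, hcr, fromBlocks_apply₁₂]
      rfl
    · rw [LinearMap.BilinForm.toMatrix_apply, hcr, hcl, fromBlocks_apply₂₁, Matrix.transpose_apply]
      show B (bY i) (bX j) = B (bX j) (bY i)
      exact (hS.eq _ _).symm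
    · rw [LinearMap.BilinForm.toMatrix_apply, hcr, hcr, fromBlocks_apply₂₂]
      rfl
  obtain ⟨d, hd0, hd⟩ := gram_det_change b c B
  rw [hG, Cfsg.Agent.Lib.Helper19.OrthoType.det_antiBlocks] at hd
  refine ⟨P.det / d, ?_⟩
  have h1 : ((-1 : F) ^ N) * ((-1 : F) ^ N) = 1 := by rw [← mul_pow]; simp
  field_simp
  linear_combination (-(-1 : F) ^ N) * hd + P.det ^ 2 * h1

theorem isSquare_mul_sq {a d : F} (hd : d ≠ 0) (h : IsSquare (a * (d * d))) : IsSquare a := by
  obtain ⟨r, hr⟩ := h
  refine ⟨r / d, ?_⟩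
  field_simp
  linear_combination hr

end basic

section bridge

variable {V : Type*} [AddCommGroup V] [Module F V]

/-- the quadratic form `x ↦ B x x` in coordinates -/
noncomputable def qof {n : ℕ} (b : Basis (Fin n) F V) (B : LinearMap.BilinForm F V) :
    QuadraticForm F (Fin n → F) :=
  (LinearMap.BilinMap.toQuadraticMap B).comp (b.equivFun.symm : (Fin n → F) →ₗ[F] V)

theorem qof_apply {n : ℕ} (b : Basis (Fin n) F V) (B : LinearMap.BilinForm F V) (v : Fin n → F) :
    qof b B v = B (b.equivFun.symm v) (b.equivFun.symm v) := by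
  simp [qof]

theorem polar_qof {n : ℕ} (b : Basis (Fin n) F V) (B : LinearMap.BilinForm F V) (hS : B.IsSymm)
    (u v : Fin n → F) :
    QuadraticMap.polar (qof b B) u v = 2 * B (b.equivFun.symm u) (b.equivFun.symm v) := by
  have h1 : B (b.equivFun.symm v) (b.equivFun.symm u) = B (b.equivFun.symm u) (b.equivFun.symm v) :=
    hS.eq _ _
  simp only [QuadraticMap.polar, qof_apply, map_add, LinearMap.add_apply, h1]
  ring

theorem equivFun_symm_single {n : ℕ} (b : Basis (Fin n) F V) (i : Fin n) :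
    b.equivFun.symm (Pi.single i 1) = b i := by
  rw [LinearEquiv.symm_apply_eq]
  ext j
  rw [Basis.equivFun_self, Pi.single_apply]
  simp [eq_comm]

theorem gram_qof {n : ℕ} (b : Basis (Fin n) F V) (B : LinearMap.BilinForm F V) (hS : B.IsSymm) :
    Matrix.of (fun i j : Fin n => QuadraticMap.polar (qof b B) (Pi.single i 1) (Pi.single j 1))
      = (2 : F) • LinearMap.BilinForm.toMatrix b B := by
  ext i j
  rw [Matrix.of_apply, polar_qof b B hS, equivFun_symm_single, equivFun_symm_single,
    Matrix.smul_apply, LinearMap.BilinForm.toMatrix_apply, smul_eq_mul]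

theorem qof_nondegenerate (h2 : (2 : F) ≠ 0) {n : ℕ} (b : Basis (Fin n) F V)
    (B : LinearMap.BilinForm F V) (hS : B.IsSymm) (hN : B.Nondegenerate) :
    (QuadraticMap.polarBilin (qof b B)).Nondegenerate := by
  have hrefl : (QuadraticMap.polarBilin (qof b B)).IsRefl := by
    intro x y h
    rw [QuadraticMap.polarBilin_apply_apply] at h ⊢
    rw [QuadraticMap.polar_comm]; exact h
  rw [LinearMap.IsRefl.nondegenerate_iff_separatingLeft hrefl]
  intro u hu
  have h3 : ∀ w : V, B (b.equivFun.symm u) w = 0 := by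
    intro w
    have h4 := hu (b.equivFun w)
    rw [QuadraticMap.polarBilin_apply_apply, polar_qof b B hS, LinearEquiv.symm_apply_apply] at h4
    exact (mul_eq_zero.mp h4).resolve_left h2
  have h5 := hN.1 _ h3
  exact (LinearEquiv.map_eq_zero_iff _).mp h5

/-- Two nondegenerate symmetric forms of the same dimension over a finite field of odd
characteristic whose discriminants agree up to squares are isometric. -/
theorem exists_isometry_of_disc [Finite F] (h2 : (2 : F) ≠ 0) {V₂ : Type*} [AddCommGroup V₂]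
    [Module F V₂] {n : ℕ} (b₁ : Basis (Fin n) F V) (b₂ : Basis (Fin n) F V₂)
    (B₁ : LinearMap.BilinForm F V) (B₂ : LinearMap.BilinForm F V₂)
    (hS₁ : B₁.IsSymm) (hS₂ : B₂.IsSymm) (hN₁ : B₁.Nondegenerate) (hN₂ : B₂.Nondegenerate)
    (hsq : IsSquare ((LinearMap.BilinForm.toMatrix b₁ B₁).det *
      (LinearMap.BilinForm.toMatrix b₂ B₂).det)) :
    ∃ g : V ≃ₗ[F] V₂, ∀ x y, B₂ (g x) (g y) = B₁ x y := by
  obtain ⟨g₀, hg₀⟩ := Cfsg.Agent.Lib.Helper15.isometric_of_disc h2 (qof b₁ B₁) (qof b₂ B₂)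
    (qof_nondegenerate h2 b₁ B₁ hS₁ hN₁) (qof_nondegenerate h2 b₂ B₂ hS₂ hN₂) (by
      rw [gram_qof b₁ B₁ hS₁, gram_qof b₂ B₂ hS₂, Matrix.det_smul, Matrix.det_smul]
      obtain ⟨r, hr⟩ := hsq
      refine ⟨2 ^ Fintype.card (Fin n) * r, ?_⟩
      linear_combination (2 ^ Fintype.card (Fin n) * 2 ^ Fintype.card (Fin n) : F) * hr)
  let g : V ≃ₗ[F] V₂ := (b₁.equivFun.trans g₀).trans b₂.equivFun.symm
  have hq : ∀ x, B₂ (g x) (g x) = B₁ x x := by
    intro x
    have h3 := hg₀ (b₁.equivFun x)
    rw [qof_apply, qof_apply, LinearEquiv.symm_apply_apply] at h3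
    exact h3
  refine ⟨g, fun x y => ?_⟩
  have h4 := hq (x + y)
  have e1 : B₁ y x = B₁ x y := hS₁.eq _ _
  have e2 : B₂ (g y) (g x) = B₂ (g x) (g y) := hS₂.eq _ _
  simp only [map_add, LinearMap.add_apply, hq, e1, e2] at h4
  have h5 : 2 * (B₂ (g x) (g y) - B₁ x y) = 0 := by linear_combination h4
  have h6 := (mul_eq_zero.mp h5).resolve_left h2
  exact sub_eq_zero.mp h6

end bridge

section plus

open Cfsg.Agent.Lib.Helper19.OrthoType

variable {V : Type*} [AddCommGroup V] [Module F V]

theorem toMatrix_reindex {ι κ : Type*} [Fintype ι] [DecidableEq ι] [Fintype κ] [DecidableEq κ]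
    (b : Basis ι F V) (e : ι ≃ κ) (B : LinearMap.BilinForm F V) :
    LinearMap.BilinForm.toMatrix (b.reindex e) B
      = (LinearMap.BilinForm.toMatrix b B).submatrix e.symm e.symm := by
  ext i j
  simp [LinearMap.BilinForm.toMatrix_apply]

/-- the standard hyperbolic form on `Fin N ⊕ Fin N → F` -/
noncomputable def hypB (N : ℕ) : LinearMap.BilinForm F (Fin N ⊕ Fin N → F) :=
  Matrix.toBilin' (swapB (F := F) N)

theorem hypB_isSymm (N : ℕ) : (hypB (F := F) N).IsSymm := by
  rw [hypB, Matrix.isSymm_toBilin'_iff_isSymm, swapB]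
  exact Matrix.IsSymm.fromBlocks Matrix.isSymm_zero Matrix.transpose_one Matrix.isSymm_zero

theorem hypB_toMatrix (N : ℕ) :
    LinearMap.BilinForm.toMatrix (Pi.basisFun F (Fin N ⊕ Fin N)) (hypB (F := F) N) = swapB N := by
  rw [LinearMap.BilinForm.toMatrix_basisFun, hypB, LinearMap.BilinForm.toMatrix'_toBilin']

theorem hypB_nondegenerate (N : ℕ) : (hypB (F := F) N).Nondegenerate := by
  rw [LinearMap.BilinForm.nondegenerate_iff_det_ne_zero (Pi.basisFun F (Fin N ⊕ Fin N)),
    hypB_toMatrix, det_swapB]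
  exact pow_ne_zero _ (neg_ne_zero.mpr one_ne_zero)

/-- the inclusion of the first summand -/
def inlMap (N : ℕ) : (Fin N → F) →ₗ[F] (Fin N ⊕ Fin N → F) where
  toFun x := Sum.elim x 0
  map_add' x y := by
    ext (i | i) <;> simp
  map_smul' c x := by
    ext (i | i) <;> simp

theorem inlMap_injective (N : ℕ) : Function.Injective (inlMap (F := F) N) := by
  intro x y h
  ext i
  have := congrFun h (Sum.inl i)
  simpa [inlMap] using this

theorem hypB_inlMap (N : ℕ) (a a' : Fin N → F) : hypB N (inlMap N a) (inlMap N a') = 0 := by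
  rw [hypB, Matrix.toBilin'_apply']
  show (Sum.elim a 0 : Fin N ⊕ Fin N → F) ⬝ᵥ (swapB (F := F) N) *ᵥ (Sum.elim a' 0) = 0
  rw [swapB, Matrix.fromBlocks_mulVec]
  simp

/-- If `(-1)^N disc` is a square, there is a totally isotropic subspace of half the dimension
(finite field, odd characteristic). -/
theorem exists_isotropic_of_isSquare [Finite F] (h2 : (2 : F) ≠ 0) {ι : Type*} [Fintype ι]
    [DecidableEq ι] (b : Basis ι F V) (B : LinearMap.BilinForm F V)
    (hS : B.IsSymm) (hN : B.Nondegenerate) (N : ℕ) (hdim : finrank F V = 2 * N)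
    (hsq : IsSquare ((-1 : F) ^ N * (LinearMap.BilinForm.toMatrix b B).det)) :
    ∃ X : Submodule F V, finrank F X = N ∧ ∀ x ∈ X, ∀ y ∈ X, B x y = 0 := by
  classical
  have hcard : Fintype.card ι = Fintype.card (Fin (N + N)) := by
    rw [← Module.finrank_eq_card_basis b, hdim, Fintype.card_fin]; ring
  let e₁ : ι ≃ Fin (N + N) := Fintype.equivOfCardEq hcard
  let b₁ : Basis (Fin (N + N)) F V := b.reindex e₁
  let b₀ : Basis (Fin (N + N)) F (Fin N ⊕ Fin N → F) :=
    (Pi.basisFun F (Fin N ⊕ Fin N)).reindex finSumFinEquiv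
  have hd₁ : (LinearMap.BilinForm.toMatrix b₁ B).det = (LinearMap.BilinForm.toMatrix b B).det := by
    rw [toMatrix_reindex, Matrix.det_submatrix_equiv_self]
  have hd₀ : (LinearMap.BilinForm.toMatrix b₀ (hypB (F := F) N)).det = (-1) ^ N := by
    rw [toMatrix_reindex, Matrix.det_submatrix_equiv_self, hypB_toMatrix, det_swapB]
  obtain ⟨g, hg⟩ := exists_isometry_of_disc h2 b₀ b₁ (hypB N) B (hypB_isSymm N) hS
    (hypB_nondegenerate N) hN (by rw [hd₀, hd₁]; exact hsq)
  refine ⟨LinearMap.range ((g : (Fin N ⊕ Fin N → F) →ₗ[F] V).comp (inlMap N)), ?_, ?_⟩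
  · rw [LinearMap.finrank_range_of_inj]
    · simp
    · exact g.injective.comp (inlMap_injective N)
  · rintro x ⟨a, rfl⟩ y ⟨a', rfl⟩
    simp only [LinearMap.comp_apply, LinearEquiv.coe_coe]
    rw [hg, hypB_inlMap]

end plus

section tensor

open TensorProduct

variable {U W : Type*} [AddCommGroup U] [Module F U] [AddCommGroup W] [Module F W]

theorem tmul_toMatrix {ι κ : Type*} [Fintype ι] [DecidableEq ι] [Fintype κ] [DecidableEq κ]
    (b₁ : Basis ι F U) (b₂ : Basis κ F W) (B₁ : LinearMap.BilinForm F U)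
    (B₂ : LinearMap.BilinForm F W) :
    LinearMap.BilinForm.toMatrix (b₁.tensorProduct b₂) (B₁.tmul B₂) =
      Matrix.kronecker (LinearMap.BilinForm.toMatrix b₁ B₁) (LinearMap.BilinForm.toMatrix b₂ B₂) := by
  ext ⟨i, j⟩ ⟨i', j'⟩
  rw [LinearMap.BilinForm.toMatrix_apply, Basis.tensorProduct_apply, Basis.tensorProduct_apply]
  simp [LinearMap.BilinForm.toMatrix_apply, mul_comm]

theorem tmul_det {ι κ : Type*} [Fintype ι] [DecidableEq ι] [Fintype κ] [DecidableEq κ]
    (b₁ : Basis ι F U) (b₂ : Basis κ F W) (B₁ : LinearMap.BilinForm F U)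
    (B₂ : LinearMap.BilinForm F W) :
    (LinearMap.BilinForm.toMatrix (b₁.tensorProduct b₂) (B₁.tmul B₂)).det =
      (LinearMap.BilinForm.toMatrix b₁ B₁).det ^ Fintype.card κ *
        (LinearMap.BilinForm.toMatrix b₂ B₂).det ^ Fintype.card ι := by
  rw [tmul_toMatrix]
  exact Matrix.det_kronecker _ _

end tensor

end Cfsg.Agent.Lib.Helper25.DiscType
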