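import Cfsg.Agent.Lib.Helper25.SpinSum

set_option autoImplicit false

/-!
# `diag(g, g) ∈ Ω(Q ⊕ Q)`
-/

namespace Cfsg.Agent.Lib.Helper25.Spin

open Module QuadraticMap Matrix Cfsg.Agent.Lib.Helper25.CD
open scoped commutatorElement

/-- In a group generated by involutions every square lies in the commutator subgroup. -/
theorem sq_mem_commutator {G : Type*} [Group G] (S : Set G) (hS : Subgroup.closure S = ⊤)
    (hinv : ∀ r ∈ S, r * r = 1) (x : G) : x * x ∈ commutator G := by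
  rw [← Abelianization.ker_of, MonoidHom.mem_ker, map_mul]
  have hx : x ∈ Subgroup.closure S := by rw [hS]; trivial
  induction hx using Subgroup.closure_induction with
  | mem r hr => rw [← map_mul, hinv r hr, map_one]
  | one => simp
  | mul a b _ _ ha hb =>
    rw [map_mul, mul_mul_mul_comm, ha, hb, one_mul]
  | inv a _ ha =>
    rw [map_inv, ← mul_inv, ha, inv_one]

section diag

variable {ι : Type} [Fintype ι] [DecidableEq ι] {F : Type*} [Field F]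
  (Q : QuadraticForm F (ι → F))

/-- The isometry `g ⊕ 1` of `Q ⊕ Q`. -/
noncomputable def blockL (g : ↥(Cfsg.isometryGroup F ⇑Q)) :
    ↥(Cfsg.isometryGroup F ⇑(sumQ Q Q)) :=
  ⟨⟨Matrix.fromBlocks ((g : GL ι F) : Matrix ι ι F) 0 0 1,
    Matrix.fromBlocks (((g⁻¹ : ↥(Cfsg.isometryGroup F ⇑Q)) : GL ι F) : Matrix ι ι F) 0 0 1, by
      rw [Matrix.fromBlocks_multiply]
      have : ((g : GL ι F) : Matrix ι ι F) * (((g⁻¹ : ↥(Cfsg.isometryGroup F ⇑Q)) : GL ι F) :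
          Matrix ι ι F) = 1 := by
        have h1 : (g : GL ι F) * ((g⁻¹ : ↥(Cfsg.isometryGroup F ⇑Q)) : GL ι F) = 1 := by
          rw [← Subgroup.coe_mul, mul_inv_cancel]; rfl
        have := congrArg (fun u : GL ι F => (u : Matrix ι ι F)) h1
        simpa using this
      simp [Matrix.fromBlocks_one], by
      rw [Matrix.fromBlocks_multiply]
      have : (((g⁻¹ : ↥(Cfsg.isometryGroup F ⇑Q)) : GL ι F) : Matrix ι ι F) *
          ((g : GL ι F) : Matrix ι ι F) = 1 := by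
        have h1 : ((g⁻¹ : ↥(Cfsg.isometryGroup F ⇑Q)) : GL ι F) * (g : GL ι F) = 1 := by
          rw [← Subgroup.coe_mul, inv_mul_cancel]; rfl
        have := congrArg (fun u : GL ι F => (u : Matrix ι ι F)) h1
        simpa using this
      simp [Matrix.fromBlocks_one]⟩, by
    intro u _
    show sumQ Q Q (Matrix.fromBlocks ((g : GL ι F) : Matrix ι ι F) 0 0 1 *ᵥ u) = sumQ Q Q u
    rw [Matrix.fromBlocks_mulVec, sumQ_apply, sumQ_apply]
    simp only [Matrix.zero_mulVec, add_zero, zero_add, Matrix.one_mulVec, Sum.elim_comp_inl,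
      Sum.elim_comp_inr]
    have hg : Q (((g : GL ι F) : Matrix ι ι F) *ᵥ (u ∘ Sum.inl)) = Q (u ∘ Sum.inl) :=
      g.2 (u ∘ Sum.inl) (u ∘ Sum.inl)
    rw [hg]⟩

theorem blockL_coe (g : ↥(Cfsg.isometryGroup F ⇑Q)) :
    ((blockL Q g : GL (ι ⊕ ι) F) : Matrix (ι ⊕ ι) (ι ⊕ ι) F) =
      Matrix.fromBlocks ((g : GL ι F) : Matrix ι ι F) 0 0 1 := rfl

/-- The isometry of `Q ⊕ Q` swapping the two summands. -/
noncomputable def swapG : ↥(Cfsg.isometryGroup F ⇑(sumQ Q Q)) :=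
  ⟨⟨Matrix.fromBlocks 0 1 1 0, Matrix.fromBlocks 0 1 1 0, by
      rw [Matrix.fromBlocks_multiply]; simp [Matrix.fromBlocks_one], by
      rw [Matrix.fromBlocks_multiply]; simp [Matrix.fromBlocks_one]⟩, by
    intro u _
    show sumQ Q Q (Matrix.fromBlocks (0 : Matrix ι ι F) 1 1 0 *ᵥ u) = sumQ Q Q u
    rw [Matrix.fromBlocks_mulVec, sumQ_apply, sumQ_apply]
    simp only [Matrix.zero_mulVec, add_zero, zero_add, Matrix.one_mulVec, Sum.elim_comp_inl,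
      Sum.elim_comp_inr]
    rw [add_comm]⟩

theorem swapG_coe :
    ((swapG Q : GL (ι ⊕ ι) F) : Matrix (ι ⊕ ι) (ι ⊕ ι) F) = Matrix.fromBlocks 0 1 1 0 := rfl

theorem swapG_inv_coe :
    (((swapG Q)⁻¹ : ↥(Cfsg.isometryGroup F ⇑(sumQ Q Q))) : GL (ι ⊕ ι) F).val =
      Matrix.fromBlocks 0 1 1 0 := rfl

theorem diag_coe (g : ↥(Cfsg.isometryGroup F ⇑Q)) :
    ((blockL Q g * swapG Q * blockL Q g * (swapG Q)⁻¹ : ↥(Cfsg.isometryGroup F ⇑(sumQ Q Q))) :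
      GL (ι ⊕ ι) F).val =
      Matrix.fromBlocks ((g : GL ι F) : Matrix ι ι F) 0 0 ((g : GL ι F) : Matrix ι ι F) := by
  have e : ((blockL Q g * swapG Q * blockL Q g * (swapG Q)⁻¹ :
      ↥(Cfsg.isometryGroup F ⇑(sumQ Q Q))) : GL (ι ⊕ ι) F).val =
      ((blockL Q g : GL (ι ⊕ ι) F) : Matrix (ι ⊕ ι) (ι ⊕ ι) F) *
        ((swapG Q : GL (ι ⊕ ι) F) : Matrix (ι ⊕ ι) (ι ⊕ ι) F) *
        ((blockL Q g : GL (ι ⊕ ι) F) : Matrix (ι ⊕ ι) (ι ⊕ ι) F) *
        (((swapG Q)⁻¹ : ↥(Cfsg.isometryGroup F ⇑(sumQ Q Q))) : GL (ι ⊕ ι) F).val := rfl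
  rw [e, blockL_coe, swapG_coe, swapG_inv_coe, Matrix.fromBlocks_multiply,
    Matrix.fromBlocks_multiply, Matrix.fromBlocks_multiply]
  simp

end diag

section main

variable {ι : Type} [Fintype ι] [DecidableEq ι] {F : Type*} [Field F] [Fintype F]
  (Q : QuadraticForm F (ι → F))

theorem diag_mem_omega (hQ : (polarBilin Q).Nondegenerate)
    (hex : Fintype.card F ≠ 2 ∨ Fintype.card (ι ⊕ ι) ≠ 4)
    (g : ↥(Cfsg.isometryGroup F ⇑Q)) :
    ∃ x : ↥(Cfsg.isometryGroup F ⇑(sumQ Q Q)), x ∈ Cfsg.Omega F ⇑(sumQ Q Q) ∧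
      ((x : GL (ι ⊕ ι) F) : Matrix (ι ⊕ ι) (ι ⊕ ι) F) =
        Matrix.fromBlocks ((g : GL ι F) : Matrix ι ι F) 0 0 ((g : GL ι F) : Matrix ι ι F) := by
  refine ⟨blockL Q g * swapG Q * blockL Q g * (swapG Q)⁻¹, ?_, diag_coe Q g⟩
  have e : blockL Q g * swapG Q * blockL Q g * (swapG Q)⁻¹ =
      (blockL Q g * blockL Q g) * ⁅(blockL Q g)⁻¹, swapG Q⁆ := by
    rw [commutatorElement_def]
    group
  rw [e]
  apply mul_mem
  · exact sq_mem_commutator (reflSet (sumQ Q Q))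
      (reflSet_closure (sumQ Q Q) (sumQ_nondeg Q Q hQ hQ) hex) (reflSet_inv (sumQ Q Q)) _
  · show ⁅(blockL Q g)⁻¹, swapG Q⁆ ∈ commutator ↥(Cfsg.isometryGroup F ⇑(sumQ Q Q))
    rw [commutator_def]
    exact Subgroup.commutator_mem_commutator (Subgroup.mem_top _) (Subgroup.mem_top _)

theorem diag_mem_omega' (hQ : (polarBilin Q).Nondegenerate)
    (hex : Fintype.card F ≠ 2 ∨ Fintype.card (ι ⊕ ι) ≠ 4)
    (g : ↥(Cfsg.isometryGroup F ⇑Q)) (q : (ι ⊕ ι → F) → F) (hq : ⇑(sumQ Q Q) = q) :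
    ∃ x : ↥(Cfsg.isometryGroup F q), x ∈ Cfsg.Omega F q ∧
      ((x : GL (ι ⊕ ι) F) : Matrix (ι ⊕ ι) (ι ⊕ ι) F) =
        Matrix.fromBlocks ((g : GL ι F) : Matrix ι ι F) 0 0 ((g : GL ι F) : Matrix ι ι F) := by
  subst hq
  exact diag_mem_omega Q hQ hex g

end main

end Cfsg.Agent.Lib.Helper25.Spin
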