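import Cfsg.Agent.Lib.Helper25.SpinOrth

set_option autoImplicit false

/-!
# The central involution `-1` and the discriminant
-/

namespace Cfsg.Agent.Lib.Helper25.Spin

open Module QuadraticMap Matrix Cfsg.Agent.Lib.Helper25.CD

section

variable {ι : Type} [Fintype ι] [DecidableEq ι] {F : Type*} [Field F]
  (Q : QuadraticForm F (ι → F))

theorem exists_orth_basis_pi (h2 : (2 : F) ≠ 0) (hQ : (polarBilin Q).Nondegenerate) :
    ∃ B : Basis ι F (ι → F), (∀ i j, i ≠ j → polar Q (B i) (B j) = 0) ∧ ∀ i, Q (B i) ≠ 0 := by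
  obtain ⟨n, B, h1, h3⟩ := exists_orth_basis Q h2 hQ
  have hc : Fintype.card (Fin n) = Fintype.card ι := by
    rw [← Module.finrank_eq_card_basis B, Module.finrank_fintype_fun_eq_card]
  let e := Fintype.equivOfCardEq hc
  refine ⟨B.reindex e, ?_, ?_⟩
  · intro i j hij
    simp only [Basis.reindex_apply]
    exact h1 _ _ (fun h => hij (e.symm.injective h))
  · intro i
    simp only [Basis.reindex_apply]
    exact h3 _

theorem neg_one_formula (B : Basis ι F (ι → F))
    (horth : ∀ i j, i ≠ j → polar Q (B i) (B j) = 0) (hns : ∀ i, Q (B i) ≠ 0) (x : ι → F) :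
    ∑ j, ((Q (B j))⁻¹ * polar Q (B j) x) • B j = (2 : F) • x := by
  have hp : ∀ j, polar Q (B j) x = 2 * Q (B j) * B.repr x j := by
    intro j
    conv_lhs => rw [← B.sum_repr x]
    have := map_sum (polarBilin Q (B j)) (fun i => B.repr x i • B i) Finset.univ
    simp only [polarBilin_apply_apply] at this
    rw [this, Finset.sum_eq_single j]
    · rw [polar_smul_right, polar_self]
      simp only [nsmul_eq_mul, Nat.cast_ofNat, smul_eq_mul]
      ring
    · intro i _ hij
      rw [polar_smul_right, horth j i (Ne.symm hij), smul_zero]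
    · intro h
      exact absurd (Finset.mem_univ j) h
  conv_rhs => rw [← B.sum_repr x]
  rw [Finset.smul_sum]
  apply Finset.sum_congr rfl
  intro j _
  rw [hp, smul_smul]
  congr 1
  have := hns j
  field_simp

theorem gram_eq (B : Basis ι F (ι → F))
    (horth : ∀ i j, i ≠ j → polar Q (B i) (B j) = 0) :
    ((Pi.basisFun F ι).toMatrix B).det ^ 2 *
      (Matrix.of (fun i j : ι => polar ⇑Q (Pi.single i 1) (Pi.single j 1))).det =
      ∏ j, (2 * Q (B j)) := by
  have h := LinearMap.BilinForm.toMatrix_mul_basis_toMatrix (b := Pi.basisFun F ι) B (polarBilin Q)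
  rw [LinearMap.BilinForm.toMatrix_basisFun] at h
  have e1 : LinearMap.BilinForm.toMatrix' (polarBilin Q) =
      Matrix.of (fun i j : ι => polar ⇑Q (Pi.single i 1) (Pi.single j 1)) := by
    ext i j
    rw [LinearMap.BilinForm.toMatrix'_apply, polarBilin_apply_apply, Matrix.of_apply]
  have e2 : LinearMap.BilinForm.toMatrix B (polarBilin Q) = Matrix.diagonal (fun j => 2 * Q (B j)) := by
    ext i j
    rw [LinearMap.BilinForm.toMatrix_apply, polarBilin_apply_apply, Matrix.diagonal_apply]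
    by_cases hij : i = j
    · rw [if_pos hij, hij, polar_self]
      simp
    · rw [if_neg hij, horth i j hij]
  rw [e1, e2] at h
  have h3 := congrArg Matrix.det h
  rw [Matrix.det_mul, Matrix.det_mul, Matrix.det_transpose, Matrix.det_diagonal] at h3
  rw [← h3]
  ring

end

section finite

variable {ι : Type} [Fintype ι] [DecidableEq ι] {F : Type*} [Field F] [Fintype F]
  (Q : QuadraticForm F (ι → F))

theorem neg_one_mem_omega_iff_basis (h2 : (2 : F) ≠ 0) (hQ : (polarBilin Q).Nondegenerate)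
    (B : Basis ι F (ι → F))
    (horth : ∀ i j, i ≠ j → polar Q (B i) (B j) = 0) (hns : ∀ i, Q (B i) ≠ 0) :
    (∃ g : ↥(Cfsg.isometryGroup F ⇑Q), g ∈ Cfsg.Omega F ⇑Q ∧
      ((g : GL ι F) : Matrix ι ι F) = -1) ↔
      Even (Fintype.card ι) ∧ IsSquare (∏ j, Q (B j)) := by
  have key := orth_mem_omega_iff Q h2 hQ B Finset.univ (fun j _ => hns j)
    (fun i _ j _ hij => horth i j hij) (D := -1) ?_
  · rw [key, Finset.card_univ]
  · intro x
    rw [neg_one_formula Q B horth hns, Matrix.neg_mulVec, Matrix.one_mulVec, two_smul]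
    abel

theorem isSquare_sq_mul_iff {s t : F} (hs : s ≠ 0) : IsSquare (s ^ 2 * t) ↔ IsSquare t := by
  constructor
  · rintro ⟨r, hr⟩
    refine ⟨r / s, ?_⟩
    field_simp
    rw [mul_comm, hr]
    ring
  · rintro ⟨r, rfl⟩
    exact ⟨s * r, by ring⟩

/-- `-1 ∈ Ω` iff the discriminant is a square, in even dimension. -/
theorem neg_one_mem_omega_iff (h2 : (2 : F) ≠ 0) (hQ : (polarBilin Q).Nondegenerate)
    (he : Even (Fintype.card ι)) :
    (∃ g : ↥(Cfsg.isometryGroup F ⇑Q), g ∈ Cfsg.Omega F ⇑Q ∧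
      ((g : GL ι F) : Matrix ι ι F) = -1) ↔
      IsSquare (Matrix.of (fun i j : ι => polar ⇑Q (Pi.single i 1) (Pi.single j 1))).det := by
  obtain ⟨B, horth, hns⟩ := exists_orth_basis_pi Q h2 hQ
  rw [neg_one_mem_omega_iff_basis Q h2 hQ B horth hns]
  have hg := gram_eq Q B horth
  obtain ⟨k, hk⟩ := he
  have e : ∏ j, (2 * Q (B j)) = ((2 : F) ^ k) ^ 2 * ∏ j, Q (B j) := by
    rw [Finset.prod_mul_distrib, Finset.prod_const, Finset.card_univ, hk]
    ring
  rw [e] at hg
  have hP : ((Pi.basisFun F ι).toMatrix B).det ≠ 0 := by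
    intro h0
    rw [h0] at hg
    have h3 : ((2 : F) ^ k) ^ 2 * ∏ j, Q (B j) ≠ 0 := by
      apply mul_ne_zero (pow_ne_zero _ (pow_ne_zero _ h2))
      exact Finset.prod_ne_zero_iff.2 (fun j _ => hns j)
    apply h3
    rw [← hg]
    ring
  constructor
  · rintro ⟨-, h⟩
    rw [← isSquare_sq_mul_iff hP, hg, isSquare_sq_mul_iff (pow_ne_zero _ h2)]
    exact h
  · intro h
    refine ⟨⟨k, hk⟩, ?_⟩
    rw [← isSquare_sq_mul_iff hP, hg, isSquare_sq_mul_iff (pow_ne_zero _ h2)] at h
    exact h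

end finite

end Cfsg.Agent.Lib.Helper25.Spin
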