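import Cfsg.Agent.Lib.Helper25.SpinIndex

set_option autoImplicit false

/-!
# Spinor norms of involutions given by orthogonal families
-/

namespace Cfsg.Agent.Lib.Helper25.Spin

open Module QuadraticMap Matrix Cfsg.Agent.Lib.Helper25.CD

section abstract

variable {F : Type*} [Field F] {V : Type*} [AddCommGroup V] [Module F V] (Q : QuadraticForm F V)

/-- A word of reflections along a pairwise orthogonal family. -/
theorem exists_orth_word {J : Type*} [DecidableEq J] (w : J → V) (S : Finset J)
    (hw : ∀ j ∈ S, Q (w j) ≠ 0)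
    (horth : ∀ i ∈ S, ∀ j ∈ S, i ≠ j → polar Q (w i) (w j) = 0) :
    ∃ vs : List V, (∀ v ∈ vs, Q v ≠ 0) ∧ vs.length = S.card ∧
      normProd Q vs = ∏ j ∈ S, Q (w j) ∧
      ∀ x, wordProd Q vs x = x - ∑ j ∈ S, ((Q (w j))⁻¹ * polar Q (w j) x) • w j := by
  induction S using Finset.induction_on with
  | empty =>
    refine ⟨[], by simp, by simp, by simp [normProd_nil], ?_⟩
    intro x
    simp [wordProd_nil]
  | insert a S ha ih =>
    obtain ⟨vs, h1, h2, h3, h4⟩ := ih (fun j hj => hw j (Finset.mem_insert_of_mem hj))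
      (fun i hi j hj hij => horth i (Finset.mem_insert_of_mem hi) j (Finset.mem_insert_of_mem hj) hij)
    refine ⟨w a :: vs, ?_, ?_, ?_, ?_⟩
    · intro v hv
      rcases List.mem_cons.1 hv with rfl | h
      · exact hw _ (Finset.mem_insert_self ..)
      · exact h1 v h
    · rw [List.length_cons, h2, Finset.card_insert_of_notMem ha]
    · rw [normProd_cons, h3, Finset.prod_insert ha]
    · intro x
      rw [wordProd_cons, LinearEquiv.mul_apply, h4, reflE_apply, Finset.sum_insert ha]
      have hp : polar Q (w a) (x - ∑ j ∈ S, ((Q (w j))⁻¹ * polar Q (w j) x) • w j)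
          = polar Q (w a) x := by
        have e : polar Q (w a) (∑ j ∈ S, ((Q (w j))⁻¹ * polar Q (w j) x) • w j) = 0 := by
          have := map_sum (polarBilin Q (w a)) (fun j => ((Q (w j))⁻¹ * polar Q (w j) x) • w j) S
          simp only [polarBilin_apply_apply] at this
          rw [this]
          apply Finset.sum_eq_zero
          intro j hj
          rw [polar_smul_right, horth a (Finset.mem_insert_self ..) j (Finset.mem_insert_of_mem hj)
            (by rintro rfl; exact ha hj), smul_zero]
        rw [polar_sub_right, e, sub_zero]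
      rw [hp]
      abel

end abstract

section matrix

variable {ι : Type} [Fintype ι] [DecidableEq ι] {F : Type*} [Field F] [Fintype F]
  (Q : QuadraticForm F (ι → F))

/-- An isometry is determined by the linear map it induces. -/
theorem eq_wordG_of_apply {D : Matrix ι ι F} {vs : List (ι → F)}
    (h : ∀ x, D *ᵥ x = wordProd Q vs x) :
    ((wordG Q vs : GL ι F) : Matrix ι ι F) = D := by
  apply Matrix.toLin'.injective
  apply LinearMap.ext
  intro x
  rw [Matrix.toLin'_apply, Matrix.toLin'_apply, h, ← toOG_wordG, toOG_apply]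

theorem word_mem_omega_iff (h2 : (2 : F) ≠ 0) (hQ : (polarBilin Q).Nondegenerate)
    {D : Matrix ι ι F} {vs : List (ι → F)} (hvs : ∀ v ∈ vs, Q v ≠ 0)
    (h : ∀ x, D *ᵥ x = wordProd Q vs x) :
    (∃ g : ↥(Cfsg.isometryGroup F ⇑Q), g ∈ Cfsg.Omega F ⇑Q ∧
      ((g : GL ι F) : Matrix ι ι F) = D) ↔ Even vs.length ∧ IsSquare (normProd Q vs) := by
  have hD := eq_wordG_of_apply Q h
  rw [← mem_omega_iff Q h2 hQ hvs]
  constructor
  · rintro ⟨g, hg, hgD⟩
    have : g = wordG Q vs := by
      apply Subtype.ext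
      apply Units.ext
      rw [hgD, hD]
    rwa [← this]
  · intro hg
    exact ⟨wordG Q vs, hg, hD⟩

/-- The spinor norm criterion for an involution given by a pairwise orthogonal family. -/
theorem orth_mem_omega_iff (h2 : (2 : F) ≠ 0) (hQ : (polarBilin Q).Nondegenerate)
    {J : Type*} [DecidableEq J] (w : J → (ι → F)) (S : Finset J)
    (hw : ∀ j ∈ S, Q (w j) ≠ 0)
    (horth : ∀ i ∈ S, ∀ j ∈ S, i ≠ j → polar Q (w i) (w j) = 0) {D : Matrix ι ι F}
    (hD : ∀ x, D *ᵥ x = x - ∑ j ∈ S, ((Q (w j))⁻¹ * polar Q (w j) x) • w j) :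
    (∃ g : ↥(Cfsg.isometryGroup F ⇑Q), g ∈ Cfsg.Omega F ⇑Q ∧
      ((g : GL ι F) : Matrix ι ι F) = D) ↔ Even S.card ∧ IsSquare (∏ j ∈ S, Q (w j)) := by
  obtain ⟨vs, h1, h3, h4, h5⟩ := exists_orth_word Q w S hw horth
  rw [word_mem_omega_iff Q h2 hQ h1 (fun x => by rw [hD, h5]), h3, h4]

/-- The spinor norm criterion for the negation of a family of hyperbolic pairs. -/
theorem hyp_mem_omega_iff (h2 : (2 : F) ≠ 0) (hQ : (polarBilin Q).Nondegenerate)
    {K : Type*} [DecidableEq K] (e f : K → (ι → F)) (T : Finset K)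
    (hee : ∀ i ∈ T, ∀ j ∈ T, polar Q (e i) (e j) = 0)
    (hff : ∀ i ∈ T, ∀ j ∈ T, polar Q (f i) (f j) = 0)
    (hef : ∀ i ∈ T, ∀ j ∈ T, polar Q (e i) (f j) = if i = j then 1 else 0)
    {D : Matrix ι ι F}
    (hD : ∀ x, D *ᵥ x = x - (2 : F) • ∑ k ∈ T, (polar Q (f k) x • e k + polar Q (e k) x • f k)) :
    (∃ g : ↥(Cfsg.isometryGroup F ⇑Q), g ∈ Cfsg.Omega F ⇑Q ∧
      ((g : GL ι F) : Matrix ι ι F) = D) ↔ IsSquare ((-1 : F) ^ T.card) := by
  have hfe : ∀ i ∈ T, ∀ j ∈ T, polar Q (f i) (e j) = if i = j then 1 else 0 := by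
    intro i hi j hj
    rw [polar_comm, hef j hj i hi]
    by_cases h : i = j
    · rw [if_pos h, if_pos h.symm]
    · rw [if_neg h, if_neg (Ne.symm h)]
  have hQe : ∀ i ∈ T, Q (e i) = 0 := by
    intro i hi
    have := hee i hi i hi
    rw [polar_self] at this
    have h3 : (2 : F) * Q (e i) = 0 := by simpa using this
    exact (mul_eq_zero.1 h3).resolve_left h2
  have hQf : ∀ i ∈ T, Q (f i) = 0 := by
    intro i hi
    have := hff i hi i hi
    rw [polar_self] at this
    have h3 : (2 : F) * Q (f i) = 0 := by simpa using this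
    exact (mul_eq_zero.1 h3).resolve_left h2
  let w : K ⊕ K → (ι → F) := Sum.elim (fun k => e k + f k) (fun k => e k - f k)
  have hQ1 : ∀ k ∈ T, Q (e k + f k) = 1 := by
    intro k hk
    rw [QuadraticMap.map_add (⇑Q), hQe k hk, hQf k hk, hef k hk k hk, if_pos rfl]
    ring
  have hQ2 : ∀ k ∈ T, Q (e k - f k) = -1 := by
    intro k hk
    rw [sub_eq_add_neg, QuadraticMap.map_add (⇑Q), QuadraticMap.map_neg, polar_neg_right,
      hQe k hk, hQf k hk, hef k hk k hk, if_pos rfl]
    ring
  have key := orth_mem_omega_iff Q h2 hQ w (T.disjSum T) ?_ ?_ (D := D) ?_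
  · rw [key, Finset.card_disjSum, Finset.prod_disjSum]
    have e1 : ∏ x ∈ T, Q (w (Sum.inl x)) = 1 := by
      apply Finset.prod_eq_one
      intro k hk
      exact hQ1 k hk
    have e2 : ∏ x ∈ T, Q (w (Sum.inr x)) = (-1) ^ T.card := by
      have : ∀ k ∈ T, Q (w (Sum.inr k)) = -1 := fun k hk => hQ2 k hk
      rw [Finset.prod_congr rfl this, Finset.prod_const]
    rw [e1, e2, one_mul]
    constructor
    · exact fun h => h.2
    · exact fun h => ⟨⟨T.card, rfl⟩, h⟩
  · intro j hj
    rcases j with k | k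
    · rw [Finset.inl_mem_disjSum] at hj
      show Q (e k + f k) ≠ 0
      rw [hQ1 k hj]; exact one_ne_zero
    · rw [Finset.inr_mem_disjSum] at hj
      show Q (e k - f k) ≠ 0
      rw [hQ2 k hj]; exact neg_ne_zero.2 one_ne_zero
  · intro i hi j hj hij
    rcases i with i | i <;> rcases j with j | j
    · rw [Finset.inl_mem_disjSum] at hi hj
      have hne : i ≠ j := fun h => hij (by rw [h])
      show polar Q (e i + f i) (e j + f j) = 0
      rw [polar_add_left, polar_add_right, polar_add_right, hee i hi j hj, hff i hi j hj,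
        hef i hi j hj, hfe i hi j hj, if_neg hne]
      ring
    · rw [Finset.inl_mem_disjSum] at hi
      rw [Finset.inr_mem_disjSum] at hj
      show polar Q (e i + f i) (e j - f j) = 0
      rw [polar_add_left, polar_sub_right, polar_sub_right, hee i hi j hj, hff i hi j hj,
        hef i hi j hj, hfe i hi j hj]
      by_cases h : i = j
      · rw [if_pos h]; ring
      · rw [if_neg h]; ring
    · rw [Finset.inr_mem_disjSum] at hi
      rw [Finset.inl_mem_disjSum] at hj
      show polar Q (e i - f i) (e j + f j) = 0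
      rw [polar_sub_left, polar_add_right, polar_add_right, hee i hi j hj, hff i hi j hj,
        hef i hi j hj, hfe i hi j hj]
      by_cases h : i = j
      · rw [if_pos h]; ring
      · rw [if_neg h]; ring
    · rw [Finset.inr_mem_disjSum] at hi hj
      have hne : i ≠ j := fun h => hij (by rw [h])
      show polar Q (e i - f i) (e j - f j) = 0
      rw [polar_sub_left, polar_sub_right, polar_sub_right, hee i hi j hj, hff i hi j hj,
        hef i hi j hj, hfe i hi j hj, if_neg hne]
      ring
  · intro x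
    rw [hD, Finset.sum_disjSum]
    congr 1
    rw [Finset.smul_sum, ← Finset.sum_add_distrib]
    apply Finset.sum_congr rfl
    intro k hk
    show (2 : F) • (polar Q (f k) x • e k + polar Q (e k) x • f k) =
      ((Q (e k + f k))⁻¹ * polar Q (e k + f k) x) • (e k + f k) +
        ((Q (e k - f k))⁻¹ * polar Q (e k - f k) x) • (e k - f k)
    rw [hQ1 k hk, hQ2 k hk, polar_add_left, polar_sub_left]
    have : ((-1 : F))⁻¹ = -1 := by norm_num
    rw [this, inv_one, one_mul]
    simp only [smul_add, smul_sub, add_smul, sub_smul, neg_mul, one_mul, neg_smul, smul_smul]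
    rw [two_mul, two_mul, add_smul, add_smul]
    abel

end matrix

end Cfsg.Agent.Lib.Helper25.Spin
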