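import Mathlib

set_option autoImplicit false

/-!
# Cartan–Dieudonné: basics

Abstract quadratic spaces `(V, Q)` over a field: reflections as linear equivalences, the
isometry group `OG Q` and the reflection subgroup `RG Q` inside `V ≃ₗ[F] V`, and the
reduction lemma along an orthogonal decomposition `V = P ⊥ W`.
-/

namespace Cfsg.Agent.Lib.Helper25.CD

open Module QuadraticMap

variable {F : Type*} [Field F] {V : Type*} [AddCommGroup V] [Module F V]

/-- The linear map `x ↦ x - Q(v)⁻¹ f(v,x) v`. -/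
noncomputable def reflL (Q : QuadraticForm F V) (v : V) : V →ₗ[F] V :=
  LinearMap.id - ((Q v)⁻¹ • (polarBilin Q v)).smulRight v

theorem reflL_apply (Q : QuadraticForm F V) (v x : V) :
    reflL Q v x = x - ((Q v)⁻¹ * polar Q v x) • v := by
  simp [reflL, LinearMap.smulRight_apply]

theorem polar_reflL (Q : QuadraticForm F V) {v : V} (hv : Q v ≠ 0) (x : V) :
    polar Q v (reflL Q v x) = - polar Q v x := by
  rw [reflL_apply, polar_sub_right, polar_smul_right, polar_self]
  simp only [smul_eq_mul, nsmul_eq_mul, Nat.cast_ofNat]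
  field_simp
  ring

theorem reflL_involutive (Q : QuadraticForm F V) (v : V) :
    Function.Involutive (reflL Q v) := by
  intro x
  by_cases hv : Q v = 0
  · simp [reflL_apply, hv]
  · rw [reflL_apply, polar_reflL Q hv, reflL_apply]
    simp

/-- The reflection as a linear equivalence. -/
noncomputable def reflE (Q : QuadraticForm F V) (v : V) : V ≃ₗ[F] V :=
  LinearEquiv.ofInvolutive (reflL Q v) (reflL_involutive Q v)

theorem reflE_apply (Q : QuadraticForm F V) (v x : V) :
    reflE Q v x = x - ((Q v)⁻¹ * polar Q v x) • v := by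
  simp [reflE, reflL_apply]

theorem reflE_reflE (Q : QuadraticForm F V) (v x : V) : reflE Q v (reflE Q v x) = x := by
  have := reflL_involutive Q v x
  simpa [reflE] using this

theorem reflE_mul_self (Q : QuadraticForm F V) (v : V) : reflE Q v * reflE Q v = 1 := by
  ext x
  simp [reflE_reflE]

theorem reflE_inv (Q : QuadraticForm F V) (v : V) : (reflE Q v)⁻¹ = reflE Q v :=
  inv_eq_of_mul_eq_one_left (reflE_mul_self Q v)

theorem reflE_of_perp (Q : QuadraticForm F V) {v x : V} (h : polar Q v x = 0) :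
    reflE Q v x = x := by
  simp [reflE_apply, h]

theorem Q_reflE (Q : QuadraticForm F V) (v x : V) : Q (reflE Q v x) = Q x := by
  by_cases hv : Q v = 0
  · simp [reflE_apply, hv]
  · rw [reflE_apply, sub_eq_add_neg, ← neg_smul, QuadraticMap.map_add (⇑Q), QuadraticMap.map_smul,
      polar_smul_right, polar_comm]
    simp only [smul_eq_mul]
    field_simp
    ring

/-- `r_{u-u'}` maps `u` to `u'` when `Q u = Q u'` and `Q (u - u') ≠ 0`. -/
theorem reflE_swap (Q : QuadraticForm F V) {u u' : V} (h : Q u = Q u') (hne : Q (u - u') ≠ 0) :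
    reflE Q (u - u') u = u' := by
  have h1 : polar Q (u - u') u = Q (u - u') := by
    have e1 : Q (u - u') = Q u + Q u' - polar Q u u' := by
      rw [sub_eq_add_neg, QuadraticMap.map_add (⇑Q), QuadraticMap.map_neg, polar_neg_right]
      ring
    rw [polar_sub_left, polar_self, e1, polar_comm Q u' u, ← h]
    simp only [nsmul_eq_mul, Nat.cast_ofNat]
    ring
  rw [reflE_apply, h1, inv_mul_cancel₀ hne, one_smul]
  abel

/-- Isometries preserve the polar form. -/
theorem polar_of_iso (Q : QuadraticForm F V) {g : V ≃ₗ[F] V} (hg : ∀ x, Q (g x) = Q x) (x y : V) :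
    polar Q (g x) (g y) = polar Q x y := by
  simp only [polar, ← map_add, hg]

/-- The isometry group as a subgroup of `V ≃ₗ[F] V`. -/
def OG (Q : QuadraticForm F V) : Subgroup (V ≃ₗ[F] V) where
  carrier := {g | ∀ x, Q (g x) = Q x}
  mul_mem' {a b} ha hb x := by
    rw [LinearEquiv.mul_apply, ha, hb]
  one_mem' x := rfl
  inv_mem' {a} ha x := by
    have := ha (a⁻¹ x)
    rw [← LinearEquiv.mul_apply, mul_inv_cancel] at this
    exact this.symm

theorem mem_OG {Q : QuadraticForm F V} {g : V ≃ₗ[F] V} : g ∈ OG Q ↔ ∀ x, Q (g x) = Q x := Iff.rfl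

/-- The subgroup generated by the reflections in nonsingular vectors. -/
def RG (Q : QuadraticForm F V) : Subgroup (V ≃ₗ[F] V) :=
  Subgroup.closure {g | ∃ v, Q v ≠ 0 ∧ g = reflE Q v}

theorem reflE_mem_RG (Q : QuadraticForm F V) {v : V} (hv : Q v ≠ 0) : reflE Q v ∈ RG Q :=
  Subgroup.subset_closure ⟨v, hv, rfl⟩

theorem reflE_mem_OG (Q : QuadraticForm F V) (v : V) : reflE Q v ∈ OG Q := fun x => Q_reflE Q v x

theorem RG_le_OG (Q : QuadraticForm F V) : RG Q ≤ OG Q := by
  rw [RG, Subgroup.closure_le]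
  rintro g ⟨v, -, rfl⟩
  exact reflE_mem_OG Q v

/-- The reflections in nonsingular vectors orthogonal to all of `S`. -/
def RGperp (Q : QuadraticForm F V) (S : Set V) : Subgroup (V ≃ₗ[F] V) :=
  Subgroup.closure {g | ∃ v, Q v ≠ 0 ∧ (∀ s ∈ S, polar Q v s = 0) ∧ g = reflE Q v}

theorem RGperp_le_RG (Q : QuadraticForm F V) (S : Set V) : RGperp Q S ≤ RG Q := by
  rw [RGperp, Subgroup.closure_le]
  rintro g ⟨v, hv, -, rfl⟩
  exact reflE_mem_RG Q hv

theorem RGperp_fix (Q : QuadraticForm F V) (S : Set V) {g : V ≃ₗ[F] V} (hg : g ∈ RGperp Q S)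
    {s : V} (hs : s ∈ S) : g s = s := by
  induction hg using Subgroup.closure_induction with
  | mem g hg =>
    obtain ⟨v, _, hv, rfl⟩ := hg
    exact reflE_of_perp Q (hv s hs)
  | one => rfl
  | mul a b _ _ ha hb => rw [LinearEquiv.mul_apply, hb, ha]
  | inv a _ ha =>
    have : a⁻¹ (a s) = s := by rw [← LinearEquiv.mul_apply, inv_mul_cancel]; rfl
    rw [ha] at this
    exact this

theorem reflE_mem_RGperp (Q : QuadraticForm F V) (S : Set V) {v : V} (hv : Q v ≠ 0)
    (hS : ∀ s ∈ S, polar Q v s = 0) : reflE Q v ∈ RGperp Q S :=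
  Subgroup.subset_closure ⟨v, hv, hS, rfl⟩

theorem RGperp_mono (Q : QuadraticForm F V) {S T : Set V} (h : S ⊆ T) :
    RGperp Q T ≤ RGperp Q S := by
  rw [RGperp, Subgroup.closure_le]
  rintro g ⟨v, hv, hT, rfl⟩
  exact reflE_mem_RGperp Q S hv (fun s hs => hT s (h hs))

/-! ### Restriction to a submodule, extension and reduction -/

/-- The restriction of `Q` to a submodule. -/
abbrev QR (Q : QuadraticForm F V) (W : Submodule F V) : QuadraticForm F W := Q.comp W.subtype

theorem QR_apply (Q : QuadraticForm F V) (W : Submodule F V) (x : W) : QR Q W x = Q (x : V) := rfl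

theorem polar_QR (Q : QuadraticForm F V) (W : Submodule F V) (x y : W) :
    polar (QR Q W) x y = polar Q (x : V) (y : V) := by
  simp [polar, QR]

/-- Elements of the reflection group of `W` extend (by the identity on `P ⊥ W`) to elements
of the reflection group of `V`. -/
theorem ext_mem (Q : QuadraticForm F V) (P W : Submodule F V)
    (hperp : ∀ p ∈ P, ∀ w ∈ W, polar Q w p = 0)
    {h : W ≃ₗ[F] W} (hh : h ∈ RG (QR Q W)) :
    ∃ g ∈ RG Q, (∀ p ∈ P, g p = p) ∧ (∀ w : W, g (w : V) = (h w : V)) := by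
  induction hh using Subgroup.closure_induction with
  | mem h hh =>
    obtain ⟨w, hw, rfl⟩ := hh
    refine ⟨reflE Q (w : V), reflE_mem_RG Q (by simpa [QR] using hw), ?_, ?_⟩
    · intro p hp
      exact reflE_of_perp Q (hperp p hp w w.2)
    · intro w'
      rw [reflE_apply, reflE_apply]
      simp [polar_QR, QR]
  | one => exact ⟨1, one_mem _, fun _ _ => rfl, fun _ => rfl⟩
  | mul a b _ _ ha hb =>
    obtain ⟨ga, hga, ha1, ha2⟩ := ha
    obtain ⟨gb, hgb, hb1, hb2⟩ := hb
    refine ⟨ga * gb, mul_mem hga hgb, ?_, ?_⟩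
    · intro p hp
      rw [LinearEquiv.mul_apply, hb1 p hp, ha1 p hp]
    · intro w
      rw [LinearEquiv.mul_apply, hb2, ha2, LinearEquiv.mul_apply]
  | inv a _ ha =>
    obtain ⟨ga, hga, ha1, ha2⟩ := ha
    refine ⟨ga⁻¹, inv_mem hga, ?_, ?_⟩
    · intro p hp
      have : ga⁻¹ (ga p) = p := by rw [← LinearEquiv.mul_apply, inv_mul_cancel]; rfl
      rw [ha1 p hp] at this
      exact this
    · intro w
      have h1 := ha2 (a⁻¹ w)
      have h2 : a (a⁻¹ w) = w := by rw [← LinearEquiv.mul_apply, mul_inv_cancel]; rfl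
      rw [h2] at h1
      have h3 : ga⁻¹ (ga ((a⁻¹ w : W) : V)) = ((a⁻¹ w : W) : V) := by
        rw [← LinearEquiv.mul_apply, inv_mul_cancel]; rfl
      rw [h1] at h3
      exact h3

/-- The orthogonal complement with respect to the polar form. -/
abbrev perp (Q : QuadraticForm F V) (P : Submodule F V) : Submodule F V :=
  LinearMap.BilinForm.orthogonal (polarBilin Q) P

theorem mem_perp_iff (Q : QuadraticForm F V) (P : Submodule F V) (w : V) :
    w ∈ perp Q P ↔ ∀ p ∈ P, polar Q p w = 0 := Iff.rfl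

/-- Reduction along `V = P ⊥ P^⊥`: an isometry fixing `P` pointwise whose restriction to `P^⊥`
is a product of reflections of `P^⊥` is a product of reflections of `V`. -/
theorem reduce (Q : QuadraticForm F V) (P : Submodule F V)
    (hPW : P ⊔ perp Q P = ⊤)
    {g : V ≃ₗ[F] V} (hg : g ∈ OG Q) (hfix : ∀ p ∈ P, g p = p)
    (IH : ∀ h : (perp Q P) ≃ₗ[F] (perp Q P),
      h ∈ OG (QR Q _) → (∀ w, (h w : V) = g w) → h ∈ RG (QR Q _)) : g ∈ RG Q := by
  obtain ⟨W, hWdef⟩ : ∃ W, W = perp Q P := ⟨_, rfl⟩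
  have key : ∀ k : V ≃ₗ[F] V, k ∈ OG Q → (∀ p ∈ P, k p = p) →
      ∀ w ∈ perp Q P, k w ∈ perp Q P := by
    intro k hk hkfix w hw p hp
    show polar Q p (k w) = 0
    have := polar_of_iso Q hk p w
    rw [hkfix p hp] at this
    rw [this]
    exact hw p hp
  have hginv : ∀ p ∈ P, g⁻¹ p = p := by
    intro p hp
    have : g⁻¹ (g p) = p := by rw [← LinearEquiv.mul_apply, inv_mul_cancel]; rfl
    rw [hfix p hp] at this
    exact this
  have hmap : (perp Q P).map (g : V →ₗ[F] V) = perp Q P := by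
    apply le_antisymm
    · rintro _ ⟨w, hw, rfl⟩
      exact key g hg hfix w hw
    · intro w hw
      refine ⟨g⁻¹ w, key g⁻¹ (inv_mem hg) hginv w hw, ?_⟩
      show g (g⁻¹ w) = w
      rw [← LinearEquiv.mul_apply, mul_inv_cancel]; rfl
  let h := LinearEquiv.ofSubmodules g _ _ hmap
  have hh : ∀ w, (h w : V) = g w := fun w => LinearEquiv.ofSubmodules_apply g hmap w
  have hO : h ∈ OG (QR Q _) := by
    intro w
    rw [QR_apply, QR_apply, hh, hg]
  obtain ⟨g0, hg0, h1, h2⟩ := ext_mem Q P _ (fun p hp w hw => by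
    rw [polar_comm]; exact hw p hp) (IH h hO hh)
  have : g = g0 := by
    ext x
    have hx : x ∈ P ⊔ perp Q P := by rw [hPW]; trivial
    obtain ⟨p, hp, w, hw, rfl⟩ := Submodule.mem_sup.1 hx
    rw [map_add, map_add, hfix p hp, h1 p hp]
    have := h2 ⟨w, hw⟩
    rw [hh] at this
    rw [← this]
  rw [this]
  exact hg0

/-- Nondegeneracy passes to `P^⊥` when `V = P + P^⊥`. -/
theorem nondeg_perp (Q : QuadraticForm F V) (hQ : (polarBilin Q).Nondegenerate)
    (P : Submodule F V) (hPW : P ⊔ perp Q P = ⊤) :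
    (polarBilin (QR Q (perp Q P))).Nondegenerate := by
  have hsep : ∀ w : perp Q P,
      (∀ w' : perp Q P, polar Q (w : V) (w' : V) = 0) → w = 0 := by
    intro w hw
    have : (w : V) = 0 := by
      apply hQ.1
      intro x
      have hx : x ∈ P ⊔ perp Q P := by rw [hPW]; trivial
      obtain ⟨p, hp, w', hw', rfl⟩ := Submodule.mem_sup.1 hx
      rw [map_add]
      show polar Q (w : V) p + polar Q (w : V) w' = 0
      have e1 : polar Q p (w : V) = 0 := w.2 p hp
      rw [polar_comm, e1, hw ⟨w', hw'⟩, add_zero]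
    exact Subtype.ext this
  constructor
  · intro w hw
    apply hsep w
    intro w'
    have := hw w'
    rwa [polarBilin_apply_apply, polar_QR] at this
  · intro w hw
    apply hsep w
    intro w'
    have := hw w'
    rwa [polarBilin_apply_apply, polar_QR, polar_comm] at this

end Cfsg.Agent.Lib.Helper25.CD
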