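import Mathlib

set_option autoImplicit false

/-!
# Groups generated by a conjugacy class of involutions

If `G` is generated by a conjugation-invariant set `S` of involutions that are pairwise conjugate,
then the commutator subgroup of `G` is generated by the products `r * r'`, `r, r' ∈ S`, and
`G = G' ∪ G' r₀` for each `r₀ ∈ S`.
-/

namespace Cfsg.Agent.Lib.Helper25.ReflGroup

open Subgroup
open scoped commutatorElement

variable {G : Type*} [Group G]

/-- The products of two elements of `S`. -/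
def pairs (S : Set G) : Set G := {g | ∃ r ∈ S, ∃ r' ∈ S, g = r * r'}

theorem pairs_conj {S : Set G} (hSc : ∀ r ∈ S, ∀ k : G, k * r * k⁻¹ ∈ S) :
    ∀ t ∈ pairs S, ∀ k : G, k * t * k⁻¹ ∈ pairs S := by
  rintro t ⟨r, hr, r', hr', rfl⟩ k
  refine ⟨k * r * k⁻¹, hSc r hr k, k * r' * k⁻¹, hSc r' hr' k, ?_⟩
  group

theorem closure_normal_of_conj {T : Set G} (hT : ∀ t ∈ T, ∀ k : G, k * t * k⁻¹ ∈ T) :
    (closure T).Normal := by
  constructor
  intro n hn g
  induction hn using Subgroup.closure_induction with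
  | mem x hx => exact subset_closure (hT x hx g)
  | one => simp
  | mul a b _ _ ha hb =>
    have : g * (a * b) * g⁻¹ = (g * a * g⁻¹) * (g * b * g⁻¹) := by group
    rw [this]
    exact mul_mem ha hb
  | inv a _ ha =>
    have : g * a⁻¹ * g⁻¹ = (g * a * g⁻¹)⁻¹ := by group
    rw [this]
    exact inv_mem ha

theorem mem_or {S : Set G} (hS : closure S = ⊤) (hinv : ∀ r ∈ S, r * r = 1)
    (hSc : ∀ r ∈ S, ∀ k : G, k * r * k⁻¹ ∈ S) {r0 : G} (hr0 : r0 ∈ S) (g : G) :
    g ∈ closure (pairs S) ∨ g * r0 ∈ closure (pairs S) := by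
  have hN : (closure (pairs S)).Normal := closure_normal_of_conj (pairs_conj hSc)
  have hr0inv : r0⁻¹ = r0 := inv_eq_of_mul_eq_one_left (hinv r0 hr0)
  have hconj : ∀ x ∈ closure (pairs S), r0 * x * r0 ∈ closure (pairs S) := by
    intro x hx
    have := hN.conj_mem x hx r0
    rwa [hr0inv] at this
  have hg : g ∈ closure S := by rw [hS]; trivial
  induction hg using Subgroup.closure_induction with
  | mem x hx => exact Or.inr (subset_closure ⟨x, hx, r0, hr0, rfl⟩)
  | one => exact Or.inl (one_mem _)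
  | mul a b _ _ ha hb =>
    rcases ha with ha | ha <;> rcases hb with hb | hb
    · exact Or.inl (mul_mem ha hb)
    · right
      rw [mul_assoc]
      exact mul_mem ha hb
    · right
      have : a * b * r0 = (a * r0) * (r0 * b * r0) := by
        have e : a * r0 * (r0 * b * r0) = a * (r0 * r0) * b * r0 := by group
        rw [e, hinv r0 hr0, mul_one]
      rw [this]
      exact mul_mem ha (hconj b hb)
    · left
      have : a * b = (a * r0) * (r0 * (b * r0) * r0) := by
        have e : a * r0 * (r0 * (b * r0) * r0) = a * (r0 * r0) * b * (r0 * r0) := by group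
        rw [e, hinv r0 hr0, mul_one, mul_one]
      rw [this]
      exact mul_mem ha (hconj _ hb)
  | inv a _ ha =>
    rcases ha with ha | ha
    · exact Or.inl (inv_mem ha)
    · right
      have h1 : (a * r0)⁻¹ ∈ closure (pairs S) := inv_mem ha
      have : a⁻¹ * r0 = r0 * (a * r0)⁻¹ * r0 := by
        have e : r0 * (a * r0)⁻¹ * r0 = r0 * r0⁻¹ * a⁻¹ * r0 := by group
        rw [e, mul_inv_cancel, one_mul]
      rw [this]
      exact hconj _ h1

theorem commutator_le_closure_pairs {S : Set G} (hS : closure S = ⊤) (hinv : ∀ r ∈ S, r * r = 1)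
    (hSc : ∀ r ∈ S, ∀ k : G, k * r * k⁻¹ ∈ S) : commutator G ≤ closure (pairs S) := by
  rcases S.eq_empty_or_nonempty with hem | ⟨r0, hr0⟩
  · -- then `G` is trivial
    rw [hem, Subgroup.closure_empty] at hS
    intro x _
    have : x ∈ (⊥ : Subgroup G) := by rw [hS]; trivial
    rw [mem_bot] at this
    rw [this]
    exact one_mem _
  have hN : (closure (pairs S)).Normal := closure_normal_of_conj (pairs_conj hSc)
  have hcases : ∀ x : G ⧸ closure (pairs S), x = 1 ∨ x = QuotientGroup.mk r0 := by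
    intro x
    obtain ⟨g, rfl⟩ := QuotientGroup.mk_surjective x
    rcases mem_or hS hinv hSc hr0 g with h | h
    · left
      exact (QuotientGroup.eq_one_iff g).2 h
    · right
      have h1 : ((g * r0 : G) : G ⧸ closure (pairs S)) = 1 := (QuotientGroup.eq_one_iff _).2 h
      have h2 : ((r0 * r0 : G) : G ⧸ closure (pairs S)) = 1 := by rw [hinv r0 hr0]; rfl
      rw [QuotientGroup.mk_mul] at h1 h2
      have : (g : G ⧸ closure (pairs S)) * QuotientGroup.mk r0 =
          QuotientGroup.mk r0 * QuotientGroup.mk r0 := by rw [h1, h2]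
      exact mul_right_cancel this
  have hcomm : ∀ x y : G ⧸ closure (pairs S), x * y = y * x := by
    intro x y
    rcases hcases x with rfl | rfl <;> rcases hcases y with rfl | rfl <;> simp
  let _ : CommGroup (G ⧸ closure (pairs S)) :=
    { (inferInstance : Group (G ⧸ closure (pairs S))) with mul_comm := hcomm }
  have := Abelianization.commutator_subset_ker (QuotientGroup.mk' (closure (pairs S)))
  rwa [QuotientGroup.ker_mk'] at this

theorem closure_pairs_le_commutator {S : Set G} (hinv : ∀ r ∈ S, r * r = 1)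
    (hconj : ∀ r ∈ S, ∀ r' ∈ S, ∃ k : G, k * r * k⁻¹ = r') :
    closure (pairs S) ≤ commutator G := by
  rw [closure_le]
  rintro _ ⟨r, hr, r', hr', rfl⟩
  obtain ⟨k, hk⟩ := hconj r hr r' hr'
  have hrinv : r⁻¹ = r := inv_eq_of_mul_eq_one_left (hinv r hr)
  have : r * r' = ⁅r, k⁆ := by
    rw [commutatorElement_def, hrinv, ← hk]
    group
  rw [SetLike.mem_coe, this, _root_.commutator_def]
  exact Subgroup.commutator_mem_commutator (mem_top _) (mem_top _)

theorem commutator_eq_closure_pairs {S : Set G} (hS : closure S = ⊤)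
    (hinv : ∀ r ∈ S, r * r = 1) (hSc : ∀ r ∈ S, ∀ k : G, k * r * k⁻¹ ∈ S)
    (hconj : ∀ r ∈ S, ∀ r' ∈ S, ∃ k : G, k * r * k⁻¹ = r') :
    commutator G = closure (pairs S) :=
  le_antisymm (commutator_le_closure_pairs hS hinv hSc) (closure_pairs_le_commutator hinv hconj)

/-- `G = G' ∪ G' r₀`. -/
theorem mem_commutator_or {S : Set G} (hS : closure S = ⊤)
    (hinv : ∀ r ∈ S, r * r = 1) (hSc : ∀ r ∈ S, ∀ k : G, k * r * k⁻¹ ∈ S)
    (hconj : ∀ r ∈ S, ∀ r' ∈ S, ∃ k : G, k * r * k⁻¹ = r') {r0 : G} (hr0 : r0 ∈ S) (g : G) :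
    g ∈ commutator G ∨ g * r0 ∈ commutator G := by
  rw [commutator_eq_closure_pairs hS hinv hSc hconj]
  exact mem_or hS hinv hSc hr0 g

end Cfsg.Agent.Lib.Helper25.ReflGroup
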