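import Cfsg.Agent.Lib.Helper25.CDMatrix
import Cfsg.Agent.Lib.Helper25.ReflGroup

set_option autoImplicit false

/-!
# Conjugacy of reflections and `Ω` in characteristic two
-/

namespace Cfsg.Agent.Lib.Helper25.CD

open Module QuadraticMap Matrix

section abstract

variable {F : Type*} [Field F] {V : Type*} [AddCommGroup V] [Module F V] (Q : QuadraticForm F V)

theorem conj_reflE {g : V ≃ₗ[F] V} (hg : g ∈ OG Q) (v : V) :
    g * reflE Q v * g⁻¹ = reflE Q (g v) := by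
  ext x
  rw [LinearEquiv.mul_apply, LinearEquiv.mul_apply, reflE_apply, reflE_apply, map_sub, map_smul,
    apply_inv_self', hg v]
  have := polar_of_iso Q hg v (g⁻¹ x)
  rw [apply_inv_self'] at this
  rw [this]

theorem reflE_smul {c : F} (hc : c ≠ 0) (v : V) : reflE Q (c • v) = reflE Q v := by
  ext x
  rw [reflE_apply, reflE_apply, QuadraticMap.map_smul, polar_smul_left, smul_smul, smul_eq_mul,
    smul_eq_mul]
  congr 2
  by_cases hv : Q v = 0
  · simp [hv]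
  · field_simp

end abstract

section char2

variable {F : Type*} [Field F] [CharP F 2] [Fintype F] {V : Type*} [AddCommGroup V] [Module F V]
  [FiniteDimensional F V] (Q : QuadraticForm F V)

/-- In characteristic two all reflections are conjugate under the reflection group. -/
theorem exists_conj_reflE (hQ : (polarBilin Q).Nondegenerate)
    (hex : Fintype.card F ≠ 2 ∨ finrank F V ≠ 4) {v v' : V} (hv : Q v ≠ 0) (hv' : Q v' ≠ 0) :
    ∃ ρ ∈ RG Q, ρ * reflE Q v * ρ⁻¹ = reflE Q v' := by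
  obtain ⟨t, ht0, ht⟩ := exists_scale Q hv' hv
  obtain ⟨ρ, hρ, hρv⟩ := trans_all Q hQ hex (u := t • v') (u' := v) (by rw [ht]; exact hv) ht.symm
  refine ⟨ρ, hρ, ?_⟩
  rw [conj_reflE Q (RG_le_OG Q hρ), hρv, reflE_smul Q ht0]

end char2

section matrix

variable {ι : Type} [Fintype ι] [DecidableEq ι] {F : Type*} [Field F]
  (Q : QuadraticForm F (ι → F))

/-- The matrix isometry group mapped to linear equivalences. -/
noncomputable def toOG : ↥(Cfsg.isometryGroup F ⇑Q) →* ((ι → F) ≃ₗ[F] (ι → F)) :=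
  (toLE (ι := ι) (F := F)).toMonoidHom.comp (Cfsg.isometryGroup F ⇑Q).subtype

theorem toOG_eq (g : ↥(Cfsg.isometryGroup F ⇑Q)) : toOG Q g = toLE (g : GL ι F) := rfl

theorem toOG_apply (g : ↥(Cfsg.isometryGroup F ⇑Q)) (v : ι → F) :
    toOG Q g v = ((g : GL ι F) : Matrix ι ι F) *ᵥ v := rfl

theorem toOG_injective : Function.Injective (toOG Q) := by
  intro a b hab
  rw [toOG_eq, toOG_eq] at hab
  exact Subtype.ext (toLE.injective hab)

theorem toOG_mem_OG (g : ↥(Cfsg.isometryGroup F ⇑Q)) : toOG Q g ∈ OG Q :=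
  (mem_iso_iff Q _).1 g.2

/-- Lift an abstract isometry to the matrix isometry group. -/
noncomputable def ofOG (ρ : (ι → F) ≃ₗ[F] (ι → F)) (hρ : ρ ∈ OG Q) :
    ↥(Cfsg.isometryGroup F ⇑Q) :=
  ⟨toLE.symm ρ, by rw [mem_iso_iff, MulEquiv.apply_symm_apply]; exact hρ⟩

theorem toOG_ofOG (ρ : (ι → F) ≃ₗ[F] (ι → F)) (hρ : ρ ∈ OG Q) : toOG Q (ofOG Q ρ hρ) = ρ := by
  rw [toOG_eq]
  exact MulEquiv.apply_symm_apply _ _

/-- The reflection in `v` as an element of the matrix isometry group. -/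
noncomputable def reflM (v : ι → F) : ↥(Cfsg.isometryGroup F ⇑Q) :=
  ofOG Q (reflE Q v) (reflE_mem_OG Q v)

theorem toOG_reflM (v : ι → F) : toOG Q (reflM Q v) = reflE Q v := toOG_ofOG Q _ _

theorem reflM_coe (v : ι → F) :
    ((reflM Q v : GL ι F) : Matrix ι ι F) = Cfsg.reflectionMatrix ⇑Q v := toLE_symm_reflE Q v

theorem eq_reflM_of_coe {g : ↥(Cfsg.isometryGroup F ⇑Q)} {v : ι → F}
    (h : ((g : GL ι F) : Matrix ι ι F) = Cfsg.reflectionMatrix ⇑Q v) : g = reflM Q v := by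
  apply toOG_injective
  rw [toOG_reflM, toOG_eq]
  exact toLE_eq_reflE Q _ v h

/-- The set of reflections in the matrix isometry group. -/
def reflSet : Set ↥(Cfsg.isometryGroup F ⇑Q) :=
  {g | ∃ v : ι → F, Q v ≠ 0 ∧ ((g : GL ι F) : Matrix ι ι F) = Cfsg.reflectionMatrix ⇑Q v}

theorem reflM_mem {v : ι → F} (hv : Q v ≠ 0) : reflM Q v ∈ reflSet Q := ⟨v, hv, reflM_coe Q v⟩

theorem mem_reflSet_iff (g : ↥(Cfsg.isometryGroup F ⇑Q)) :
    g ∈ reflSet Q ↔ ∃ v : ι → F, Q v ≠ 0 ∧ g = reflM Q v := by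
  constructor
  · rintro ⟨v, hv, h⟩
    exact ⟨v, hv, eq_reflM_of_coe Q h⟩
  · rintro ⟨v, hv, rfl⟩
    exact reflM_mem Q hv

theorem reflM_mul_self (v : ι → F) : reflM Q v * reflM Q v = 1 := by
  apply toOG_injective
  rw [map_mul, toOG_reflM, reflE_mul_self, map_one]

theorem conj_reflM (k : ↥(Cfsg.isometryGroup F ⇑Q)) (v : ι → F) :
    k * reflM Q v * k⁻¹ = reflM Q (((k : GL ι F) : Matrix ι ι F) *ᵥ v) := by
  apply toOG_injective
  rw [map_mul, map_mul, map_inv, toOG_reflM, toOG_reflM, conj_reflE Q (toOG_mem_OG Q k)]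
  rfl

theorem reflSet_inv : ∀ r ∈ reflSet Q, r * r = 1 := by
  intro r hr
  obtain ⟨v, -, rfl⟩ := (mem_reflSet_iff Q r).1 hr
  exact reflM_mul_self Q v

theorem reflSet_conj : ∀ r ∈ reflSet Q, ∀ k : ↥(Cfsg.isometryGroup F ⇑Q),
    k * r * k⁻¹ ∈ reflSet Q := by
  intro r hr k
  obtain ⟨v, hv, rfl⟩ := (mem_reflSet_iff Q r).1 hr
  rw [conj_reflM]
  apply reflM_mem
  have := toOG_mem_OG Q k v
  rw [toOG_apply] at this
  rw [this]
  exact hv

theorem reflSet_closure [Fintype F] (hQ : (polarBilin Q).Nondegenerate)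
    (hex : Fintype.card F ≠ 2 ∨ Fintype.card ι ≠ 4) : Subgroup.closure (reflSet Q) = ⊤ :=
  closure_reflections_eq_top Q hQ hex

theorem reflSet_conj_all [Fintype F] [CharP F 2] (hQ : (polarBilin Q).Nondegenerate)
    (hex : Fintype.card F ≠ 2 ∨ Fintype.card ι ≠ 4) :
    ∀ r ∈ reflSet Q, ∀ r' ∈ reflSet Q, ∃ k : ↥(Cfsg.isometryGroup F ⇑Q), k * r * k⁻¹ = r' := by
  intro r hr r' hr'
  obtain ⟨v, hv, rfl⟩ := (mem_reflSet_iff Q r).1 hr
  obtain ⟨v', hv', rfl⟩ := (mem_reflSet_iff Q r').1 hr'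
  have hex' : Fintype.card F ≠ 2 ∨ finrank F (ι → F) ≠ 4 := by
    rw [Module.finrank_fintype_fun_eq_card]
    exact hex
  obtain ⟨ρ, hρ, hρc⟩ := exists_conj_reflE Q hQ hex' hv hv'
  refine ⟨ofOG Q ρ (RG_le_OG Q hρ), ?_⟩
  apply toOG_injective
  rw [map_mul, map_mul, map_inv, toOG_ofOG, toOG_reflM, toOG_reflM, hρc]

/-- In characteristic two, `Ω` is generated by the products of two reflections. -/
theorem omega_eq_closure_pairs [Fintype F] [CharP F 2] (hQ : (polarBilin Q).Nondegenerate)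
    (hex : Fintype.card F ≠ 2 ∨ Fintype.card ι ≠ 4) :
    Cfsg.Omega F ⇑Q = Subgroup.closure (ReflGroup.pairs (reflSet Q)) :=
  ReflGroup.commutator_eq_closure_pairs (reflSet_closure Q hQ hex) (reflSet_inv Q)
    (reflSet_conj Q) (reflSet_conj_all Q hQ hex)

/-- In characteristic two, `O = Ω ∪ Ω r₀` for every reflection `r₀`. -/
theorem mem_omega_or [Fintype F] [CharP F 2] (hQ : (polarBilin Q).Nondegenerate)
    (hex : Fintype.card F ≠ 2 ∨ Fintype.card ι ≠ 4) {v : ι → F} (hv : Q v ≠ 0)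
    (g : ↥(Cfsg.isometryGroup F ⇑Q)) :
    g ∈ Cfsg.Omega F ⇑Q ∨ g * reflM Q v ∈ Cfsg.Omega F ⇑Q :=
  ReflGroup.mem_commutator_or (reflSet_closure Q hQ hex) (reflSet_inv Q)
    (reflSet_conj Q) (reflSet_conj_all Q hQ hex) (reflM_mem Q hv) g

theorem pairs_reflSet_eq :
    ReflGroup.pairs (reflSet Q) = {g : ↥(Cfsg.isometryGroup F ⇑Q) | ∃ u v : ι → F, Q u ≠ 0 ∧
      Q v ≠ 0 ∧ ((g : GL ι F) : Matrix ι ι F) =
        Cfsg.reflectionMatrix ⇑Q u * Cfsg.reflectionMatrix ⇑Q v} := by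
  ext g
  constructor
  · rintro ⟨r, hr, r', hr', rfl⟩
    obtain ⟨u, hu, rfl⟩ := (mem_reflSet_iff Q r).1 hr
    obtain ⟨v, hv, rfl⟩ := (mem_reflSet_iff Q r').1 hr'
    refine ⟨u, v, hu, hv, ?_⟩
    rw [← reflM_coe, ← reflM_coe]
    rfl
  · rintro ⟨u, v, hu, hv, h⟩
    refine ⟨reflM Q u, reflM_mem Q hu, reflM Q v, reflM_mem Q hv, ?_⟩
    apply Subtype.ext
    apply Units.ext
    rw [h, ← reflM_coe, ← reflM_coe]
    rfl

/-- In characteristic two, `Ω` is transitive on the nonsingular points. -/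
theorem omega_trans_nonsing [Fintype F] [CharP F 2] (hQ : (polarBilin Q).Nondegenerate)
    (hex : Fintype.card F ≠ 2 ∨ Fintype.card ι ≠ 4) {u v : ι → F} (hu : Q u ≠ 0) (hv : Q v ≠ 0) :
    ∃ g : ↥(Cfsg.isometryGroup F ⇑Q), g ∈ Cfsg.Omega F ⇑Q ∧
      Submodule.span F {((g : GL ι F) : Matrix ι ι F) *ᵥ u} = Submodule.span F {v} := by
  have hex' : Fintype.card F ≠ 2 ∨ finrank F (ι → F) ≠ 4 := by
    rw [Module.finrank_fintype_fun_eq_card]
    exact hex
  obtain ⟨t, ht0, ht⟩ := exists_scale Q hv hu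
  obtain ⟨ρ, hρ, hρu⟩ := trans_all Q hQ hex' (u := t • v) (u' := u) (by rw [ht]; exact hu) ht.symm
  obtain ⟨g0, hg0def⟩ : ∃ g0, g0 = ofOG Q ρ (RG_le_OG Q hρ) := ⟨_, rfl⟩
  have hg0u : ((g0 : GL ι F) : Matrix ι ι F) *ᵥ u = t • v := by
    rw [← toOG_apply, hg0def, toOG_ofOG, hρu]
  have hspan : Submodule.span F {t • v} = Submodule.span F {v} :=
    Submodule.span_singleton_smul_eq (IsUnit.mk0 t ht0) v
  rcases mem_omega_or Q hQ hex hu g0 with h | h
  · exact ⟨g0, h, by rw [hg0u, hspan]⟩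
  · refine ⟨g0 * reflM Q u, h, ?_⟩
    have : (((g0 * reflM Q u : ↥(Cfsg.isometryGroup F ⇑Q)) : GL ι F) : Matrix ι ι F) *ᵥ u
        = t • v := by
      rw [← toOG_apply, map_mul, LinearEquiv.mul_apply, toOG_reflM, reflE_self2, toOG_apply, hg0u]
    rw [this, hspan]

end matrix

end Cfsg.Agent.Lib.Helper25.CD
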