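import Cfsg.Agent.Lib.Helper25.OrthFamily
import Cfsg.Agent.Lib.Helper25.CDConj

set_option autoImplicit false

/-!
Reflections of the hyperbolic quadric interchange the two families of maximal totally singular
subspaces; consequences for `Ω⁺` in characteristic two.
-/

namespace Cfsg.Agent.Lib.Helper25.OrthDet

open Module Matrix QuadraticMap Cfsg.Agent.Lib.Helper25.MaxTS Cfsg.Agent.Lib.Helper25.CD

variable {F : Type*} [Field F] {m : ℕ}

theorem rk_reflection {v : Fin m ⊕ Fin m → F} (hv : plusQ m v ≠ 0) :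
    rk (Cfsg.reflectionMatrix ⇑(plusQ m (F := F)) v) = 1 := by
  classical
  obtain ⟨M, hMdef⟩ : ∃ M, M = Cfsg.reflectionMatrix ⇑(plusQ m (F := F)) v := ⟨_, rfl⟩
  rw [← hMdef]
  have hMx : ∀ x, M *ᵥ x = reflE (plusQ m) v x := by
    intro x
    rw [hMdef, reflectionMatrix_mulVec]
  have hIso : IsIsoM m M := fun x => by rw [hMx, Q_reflE]
  -- a coordinate with `v (inr i) ≠ 0`
  obtain ⟨i, hi⟩ : ∃ i, v (Sum.inr i) ≠ 0 := by
    by_contra hcon
    push Not at hcon
    apply hv
    rw [plusQ_apply]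
    unfold Cfsg.quadFormPlus
    apply Finset.sum_eq_zero
    intro j _
    rw [hcon j, mul_zero]
  obtain ⟨e, hedef⟩ : ∃ e : Fin m ⊕ Fin m → F, e = Pi.single (Sum.inl i) 1 := ⟨_, rfl⟩
  have heE : e ∈ stdE m (F := F) := by
    rw [stdE_mem, hedef]
    intro j
    simp
  have hφe : polar (plusQ m (F := F)) v e = v (Sum.inr i) := by
    rw [polar_plusQ, hedef]
    simp only [Pi.single_apply, Sum.inl.injEq, reduceCtorEq, if_false, mul_zero, zero_add]
    rw [Finset.sum_eq_single i]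
    · simp
    · intro b _ hb
      rw [if_neg hb, zero_mul]
    · intro h; exact absurd (Finset.mem_univ i) h
  have hvE : v ∉ stdE m (F := F) := fun h => hv (stdE_ts m v h)
  have heME : e ∉ (stdE m (F := F)).map M.mulVecLin := by
    rintro ⟨y, hyE, hy⟩
    rw [Matrix.mulVecLin_apply, hMx] at hy
    have hy2 : y = reflE (plusQ m) v e := by rw [← hy, reflE_reflE]
    rw [reflE_apply, hφe] at hy2
    apply hvE
    have h1 : ((plusQ m v)⁻¹ * v (Sum.inr i)) • v = e - y := by rw [hy2]; abel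
    have h2 : ((plusQ m v)⁻¹ * v (Sum.inr i)) • v ∈ stdE m (F := F) := by
      rw [h1]
      exact Submodule.sub_mem _ heE hyE
    have h3 : (plusQ m v)⁻¹ * v (Sum.inr i) ≠ 0 := mul_ne_zero (inv_ne_zero hv) hi
    have := Submodule.smul_mem _ ((plusQ m v)⁻¹ * v (Sum.inr i))⁻¹ h2
    rwa [smul_smul, inv_mul_cancel₀ h3, one_smul] at this
  -- lower bound
  obtain ⟨H, hHdef⟩ : ∃ H, H = LinearMap.ker (polarBilin (plusQ m (F := F)) v) := ⟨_, rfl⟩
  have hle : stdE m (F := F) ⊓ H ≤ stdE m ⊓ (stdE m).map M.mulVecLin := by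
    rintro x ⟨hxE, hxH⟩
    refine ⟨hxE, x, hxE, ?_⟩
    rw [Matrix.mulVecLin_apply, hMx]
    apply reflE_of_perp
    rw [hHdef] at hxH
    exact hxH
  have hH : m + m ≤ finrank F H + 1 := by
    have h1 := LinearMap.finrank_range_add_finrank_ker (polarBilin (plusQ m (F := F)) v)
    have h2 : finrank F (LinearMap.range (polarBilin (plusQ m (F := F)) v)) ≤ 1 := by
      have := Submodule.finrank_le (LinearMap.range (polarBilin (plusQ m (F := F)) v))
      rwa [Module.finrank_self] at this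
    rw [finrank_plus] at h1
    rw [hHdef]
    omega
  have h3 := Submodule.finrank_sup_add_finrank_inf_eq (stdE m (F := F)) H
  have h4 : finrank F (stdE m (F := F) ⊔ H : Submodule F (Fin m ⊕ Fin m → F)) ≤ m + m := by
    have := Submodule.finrank_le (stdE m (F := F) ⊔ H)
    rwa [finrank_plus] at this
  have h5 := Submodule.finrank_mono hle
  have h6 : finrank F (stdE m (F := F) ⊓ (stdE m).map M.mulVecLin :
      Submodule F (Fin m ⊕ Fin m → F)) < finrank F (stdE m (F := F)) := by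
    apply Submodule.finrank_lt_finrank_of_lt
    refine lt_of_le_of_ne inf_le_left ?_
    intro heq
    apply heME
    have : e ∈ stdE m (F := F) ⊓ (stdE m).map M.mulVecLin := by rw [heq]; exact heE
    exact this.2
  rw [stdE_finrank] at h3 h6
  unfold rk
  omega

theorem coe_plusQ : ⇑(plusQ m (F := F)) = Cfsg.quadFormPlus m F := funext (plusQ_apply m)

theorem even_rk_of_mem_omega' (q : (Fin m ⊕ Fin m → F) → F) (hq : Cfsg.quadFormPlus m F = q)
    (g : ↥(Cfsg.isometryGroup F q)) (hg : g ∈ Cfsg.Omega F q) :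
    Even (rk ((g : Matrix.GeneralLinearGroup (Fin m ⊕ Fin m) F) :
      Matrix (Fin m ⊕ Fin m) (Fin m ⊕ Fin m) F)) := by
  subst hq
  exact even_rk_of_mem_omega g hg

/-- In characteristic two, an isometry of the hyperbolic quadric preserving the two families of
maximal totally singular subspaces lies in `Ω⁺`. -/
theorem mem_omega_of_even_rk [Fintype F] [CharP F 2] (hm : 1 ≤ m)
    (hex : Fintype.card F ≠ 2 ∨ m ≠ 2)
    (g : ↥(Cfsg.isometryGroup F (Cfsg.quadFormPlus m F)))
    (hev : Even (rk ((g : Matrix.GeneralLinearGroup (Fin m ⊕ Fin m) F) :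
      Matrix (Fin m ⊕ Fin m) (Fin m ⊕ Fin m) F))) :
    g ∈ Cfsg.Omega F (Cfsg.quadFormPlus m F) := by
  suffices H : ∀ (q : (Fin m ⊕ Fin m → F) → F) (_ : ⇑(plusQ m (F := F)) = q)
      (g : ↥(Cfsg.isometryGroup F q)),
      Even (rk ((g : Matrix.GeneralLinearGroup (Fin m ⊕ Fin m) F) :
        Matrix (Fin m ⊕ Fin m) (Fin m ⊕ Fin m) F)) → g ∈ Cfsg.Omega F q from
    H _ coe_plusQ g hev
  intro q hq
  subst hq
  intro g hev
  have hQ := plusQ_nondegenerate m (F := F)
  have hex' : Fintype.card F ≠ 2 ∨ Fintype.card (Fin m ⊕ Fin m) ≠ 4 := by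
    rw [Fintype.card_sum, Fintype.card_fin]
    rcases hex with h | h
    · exact Or.inl h
    · right; omega
  have : Nonempty (Fin m ⊕ Fin m) := ⟨Sum.inl ⟨0, hm⟩⟩
  obtain ⟨v, hv⟩ := exists_nonsing (plusQ m (F := F)) hQ
  rcases mem_omega_or (plusQ m (F := F)) hQ hex' hv g with h | h
  · exact h
  · exfalso
    have h1 := even_rk_of_mem_omega' _ coe_plusQ.symm (g * reflM (plusQ m) v) h
    have h2 : (((g * reflM (plusQ m) v : ↥(Cfsg.isometryGroup F ⇑(plusQ m (F := F)))) :
        Matrix.GeneralLinearGroup (Fin m ⊕ Fin m) F) : Matrix (Fin m ⊕ Fin m) (Fin m ⊕ Fin m) F)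
        = ((g : Matrix.GeneralLinearGroup (Fin m ⊕ Fin m) F) :
          Matrix (Fin m ⊕ Fin m) (Fin m ⊕ Fin m) F) *
          Cfsg.reflectionMatrix ⇑(plusQ m (F := F)) v := by
      rw [← reflM_coe]
      rfl
    rw [h2] at h1
    have hg : IsIsoM m ((g : Matrix.GeneralLinearGroup (Fin m ⊕ Fin m) F) :
        Matrix (Fin m ⊕ Fin m) (Fin m ⊕ Fin m) F) := fun x => g.2 x x
    have hr : IsIsoM m (Cfsg.reflectionMatrix ⇑(plusQ m (F := F)) v) := by
      intro x
      rw [reflectionMatrix_mulVec, Q_reflE]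
    have h3 := neg_one_pow_rk_mul hg hr
    rw [rk_reflection hv, h1.neg_one_pow, hev.neg_one_pow] at h3
    revert h3
    decide

end Cfsg.Agent.Lib.Helper25.OrthDet
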