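import Cfsg.Agent.Lib.Helper25.SpinForms
import Cfsg.Agent.Lib.Helper25.SpinDiag
import Cfsg.Agent.Lib.Helper25.OrthReflRk

set_option autoImplicit false

/-!
# The spinor norm of `diag(A, A⁻ᵀ)` is `det A`
-/

namespace Cfsg.Agent.Lib.Helper25.Spin

open Module QuadraticMap Matrix Cfsg.Agent.Lib.Helper25.CD Cfsg.Agent.Lib.Helper14

section phi

variable {F : Type*} [Field F] {m : ℕ}

theorem plus_eq_dot (v : Fin m ⊕ Fin m → F) :
    Cfsg.quadFormPlus m F v = (v ∘ Sum.inl) ⬝ᵥ (v ∘ Sum.inr) := rfl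

theorem dot_mulVec_inv_transpose (A : GL (Fin m) F) (a b : Fin m → F) :
    ((A : Matrix (Fin m) (Fin m) F) *ᵥ a) ⬝ᵥ
      (((A⁻¹ : GL (Fin m) F) : Matrix (Fin m) (Fin m) F)ᵀ *ᵥ b) = a ⬝ᵥ b := by
  rw [Matrix.dotProduct_mulVec, Matrix.vecMul_transpose, Matrix.mulVec_mulVec,
    ← Units.val_mul, inv_mul_cancel, Units.val_one, Matrix.one_mulVec]

/-- The isometry `diag(A, A⁻ᵀ)` of the hyperbolic form. -/
noncomputable def phiGL (A : GL (Fin m) F) : ↥(Cfsg.isometryGroup F (Cfsg.quadFormPlus m F)) :=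
  ⟨⟨Matrix.fromBlocks (A : Matrix (Fin m) (Fin m) F) 0 0
      ((A⁻¹ : GL (Fin m) F) : Matrix (Fin m) (Fin m) F)ᵀ,
    Matrix.fromBlocks ((A⁻¹ : GL (Fin m) F) : Matrix (Fin m) (Fin m) F) 0 0
      (A : Matrix (Fin m) (Fin m) F)ᵀ, by
      rw [Matrix.fromBlocks_multiply]
      simp only [Matrix.mul_zero, Matrix.zero_mul, add_zero, zero_add]
      rw [← Units.val_mul, mul_inv_cancel, ← Matrix.transpose_mul, ← Units.val_mul,
        mul_inv_cancel]
      simp [Matrix.fromBlocks_one], by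
      rw [Matrix.fromBlocks_multiply]
      simp only [Matrix.mul_zero, Matrix.zero_mul, add_zero, zero_add]
      rw [← Units.val_mul, inv_mul_cancel, ← Matrix.transpose_mul, ← Units.val_mul,
        inv_mul_cancel]
      simp [Matrix.fromBlocks_one]⟩, by
    intro u _
    show Cfsg.quadFormPlus m F (Matrix.fromBlocks (A : Matrix (Fin m) (Fin m) F) 0 0
      ((A⁻¹ : GL (Fin m) F) : Matrix (Fin m) (Fin m) F)ᵀ *ᵥ u) = Cfsg.quadFormPlus m F u
    rw [plus_eq_dot, plus_eq_dot, Matrix.fromBlocks_mulVec]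
    simp only [Matrix.zero_mulVec, add_zero, zero_add, Sum.elim_comp_inl, Sum.elim_comp_inr]
    exact dot_mulVec_inv_transpose A _ _⟩

theorem phiGL_coe (A : GL (Fin m) F) :
    ((phiGL A : GL (Fin m ⊕ Fin m) F) : Matrix (Fin m ⊕ Fin m) (Fin m ⊕ Fin m) F) =
      Matrix.fromBlocks (A : Matrix (Fin m) (Fin m) F) 0 0
        ((A⁻¹ : GL (Fin m) F) : Matrix (Fin m) (Fin m) F)ᵀ := rfl

theorem phiGL_mul (A B : GL (Fin m) F) : phiGL (A * B) = phiGL A * phiGL B := by
  apply Subtype.ext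
  apply Units.ext
  show ((phiGL (A * B) : GL (Fin m ⊕ Fin m) F) : Matrix (Fin m ⊕ Fin m) (Fin m ⊕ Fin m) F) =
    ((phiGL A : GL (Fin m ⊕ Fin m) F) : Matrix (Fin m ⊕ Fin m) (Fin m ⊕ Fin m) F) *
      ((phiGL B : GL (Fin m ⊕ Fin m) F) : Matrix (Fin m ⊕ Fin m) (Fin m ⊕ Fin m) F)
  rw [phiGL_coe, phiGL_coe, phiGL_coe, Matrix.fromBlocks_multiply]
  simp only [Matrix.mul_zero, Matrix.zero_mul, add_zero, zero_add]
  rw [_root_.mul_inv_rev, Units.val_mul, Units.val_mul, Matrix.transpose_mul]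

theorem phiGL_one : phiGL (1 : GL (Fin m) F) = 1 := by
  apply Subtype.ext
  apply Units.ext
  show ((phiGL (1 : GL (Fin m) F) : GL (Fin m ⊕ Fin m) F) :
    Matrix (Fin m ⊕ Fin m) (Fin m ⊕ Fin m) F) = 1
  rw [phiGL_coe]
  simp [Matrix.fromBlocks_one]

/-- `phiGL` as a monoid homomorphism. -/
noncomputable def phiHom : GL (Fin m) F →* ↥(Cfsg.isometryGroup F (Cfsg.quadFormPlus m F)) where
  toFun := phiGL
  map_one' := phiGL_one
  map_mul' := phiGL_mul

/-- Transvections as elements of the general linear group. -/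
noncomputable def tG (t : TransvectionStruct (Fin m) F) : GL (Fin m) F :=
  ⟨t.toMatrix, t.inv.toMatrix, t.mul_inv, t.inv_mul⟩

/-- Invertible diagonal matrices as elements of the general linear group. -/
noncomputable def dG (D : Fin m → F) (hD : ∀ i, D i ≠ 0) : GL (Fin m) F :=
  ⟨Matrix.diagonal D, Matrix.diagonal (fun i => (D i)⁻¹), by
      rw [Matrix.diagonal_mul_diagonal]
      have : (fun i => D i * (D i)⁻¹) = fun _ => (1 : F) := by
        funext i; exact mul_inv_cancel₀ (hD i)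
      rw [this, Matrix.diagonal_one], by
      rw [Matrix.diagonal_mul_diagonal]
      have : (fun i => (D i)⁻¹ * D i) = fun _ => (1 : F) := by
        funext i; exact inv_mul_cancel₀ (hD i)
      rw [this, Matrix.diagonal_one]⟩

theorem tG_prod_coe (L : List (TransvectionStruct (Fin m) F)) :
    (((L.map tG).prod : GL (Fin m) F) : Matrix (Fin m) (Fin m) F) =
      (L.map TransvectionStruct.toMatrix).prod := by
  induction L with
  | nil => rfl
  | cons t L ih =>
    rw [List.map_cons, List.prod_cons, List.map_cons, List.prod_cons, Units.val_mul, ih]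
    rfl

/-- The decomposition of an invertible matrix, in the general linear group. -/
theorem exists_decomp (A : GL (Fin m) F) :
    ∃ (L L' : List (TransvectionStruct (Fin m) F)) (D : Fin m → F) (hD : ∀ i, D i ≠ 0),
      A = (L.map tG).prod * dG D hD * (L'.map tG).prod ∧
        (A : Matrix (Fin m) (Fin m) F).det = ∏ i, D i := by
  obtain ⟨L, L', D, h⟩ :=
    Matrix.Pivot.exists_list_transvec_mul_diagonal_mul_list_transvec (A : Matrix (Fin m) (Fin m) F)
  have hdet : (A : Matrix (Fin m) (Fin m) F).det = ∏ i, D i := by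
    rw [h, Matrix.det_mul, Matrix.det_mul, TransvectionStruct.det_toMatrix_prod,
      TransvectionStruct.det_toMatrix_prod, Matrix.det_diagonal, one_mul, mul_one]
  have hA : (A : Matrix (Fin m) (Fin m) F).det ≠ 0 := by
    have := (Matrix.isUnit_iff_isUnit_det _).1 A.isUnit
    exact this.ne_zero
  have hD : ∀ i, D i ≠ 0 := by
    intro i hi
    apply hA
    rw [hdet]
    exact Finset.prod_eq_zero (Finset.mem_univ i) hi
  refine ⟨L, L', D, hD, ?_, hdet⟩
  apply Units.ext
  rw [Units.val_mul, Units.val_mul, tG_prod_coe, tG_prod_coe, h]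
  rfl

end phi

section omega

variable {F : Type*} [Field F] [Fintype F] {m : ℕ}

/-- The hyperbolic form as a Mathlib quadratic form. -/
noncomputable abbrev Qp (m : ℕ) (F : Type*) [Field F] : QuadraticForm F (Fin m ⊕ Fin m → F) :=
  qfOf (isQF_plus (F := F) (m := m))

theorem Qp_apply (v : Fin m ⊕ Fin m → F) : Qp m F v = Cfsg.quadFormPlus m F v := rfl

theorem polar_Qp (u v : Fin m ⊕ Fin m → F) : polar (Qp m F) u v = plusPolar m F u v :=
  polar_qfOf _ u v

theorem phiGL_tG_mem (h2 : (2 : F) ≠ 0) (t : TransvectionStruct (Fin m) F) :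
    phiGL (tG t) ∈ Cfsg.Omega F (Cfsg.quadFormPlus m F) := by
  have e : tG t = tG ⟨t.i, t.j, t.hij, t.c / 2⟩ * tG ⟨t.i, t.j, t.hij, t.c / 2⟩ := by
    apply Units.ext
    show t.toMatrix = (⟨t.i, t.j, t.hij, t.c / 2⟩ : TransvectionStruct (Fin m) F).toMatrix *
      (⟨t.i, t.j, t.hij, t.c / 2⟩ : TransvectionStruct (Fin m) F).toMatrix
    simp only [TransvectionStruct.toMatrix]
    rw [Matrix.transvection_mul_transvection_same _ _ t.hij]
    congr 1
    field_simp
    ring
  rw [e, phiGL_mul]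
  exact sq_mem_commutator (reflSet (Qp m F))
    (reflSet_closure (Qp m F) (qfOf_nondeg _) (Or.inl (card_ne_two h2))) (reflSet_inv (Qp m F)) _

theorem phiGL_list_mem (h2 : (2 : F) ≠ 0) (L : List (TransvectionStruct (Fin m) F)) :
    phiGL ((L.map tG).prod) ∈ Cfsg.Omega F (Cfsg.quadFormPlus m F) := by
  induction L with
  | nil =>
    rw [List.map_nil, List.prod_nil, phiGL_one]
    exact one_mem _
  | cons t L ih =>
    rw [List.map_cons, List.prod_cons, phiGL_mul]
    exact mul_mem (phiGL_tG_mem h2 t) ih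

theorem reflE_hyp (a : Fin m) {d : F} (hd : d ≠ 0) (y : Fin m ⊕ Fin m → F) :
    reflE (Qp m F) (Pi.single (Sum.inl a) 1 - d • Pi.single (Sum.inr a) 1) y =
      Sum.elim (fun i => if i = a then d⁻¹ * y (Sum.inr a) else y (Sum.inl i))
        (fun i => if i = a then d * y (Sum.inl a) else y (Sum.inr i)) := by
  have hQ : Qp m F (Pi.single (Sum.inl a) 1 - d • Pi.single (Sum.inr a) 1) = -d := by
    rw [Qp_apply]
    unfold Cfsg.quadFormPlus
    rw [Finset.sum_eq_single a]
    · simp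
    · intro b _ hb
      simp [hb]
    · intro h; exact absurd (Finset.mem_univ a) h
  have hp : polar (Qp m F) (Pi.single (Sum.inl a) 1 - d • Pi.single (Sum.inr a) 1) y =
      y (Sum.inr a) - d * y (Sum.inl a) := by
    rw [polar_Qp]
    unfold plusPolar
    rw [Finset.sum_eq_single a]
    · simp
      ring
    · intro b _ hb
      simp [hb]
    · intro h; exact absurd (Finset.mem_univ a) h
  rw [reflE_apply, hQ, hp]
  funext c
  rcases c with i | i
  · by_cases h : i = a
    · subst h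
      simp
      field_simp
      ring
    · simp [h]
  · by_cases h : i = a
    · subst h
      simp
      field_simp
      ring
    · simp [h]

/-- Scaling the hyperbolic pairs in `S` by `D`. -/
def scaleS (S : Finset (Fin m)) (D : Fin m → F) (y : Fin m ⊕ Fin m → F) : Fin m ⊕ Fin m → F :=
  Sum.elim (fun i => if i ∈ S then D i * y (Sum.inl i) else y (Sum.inl i))
    (fun i => if i ∈ S then (D i)⁻¹ * y (Sum.inr i) else y (Sum.inr i))

theorem Qp_hyp (a : Fin m) (d : F) :
    Qp m F (Pi.single (Sum.inl a) 1 - d • Pi.single (Sum.inr a) 1) = -d := by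
  rw [Qp_apply]
  unfold Cfsg.quadFormPlus
  rw [Finset.sum_eq_single a]
  · simp
  · intro b _ hb
    simp [hb]
  · intro h; exact absurd (Finset.mem_univ a) h

theorem exists_diag_word (D : Fin m → F) (hD : ∀ i, D i ≠ 0) (S : Finset (Fin m)) :
    ∃ vs : List (Fin m ⊕ Fin m → F), (∀ v ∈ vs, Qp m F v ≠ 0) ∧ Even vs.length ∧
      normProd (Qp m F) vs = ∏ i ∈ S, D i ∧ ∀ y, wordProd (Qp m F) vs y = scaleS S D y := by
  induction S using Finset.induction_on with
  | empty =>
    refine ⟨[], by simp, by simp, by simp [normProd_nil], ?_⟩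
    intro y
    rw [wordProd_nil]
    funext c
    rcases c with i | i <;> simp [scaleS]
  | insert a S ha ih =>
    obtain ⟨vs, h1, h2, h3, h4⟩ := ih
    refine ⟨(Pi.single (Sum.inl a) 1 - (1 : F) • Pi.single (Sum.inr a) 1) ::
      (Pi.single (Sum.inl a) 1 - D a • Pi.single (Sum.inr a) 1) :: vs, ?_, ?_, ?_, ?_⟩
    · intro v hv
      simp only [List.mem_cons] at hv
      rcases hv with rfl | rfl | hv
      · rw [Qp_hyp]; exact neg_ne_zero.2 one_ne_zero
      · rw [Qp_hyp]; exact neg_ne_zero.2 (hD a)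
      · exact h1 v hv
    · rw [List.length_cons, List.length_cons]
      obtain ⟨k, hk⟩ := h2
      exact ⟨k + 1, by omega⟩
    · rw [normProd_cons, normProd_cons, h3, Qp_hyp, Qp_hyp, Finset.prod_insert ha]
      ring
    · intro y
      rw [wordProd_cons, wordProd_cons, LinearEquiv.mul_apply, LinearEquiv.mul_apply, h4,
        reflE_hyp a (hD a), reflE_hyp a one_ne_zero]
      funext c
      rcases c with i | i
      · by_cases h : i = a
        · subst h
          simp [scaleS, ha]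
        · simp [scaleS, h]
      · by_cases h : i = a
        · subst h
          simp [scaleS, ha]
        · simp [scaleS, h]

theorem phiGL_dG_apply (D : Fin m → F) (hD : ∀ i, D i ≠ 0) (y : Fin m ⊕ Fin m → F) :
    ((phiGL (dG D hD) : GL (Fin m ⊕ Fin m) F) : Matrix (Fin m ⊕ Fin m) (Fin m ⊕ Fin m) F) *ᵥ y =
      scaleS Finset.univ D y := by
  rw [phiGL_coe]
  have e1 : ((dG D hD : GL (Fin m) F) : Matrix (Fin m) (Fin m) F) = Matrix.diagonal D := rfl
  have e2 : (((dG D hD)⁻¹ : GL (Fin m) F) : Matrix (Fin m) (Fin m) F) =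
      Matrix.diagonal (fun i => (D i)⁻¹) := rfl
  rw [e1, e2, Matrix.diagonal_transpose, Matrix.fromBlocks_mulVec]
  funext c
  rcases c with i | i
  · simp [scaleS, Matrix.mulVec_diagonal]
  · simp [scaleS, Matrix.mulVec_diagonal]

theorem phiGL_dG_mem_iff (h2 : (2 : F) ≠ 0) (D : Fin m → F) (hD : ∀ i, D i ≠ 0) :
    phiGL (dG D hD) ∈ Cfsg.Omega F (Cfsg.quadFormPlus m F) ↔ IsSquare (∏ i, D i) := by
  obtain ⟨vs, h1, h3, h4, h5⟩ := exists_diag_word D hD Finset.univ
  have hmat := eq_wordG_of_apply (Qp m F) (D := ((phiGL (dG D hD) : GL (Fin m ⊕ Fin m) F) :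
    Matrix (Fin m ⊕ Fin m) (Fin m ⊕ Fin m) F)) (vs := vs) (fun x => by
      rw [phiGL_dG_apply, h5])
  have e : phiGL (dG D hD) = wordG (Qp m F) vs := by
    apply Subtype.ext
    apply Units.ext
    exact hmat.symm
  rw [e]
  have key := mem_omega_iff (Qp m F) h2 (qfOf_nondeg _) h1
  rw [h4] at key
  constructor
  · intro h
    exact (key.1 h).2
  · intro h
    exact key.2 ⟨h3, h⟩

theorem phiGL_mem_iff (h2 : (2 : F) ≠ 0) (A : GL (Fin m) F) :
    phiGL A ∈ Cfsg.Omega F (Cfsg.quadFormPlus m F) ↔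
      IsSquare (A : Matrix (Fin m) (Fin m) F).det := by
  obtain ⟨L, L', D, hD, hA, hdet⟩ := exists_decomp A
  rw [hdet, ← phiGL_dG_mem_iff h2 D hD]
  conv_lhs => rw [hA]
  rw [phiGL_mul, phiGL_mul, Subgroup.mul_mem_cancel_right _ (phiGL_list_mem h2 L'),
    Subgroup.mul_mem_cancel_left _ (phiGL_list_mem h2 L)]

end omega

section final

variable {F : Type*} [Field F] [Fintype F] {m : ℕ}

open Cfsg.Agent.Lib.Helper25.MaxTS Cfsg.Agent.Lib.Helper25.OrthDet

theorem rk_phiGL (A : GL (Fin m) F) :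
    rk ((phiGL A : GL (Fin m ⊕ Fin m) F) : Matrix (Fin m ⊕ Fin m) (Fin m ⊕ Fin m) F) = 0 := by
  unfold rk
  have hle : stdE m ≤ (stdE m).map (Matrix.mulVecLin
      ((phiGL A : GL (Fin m ⊕ Fin m) F) : Matrix (Fin m ⊕ Fin m) (Fin m ⊕ Fin m) F)) := by
    intro v hv
    rw [Submodule.mem_map]
    refine ⟨(((phiGL A : GL (Fin m ⊕ Fin m) F)⁻¹ : GL (Fin m ⊕ Fin m) F) :
      Matrix (Fin m ⊕ Fin m) (Fin m ⊕ Fin m) F) *ᵥ v, ?_, ?_⟩
    · rw [stdE_mem] at hv ⊢
      intro j
      have e : (((phiGL A : GL (Fin m ⊕ Fin m) F)⁻¹ : GL (Fin m ⊕ Fin m) F) :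
          Matrix (Fin m ⊕ Fin m) (Fin m ⊕ Fin m) F) =
          Matrix.fromBlocks ((A⁻¹ : GL (Fin m) F) : Matrix (Fin m) (Fin m) F) 0 0
            (A : Matrix (Fin m) (Fin m) F)ᵀ := rfl
      rw [e, Matrix.fromBlocks_mulVec]
      have hv0 : v ∘ Sum.inr = 0 := by
        funext k
        exact hv k
      simp [hv0]
    · rw [Matrix.mulVecLin_apply, Matrix.mulVec_mulVec, ← Units.val_mul, mul_inv_cancel,
        Units.val_one, Matrix.one_mulVec]
  rw [inf_eq_left.2 hle, stdE_finrank, Nat.sub_self]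

theorem phiGL_mem_iff' (hm : 1 ≤ m) (hex : Fintype.card F ≠ 2 ∨ m ≠ 2) (A : GL (Fin m) F) :
    phiGL A ∈ Cfsg.Omega F (Cfsg.quadFormPlus m F) ↔
      IsSquare (A : Matrix (Fin m) (Fin m) F).det := by
  by_cases h2 : (2 : F) = 0
  · haveI : CharP F 2 := CharTwo.of_one_ne_zero_of_two_eq_zero one_ne_zero h2
    constructor
    · intro _
      exact FiniteField.isSquare_of_char_two (ringChar.eq F 2) _
    · intro _
      exact mem_omega_of_even_rk hm hex (phiGL A) (by rw [rk_phiGL]; exact ⟨0, rfl⟩)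
  · exact phiGL_mem_iff h2 A

theorem diagA_mem_iff (hm : 1 ≤ m) (hex : Fintype.card F ≠ 2 ∨ m ≠ 2) (A : GL (Fin m) F) :
    (∃ g : ↥(Cfsg.isometryGroup F (Cfsg.quadFormPlus m F)),
      g ∈ Cfsg.Omega F (Cfsg.quadFormPlus m F) ∧
      ((g : GL (Fin m ⊕ Fin m) F) : Matrix (Fin m ⊕ Fin m) (Fin m ⊕ Fin m) F) =
        Matrix.fromBlocks (A : Matrix (Fin m) (Fin m) F) 0 0
          ((A : Matrix (Fin m) (Fin m) F)⁻¹).transpose) ↔
      IsSquare (A : Matrix (Fin m) (Fin m) F).det := by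
  rw [← phiGL_mem_iff' hm hex A, ← Matrix.coe_units_inv]
  constructor
  · rintro ⟨g, hg, hgA⟩
    have : g = phiGL A := by
      apply Subtype.ext
      apply Units.ext
      rw [hgA]
      rfl
    rwa [← this]
  · intro h
    exact ⟨phiGL A, h, rfl⟩

end final

end Cfsg.Agent.Lib.Helper25.Spin
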