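/-
helper25 (S4861 market, leaf R1, planner helper12): the assembly of
`exists_real_over_of_inverted` from the three sub-leaves (A) `exists_two_sylow_normalized`,
(B) `exists_extension_sup`, (C) `indFun_real_of_conj`, taken here as hypotheses
(`hA`, `hB`, `hC`), so that this file does not wait for them.
-/
import Mathlib
import Cfsg.Prelude.Def_Blocks
import Cfsg.Agent.Lib.Helper6.Clifford
import Cfsg.Agent.Lib.Helper6.LinChar
import Cfsg.Agent.Lib.Helper6.CharExtra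
import Cfsg.Agent.Lib.Helper6.CliffordCorr
import Cfsg.Agent.Lib.Helper4.RealExtDefs
import Cfsg.Agent.Lib.Helper25.RealPExt

set_option autoImplicit false

namespace Cfsg.Agent.Lib.Helper25.RealP

open Cfsg Cfsg.Agent.CharLib Cfsg.Agent.Lib.Helper6 Cfsg.Agent.Lib.Helper4.RealExt
open scoped ComplexConjugate

universe u

variable {G : Type u} [Group G]

section stab

variable (V : Subgroup G) [hV : V.Normal]

/-- the stabiliser of a function on a normal subgroup -/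
def stabFun (θ : V → ℂ) : Subgroup G where
  carrier := {g | conjFun V g θ = θ}
  mul_mem' := by
    intro x y hx hy
    show conjFun V (x * y) θ = θ
    rw [conjFun_mul, show conjFun V x θ = θ from hx, show conjFun V y θ = θ from hy]
  one_mem' := conjFun_one V θ
  inv_mem' := by
    intro x hx
    show conjFun V x⁻¹ θ = θ
    have h1 : conjFun V x θ = θ := hx
    conv_lhs => rw [← h1]
    exact conjFun_inv_conjFun V x θ

theorem mem_stabFun (θ : V → ℂ) (g : G) : g ∈ stabFun V θ ↔ conjFun V g θ = θ := Iff.rfl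

/-- the function of a linear character -/
def homFun (lam : V →* ℂˣ) : V → ℂ := fun v => ((lam v : ℂˣ) : ℂ)

theorem homFun_apply (lam : V →* ℂˣ) (v : V) : homFun V lam v = ((lam v : ℂˣ) : ℂ) := rfl

theorem mem_stab_homFun (lam : V →* ℂˣ) (g : G) :
    g ∈ stabFun V (homFun V lam) ↔
      ∀ v : V, lam ⟨g * v * g⁻¹, hV.conj_mem v v.2 g⟩ = lam v := by
  rw [mem_stabFun]
  constructor
  · intro h v
    have := congrFun h v
    rw [conjFun_apply, homFun_apply, homFun_apply] at this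
    exact Units.ext this
  · intro h
    funext v
    rw [conjFun_apply, homFun_apply, homFun_apply, h v]

end stab

section core

variable [Fintype G] (V : Subgroup G) [hV : V.Normal] [Fintype V]

/-- conjugation by `t` as an endomorphism of a `t`-stable subgroup -/
def conjEnd (W : Subgroup G) (t : G) (htW : ∀ w ∈ W, t * w * t⁻¹ ∈ W) : ↥W →* ↥W where
  toFun w := ⟨t * w * t⁻¹, htW w w.2⟩
  map_one' := by
    apply Subtype.ext
    simp
  map_mul' a b := by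
    apply Subtype.ext
    show t * (a * b : G) * t⁻¹ = (t * a * t⁻¹) * (t * b * t⁻¹)
    group

omit [Fintype G] in
theorem sup_conj_stable (S₀ : Subgroup G) (t : G) (htV : ∀ v ∈ V, t * v * t⁻¹ ∈ V)
    (htS : ∀ s ∈ S₀, t * s * t⁻¹ ∈ S₀) : ∀ w ∈ V ⊔ S₀, t * w * t⁻¹ ∈ V ⊔ S₀ := by
  have h : V ⊔ S₀ ≤ (V ⊔ S₀).comap (MulAut.conj t).toMonoidHom := by
    apply sup_le
    · intro v hv
      rw [Subgroup.mem_comap]
      exact (le_sup_left : V ≤ V ⊔ S₀) (htV v hv)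
    · intro s hs
      rw [Subgroup.mem_comap]
      exact (le_sup_right : S₀ ≤ V ⊔ S₀) (htS s hs)
  intro w hw
  exact h hw

/-- The assembly of R1 from the data of the sub-leaves (A), (B) and the statement (C). -/
theorem real_over_core (lam : V →* ℂˣ) (t : G)
    (hinv : ∀ v : V, lam ⟨t * v * t⁻¹, hV.conj_mem v v.2 t⟩ = (lam v)⁻¹)
    (S₀ : Subgroup G) (hST : S₀ ≤ stabFun V (homFun V lam))
    (htS : ∀ s ∈ S₀, t * s * t⁻¹ ∈ S₀) (htS' : ∀ s ∈ S₀, t⁻¹ * s * t ∈ S₀)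
    (hodd : ¬ 2 ∣ Nat.card ↥(stabFun V (homFun V lam)) / Nat.card ↥S₀)
    (lam₀ : ↥(V ⊔ S₀) →* ℂˣ)
    (hlamV : ∀ (v : G) (hv : v ∈ V), lam₀ ⟨v, (le_sup_left : V ≤ V ⊔ S₀) hv⟩ = lam ⟨v, hv⟩)
    (hlamS : ∀ (s : G) (hs : s ∈ S₀), lam₀ ⟨s, (le_sup_right : S₀ ≤ V ⊔ S₀) hs⟩ = 1)
    (hC : ∀ (W : Subgroup G) (ψ : W → ℂ) (t : G) (htW : ∀ w ∈ W, t * w * t⁻¹ ∈ W)
      (_ : ∀ w ∈ W, t⁻¹ * w * t ∈ W)
      (_ : ∀ w : W, ψ ⟨t * w * t⁻¹, htW w w.2⟩ = conj (ψ w)),
      ∀ g : G, conj (indFun W ψ g) = indFun W ψ g) :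
    ∃ χ : IrrCharacter G, (∀ g : G, ((χ : G → ℂ) g).im = 0) ∧
      classInner (resFun V (χ : G → ℂ)) (homFun V lam) ≠ 0 := by
  classical
  let _ := fintypeIrr G
  set θ : V → ℂ := homFun V lam with hθdef
  have hθ : IsIrrCharacter V θ := isIrrCharacter_of_hom lam
  have hθc : IsCharacter V θ := IsIrrCharacter.isCharacter hθ
  have hθ1 : θ 1 = 1 := by
    show ((lam 1 : ℂˣ) : ℂ) = 1
    rw [map_one, Units.val_one]
  set T : Subgroup G := stabFun V θ with hTdef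
  let _ : Fintype ↥(V ⊔ S₀) := Fintype.ofFinite _
  have hVW : V ≤ (V ⊔ S₀) := le_sup_left
  have hSW : S₀ ≤ (V ⊔ S₀) := le_sup_right
  have hVT : V ≤ T := fun g hg =>
    (mem_stabFun V θ g).mpr (conjFun_of_mem V (IsCharacter.isClassFunction hθc) hg)
  have hWT : (V ⊔ S₀) ≤ T := sup_le hVT hST
  have htW : ∀ w ∈ (V ⊔ S₀), t * w * t⁻¹ ∈ (V ⊔ S₀) :=
    sup_conj_stable V S₀ t (fun v hv => hV.conj_mem v hv t) htS
  have htW' : ∀ w ∈ (V ⊔ S₀), t⁻¹ * w * t ∈ (V ⊔ S₀) := by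
    have := sup_conj_stable V S₀ t⁻¹ (fun v hv => hV.conj_mem v hv t⁻¹)
      (fun s hs => by simpa using htS' s hs)
    intro w hw
    simpa using this w hw
  -- the extended character and its conjugate
  set ψ₀ : ↥(V ⊔ S₀) → ℂ := fun w => ((lam₀ w : ℂˣ) : ℂ) with hψ₀def
  have hψ₀irr : IsIrrCharacter ↥(V ⊔ S₀) ψ₀ := isIrrCharacter_of_hom lam₀
  have hψ₀c : IsCharacter ↥(V ⊔ S₀) ψ₀ := IsIrrCharacter.isCharacter hψ₀irr
  have hψ₀1 : ψ₀ 1 = 1 := by
    show ((lam₀ 1 : ℂˣ) : ℂ) = 1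
    rw [map_one, Units.val_one]
  have hhom : ∀ w : ↥(V ⊔ S₀), lam₀ ⟨t * w * t⁻¹, htW w w.2⟩ = (lam₀ w)⁻¹ := by
    set f₁ : ↥(V ⊔ S₀) →* ℂˣ := lam₀.comp (conjEnd (V ⊔ S₀) t htW) with hf₁
    set f₂ : ↥(V ⊔ S₀) →* ℂˣ := lam₀⁻¹ with hf₂
    have hE : (V ⊔ S₀) ≤ (MonoidHom.eqLocus f₁ f₂).map (V ⊔ S₀).subtype := by
      apply sup_le
      · intro v hv
        refine ⟨⟨v, hVW hv⟩, ?_, rfl⟩
        show f₁ ⟨v, hVW hv⟩ = f₂ ⟨v, hVW hv⟩
        show lam₀ ⟨t * v * t⁻¹, _⟩ = (lam₀ ⟨v, hVW hv⟩)⁻¹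
        rw [hlamV v hv, hlamV (t * v * t⁻¹) (hV.conj_mem v hv t)]
        exact hinv ⟨v, hv⟩
      · intro s hs
        refine ⟨⟨s, hSW hs⟩, ?_, rfl⟩
        show lam₀ ⟨t * s * t⁻¹, _⟩ = (lam₀ ⟨s, hSW hs⟩)⁻¹
        rw [hlamS s hs, hlamS (t * s * t⁻¹) (htS s hs), inv_one]
    intro w
    obtain ⟨w', hw', hww⟩ := hE w.2
    have : w' = w := Subtype.ext hww
    rw [this] at hw'
    exact hw'
  have hψ₀conj : ∀ w : ↥(V ⊔ S₀), ψ₀ ⟨t * w * t⁻¹, htW w w.2⟩ = conj (ψ₀ w) := by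
    intro w
    have h1 : ψ₀ w⁻¹ = conj (ψ₀ w) := IsCharacter.apply_inv hψ₀c w
    rw [← h1]
    show ((lam₀ ⟨t * w * t⁻¹, htW w w.2⟩ : ℂˣ) : ℂ) = ((lam₀ w⁻¹ : ℂˣ) : ℂ)
    rw [hhom w, map_inv]
  -- the induced character
  set Φ : G → ℂ := indFun (V ⊔ S₀) ψ₀ with hΦdef
  have hΦ : IsCharacter G Φ := IsCharacter.indFun (V ⊔ S₀) hψ₀c
  have hΦreal : ∀ g : G, conj (Φ g) = Φ g := hC (V ⊔ S₀) ψ₀ t htW htW' hψ₀conj
  obtain ⟨m, hm, hcoef⟩ := IsCharacter.exists_decomp_sum hΦ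
  have hex : ∀ χ : IrrCharacter G, ∃ n : ℕ, classInner (resFun V (χ : G → ℂ)) θ = n := fun χ =>
    IsCharacter.classInner_nat (isCharacter_resFun V (IsIrrCharacter.isCharacter χ.2)) hθc
  choose e he using hex
  -- every constituent of `Φ` lies over `θ`
  have hover : ∀ χ : IrrCharacter G, m χ ≠ 0 → e χ ≠ 0 := by
    intro χ hmχ
    have hχc : IsCharacter G (χ : G → ℂ) := IsIrrCharacter.isCharacter χ.2
    have h1 : classInner Φ (χ : G → ℂ) = classInner ψ₀ (resFun (V ⊔ S₀) (χ : G → ℂ)) :=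
      frobenius_reciprocity (V ⊔ S₀) ψ₀ (IsCharacter.isClassFunction hχc)
    have h2 : classInner (resFun (V ⊔ S₀) (χ : G → ℂ)) ψ₀ ≠ 0 := by
      rw [← classInner_conj_symm, ← h1, hcoef χ, Complex.conj_natCast]
      exact Nat.cast_ne_zero.mpr hmχ
    have hsub : IsCharacter ↥(V ⊔ S₀) (resFun (V ⊔ S₀) (χ : G → ℂ) - ψ₀) :=
      IsCharacter.sub_constituent (isCharacter_resFun (V ⊔ S₀) hχc) hψ₀irr h2
    have hres : resLE hVW ψ₀ = θ := by
      funext v
      rw [resLE_apply]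
      show ((lam₀ ⟨(v : G), hVW v.2⟩ : ℂˣ) : ℂ) = ((lam v : ℂˣ) : ℂ)
      rw [hlamV v v.2]
    have hdec : resFun V (χ : G → ℂ) = θ + resLE hVW (resFun (V ⊔ S₀) (χ : G → ℂ) - ψ₀) := by
      rw [map_sub, resLE_resFun, hres]
      abel
    obtain ⟨k, hk⟩ := IsCharacter.classInner_nat (isCharacter_resLE hVW hsub) hθc
    have h3 := he χ
    rw [hdec, classInner_add_left, classInner_irr hθ hθ, if_pos rfl, hk] at h3
    intro h0
    rw [h0] at h3
    have : (1 + k : ℕ) = 0 := by exact_mod_cast h3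
    omega
  -- degrees
  set N : ℕ := (conjOrbit V θ).card with hNdef
  have hNpos : 0 < N := Finset.card_pos.mpr ⟨θ, self_mem_conjOrbit V θ⟩
  have hdeg : ∀ χ : IrrCharacter G, (m χ : ℂ) * (χ : G → ℂ) 1 = ((m χ * e χ * N : ℕ) : ℂ) := by
    intro χ
    by_cases hmχ : m χ = 0
    · rw [hmχ]
      simp
    · have h1 : classInner (resFun V (χ : G → ℂ)) θ ≠ 0 := by
        rw [he χ]
        exact Nat.cast_ne_zero.mpr (hover χ hmχ)
      rw [clifford_degree V χ.2 hθ h1, he χ, hθ1]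
      push_cast
      ring
  have hΦ1 : Φ 1 = ((∑ χ : IrrCharacter G, m χ * e χ) * N : ℕ) := by
    have h1 := congrFun hm 1
    rw [Finset.sum_apply] at h1
    rw [h1]
    push_cast
    rw [Finset.sum_mul]
    apply Finset.sum_congr rfl
    intro χ _
    rw [Pi.smul_apply, ← Nat.cast_smul_eq_nsmul ℂ, smul_eq_mul, hdeg χ]
    push_cast
    ring
  have hΦ1' : Φ 1 = (Nat.card ↥(V ⊔ S₀) : ℂ)⁻¹ * (Nat.card G : ℂ) := by
    rw [hΦdef, indFun_apply_one, hψ₀1, mul_one]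
  have hcardT : N * Nat.card ↥T = Nat.card G := by
    have h1 := card_conjOrbit_mul V θ
    have h2 : Nat.card ↥T = Nat.card {g : G // conjFun V g θ = θ} :=
      Nat.card_congr (Equiv.subtypeEquivRight (fun g => Iff.rfl))
    rw [h2]
    exact h1
  have hWpos : 0 < Nat.card ↥(V ⊔ S₀) := Nat.card_pos
  have hkey : (∑ χ : IrrCharacter G, m χ * e χ) * Nat.card ↥(V ⊔ S₀) = Nat.card ↥T := by
    have h1 : ((∑ χ : IrrCharacter G, m χ * e χ) * N : ℕ) * (Nat.card ↥(V ⊔ S₀) : ℂ) =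
        (Nat.card G : ℂ) := by
      rw [← hΦ1, hΦ1']
      have : (Nat.card ↥(V ⊔ S₀) : ℂ) ≠ 0 := Nat.cast_ne_zero.mpr hWpos.ne'
      field_simp
    have h2 : (∑ χ : IrrCharacter G, m χ * e χ) * N * Nat.card ↥(V ⊔ S₀) = N * Nat.card ↥T := by
      rw [hcardT]
      exact_mod_cast h1
    have h3 : N * ((∑ χ : IrrCharacter G, m χ * e χ) * Nat.card ↥(V ⊔ S₀)) = N * Nat.card ↥T := by
      rw [← h2]
      ring
    exact Nat.eq_of_mul_eq_mul_left hNpos h3
  have hsumodd : Odd (∑ χ : IrrCharacter G, m χ * e χ) := by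
    rw [← Nat.not_even_iff_odd]
    intro heven
    apply hodd
    have hSWdvd : Nat.card ↥S₀ ∣ Nat.card ↥(V ⊔ S₀) := Subgroup.card_dvd_of_le hSW
    obtain ⟨c, hc⟩ := hSWdvd
    have hSpos : 0 < Nat.card ↥S₀ := Nat.card_pos
    have h1 : Nat.card ↥T / Nat.card ↥S₀ = (∑ χ : IrrCharacter G, m χ * e χ) * c := by
      rw [← hkey, hc]
      rw [show (∑ χ : IrrCharacter G, m χ * e χ) * (Nat.card ↥S₀ * c) =
        Nat.card ↥S₀ * ((∑ χ : IrrCharacter G, m χ * e χ) * c) by ring]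
      exact Nat.mul_div_cancel_left _ hSpos
    rw [h1]
    exact Dvd.dvd.mul_right (even_iff_two_dvd.mp heven) c
  -- the involution
  have hmbar : ∀ χ : IrrCharacter G, m (cbar χ) = m χ := by
    intro χ
    have h1 : classInner Φ ((cbar χ : IrrCharacter G) : G → ℂ) =
        conj (classInner Φ (χ : G → ℂ)) := by
      unfold classInner
      rw [map_mul, map_inv₀, Complex.conj_natCast, map_sum]
      congr 1
      apply Finset.sum_congr rfl
      intro g _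
      rw [map_mul, hΦreal g, cbar_apply]
    rw [hcoef, hcoef, Complex.conj_natCast] at h1
    exact_mod_cast h1
  have hθbar : (fun v => conj (θ v)) = conjFun V t θ := by
    funext v
    rw [conjFun_apply]
    have h1 : θ v⁻¹ = conj (θ v) := IsCharacter.apply_inv hθc v
    rw [← h1]
    show ((lam v⁻¹ : ℂˣ) : ℂ) = ((lam ⟨t * v * t⁻¹, hV.conj_mem v v.2 t⟩ : ℂˣ) : ℂ)
    rw [hinv v, map_inv]
  have hebar : ∀ χ : IrrCharacter G, e (cbar χ) = e χ := by
    intro χ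
    have hχc : IsCharacter G (χ : G → ℂ) := IsIrrCharacter.isCharacter χ.2
    have h1 : classInner (resFun V ((cbar χ : IrrCharacter G) : G → ℂ)) θ =
        conj (classInner (resFun V (χ : G → ℂ)) (fun v => conj (θ v))) := by
      unfold classInner
      rw [map_mul, map_inv₀, Complex.conj_natCast, map_sum]
      congr 1
      apply Finset.sum_congr rfl
      intro v _
      rw [map_mul, Complex.conj_conj]
      rfl
    rw [hθbar, classInner_resFun_conjFun V (IsCharacter.isClassFunction hχc), he, he,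
      Complex.conj_natCast] at h1
    exact_mod_cast h1
  obtain ⟨χ, hfix, hoddχ⟩ := exists_fixed_odd (cbar : IrrCharacter G → IrrCharacter G)
    cbar_cbar (fun χ => m χ * e χ) (fun χ => by rw [hmbar, hebar]) hsumodd
  refine ⟨χ, ?_, ?_⟩
  · intro g
    have h1 : conj ((χ : G → ℂ) g) = (χ : G → ℂ) g := by
      conv_rhs => rw [← hfix]
      rfl
    exact Complex.conj_eq_iff_im.mp h1
  · rw [he χ]
    apply Nat.cast_ne_zero.mpr
    intro h0
    rw [h0, mul_zero] at hoddχ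
    exact absurd hoddχ (by decide)

end core

end Cfsg.Agent.Lib.Helper25.RealP
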