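/-
helper25 (S4864 market, planner helper12): leaf (N3) `exists_inv_conj_of_real`.
`K ⊴ G` of odd index, every real irreducible character of `G` of `p'`-degree: every real
`θ ∈ Irr(K)` has a `P`-invariant `G`-conjugate.
[lead `exists_twist_fixed_over` with `k = |G| - 1` gives a REAL `χ ∈ Irr(G)` over `θ`; Clifford
degree: `p ∤ |orbit of θ|`, so the stabiliser contains a Sylow, conjugate to `P`.]
-/
import Mathlib
import Cfsg.Prelude.Def_Blocks
import Cfsg.Agent.Lib.Helper6.Clifford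
import Cfsg.Agent.Lib.Helper2.GlaubReal
import Cfsg.Agent.Lib.Helper12.RealPDefs
import Cfsg.Agent.Lib.Helper12.RealNDefs
import Cfsg.Agent.Lib.Helper8.RealPR4
import Cfsg.Agent.Lib.Lead.OddIndexTwist
import Cfsg.Agent.Lib.Helper25.RealPR1Core

set_option autoImplicit false

namespace Cfsg.Agent.Lib.Helper25.RealN

open Cfsg Cfsg.Agent.CharLib Cfsg.Agent.Lib.Helper6 Cfsg.Agent.Lib.Helper12.RealP
open Cfsg.Agent.Lib.Helper12.RealN Cfsg.Agent.Lib.Helper2.Glaub Cfsg.Agent.Lib.Helper25.RealP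
open scoped ComplexConjugate

universe u

variable {G : Type u} [Group G] [Finite G]

/-- a real irreducible character of `G` over a real irreducible character of a normal subgroup
of odd index -/
theorem exists_real_over_of_real (K : Subgroup G) [hK : K.Normal] [Fintype ↥K] (hodd : Odd K.index)
    (θ : IrrCharacter ↥K) (hθ : ∀ k : ↥K, ((θ : ↥K → ℂ) k).im = 0) :
    ∃ χ : IrrCharacter G, (∀ g : G, ((χ : G → ℂ) g).im = 0) ∧
      classInner (resFun K (χ : G → ℂ)) (θ : ↥K → ℂ) ≠ 0 := by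
  classical
  let _ := Fintype.ofFinite G
  obtain ⟨m, hm⟩ : ∃ m : ℕ, Nat.card G = m + 1 :=
    ⟨Nat.card G - 1, (Nat.succ_pred_eq_of_pos Nat.card_pos).symm⟩
  have hcop : Nat.Coprime m (Nat.card G) := by
    rw [hm]
    simp
  have hke : m ^ (2 ^ 1) ≡ 1 [MOD Nat.card G] := by
    rw [hm]
    apply (Nat.modEq_iff_dvd).mpr
    refine ⟨1 - (m : ℤ), ?_⟩
    push_cast
    ring
  have hinvG : ∀ g : G, g ^ m = g⁻¹ := by
    intro g
    apply eq_inv_of_mul_eq_one_left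
    rw [← pow_succ, ← hm]
    exact pow_card_eq_one'
  have hinvK : ∀ n : K, n ^ m = n⁻¹ := by
    intro n
    apply Subtype.ext
    rw [Subgroup.coe_pow, hinvG]
    rfl
  have hθc : IsCharacter K (θ : ↥K → ℂ) := IsIrrCharacter.isCharacter θ.2
  have hθk : ∀ n : K, (θ : ↥K → ℂ) (n ^ m) = (θ : ↥K → ℂ) n := by
    intro n
    rw [hinvK, IsCharacter.apply_inv hθc]
    exact Complex.conj_eq_iff_im.mpr (hθ n)
  obtain ⟨χ, hχk, hχθ⟩ := exists_twist_fixed_over K hodd m hcop 1 hke θ hθk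
  refine ⟨χ, ?_, hχθ⟩
  intro g
  have h1 := hχk g
  rw [hinvG, IsCharacter.apply_inv (IsIrrCharacter.isCharacter χ.2)] at h1
  exact Complex.conj_eq_iff_im.mp h1

/-- **S4864 leaf (N3)** (frozen signature of `notes/S4864_leaves.lean`). -/
theorem exists_inv_conj_of_real (p : ℕ) [Fact p.Prime] (K : Subgroup G) [hK : K.Normal]
    (hodd : Odd K.index)
    (hreal : ∀ χ : IrrCharacter G, (∀ g : G, ((χ : G → ℂ) g).im = 0) →
      ¬ p ∣ charDegree (χ : G → ℂ))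
    (P : Sylow p G) (θ : IrrCharacter ↥K) (hθ : ∀ k : ↥K, ((θ : ↥K → ℂ) k).im = 0) :
    ∃ η : IrrCharacter ↥K,
      (∃ g : G, ∀ k k' : ↥K, (k' : G) = g * (k : G) * g⁻¹ → (η : ↥K → ℂ) k' = (θ : ↥K → ℂ) k) ∧
      InvUnder K (P : Subgroup G) (η : ↥K → ℂ) := by
  classical
  let _ := Fintype.ofFinite G
  let _ : Fintype K := Fintype.ofFinite K
  obtain ⟨χ, hχreal, hχθ⟩ := exists_real_over_of_real K hodd θ hθ
  have hpdeg := hreal χ hχreal
  -- Clifford degree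
  have hdeg := clifford_degree K χ.2 θ.2 hχθ
  obtain ⟨n, hn⟩ := IsCharacter.classInner_nat
    (isCharacter_resFun K (IsIrrCharacter.isCharacter χ.2)) (IsIrrCharacter.isCharacter θ.2)
  obtain ⟨dθ, _, hdθ⟩ := IsIrrCharacter.apply_one_pos θ.2
  rw [hn, hdθ] at hdeg
  have hdeg' : (χ : G → ℂ) 1 = ((n * (conjOrbit K (θ : ↥K → ℂ)).card * dθ : ℕ) : ℂ) := by
    rw [hdeg]
    push_cast
    rfl
  rw [Cfsg.Agent.Lib.Helper8.RealP.charDegree_eq_of_one hdeg'] at hpdeg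
  have hs : ¬ p ∣ (conjOrbit K (θ : ↥K → ℂ)).card := by
    intro h
    exact hpdeg (Dvd.dvd.mul_right (Dvd.dvd.mul_left h n) dθ)
  -- orbit size = index of the stabiliser
  have h1 := card_conjOrbit_mul K (θ : ↥K → ℂ)
  have h2 : Nat.card {g : G // Helper6.conjFun K g (θ : ↥K → ℂ) = (θ : ↥K → ℂ)} =
      Nat.card (stabFun K (θ : ↥K → ℂ)) := rfl
  rw [h2] at h1
  have h3 := Subgroup.index_mul_card (stabFun K (θ : ↥K → ℂ))
  have hpos : 0 < Nat.card (stabFun K (θ : ↥K → ℂ)) := Nat.card_pos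
  have hidx : (conjOrbit K (θ : ↥K → ℂ)).card = (stabFun K (θ : ↥K → ℂ)).index :=
    Nat.eq_of_mul_eq_mul_right hpos (h1.trans h3.symm)
  rw [hidx] at hs
  obtain ⟨S, hS⟩ := Cfsg.Agent.Lib.Helper8.RealP.exists_sylow_le_of_index
    (stabFun K (θ : ↥K → ℂ)) hs
  obtain ⟨a, ha⟩ := MulAction.exists_smul_eq G S P
  -- `η := θ^(a⁻¹)`
  refine ⟨⟨Helper6.conjFun K a⁻¹ (θ : ↥K → ℂ), isIrrCharacter_conjFun K θ.2 a⁻¹⟩, ⟨a, ?_⟩, ?_⟩
  · intro k k' hk
    show Helper6.conjFun K a⁻¹ (θ : ↥K → ℂ) k' = (θ : ↥K → ℂ) k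
    rw [Helper6.conjFun_apply]
    apply congrArg
    apply Subtype.ext
    show a⁻¹ * (k' : G) * a⁻¹⁻¹ = (k : G)
    rw [hk]
    group
  · intro t ht g g' hg
    show Helper6.conjFun K a⁻¹ (θ : ↥K → ℂ) g' = Helper6.conjFun K a⁻¹ (θ : ↥K → ℂ) g
    -- `t = a s a⁻¹` with `s ∈ S`
    have hts : a⁻¹ * t * a ∈ (S : Subgroup G) := by
      have : t ∈ ((a • S : Sylow p G) : Subgroup G) := by rw [ha]; exact ht
      rw [Sylow.coe_subgroup_smul, Subgroup.mem_pointwise_smul_iff_inv_smul_mem] at this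
      have e : (MulAut.conj a)⁻¹ • t = a⁻¹ * t * a := by
        rw [← map_inv, MulAut.smul_def, MulAut.conj_apply, inv_inv]
      rwa [e] at this
    have hstab : Helper6.conjFun K (a⁻¹ * t * a) (θ : ↥K → ℂ) = (θ : ↥K → ℂ) :=
      (mem_stabFun K (θ : ↥K → ℂ) _).mp (hS hts)
    have e1 : Helper6.conjFun K t (Helper6.conjFun K a⁻¹ (θ : ↥K → ℂ)) = Helper6.conjFun K a⁻¹ (θ : ↥K → ℂ) := by
      rw [← conjFun_mul]
      have e2 : a⁻¹ * t = (a⁻¹ * t * a) * a⁻¹ := by group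
      rw [e2, conjFun_mul, hstab]
    have e3 : Helper6.conjFun K a⁻¹ (θ : ↥K → ℂ) g' =
        Helper6.conjFun K t (Helper6.conjFun K a⁻¹ (θ : ↥K → ℂ)) g := by
      rw [Helper6.conjFun_apply K t]
      apply congrArg
      apply Subtype.ext
      exact hg
    rw [e3, e1]

end Cfsg.Agent.Lib.Helper25.RealN
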