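/-
helper25: groups of operators acting on a finite group by automorphisms (a homomorphism
`φ : A →* MulAut X`): invariant functions, stable subgroups, restricted and quotient actions, and
compatibility of restriction, induction and conjugation of class functions with automorphisms.
-/
import Mathlib
import Cfsg.Agent.Lib.Helper6.CliffordCorr

set_option autoImplicit false

namespace Cfsg.Agent.Lib.Helper25.GlN

open Cfsg Cfsg.Agent.CharLib Cfsg.Agent.Lib.Helper6
open scoped ComplexConjugate

universe u

variable {X : Type u} [Group X] {A : Type u} [Group A]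

/-- `χ` is invariant under the operators. -/
def Inv (φ : A →* MulAut X) (χ : X → ℂ) : Prop := ∀ a x, χ (φ a x) = χ x

/-- the subgroup `Y` is stable under the operators. -/
def Stable (φ : A →* MulAut X) (Y : Subgroup X) : Prop := ∀ a, ∀ y ∈ Y, φ a y ∈ Y

theorem apply_inv_apply (φ : A →* MulAut X) (a : A) (x : X) : φ a⁻¹ (φ a x) = x := by
  rw [map_inv]
  exact MulAut.inv_apply_self X (φ a) x

theorem apply_apply_inv (φ : A →* MulAut X) (a : A) (x : X) : φ a (φ a⁻¹ x) = x := by
  rw [map_inv]
  exact MulAut.apply_inv_self X (φ a) x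

theorem Stable.mem_iff {φ : A →* MulAut X} {Y : Subgroup X} (hY : Stable φ Y) (a : A) (x : X) :
    φ a x ∈ Y ↔ x ∈ Y := by
  constructor
  · intro h
    have := hY a⁻¹ _ h
    rwa [apply_inv_apply] at this
  · exact hY a x

theorem stable_top (φ : A →* MulAut X) : Stable φ ⊤ := fun _ _ _ => Subgroup.mem_top _

/-- the action restricted to a stable subgroup -/
def resAct (φ : A →* MulAut X) (Y : Subgroup X) (hY : Stable φ Y) : A →* MulAut Y where
  toFun a :=
    { toFun := fun y => ⟨φ a y, hY a y y.2⟩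
      invFun := fun y => ⟨φ a⁻¹ y, hY a⁻¹ y y.2⟩
      left_inv := fun y => Subtype.ext (apply_inv_apply φ a y)
      right_inv := fun y => Subtype.ext (apply_apply_inv φ a y)
      map_mul' := fun y z => Subtype.ext (map_mul (φ a) (y : X) (z : X)) }
  map_one' := by
    ext y
    simp
  map_mul' a b := by
    ext y
    simp [MulAut.mul_apply]

@[simp] theorem resAct_apply_coe (φ : A →* MulAut X) (Y : Subgroup X) (hY : Stable φ Y) (a : A)
    (y : Y) : ((resAct φ Y hY a y : Y) : X) = φ a y := rfl

theorem map_eq_of_stable {φ : A →* MulAut X} {N : Subgroup X} (hN : Stable φ N) (a : A) :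
    N.map ((φ a : X ≃* X) : X →* X) = N := by
  apply le_antisymm
  · rintro x ⟨n, hn, rfl⟩
    exact hN a n hn
  · intro n hn
    refine ⟨φ a⁻¹ n, hN a⁻¹ n hn, ?_⟩
    exact apply_apply_inv φ a n

/-- the action induced on the quotient by a stable normal subgroup -/
def quotAct (φ : A →* MulAut X) (N : Subgroup X) [N.Normal] (hN : Stable φ N) :
    A →* MulAut (X ⧸ N) where
  toFun a := QuotientGroup.congr N N (φ a) (map_eq_of_stable hN a)
  map_one' := by
    ext q
    obtain ⟨x, rfl⟩ := QuotientGroup.mk_surjective q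
    simp
  map_mul' a b := by
    ext q
    obtain ⟨x, rfl⟩ := QuotientGroup.mk_surjective q
    simp [MulAut.mul_apply]

@[simp] theorem quotAct_mk (φ : A →* MulAut X) (N : Subgroup X) [N.Normal] (hN : Stable φ N)
    (a : A) (x : X) : quotAct φ N hN a (x : X ⧸ N) = ((φ a x : X) : X ⧸ N) := rfl

theorem Inv.mul {φ : A →* MulAut X} {f g : X → ℂ} (hf : Inv φ f) (hg : Inv φ g) :
    Inv φ (f * g) := by
  intro a x
  rw [Pi.mul_apply, Pi.mul_apply, hf a x, hg a x]

theorem Inv.resFun {φ : A →* MulAut X} {χ : X → ℂ} (hχ : Inv φ χ) (Y : Subgroup X)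
    (hY : Stable φ Y) : Inv (resAct φ Y hY) (resFun Y χ) := by
  intro a y
  rw [resFun_apply, resFun_apply, resAct_apply_coe]
  exact hχ a y

theorem inv_iff_comp {φ : A →* MulAut X} {χ : X → ℂ} :
    Inv φ χ ↔ ∀ a, χ ∘ (φ a) = χ := by
  constructor
  · intro h a
    funext x
    exact h a x
  · intro h a x
    exact congrFun (h a) x

/-- invariance of an inflated function -/
theorem inv_inflate_iff {φ : A →* MulAut X} {N : Subgroup X} [N.Normal] (hN : Stable φ N)
    (β : X ⧸ N → ℂ) :
    Inv φ (fun x => β (x : X ⧸ N)) ↔ Inv (quotAct φ N hN) β := by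
  constructor
  · intro h a q
    obtain ⟨x, rfl⟩ := QuotientGroup.mk_surjective q
    rw [quotAct_mk]
    exact h a x
  · intro h a x
    have := h a (x : X ⧸ N)
    rwa [quotAct_mk] at this

/-- conjugation of functions on a stable normal subgroup and the operators -/
theorem conjFun_apply_act {φ : A →* MulAut X} (H : Subgroup X) [hN : H.Normal] (hH : Stable φ H)
    (a : A) (g : X) (θ : H → ℂ) :
    conjFun H (φ a g) θ ∘ (resAct φ H hH a) = conjFun H g (θ ∘ resAct φ H hH a) := by
  funext h
  rw [Function.comp_apply, conjFun_apply, conjFun_apply, Function.comp_apply]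
  congr 1
  apply Subtype.ext
  simp [map_mul, map_inv]

theorem conjFun_apply_act_of_inv {φ : A →* MulAut X} (H : Subgroup X) [hN : H.Normal]
    (hH : Stable φ H) {θ : H → ℂ} (hθ : Inv (resAct φ H hH) θ) (a : A) (g : X) :
    conjFun H (φ a g) θ ∘ (resAct φ H hH a) = conjFun H g θ := by
  rw [conjFun_apply_act, inv_iff_comp.mp hθ a]

/-- composing with a bijection is injective -/
theorem comp_equiv_injective {Y Z : Type*} (e : Y ≃ Z) {f g : Z → ℂ} (h : f ∘ e = g ∘ e) : f = g := by
  funext y
  have := congrFun h (e.symm y)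
  simpa using this

/-- the stabiliser of an invariant function on a stable normal subgroup is stable -/
theorem stable_of_stab {φ : A →* MulAut X} (H : Subgroup X) [hN : H.Normal] (hH : Stable φ H)
    {θ : H → ℂ} (hθ : Inv (resAct φ H hH) θ) (T : Subgroup X)
    (hT : ∀ g : X, g ∈ T ↔ conjFun H g θ = θ) : Stable φ T := by
  intro a g hg
  rw [hT] at hg ⊢
  have h1 : conjFun H (φ a g) θ ∘ (resAct φ H hH a) = θ ∘ (resAct φ H hH a) :=
    (conjFun_apply_act_of_inv H hH hθ a g).trans (hg.trans (inv_iff_comp.mp hθ a).symm)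
  exact comp_equiv_injective (resAct φ H hH a).toEquiv h1

/-- extension by zero and automorphisms -/
theorem extendByZero_apply_act {φ : A →* MulAut X} (T : Subgroup X) (hT : Stable φ T) (a : A)
    (ψ : T → ℂ) (x : X) :
    extendByZero T ψ (φ a x) = extendByZero T (ψ ∘ resAct φ T hT a) x := by
  by_cases hx : x ∈ T
  · have h1 : extendByZero T (ψ ∘ resAct φ T hT a) x = (ψ ∘ resAct φ T hT a) ⟨x, hx⟩ :=
      extendByZero_apply_coe T _ ⟨x, hx⟩
    have h2 : extendByZero T ψ (φ a x) = ψ ⟨φ a x, hT a x hx⟩ :=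
      extendByZero_apply_coe T ψ ⟨φ a x, hT a x hx⟩
    rw [h1, h2]
    rfl
  · rw [extendByZero_apply_of_not_mem T _ hx, extendByZero_apply_of_not_mem T ψ]
    rwa [hT.mem_iff]

/-- induction commutes with automorphisms -/
theorem indFun_apply_act [Fintype X] {φ : A →* MulAut X} (T : Subgroup X) (hT : Stable φ T) (a : A)
    (ψ : T → ℂ) (x : X) :
    indFun T ψ (φ a x) = indFun T (ψ ∘ resAct φ T hT a) x := by
  unfold indFun
  congr 1
  rw [← Equiv.sum_comp (φ a).toEquiv]
  apply Finset.sum_congr rfl
  intro y _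
  rw [← extendByZero_apply_act T hT a ψ]
  congr 1
  simp [map_mul, map_inv]

theorem Inv.indFun [Fintype X] {φ : A →* MulAut X} (T : Subgroup X) (hT : Stable φ T)
    {ψ : T → ℂ} (hψ : Inv (resAct φ T hT) ψ) : Inv φ (Cfsg.indFun T ψ) := by
  intro a x
  rw [indFun_apply_act T hT a ψ x, inv_iff_comp.mp hψ a]

end Cfsg.Agent.Lib.Helper25.GlN
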