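/-
helper25: the Glauberman correspondence for a `p`-group of operators acting on a `p'`-group, in
abstract form (operators given by `ψ : A →* MulAut H`, fixed points given as the range of an injective
homomorphism `j : Z →* H`), deduced from helper2's `pgroup_corr` inside the semidirect product.
-/
import Mathlib
import Cfsg.Agent.Lib.Helper25.GlNa
import Cfsg.Agent.Lib.Helper2.GlaubPInd
import Cfsg.Agent.Lib.Helper24.IrrFacts

set_option autoImplicit false
set_option linter.style.haveILetI false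

namespace Cfsg.Agent.Lib.Helper25.GlN

open Cfsg Cfsg.Agent.CharLib Cfsg.Agent.Lib.Helper6 Cfsg.Agent.Lib.Helper2.Glaub
  Cfsg.Agent.Lib.Helper24
open scoped ComplexConjugate

universe u

variable {H A Z : Type u} [Group H] [Group A] [Group Z]

/-- The correspondence statement for operators `ψ` on `H` with fixed points `j : Z →* H`, modulo `p`. -/
def AGCorr (ψ : A →* MulAut H) (j : Z →* H) [Fintype Z] (p : ℕ) : Prop :=
  (∀ β : IrrCharacter H, Inv ψ (β : H → ℂ) →
    ∃ βs : IrrCharacter Z, ∃ ε : ℤ, (ε = 1 ∨ ε = -1) ∧ ∀ β' : IrrCharacter Z, ∃ m : ℕ,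
      classInner ((β : H → ℂ) ∘ j) (β' : Z → ℂ) = (m : ℂ) ∧
      (m : ℤ) ≡ (if β' = βs then ε else 0) [ZMOD p]) ∧
  (∀ β₁ β₂ : IrrCharacter H, Inv ψ (β₁ : H → ℂ) → Inv ψ (β₂ : H → ℂ) →
    ∀ (β' : IrrCharacter Z) (m₁ m₂ : ℕ),
      classInner ((β₁ : H → ℂ) ∘ j) (β' : Z → ℂ) = (m₁ : ℂ) → ¬ p ∣ m₁ →
      classInner ((β₂ : H → ℂ) ∘ j) (β' : Z → ℂ) = (m₂ : ℂ) → ¬ p ∣ m₂ → β₁ = β₂) ∧
  (∀ β' : IrrCharacter Z, ∃ β : IrrCharacter H, Inv ψ (β : H → ℂ) ∧
    ∃ m : ℕ, classInner ((β : H → ℂ) ∘ j) (β' : Z → ℂ) = (m : ℂ) ∧ ¬ p ∣ m)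

/-- **Glauberman correspondence for `p`-groups of operators**, abstract form. -/
theorem agCorr [Finite H] [Finite A] [Fintype Z] {p : ℕ} [hp : Fact p.Prime] (ψ : A →* MulAut H)
    (hA : IsPGroup p A) (hcop : ¬ p ∣ Nat.card H) (j : Z →* H) (hj : Function.Injective j)
    (hrange : ∀ h : H, h ∈ j.range ↔ ∀ a, ψ a h = h) : AGCorr ψ j p := by
  classical
  let Γ := H ⋊[ψ] A
  haveI : Finite Γ := Finite.of_equiv _ (SemidirectProduct.equivProd (φ := ψ)).symm
  letI : Fintype Γ := Fintype.ofFinite Γ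
  let inl : H →* Γ := SemidirectProduct.inl
  let inr : A →* Γ := SemidirectProduct.inr
  let G' : Subgroup Γ := inl.range
  let S : Subgroup Γ := inr.range
  let C' : Subgroup Γ := G' ⊓ Subgroup.centralizer (S : Set Γ)
  letI : Fintype G' := Fintype.ofFinite _
  letI : Fintype C' := Fintype.ofFinite _
  have hCG : C' ≤ G' := inf_le_left
  have haut : ∀ (a : A) (h : H), inr a * inl h * (inr a)⁻¹ = inl (ψ a h) := by
    intro a h
    rw [← map_inv]
    exact (SemidirectProduct.inl_aut a h).symm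
  have hnorm : ∀ t ∈ S, ∀ g ∈ G', t * g * t⁻¹ ∈ G' := by
    rintro t ⟨a, rfl⟩ g ⟨h, rfl⟩
    exact ⟨ψ a h, (haut a h).symm⟩
  let eH : H ≃* G' := MonoidHom.ofInjective (f := inl) SemidirectProduct.inl_injective
  let eA : A ≃* S := MonoidHom.ofInjective (f := inr) SemidirectProduct.inr_injective
  have heH : ∀ h : H, ((eH h : G') : Γ) = inl h := fun h => rfl
  have hSp : IsPGroup p S := hA.of_equiv eA
  have hcoprime : (Nat.card G').Coprime (Nat.card S) := by
    rw [← Nat.card_congr eH.toEquiv, ← Nat.card_congr eA.toEquiv]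
    obtain ⟨k, hk⟩ := IsPGroup.iff_card.mp hA
    rw [hk]
    apply Nat.Coprime.pow_right
    exact ((Nat.Prime.coprime_iff_not_dvd hp.out).mpr hcop).symm
  have hcorr : PCorr G' S C' hCG p :=
    pgroup_corr hp.out (Nat.card S) G' S C' rfl hnorm hcoprime hSp rfl hCG
  -- the fixed points
  have hmemC : ∀ z : Z, inl (j z) ∈ C' := by
    intro z
    refine ⟨⟨j z, rfl⟩, ?_⟩
    change inl (j z) ∈ Subgroup.centralizer (S : Set Γ)
    rw [Subgroup.mem_centralizer_iff]
    rintro s ⟨a, rfl⟩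
    have h1 := haut a (j z)
    rw [(hrange (j z)).mp ⟨z, rfl⟩ a] at h1
    calc inr a * inl (j z) = inr a * inl (j z) * (inr a)⁻¹ * inr a :=
          (inv_mul_cancel_right _ _).symm
      _ = inl (j z) * inr a := by rw [h1]
  let jZ : Z →* C' := (inl.comp j).codRestrict C' hmemC
  have hjZ : ∀ z : Z, ((jZ z : C') : Γ) = inl (j z) := fun z => rfl
  have hjZbij : Function.Bijective jZ := by
    constructor
    · intro z₁ z₂ h12
      have h1 : inl (j z₁) = inl (j z₂) := by rw [← hjZ, ← hjZ, h12]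
      exact hj (SemidirectProduct.inl_injective h1)
    · rintro ⟨x, ⟨h, rfl⟩, hx2⟩
      change inl h ∈ Subgroup.centralizer (S : Set Γ) at hx2
      rw [Subgroup.mem_centralizer_iff] at hx2
      have hfix : ∀ a, ψ a h = h := by
        intro a
        have h1 := hx2 (inr a) ⟨a, rfl⟩
        apply SemidirectProduct.inl_injective (φ := ψ)
        change inl (ψ a h) = inl h
        rw [← haut a h, h1]
        exact mul_inv_cancel_right _ _
      obtain ⟨z, hz⟩ := (hrange h).mpr hfix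
      refine ⟨z, ?_⟩
      apply Subtype.ext
      rw [hjZ, hz]
  let eZ : Z ≃* C' := MulEquiv.ofBijective jZ hjZbij
  have heZ : ∀ z : Z, ((eZ z : C') : Γ) = inl (j z) := fun z => rfl
  -- transport of invariance
  have hinv_iff : ∀ χ' : IrrCharacter G',
      InvUnder G' S (χ' : G' → ℂ) ↔ Inv ψ ((irrEquiv eH χ' : IrrCharacter H) : H → ℂ) := by
    intro χ'
    constructor
    · intro hI a h
      rw [irrEquiv_apply, irrEquiv_apply]
      apply hI (inr a) ⟨a, rfl⟩ (eH h) (eH (ψ a h))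
      rw [heH, heH, haut]
    · rintro hI t ⟨a, rfl⟩ g g' hgg'
      obtain ⟨h, rfl⟩ := eH.surjective g
      have h1 : g' = eH (ψ a h) := by
        apply Subtype.ext
        rw [hgg', heH, heH, haut]
      rw [h1]
      have := hI a h
      rw [irrEquiv_apply, irrEquiv_apply] at this
      exact this
  -- transport of multiplicities
  have hinner : ∀ (χ' : IrrCharacter G') (β'' : IrrCharacter C'),
      classInner (fun c : C' => (χ' : G' → ℂ) ⟨c, hCG c.2⟩) (β'' : C' → ℂ) =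
        classInner (((irrEquiv eH χ' : IrrCharacter H) : H → ℂ) ∘ j)
          ((irrEquiv eZ β'' : IrrCharacter Z) : Z → ℂ) := by
    intro χ' β''
    rw [← classInner_comp_equiv eZ]
    congr 1
  refine ⟨?_, ?_, ?_⟩
  · intro β hβ
    have hβ' : InvUnder G' S (((irrEquiv eH).symm β : IrrCharacter G') : G' → ℂ) := by
      rw [hinv_iff, Equiv.apply_symm_apply]
      exact hβ
    obtain ⟨β₀, ε, hε, hm⟩ := hcorr.1 _ hβ'
    refine ⟨irrEquiv eZ β₀, ε, hε, ?_⟩
    intro β'
    obtain ⟨m, hm1, hm2⟩ := hm ((irrEquiv eZ).symm β')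
    refine ⟨m, ?_, ?_⟩
    · rw [hinner, Equiv.apply_symm_apply, Equiv.apply_symm_apply] at hm1
      exact hm1
    · have hiff : ((irrEquiv eZ).symm β' = β₀) ↔ (β' = irrEquiv eZ β₀) :=
        Equiv.symm_apply_eq (irrEquiv eZ)
      by_cases hc : β' = irrEquiv eZ β₀
      · rw [if_pos hc]
        rw [if_pos (hiff.mpr hc)] at hm2
        exact hm2
      · rw [if_neg hc]
        rw [if_neg (fun h => hc (hiff.mp h))] at hm2
        exact hm2
  · intro β₁ β₂ hβ₁ hβ₂ β' m₁ m₂ h1 hp1 h2 hp2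
    have hβ₁' : InvUnder G' S (((irrEquiv eH).symm β₁ : IrrCharacter G') : G' → ℂ) := by
      rw [hinv_iff, Equiv.apply_symm_apply]
      exact hβ₁
    have hβ₂' : InvUnder G' S (((irrEquiv eH).symm β₂ : IrrCharacter G') : G' → ℂ) := by
      rw [hinv_iff, Equiv.apply_symm_apply]
      exact hβ₂
    have h3 := hcorr.2.1 _ _ hβ₁' hβ₂' ((irrEquiv eZ).symm β') m₁ m₂
      (by rw [hinner, Equiv.apply_symm_apply, Equiv.apply_symm_apply]; exact h1) hp1
      (by rw [hinner, Equiv.apply_symm_apply, Equiv.apply_symm_apply]; exact h2) hp2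
    exact (irrEquiv eH).symm.injective h3
  · intro β'
    obtain ⟨χ', hχ', m, hm1, hm2⟩ := hcorr.2.2 ((irrEquiv eZ).symm β')
    refine ⟨irrEquiv eH χ', (hinv_iff χ').mp hχ', m, ?_, hm2⟩
    rw [hinner, Equiv.apply_symm_apply] at hm1
    exact hm1

/-- degrees in a correspondence with multiplicities `≡ ε` or `0` -/
theorem degree_modEq_of_mult [Finite Z] [Fintype Z] {p : ℕ} {β : H → ℂ} (hβ : IsCharacter H β)
    (j : Z →* H) (βs : IrrCharacter Z) (ε : ℤ)
    (hm : ∀ β' : IrrCharacter Z, ∃ m : ℕ, classInner (β ∘ j) (β' : Z → ℂ) = (m : ℂ) ∧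
      (m : ℤ) ≡ (if β' = βs then ε else 0) [ZMOD p]) (d : ℕ) (hd : β 1 = d) :
    (d : ℤ) ≡ ε * (charDegree (βs : Z → ℂ) : ℤ) [ZMOD p] := by
  classical
  letI := fintypeIrr Z
  have hchar : IsCharacter Z (β ∘ j) := IsCharacter.comp_hom hβ j
  obtain ⟨m', hdec, hcoef⟩ := IsCharacter.exists_decomp_sum hchar
  choose m hm1 hm2 using hm
  have hmm : ∀ ψ : IrrCharacter Z, m' ψ = m ψ := by
    intro ψ
    have := (hcoef ψ).symm.trans (hm1 ψ)
    exact_mod_cast this
  have h1 : (d : ℂ) = ∑ ψ : IrrCharacter Z, (m ψ : ℂ) * (charDegree (ψ : Z → ℂ) : ℂ) := by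
    have h2 := congrFun hdec 1
    rw [Function.comp_apply, map_one, hd, Finset.sum_apply] at h2
    rw [h2]
    apply Finset.sum_congr rfl
    intro ψ _
    rw [Pi.smul_apply, irr_apply_one ψ, hmm ψ, nsmul_eq_mul]
  have h3 : (d : ℤ) = ∑ ψ : IrrCharacter Z, (m ψ : ℤ) * (charDegree (ψ : Z → ℂ) : ℤ) := by
    have : ((d : ℤ) : ℂ) = ((∑ ψ : IrrCharacter Z, (m ψ : ℤ) * (charDegree (ψ : Z → ℂ) : ℤ) : ℤ) : ℂ) := by
      push_cast
      exact h1
    exact_mod_cast this
  rw [h3]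
  have h4 := sum_modEq_single (fun ψ : IrrCharacter Z => (m ψ : ℤ) * (charDegree (ψ : Z → ℂ) : ℤ)) βs
    (p : ℤ) (by
      intro ψ hψ
      have := hm2 ψ
      rw [if_neg hψ] at this
      exact Dvd.dvd.mul_right (Int.modEq_zero_iff_dvd.mp this) _)
  refine h4.trans ?_
  have h5 := hm2 βs
  rw [if_pos rfl] at h5
  exact Int.ModEq.mul_right _ h5

end Cfsg.Agent.Lib.Helper25.GlN
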