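/-
helper25: fixed points of a `p`-group of operators: stable finite sets, invariant constituents of the
restriction of an invariant irreducible character to a normal subgroup of `p'`-index, and fixed cosets
(Glauberman's lemma for `p`-groups).
-/
import Mathlib
import Cfsg.Agent.Lib.Helper25.GlNa

set_option autoImplicit false
set_option linter.style.haveILetI false

namespace Cfsg.Agent.Lib.Helper25.GlN

open Cfsg Cfsg.Agent.CharLib Cfsg.Agent.Lib.Helper6
open scoped ComplexConjugate

universe u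

section general

variable {A : Type*} [Group A] {α : Type*} [MulAction A α] {p : ℕ} [Fact p.Prime]

/-- the action on a stable finite set -/
@[reducible] def stableAction (S : Finset α) (hS : ∀ a : A, ∀ s ∈ S, a • s ∈ S) : MulAction A S where
  smul a s := ⟨a • s.1, hS a s.1 s.2⟩
  one_smul s := Subtype.ext (one_smul A s.1)
  mul_smul a b s := Subtype.ext (mul_smul a b s.1)

/-- fixed-point congruence on a stable finite set -/
theorem card_modEq_card_fixed (hA : IsPGroup p A) (S : Finset α)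
    (hS : ∀ a : A, ∀ s ∈ S, a • s ∈ S) :
    S.card ≡ Nat.card {s : α // s ∈ S ∧ ∀ a : A, a • s = s} [MOD p] := by
  letI := stableAction S hS
  have h1 := hA.card_modEq_card_fixedPoints S
  have h2 : Nat.card S = S.card := by
    rw [Nat.card_eq_fintype_card, Fintype.card_coe]
  have h3 : Nat.card (MulAction.fixedPoints A S) =
      Nat.card {s : α // s ∈ S ∧ ∀ a : A, a • s = s} := by
    apply Nat.card_congr
    exact
      { toFun := fun x => ⟨x.1.1, x.1.2, fun a => congrArg Subtype.val (x.2 a)⟩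
        invFun := fun y => ⟨⟨y.1, y.2.1⟩, fun a => Subtype.ext (y.2.2 a)⟩
        left_inv := fun x => rfl
        right_inv := fun y => rfl }
  rw [h2, h3] at h1
  exact h1

/-- a `p`-group acting on a stable finite set of size prime to `p` has a fixed point -/
theorem exists_fixed_of_stable (hA : IsPGroup p A) (S : Finset α)
    (hS : ∀ a : A, ∀ s ∈ S, a • s ∈ S) (hp : ¬ p ∣ S.card) :
    ∃ s ∈ S, ∀ a : A, a • s = s := by
  have h1 := card_modEq_card_fixed hA S hS
  by_contra hcon
  push Not at hcon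
  have h2 : IsEmpty {s : α // s ∈ S ∧ ∀ a : A, a • s = s} := by
    constructor
    rintro ⟨s, hs, hfix⟩
    obtain ⟨a, ha⟩ := hcon s hs
    exact ha (hfix a)
  rw [Nat.card_of_isEmpty] at h1
  exact hp ((Nat.modEq_zero_iff_dvd).mp h1)

end general

variable {X : Type u} [Group X] {A : Type u} [Group A] {p : ℕ} [Fact p.Prime]

/-- the operators act on functions -/
@[reducible] def funAct (φ : A →* MulAut X) : MulAction A (X → ℂ) where
  smul a θ := θ ∘ (φ a⁻¹)
  one_smul θ := by
    funext x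
    change θ (φ 1⁻¹ x) = θ x
    simp
  mul_smul a b θ := by
    funext x
    change θ (φ (a * b)⁻¹ x) = θ (φ b⁻¹ (φ a⁻¹ x))
    rw [mul_inv_rev, map_mul, MulAut.mul_apply]

theorem funAct_smul_apply (φ : A →* MulAut X) (a : A) (θ : X → ℂ) (x : X) :
    letI := funAct φ
    (a • θ) x = θ (φ a⁻¹ x) := rfl

theorem funAct_fixed_iff (φ : A →* MulAut X) (θ : X → ℂ) :
    letI := funAct φ
    (∀ a : A, a • θ = θ) ↔ Inv φ θ := by
  letI := funAct φ
  constructor
  · intro h a x
    have := congrFun (h a⁻¹) x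
    rw [funAct_smul_apply, inv_inv] at this
    exact this
  · intro h a
    funext x
    rw [funAct_smul_apply]
    exact h a⁻¹ x

/-- **Invariant constituents**: an invariant irreducible character has an invariant irreducible
constituent on a stable normal subgroup of index prime to `p`. -/
theorem exists_inv_constituent [Fintype X] (φ : A →* MulAut X) (hA : IsPGroup p A)
    (Q : Subgroup X) [hQn : Q.Normal] [Fintype Q] (hQ : Stable φ Q) (hidx : ¬ p ∣ Q.index)
    {χ : X → ℂ} (hχ : IsIrrCharacter X χ) (hinv : Inv φ χ) :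
    ∃ θ : Q → ℂ, IsIrrCharacter Q θ ∧ Inv (resAct φ Q hQ) θ ∧ classInner (resFun Q χ) θ ≠ 0 := by
  classical
  have hχc : IsCharacter X χ := IsIrrCharacter.isCharacter hχ
  have hcls : IsClassFunction X χ := IsCharacter.isClassFunction hχc
  have hne : resFun Q χ ≠ 0 := by
    intro h0
    obtain ⟨d, hd, hd1⟩ := IsIrrCharacter.apply_one_pos hχ
    have := congrFun h0 1
    rw [resFun_apply] at this
    change χ 1 = 0 at this
    rw [hd1] at this
    exact hd.ne' (by exact_mod_cast this)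
  obtain ⟨θ₀, hθ₀, hc₀⟩ := IsCharacter.exists_constituent (isCharacter_resFun Q hχc) hne
  letI := funAct (resAct φ Q hQ)
  have hstab : ∀ a : A, ∀ θ ∈ conjOrbit Q θ₀, a • θ ∈ conjOrbit Q θ₀ := by
    intro a θ hθ
    obtain ⟨g, rfl⟩ := (mem_conjOrbit Q).mp hθ
    have hirr : IsIrrCharacter Q (a • conjFun Q g θ₀) :=
      isIrrCharacter_comp_mulEquiv' (resAct φ Q hQ a⁻¹) (isIrrCharacter_conjFun Q hθ₀ g)
    have hc : classInner (resFun Q χ) (a • conjFun Q g θ₀) ≠ 0 := by
      have h1 : resFun Q χ = resFun Q χ ∘ (resAct φ Q hQ a⁻¹) :=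
        (inv_iff_comp.mp (hinv.resFun Q hQ) a⁻¹).symm
      rw [h1]
      change classInner (resFun Q χ ∘ (resAct φ Q hQ a⁻¹))
        (conjFun Q g θ₀ ∘ (resAct φ Q hQ a⁻¹)) ≠ 0
      rw [classInner_comp_mulEquiv, classInner_resFun_conjFun Q hcls]
      exact hc₀
    obtain ⟨g', hg'⟩ := exists_conjFun_eq_of_constituent Q hχ hθ₀ hirr hc₀ hc
    exact (mem_conjOrbit Q).mpr ⟨g', hg'⟩
  have hcard : ¬ p ∣ (conjOrbit Q θ₀).card := by
    intro hdvd
    apply hidx
    have h1 := card_conjOrbit_mul Q θ₀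
    -- the stabiliser contains `Q`
    let S : Subgroup X :=
      { carrier := {g | conjFun Q g θ₀ = θ₀}
        mul_mem' := by
          intro a b ha hb
          change conjFun Q (a * b) θ₀ = θ₀
          rw [conjFun_mul, (ha : conjFun Q a θ₀ = θ₀), (hb : conjFun Q b θ₀ = θ₀)]
        one_mem' := conjFun_one Q θ₀
        inv_mem' := by
          intro a ha
          change conjFun Q a⁻¹ θ₀ = θ₀
          have := conjFun_inv_conjFun Q a θ₀
          rwa [(ha : conjFun Q a θ₀ = θ₀)] at this }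
    have hQS : Q ≤ S := by
      intro g hg
      exact conjFun_of_mem Q (IsCharacter.isClassFunction (IsIrrCharacter.isCharacter hθ₀)) hg
    have h2 : Nat.card {g : X // conjFun Q g θ₀ = θ₀} = Nat.card S := rfl
    rw [h2] at h1
    have h3 : S.index = (conjOrbit Q θ₀).card := by
      have h4 := S.card_mul_index
      rw [← h1] at h4
      have hpos : 0 < Nat.card S := Nat.card_pos
      rw [mul_comm] at h4
      exact Nat.eq_of_mul_eq_mul_right hpos h4
    have h5 : S.index ∣ Q.index := Subgroup.index_dvd_of_le hQS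
    rw [h3] at h5
    exact dvd_trans hdvd h5
  obtain ⟨θ, hθmem, hfix⟩ := exists_fixed_of_stable hA (conjOrbit Q θ₀) hstab hcard
  obtain ⟨g, rfl⟩ := (mem_conjOrbit Q).mp hθmem
  refine ⟨conjFun Q g θ₀, isIrrCharacter_conjFun Q hθ₀ g, ?_, ?_⟩
  · exact (funAct_fixed_iff (resAct φ Q hQ) _).mp hfix
  · rw [classInner_resFun_conjFun Q hcls]
    exact hc₀

/-- **Fixed cosets** (Glauberman's lemma for `p`-groups of operators): a right coset `T g` of a
stable subgroup `T ≥ Q` that is fixed by the operators contains an element fixed modulo `Q`. -/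
theorem exists_mem_fixed_coset [Finite X] (φ : A →* MulAut X) (hA : IsPGroup p A)
    (Q : Subgroup X) [hQn : Q.Normal] (hQ : Stable φ Q) (hidx : ¬ p ∣ Q.index)
    (T : Subgroup X) (hQT : Q ≤ T) (hT : Stable φ T) (g : X) (hg : ∀ a, φ a g * g⁻¹ ∈ T) :
    ∃ c : X, (∀ a, φ a c * c⁻¹ ∈ Q) ∧ c * g⁻¹ ∈ T := by
  classical
  letI : Fintype X := Fintype.ofFinite X
  letI : Fintype (X ⧸ Q) := Fintype.ofFinite _
  letI : MulAction A (X ⧸ Q) := MulAction.compHom (X ⧸ Q) (quotAct φ Q hQ)
  have hsmul : ∀ (a : A) (q : X ⧸ Q), a • q = quotAct φ Q hQ a q := fun a q => rfl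
  let Tb : Subgroup (X ⧸ Q) := T.map (QuotientGroup.mk' Q)
  let gb : X ⧸ Q := (g : X ⧸ Q)
  let S : Finset (X ⧸ Q) := Finset.univ.filter (fun q => q * gb⁻¹ ∈ Tb)
  have hTb : ∀ a : A, ∀ q ∈ Tb, quotAct φ Q hQ a q ∈ Tb := by
    rintro a q ⟨t, ht, rfl⟩
    exact ⟨φ a t, hT a t ht, rfl⟩
  have hstab : ∀ a : A, ∀ s ∈ S, a • s ∈ S := by
    intro a s hs
    simp only [S, Finset.mem_filter, Finset.mem_univ, true_and] at hs ⊢
    rw [hsmul]
    have h1 : quotAct φ Q hQ a s * gb⁻¹ =
        quotAct φ Q hQ a (s * gb⁻¹) * (quotAct φ Q hQ a gb * gb⁻¹) := by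
      rw [map_mul, map_inv]
      group
    rw [h1]
    apply Tb.mul_mem (hTb a _ hs)
    exact ⟨φ a g * g⁻¹, hg a, by simp [gb]⟩
  have hcard : ¬ p ∣ S.card := by
    intro hdvd
    apply hidx
    have h1 : S.card = Nat.card Tb := by
      rw [← Fintype.card_coe, ← Nat.card_eq_fintype_card]
      apply Nat.card_congr
      refine (Equiv.mulRight gb⁻¹).subtypeEquiv ?_
      intro q
      simp [S]
    have h2 : Nat.card Tb ∣ Nat.card (X ⧸ Q) := Subgroup.card_subgroup_dvd_card Tb
    rw [← h1] at h2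
    have h3 : Nat.card (X ⧸ Q) = Q.index := rfl
    rw [h3] at h2
    exact dvd_trans hdvd h2
  obtain ⟨s, hsS, hfix⟩ := exists_fixed_of_stable hA S hstab hcard
  obtain ⟨c, rfl⟩ := QuotientGroup.mk_surjective s
  refine ⟨c, ?_, ?_⟩
  · intro a
    have h1 := hfix a
    rw [hsmul, quotAct_mk] at h1
    have h2 : c⁻¹ * φ a c ∈ Q := (QuotientGroup.eq.mp h1.symm)
    have h3 := hQn.conj_mem _ h2 c
    have h4 : c * (c⁻¹ * φ a c) * c⁻¹ = φ a c * c⁻¹ := by group
    rwa [h4] at h3
  · simp only [S, Finset.mem_filter, Finset.mem_univ, true_and] at hsS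
    obtain ⟨t, ht, hte⟩ := hsS
    have h1 : ((t : X) : X ⧸ Q) = ((c * g⁻¹ : X) : X ⧸ Q) := by
      rw [QuotientGroup.mk_mul, QuotientGroup.mk_inv]
      exact hte
    have h2 : t⁻¹ * (c * g⁻¹) ∈ Q := QuotientGroup.eq.mp h1
    have h3 : c * g⁻¹ = t * (t⁻¹ * (c * g⁻¹)) := by group
    rw [h3]
    exact T.mul_mem ht (hQT h2)

end Cfsg.Agent.Lib.Helper25.GlN
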