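/-
helper25: canonical extensions over a normal Sylow `p`-subgroup and their invariance under a group of
operators; the data `(θ, T, θ̂)` attached to an invariant irreducible character `θ` of `Q`.
-/
import Mathlib
import Cfsg.Agent.Lib.Helper25.GlNa
import Cfsg.Agent.Lib.Helper2.GlaubPInd
import Cfsg.Agent.Lib.Helper24.IrrFacts
import Cfsg.Agent.S0867

set_option autoImplicit false
set_option linter.style.haveILetI false

namespace Cfsg.Agent.Lib.Helper25.GlN

open Cfsg Cfsg.Agent.CharLib Cfsg.Agent.Lib.Helper6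
open scoped ComplexConjugate

universe u

section canon

variable {Y : Type u} [Group Y] [Finite Y] {p : ℕ} [hp : Fact p.Prime]

/-- **Canonical extension** of an invariant irreducible character of a normal Sylow `p`-subgroup. -/
theorem exists_canon_ext (N : Subgroup Y) [hN : N.Normal] (hNp : IsPGroup p N)
    (hidx : ¬ p ∣ N.index) (ϑ : N → ℂ) (hϑ : IsIrrCharacter N ϑ)
    (hinv : ∀ g : Y, Helper6.conjFun N g ϑ = ϑ) :
    ∃ χ : Y → ℂ, IsIrrCharacter Y χ ∧ resFun N χ = ϑ ∧ Nat.Coprime N.index (detOrder χ) ∧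
      ∀ χ' : Y → ℂ, IsIrrCharacter Y χ' → resFun N χ' = ϑ → Nat.Coprime N.index (detOrder χ') →
        χ' = χ := by
  obtain ⟨k, hk⟩ := IsPGroup.iff_card.mp hNp
  have hcopk : Nat.Coprime N.index (p ^ k) :=
    Nat.Coprime.pow_right k ((Nat.Prime.coprime_iff_not_dvd hp.out).mpr hidx).symm
  have hϑc : IsCharacter N ϑ := IsIrrCharacter.isCharacter hϑ
  have h1 : detOrder ϑ ∣ p ^ k := hk ▸ Cfsg.Agent.Lib.Helper2.Glaub.detOrder_dvd_card hϑc
  have h2 : charDegree ϑ ∣ p ^ k := hk ▸ Cfsg.Agent.Lib.Helper24.irr_charDegree_dvd_card ⟨ϑ, hϑ⟩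
  have hd : ϑ 1 = (charDegree ϑ : ℂ) := Cfsg.Agent.Lib.Helper24.irr_apply_one ⟨ϑ, hϑ⟩
  have hcop : Nat.Coprime N.index (detOrder ϑ * charDegree ϑ) :=
    Nat.Coprime.mul_right (Nat.Coprime.coprime_dvd_right h1 hcopk)
      (Nat.Coprime.coprime_dvd_right h2 hcopk)
  have hinv' : ∀ (g : Y) (n : N), ϑ ⟨g * n * g⁻¹, hN.conj_mem (n : Y) n.2 g⟩ = ϑ n := by
    intro g n
    exact congrFun (hinv g) n
  obtain ⟨χ, ⟨hχ, hres, hdet⟩, huniq⟩ :=
    Cfsg.Agent.S0867.result N ϑ hϑ hinv' (charDegree ϑ) hd hcop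
  refine ⟨χ, hχ, funext hres, ?_, ?_⟩
  · rw [hdet]
    exact Nat.Coprime.coprime_dvd_right h1 hcopk
  · intro χ' hχ' hres' hcop'
    exact huniq χ' hχ' (fun n => congrFun hres' n) hcop'

/-- A canonical extension of an invariant character is invariant. -/
theorem inv_of_canon_ext {A : Type u} [Group A] (φ : A →* MulAut Y) (N : Subgroup Y)
    (hNst : Stable φ N) {ϑ : N → ℂ} (hϑinv : Inv (resAct φ N hNst) ϑ) {χ : Y → ℂ}
    (hχ : IsIrrCharacter Y χ) (hres : resFun N χ = ϑ) (hcop : Nat.Coprime N.index (detOrder χ))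
    (huniq : ∀ χ' : Y → ℂ, IsIrrCharacter Y χ' → resFun N χ' = ϑ →
      Nat.Coprime N.index (detOrder χ') → χ' = χ) : Inv φ χ := by
  rw [inv_iff_comp]
  intro a
  apply huniq
  · exact isIrrCharacter_comp_mulEquiv' (φ a) hχ
  · funext n
    rw [resFun_apply, Function.comp_apply]
    have h1 := hϑinv a n
    rw [← hres, resFun_apply, resFun_apply, resAct_apply_coe] at h1
    have h2 : ϑ n = χ n := by rw [← hres]; rfl
    rw [h2]
    exact h1
  · have h1 := Cfsg.Agent.Lib.Helper2.Glaub.detOrder_comp_hom_dvd ((φ a : Y ≃* Y) : Y →* Y) (IsIrrCharacter.isCharacter hχ)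
    exact Nat.Coprime.coprime_dvd_right h1 hcop

end canon

variable {X : Type u} [Group X] {A : Type u} [Group A]

/-- The data attached to an invariant irreducible character `θ` of the stable normal subgroup `Q`:
its inertia group `T` and an invariant extension `θh` of `θ` to `T`. -/
structure CData (φ : A →* MulAut X) (Q : Subgroup X) [hQn : Q.Normal] (hQ : Stable φ Q) where
  /-- the character of `Q` -/
  θ : Q → ℂ
  /-- the inertia group -/
  T : Subgroup X
  /-- the extension -/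
  θh : T → ℂ
  hθ : IsIrrCharacter Q θ
  hθinv : Inv (resAct φ Q hQ) θ
  hT : ∀ g : X, g ∈ T ↔ Helper6.conjFun Q g θ = θ
  hQT : Q ≤ T
  hTst : Stable φ T
  hθh : IsIrrCharacter T θh
  hres : resLE hQT θh = θ
  hθhinv : Inv (resAct φ T hTst) θh

/-- the stabiliser of a function on a normal subgroup -/
def stabFun (Q : Subgroup X) [hQn : Q.Normal] (θ : Q → ℂ) : Subgroup X where
  carrier := {g | Helper6.conjFun Q g θ = θ}
  mul_mem' := by
    intro a b ha hb
    change Helper6.conjFun Q (a * b) θ = θ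
    rw [conjFun_mul, (ha : Helper6.conjFun Q a θ = θ), (hb : Helper6.conjFun Q b θ = θ)]
  one_mem' := conjFun_one Q θ
  inv_mem' := by
    intro a ha
    change Helper6.conjFun Q a⁻¹ θ = θ
    have := conjFun_inv_conjFun Q a θ
    rwa [(ha : Helper6.conjFun Q a θ = θ)] at this

theorem mem_stabFun (Q : Subgroup X) [hQn : Q.Normal] (θ : Q → ℂ) (g : X) :
    g ∈ stabFun Q θ ↔ Helper6.conjFun Q g θ = θ := Iff.rfl

theorem le_stabFun (Q : Subgroup X) [hQn : Q.Normal] {θ : Q → ℂ} (hθ : IsClassFunction Q θ) :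
    Q ≤ stabFun Q θ := fun _ hg => conjFun_of_mem Q hθ hg

/-- the stabiliser of a subgroup in terms of `subgroupOf` -/
theorem stable_subgroupOf {φ : A →* MulAut X} {Q T : Subgroup X} (hQ : Stable φ Q)
    (hT : Stable φ T) : Stable (resAct φ T hT) (Q.subgroupOf T) := by
  intro a t ht
  rw [Subgroup.mem_subgroupOf] at ht ⊢
  exact hQ a t ht

/-- **Existence of the data** for an invariant irreducible character of a normal Sylow
`p`-subgroup. -/
theorem exists_cdata [Finite X] {p : ℕ} [hp : Fact p.Prime] (φ : A →* MulAut X) (Q : Subgroup X)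
    [hQn : Q.Normal] (hQ : Stable φ Q) (hQp : IsPGroup p Q) (hidx : ¬ p ∣ Q.index)
    (θ : Q → ℂ) (hθ : IsIrrCharacter Q θ) (hθinv : Inv (resAct φ Q hQ) θ) :
    ∃ D : CData φ Q hQ, D.θ = θ := by
  classical
  let T : Subgroup X := stabFun Q θ
  have hT : ∀ g : X, g ∈ T ↔ Helper6.conjFun Q g θ = θ := fun g => Iff.rfl
  have hQT : Q ≤ T := le_stabFun Q (IsCharacter.isClassFunction (IsIrrCharacter.isCharacter hθ))
  have hTst : Stable φ T := stable_of_stab Q hQ hθinv T hT
  let N : Subgroup T := Q.subgroupOf T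
  let e : N ≃* Q := Subgroup.subgroupOfEquivOfLe hQT
  have hNp : IsPGroup p N := hQp.of_equiv e.symm
  have hNidx : ¬ p ∣ N.index := by
    intro h
    apply hidx
    have h1 : N.index = Q.relIndex T := rfl
    rw [h1] at h
    exact dvd_trans h (Subgroup.relIndex_dvd_index_of_le hQT)
  have hϑ : IsIrrCharacter N (θ ∘ e) := isIrrCharacter_comp_mulEquiv' e hθ
  have hϑinvT : ∀ t : T, Helper6.conjFun N t (θ ∘ e) = θ ∘ e := by
    intro t
    rw [conjFun_subgroupOf hQT t θ, (hT t).mp t.2]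
  obtain ⟨χ, hχ, hres, hcop, huniq⟩ := exists_canon_ext N hNp hNidx (θ ∘ e) hϑ hϑinvT
  have hNst : Stable (resAct φ T hTst) N := stable_subgroupOf hQ hTst
  have hϑinv : Inv (resAct (resAct φ T hTst) N hNst) (θ ∘ e) := by
    intro a n
    exact hθinv a (e n)
  have hχinv : Inv (resAct φ T hTst) χ :=
    inv_of_canon_ext (resAct φ T hTst) N hNst hϑinv hχ hres hcop huniq
  refine ⟨⟨θ, T, χ, hθ, hθinv, hT, hQT, hTst, hχ, ?_, hχinv⟩, rfl⟩
  funext q
  have h1 := congrFun hres (e.symm q)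
  rw [resFun_apply, Function.comp_apply, MulEquiv.apply_symm_apply] at h1
  rw [← h1, resLE_apply]
  rfl

end Cfsg.Agent.Lib.Helper25.GlN
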