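/-
helper25: the parametrisation of the irreducible characters of `X` over an irreducible character `θ` of
a normal subgroup `Q` by `Irr(T/Q)` (`T` the inertia group, `θh` an extension of `θ` to `T`), via
Gallagher's theorem and the Clifford correspondence, and its compatibility with operators.
-/
import Mathlib
import Cfsg.Agent.Lib.Helper25.GlNd
import Cfsg.Agent.Lib.Helper25.Inflate
import Cfsg.Agent.Lib.Helper6.Gallagher2

set_option autoImplicit false
set_option linter.style.haveILetI false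

namespace Cfsg.Agent.Lib.Helper25.GlN

open Cfsg Cfsg.Agent.CharLib Cfsg.Agent.Lib.Helper6
open scoped ComplexConjugate

universe u

section general

variable {Y : Type u} [Group Y] [Fintype Y]

/-- an inflated irreducible character lies over the trivial character of the normal subgroup -/
theorem classInner_indFun_one_inflate (N : Subgroup Y) [hN : N.Normal] [Fintype N]
    (β : IrrCharacter (Y ⧸ N)) :
    classInner (indFun N (1 : N → ℂ)) (Cfsg.Agent.Lib.Helper25.inflateIrr N β : Y → ℂ) ≠ 0 := by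
  have hcf : IsClassFunction Y (Cfsg.Agent.Lib.Helper25.inflateIrr N β : Y → ℂ) :=
    IsCharacter.isClassFunction (IsIrrCharacter.isCharacter (Cfsg.Agent.Lib.Helper25.inflateIrr N β).2)
  rw [classInner_indFun_one N hcf]
  have hsum : ∑ n : N, (Cfsg.Agent.Lib.Helper25.inflateIrr N β : Y → ℂ) n =
      (Nat.card N : ℂ) * (Cfsg.Agent.Lib.Helper25.inflateIrr N β : Y → ℂ) 1 := by
    rw [Finset.sum_congr rfl
      (fun (n : N) _ => Cfsg.Agent.Lib.Helper25.inflateIrr_mem_ker N β (n : Y) n.2),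
      Finset.sum_const, Finset.card_univ, nsmul_eq_mul, Nat.card_eq_fintype_card]
  rw [hsum]
  have hN0 : (Nat.card N : ℂ) ≠ 0 := by exact_mod_cast (Nat.card_pos (α := N)).ne'
  have h1 : (Cfsg.Agent.Lib.Helper25.inflateIrr N β : Y → ℂ) 1 ≠ 0 :=
    Cfsg.Agent.Lib.Helper24.irr_apply_one_ne_zero _
  simp only [map_mul, Complex.conj_natCast]
  rw [← mul_assoc, inv_mul_cancel₀ hN0, one_mul]
  intro h
  apply h1
  have := congrArg conj h
  simpa using this

/-- irreducible characters over the trivial character of a normal subgroup are inflated -/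
theorem exists_inflate_of_indFun_one_ne_zero (N : Subgroup Y) [hN : N.Normal] [Fintype N]
    {β : Y → ℂ} (hβ : IsIrrCharacter Y β) (h : classInner (indFun N (1 : N → ℂ)) β ≠ 0) :
    ∃ γ : IrrCharacter (Y ⧸ N), (Cfsg.Agent.Lib.Helper25.inflateIrr N γ : Y → ℂ) = β := by
  have h1 := (apply_mul_of_indFun_one_ne_zero N hβ h).2
  obtain ⟨γ, hγ⟩ := Cfsg.Agent.Lib.Helper25.exists_inflateIrr_eq N ⟨β, hβ⟩ (by
    intro n hn
    have := h1 ⟨n, hn⟩ 1
    rw [mul_one] at this
    exact this)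
  exact ⟨γ, congrArg Subtype.val hγ⟩

end general

variable {X : Type u} [Group X] {A : Type u} [Group A] {φ : A →* MulAut X}
  {Q : Subgroup X} [hQn : Q.Normal] {hQ : Stable φ Q}

namespace CData

variable (D : CData φ Q hQ)

/-- `Q` as a subgroup of the inertia group -/
abbrev N : Subgroup D.T := Q.subgroupOf D.T

/-- `Q` inside `T` is `Q` -/
abbrev eN : D.N ≃* Q := Subgroup.subgroupOfEquivOfLe D.hQT

theorem hNst : Stable (resAct φ D.T D.hTst) D.N := stable_subgroupOf hQ D.hTst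

/-- the operators on `T/Q` -/
def actQ : A →* MulAut (D.T ⧸ D.N) := quotAct (resAct φ D.T D.hTst) D.N D.hNst

/-- the irreducible character of `T` over `θ` attached to `β ∈ Irr(T/Q)` -/
noncomputable def ψ (β : IrrCharacter (D.T ⧸ D.N)) : D.T → ℂ :=
  (Cfsg.Agent.Lib.Helper25.inflateIrr D.N β : D.T → ℂ) * D.θh

theorem resFun_N_θh : resFun D.N D.θh = D.θ ∘ D.eN := by
  rw [resFun_subgroupOf D.hQT, D.hres]

theorem isIrr_resFun_N_θh : IsIrrCharacter D.N (resFun D.N D.θh) := by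
  rw [D.resFun_N_θh]
  exact isIrrCharacter_comp_mulEquiv' D.eN D.hθ

theorem resLE_ψ (β : IrrCharacter (D.T ⧸ D.N)) :
    resLE D.hQT (D.ψ β) = ((β : D.T ⧸ D.N → ℂ) 1) • D.θ := by
  funext q
  rw [resLE_apply, Pi.smul_apply, smul_eq_mul]
  unfold ψ
  rw [Pi.mul_apply]
  congr 1
  · have hmem : (⟨(q : X), D.hQT q.2⟩ : D.T) ∈ D.N := by
      rw [Subgroup.mem_subgroupOf]
      exact q.2
    have h1 := Cfsg.Agent.Lib.Helper25.inflateIrr_mem_ker D.N β _ hmem
    rw [h1, Cfsg.Agent.Lib.Helper25.inflateIrr_apply, QuotientGroup.mk_one]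
  · have := congrFun D.hres q
    rw [resLE_apply] at this
    exact this

variable [Fintype X]

/-- the irreducible character of `X` over `θ` attached to `β ∈ Irr(T/Q)` -/
noncomputable def Φ (β : IrrCharacter (D.T ⧸ D.N)) : X → ℂ := indFun D.T (D.ψ β)

theorem ψ_irr (β : IrrCharacter (D.T ⧸ D.N)) : IsIrrCharacter D.T (D.ψ β) := by
  classical
  letI : Fintype D.T := Fintype.ofFinite _
  letI : Fintype D.N := Fintype.ofFinite _
  have hbij := gallagher_bijOn D.N D.hθh D.isIrr_resFun_N_θh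
  exact (hbij.mapsTo ⟨(Cfsg.Agent.Lib.Helper25.inflateIrr D.N β).2,
    classInner_indFun_one_inflate D.N β⟩).1

omit [Fintype X] in
theorem ψ_over [Fintype Q] (β : IrrCharacter (D.T ⧸ D.N)) :
    classInner (resLE D.hQT (D.ψ β)) D.θ = (β : D.T ⧸ D.N → ℂ) 1 := by
  rw [D.resLE_ψ, classInner_smul_left, classInner_irr D.hθ D.hθ, if_pos rfl, mul_one]

omit [Fintype X] in
theorem ψ_over_ne [Fintype Q] (β : IrrCharacter (D.T ⧸ D.N)) :
    classInner (resLE D.hQT (D.ψ β)) D.θ ≠ 0 := by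
  rw [D.ψ_over]
  exact Cfsg.Agent.Lib.Helper24.irr_apply_one_ne_zero β

theorem ψ_injective : Function.Injective D.ψ := by
  classical
  letI : Fintype D.T := Fintype.ofFinite _
  letI : Fintype D.N := Fintype.ofFinite _
  intro β β' h
  have hbij := gallagher_bijOn D.N D.hθh D.isIrr_resFun_N_θh
  have h1 := hbij.injOn
    ⟨(Cfsg.Agent.Lib.Helper25.inflateIrr D.N β).2, classInner_indFun_one_inflate D.N β⟩
    ⟨(Cfsg.Agent.Lib.Helper25.inflateIrr D.N β').2, classInner_indFun_one_inflate D.N β'⟩ h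
  exact Cfsg.Agent.Lib.Helper25.inflateIrr_injective D.N (Subtype.ext h1)

theorem Φ_irr (β : IrrCharacter (D.T ⧸ D.N)) : IsIrrCharacter X (D.Φ β) := by
  classical
  letI : Fintype D.T := Fintype.ofFinite _
  letI : Fintype Q := Fintype.ofFinite _
  exact (isIrrCharacter_indFun_inertia D.hQT D.hθ D.hT (D.ψ_irr β) (D.ψ_over_ne β)).1

theorem Φ_over [Fintype Q] (β : IrrCharacter (D.T ⧸ D.N)) :
    classInner (resFun Q (D.Φ β)) D.θ = (β : D.T ⧸ D.N → ℂ) 1 := by
  classical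
  letI : Fintype D.T := Fintype.ofFinite _
  rw [← D.ψ_over β]
  exact (isIrrCharacter_indFun_inertia D.hQT D.hθ D.hT (D.ψ_irr β) (D.ψ_over_ne β)).2

theorem Φ_over_ne [Fintype Q] (β : IrrCharacter (D.T ⧸ D.N)) :
    classInner (resFun Q (D.Φ β)) D.θ ≠ 0 := by
  rw [D.Φ_over]
  exact Cfsg.Agent.Lib.Helper24.irr_apply_one_ne_zero β

theorem Φ_injective : Function.Injective D.Φ := by
  classical
  letI : Fintype D.T := Fintype.ofFinite _
  letI : Fintype Q := Fintype.ofFinite _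
  intro β β' h
  apply D.ψ_injective
  exact indFun_inertia_injective D.hQT D.hθ D.hT (D.ψ_irr β) (D.ψ_irr β') (D.ψ_over_ne β)
    (D.ψ_over_ne β') h

/-- every irreducible character of the inertia group over `θ` is some `ψ β` -/
theorem exists_ψ_eq [Fintype Q] {ψ₀ : D.T → ℂ} (hψ₀ : IsIrrCharacter D.T ψ₀)
    (hf : classInner (resLE D.hQT ψ₀) D.θ ≠ 0) : ∃ β : IrrCharacter (D.T ⧸ D.N), D.ψ β = ψ₀ := by
  classical
  letI : Fintype D.T := Fintype.ofFinite _
  letI : Fintype D.N := Fintype.ofFinite _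
  have hbij := gallagher_bijOn D.N D.hθh D.isIrr_resFun_N_θh
  have hmem : ψ₀ ∈ {ψ | IsIrrCharacter D.T ψ ∧
      classInner (indFun D.N (resFun D.N D.θh)) ψ ≠ 0} := by
    refine ⟨hψ₀, ?_⟩
    rw [frobenius_reciprocity D.N _ (IsCharacter.isClassFunction (IsIrrCharacter.isCharacter hψ₀)),
      D.resFun_N_θh]
    have h1 : (fun h : D.N => ψ₀ h) = resLE D.hQT ψ₀ ∘ D.eN := rfl
    rw [h1, classInner_comp_mulEquiv, ← classInner_conj_symm]
    intro h0
    exact hf ((map_eq_zero (starRingEnd ℂ)).mp h0)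
  obtain ⟨β₀, ⟨hβ₀, hβ₀1⟩, hβ₀ψ⟩ := hbij.surjOn hmem
  obtain ⟨γ, hγ⟩ := exists_inflate_of_indFun_one_ne_zero D.N hβ₀ hβ₀1
  refine ⟨γ, ?_⟩
  unfold ψ
  rw [hγ]
  exact hβ₀ψ

theorem Φ_surj [Fintype Q] {χ : X → ℂ} (hχ : IsIrrCharacter X χ)
    (hc : classInner (resFun Q χ) D.θ ≠ 0) : ∃ β : IrrCharacter (D.T ⧸ D.N), D.Φ β = χ := by
  classical
  letI : Fintype D.T := Fintype.ofFinite _
  obtain ⟨ψ₀, hψ₀, hind, hf⟩ := exists_indFun_inertia_eq D.hQT D.hθ D.hT hχ hc
  obtain ⟨β, hβ⟩ := D.exists_ψ_eq hψ₀ (by rw [hf]; exact hc)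
  refine ⟨β, ?_⟩
  unfold Φ
  rw [hβ, hind]

omit [Fintype X] in
/-- `ψ` commutes with the operators -/
theorem ψ_comp_act (β : IrrCharacter (D.T ⧸ D.N)) (a : A) :
    D.ψ β ∘ (resAct φ D.T D.hTst a) =
      D.ψ ⟨(β : D.T ⧸ D.N → ℂ) ∘ (D.actQ a), isIrrCharacter_comp_mulEquiv' (D.actQ a) β.2⟩ := by
  funext t
  unfold ψ
  rw [Function.comp_apply, Pi.mul_apply, Pi.mul_apply, D.hθhinv a t,
    Cfsg.Agent.Lib.Helper25.inflateIrr_apply, Cfsg.Agent.Lib.Helper25.inflateIrr_apply]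
  rfl

theorem Φ_comp_act (β : IrrCharacter (D.T ⧸ D.N)) (a : A) :
    D.Φ β ∘ (φ a) =
      D.Φ ⟨(β : D.T ⧸ D.N → ℂ) ∘ (D.actQ a), isIrrCharacter_comp_mulEquiv' (D.actQ a) β.2⟩ := by
  funext x
  unfold Φ
  rw [Function.comp_apply, indFun_apply_act D.T D.hTst a, D.ψ_comp_act]

theorem Φ_inv_iff (β : IrrCharacter (D.T ⧸ D.N)) :
    Inv φ (D.Φ β) ↔ Inv D.actQ (β : D.T ⧸ D.N → ℂ) := by
  constructor
  · intro h
    rw [inv_iff_comp]
    intro a
    have h1 := D.Φ_comp_act β a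
    rw [inv_iff_comp.mp h a] at h1
    have h2 := D.Φ_injective h1
    exact (congrArg Subtype.val h2).symm
  · intro h
    have h1 : Inv (resAct φ D.T D.hTst) (D.ψ β) := by
      apply Inv.mul _ D.hθhinv
      exact (inv_inflate_iff D.hNst (β : D.T ⧸ D.N → ℂ)).mpr h
    exact Inv.indFun D.T D.hTst h1

theorem Φ_apply_one (β : IrrCharacter (D.T ⧸ D.N)) :
    D.Φ β 1 = ((conjOrbit Q D.θ).card : ℂ) * (β : D.T ⧸ D.N → ℂ) 1 * D.θ 1 := by
  classical
  letI : Fintype D.T := Fintype.ofFinite _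
  letI : Fintype Q := Fintype.ofFinite _
  have h := indFun_inertia_apply_one D.hQT D.hθ D.hT (D.ψ_irr β) (D.ψ_over_ne β)
  rw [D.ψ_over β] at h
  exact h

/-- the restriction of `Φ β` to the inertia group -/
theorem Φ_res [Fintype Q] (β : IrrCharacter (D.T ⧸ D.N)) :
    ∃ Δ : D.T → ℂ, IsCharacter D.T Δ ∧ resFun D.T (D.Φ β) = D.ψ β + Δ ∧
      classInner (resLE D.hQT Δ) D.θ = 0 := by
  classical
  letI : Fintype D.T := Fintype.ofFinite _
  have hχ := D.Φ_irr β
  have hχc : IsCharacter X (D.Φ β) := IsIrrCharacter.isCharacter hχ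
  have hconst : classInner (resFun D.T (D.Φ β)) (D.ψ β) ≠ 0 := by
    intro h0
    have hself : classInner (D.Φ β) (D.Φ β) ≠ 0 := by
      rw [classInner_irr hχ hχ, if_pos rfl]
      exact one_ne_zero
    apply hself
    have h9 : classInner (D.Φ β) (D.Φ β) = classInner (indFun D.T (D.ψ β)) (D.Φ β) := rfl
    rw [h9, frobenius_reciprocity D.T (D.ψ β) (IsCharacter.isClassFunction hχc),
      ← classInner_conj_symm]
    change conj (classInner (resFun D.T (D.Φ β)) (D.ψ β)) = 0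
    rw [h0, map_zero]
  have hΔ : IsCharacter D.T (resFun D.T (D.Φ β) - D.ψ β) :=
    IsCharacter.sub_constituent (isCharacter_resFun D.T hχc) (D.ψ_irr β) hconst
  refine ⟨resFun D.T (D.Φ β) - D.ψ β, hΔ, by abel, ?_⟩
  have h1 : resFun Q (D.Φ β) = resLE D.hQT (D.ψ β) + resLE D.hQT (resFun D.T (D.Φ β) - D.ψ β) := by
    rw [map_sub, resLE_resFun]
    abel
  have h2 := D.Φ_over β
  rw [h1, classInner_add_left, D.ψ_over β] at h2
  exact add_eq_left.mp h2

end CData

end Cfsg.Agent.Lib.Helper25.GlN
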