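/-
helper25: the link between a group `K` with operators and the group `C` of its fixed points modulo a
normal Sylow `p`-subgroup `Q`: the setting (`LinkData`), transport of the data `(θ, T, θ̂)` from `K` to
`C`, and conjugacy of invariant characters of `Q` under `C`.
-/
import Mathlib
import Cfsg.Agent.Lib.Helper25.GlNb
import Cfsg.Agent.Lib.Helper25.GlNe

set_option autoImplicit false
set_option linter.style.haveILetI false

namespace Cfsg.Agent.Lib.Helper25.GlN

open Cfsg Cfsg.Agent.CharLib Cfsg.Agent.Lib.Helper6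
open scoped ComplexConjugate

universe u

variable {K C A : Type u} [Group K] [Group C] [Group A]

/-- restriction of a homomorphism to subgroups -/
def resHom (ι : C →* K) (U : Subgroup C) (V : Subgroup K) (h : ∀ c ∈ U, ι c ∈ V) : U →* V where
  toFun u := ⟨ι u, h u u.2⟩
  map_one' := Subtype.ext (map_one ι)
  map_mul' a b := Subtype.ext (map_mul ι (a : C) (b : C))

@[simp] theorem resHom_apply_coe (ι : C →* K) (U : Subgroup C) (V : Subgroup K)
    (h : ∀ c ∈ U, ι c ∈ V) (u : U) : ((resHom ι U V h u : V) : K) = ι u := rfl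

/-- The setting: `C` maps injectively onto the subgroup of `K` of the elements fixed by the operators
modulo the stable normal Sylow `p`-subgroup `QK`, and `QC` is the preimage of `QK`. -/
structure LinkData (p : ℕ) (φK : A →* MulAut K) (φC : A →* MulAut C) (ι : C →* K)
    (QK : Subgroup K) (QC : Subgroup C) : Prop where
  inj : Function.Injective ι
  equivar : ∀ a c, ι (φC a c) = φK a (ι c)
  hQC : ∀ c, c ∈ QC ↔ ι c ∈ QK
  range : ∀ k, k ∈ ι.range ↔ ∀ a, φK a k * k⁻¹ ∈ QK
  hQK : Stable φK QK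
  pA : IsPGroup p A
  pQ : IsPGroup p QK
  idx : ¬ p ∣ QK.index

namespace LinkData

variable {p : ℕ} {φK : A →* MulAut K} {φC : A →* MulAut C} {ι : C →* K}
  {QK : Subgroup K} {QC : Subgroup C} (L : LinkData p φK φC ι QK QC)
include L

theorem hQCst : Stable φC QC := by
  intro a c hc
  rw [L.hQC] at hc ⊢
  rw [L.equivar]
  exact L.hQK a _ hc

theorem le_range : QK ≤ ι.range := by
  intro q hq
  rw [L.range]
  intro a
  exact QK.mul_mem (L.hQK a q hq) (QK.inv_mem hq)

/-- `ι` restricted to `QC → QK` -/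
def ιQhom : QC →* QK := resHom ι QC QK (fun c hc => (L.hQC c).mp hc)

theorem ιQhom_bijective : Function.Bijective L.ιQhom := by
  constructor
  · intro a b hab
    apply Subtype.ext
    apply L.inj
    exact congrArg Subtype.val hab
  · rintro ⟨q, hq⟩
    obtain ⟨c, rfl⟩ := L.le_range hq
    exact ⟨⟨c, (L.hQC c).mpr hq⟩, rfl⟩

/-- the isomorphism `QC ≃* QK` -/
noncomputable def ιQ : QC ≃* QK := MulEquiv.ofBijective L.ιQhom L.ιQhom_bijective

@[simp] theorem ιQ_apply_coe (q : QC) : ((L.ιQ q : QK) : K) = ι q := rfl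

theorem pQC : IsPGroup p QC := L.pQ.of_equiv L.ιQ.symm

theorem normalQC [hQn : QK.Normal] : QC.Normal := by
  constructor
  intro n hn g
  rw [L.hQC] at hn ⊢
  rw [map_mul, map_mul, map_inv]
  exact hQn.conj_mem _ hn _

theorem idxC [Finite K] [hQn : QK.Normal] [hQCn : QC.Normal] : ¬ p ∣ QC.index := by
  intro h
  apply L.idx
  let f : C ⧸ QC →* K ⧸ QK := QuotientGroup.map QC QK ι (fun c hc => (L.hQC c).mp hc)
  have hf : Function.Injective f := by
    rw [injective_iff_map_eq_one]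
    intro q hq
    obtain ⟨c, rfl⟩ := QuotientGroup.mk_surjective q
    have h1 : f (c : C ⧸ QC) = ((ι c : K) : K ⧸ QK) := rfl
    rw [h1, QuotientGroup.eq_one_iff] at hq
    rw [QuotientGroup.eq_one_iff]
    exact (L.hQC c).mpr hq
  have h2 : Nat.card (C ⧸ QC) ∣ Nat.card (K ⧸ QK) := Subgroup.card_dvd_of_injective f hf
  exact dvd_trans h h2

/-- conjugation of functions on `QC` and on `QK` -/
theorem conjFun_comp_ιQ [hQn : QK.Normal] [hQCn : QC.Normal] (c : C) (θ : QK → ℂ) :
    Helper6.conjFun QC c (θ ∘ L.ιQ) = Helper6.conjFun QK (ι c) θ ∘ L.ιQ := by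
  funext q
  rw [conjFun_apply, Function.comp_apply, Function.comp_apply, conjFun_apply]
  congr 1
  apply Subtype.ext
  simp [map_mul, map_inv]

theorem inv_comp_ιQ {θ : QK → ℂ} (hθ : Inv (resAct φK QK L.hQK) θ) :
    Inv (resAct φC QC L.hQCst) (θ ∘ L.ιQ) := by
  intro a q
  rw [Function.comp_apply, Function.comp_apply]
  have h1 := hθ a (L.ιQ q)
  convert h1 using 2
  apply Subtype.ext
  simp [L.equivar]


section pullback

variable [hQn : QK.Normal] [hQCn : QC.Normal] (D : CData φK QK L.hQK)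

omit L in
/-- `ι` restricted to the inertia groups -/
def ιT (ι : C →* K) (T : Subgroup K) : T.comap ι →* T := resHom ι (T.comap ι) T (fun _ hc => hc)

omit L in
@[simp] theorem ιT_apply_coe (ι : C →* K) (T : Subgroup K) (t : T.comap ι) :
    ((ιT ι T t : T) : K) = ι t := rfl

theorem pb_hT (c : C) :
    c ∈ D.T.comap ι ↔ Helper6.conjFun QC c (D.θ ∘ L.ιQ) = D.θ ∘ L.ιQ := by
  rw [Subgroup.mem_comap, D.hT, L.conjFun_comp_ιQ]
  constructor
  · intro h
    rw [h]
  · intro h
    exact comp_equiv_injective L.ιQ.toEquiv h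

omit hQCn in
theorem pb_hQT : QC ≤ D.T.comap ι := by
  intro q hq
  rw [Subgroup.mem_comap]
  exact D.hQT ((L.hQC q).mp hq)

omit hQCn in
theorem pb_hTst : Stable φC (D.T.comap ι) := by
  intro a c hc
  rw [Subgroup.mem_comap] at hc ⊢
  rw [L.equivar]
  exact D.hTst a _ hc

omit hQCn in
theorem pb_hres : resLE (L.pb_hQT D) (D.θh ∘ ιT ι D.T) = D.θ ∘ L.ιQ := by
  funext q
  rw [resLE_apply, Function.comp_apply, Function.comp_apply]
  have h1 := congrFun D.hres (L.ιQ q)
  rw [resLE_apply] at h1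
  rw [← h1]
  rfl

omit hQCn in
theorem pb_hθh [Finite C] : IsIrrCharacter (D.T.comap ι) (D.θh ∘ ιT ι D.T) := by
  have h1 : IsCharacter (D.T.comap ι) (D.θh ∘ ιT ι D.T) :=
    IsCharacter.comp_hom (IsIrrCharacter.isCharacter D.hθh) (ιT ι D.T)
  apply Cfsg.Agent.Lib.Helper2.Glaub.isIrrCharacter_of_comp_hom
    (Subgroup.inclusion (L.pb_hQT D)) h1
  have h2 : (D.θh ∘ ιT ι D.T) ∘ (Subgroup.inclusion (L.pb_hQT D)) =
      resLE (L.pb_hQT D) (D.θh ∘ ιT ι D.T) := rfl
  rw [h2, L.pb_hres D]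
  exact isIrrCharacter_comp_mulEquiv' L.ιQ D.hθ

omit hQCn in
theorem pb_hθhinv : Inv (resAct φC (D.T.comap ι) (L.pb_hTst D)) (D.θh ∘ ιT ι D.T) := by
  intro a t
  rw [Function.comp_apply, Function.comp_apply]
  have h1 := D.hθhinv a (ιT ι D.T t)
  convert h1 using 2
  apply Subtype.ext
  simp [L.equivar]

/-- transport of the data from `K` to `C` -/
@[reducible] noncomputable def pullback [Finite C] : CData φC QC L.hQCst where
  θ := D.θ ∘ L.ιQ
  T := D.T.comap ι
  θh := D.θh ∘ ιT ι D.T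
  hθ := isIrrCharacter_comp_mulEquiv' L.ιQ D.hθ
  hθinv := L.inv_comp_ιQ D.hθinv
  hT := L.pb_hT D
  hQT := L.pb_hQT D
  hTst := L.pb_hTst D
  hθh := L.pb_hθh D
  hres := L.pb_hres D
  hθhinv := L.pb_hθhinv D

end pullback

end LinkData

end Cfsg.Agent.Lib.Helper25.GlN
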