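/-
helper25: the link between `K` and `C`, continued: conjugacy of invariant characters of `Q` under `C`,
characters of `Q` under constituents of restrictions to `C`, and the multiplicity formula
`[Φ β|_C, Φ' β'] = [β|_{T_C/Q}, β']`.
-/
import Mathlib
import Cfsg.Agent.Lib.Helper25.GlNf

set_option autoImplicit false
set_option linter.style.haveILetI false

namespace Cfsg.Agent.Lib.Helper25.GlN

open Cfsg Cfsg.Agent.CharLib Cfsg.Agent.Lib.Helper6
open scoped ComplexConjugate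

universe u

section general

/-- a character not lying over `ϑ` has no constituent lying over `ϑ` -/
theorem classInner_eq_zero_of_not_over {G : Type u} [Group G] {H T : Subgroup G} [Fintype T]
    [Fintype H] (hHT : H ≤ T) {Δ ψ' : T → ℂ} (hΔ : IsCharacter T Δ) (hψ' : IsIrrCharacter T ψ')
    {ϑ : H → ℂ} (hϑ : IsIrrCharacter H ϑ) (h0 : classInner (resLE hHT Δ) ϑ = 0)
    (h1 : classInner (resLE hHT ψ') ϑ ≠ 0) : classInner Δ ψ' = 0 := by
  by_contra hne
  have hΔ' : IsCharacter T (Δ - ψ') := IsCharacter.sub_constituent hΔ hψ' hne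
  have hϑc := IsIrrCharacter.isCharacter hϑ
  obtain ⟨n1, hn1⟩ := IsCharacter.classInner_nat
    (isCharacter_resLE hHT (IsIrrCharacter.isCharacter hψ')) hϑc
  obtain ⟨n2, hn2⟩ := IsCharacter.classInner_nat (isCharacter_resLE hHT hΔ') hϑc
  have h2 : resLE hHT Δ = resLE hHT ψ' + resLE hHT (Δ - ψ') := by
    rw [map_sub]
    abel
  rw [h2, classInner_add_left, hn1, hn2] at h0
  have h3 : n1 + n2 = 0 := by exact_mod_cast h0
  apply h1
  rw [hn1]
  have : n1 = 0 := by omega
  rw [this, Nat.cast_zero]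

/-- **Gallagher, inner products**: multiplying by a character that restricts irreducibly to `N`
preserves inner products of characters of `Y/N`. -/
theorem classInner_inflate_mul {Y : Type u} [Group Y] [Fintype Y] (N : Subgroup Y) [hN : N.Normal]
    [Fintype N] [Fintype (Y ⧸ N)] {η : Y → ℂ} (hη : IsIrrCharacter Y η)
    (hηN : IsIrrCharacter N (resFun N η)) {α : Y ⧸ N → ℂ} (hα : IsCharacter (Y ⧸ N) α)
    (β' : IrrCharacter (Y ⧸ N)) :
    classInner ((fun y : Y => α (y : Y ⧸ N)) * η)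
      ((Cfsg.Agent.Lib.Helper25.inflateIrr N β' : Y → ℂ) * η) = classInner α (β' : Y ⧸ N → ℂ) := by
  classical
  letI := fintypeIrr (Y ⧸ N)
  obtain ⟨m, hdec, hcoef⟩ := IsCharacter.exists_decomp_sum hα
  have hbij := gallagher_bijOn N hη hηN
  have hmem : ∀ γ : IrrCharacter (Y ⧸ N),
      (Cfsg.Agent.Lib.Helper25.inflateIrr N γ : Y → ℂ) ∈
        {β | IsIrrCharacter Y β ∧ classInner (indFun N (1 : N → ℂ)) β ≠ 0} :=
    fun γ => ⟨(Cfsg.Agent.Lib.Helper25.inflateIrr N γ).2, classInner_indFun_one_inflate N γ⟩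
  have h1 : (fun y : Y => α (y : Y ⧸ N)) * η =
      ∑ γ : IrrCharacter (Y ⧸ N), (m γ : ℂ) •
        ((Cfsg.Agent.Lib.Helper25.inflateIrr N γ : Y → ℂ) * η) := by
    funext y
    rw [Pi.mul_apply, Finset.sum_apply]
    have h2 := congrFun hdec (y : Y ⧸ N)
    rw [Finset.sum_apply] at h2
    rw [h2, Finset.sum_mul]
    apply Finset.sum_congr rfl
    intro γ _
    rw [Pi.smul_apply, Pi.smul_apply, Pi.mul_apply, smul_eq_mul, nsmul_eq_mul,
      Cfsg.Agent.Lib.Helper25.inflateIrr_apply, mul_assoc]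
  rw [h1, classInner_sum_left, hcoef β']
  rw [Finset.sum_eq_single β']
  · rw [classInner_smul_left, classInner_irr (hbij.mapsTo (hmem β')).1 (hbij.mapsTo (hmem β')).1,
      if_pos rfl, mul_one]
  · intro γ _ hγ
    rw [classInner_smul_left, classInner_irr (hbij.mapsTo (hmem γ)).1 (hbij.mapsTo (hmem β')).1,
      if_neg, mul_zero]
    intro heq
    apply hγ
    have h3 := hbij.injOn (hmem γ) (hmem β') heq
    exact Cfsg.Agent.Lib.Helper25.inflateIrr_injective N (Subtype.ext h3)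
  · intro h
    exact absurd (Finset.mem_univ _) h

end general

variable {K C A : Type u} [Group K] [Group C] [Group A]

namespace LinkData

variable {p : ℕ} {φK : A →* MulAut K} {φC : A →* MulAut C} {ι : C →* K}
  {QK : Subgroup K} {QC : Subgroup C} (L : LinkData p φK φC ι QK QC)
include L

/-- **Glauberman's lemma**: invariant characters of `Q` that are conjugate under `K` are conjugate
under `C`. -/
theorem conj_of_inv [hp : Fact p.Prime] [Finite K] [hQn : QK.Normal] {θ₁ θ₂ : QK → ℂ} (hθ₁c : IsClassFunction QK θ₁)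
    (hθ₁ : Inv (resAct φK QK L.hQK) θ₁) (hθ₂ : Inv (resAct φK QK L.hQK) θ₂) (g : K)
    (hg : Helper6.conjFun QK g θ₁ = θ₂) : ∃ c : C, Helper6.conjFun QK (ι c) θ₁ = θ₂ := by
  let T : Subgroup K := stabFun QK θ₁
  have hT : ∀ g : K, g ∈ T ↔ Helper6.conjFun QK g θ₁ = θ₁ := fun g => Iff.rfl
  have hQT : QK ≤ T := le_stabFun QK hθ₁c
  have hTst : Stable φK T := stable_of_stab QK L.hQK hθ₁ T hT
  have hcos : ∀ a, φK a g * g⁻¹ ∈ T := by
    intro a
    have h1 := conjFun_apply_act_of_inv QK L.hQK hθ₁ a g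
    rw [hg] at h1
    have h2 : θ₂ = θ₂ ∘ resAct φK QK L.hQK a := (inv_iff_comp.mp hθ₂ a).symm
    have h3 : Helper6.conjFun QK (φK a g) θ₁ = θ₂ :=
      comp_equiv_injective (resAct φK QK L.hQK a).toEquiv (h1.trans h2)
    rw [hT, conjFun_mul, h3, ← hg, conjFun_inv_conjFun]
  obtain ⟨c₀, hc₀, hc₀T⟩ := exists_mem_fixed_coset φK L.pA QK L.hQK L.idx T hQT hTst g hcos
  obtain ⟨c, rfl⟩ := (L.range c₀).mpr hc₀
  refine ⟨c, ?_⟩
  have h4 : ι c = (ι c * g⁻¹) * g := by group
  rw [h4, conjFun_mul, (hT _).mp hc₀T, hg]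

/-- the characters of `Q` under a constituent of the restriction to `C` -/
theorem over_of_constituent [Fintype K] [Fintype C] [Fintype QK] [Fintype QC] {χ : K → ℂ}
    (hχ : IsCharacter K χ) {ξ : C → ℂ} (hξ : IsIrrCharacter C ξ)
    (hne : classInner (χ ∘ ι) ξ ≠ 0) {θ' : QC → ℂ} (hθ' : IsIrrCharacter QC θ')
    (hc : classInner (resFun QC ξ) θ' ≠ 0) :
    classInner (resFun QK χ) (θ' ∘ L.ιQ.symm) ≠ 0 := by
  have hχι : IsCharacter C (χ ∘ ι) := IsCharacter.comp_hom hχ ι
  have hΔ : IsCharacter C (χ ∘ ι - ξ) := IsCharacter.sub_constituent hχι hξ hne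
  have hθ'c := IsIrrCharacter.isCharacter hθ'
  obtain ⟨n1, hn1⟩ := IsCharacter.classInner_nat
    (isCharacter_resFun QC (IsIrrCharacter.isCharacter hξ)) hθ'c
  obtain ⟨n2, hn2⟩ := IsCharacter.classInner_nat (isCharacter_resFun QC hΔ) hθ'c
  have h1 : resFun QC (χ ∘ ι) = resFun QC ξ + resFun QC (χ ∘ ι - ξ) := by
    rw [map_sub]
    abel
  have h2 : classInner (resFun QC (χ ∘ ι)) θ' = ((n1 + n2 : ℕ) : ℂ) := by
    rw [h1, classInner_add_left, hn1, hn2]
    push_cast
    rfl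
  have h3 : resFun QC (χ ∘ ι) = resFun QK χ ∘ L.ιQ := rfl
  have h4 : θ' = (θ' ∘ L.ιQ.symm) ∘ L.ιQ := by
    funext q
    simp
  rw [h3, h4, classInner_comp_mulEquiv] at h2
  rw [h2]
  have hn1' : n1 ≠ 0 := by
    intro h0
    apply hc
    rw [hn1, h0, Nat.cast_zero]
  exact_mod_cast (by omega : n1 + n2 ≠ 0)

section inner

variable [Fintype K] [Fintype C] [hQn : QK.Normal] [hQCn : QC.Normal]
  (D : CData φK QK L.hQK)

/-- the map `T_C/Q → T/Q` -/
noncomputable def ιbar : (L.pullback D).T ⧸ (L.pullback D).N →* D.T ⧸ D.N :=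
  QuotientGroup.map (L.pullback D).N D.N (ιT ι D.T) (by
    intro t ht
    rw [Subgroup.mem_comap]
    rw [Subgroup.mem_subgroupOf] at ht ⊢
    exact (L.hQC _).mp ht)

omit [Fintype K] in
theorem ιbar_mk (t : (L.pullback D).T) :
    L.ιbar D (t : (L.pullback D).T ⧸ (L.pullback D).N) = ((ιT ι D.T t : D.T) : D.T ⧸ D.N) := rfl

/-- **The multiplicity formula.** -/
theorem link_inner [Fintype ((L.pullback D).T ⧸ (L.pullback D).N)]
    (β : IrrCharacter (D.T ⧸ D.N))
    (β' : IrrCharacter ((L.pullback D).T ⧸ (L.pullback D).N)) :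
    classInner (D.Φ β ∘ ι) ((L.pullback D).Φ β') =
      classInner ((β : D.T ⧸ D.N → ℂ) ∘ L.ιbar D)
        (β' : (L.pullback D).T ⧸ (L.pullback D).N → ℂ) := by
  classical
  have hχ := D.Φ_irr β
  have hχc : IsCharacter K (D.Φ β) := IsIrrCharacter.isCharacter hχ
  have hcf : IsClassFunction C (D.Φ β ∘ ι) :=
    IsCharacter.isClassFunction (IsCharacter.comp_hom hχc ι)
  obtain ⟨Δ, hΔ, hres, hΔ0⟩ := D.Φ_res β
  -- Frobenius reciprocity
  have h1 : classInner ((L.pullback D).Φ β') (D.Φ β ∘ ι) =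
      classInner ((L.pullback D).ψ β') (fun t : (L.pullback D).T => (D.Φ β ∘ ι) t) :=
    frobenius_reciprocity (L.pullback D).T ((L.pullback D).ψ β') hcf
  have h2 : (fun t : (L.pullback D).T => (D.Φ β ∘ ι) t) = D.ψ β ∘ ιT ι D.T + Δ ∘ ιT ι D.T := by
    funext t
    have := congrFun hres (ιT ι D.T t)
    rw [resFun_apply, Pi.add_apply] at this
    exact this
  -- the part not over `θ`
  have h3 : classInner (Δ ∘ ιT ι D.T) ((L.pullback D).ψ β') = 0 := by
    apply classInner_eq_zero_of_not_over (L.pullback D).hQT (IsCharacter.comp_hom hΔ (ιT ι D.T)) ((L.pullback D).ψ_irr β')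
      (L.pullback D).hθ _ ((L.pullback D).ψ_over_ne β')
    have h4 : resLE (L.pullback D).hQT (Δ ∘ ιT ι D.T) = resLE D.hQT Δ ∘ L.ιQ := rfl
    have h5 : (L.pullback D).θ = D.θ ∘ L.ιQ := rfl
    rw [h4, h5, classInner_comp_mulEquiv]
    exact hΔ0
  -- the part over `θ`
  have h6 : D.ψ β ∘ ιT ι D.T =
      (fun t : (L.pullback D).T => ((β : D.T ⧸ D.N → ℂ) ∘ L.ιbar D) (t : (L.pullback D).T ⧸ (L.pullback D).N)) * (L.pullback D).θh := by
    funext t
    rfl
  have hα : IsCharacter ((L.pullback D).T ⧸ (L.pullback D).N) ((β : D.T ⧸ D.N → ℂ) ∘ L.ιbar D) :=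
    IsCharacter.comp_hom (IsIrrCharacter.isCharacter β.2) (L.ιbar D)
  have h7 : classInner (D.ψ β ∘ ιT ι D.T) ((L.pullback D).ψ β') =
      classInner ((β : D.T ⧸ D.N → ℂ) ∘ L.ιbar D) (β' : (L.pullback D).T ⧸ (L.pullback D).N → ℂ) := by
    rw [h6]
    exact classInner_inflate_mul (L.pullback D).N (L.pullback D).hθh (L.pullback D).isIrr_resFun_N_θh hα β'
  rw [← classInner_conj_symm, h1, h2, classInner_add_right, map_add, classInner_conj_symm,
    classInner_conj_symm, h3, add_zero, h7]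

end inner

end LinkData

end Cfsg.Agent.Lib.Helper25.GlN
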