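/-
helper25: the link between `K` and `C`, continued: the Glauberman correspondence between `T/Q` and
`T_C/Q`, triviality of the operators on `T_C/Q`, and the congruence of orbit lengths.
-/
import Mathlib
import Cfsg.Agent.Lib.Helper25.GlNc
import Cfsg.Agent.Lib.Helper25.GlNg

set_option autoImplicit false
set_option linter.style.haveILetI false

namespace Cfsg.Agent.Lib.Helper25.GlN

open Cfsg Cfsg.Agent.CharLib Cfsg.Agent.Lib.Helper6
open scoped ComplexConjugate

universe u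

variable {K C A : Type u} [Group K] [Group C] [Group A]

namespace LinkData

variable {p : ℕ} {φK : A →* MulAut K} {φC : A →* MulAut C} {ι : C →* K}
  {QK : Subgroup K} {QC : Subgroup C} (L : LinkData p φK φC ι QK QC)
include L

/-- elements of `C` are fixed modulo `QC` -/
theorem act_mul_inv_mem (a : A) (c : C) : φC a c * c⁻¹ ∈ QC := by
  rw [L.hQC, map_mul, map_inv, L.equivar]
  exact (L.range (ι c)).mp ⟨c, rfl⟩ a

section

variable [Fintype K] [Fintype C] [hQn : QK.Normal] [hQCn : QC.Normal]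
  (D : CData φK QK L.hQK)

omit [Fintype K] in
/-- the operators are trivial on `T_C/Q` -/
theorem actQ_pullback (a : A) (q : (L.pullback D).T ⧸ (L.pullback D).N) :
    (L.pullback D).actQ a q = q := by
  obtain ⟨t, rfl⟩ := QuotientGroup.mk_surjective q
  change ((resAct φC (L.pullback D).T (L.pullback D).hTst a t : (L.pullback D).T) :
    (L.pullback D).T ⧸ (L.pullback D).N) = _
  rw [QuotientGroup.eq, Subgroup.mem_subgroupOf]
  have h1 := QC.inv_mem (L.act_mul_inv_mem a (t : C))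
  have h2 := hQCn.conj_mem _ h1 (t : C)⁻¹
  have h3 : ((t : C))⁻¹ * (φC a t * (t : C)⁻¹)⁻¹ * ((t : C)⁻¹)⁻¹ = (φC a t)⁻¹ * (t : C) := by
    group
  rw [h3] at h2
  exact h2

omit [Fintype K] in
theorem ιbar_injective : Function.Injective (L.ιbar D) := by
  rw [injective_iff_map_eq_one]
  intro q hq
  obtain ⟨t, rfl⟩ := QuotientGroup.mk_surjective q
  rw [L.ιbar_mk, QuotientGroup.eq_one_iff, Subgroup.mem_subgroupOf] at hq
  rw [QuotientGroup.eq_one_iff, Subgroup.mem_subgroupOf]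
  exact (L.hQC _).mpr hq

omit [Fintype K] in
theorem mem_range_ιbar (h : D.T ⧸ D.N) : h ∈ (L.ιbar D).range ↔ ∀ a, D.actQ a h = h := by
  constructor
  · rintro ⟨q, rfl⟩ a
    obtain ⟨t, rfl⟩ := QuotientGroup.mk_surjective q
    rw [L.ιbar_mk]
    change ((resAct φK D.T D.hTst a (ιT ι D.T t) : D.T) : D.T ⧸ D.N) = _
    rw [QuotientGroup.eq, Subgroup.mem_subgroupOf]
    have h1 := QK.inv_mem ((L.range (ι t)).mp ⟨t, rfl⟩ a)
    have h2 := hQn.conj_mem _ h1 (ι t)⁻¹
    have h3 : (ι t)⁻¹ * (φK a (ι t) * (ι t)⁻¹)⁻¹ * ((ι t)⁻¹)⁻¹ = (φK a (ι t))⁻¹ * ι t := by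
      group
    rw [h3] at h2
    exact h2
  · intro hfix
    obtain ⟨t, rfl⟩ := QuotientGroup.mk_surjective h
    have h1 : ∀ a, φK a (t : K) * (t : K)⁻¹ ∈ QK := by
      intro a
      have h2 := hfix a
      change ((resAct φK D.T D.hTst a t : D.T) : D.T ⧸ D.N) = _ at h2
      rw [QuotientGroup.eq, Subgroup.mem_subgroupOf] at h2
      have h3 := hQn.conj_mem _ (QK.inv_mem h2) (φK a (t : K))
      have h4 : φK a (t : K) * (((resAct φK D.T D.hTst a t)⁻¹ * t : D.T) : K)⁻¹ * (φK a (t : K))⁻¹ =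
          φK a (t : K) * (t : K)⁻¹ := by
        simp
        group
      rw [h4] at h3
      exact h3
    obtain ⟨c, hc⟩ := (L.range (t : K)).mpr h1
    have hcT : c ∈ D.T.comap ι := by
      rw [Subgroup.mem_comap, hc]
      exact t.2
    refine ⟨((⟨c, hcT⟩ : (L.pullback D).T) : (L.pullback D).T ⧸ (L.pullback D).N), ?_⟩
    rw [L.ιbar_mk]
    congr 1
    apply Subtype.ext
    exact hc

/-- **The Glauberman correspondence between `T/Q` and `T_C/Q`.** -/
theorem agCorr_link [hp : Fact p.Prime] [Finite A]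
    [Fintype ((L.pullback D).T ⧸ (L.pullback D).N)] : AGCorr D.actQ (L.ιbar D) p := by
  apply agCorr D.actQ L.pA _ (L.ιbar D) (L.ιbar_injective D) (L.mem_range_ιbar D)
  intro h
  apply L.idx
  have h1 : Nat.card (D.T ⧸ D.N) = QK.relIndex D.T := rfl
  rw [h1] at h
  exact dvd_trans h (Subgroup.relIndex_dvd_index_of_le D.hQT)

/-- **Orbit lengths**: the `K`-orbit of `θ` and the `C`-orbit of `θ ∘ ι` have congruent lengths. -/
theorem card_conjOrbit_modEq [hp : Fact p.Prime] :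
    (conjOrbit QK D.θ).card ≡ (conjOrbit QC (D.θ ∘ L.ιQ)).card [MOD p] := by
  classical
  letI := funAct (resAct φK QK L.hQK)
  have hθcf : IsClassFunction QK D.θ :=
    IsCharacter.isClassFunction (IsIrrCharacter.isCharacter D.hθ)
  have hstab : ∀ a : A, ∀ s ∈ conjOrbit QK D.θ, a • s ∈ conjOrbit QK D.θ := by
    intro a s hs
    obtain ⟨g, rfl⟩ := (mem_conjOrbit QK).mp hs
    rw [mem_conjOrbit]
    refine ⟨φK a g, ?_⟩
    have h1 := conjFun_apply_act_of_inv QK L.hQK D.hθinv a⁻¹ (φK a g)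
    rw [apply_inv_apply] at h1
    exact h1.symm
  have h1 := card_modEq_card_fixed L.pA (conjOrbit QK D.θ) hstab
  suffices hEq : Nat.card {s : QK → ℂ // s ∈ conjOrbit QK D.θ ∧ ∀ a : A, a • s = s} =
      (conjOrbit QC (D.θ ∘ L.ιQ)).card by
    rw [hEq] at h1
    exact h1
  have h2 : (conjOrbit QC (D.θ ∘ L.ιQ)).card =
      Nat.card {s' : QC → ℂ // s' ∈ conjOrbit QC (D.θ ∘ L.ιQ)} := by
    rw [Nat.card_eq_fintype_card, Fintype.card_coe]
  rw [h2]
  have hmem : ∀ s : {s : QK → ℂ // s ∈ conjOrbit QK D.θ ∧ ∀ a : A, a • s = s},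
      s.1 ∘ L.ιQ ∈ conjOrbit QC (D.θ ∘ L.ιQ) := by
    rintro ⟨s, hs, hfix⟩
    obtain ⟨g, hg⟩ := (mem_conjOrbit QK).mp hs
    have hsinv : Inv (resAct φK QK L.hQK) s := (funAct_fixed_iff _ s).mp hfix
    obtain ⟨c, hc⟩ := L.conj_of_inv hθcf D.hθinv hsinv g hg
    rw [mem_conjOrbit]
    refine ⟨c, ?_⟩
    rw [L.conjFun_comp_ιQ, hc]
  apply Nat.card_congr
  refine Equiv.ofBijective (fun s => ⟨s.1 ∘ L.ιQ, hmem s⟩) ⟨?_, ?_⟩
  · intro s₁ s₂ h12
    apply Subtype.ext
    exact comp_equiv_injective L.ιQ.toEquiv (congrArg Subtype.val h12)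
  · rintro ⟨s', hs'⟩
    obtain ⟨c, rfl⟩ := (mem_conjOrbit QC).mp hs'
    have hmemK : Helper6.conjFun QK (ι c) D.θ ∈ conjOrbit QK D.θ :=
      (mem_conjOrbit QK).mpr ⟨ι c, rfl⟩
    have hfix : ∀ a : A, a • Helper6.conjFun QK (ι c) D.θ = Helper6.conjFun QK (ι c) D.θ := by
      rw [funAct_fixed_iff, inv_iff_comp]
      intro a
      have h3 := conjFun_apply_act_of_inv QK L.hQK D.hθinv a (ι c)
      have h4 : φK a (ι c) = (φK a (ι c) * (ι c)⁻¹) * ι c := by group
      rw [h4, conjFun_mul, conjFun_of_mem QK hθcf ((L.range (ι c)).mp ⟨c, rfl⟩ a)] at h3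
      exact h3
    refine ⟨⟨Helper6.conjFun QK (ι c) D.θ, hmemK, hfix⟩, ?_⟩
    apply Subtype.ext
    exact (L.conjFun_comp_ιQ c D.θ).symm

end

end LinkData

end Cfsg.Agent.Lib.Helper25.GlN
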