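/-
helper25: the correspondence between the invariant irreducible characters of `K` and of `C`
(`C/Q` the fixed points of a `p`-group of operators on `K/Q`, `Q` a normal Sylow `p`-subgroup of `K`):
existence with multiplicities and degrees, injectivity, surjectivity.
-/
import Mathlib
import Cfsg.Agent.Lib.Helper25.GlNh

set_option autoImplicit false
set_option linter.style.haveILetI false

namespace Cfsg.Agent.Lib.Helper25.GlN

open Cfsg Cfsg.Agent.CharLib Cfsg.Agent.Lib.Helper6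
open scoped ComplexConjugate

universe u

variable {K C A : Type u} [Group K] [Group C] [Group A]

namespace LinkData

variable {p : ℕ} {φK : A →* MulAut K} {φC : A →* MulAut C} {ι : C →* K}
  {QK : Subgroup K} {QC : Subgroup C} (L : LinkData p φK φC ι QK QC)
include L

theorem inv_comp_ιQ_symm {θ' : QC → ℂ} (hθ' : Inv (resAct φC QC L.hQCst) θ') :
    Inv (resAct φK QK L.hQK) (θ' ∘ L.ιQ.symm) := by
  intro a q
  obtain ⟨x, rfl⟩ := L.ιQ.surjective q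
  have h1 : resAct φK QK L.hQK a (L.ιQ x) = L.ιQ (resAct φC QC L.hQCst a x) := by
    apply Subtype.ext
    simp [L.equivar]
  rw [Function.comp_apply, Function.comp_apply, h1, MulEquiv.symm_apply_apply,
    MulEquiv.symm_apply_apply]
  exact hθ' a x

variable [hp : Fact p.Prime] [Fintype K] [Fintype C] [Finite A] [hQn : QK.Normal]
  [hQCn : QC.Normal] [Fintype QK] [Fintype QC]

omit [Finite A] in
/-- an invariant constituent of `χ|_C` lies over the transported character of `Q` -/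
theorem over_pullback_of_inner_ne (D : CData φK QK L.hQK) {χ : K → ℂ} (hχ : IsIrrCharacter K χ)
    (hχθ : classInner (resFun QK χ) D.θ ≠ 0) {ξ' : C → ℂ} (hξ' : IsIrrCharacter C ξ')
    (hξ'inv : Inv φC ξ') (hne : classInner (χ ∘ ι) ξ' ≠ 0) :
    classInner (resFun QC ξ') (D.θ ∘ L.ιQ) ≠ 0 := by
  obtain ⟨θ'', hθ'', hθ''inv, hθ''c⟩ :=
    exists_inv_constituent φC L.pA QC L.hQCst L.idxC hξ' hξ'inv
  have h1 := L.over_of_constituent (IsIrrCharacter.isCharacter hχ) hξ' hne hθ'' hθ''c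
  have hθ₂ : IsIrrCharacter QK (θ'' ∘ L.ιQ.symm) := isIrrCharacter_comp_mulEquiv' L.ιQ.symm hθ''
  obtain ⟨g, hg⟩ := exists_conjFun_eq_of_constituent QK hχ D.hθ hθ₂ hχθ h1
  obtain ⟨c, hc⟩ := L.conj_of_inv
    (IsCharacter.isClassFunction (IsIrrCharacter.isCharacter D.hθ)) D.hθinv
    (L.inv_comp_ιQ_symm hθ''inv) g hg
  have h2 : θ'' = Helper6.conjFun QC c (D.θ ∘ L.ιQ) := by
    rw [L.conjFun_comp_ιQ, hc]
    funext q
    simp
  rw [h2, classInner_resFun_conjFun QC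
    (IsCharacter.isClassFunction (IsIrrCharacter.isCharacter hξ'))] at hθ''c
  exact hθ''c

/-- **Existence**: the correspondent of an invariant irreducible character of `K`. -/
theorem main_E (χ : IrrCharacter K) (hχ : Inv φK (χ : K → ℂ)) :
    ∃ ξ : IrrCharacter C, Inv φC (ξ : C → ℂ) ∧ ∃ ε : ℤ, (ε = 1 ∨ ε = -1) ∧
      (∀ ξ' : IrrCharacter C, Inv φC (ξ' : C → ℂ) → ∃ m : ℕ,
        classInner ((χ : K → ℂ) ∘ ι) (ξ' : C → ℂ) = (m : ℂ) ∧
        (m : ℤ) ≡ (if ξ' = ξ then ε else 0) [ZMOD p]) ∧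
      (charDegree (χ : K → ℂ) : ℤ) ≡ ε * (charDegree (ξ : C → ℂ) : ℤ) [ZMOD p] := by
  classical
  obtain ⟨θ, hθ, hθinv, hθc⟩ := exists_inv_constituent φK L.pA QK L.hQK L.idx χ.2 hχ
  obtain ⟨D, rfl⟩ := exists_cdata φK QK L.hQK L.pQ L.idx θ hθ hθinv
  obtain ⟨β, hβ⟩ := D.Φ_surj χ.2 hθc
  have hβinv : Inv D.actQ (β : D.T ⧸ D.N → ℂ) := (D.Φ_inv_iff β).mp (by rw [hβ]; exact hχ)
  letI : Fintype ((L.pullback D).T ⧸ (L.pullback D).N) := Fintype.ofFinite _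
  obtain ⟨βs, ε, hε, hm⟩ := (L.agCorr_link D).1 β hβinv
  have hξinv : Inv φC ((L.pullback D).Φ βs) :=
    ((L.pullback D).Φ_inv_iff βs).mpr (fun a q => by rw [L.actQ_pullback D a q])
  refine ⟨⟨(L.pullback D).Φ βs, (L.pullback D).Φ_irr βs⟩, hξinv, ε, hε, ?_, ?_⟩
  · intro ξ' hξ'inv
    by_cases hex : ∃ β' : IrrCharacter ((L.pullback D).T ⧸ (L.pullback D).N),
        (L.pullback D).Φ β' = (ξ' : C → ℂ)
    · obtain ⟨β', hβ'⟩ := hex
      obtain ⟨m, hm1, hm2⟩ := hm β'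
      refine ⟨m, ?_, ?_⟩
      · rw [← hβ, ← hβ', L.link_inner D β β']
        exact hm1
      · have hiff : (ξ' = ⟨(L.pullback D).Φ βs, (L.pullback D).Φ_irr βs⟩) ↔ β' = βs := by
          constructor
          · intro h
            apply (L.pullback D).Φ_injective
            rw [hβ']
            exact congrArg Subtype.val h
          · intro h
            apply Subtype.ext
            rw [← hβ', h]
        by_cases hc : β' = βs
        · rw [if_pos (hiff.mpr hc)]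
          rw [if_pos hc] at hm2
          exact hm2
        · rw [if_neg (fun h => hc (hiff.mp h))]
          rw [if_neg hc] at hm2
          exact hm2
    · have h0 : classInner ((χ : K → ℂ) ∘ ι) (ξ' : C → ℂ) = 0 := by
        by_contra hne
        apply hex
        exact (L.pullback D).Φ_surj ξ'.2
          (L.over_pullback_of_inner_ne D χ.2 hθc ξ'.2 hξ'inv hne)
      have hneq : ¬ ξ' = ⟨(L.pullback D).Φ βs, (L.pullback D).Φ_irr βs⟩ := by
        intro h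
        apply hex
        exact ⟨βs, (congrArg Subtype.val h).symm⟩
      refine ⟨0, by rw [h0, Nat.cast_zero], ?_⟩
      rw [if_neg hneq, Nat.cast_zero]
  · -- degrees
    have h1 := D.Φ_apply_one β
    have h2 := (L.pullback D).Φ_apply_one βs
    have hθ1 : (L.pullback D).θ 1 = D.θ 1 := by
      change D.θ (L.ιQ 1) = D.θ 1
      rw [map_one]
    rw [hθ1] at h2
    have hθd : D.θ 1 = (charDegree D.θ : ℂ) := Cfsg.Agent.Lib.Helper24.irr_apply_one ⟨D.θ, D.hθ⟩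
    rw [hβ, Cfsg.Agent.Lib.Helper24.irr_apply_one χ, Cfsg.Agent.Lib.Helper24.irr_apply_one β,
      hθd] at h1
    have h2' : (charDegree ((L.pullback D).Φ βs) : ℂ) = _ :=
      (Cfsg.Agent.Lib.Helper24.irr_apply_one ⟨(L.pullback D).Φ βs, (L.pullback D).Φ_irr βs⟩).symm.trans h2
    rw [Cfsg.Agent.Lib.Helper24.irr_apply_one βs, hθd] at h2'
    have h3 : charDegree (χ : K → ℂ) = (conjOrbit QK D.θ).card *
        charDegree (β : D.T ⧸ D.N → ℂ) * charDegree D.θ := by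
      exact_mod_cast h1
    have h4 : charDegree ((L.pullback D).Φ βs) = (conjOrbit QC (L.pullback D).θ).card *
        charDegree (βs : (L.pullback D).T ⧸ (L.pullback D).N → ℂ) * charDegree D.θ := by
      exact_mod_cast h2'
    have h5 := degree_modEq_of_mult (IsIrrCharacter.isCharacter β.2) (L.ιbar D) βs ε hm
      (charDegree (β : D.T ⧸ D.N → ℂ)) (Cfsg.Agent.Lib.Helper24.irr_apply_one β)
    have h6 : ((conjOrbit QK D.θ).card : ℤ) ≡ ((conjOrbit QC (L.pullback D).θ).card : ℤ)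
        [ZMOD p] := (Int.natCast_modEq_iff).mpr (L.card_conjOrbit_modEq D)
    change (charDegree (χ : K → ℂ) : ℤ) ≡ ε * (charDegree ((L.pullback D).Φ βs) : ℤ) [ZMOD p]
    rw [h3, h4]
    push_cast
    have h7 := (h6.mul h5).mul_right (charDegree D.θ : ℤ)
    have h8 : ((conjOrbit QC (L.pullback D).θ).card : ℤ) *
        (ε * (charDegree (βs : (L.pullback D).T ⧸ (L.pullback D).N → ℂ) : ℤ)) *
          (charDegree D.θ : ℤ) =
        ε * (((conjOrbit QC (L.pullback D).θ).card : ℤ) *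
          (charDegree (βs : (L.pullback D).T ⧸ (L.pullback D).N → ℂ) : ℤ) *
            (charDegree D.θ : ℤ)) := by
      ring
    rw [h8] at h7
    exact h7

omit [Finite A] [Fintype ↥QK] in
/-- the data over an invariant constituent of an invariant irreducible character of `C` -/
theorem exists_cdata_of_C (ξ : IrrCharacter C) (hξ : Inv φC (ξ : C → ℂ)) :
    ∃ (D : CData φK QK L.hQK) (θ'' : QC → ℂ), IsIrrCharacter QC θ'' ∧
      classInner (resFun QC (ξ : C → ℂ)) θ'' ≠ 0 ∧ D.θ = θ'' ∘ L.ιQ.symm ∧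
      classInner (resFun QC (ξ : C → ℂ)) (D.θ ∘ L.ιQ) ≠ 0 := by
  obtain ⟨θ'', hθ'', hθ''inv, hθ''c⟩ :=
    exists_inv_constituent φC L.pA QC L.hQCst L.idxC ξ.2 hξ
  have hθ₂ : IsIrrCharacter QK (θ'' ∘ L.ιQ.symm) := isIrrCharacter_comp_mulEquiv' L.ιQ.symm hθ''
  obtain ⟨D, hD⟩ := exists_cdata φK QK L.hQK L.pQ L.idx (θ'' ∘ L.ιQ.symm) hθ₂
    (L.inv_comp_ιQ_symm hθ''inv)
  refine ⟨D, θ'', hθ'', hθ''c, hD, ?_⟩
  rw [hD]
  have h1 : (θ'' ∘ L.ιQ.symm) ∘ L.ιQ = θ'' := by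
    funext q
    simp
  rw [h1]
  exact hθ''c

/-- **Injectivity.** -/
theorem main_I (χ₁ χ₂ : IrrCharacter K) (h₁ : Inv φK (χ₁ : K → ℂ)) (h₂ : Inv φK (χ₂ : K → ℂ))
    (ξ : IrrCharacter C) (hξ : Inv φC (ξ : C → ℂ)) (m₁ m₂ : ℕ)
    (hm₁ : classInner ((χ₁ : K → ℂ) ∘ ι) (ξ : C → ℂ) = (m₁ : ℂ)) (hp₁ : ¬ p ∣ m₁)
    (hm₂ : classInner ((χ₂ : K → ℂ) ∘ ι) (ξ : C → ℂ) = (m₂ : ℂ)) (hp₂ : ¬ p ∣ m₂) : χ₁ = χ₂ := by
  classical
  have hne : ∀ (χ : IrrCharacter K) (m : ℕ),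
      classInner ((χ : K → ℂ) ∘ ι) (ξ : C → ℂ) = (m : ℂ) → ¬ p ∣ m →
      classInner ((χ : K → ℂ) ∘ ι) (ξ : C → ℂ) ≠ 0 := by
    intro χ m hm hpm h0
    rw [hm] at h0
    have : m = 0 := by exact_mod_cast h0
    rw [this] at hpm
    exact hpm (dvd_zero p)
  obtain ⟨D, θ'', hθ'', hθ''c, hD, hξθ⟩ := L.exists_cdata_of_C ξ hξ
  have hc₁ : classInner (resFun QK (χ₁ : K → ℂ)) D.θ ≠ 0 := by
    rw [hD]
    exact L.over_of_constituent (IsIrrCharacter.isCharacter χ₁.2) ξ.2 (hne χ₁ m₁ hm₁ hp₁) hθ'' hθ''c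
  have hc₂ : classInner (resFun QK (χ₂ : K → ℂ)) D.θ ≠ 0 := by
    rw [hD]
    exact L.over_of_constituent (IsIrrCharacter.isCharacter χ₂.2) ξ.2 (hne χ₂ m₂ hm₂ hp₂) hθ'' hθ''c
  obtain ⟨β₁, hβ₁⟩ := D.Φ_surj χ₁.2 hc₁
  obtain ⟨β₂, hβ₂⟩ := D.Φ_surj χ₂.2 hc₂
  have hβ₁inv : Inv D.actQ (β₁ : D.T ⧸ D.N → ℂ) := (D.Φ_inv_iff β₁).mp (by rw [hβ₁]; exact h₁)
  have hβ₂inv : Inv D.actQ (β₂ : D.T ⧸ D.N → ℂ) := (D.Φ_inv_iff β₂).mp (by rw [hβ₂]; exact h₂)
  letI : Fintype ((L.pullback D).T ⧸ (L.pullback D).N) := Fintype.ofFinite _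
  obtain ⟨β', hβ'⟩ := (L.pullback D).Φ_surj ξ.2 hξθ
  have e₁ : classInner ((β₁ : D.T ⧸ D.N → ℂ) ∘ L.ιbar D)
      (β' : (L.pullback D).T ⧸ (L.pullback D).N → ℂ) = (m₁ : ℂ) := by
    rw [← L.link_inner D β₁ β', hβ₁, hβ']
    exact hm₁
  have e₂ : classInner ((β₂ : D.T ⧸ D.N → ℂ) ∘ L.ιbar D)
      (β' : (L.pullback D).T ⧸ (L.pullback D).N → ℂ) = (m₂ : ℂ) := by
    rw [← L.link_inner D β₂ β', hβ₂, hβ']
    exact hm₂
  have h12 := (L.agCorr_link D).2.1 β₁ β₂ hβ₁inv hβ₂inv β' m₁ m₂ e₁ hp₁ e₂ hp₂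
  apply Subtype.ext
  rw [← hβ₁, ← hβ₂, h12]

omit [Fintype ↥QK] in
/-- **Surjectivity.** -/
theorem main_S (ξ : IrrCharacter C) (hξ : Inv φC (ξ : C → ℂ)) :
    ∃ χ : IrrCharacter K, Inv φK (χ : K → ℂ) ∧ ∃ m : ℕ,
      classInner ((χ : K → ℂ) ∘ ι) (ξ : C → ℂ) = (m : ℂ) ∧ ¬ p ∣ m := by
  classical
  obtain ⟨D, θ'', hθ'', hθ''c, hD, hξθ⟩ := L.exists_cdata_of_C ξ hξ
  letI : Fintype ((L.pullback D).T ⧸ (L.pullback D).N) := Fintype.ofFinite _
  obtain ⟨β', hβ'⟩ := (L.pullback D).Φ_surj ξ.2 hξθ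
  obtain ⟨β, hβinv, m, hm, hpm⟩ := (L.agCorr_link D).2.2 β'
  refine ⟨⟨D.Φ β, D.Φ_irr β⟩, (D.Φ_inv_iff β).mpr hβinv, m, ?_, hpm⟩
  rw [← hβ']
  change classInner (D.Φ β ∘ ι) ((L.pullback D).Φ β') = (m : ℂ)
  rw [L.link_inner D β β']
  exact hm

end LinkData

end Cfsg.Agent.Lib.Helper25.GlN
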