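/-
helper25: the correspondence of `GlNi` for subgroups `P`, `K`, `Q`, `C` of a finite group, `P` acting on
`K` by conjugation.
-/
import Mathlib
import Cfsg.Agent.Lib.Helper25.GlNi

set_option autoImplicit false
set_option linter.style.haveILetI false

namespace Cfsg.Agent.Lib.Helper25.GlN

open Cfsg Cfsg.Agent.CharLib Cfsg.Agent.Lib.Helper6
open scoped ComplexConjugate

universe u

variable {G : Type u} [Group G]

/-- conjugation by the elements of a subgroup of the normaliser -/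
def conjHom (P K : Subgroup G) (hPK : P ≤ Subgroup.normalizer (K : Set G)) : P →* MulAut K where
  toFun x :=
    { toFun := fun k => ⟨(x : G) * k * (x : G)⁻¹,
        (Subgroup.mem_normalizer_iff.mp (hPK x.2) k).mp k.2⟩
      invFun := fun k => ⟨(x : G)⁻¹ * k * (x : G), by
        have h := (Subgroup.mem_normalizer_iff.mp (Subgroup.inv_mem _ (hPK x.2)) k).mp k.2
        rwa [inv_inv] at h⟩
      left_inv := fun k => Subtype.ext (by simp only; group)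
      right_inv := fun k => Subtype.ext (by simp only; group)
      map_mul' := fun a b => Subtype.ext (by simp only [Subgroup.coe_mul]; group) }
  map_one' := by
    ext k
    simp
  map_mul' x y := by
    ext k
    simp [MulAut.mul_apply, mul_assoc]

theorem conjHom_apply_coe (P K : Subgroup G) (hPK : P ≤ Subgroup.normalizer (K : Set G)) (x : P)
    (k : K) : ((conjHom P K hPK x k : K) : G) = (x : G) * k * (x : G)⁻¹ := rfl

/-- invariance under `conjHom` in the form used by the statements -/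
theorem inv_conjHom_iff (P K : Subgroup G) (hPK : P ≤ Subgroup.normalizer (K : Set G))
    (χ : K → ℂ) :
    Inv (conjHom P K hPK) χ ↔ ∀ x ∈ P, ∀ k k' : K, (k' : G) = x * (k : G) * x⁻¹ → χ k' = χ k := by
  constructor
  · intro h x hx k k' hk'
    have h1 := h ⟨x, hx⟩ k
    have h2 : conjHom P K hPK ⟨x, hx⟩ k = k' := Subtype.ext hk'.symm
    rw [h2] at h1
    exact h1
  · intro h x k
    exact h x x.2 k _ rfl

theorem normal_subgroupOf_of_conj {K Q : Subgroup G}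
    (hQn : ∀ k ∈ K, ∀ q ∈ Q, k * q * k⁻¹ ∈ Q) : (Q.subgroupOf K).Normal := by
  constructor
  intro n hn g
  rw [Subgroup.mem_subgroupOf] at hn ⊢
  exact hQn g g.2 n hn

section sylow

variable {p : ℕ} [hp : Fact p.Prime] {K Q : Subgroup G} (hQK : Q ≤ K)
  (hQn : ∀ k ∈ K, ∀ q ∈ Q, k * q * k⁻¹ ∈ Q) (hQp : ∃ a : ℕ, Nat.card Q = p ^ a)
  (hQsyl : ¬ p ∣ Q.relIndex K)
include hQK hQn hQp hQsyl

/-- a normal Sylow subgroup is normalised by the normaliser of the group -/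
theorem conj_mem_of_normal_sylow (x : G) (hx : x ∈ Subgroup.normalizer (K : Set G)) (q : G)
    (hq : q ∈ Q) : x * q * x⁻¹ ∈ Q := by
  haveI : (Q.subgroupOf K).Normal := normal_subgroupOf_of_conj hQn
  have hyK : x * q * x⁻¹ ∈ K := (Subgroup.mem_normalizer_iff.mp hx q).mp (hQK hq)
  obtain ⟨a, ha⟩ := hQp
  have h1 : orderOf (x * q * x⁻¹) ∣ p ^ a := by
    have h2 : orderOf (x * q * x⁻¹) = orderOf q := (MulAut.conj x).orderOf_eq q
    rw [h2, ← ha]
    have h3 : orderOf (⟨q, hq⟩ : Q) = orderOf q := Subgroup.orderOf_mk q hq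
    rw [← h3]
    exact orderOf_dvd_natCard _
  let y : K := ⟨x * q * x⁻¹, hyK⟩
  have h4 : orderOf (y : K ⧸ Q.subgroupOf K) ∣ p ^ a := by
    have h5 : orderOf y = orderOf (x * q * x⁻¹) := Subgroup.orderOf_mk _ hyK
    rw [← h5] at h1
    exact dvd_trans (orderOf_map_dvd (QuotientGroup.mk' (Q.subgroupOf K)) y) h1
  have h6 : orderOf (y : K ⧸ Q.subgroupOf K) ∣ Q.relIndex K := orderOf_dvd_natCard _
  have h7 : Nat.Coprime (p ^ a) (Q.relIndex K) :=
    Nat.Coprime.pow_left a ((Nat.Prime.coprime_iff_not_dvd hp.out).mpr hQsyl)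
  have h8 : orderOf (y : K ⧸ Q.subgroupOf K) = 1 := Nat.eq_one_of_dvd_coprimes h7 h4 h6
  have h9 : (y : K ⧸ Q.subgroupOf K) = 1 := orderOf_eq_one_iff.mp h8
  rw [QuotientGroup.eq_one_iff, Subgroup.mem_subgroupOf] at h9
  exact h9

end sylow

section concrete

variable {p : ℕ} [hp : Fact p.Prime] {P K Q C : Subgroup G}
  (hPK : P ≤ Subgroup.normalizer (K : Set G)) (hQK : Q ≤ K)
  (hQn : ∀ k ∈ K, ∀ q ∈ Q, k * q * k⁻¹ ∈ Q) (hQp : ∃ a : ℕ, Nat.card Q = p ^ a)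
  (hQsyl : ¬ p ∣ Q.relIndex K) (hCK : C ≤ K)
  (hC : ∀ k : G, k ∈ C ↔ (k ∈ K ∧ ∀ x ∈ P, x * k * x⁻¹ * k⁻¹ ∈ Q))
include hPK hQK hQn hQp hQsyl hCK hC

omit hCK in
/-- `C` is normalised by `P` -/
theorem le_normalizer_C : P ≤ Subgroup.normalizer (C : Set G) := by
  have hconj : ∀ x ∈ P, ∀ c ∈ C, x * c * x⁻¹ ∈ C := by
    intro x hx c hc
    rw [hC] at hc ⊢
    refine ⟨(Subgroup.mem_normalizer_iff.mp (hPK hx) c).mp hc.1, ?_⟩
    intro y hy
    have h1 : x⁻¹ * y * x ∈ P := P.mul_mem (P.mul_mem (P.inv_mem hx) hy) hx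
    have h2 := hc.2 _ h1
    have h3 := conj_mem_of_normal_sylow hQK hQn hQp hQsyl x (hPK hx) _ h2
    have h4 : x * (x⁻¹ * y * x * c * (x⁻¹ * y * x)⁻¹ * c⁻¹) * x⁻¹ =
        y * (x * c * x⁻¹) * y⁻¹ * (x * c * x⁻¹)⁻¹ := by group
    rw [h4] at h3
    exact h3
  intro x hx
  rw [Subgroup.mem_normalizer_iff]
  intro c
  constructor
  · exact hconj x hx c
  · intro h
    have h1 := hconj x⁻¹ (P.inv_mem hx) _ h
    have h2 : x⁻¹ * (x * c * x⁻¹) * x⁻¹⁻¹ = c := by group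
    rw [h2] at h1
    exact h1

/-- **The setting of `GlNi`** for subgroups of a finite group. -/
theorem linkData (hP : IsPGroup p P) :
    LinkData p (conjHom P K hPK)
      (conjHom P C (le_normalizer_C hPK hQK hQn hQp hQsyl hC))
      (Subgroup.inclusion hCK) (Q.subgroupOf K) (Q.subgroupOf C) where
  inj := Subgroup.inclusion_injective hCK
  equivar := fun a c => rfl
  hQC := fun c => Iff.rfl
  range := by
    intro k
    constructor
    · rintro ⟨c, rfl⟩ a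
      rw [Subgroup.mem_subgroupOf]
      have h1 := ((hC (c : G)).mp c.2).2 a a.2
      exact h1
    · intro h
      have hk : (k : G) ∈ C := by
        rw [hC]
        refine ⟨k.2, ?_⟩
        intro x hx
        have h1 := h ⟨x, hx⟩
        rw [Subgroup.mem_subgroupOf] at h1
        exact h1
      exact ⟨⟨k, hk⟩, rfl⟩
  hQK := by
    intro a q hq
    rw [Subgroup.mem_subgroupOf] at hq ⊢
    exact conj_mem_of_normal_sylow hQK hQn hQp hQsyl a (hPK a.2) _ hq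
  pA := hP
  pQ := by
    obtain ⟨a, ha⟩ := hQp
    have h1 : IsPGroup p Q := IsPGroup.of_card ha
    exact h1.of_equiv (Subgroup.subgroupOfEquivOfLe hQK).symm
  idx := hQsyl

end concrete

/-- a multiplicity congruent to `±1` is prime to `p` -/
theorem not_dvd_of_modEq_sign {p : ℕ} [hp : Fact p.Prime] (m : ℕ) (ε : ℤ) (hε : ε = 1 ∨ ε = -1)
    (h : (m : ℤ) ≡ ε [ZMOD p]) : ¬ p ∣ m := by
  intro hd
  have h1 : (p : ℤ) ∣ (m : ℤ) := Int.natCast_dvd_natCast.mpr hd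
  have h2 : (m : ℤ) ≡ 0 [ZMOD p] := Int.modEq_zero_iff_dvd.mpr h1
  have h3 : (p : ℤ) ∣ ε := Int.modEq_zero_iff_dvd.mp (h.symm.trans h2)
  have h4 : (p : ℤ) ∣ 1 := by
    rcases hε with rfl | rfl
    · exact h3
    · exact (dvd_neg).mp h3
  have h5 : p ∣ 1 := by exact_mod_cast h4
  exact hp.out.one_lt.ne' (Nat.dvd_one.mp h5)

/-- **The correspondence** (statement S4914, in one universe). -/
theorem concrete {G : Type u} [Group G] [Finite G] (p : ℕ) [Fact p.Prime] (P K Q C : Subgroup G) (hP : IsPGroup p ↥P) (hPK : P ≤ Subgroup.normalizer (K : Set G)) (hQK : Q ≤ K) (hQn : ∀ k ∈ K, ∀ q ∈ Q, k * q * k⁻¹ ∈ Q) (hQp : ∃ a : ℕ, Nat.card ↥Q = p ^ a) (hQsyl : ¬ p ∣ Q.relIndex K) (hCK : C ≤ K) (hC : ∀ k : G, k ∈ C ↔ (k ∈ K ∧ ∀ x ∈ P, x * k * x⁻¹ * k⁻¹ ∈ Q)) : ∃ f : {χ : Cfsg.IrrCharacter ↥K // (∀ x ∈ P, ∀ k k' : ↥K, (k' : G) = x * (k : G) * x⁻¹ → (χ : ↥K → ℂ) k' = (χ : ↥K → ℂ) k)} → {ξ : Cfsg.IrrCharacter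 ↥C // (∀ x ∈ P, ∀ k k' : ↥C, (k' : G) = x * (k : G) * x⁻¹ → (ξ : ↥C → ℂ) k' = (ξ : ↥C → ℂ) k)}, Function.Bijective f ∧ ∀ χ, (∀ ξ : {ξ : Cfsg.IrrCharacter ↥C // (∀ x ∈ P, ∀ k k' : ↥C, (k' : G) = x * (k : G) * x⁻¹ → (ξ : ↥C → ℂ) k' = (ξ : ↥C → ℂ) k)}, ∃ m : ℕ, (Nat.card ↥C : ℂ)⁻¹ * ∑ᶠ c : ↥C, (χ.1 : ↥K → ℂ) (Subgroup.inclusion hCK c) * (starRingEnd ℂ) ((ξ.1 : ↥C → ℂ) c) = (m : ℂ) ∧ (ξ = f χ → ((m : ZMod p) = 1 ∨ (m : ZMod p) = -1)) ∧ (ξ ≠ f χ → p ∣ m)) ∧ ((Cfsg.charDegree ((f χ).1 : ↥C → ℂ) : ZMod p) = (Cfsg.charDegree (χ.1 : ↥K → ℂ) : ZMod p) ∨ (Cfsg.charDegree ((f χ).1 : ↥C → ℂ) : ZMod p) = -(Cfsg.charDegree (χ.1 : ↥K → ℂ) : ZMod p)) := by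
  classical
  letI : Fintype K := Fintype.ofFinite _
  letI : Fintype C := Fintype.ofFinite _
  haveI : (Q.subgroupOf K).Normal := normal_subgroupOf_of_conj hQn
  have L := linkData hPK hQK hQn hQp hQsyl hCK hC hP
  haveI : (Q.subgroupOf C).Normal := L.normalQC
  letI : Fintype (Q.subgroupOf K) := Fintype.ofFinite _
  letI : Fintype (Q.subgroupOf C) := Fintype.ofFinite _
  have hPC := le_normalizer_C hPK hQK hQn hQp hQsyl hC
  have hinner : ∀ (χ : K → ℂ) (ξ : C → ℂ),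
      (Nat.card C : ℂ)⁻¹ * ∑ᶠ c : C, χ (Subgroup.inclusion hCK c) * (starRingEnd ℂ) (ξ c) =
        classInner (χ ∘ Subgroup.inclusion hCK) ξ := by
    intro χ ξ
    rw [finsum_eq_sum_of_fintype]
    rfl
  have hE := fun (χ : {χ : Cfsg.IrrCharacter ↥K // (∀ x ∈ P, ∀ k k' : ↥K,
      (k' : G) = x * (k : G) * x⁻¹ → (χ : ↥K → ℂ) k' = (χ : ↥K → ℂ) k)}) =>
    L.main_E χ.1 ((inv_conjHom_iff P K hPK _).mpr χ.2)
  choose F hFinv ε hε hFm hFdeg using hE
  refine ⟨fun χ => ⟨F χ, (inv_conjHom_iff P C hPC _).mp (hFinv χ)⟩, ⟨?_, ?_⟩, ?_⟩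
  · -- injectivity
    intro χ₁ χ₂ h12
    have h12' : F χ₁ = F χ₂ := congrArg Subtype.val h12
    obtain ⟨m₁, hm₁, hc₁⟩ := hFm χ₁ (F χ₁) (hFinv χ₁)
    obtain ⟨m₂, hm₂, hc₂⟩ := hFm χ₂ (F χ₁) (hFinv χ₁)
    rw [if_pos rfl] at hc₁
    rw [if_pos h12'] at hc₂
    apply Subtype.ext
    exact L.main_I χ₁.1 χ₂.1 ((inv_conjHom_iff P K hPK _).mpr χ₁.2)
      ((inv_conjHom_iff P K hPK _).mpr χ₂.2) (F χ₁) (hFinv χ₁) m₁ m₂ hm₁
      (not_dvd_of_modEq_sign m₁ _ (hε χ₁) hc₁) hm₂ (not_dvd_of_modEq_sign m₂ _ (hε χ₂) hc₂)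
  · -- surjectivity
    intro ξ
    obtain ⟨χ, hχinv, m, hm, hpm⟩ := L.main_S ξ.1 ((inv_conjHom_iff P C hPC _).mpr ξ.2)
    refine ⟨⟨χ, (inv_conjHom_iff P K hPK _).mp hχinv⟩, ?_⟩
    obtain ⟨m', hm', hc'⟩ := hFm ⟨χ, (inv_conjHom_iff P K hPK _).mp hχinv⟩ ξ.1
      ((inv_conjHom_iff P C hPC _).mpr ξ.2)
    have hmm : m' = m := by
      have := hm'.symm.trans hm
      exact_mod_cast this
    by_contra hne
    have hne' : ¬ ξ.1 = F ⟨χ, (inv_conjHom_iff P K hPK _).mp hχinv⟩ := by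
      intro h
      apply hne
      apply Subtype.ext
      exact h.symm
    rw [if_neg hne', hmm] at hc'
    apply hpm
    have h1 : (p : ℤ) ∣ (m : ℤ) := Int.modEq_zero_iff_dvd.mp hc'
    exact_mod_cast h1
  · intro χ
    refine ⟨?_, ?_⟩
    · intro ξ
      obtain ⟨m, hm, hc⟩ := hFm χ ξ.1 ((inv_conjHom_iff P C hPC _).mpr ξ.2)
      refine ⟨m, ?_, ?_, ?_⟩
      · rw [hinner]
        exact hm
      · intro hξ
        have h1 : ξ.1 = F χ := congrArg Subtype.val hξ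
        rw [if_pos h1] at hc
        have h2 : ((m : ℤ) : ZMod p) = ((ε χ : ℤ) : ZMod p) :=
          (ZMod.intCast_eq_intCast_iff _ _ _).mpr hc
        rw [Int.cast_natCast] at h2
        rcases hε χ with h3 | h3
        · left
          rw [h2, h3, Int.cast_one]
        · right
          rw [h2, h3, Int.cast_neg, Int.cast_one]
      · intro hξ
        have h1 : ¬ ξ.1 = F χ := by
          intro h
          apply hξ
          apply Subtype.ext
          exact h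
        rw [if_neg h1] at hc
        have h2 : (p : ℤ) ∣ (m : ℤ) := Int.modEq_zero_iff_dvd.mp hc
        exact_mod_cast h2
    · have h1 := hFdeg χ
      have h2 : ((charDegree (χ.1 : ↥K → ℂ) : ℤ) : ZMod p) =
          ((ε χ * (charDegree ((F χ : Cfsg.IrrCharacter ↥C) : ↥C → ℂ) : ℤ) : ℤ) : ZMod p) :=
        (ZMod.intCast_eq_intCast_iff _ _ _).mpr h1
      rw [Int.cast_natCast, Int.cast_mul, Int.cast_natCast] at h2
      rcases hε χ with h3 | h3
      · left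
        rw [h2, h3, Int.cast_one, one_mul]
      · right
        rw [h2, h3, Int.cast_neg, Int.cast_one, neg_mul, one_mul, neg_neg]

end Cfsg.Agent.Lib.Helper25.GlN
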