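/-
helper25: orbits of a group on real irreducible characters / real classes of a normal subgroup of
odd index (Brauer permutation lemma + Burnside orbit counting).
-/
import Mathlib
import Cfsg.Agent.Lib.Lead.CharFS
import Cfsg.Agent.Lib.Helper6.Clifford
import Cfsg.Agent.Lib.Helper19.Derangement

set_option autoImplicit false

namespace Cfsg.Agent.Lib.Helper25

open Cfsg Cfsg.Agent.CharLib Cfsg.Agent.Lib.Helper6
open scoped ComplexConjugate

universe u

section autfix
variable {K : Type u} [Group K]

theorem isConj_map_aut (c : MulAut K) {a b : K} (h : IsConj a b) : IsConj (c a) (c b) := by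
  obtain ⟨x, hx⟩ := isConj_iff.mp h
  exact isConj_iff.mpr ⟨c x, by rw [← hx]; simp⟩

theorem isConj_inv_inv {a b : K} (h : IsConj a b) : IsConj a⁻¹ b⁻¹ := by
  obtain ⟨x, hx⟩ := isConj_iff.mp h
  exact isConj_iff.mpr ⟨x, by rw [← hx]; group⟩

/-- A class is fixed by `k ↦ (c k)⁻¹` (with `c` of odd order modulo inner automorphisms) iff it is
fixed by `c` and real. -/
theorem class_fixed_iff (c : MulAut K) (m : ℕ) (hm : Odd m) (hc : ∀ k, IsConj ((c ^ m) k) k)
    (C : ConjClasses K) :
    (∀ k, ConjClasses.mk k = C → IsConj (c k)⁻¹ k) ↔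
      ((∀ k, ConjClasses.mk k = C → IsConj (c k) k) ∧
        (∀ k, ConjClasses.mk k = C → IsConj k k⁻¹)) := by
  constructor
  · intro H
    have hS : ∀ k, ConjClasses.mk k = C → ∀ k', IsConj k' k → ConjClasses.mk k' = C := by
      intro k hk k' hk'
      rw [← hk]; exact ConjClasses.mk_eq_mk_iff_isConj.mpr hk'
    have h2 : ∀ k, ConjClasses.mk k = C → IsConj (c (c k)) k := by
      intro k hk
      have h1 := H k hk
      have h1' := hS k hk _ h1
      have h3 := H _ h1'
      rw [map_inv, inv_inv] at h3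
      exact h3.trans h1
    have hj : ∀ j : ℕ, ∀ k, ConjClasses.mk k = C → IsConj ((c ^ (2 * j)) k) k := by
      intro j
      induction j with
      | zero => intro k _; simpa using IsConj.refl k
      | succ j ih =>
        intro k hk
        have e : (c ^ (2 * (j + 1))) k = (c ^ (2 * j)) (c (c k)) := by
          rw [show 2 * (j + 1) = 2 * j + 2 by ring, pow_add, pow_two]; rfl
        rw [e]
        exact (ih _ (hS k hk _ (h2 k hk))).trans (h2 k hk)
    obtain ⟨j, rfl⟩ := hm
    have hck : ∀ k, ConjClasses.mk k = C → IsConj (c k) k := by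
      intro k hk
      have e : (c ^ (2 * j + 1)) k = c ((c ^ (2 * j)) k) := by
        rw [pow_succ']; rfl
      have h3 := hc k
      rw [e] at h3
      have h4 := isConj_map_aut c (hj j k hk)
      exact h4.symm.trans h3
    refine ⟨hck, ?_⟩
    intro k hk
    have h1 := H k hk
    have h5 := isConj_inv_inv (hck k hk)
    exact h1.symm.trans h5
  · rintro ⟨h1, h2⟩ k hk
    exact (isConj_inv_inv (h1 k hk)).trans (h2 k hk).symm

/-- An irreducible character is fixed by `k ↦ (c k)⁻¹` (with `c` of odd order modulo inner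
automorphisms) iff it is fixed by `c` and real. -/
theorem irr_fixed_iff [Finite K] (c : MulAut K) (m : ℕ) (hm : Odd m)
    (hc : ∀ k, IsConj ((c ^ m) k) k) {θ : K → ℂ} (hθ : IsIrrCharacter K θ) :
    (θ ∘ (fun k => (c k)⁻¹) = θ) ↔ (θ ∘ c = θ ∧ ∀ k, (θ k).im = 0) := by
  have hcf : ∀ a b, IsConj a b → θ a = θ b := fun a b h =>
    IsClassFunction.of_isConj (IsCharacter.isClassFunction (IsIrrCharacter.isCharacter hθ)) h
  have hinv : ∀ k, θ k⁻¹ = conj (θ k) := IsCharacter.apply_inv (IsIrrCharacter.isCharacter hθ)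
  constructor
  · intro H
    have H' : ∀ k, θ (c k)⁻¹ = θ k := fun k => congrFun H k
    have h2 : ∀ k, θ (c (c k)) = θ k := by
      intro k
      have h := H' ((c k)⁻¹)
      rw [map_inv, inv_inv] at h
      rw [h, H']
    have hj : ∀ j : ℕ, ∀ k, θ ((c ^ (2 * j)) k) = θ k := by
      intro j
      induction j with
      | zero => intro k; simp
      | succ j ih =>
        intro k
        have e : (c ^ (2 * (j + 1))) k = (c ^ (2 * j)) (c (c k)) := by
          rw [show 2 * (j + 1) = 2 * j + 2 by ring, pow_add, pow_two]; rfl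
        rw [e, ih, h2]
    obtain ⟨j, rfl⟩ := hm
    have hck : ∀ k, θ (c k) = θ k := by
      intro k
      have e : (c ^ (2 * j + 1)) k = (c ^ (2 * j)) (c k) := by rw [pow_succ]; rfl
      have h := hcf _ _ (hc k)
      rw [e, hj] at h
      exact h
    refine ⟨funext hck, ?_⟩
    intro k
    have h3 := H' k
    rw [← map_inv, hck, hinv] at h3
    exact Complex.conj_eq_iff_im.mp h3
  · rintro ⟨h1, h2⟩
    funext k
    show θ (c k)⁻¹ = θ k
    rw [hinv]
    have := congrFun h1 k
    simp only [Function.comp_apply] at this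
    rw [this]
    exact Complex.conj_eq_iff_im.mpr (h2 k)

/-- Brauer's permutation lemma for real characters/classes and an automorphism of odd order modulo
inner automorphisms. -/
theorem card_real_fixed [Finite K] (c : MulAut K) (m : ℕ) (hm : Odd m)
    (hc : ∀ k, IsConj ((c ^ m) k) k) :
    Nat.card {C : ConjClasses K // (∀ k, ConjClasses.mk k = C → IsConj (c k) k) ∧
        (∀ k, ConjClasses.mk k = C → IsConj k k⁻¹)} =
      Nat.card {θ : IrrCharacter K // (θ : K → ℂ) ∘ c = (θ : K → ℂ) ∧
        ∀ k, ((θ : K → ℂ) k).im = 0} := by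
  have hf1 : ∀ χ : K → ℂ, IsIrrCharacter K χ → IsIrrCharacter K (χ ∘ (fun k => (c k)⁻¹)) := by
    intro χ hχ
    have h1 : IsIrrCharacter K (χ ∘ c) := IsIrrCharacter.comp_mulEquiv hχ c
    have h2 := IsIrrCharacter.conj' h1
    have e : (χ ∘ fun k => (c k)⁻¹) = fun g => conj ((χ ∘ c) g) := by
      funext k
      exact IsCharacter.apply_inv (IsIrrCharacter.isCharacter hχ) (c k)
    rw [e]; exact h2
  have hf2 : ∀ g h : K, IsConj g h → IsConj ((fun k => (c k)⁻¹) g) ((fun k => (c k)⁻¹) h) :=
    fun g h hgh => isConj_inv_inv (isConj_map_aut c hgh)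
  have key := card_fixed_classes_eq_card_fixed_irr' (G := K) (fun k => (c k)⁻¹) hf1 hf2
  have e1 : Nat.card {C : ConjClasses K // (∀ k, ConjClasses.mk k = C → IsConj (c k) k) ∧
        (∀ k, ConjClasses.mk k = C → IsConj k k⁻¹)} =
      Nat.card {C : ConjClasses K // ∀ g : K, ConjClasses.mk g = C →
        IsConj ((fun k => (c k)⁻¹) g) g} :=
    Nat.card_congr (Equiv.subtypeEquivRight fun C => (class_fixed_iff c m hm hc C).symm)
  have e2 : Nat.card {θ : IrrCharacter K // (θ : K → ℂ) ∘ c = (θ : K → ℂ) ∧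
        ∀ k, ((θ : K → ℂ) k).im = 0} =
      Nat.card {χ : IrrCharacter K // (χ : K → ℂ) ∘ (fun k => (c k)⁻¹) = (χ : K → ℂ)} :=
    Nat.card_congr (Equiv.subtypeEquivRight fun θ => (irr_fixed_iff c m hm hc θ.2).symm)
  rw [e1, e2, key]

end autfix


section orbits
variable {G : Type u} [Group G]

/-- The number of classes of a relation that is the pull-back of an orbit relation along a
surjection equals the number of orbits. -/
theorem card_quot_eq_card_orbits {A B : Type*} [MulAction G B] (R : A → A → Prop) (π : A → B)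
    (hπ : Function.Surjective π) (hR : ∀ a a', R a a' ↔ ∃ g : G, π a' = g • π a) :
    Nat.card (Quot R) = Nat.card (MulAction.orbitRel.Quotient G B) := by
  let Φ : Quot R → MulAction.orbitRel.Quotient G B :=
    Quot.lift (fun a => (Quotient.mk'' (π a) : MulAction.orbitRel.Quotient G B)) (by
      intro a a' h
      obtain ⟨g, hg⟩ := (hR a a').mp h
      apply Quotient.sound'
      show π a ∈ MulAction.orbit G (π a')
      refine ⟨g⁻¹, ?_⟩
      simp [hg])
  apply Nat.card_congr
  refine Equiv.ofBijective Φ ⟨?_, ?_⟩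
  · intro x y
    induction x using Quot.ind with
    | _ a =>
      induction y using Quot.ind with
      | _ a' =>
        intro h
        have h' : π a ∈ MulAction.orbit G (π a') := Quotient.exact' h
        obtain ⟨g, hg⟩ := h'
        exact Quot.sound ((hR a a').mpr ⟨g⁻¹, by rw [← hg]; simp⟩)
  · intro y
    induction y using Quotient.inductionOn' with
    | _ b =>
      obtain ⟨a, rfl⟩ := hπ b
      exact ⟨Quot.mk _ a, rfl⟩

variable (K : Subgroup G) [hK : K.Normal]

theorem conjFun_eq_comp (g : G) (θ : K → ℂ) :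
    conjFun K g θ = θ ∘ (MulAut.conjNormal g : MulAut K) := by
  funext k
  rw [conjFun_apply]
  simp only [Function.comp_apply]
  congr 1

/-- action of `G` on the real irreducible characters of the normal subgroup `K`. -/
@[reducible] noncomputable def realIrrAction :
    MulAction G {θ : IrrCharacter K // ∀ k : K, ((θ : K → ℂ) k).im = 0} where
  smul g θ := ⟨⟨conjFun K g⁻¹ θ.1.1, isIrrCharacter_conjFun K θ.1.2 g⁻¹⟩, fun k => θ.2 _⟩
  one_smul θ := by
    apply Subtype.ext; apply Subtype.ext
    show conjFun K (1 : G)⁻¹ θ.1.1 = θ.1.1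
    rw [inv_one, conjFun_one]
  mul_smul a b θ := by
    apply Subtype.ext; apply Subtype.ext
    show conjFun K (a * b)⁻¹ θ.1.1 = conjFun K a⁻¹ (conjFun K b⁻¹ θ.1.1)
    rw [mul_inv_rev, conjFun_mul]

theorem real_of_mk_eq {k0 : K} (h0 : IsConj k0 k0⁻¹) {k : K}
    (hk : ConjClasses.mk k = ConjClasses.mk k0) : IsConj k k⁻¹ := by
  have h1 : IsConj k k0 := ConjClasses.mk_eq_mk_iff_isConj.mp hk
  exact (h1.trans h0).trans (isConj_inv_inv h1).symm

/-- action of `G` on the real classes of the normal subgroup `K`. -/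
@[reducible] noncomputable def realClsAction :
    MulAction G {C : ConjClasses K // ∀ k : K, ConjClasses.mk k = C → IsConj k k⁻¹} where
  smul g C := ⟨ConjClasses.map (MulAut.conjNormal g : K ≃* K).toMonoidHom C.1, by
    obtain ⟨C, hC⟩ := C
    obtain ⟨k0, rfl⟩ := ConjClasses.exists_rep C
    intro k hk
    have h0 : IsConj k0 k0⁻¹ := hC k0 rfl
    have h1 : IsConj ((MulAut.conjNormal g : MulAut K) k0)
        ((MulAut.conjNormal g : MulAut K) k0)⁻¹ := by
      have := isConj_map_aut (MulAut.conjNormal g : MulAut K) h0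
      rwa [map_inv] at this
    exact real_of_mk_eq K h1 hk⟩
  one_smul C := by
    apply Subtype.ext
    obtain ⟨C, hC⟩ := C
    obtain ⟨k0, rfl⟩ := ConjClasses.exists_rep C
    show ConjClasses.mk ((MulAut.conjNormal (1 : G) : MulAut K) k0) = ConjClasses.mk k0
    rw [map_one]; rfl
  mul_smul a b C := by
    apply Subtype.ext
    obtain ⟨C, hC⟩ := C
    obtain ⟨k0, rfl⟩ := ConjClasses.exists_rep C
    show ConjClasses.mk ((MulAut.conjNormal (a * b) : MulAut K) k0) =
      ConjClasses.mk ((MulAut.conjNormal a : MulAut K) ((MulAut.conjNormal b : MulAut K) k0))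
    rw [map_mul]; rfl

end orbits

end Cfsg.Agent.Lib.Helper25
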