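/-
helper25 (S4861 market, leaf R1, planner helper12): `exists_real_over_of_inverted`.
Assembly of the core (`RealPR1Core.real_over_core`) with the sub-leaves
(A) `exists_two_sylow_normalized` (helper13), (B) `exists_extension_sup` (helper11),
(C) `indFun_real_of_conj` (helper20).
-/
import Mathlib
import Cfsg.Prelude.Def_Blocks
import Cfsg.Agent.Lib.Helper6.Clifford
import Cfsg.Agent.Lib.Helper6.LinChar
import Cfsg.Agent.Lib.Helper12.RealPDefs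
import Cfsg.Agent.Lib.Helper25.RealPExt
import Cfsg.Agent.Lib.Helper25.RealPR1Core
import Cfsg.Agent.Lib.Helper11.RealPR1B
import Cfsg.Agent.Lib.Helper20.RealPR1C
import Cfsg.Agent.Lib.Helper13.RealPR1A

set_option autoImplicit false

namespace Cfsg.Agent.Lib.Helper25.RealP

open Cfsg Cfsg.Agent.Lib.Helper6
open scoped ComplexConjugate

universe u

variable {G : Type u} [Group G] [Finite G]

/-- R1 with the sub-leaf (A) as a hypothesis. -/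
theorem exists_real_over_of_inverted_of_A (V : Subgroup G) [hV : V.Normal] [Fintype V]
    (hVodd : Odd (Nat.card V)) (lam : V →* ℂˣ) (t : G) (ht : ∃ k : ℕ, orderOf t = 2 ^ k)
    (hinv : ∀ v : V, lam ⟨t * v * t⁻¹, hV.conj_mem v v.2 t⟩ = (lam v)⁻¹)
    (hA : ∀ (T : Subgroup G) (t : G), (∀ x ∈ T, t * x * t⁻¹ ∈ T) →
      (∃ k : ℕ, orderOf t = 2 ^ k) →
      ∃ S₀ : Subgroup G, S₀ ≤ T ∧ IsPGroup 2 ↥S₀ ∧ (∀ s ∈ S₀, t * s * t⁻¹ ∈ S₀) ∧
        (∀ s ∈ S₀, t⁻¹ * s * t ∈ S₀) ∧ ¬ 2 ∣ Nat.card ↥T / Nat.card ↥S₀) :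
    ∃ χ : IrrCharacter G, (∀ g : G, ((χ : G → ℂ) g).im = 0) ∧
      classInner (resFun V (χ : G → ℂ)) (fun v => ((lam v : ℂˣ) : ℂ)) ≠ 0 := by
  classical
  let _ := Fintype.ofFinite G
  -- `t` normalises the stabiliser of `lam`
  have htT : ∀ x ∈ stabFun V (homFun V lam), t * x * t⁻¹ ∈ stabFun V (homFun V lam) := by
    intro x hx
    rw [mem_stab_homFun] at hx ⊢
    intro v
    -- w := t⁻¹ v t
    have hw : t⁻¹ * (v : G) * t ∈ V := by
      have := hV.conj_mem v v.2 t⁻¹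
      rwa [inv_inv] at this
    have h1 := hinv ⟨t⁻¹ * (v : G) * t, hw⟩
    have h2 := hx ⟨t⁻¹ * (v : G) * t, hw⟩
    have hxw : x * (t⁻¹ * (v : G) * t) * x⁻¹ ∈ V := hV.conj_mem _ hw x
    have h3 := hinv ⟨x * (t⁻¹ * (v : G) * t) * x⁻¹, hxw⟩
    have e1 : (⟨t * ((⟨t⁻¹ * (v : G) * t, hw⟩ : V) : G) * t⁻¹,
        hV.conj_mem _ (⟨t⁻¹ * (v : G) * t, hw⟩ : V).2 t⟩ : V) = v := by
      apply Subtype.ext
      show t * (t⁻¹ * (v : G) * t) * t⁻¹ = v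
      group
    have e3 : (⟨t * ((⟨x * (t⁻¹ * (v : G) * t) * x⁻¹, hxw⟩ : V) : G) * t⁻¹,
        hV.conj_mem _ (⟨x * (t⁻¹ * (v : G) * t) * x⁻¹, hxw⟩ : V).2 t⟩ : V) =
        ⟨t * x * t⁻¹ * (v : G) * (t * x * t⁻¹)⁻¹, hV.conj_mem v v.2 (t * x * t⁻¹)⟩ := by
      apply Subtype.ext
      show t * (x * (t⁻¹ * (v : G) * t) * x⁻¹) * t⁻¹ = t * x * t⁻¹ * (v : G) * (t * x * t⁻¹)⁻¹
      group
    rw [e1] at h1
    rw [e3] at h3
    rw [h3, h2, ← h1]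
  obtain ⟨S₀, hST, hS2, htS, htS', hodd⟩ := hA (stabFun V (homFun V lam)) t htT ht
  have hfix : ∀ s ∈ S₀, ∀ v : V, lam ⟨s * v * s⁻¹, hV.conj_mem v v.2 s⟩ = lam v := by
    intro s hs
    exact (mem_stab_homFun V lam s).mp (hST hs)
  obtain ⟨lam₀, hlamV, hlamS⟩ :=
    Cfsg.Agent.Lib.Helper11.RealP.exists_extension_sup V hVodd S₀ hS2 lam hfix
  exact real_over_core V lam t hinv S₀ hST htS htS' hodd lam₀ hlamV hlamS
    (fun W ψ t htW htW' hψ => Cfsg.Agent.Lib.Helper20.RealP.indFun_real_of_conj W ψ t htW htW' hψ)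

/-- **S4861 leaf R1** (frozen signature of `notes/S4861_leaves.lean`). -/
theorem exists_real_over_of_inverted (V : Subgroup G) [hV : V.Normal] [Fintype V]
    (hVodd : Odd (Nat.card V)) (lam : V →* ℂˣ) (t : G) (ht : ∃ k : ℕ, orderOf t = 2 ^ k)
    (hinv : ∀ v : V, lam ⟨t * v * t⁻¹, hV.conj_mem v v.2 t⟩ = (lam v)⁻¹) :
    ∃ χ : IrrCharacter G, (∀ g : G, ((χ : G → ℂ) g).im = 0) ∧
      classInner (resFun V (χ : G → ℂ)) (fun v => ((lam v : ℂˣ) : ℂ)) ≠ 0 :=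
  exists_real_over_of_inverted_of_A V hVodd lam t ht hinv
    (fun T t htT ht => Cfsg.Agent.Lib.Helper13.RealP.exists_two_sylow_normalized T t htT ht)

end Cfsg.Agent.Lib.Helper25.RealP
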