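import Cfsg.Agent.Lib.Helper18.SPDec
import Cfsg.Agent.Lib.Helper18.SPHom

/-! S3713 leaf PAIR (helper25): Witt's lemma for an orthogonal independent pair inside `VJ J`. -/

set_option autoImplicit false

namespace Cfsg.Agent.Lib.Helper25.SPPAIR

open Matrix Cfsg.Agent.Lib.Helper18.SP Cfsg.Agent.Lib.Helper5 Cfsg.Agent.Lib.Helper14.SpPerfect

variable {F : Type*} [Field F] {n : ℕ}

/-- a vector `v'` with `ω u' v' = 1`, `ω u v' = 0` for independent `u, u'` -/
theorem exists_dual {J : Set (Fin n)} {u u' : V n F} (hu : u ∈ VJ n F J) (hu' : u' ∈ VJ n F J) (hu'0 : u' ≠ 0)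
    (hind : ∀ α : F, u ≠ α • u') :
    ∃ v' ∈ VJ n F J, ω n F u' v' = 1 ∧ ω n F u v' = 0 := by
  obtain ⟨a, ha, hγ⟩ := VJ_nondeg J u' hu' hu'0
  set γ := ω n F u' a with hγdef
  set c := ω n F u a / γ with hc
  set u₁ : V n F := u - c • u' with hu₁
  have hu₁V : u₁ ∈ VJ n F J := (VJ n F J).sub_mem hu ((VJ n F J).smul_mem c hu')
  have hu₁0 : u₁ ≠ 0 := by
    intro h0
    apply hind c
    rw [hu₁, sub_eq_zero] at h0
    exact h0
  obtain ⟨b, hb, hδ⟩ := VJ_nondeg J u₁ hu₁V hu₁0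
  set δ := ω n F u₁ b with hδdef
  have hδ' : δ = ω n F u b - c * ω n F u' b := by
    rw [hδdef, hu₁, ω_sub_left, ω_smul_left]
  set y : F := -c / δ with hy
  set x : F := (1 - ω n F u' b * y) / γ with hx
  refine ⟨x • a + y • b, (VJ n F J).add_mem ((VJ n F J).smul_mem x ha) ((VJ n F J).smul_mem y hb), ?_, ?_⟩
  · rw [ω_add_right, ω_smul_right, ω_smul_right, ← hγdef, hx]
    field_simp
    ring
  · rw [ω_add_right, ω_smul_right, ω_smul_right]
    have hua : ω n F u a = c * γ := by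
      rw [hc]
      field_simp
    have hub : ω n F u b = δ + c * ω n F u' b := by rw [hδ']; ring
    rw [hua, hub, hx, hy]
    field_simp
    ring

/-- **PAIR** (Witt for an orthogonal independent pair). -/
theorem pair_orth {J : Set (Fin n)} {p r : Fin n} (hp : p ∈ J) (hr : r ∈ J) (hpr : p ≠ r) {u u' : V n F}
    (hu : u ∈ VJ n F J) (hu' : u' ∈ VJ n F J) (h : ω n F u u' = 0) (hu'0 : u' ≠ 0) (hind : ∀ α : F, u ≠ α • u') :
    ∃ m ∈ GJ n F J, act m u' = eV n F p ∧ act m u = eV n F r := by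
  obtain ⟨v', hv', h1, h2⟩ := exists_dual hu hu' hu'0 hind
  have hep : eV n F p ∈ VJ n F J := eV_mem_VJ hp
  have hfp : -fV n F p ∈ VJ n F J := (VJ n F J).neg_mem (fV_mem_VJ hp)
  obtain ⟨m₁, hm₁, hm₁u', hm₁v'⟩ := GJ_trans_pair J hu' hv' hep hfp h1
    (by rw [ω_neg_right, ω_eV_fV, if_pos rfl, neg_neg])
  -- `m₁ u` has no coordinates at `p`
  have hw : act m₁ u ∈ VJ n F (J \ {p}) := by
    have hwJ : act m₁ u ∈ VJ n F J := act_mem_VJ hm₁ hu
    intro k hk
    by_cases hkp : k = p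
    · subst hkp
      constructor
      · have e : ω n F (act m₁ u) (act m₁ v') = 0 := by rw [ω_act, h2]
        rw [hm₁v', ω_neg_right, ω_fV_right, neg_neg] at e
        exact e
      · have e : ω n F (act m₁ u) (act m₁ u') = 0 := by rw [ω_act, h]
        rw [hm₁u', ω_eV_right] at e
        exact e
    · apply hwJ k
      intro hkJ
      exact hk ⟨hkJ, hkp⟩
  have hw0 : act m₁ u ≠ 0 := by
    intro h0
    rw [act_eq_zero_iff] at h0
    apply hind 0
    rw [h0, zero_smul]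
  have hrJ : r ∈ J \ {p} := ⟨hr, fun h => hpr h.symm⟩
  obtain ⟨m₂, hm₂, hm₂w⟩ := GJ_trans (J \ {p}) hw (eV_mem_VJ hrJ) hw0 (eV_ne_zero r)
  have hpn : p ∉ J \ {p} := fun h => h.2 rfl
  refine ⟨m₂ * m₁, mul_mem (GJ_mono Set.sdiff_subset hm₂) hm₁, ?_, ?_⟩
  · rw [act_mul, hm₁u', (hm₂ p hpn).1]
  · rw [act_mul, hm₂w]

end Cfsg.Agent.Lib.Helper25.SPPAIR
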