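import Mathlib
import Cfsg.Agent.Lib.Helper15.AschFormMat
import Cfsg.Agent.Lib.Helper18.AschA89Defs

/-!
GENERIC FORM BLOCKS (sub-planner helper15), packet [TNS] (helper25): `fix_gramIn`, `adjoin_factor_eq_top`, `kron_of_invariant`,
`isUnit_det_factor`.  Exact signatures of `notes/AschForm_leaves.lean`.
-/

set_option autoImplicit false
set_option linter.unusedSectionVars false
set_option linter.unusedVariables false

namespace Cfsg.Agent.Lib.Helper25.AFLeaf
open Matrix Cfsg.Geo Cfsg.Agent.Lib.Helper20.Asch Cfsg.Agent.Lib.Helper7.AschLeaf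
open Cfsg.Agent.Lib.Helper15.AschForm Cfsg.Agent.Lib.Helper18.AschA89
open scoped Kronecker

variable {F : Type*} [Field F] [Fintype F] {n : ℕ}

/-! ### reindexing -/

section reidx
variable {κ : Type} [Fintype κ] [DecidableEq κ] (e : Fin n ≃ κ)

theorem af_reidx_mul (A B : Matrix (Fin n) (Fin n) F) :
    Matrix.reindex e e (A * B) = Matrix.reindex e e A * Matrix.reindex e e B := by
  simp only [Matrix.reindex_apply]
  rw [Matrix.submatrix_mul_equiv]

theorem af_reidx_reidx_symm (M : Matrix κ κ F) : Matrix.reindex e e (Matrix.reindex e.symm e.symm M) = M := by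
  ext i j
  simp [Matrix.reindex_apply]

theorem af_reidx_symm_transpose (A : Matrix κ κ F) :
    Matrix.reindex e.symm e.symm Aᵀ = (Matrix.reindex e.symm e.symm A)ᵀ := by
  rw [Matrix.transpose_reindex]

theorem af_reidx_symm_map (σ : F →+* F) (A : Matrix κ κ F) :
    Matrix.reindex e.symm e.symm (A.map σ) = (Matrix.reindex e.symm e.symm A).map σ := by
  ext i j
  simp [Matrix.reindex_apply]

end reidx

/-- (TNS1) change of basis -/
theorem fix_gramIn {κ : Type} [Fintype κ] [DecidableEq κ] (σ : F →+* F) (J : Matrix (Fin n) (Fin n) F)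
    (e : Fin n ≃ κ) (P : GL (Fin n) F) (M : Matrix κ κ F) (x : Matrix (Fin n) (Fin n) F) (hx : x = conjR e P M)
    (hfix : xᵀ * J * x.map σ = J) : Mᵀ * gramIn σ J e P * M.map σ = gramIn σ J e P := by
  have hPP : ((P⁻¹ : GL (Fin n) F) : Matrix (Fin n) (Fin n) F) * (P : Matrix (Fin n) (Fin n) F) = 1 := by
    rw [← Units.val_mul, inv_mul_cancel, Units.val_one]
  have hPT : (P : Matrix (Fin n) (Fin n) F)ᵀ * ((P⁻¹ : GL (Fin n) F) : Matrix (Fin n) (Fin n) F)ᵀ = 1 := by
    rw [← Matrix.transpose_mul, hPP, Matrix.transpose_one]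
  have hPσ : ((P⁻¹ : GL (Fin n) F) : Matrix (Fin n) (Fin n) F).map σ * (P : Matrix (Fin n) (Fin n) F).map σ = 1 := by
    rw [← Matrix.map_mul, hPP, Matrix.map_one _ (map_zero σ) (map_one σ)]
  obtain ⟨RM, hRM⟩ : ∃ RM : Matrix (Fin n) (Fin n) F, RM = Matrix.reindex e.symm e.symm M := ⟨_, rfl⟩
  have hx' : x = (P : Matrix (Fin n) (Fin n) F) * RM * ((P⁻¹ : GL (Fin n) F) : Matrix (Fin n) (Fin n) F) := by
    rw [hx, hRM]; rfl
  rw [hx', Matrix.transpose_mul, Matrix.transpose_mul, Matrix.map_mul, Matrix.map_mul] at hfix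
  have e1 : RMᵀ * ((P : Matrix (Fin n) (Fin n) F)ᵀ * J * (P : Matrix (Fin n) (Fin n) F).map σ) * RM.map σ =
      (P : Matrix (Fin n) (Fin n) F)ᵀ * J * (P : Matrix (Fin n) (Fin n) F).map σ := by
    calc RMᵀ * ((P : Matrix (Fin n) (Fin n) F)ᵀ * J * (P : Matrix (Fin n) (Fin n) F).map σ) * RM.map σ
        = ((P : Matrix (Fin n) (Fin n) F)ᵀ * ((P⁻¹ : GL (Fin n) F) : Matrix (Fin n) (Fin n) F)ᵀ) * RMᵀ *
            ((P : Matrix (Fin n) (Fin n) F)ᵀ * J * (P : Matrix (Fin n) (Fin n) F).map σ) * RM.map σ *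
            (((P⁻¹ : GL (Fin n) F) : Matrix (Fin n) (Fin n) F).map σ * (P : Matrix (Fin n) (Fin n) F).map σ) := by
          rw [hPT, hPσ, Matrix.one_mul, Matrix.mul_one]
      _ = (P : Matrix (Fin n) (Fin n) F)ᵀ * (((P⁻¹ : GL (Fin n) F) : Matrix (Fin n) (Fin n) F)ᵀ * (RMᵀ *
            (P : Matrix (Fin n) (Fin n) F)ᵀ) * J * ((P : Matrix (Fin n) (Fin n) F).map σ * RM.map σ *
            ((P⁻¹ : GL (Fin n) F) : Matrix (Fin n) (Fin n) F).map σ)) * (P : Matrix (Fin n) (Fin n) F).map σ := by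
          simp only [Matrix.mul_assoc]
      _ = _ := by rw [hfix]
  have e2 := congrArg (Matrix.reindex e e) e1
  rw [af_reidx_mul, af_reidx_mul, hRM, ← af_reidx_symm_transpose, ← af_reidx_symm_map, af_reidx_reidx_symm,
    af_reidx_reidx_symm] at e2
  exact e2

theorem af_kron_one_inj {s k : ℕ} (hk : 0 < k) {A B : Matrix (Fin s) (Fin s) F}
    (h : A ⊗ₖ (1 : Matrix (Fin k) (Fin k) F) = B ⊗ₖ (1 : Matrix (Fin k) (Fin k) F)) : A = B := by
  ext i j
  have := congrFun (congrFun h (i, ⟨0, hk⟩)) (j, ⟨0, hk⟩)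
  simpa [Matrix.kroneckerMap_apply] using this

/-- (TNS2) the first tensor factors of the elements of `N` generate `M_s(F)` -/
theorem adjoin_factor_eq_top {N : Subgroup (GL (Fin n) F)} {s k : ℕ} (e : Fin n ≃ Fin s × Fin k) (P : GL (Fin n) F)
    (h1 : ∀ A : Matrix (Fin s) (Fin s) F, conjR e P (A ⊗ₖ (1 : Matrix (Fin k) (Fin k) F)) ∈ Env N)
    (h2 : ∀ T ∈ Env N, ∃ A : Matrix (Fin s) (Fin s) F, T = conjR e P (A ⊗ₖ (1 : Matrix (Fin k) (Fin k) F))) :
    Algebra.adjoin F {R : Matrix (Fin s) (Fin s) F |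
      conjR e P (R ⊗ₖ (1 : Matrix (Fin k) (Fin k) F)) ∈ matrixSet N} = ⊤ := by
  rcases Nat.eq_zero_or_pos k with hk0 | hk
  · -- degenerate case: `n = 0`
    subst hk0
    have hempty : IsEmpty (Fin n) := by
      refine ⟨fun i => ?_⟩
      exact (e i).2.elim0
    have hall : ∀ R : Matrix (Fin s) (Fin s) F, R ∈ {R : Matrix (Fin s) (Fin s) F |
        conjR e P (R ⊗ₖ (1 : Matrix (Fin 0) (Fin 0) F)) ∈ matrixSet N} := by
      intro R
      refine ⟨1, N.one_mem, ?_⟩
      ext i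
      exact hempty.elim i
    rw [eq_top_iff]
    intro R _
    exact Algebra.subset_adjoin (hall R)
  · set 𝒳 : Set (Matrix (Fin s) (Fin s) F) := {R : Matrix (Fin s) (Fin s) F |
      conjR e P (R ⊗ₖ (1 : Matrix (Fin k) (Fin k) F)) ∈ matrixSet N} with h𝒳
    have key : ∀ T ∈ Env N, ∃ A ∈ Algebra.adjoin F 𝒳, T = conjR e P (A ⊗ₖ (1 : Matrix (Fin k) (Fin k) F)) := by
      intro T hT
      unfold Env at hT
      induction hT using Algebra.adjoin_induction with
      | mem x hx =>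
        obtain ⟨A, hA⟩ := h2 x (Algebra.subset_adjoin hx)
        refine ⟨A, Algebra.subset_adjoin ?_, hA⟩
        show conjR e P (A ⊗ₖ (1 : Matrix (Fin k) (Fin k) F)) ∈ matrixSet N
        rw [← hA]
        exact hx
      | algebraMap r =>
        refine ⟨algebraMap F _ r, Subalgebra.algebraMap_mem _ r, ?_⟩
        rw [Algebra.algebraMap_eq_smul_one, Algebra.algebraMap_eq_smul_one, Matrix.smul_kronecker,
          Matrix.one_kronecker_one, conjR_smul, conjR_one]
      | add x y hx hy ihx ihy =>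
        obtain ⟨A, hA, rfl⟩ := ihx
        obtain ⟨B, hB, rfl⟩ := ihy
        refine ⟨A + B, add_mem hA hB, ?_⟩
        rw [Matrix.add_kronecker, conjR_add]
      | mul x y hx hy ihx ihy =>
        obtain ⟨A, hA, rfl⟩ := ihx
        obtain ⟨B, hB, rfl⟩ := ihy
        refine ⟨A * B, mul_mem hA hB, ?_⟩
        rw [← conjR_mul, ← Matrix.mul_kronecker_mul, Matrix.one_mul]
    rw [eq_top_iff]
    intro A _
    obtain ⟨A', hA', hAA'⟩ := key _ (h1 A)
    have := af_kron_one_inj hk (conjR_injective e P hAA')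
    rw [this]
    exact hA'

/-- (TNS4) the first factor of an invertible `conjR e P (R ⊗ₖ 1)` is invertible -/
theorem isUnit_det_factor {s k : ℕ} (hk : 0 < k) (e : Fin n ≃ Fin s × Fin k) (P : GL (Fin n) F)
    (R : Matrix (Fin s) (Fin s) F) (x : GL (Fin n) F)
    (hx : (x : Matrix (Fin n) (Fin n) F) = conjR e P (R ⊗ₖ (1 : Matrix (Fin k) (Fin k) F))) : IsUnit R.det := by
  have hxdet : (x : Matrix (Fin n) (Fin n) F).det ≠ 0 := (Matrix.isUnits_det_units x).ne_zero
  have hPP : (P : Matrix (Fin n) (Fin n) F).det * ((P⁻¹ : GL (Fin n) F) : Matrix (Fin n) (Fin n) F).det = 1 := by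
    rw [← Matrix.det_mul, ← Units.val_mul, mul_inv_cancel, Units.val_one, Matrix.det_one]
  rw [hx] at hxdet
  unfold conjR at hxdet
  rw [Matrix.det_mul, Matrix.det_mul, Matrix.det_reindex_self, mul_comm, ← mul_assoc, mul_comm _ (P : Matrix (Fin n) (Fin n) F).det,
    hPP, one_mul, Matrix.det_kronecker, Matrix.det_one, one_pow, mul_one, Fintype.card_fin] at hxdet
  rw [isUnit_iff_ne_zero]
  intro h0
  apply hxdet
  rw [h0, zero_pow (by omega)]

/-! ### the Schur core -/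

section schur
variable {σ : F →+* F} {s : ℕ}

/-- a predicate closed under the algebra operations and containing a generating set holds everywhere -/
theorem af_forall_of_adjoin (𝒳 : Set (Matrix (Fin s) (Fin s) F)) (hgen : Algebra.adjoin F 𝒳 = ⊤)
    (p : Matrix (Fin s) (Fin s) F → Prop) (hmem : ∀ R ∈ 𝒳, p R) (hsc : ∀ r : F, p (r • 1))
    (hadd : ∀ A B, p A → p B → p (A + B)) (hmul : ∀ A B, p A → p B → p (A * B)) : ∀ A, p A := by
  intro A
  have hA : A ∈ Algebra.adjoin F 𝒳 := by rw [hgen]; trivial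
  induction hA using Algebra.adjoin_induction with
  | mem x hx => exact hmem x hx
  | algebraMap r => rw [Algebra.algebraMap_eq_smul_one]; exact hsc r
  | add x y _ _ ihx ihy => exact hadd x y ihx ihy
  | mul x y _ _ ihx ihy => exact hmul x y ihx ihy

theorem af_map_smul_one (r : F) : ((r • (1 : Matrix (Fin s) (Fin s) F)).map σ) = σ r • 1 := by
  ext i j
  by_cases h : i = j
  · subst h; simp
  · simp [Matrix.one_apply_ne h]

/-- a non-zero invariant block is invertible -/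
theorem af_det_ne_zero_of_invariant (𝒳 : Set (Matrix (Fin s) (Fin s) F)) (hgen : Algebra.adjoin F 𝒳 = ⊤)
    (hunit : ∀ R ∈ 𝒳, IsUnit R.det) (B₀ : Matrix (Fin s) (Fin s) F) (hB₀ : B₀ ≠ 0)
    (hinv : ∀ R ∈ 𝒳, Rᵀ * B₀ * R.map σ = B₀) : B₀.det ≠ 0 := by
  have hker : ∀ A : Matrix (Fin s) (Fin s) F, ∀ v : Fin s → F, B₀ *ᵥ v = 0 → B₀ *ᵥ (A.map σ *ᵥ v) = 0 := by
    apply af_forall_of_adjoin 𝒳 hgen (fun A => ∀ v : Fin s → F, B₀ *ᵥ v = 0 → B₀ *ᵥ (A.map σ *ᵥ v) = 0)
    · intro R hR v hv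
      have h1 : Rᵀ *ᵥ (B₀ *ᵥ (R.map σ *ᵥ v)) = 0 := by
        rw [Matrix.mulVec_mulVec, Matrix.mulVec_mulVec, hinv R hR, hv]
      have hdet : IsUnit Rᵀ.det := by rw [Matrix.det_transpose]; exact hunit R hR
      have hinj := Matrix.mulVec_injective_of_isUnit ((Matrix.isUnit_iff_isUnit_det _).2 hdet)
      apply hinj
      rw [h1, Matrix.mulVec_zero]
    · intro r v hv
      rw [af_map_smul_one, Matrix.smul_mulVec, Matrix.one_mulVec, Matrix.mulVec_smul, hv, smul_zero]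
    · intro A B hA hB v hv
      rw [Matrix.map_add _ (map_add σ), Matrix.add_mulVec, Matrix.mulVec_add, hA v hv, hB v hv, add_zero]
    · intro A B hA hB v hv
      rw [Matrix.map_mul, ← Matrix.mulVec_mulVec]
      exact hA _ (hB v hv)
  intro hdet
  obtain ⟨v, hv0, hv⟩ := Matrix.exists_mulVec_eq_zero_iff.2 hdet
  obtain ⟨j, hj⟩ : ∃ j, v j ≠ 0 := by
    by_contra hcon
    push Not at hcon
    exact hv0 (funext hcon)
  apply hB₀
  ext a i
  have h1 := hker (Matrix.single i j 1) v hv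
  rw [Matrix.map_single, map_one, Matrix.single_mulVec, one_mul] at h1
  have h2 := congrFun h1 a
  rw [Matrix.mulVec, dotProduct, Finset.sum_eq_single i] at h2
  · rw [Function.update_self] at h2
    rcases mul_eq_zero.1 h2 with h | h
    · exact h
    · exact absurd h hj
  · intro b _ hb
    rw [Function.update_of_ne hb, Pi.zero_apply, mul_zero]
  · intro h; exact absurd (Finset.mem_univ i) h

/-- an invariant block is a multiple of an invertible invariant block -/
theorem af_smul_of_invariant (𝒳 : Set (Matrix (Fin s) (Fin s) F)) (hgen : Algebra.adjoin F 𝒳 = ⊤)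
    (hunit : ∀ R ∈ 𝒳, IsUnit R.det) (B₀ B : Matrix (Fin s) (Fin s) F) (hdet : B₀.det ≠ 0)
    (hinv₀ : ∀ R ∈ 𝒳, Rᵀ * B₀ * R.map σ = B₀) (hinv : ∀ R ∈ 𝒳, Rᵀ * B * R.map σ = B) :
    ∃ c : F, B = c • B₀ := by
  have hu : IsUnit B₀.det := Ne.isUnit hdet
  have h01 : B₀ * B₀⁻¹ = 1 := Matrix.mul_nonsing_inv B₀ hu
  have h10 : B₀⁻¹ * B₀ = 1 := Matrix.nonsing_inv_mul B₀ hu
  set C : Matrix (Fin s) (Fin s) F := B₀⁻¹ * B with hC
  have hBC : B₀ * C = B := by rw [hC, ← Matrix.mul_assoc, h01, Matrix.one_mul]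
  have hcomm : ∀ A : Matrix (Fin s) (Fin s) F, C * A.map σ = A.map σ * C := by
    apply af_forall_of_adjoin 𝒳 hgen (fun A => C * A.map σ = A.map σ * C)
    · intro R hR
      have hRT : IsUnit Rᵀ := by
        rw [Matrix.isUnit_iff_isUnit_det, Matrix.det_transpose]; exact hunit R hR
      have e1 : Rᵀ * (B₀ * (C * R.map σ)) = Rᵀ * (B₀ * (R.map σ * C)) := by
        calc Rᵀ * (B₀ * (C * R.map σ)) = Rᵀ * (B₀ * C) * R.map σ := by simp only [Matrix.mul_assoc]
          _ = B := by rw [hBC, hinv R hR]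
          _ = (Rᵀ * B₀ * R.map σ) * C := by rw [hinv₀ R hR, hBC]
          _ = _ := by simp only [Matrix.mul_assoc]
      have e2 := hRT.mul_left_cancel e1
      have e3 := congrArg (fun X => B₀⁻¹ * X) e2
      simp only [← Matrix.mul_assoc, h10, Matrix.one_mul] at e3
      exact e3
    · intro r
      rw [af_map_smul_one, Matrix.mul_smul, Matrix.smul_mul, Matrix.mul_one, Matrix.one_mul]
    · intro A B' hA hB
      rw [Matrix.map_add _ (map_add σ), Matrix.mul_add, Matrix.add_mul, hA, hB]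
    · intro A B' hA hB
      rw [Matrix.map_mul, ← Matrix.mul_assoc, hA, Matrix.mul_assoc, hB, Matrix.mul_assoc]
  have hsc : C ∈ Set.range (Matrix.scalar (Fin s)) := by
    apply Matrix.mem_range_scalar_of_commute_single
    intro i j _
    have := hcomm (Matrix.single i j 1)
    rw [Matrix.map_single, map_one] at this
    exact this.symm
  obtain ⟨c, hc⟩ := hsc
  refine ⟨c, ?_⟩
  rw [← hBC, ← hc, Matrix.scalar_apply, ← Matrix.smul_one_eq_diagonal, Matrix.mul_smul, Matrix.mul_one]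

end schur

/-- (TNS3) THE CORE (Schur) -/
theorem kron_of_invariant {σ : F →+* F} {s k : ℕ} (J' : Matrix (Fin s × Fin k) (Fin s × Fin k) F)
    (𝒳 : Set (Matrix (Fin s) (Fin s) F)) (hgen : Algebra.adjoin F 𝒳 = ⊤) (hunit : ∀ R ∈ 𝒳, IsUnit R.det)
    (hfix : ∀ R ∈ 𝒳, (R ⊗ₖ (1 : Matrix (Fin k) (Fin k) F))ᵀ * J' * (R ⊗ₖ (1 : Matrix (Fin k) (Fin k) F)).map σ = J') :
    ∃ (G₁ : Matrix (Fin s) (Fin s) F) (G₂ : Matrix (Fin k) (Fin k) F), J' = G₁ ⊗ₖ G₂ := by
  classical
  -- the blocks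
  set B : Fin k → Fin k → Matrix (Fin s) (Fin s) F := fun c d => Matrix.of fun a b => J' (a, c) (b, d) with hB
  have hBinv : ∀ c d, ∀ R ∈ 𝒳, Rᵀ * B c d * R.map σ = B c d := by
    intro c d R hR
    ext a b
    have h := congrFun (congrFun (hfix R hR) (a, c)) (b, d)
    show _ = J' (a, c) (b, d)
    rw [← h]
    simp only [hB, Matrix.mul_apply, Matrix.transpose_apply, Matrix.map_apply, Matrix.kroneckerMap_apply,
      Matrix.one_apply, Matrix.of_apply, Fintype.sum_prod_type]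
    simp only [mul_ite, mul_one, mul_zero, ite_mul, zero_mul, apply_ite σ, map_zero,
      Finset.sum_ite_eq', Finset.mem_univ, if_true]
  by_cases hall : ∀ c d, B c d = 0
  · refine ⟨0, 0, ?_⟩
    ext ⟨a, c⟩ ⟨b, d⟩
    have := congrFun (congrFun (hall c d) a) b
    simp only [hB, Matrix.of_apply, Matrix.zero_apply] at this
    rw [this]
    simp
  · push Not at hall
    obtain ⟨c₀, d₀, h0⟩ := hall
    have hdet := af_det_ne_zero_of_invariant 𝒳 hgen hunit (B c₀ d₀) h0 (hBinv c₀ d₀)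
    have hex : ∀ c d, ∃ l : F, B c d = l • B c₀ d₀ := fun c d =>
      af_smul_of_invariant 𝒳 hgen hunit (B c₀ d₀) (B c d) hdet (hBinv c₀ d₀) (hBinv c d)
    choose G₂ hG₂ using hex
    refine ⟨B c₀ d₀, Matrix.of G₂, ?_⟩
    ext ⟨a, c⟩ ⟨b, d⟩
    have := congrFun (congrFun (hG₂ c d) a) b
    simp only [hB, Matrix.of_apply, Matrix.smul_apply, smul_eq_mul] at this
    rw [Matrix.kroneckerMap_apply, Matrix.of_apply, this]
    simp only [hB, Matrix.of_apply]
    ring

end Cfsg.Agent.Lib.Helper25.AFLeaf
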