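import Mathlib
import Cfsg.Agent.Lib.Helper15.AschFormMat
import Cfsg.Agent.Lib.Helper18.AschA89Defs
import Cfsg.Agent.Lib.Helper20.AschA89F2J

/-!
GENERIC FORM BLOCKS (sub-planner helper15), both packets [CB] (helper25): `gramIn_mul`, `tensorWreathSubgroup_mul`, `exists_ptensGL`,
`tensorProductSubgroup_mul`, `tensorProductSubgroup_le_wreath'`, `gramIn_pair`, `gramIn_swap`.
Exact signatures of `notes/AschForm_leaves.lean`.
-/

set_option autoImplicit false
set_option linter.unusedSectionVars false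
set_option linter.unusedVariables false

namespace Cfsg.Agent.Lib.Helper25.AFLeaf
open Matrix Cfsg.Geo Cfsg.Agent.Lib.Helper20.Asch Cfsg.Agent.Lib.Helper7.AschLeaf
open Cfsg.Agent.Lib.Helper15.AschForm Cfsg.Agent.Lib.Helper18.AschA89
open scoped Kronecker

variable {F : Type*} [Field F] [Fintype F] {n : ℕ}

section cb
variable {κ : Type} [Fintype κ] [DecidableEq κ] (e : Fin n ≃ κ)

theorem cb_reidx_mul (A B : Matrix (Fin n) (Fin n) F) :
    Matrix.reindex e e (A * B) = Matrix.reindex e e A * Matrix.reindex e e B := by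
  simp only [Matrix.reindex_apply]
  rw [Matrix.submatrix_mul_equiv]

theorem cb_reidx_reidx_symm (M : Matrix κ κ F) : Matrix.reindex e e (Matrix.reindex e.symm e.symm M) = M := by
  ext i j
  simp [Matrix.reindex_apply]

theorem cb_reidx_symm_transpose (A : Matrix κ κ F) :
    Matrix.reindex e.symm e.symm Aᵀ = (Matrix.reindex e.symm e.symm A)ᵀ := by
  rw [Matrix.transpose_reindex]

theorem cb_reidx_symm_map (σ : F →+* F) (A : Matrix κ κ F) :
    Matrix.reindex e.symm e.symm (A.map σ) = (Matrix.reindex e.symm e.symm A).map σ := by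
  ext i j
  simp [Matrix.reindex_apply]

theorem cb_glReindex_val (K : GL κ F) :
    ((glReindex e.symm K : GL (Fin n) F) : Matrix (Fin n) (Fin n) F) = Matrix.reindex e.symm e.symm (K : Matrix κ κ F) := rfl

/-- (CB1) -/
theorem gramIn_mul (σ : F →+* F) (J : Matrix (Fin n) (Fin n) F)
    (e : Fin n ≃ κ) (P : GL (Fin n) F) (g : GL κ F) :
    gramIn σ J e (P * glReindex e.symm g) =
      (g : Matrix κ κ F)ᵀ * gramIn σ J e P * (g : Matrix κ κ F).map σ := by
  unfold gramIn
  rw [Units.val_mul, cb_glReindex_val, Matrix.transpose_mul, Matrix.map_mul]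
  have e1 : (Matrix.reindex e.symm e.symm (g : Matrix κ κ F))ᵀ * (P : Matrix (Fin n) (Fin n) F)ᵀ * J *
      ((P : Matrix (Fin n) (Fin n) F).map σ * (Matrix.reindex e.symm e.symm (g : Matrix κ κ F)).map σ) =
      (Matrix.reindex e.symm e.symm (g : Matrix κ κ F))ᵀ *
        ((P : Matrix (Fin n) (Fin n) F)ᵀ * J * (P : Matrix (Fin n) (Fin n) F).map σ) *
        (Matrix.reindex e.symm e.symm (g : Matrix κ κ F)).map σ := by
    simp only [Matrix.mul_assoc]
  rw [e1, cb_reidx_mul, cb_reidx_mul, ← cb_reidx_symm_transpose, ← cb_reidx_symm_map, cb_reidx_reidx_symm,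
    cb_reidx_reidx_symm]

/-- conjugating the base point by an element of the structure group does not change the group -/
theorem cb_map_conj_mul (S : Subgroup (GL κ F)) (P : GL (Fin n) F) (g : GL κ F) (hg : g ∈ S) :
    ((S.map (glReindex e.symm).toMonoidHom).map (MulAut.conj (P * glReindex e.symm g)).toMonoidHom) =
      ((S.map (glReindex e.symm).toMonoidHom).map (MulAut.conj P).toMonoidHom) := by
  ext x
  simp only [Subgroup.mem_map, MulEquiv.coe_toMonoidHom, MulAut.conj_apply, exists_exists_and_eq_and]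
  constructor
  · rintro ⟨y, hy, rfl⟩
    refine ⟨g * y * g⁻¹, S.mul_mem (S.mul_mem hg hy) (S.inv_mem hg), ?_⟩
    rw [map_mul, map_mul, map_inv, _root_.mul_inv_rev]
    simp only [mul_assoc]
  · rintro ⟨y, hy, rfl⟩
    refine ⟨g⁻¹ * y * g, S.mul_mem (S.mul_mem (S.inv_mem hg) hy) hg, ?_⟩
    rw [map_mul, map_mul, map_inv, _root_.mul_inv_rev]
    simp only [mul_assoc, mul_inv_cancel_left]

end cb

/-- (CB2) conjugating by an element of the group does not change the group -/
theorem tensorWreathSubgroup_mul {m t : ℕ} (e : Fin n ≃ (Fin t → Fin m)) (P : GL (Fin n) F)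
    (g : GL (Fin t → Fin m) F) (hg : g ∈ tensorWreathStandard m t F) :
    tensorWreathSubgroup m t e (P * glReindex e.symm g) = tensorWreathSubgroup m t e P :=
  cb_map_conj_mul e (tensorWreathStandard m t F) P g hg

/-- (CB3) pure tensors of invertible matrices as elements of the standard group -/
theorem exists_ptensGL {m t : ℕ} (S : Fin t → GL (Fin m) F) :
    ∃ g : GL (Fin t → Fin m) F, g ∈ tensorWreathStandard m t F ∧
      (g : Matrix (Fin t → Fin m) (Fin t → Fin m) F) = ptens m t fun i => (S i : Matrix (Fin m) (Fin m) F) := by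
  have h1 : ptens m t (fun i => (S i : Matrix (Fin m) (Fin m) F)) *
      ptens m t (fun i => ((S i)⁻¹ : GL (Fin m) F).1) = 1 := by
    rw [Cfsg.Agent.Lib.Helper20.AschLeaf.ptens_mul]
    have : (fun i => (S i : Matrix (Fin m) (Fin m) F) * ((S i)⁻¹ : GL (Fin m) F).1) = fun _ => 1 := by
      funext i
      rw [← Units.val_mul, mul_inv_cancel, Units.val_one]
    rw [this, Cfsg.Agent.Lib.Helper20.AschLeaf.ptens_one]
  have h2 : ptens m t (fun i => ((S i)⁻¹ : GL (Fin m) F).1) *
      ptens m t (fun i => (S i : Matrix (Fin m) (Fin m) F)) = 1 := by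
    rw [Cfsg.Agent.Lib.Helper20.AschLeaf.ptens_mul]
    have : (fun i => ((S i)⁻¹ : GL (Fin m) F).1 * (S i : Matrix (Fin m) (Fin m) F)) = fun _ => 1 := by
      funext i
      rw [← Units.val_mul, inv_mul_cancel, Units.val_one]
    rw [this, Cfsg.Agent.Lib.Helper20.AschLeaf.ptens_one]
  refine ⟨⟨_, _, h1, h2⟩, ?_, rfl⟩
  apply Subgroup.subset_closure
  left
  exact ⟨S, fun x y => rfl⟩

/-- (CB4) the same for the tensor product subgroup -/
theorem tensorProductSubgroup_mul {s k : ℕ} (e : Fin n ≃ Fin s × Fin k) (P : GL (Fin n) F)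
    (g : GL (Fin s × Fin k) F) (hg : g ∈ kroneckerSubgroup s k F) :
    tensorProductSubgroup s k e (P * glReindex e.symm g) = tensorProductSubgroup s k e P :=
  cb_map_conj_mul e (kroneckerSubgroup s k F) P g hg

/-- (CB5) explicit form of `Helper27.AschLeaf.tensorProductSubgroup_le_wreath` -/
theorem tensorProductSubgroup_le_wreath' {m : ℕ} (e : Fin n ≃ Fin m × Fin m) (P : GL (Fin n) F) :
    tensorProductSubgroup m m e P ≤
      tensorWreathSubgroup m 2 (e.trans (piFinTwoEquiv (fun _ => Fin m)).symm) P := by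
  unfold tensorProductSubgroup tensorWreathSubgroup
  apply Subgroup.map_mono
  rintro _ ⟨g₁, ⟨a, b, hab⟩, rfl⟩
  refine ⟨glReindex (piFinTwoEquiv (fun _ => Fin m)).symm g₁, ?_, ?_⟩
  · apply Subgroup.subset_closure
    left
    refine ⟨![a, b], fun x y => ?_⟩
    have h0 : ((glReindex (piFinTwoEquiv (fun _ => Fin m)).symm g₁ : GL (Fin 2 → Fin m) F) :
        Matrix (Fin 2 → Fin m) (Fin 2 → Fin m) F) x y =
        (g₁ : Matrix (Fin m × Fin m) (Fin m × Fin m) F) (piFinTwoEquiv (fun _ => Fin m) x)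
          (piFinTwoEquiv (fun _ => Fin m) y) := rfl
    rw [h0, hab, Fin.prod_univ_two]
    rfl
  · apply Units.ext
    ext i j
    rfl

/-- (CB6) a Kronecker product of two Gram factors is a pure tensor with `t = 2` in the basis of (CB5) -/
theorem gramIn_pair {σ : F →+* F} {J : Matrix (Fin n) (Fin n) F} {m : ℕ} (e : Fin n ≃ Fin m × Fin m)
    (P : GL (Fin n) F) (G₁ G₂ : Matrix (Fin m) (Fin m) F) (h : gramIn σ J e P = G₁ ⊗ₖ G₂) :
    gramIn σ J (e.trans (piFinTwoEquiv (fun _ => Fin m)).symm) P = ptens m 2 ![G₁, G₂] := by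
  ext x y
  have h0 : gramIn σ J (e.trans (piFinTwoEquiv (fun _ => Fin m)).symm) P x y =
      gramIn σ J e P (piFinTwoEquiv (fun _ => Fin m) x) (piFinTwoEquiv (fun _ => Fin m) y) := rfl
  rw [h0, h, ptens_apply, Fin.prod_univ_two]
  rfl

/-- (CB7) swapping the two Kronecker factors -/
theorem gramIn_swap {σ : F →+* F} {J : Matrix (Fin n) (Fin n) F} {s k : ℕ} (e : Fin n ≃ Fin s × Fin k)
    (P : GL (Fin n) F) (G₁ : Matrix (Fin s) (Fin s) F) (G₂ : Matrix (Fin k) (Fin k) F)
    (h : gramIn σ J e P = G₁ ⊗ₖ G₂) :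
    gramIn σ J (e.trans (Equiv.prodComm (Fin s) (Fin k))) P = G₂ ⊗ₖ G₁ := by
  ext ⟨c, a⟩ ⟨d, b⟩
  have h0 : gramIn σ J (e.trans (Equiv.prodComm (Fin s) (Fin k))) P (c, a) (d, b) =
      gramIn σ J e P (a, c) (b, d) := rfl
  rw [h0, h, Matrix.kroneckerMap_apply, Matrix.kroneckerMap_apply, mul_comm]

end Cfsg.Agent.Lib.Helper25.AFLeaf
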