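/-
helper25: subgroups of `p`-solvable groups (`Cfsg.IsPSolvable`) are `p`-solvable.
-/
import Mathlib
import Cfsg.Prelude.Def_Local

set_option autoImplicit false

namespace Cfsg.Agent.Lib.Helper25

universe u

/-- For a normal subgroup `X`, the relative index `[L : X ∩ L]` is monotone (for divisibility)
in `L`. -/
theorem relIndex_dvd_relIndex_of_le_right {G : Type*} [Group G] {X L₁ L₂ : Subgroup G}
    [hX : X.Normal] (h : L₁ ≤ L₂) : X.relIndex L₁ ∣ X.relIndex L₂ := by
  haveI : (X.subgroupOf L₂).Normal := Subgroup.Normal.subgroupOf hX L₂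
  have h1 : (X.subgroupOf L₂).relIndex (L₁.subgroupOf L₂) = X.relIndex L₁ :=
    Subgroup.relIndex_subgroupOf h
  have h2 : (X.subgroupOf L₂).relIndex (L₁.subgroupOf L₂) ∣ (X.subgroupOf L₂).index :=
    Subgroup.relIndex_dvd_index_of_normal _ _
  rw [h1] at h2
  exact h2

/-- Subgroups of `p`-solvable groups are `p`-solvable. -/
theorem isPSolvable_subgroup {G : Type u} [Group G] (p : ℕ) [hp : Fact p.Prime]
    (h : Cfsg.IsPSolvable p G) (B : Subgroup G) : Cfsg.IsPSolvable p B := by
  obtain ⟨n, H, h0, hlast, hmono, hnorm, hstep⟩ := h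
  refine ⟨n, fun i => (H i).subgroupOf B, ?_, ?_, ?_, ?_, ?_⟩
  · show (H 0).subgroupOf B = ⊥
    rw [h0]; exact Subgroup.bot_subgroupOf B
  · show (H (Fin.last n)).subgroupOf B = ⊤
    rw [hlast]; exact Subgroup.top_subgroupOf B
  · intro i j hij
    exact Subgroup.comap_mono (hmono hij)
  · intro i
    exact Subgroup.Normal.subgroupOf (hnorm i) B
  · intro i
    have hle : H i.castSucc ≤ H i.succ := hmono (Fin.castSucc_lt_succ).le
    haveI := hnorm i.castSucc
    have hdvd : ((H i.castSucc).subgroupOf B).relIndex ((H i.succ).subgroupOf B) ∣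
        (H i.castSucc).relIndex (H i.succ) := by
      have e1 : ((H i.castSucc).subgroupOf B).relIndex ((H i.succ).subgroupOf B) =
          (H i.castSucc).relIndex (H i.succ ⊓ B) := by
        have := Subgroup.relIndex_comap (H i.castSucc) B.subtype ((H i.succ).subgroupOf B)
        rw [Subgroup.subgroupOf_map_subtype] at this
        exact this
      rw [e1]
      exact relIndex_dvd_relIndex_of_le_right inf_le_left
    rcases hstep i with ⟨m, hm⟩ | hc
    · left
      rw [hm] at hdvd
      obtain ⟨k, _, hk⟩ := (Nat.dvd_prime_pow hp.out).mp hdvd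
      exact ⟨k, hk⟩
    · right
      exact Nat.Coprime.coprime_dvd_left hdvd hc

end Cfsg.Agent.Lib.Helper25
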