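/-
helper25: S3928 (a finite group `G = [G, α]`, `α` an involutory automorphism, has order bounded in
terms of the number of odd-order elements inverted by `α`): shared definitions.

Inner form: a finite group `H` generated by the conjugates of an element `a` with `a * a = 1`.
`JJ a`      : the odd-order elements of `H` inverted by `a` (always contains `1`).
`IsPair a`  : `a * a = 1` and the conjugates of `a` generate `H`.
`InjMod a N`: the map `JJ a → H ⧸ N` is injective.
`schurB`, `bd1`, `bd2`: the explicit bounds.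
-/
import Mathlib

set_option autoImplicit false

namespace Cfsg.Agent.Lib.Helper25.InvAut

variable {H : Type*} [Group H]

/-- the odd-order elements inverted by `a` -/
def JJ (a : H) : Set H := {x | Odd (orderOf x) ∧ a * x * a⁻¹ = x⁻¹}

/-- `a * a = 1` and the conjugates of `a` generate the group -/
structure IsPair (a : H) : Prop where
  sq : a * a = 1
  gen : Subgroup.normalClosure ({a} : Set H) = ⊤

/-- the map `JJ a → H ⧸ N` is injective -/
def InjMod (a : H) (N : Subgroup H) : Prop :=
  ∀ x ∈ JJ a, ∀ x' ∈ JJ a, x⁻¹ * x' ∈ N → x = x'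

/-- Schur's bound for `|K'|` in terms of `|K : Z(K)|` -/
def schurB (n : ℕ) : ℕ := n ^ (n * n ^ 2 + 1)

/-- bound for a pair with trivial centre all of whose nontrivial normal subgroups have
index at most `B` -/
def bd1 (m B : ℕ) : ℕ :=
  B * ((max 2 m) ^ B + (m.factorial * (m.factorial + 1)).factorial) + 1

/-- bound for a group generated by `m` elements of order at most `m` with a normal subgroup of
index at most `B` inside the second centre -/
def bd2 (m B : ℕ) : ℕ := schurB (schurB B * m.factorial ^ m) * m.factorial ^ m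

theorem one_mem_JJ (a : H) : (1 : H) ∈ JJ a := by
  refine ⟨by simp, by simp⟩

theorem schurB_mono {n n' : ℕ} (h : n ≤ n') : schurB n ≤ schurB n' := by
  unfold schurB
  rcases Nat.eq_zero_or_pos n with h0 | h0
  · subst h0
    simp
  · calc n ^ (n * n ^ 2 + 1) ≤ n' ^ (n * n ^ 2 + 1) := Nat.pow_le_pow_left h _
      _ ≤ n' ^ (n' * n' ^ 2 + 1) := by
        apply Nat.pow_le_pow_right (le_trans h0 h)
        have : n * n ^ 2 ≤ n' * n' ^ 2 := Nat.mul_le_mul h (Nat.pow_le_pow_left h 2)
        omega

theorem factorial_pow_mono {m m' : ℕ} (h : m ≤ m') : m.factorial ^ m ≤ m'.factorial ^ m' := by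
  calc m.factorial ^ m ≤ m'.factorial ^ m := Nat.pow_le_pow_left (Nat.factorial_le h) _
    _ ≤ m'.factorial ^ m' := Nat.pow_le_pow_right (Nat.factorial_pos _) h

theorem bd1_mono {m m' B B' : ℕ} (hm : m ≤ m') (hB : B ≤ B') : bd1 m B ≤ bd1 m' B' := by
  unfold bd1
  have h1 : (max 2 m) ^ B ≤ (max 2 m') ^ B' := by
    calc (max 2 m) ^ B ≤ (max 2 m') ^ B := Nat.pow_le_pow_left (max_le_max le_rfl hm) _
      _ ≤ (max 2 m') ^ B' := Nat.pow_le_pow_right (by simp) hB
  have h2 : (m.factorial * (m.factorial + 1)).factorial ≤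
      (m'.factorial * (m'.factorial + 1)).factorial := by
    apply Nat.factorial_le
    have := Nat.factorial_le hm
    exact Nat.mul_le_mul this (by omega)
  have := Nat.mul_le_mul hB (Nat.add_le_add h1 h2)
  omega

theorem bd2_mono {m m' B B' : ℕ} (hm : m ≤ m') (hB : B ≤ B') : bd2 m B ≤ bd2 m' B' := by
  unfold bd2
  have h1 := factorial_pow_mono hm
  exact Nat.mul_le_mul (schurB_mono (Nat.mul_le_mul (schurB_mono hB) h1)) h1

end Cfsg.Agent.Lib.Helper25.InvAut
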