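import Cfsg.Agent.Lib.Helper25.GraphInv2

set_option autoImplicit false

/-!
# Similarity groups of matrices, and congruence of symmetric / skew matrices
-/

namespace Cfsg.Agent.Lib.Helper25.GraphInv

open Module Matrix QuadraticMap Cfsg Cfsg.Agent.Lib.Helper18.PSLnAut
  Cfsg.Agent.Lib.Helper18.PSLnFld Cfsg.Agent.Lib.Helper25.InvTrans

section sim

variable {ι : Type} [Fintype ι] [DecidableEq ι] {F : Type*} [Field F]

/-- The bilinear function of a matrix. -/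
def bilM (M : Matrix ι ι F) (u v : ι → F) : F := u ⬝ᵥ M *ᵥ v

/-- The quadratic function of a matrix. -/
def symQ (M : Matrix ι ι F) (v : ι → F) : F := v ⬝ᵥ M *ᵥ v

theorem bil_ext (A B : Matrix ι ι F) (h : ∀ u v, u ⬝ᵥ A *ᵥ v = u ⬝ᵥ B *ᵥ v) : A = B := by
  ext i j
  have := h (Pi.single i 1) (Pi.single j 1)
  simpa using this

theorem dot_congr (g A : Matrix ι ι F) (u v : ι → F) :
    (g *ᵥ u) ⬝ᵥ A *ᵥ (g *ᵥ v) = u ⬝ᵥ (gᵀ * A * g) *ᵥ v := by
  rw [← Matrix.mulVec_mulVec, ← Matrix.mulVec_mulVec, Matrix.dotProduct_mulVec u,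
    Matrix.vecMul_transpose]

theorem mem_similarityGroup_iff (M : Matrix ι ι F) (g : GL ι F) :
    g ∈ Geo.similarityGroup (F := F) (bilM M) ↔
      ∃ c : Fˣ, (g.1)ᵀ * M * g.1 = (c : F) • M := by
  constructor
  · rintro ⟨c, hc⟩
    refine ⟨c, bil_ext _ _ fun u v => ?_⟩
    have h1 := hc u v
    unfold bilM at h1
    rw [dot_congr] at h1
    rw [h1, Matrix.smul_mulVec, dotProduct_smul, smul_eq_mul]
  · rintro ⟨c, hc⟩
    refine ⟨c, fun u v => ?_⟩
    unfold bilM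
    rw [dot_congr, hc, Matrix.smul_mulVec, dotProduct_smul, smul_eq_mul]

theorem mem_quadSim_iff (h2 : (2 : F) ≠ 0) (M : Matrix ι ι F) (hM : Mᵀ = M) (g : GL ι F) :
    g ∈ Geo.quadSimilarityGroup (F := F) (symQ M) ↔
      ∃ c : Fˣ, (g.1)ᵀ * M * g.1 = (c : F) • M := by
  constructor
  · rintro ⟨c, hc⟩
    refine ⟨c, ?_⟩
    have hv : ∀ v : ι → F, v ⬝ᵥ ((g.1)ᵀ * M * g.1 - (c : F) • M) *ᵥ v = 0 := by
      intro v
      have h1 := hc v
      unfold symQ at h1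
      rw [dot_congr] at h1
      rw [Matrix.sub_mulVec, dotProduct_sub, h1, Matrix.smul_mulVec, dotProduct_smul,
        smul_eq_mul, sub_self]
    obtain ⟨hd, hs⟩ := (Cfsg.Agent.Lib.Helper15.quad_vanish_iff _).1 hv
    rw [← sub_eq_zero]
    ext i j
    have hsym : ((g.1)ᵀ * M * g.1 - (c : F) • M) j i = ((g.1)ᵀ * M * g.1 - (c : F) • M) i j := by
      have e : ((g.1)ᵀ * M * g.1 - (c : F) • M)ᵀ = (g.1)ᵀ * M * g.1 - (c : F) • M := by
        rw [Matrix.transpose_sub, Matrix.transpose_mul, Matrix.transpose_mul,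
          Matrix.transpose_transpose, Matrix.transpose_smul, hM, Matrix.mul_assoc]
      have := congrFun (congrFun e i) j
      rwa [Matrix.transpose_apply] at this
    have h3 := hs i j
    rw [hsym] at h3
    have h4 : (2 : F) * ((g.1)ᵀ * M * g.1 - (c : F) • M) i j = 0 := by
      linear_combination h3
    exact (mul_eq_zero.1 h4).resolve_left h2
  · rintro ⟨c, hc⟩
    refine ⟨c, fun v => ?_⟩
    unfold symQ
    rw [dot_congr, hc, Matrix.smul_mulVec, dotProduct_smul, smul_eq_mul]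

end sim

section main

variable {n : ℕ} {F : Type*} [Field F] {ι₂ : Type} [Fintype ι₂] [DecidableEq ι₂]

/-- The centraliser of an automorphism in `Inndiag(PSL_n)`, when it is described by a subgroup of
a general linear group in other coordinates. -/
theorem nonempty_centralizer_equiv' (hn : 2 ≤ n) (S : Subgroup (GL ι₂ F))
    (P : Matrix ι₂ (Fin n) F) (P' : Matrix (Fin n) ι₂ F) (h1 : P * P' = 1) (h2' : P' * P = 1)
    (γ : MulAut (ProjectiveSpecialLinearGroup (Fin n) F))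
    (hγ : ∀ g : GL (Fin n) F, conjAHom g ∈ Subgroup.centralizer {γ} ↔
      glCongr P P' h1 h2' g ∈ S) :
    Nonempty (↥(Cfsg.inndiagPSL n F ⊓ Subgroup.centralizer {γ}) ≃* Cfsg.projQuot S) := by
  obtain ⟨Φ, hΦ⟩ : ∃ Φ : ↥S →* MulAut (ProjectiveSpecialLinearGroup (Fin n) F),
      ∀ h, Φ h = conjAHom ((glCongr P P' h1 h2').symm h.1) :=
    ⟨(conjAHom (n := n) (F := F)).comp (((glCongr P P' h1 h2').symm.toMonoidHom).comp
      (Subgroup.subtype _)), fun h => rfl⟩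
  have hrange : Φ.range = Cfsg.inndiagPSL n F ⊓ Subgroup.centralizer {γ} := by
    ext β
    constructor
    · rintro ⟨h, rfl⟩
      rw [hΦ]
      refine ⟨?_, ?_⟩
      · rw [inndiag_eq]
        exact ⟨_, rfl⟩
      · show conjAHom _ ∈ Subgroup.centralizer _
        rw [hγ, MulEquiv.apply_symm_apply]
        exact h.2
    · rintro ⟨hβ1, hβ2⟩
      rw [inndiag_eq] at hβ1
      obtain ⟨g, rfl⟩ := hβ1
      have hβ2' : conjAHom g ∈ Subgroup.centralizer {γ} := hβ2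
      rw [hγ] at hβ2'
      refine ⟨⟨_, hβ2'⟩, ?_⟩
      rw [hΦ, MulEquiv.symm_apply_apply]
  have hker : Φ.ker = (Geo.scalars ι₂ F).subgroupOf S := by
    ext h
    rw [MonoidHom.mem_ker, hΦ, Subgroup.mem_subgroupOf]
    have h3 : conjAHom ((glCongr P P' h1 h2').symm h.1) = 1 ↔
        (glCongr P P' h1 h2').symm h.1 ∈ (conjAHom (n := n) (F := F)).ker := Iff.rfl
    rw [h3, ker_conjAHom hn, center_eq_scalars (by omega),
      ← glCongr_mem_scalars_iff P P' h1 h2', MulEquiv.apply_symm_apply]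
  exact ⟨((MulEquiv.subgroupCongr hrange).symm.trans
    (QuotientGroup.quotientKerEquivRange Φ).symm).trans
    (QuotientGroup.quotientMulEquivOfEq hker)⟩

/-- The matrices of a linear equivalence and its inverse. -/
theorem exists_mat_of_linearEquiv (g : (Fin n → F) ≃ₗ[F] (ι₂ → F)) :
    ∃ (P : Matrix ι₂ (Fin n) F) (P' : Matrix (Fin n) ι₂ F), P * P' = 1 ∧ P' * P = 1 ∧
      ∀ w, P *ᵥ w = g w := by
  refine ⟨LinearMap.toMatrix' (g : (Fin n → F) →ₗ[F] (ι₂ → F)),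
    LinearMap.toMatrix' (g.symm : (ι₂ → F) →ₗ[F] (Fin n → F)), ?_, ?_, ?_⟩
  · rw [← LinearMap.toMatrix'_comp]
    have : (g : (Fin n → F) →ₗ[F] (ι₂ → F)) ∘ₗ (g.symm : (ι₂ → F) →ₗ[F] (Fin n → F)) =
        LinearMap.id := LinearMap.ext fun x => g.apply_symm_apply x
    rw [this, LinearMap.toMatrix'_id]
  · rw [← LinearMap.toMatrix'_comp]
    have : (g.symm : (ι₂ → F) →ₗ[F] (Fin n → F)) ∘ₗ (g : (Fin n → F) →ₗ[F] (ι₂ → F)) =
        LinearMap.id := LinearMap.ext fun x => g.symm_apply_apply x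
    rw [this, LinearMap.toMatrix'_id]
  · intro w
    rw [LinearMap.toMatrix'_mulVec]
    rfl

/-- A nondegenerate quadratic form of even dimension is equivalent to the quadratic form of any
symmetric matrix of the same discriminant class (finite field, odd characteristic). -/
theorem exists_change_of_sym [Finite F] (h2 : (2 : F) ≠ 0)
    (Q₂ : QuadraticForm F (ι₂ → F)) (hQ₂ : (polarBilin Q₂).Nondegenerate)
    (hcard : Fintype.card ι₂ = n) (heven : Even n)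
    (M : Matrix (Fin n) (Fin n) F) (hM : Mᵀ = M) (hdet : M.det ≠ 0)
    (hsq : IsSquare (M.det *
      (Matrix.of (fun i j : ι₂ => polar ⇑Q₂ (Pi.single i 1) (Pi.single j 1))).det)) :
    ∃ (P : Matrix ι₂ (Fin n) F) (P' : Matrix (Fin n) ι₂ F), P * P' = 1 ∧ P' * P = 1 ∧
      ∀ w, Q₂ (P *ᵥ w) = symQ M w := by
  classical
  have hc : Fintype.card ι₂ = Fintype.card (Fin n) := by rw [hcard, Fintype.card_fin]
  obtain ⟨b₂, hb₂⟩ : ∃ b₂ : Basis (Fin n) F (ι₂ → F),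
      b₂ = (Pi.basisFun F ι₂).reindex (Fintype.equivOfCardEq hc) := ⟨_, rfl⟩
  obtain ⟨B₁, hB₁⟩ : ∃ B₁ : LinearMap.BilinForm F (Fin n → F),
      B₁ = Matrix.toBilin' ((2 : F) • M) := ⟨_, rfl⟩
  have hB₁a : ∀ x y, B₁ x y = 2 * (x ⬝ᵥ M *ᵥ y) := by
    intro x y
    rw [hB₁, Matrix.toBilin'_apply', Matrix.smul_mulVec, dotProduct_smul, smul_eq_mul]
  have hS₁ : B₁.IsSymm := by
    rw [hB₁, Matrix.isSymm_toBilin'_iff_isSymm]
    exact Matrix.IsSymm.smul hM 2
  have hd₁ : (LinearMap.BilinForm.toMatrix (Pi.basisFun F (Fin n)) B₁).det = 2 ^ n * M.det := by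
    rw [LinearMap.BilinForm.toMatrix_basisFun, hB₁, LinearMap.BilinForm.toMatrix'_toBilin',
      Matrix.det_smul, Fintype.card_fin]
  have hN₁ : B₁.Nondegenerate := by
    rw [LinearMap.BilinForm.nondegenerate_iff_det_ne_zero (Pi.basisFun F (Fin n)), hd₁]
    exact mul_ne_zero (pow_ne_zero _ h2) hdet
  have hS₂ : LinearMap.BilinForm.IsSymm (polarBilin Q₂) := by
    constructor
    intro x y
    rw [polarBilin_apply_apply, polarBilin_apply_apply, polar_comm]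
  have hd₂ : (LinearMap.BilinForm.toMatrix b₂ (polarBilin Q₂)).det =
      (Matrix.of (fun i j : ι₂ => polar ⇑Q₂ (Pi.single i 1) (Pi.single j 1))).det := by
    rw [hb₂, DiscType.toMatrix_reindex, Matrix.det_submatrix_equiv_self,
      LinearMap.BilinForm.toMatrix_basisFun]
    congr 1
  obtain ⟨g, hg⟩ := DiscType.exists_isometry_of_disc h2 (Pi.basisFun F (Fin n)) b₂ B₁
    (polarBilin Q₂) hS₁ hS₂ hN₁ hQ₂ (by
      rw [hd₁, hd₂, mul_assoc]
      exact (heven.isSquare_pow 2).mul hsq)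
  obtain ⟨P, P', h1, h1', hP⟩ := exists_mat_of_linearEquiv g
  refine ⟨P, P', h1, h1', fun w => ?_⟩
  rw [hP]
  have h3 := hg w w
  rw [polarBilin_apply_apply, hB₁a] at h3
  have h4 : polar ⇑Q₂ (g w) (g w) = 2 * Q₂ (g w) := by
    rw [QuadraticMap.polar_self]
    simp
  rw [h4] at h3
  exact mul_left_cancel₀ h2 h3

/-- Symmetric invertible matrices of the same discriminant class are congruent. -/
theorem exists_congr_of_disc [Finite F] (h2 : (2 : F) ≠ 0)
    (M₁ M₂ : Matrix (Fin n) (Fin n) F) (hS₁ : M₁ᵀ = M₁) (hS₂ : M₂ᵀ = M₂)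
    (hd₁ : M₁.det ≠ 0) (hd₂ : M₂.det ≠ 0) (hsq : IsSquare (M₁.det * M₂.det)) :
    ∃ k : GL (Fin n) F, (k.1)ᵀ * M₂ * k.1 = M₁ := by
  have hs₁ : (Matrix.toBilin' M₁).IsSymm := by
    rw [Matrix.isSymm_toBilin'_iff_isSymm]
    exact hS₁
  have hs₂ : (Matrix.toBilin' M₂).IsSymm := by
    rw [Matrix.isSymm_toBilin'_iff_isSymm]
    exact hS₂
  have e₁ : LinearMap.BilinForm.toMatrix (Pi.basisFun F (Fin n)) (Matrix.toBilin' M₁) = M₁ := by
    rw [LinearMap.BilinForm.toMatrix_basisFun, LinearMap.BilinForm.toMatrix'_toBilin']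
  have e₂ : LinearMap.BilinForm.toMatrix (Pi.basisFun F (Fin n)) (Matrix.toBilin' M₂) = M₂ := by
    rw [LinearMap.BilinForm.toMatrix_basisFun, LinearMap.BilinForm.toMatrix'_toBilin']
  have hN₁ : (Matrix.toBilin' M₁).Nondegenerate := by
    rw [LinearMap.BilinForm.nondegenerate_iff_det_ne_zero (Pi.basisFun F (Fin n)), e₁]
    exact hd₁
  have hN₂ : (Matrix.toBilin' M₂).Nondegenerate := by
    rw [LinearMap.BilinForm.nondegenerate_iff_det_ne_zero (Pi.basisFun F (Fin n)), e₂]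
    exact hd₂
  obtain ⟨g, hg⟩ := DiscType.exists_isometry_of_disc h2 (Pi.basisFun F (Fin n))
    (Pi.basisFun F (Fin n)) (Matrix.toBilin' M₁) (Matrix.toBilin' M₂) hs₁ hs₂ hN₁ hN₂ (by
      rw [e₁, e₂]
      exact hsq)
  obtain ⟨P, P', h1, h1', hP⟩ := exists_mat_of_linearEquiv g
  refine ⟨⟨P, P', h1, h1'⟩, bil_ext _ _ fun u v => ?_⟩
  show u ⬝ᵥ (Pᵀ * M₂ * P) *ᵥ v = _
  rw [← dot_congr, hP, hP]
  have h3 := hg u v
  rw [Matrix.toBilin'_apply', Matrix.toBilin'_apply'] at h3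
  exact h3

/-- Skew-symmetric invertible matrices are congruent (characteristic not two). -/
theorem exists_congr_of_skew (h2 : (2 : F) ≠ 0)
    (M₁ M₂ : Matrix (Fin n) (Fin n) F) (hS₁ : M₁ᵀ = -M₁) (hS₂ : M₂ᵀ = -M₂)
    (hd₁ : M₁.det ≠ 0) (hd₂ : M₂.det ≠ 0) :
    ∃ k : GL (Fin n) F, (k.1)ᵀ * M₂ * k.1 = M₁ := by
  have halt : ∀ M : Matrix (Fin n) (Fin n) F, Mᵀ = -M → (Matrix.toBilin' M).IsAlt := by
    intro M hM x
    rw [Matrix.toBilin'_apply']
    have h3 : x ⬝ᵥ M *ᵥ x = -(x ⬝ᵥ M *ᵥ x) := by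
      nth_rewrite 1 [Matrix.dotProduct_mulVec, ← Matrix.mulVec_transpose, hM, Matrix.neg_mulVec,
        neg_dotProduct, dotProduct_comm]
      rfl
    have h4 : (2 : F) * (x ⬝ᵥ M *ᵥ x) = 0 := by linear_combination h3
    exact (mul_eq_zero.1 h4).resolve_left h2
  have hnd : ∀ M : Matrix (Fin n) (Fin n) F, M.det ≠ 0 →
      ∀ u, (∀ v, Matrix.toBilin' M u v = 0) → u = 0 := by
    intro M hM u hu
    apply (Matrix.nondegenerate_of_det_ne_zero hM).eq_zero_of_ortho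
    intro w
    have := hu w
    rwa [Matrix.toBilin'_apply'] at this
  obtain ⟨θ, hθ⟩ := Cfsg.Agent.Lib.Helper15.AltIso.exists_isometry_of_alt
    (Matrix.toBilin' M₂) (Matrix.toBilin' M₁) (halt M₂ hS₂) (halt M₁ hS₁) (hnd M₂ hd₂)
    (hnd M₁ hd₁)
  obtain ⟨P, P', h1, h1', hP⟩ := exists_mat_of_linearEquiv θ
  refine ⟨⟨P, P', h1, h1'⟩, bil_ext _ _ fun u v => ?_⟩
  show u ⬝ᵥ (Pᵀ * M₂ * P) *ᵥ v = _
  rw [← dot_congr, hP, hP]
  have h3 := hθ u v
  rw [Matrix.toBilin'_apply', Matrix.toBilin'_apply'] at h3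
  exact h3

end main

end Cfsg.Agent.Lib.Helper25.GraphInv
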