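import Mathlib
import Cfsg.Prelude.Def_GeometricClasses
import Cfsg.Agent.Lib.Helper20.AschDefs
import Cfsg.Agent.Lib.Helper29.SpAschDefs
import Cfsg.Agent.Lib.Helper29.SpAschTools
import Cfsg.Agent.Lib.Helper18.OAschDefs
import Cfsg.Agent.Lib.Helper18.OAschG
import Cfsg.Agent.Lib.Helper18.ReidxDefs
import Cfsg.Agent.Lib.Helper18.AschA89Defs
import Cfsg.Agent.Lib.Helper27.AschTW2
import Cfsg.Agent.Lib.Helper25.GraphInv3

/-!
S5673 (planner helper18), packet O-TNS, part a (helper25): TNS2 `kron_symm_odd`, TNS3 `tensorForm_of_gram`, TNS4 `exists_similar_odd`,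
TNS6 `tp_le_wreath_pair`, TNS7 `tensorPower_of_tensorForm`, TNS8 `gram_reindex_symm_det`.  Exact signatures of `notes/S5673_leaves.lean`.
-/

set_option autoImplicit false
set_option linter.unusedSectionVars false
set_option linter.unusedVariables false

namespace Cfsg.Agent.Lib.Helper25.OAschLeaf
open Matrix Cfsg Cfsg.Geo Cfsg.Agent.Lib.Helper20.Asch Cfsg.Agent.Lib.Helper29.SpAsch Cfsg.Agent.Lib.Helper18.OAsch
  Cfsg.Agent.Lib.Helper18.Reidx Cfsg.Agent.Lib.Helper18.AschA89 Cfsg.Agent.Lib.Helper27.AschLeaf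
open scoped Kronecker

variable {F : Type*} [Field F] [Fintype F] {n : ℕ} {G : Matrix (Fin n) (Fin n) F} {H N : Subgroup (GL (Fin n) F)}

/-! ### local copies of two basics (packet OB) -/

theorem gramMatrix_bfm' {κ : Type} [Fintype κ] [DecidableEq κ] (G : Matrix κ κ F) : gramMatrix (bfm G) = G := by
  ext a b
  unfold gramMatrix bfm
  rw [Matrix.mulVec_single_one, single_one_dotProduct]
  rfl

theorem bfm_reindex' {κ κ' : Type} [Fintype κ] [DecidableEq κ] [Fintype κ'] [DecidableEq κ'] (G P : Matrix κ κ F)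
    (e : κ ≃ κ') (x y : κ' → F) :
    bfm G (P *ᵥ (x ∘ e)) (P *ᵥ (y ∘ e)) = bfm (Matrix.reindex e e (Pᵀ * G * P)) x y := by
  unfold bfm
  have h1 : Matrix.reindex e e (Pᵀ * G * P) *ᵥ y = (fun i => ((Pᵀ * G * P) *ᵥ (y ∘ e)) (e.symm i)) := by
    ext i
    simp only [Matrix.reindex_apply, Matrix.mulVec, dotProduct, Matrix.submatrix_apply]
    rw [← Equiv.sum_comp e]
    simp
  rw [h1]
  have h2 : (x ⬝ᵥ fun i => ((Pᵀ * G * P) *ᵥ (y ∘ e)) (e.symm i)) = (x ∘ e) ⬝ᵥ ((Pᵀ * G * P) *ᵥ (y ∘ e)) := by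
    unfold dotProduct
    rw [← Equiv.sum_comp e]
    simp
  rw [h2, ← Matrix.mulVec_mulVec, ← Matrix.mulVec_mulVec]
  rw [Matrix.dotProduct_mulVec (x ∘ e) Pᵀ, Matrix.vecMul_transpose]

theorem bfm_eq_sum {κ : Type} [Fintype κ] [DecidableEq κ] (G : Matrix κ κ F) (x y : κ → F) :
    bfm G x y = ∑ a, ∑ b, x a * G a b * y b := by
  unfold bfm dotProduct Matrix.mulVec dotProduct
  refine Finset.sum_congr rfl fun a _ => ?_
  rw [Finset.mul_sum]
  refine Finset.sum_congr rfl fun b _ => ?_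
  ring

/-- TNS2 -/
theorem kron_symm_odd (h2 : (2 : F) ≠ 0) {s k : ℕ} (hs : Odd s) (hk : Odd k) (G₁ : Matrix (Fin s) (Fin s) F)
    (G₂ : Matrix (Fin k) (Fin k) F) (hsym : (G₁ ⊗ₖ G₂)ᵀ = G₁ ⊗ₖ G₂) (hdet : (G₁ ⊗ₖ G₂).det ≠ 0) :
    G₁ᵀ = G₁ ∧ G₂ᵀ = G₂ ∧ G₁.det ≠ 0 ∧ G₂.det ≠ 0 := by
  have hdet' := hdet
  rw [Matrix.det_kronecker, Fintype.card_fin, Fintype.card_fin] at hdet'
  have hd₁ : G₁.det ≠ 0 := by
    intro h
    apply hdet'
    rw [h, zero_pow (by obtain ⟨a, ha⟩ := hk; omega), zero_mul]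
  have hd₂ : G₂.det ≠ 0 := by
    intro h
    apply hdet'
    rw [h, zero_pow (by obtain ⟨a, ha⟩ := hs; omega), mul_zero]
  have hent : ∀ i j p r, G₁ j i * G₂ r p = G₁ i j * G₂ p r := by
    intro i j p r
    have := congrFun (congrFun hsym (i, p)) (j, r)
    simpa [Matrix.transpose_apply, Matrix.kroneckerMap_apply] using this
  -- generic step
  have key : ∀ {a b : ℕ} (ha : Odd a) (A : Matrix (Fin a) (Fin a) F) (B : Matrix (Fin b) (Fin b) F)
      (hA : A.det ≠ 0) (hB : B ≠ 0) (hAB : ∀ i j p r, A j i * B r p = A i j * B p r), Aᵀ = A := by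
    intro a b ha A B hA hB hAB
    obtain ⟨p₀, r₀, hpr⟩ : ∃ p r, B p r ≠ 0 := by
      by_contra hcon
      push Not at hcon
      apply hB
      ext p r
      exact hcon p r
    set μ : F := B r₀ p₀ / B p₀ r₀ with hμ
    have h1 : ∀ i j, A i j = μ * A j i := by
      intro i j
      have := hAB i j p₀ r₀
      rw [hμ]
      field_simp
      linear_combination -this
    have hA0 : A ≠ 0 := by
      rintro rfl
      apply hA
      have : 0 < a := by obtain ⟨c, hc⟩ := ha; omega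
      have : Nonempty (Fin a) := ⟨⟨0, this⟩⟩
      exact Matrix.det_zero
    obtain ⟨i₀, j₀, hij⟩ : ∃ i j, A i j ≠ 0 := by
      by_contra hcon
      push Not at hcon
      apply hA0
      ext p r
      exact hcon p r
    have hμ2 : μ * μ = 1 := by
      have e1 := h1 i₀ j₀
      have e2 := h1 j₀ i₀
      rw [e2] at e1
      have : A i₀ j₀ * (μ * μ - 1) = 0 := by linear_combination -e1
      rcases mul_eq_zero.1 this with h | h
      · exact absurd h hij
      · linear_combination h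
    have hμ1 : (μ - 1) * (μ + 1) = 0 := by linear_combination hμ2
    rcases mul_eq_zero.1 hμ1 with h | h
    · have : μ = 1 := by linear_combination h
      ext i j
      rw [Matrix.transpose_apply, h1 i j, this, one_mul]
    · exfalso
      have hm : μ = -1 := by linear_combination h
      have hAT : Aᵀ = -A := by
        ext i j
        rw [Matrix.transpose_apply, Matrix.neg_apply, h1 i j, hm]
        ring
      have := congrArg Matrix.det hAT
      rw [Matrix.det_transpose, Matrix.det_neg, Fintype.card_fin, ha.neg_one_pow] at this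
      have h3 : (2 : F) * A.det = 0 := by linear_combination this
      rcases mul_eq_zero.1 h3 with h | h
      · exact h2 h
      · exact hA h
  have hG₁0 : G₁ ≠ 0 := by
    rintro rfl
    apply hd₁
    have : 0 < s := by obtain ⟨c, hc⟩ := hs; omega
    have : Nonempty (Fin s) := ⟨⟨0, this⟩⟩
    exact Matrix.det_zero
  have hG₂0 : G₂ ≠ 0 := by
    rintro rfl
    apply hd₂
    have : 0 < k := by obtain ⟨c, hc⟩ := hk; omega
    have : Nonempty (Fin k) := ⟨⟨0, this⟩⟩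
    exact Matrix.det_zero
  refine ⟨key hs G₁ G₂ hd₁ hG₂0 hent, key hk G₂ G₁ hd₂ hG₁0 ?_, hd₁, hd₂⟩
  intro p r i j
  have := hent i j p r
  linear_combination this

/-- TNS3 -/
theorem tensorForm_of_gram {s k : ℕ} (e : Fin n ≃ Fin s × Fin k) (P : GL (Fin n) F) (G₁ : Matrix (Fin s) (Fin s) F)
    (G₂ : Matrix (Fin k) (Fin k) F) (c : F) (hc : c ≠ 0)
    (h : Matrix.reindex e e ((P : Matrix (Fin n) (Fin n) F)ᵀ * G * (P : Matrix (Fin n) (Fin n) F)) = c • (G₁ ⊗ₖ G₂)) :
    IsTensorFormStructure id (bfm G) (bfm G₁) (bfm G₂) e P := by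
  refine ⟨c, hc, fun x y => ?_⟩
  rw [bfm_reindex', h, gramMatrix_bfm', gramMatrix_bfm', bfm_eq_sum]
  unfold formOfGram
  rw [Finset.mul_sum]
  refine Finset.sum_congr rfl fun a _ => ?_
  rw [Finset.mul_sum]
  refine Finset.sum_congr rfl fun b _ => ?_
  rw [Matrix.smul_apply, smul_eq_mul, id]
  ring

/-- TNS4 -/
theorem exists_similar_odd (h2 : (2 : F) ≠ 0) {s : ℕ} (hs : Odd s) (G₁ G₂ : Matrix (Fin s) (Fin s) F)
    (hs₁ : G₁ᵀ = G₁) (hs₂ : G₂ᵀ = G₂) (hd₁ : G₁.det ≠ 0) (hd₂ : G₂.det ≠ 0) :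
    ∃ (c : F) (b : GL (Fin s) F), c ≠ 0 ∧
      G₂ = c • ((b : Matrix (Fin s) (Fin s) F)ᵀ * G₁ * (b : Matrix (Fin s) (Fin s) F)) := by
  set c : F := G₁.det * G₂.det with hc
  have hc0 : c ≠ 0 := mul_ne_zero hd₁ hd₂
  have hdet : (c • G₁).det = c ^ s * G₁.det := by
    rw [Matrix.det_smul, Fintype.card_fin]
  obtain ⟨j, hj⟩ := hs
  have hsq : IsSquare (G₂.det * (c • G₁).det) := by
    refine ⟨c ^ (j + 1), ?_⟩
    have hpow : c ^ s = c ^ (2 * j + 1) := by rw [hj]
    rw [hdet, hpow]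
    have : G₂.det * (c ^ (2 * j + 1) * G₁.det) = c ^ (2 * j + 1) * c := by rw [hc]; ring
    rw [this]
    ring
  obtain ⟨b, hb⟩ := Cfsg.Agent.Lib.Helper25.GraphInv.exists_congr_of_disc h2 G₂ (c • G₁) hs₂
    (by rw [Matrix.transpose_smul, hs₁]) hd₂ (by rw [hdet]; exact mul_ne_zero (pow_ne_zero _ hc0) hd₁) hsq
  refine ⟨c, b, hc0, ?_⟩
  rw [← hb, Matrix.mul_smul, Matrix.smul_mul]

/-- TNS6 (TW2 of S5630 with the explicit bijection) -/
theorem tp_le_wreath_pair {s : ℕ} (e : Fin n ≃ Fin s × Fin s) (P : GL (Fin n) F) :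
    tensorProductSubgroup s s e P ≤ tensorWreathSubgroup s 2 (e.trans (pairEquiv s)) P := by
  unfold tensorProductSubgroup tensorWreathSubgroup
  apply Subgroup.map_mono
  rintro _ ⟨g₁, ⟨a, b, hab⟩, rfl⟩
  refine ⟨glReindex (pairEquiv s) g₁, ?_, ?_⟩
  · apply Subgroup.subset_closure
    left
    refine ⟨![a, b], fun x y => ?_⟩
    rw [glReindex_apply', hab, Fin.prod_univ_two]
    rfl
  · apply Units.ext
    ext i j
    rfl

/-- TNS7: a tensor square is a tensor power with `t = 2` -/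
theorem tensorPower_of_tensorForm {s : ℕ} (e : Fin n ≃ Fin s × Fin s) (P : GL (Fin n) F)
    (f : (Fin n → F) → (Fin n → F) → F) (f₁ : (Fin s → F) → (Fin s → F) → F)
    (h : IsTensorFormStructure id f f₁ f₁ e P) : IsTensorPowerFormStructure id f f₁ (e.trans (pairEquiv s)) P := by
  obtain ⟨c, hc, hf⟩ := h
  refine ⟨c, hc, fun x y => ?_⟩
  have hx : x ∘ (e.trans (pairEquiv s)) = (x ∘ pairEquiv s) ∘ e := rfl
  have hy : y ∘ (e.trans (pairEquiv s)) = (y ∘ pairEquiv s) ∘ e := rfl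
  rw [hx, hy, hf]
  congr 1
  unfold formOfGram
  rw [← Equiv.sum_comp (pairEquiv s)]
  refine Finset.sum_congr rfl fun a _ => ?_
  rw [← Equiv.sum_comp (pairEquiv s)]
  refine Finset.sum_congr rfl fun b _ => ?_
  rw [Fin.prod_univ_two]
  rfl

/-- TNS8: the Gram matrix in new coordinates is symmetric and invertible -/
theorem gram_reindex_symm_det (hs : Gᵀ = G) (hd : G.det ≠ 0) {κ : Type} [Fintype κ] [DecidableEq κ] (e : Fin n ≃ κ)
    (P : GL (Fin n) F) :
    (Matrix.reindex e e ((P : Matrix (Fin n) (Fin n) F)ᵀ * G * (P : Matrix (Fin n) (Fin n) F)))ᵀ =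
      Matrix.reindex e e ((P : Matrix (Fin n) (Fin n) F)ᵀ * G * (P : Matrix (Fin n) (Fin n) F)) ∧
    (Matrix.reindex e e ((P : Matrix (Fin n) (Fin n) F)ᵀ * G * (P : Matrix (Fin n) (Fin n) F))).det ≠ 0 := by
  constructor
  · rw [Matrix.transpose_reindex, Matrix.transpose_mul, Matrix.transpose_mul, Matrix.transpose_transpose, hs,
      Matrix.mul_assoc]
  · rw [Matrix.det_reindex_self, Matrix.det_mul, Matrix.det_mul, Matrix.det_transpose]
    have hP : (P : Matrix (Fin n) (Fin n) F).det ≠ 0 := by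
      have := (Matrix.isUnits_det_units P).ne_zero
      exact this
    exact mul_ne_zero (mul_ne_zero hP hd) hP

end Cfsg.Agent.Lib.Helper25.OAschLeaf
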