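import Mathlib
import Cfsg.Agent.Lib.Helper25.SpinMatrix
import Cfsg.Agent.Lib.Helper25.SpinOrth

/-!
The hyperbolic torus as a word of reflections (generic quadratic space): for a family of `m` mutually
orthogonal hyperbolic pairs `(u i, v i)` the map
`x ↦ x + Σ_{i ∈ S} ((t - 1) B(v i, x) • u i + (t⁻¹ - 1) B(u i, x) • v i)` (`u i ↦ t u i`, `v i ↦ t⁻¹ v i`,
identity on the orthogonal complement) is a product of `2 |S|` reflections whose norms multiply to
`t ^ |S|`.  Used for the spinor norm bookkeeping of S5681/S5709.
-/

set_option autoImplicit false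
set_option linter.unusedSectionVars false
set_option linter.unusedVariables false

namespace Cfsg.Agent.Lib.Helper25.OT
open Matrix QuadraticMap Cfsg.Agent.Lib.Helper25.CD Cfsg.Agent.Lib.Helper25.Spin

variable {F : Type*} [Field F] {V : Type*} [AddCommGroup V] [Module F V] (Q : QuadraticForm F V)

/-- a family of mutually orthogonal hyperbolic pairs -/
structure HypFam {m : ℕ} (u v : Fin m → V) : Prop where
  Qu : ∀ i, Q (u i) = 0
  Qv : ∀ i, Q (v i) = 0
  uv : ∀ i j, polar Q (u i) (v j) = if i = j then 1 else 0
  uu : ∀ i j, polar Q (u i) (u j) = 0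
  vv : ∀ i j, polar Q (v i) (v j) = 0

/-- the torus element scaling the pairs in `S` -/
noncomputable def torS {m : ℕ} (u v : Fin m → V) (S : Finset (Fin m)) (t : F) (x : V) : V :=
  x + ∑ i ∈ S, (((t - 1) * polar Q (v i) x) • u i + ((t⁻¹ - 1) * polar Q (u i) x) • v i)

theorem Q_hyp_sub {u v : V} (hu : Q u = 0) (hv : Q v = 0) (huv : polar Q u v = 1) (t : F) :
    Q (u - t • v) = -t := by
  have e : u - t • v = u + (-t) • v := by module
  rw [e, QuadraticMap.map_add (⇑Q), QuadraticMap.map_smul, hu, hv, polar_smul_right, huv]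
  simp

theorem hyp_refl_pair {u v : V} (hu : Q u = 0) (hv : Q v = 0) (huv : polar Q u v = 1) {t : F}
    (ht : t ≠ 0) (x : V) :
    reflE Q (u - v) (reflE Q (u - t • v) x) =
      x + ((t - 1) * polar Q v x) • u + ((t⁻¹ - 1) * polar Q u x) • v := by
  have hvu : polar Q v u = 1 := by rw [polar_comm]; exact huv
  have huu : polar Q u u = 0 := by rw [polar_self]; simp [hu]
  have hvv : polar Q v v = 0 := by rw [polar_self]; simp [hv]
  have h1 : u - v = u - (1 : F) • v := by rw [one_smul]
  rw [reflE_apply Q (u - t • v), Q_hyp_sub Q hu hv huv]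
  rw [h1, reflE_apply, Q_hyp_sub Q hu hv huv]
  simp only [polar_sub_left, polar_sub_right, polar_smul_left, polar_smul_right, polar_add_right,
    smul_eq_mul, huu, hvv, huv, hvu, one_smul]
  match_scalars <;> field_simp <;> ring

theorem exists_tor_word {m : ℕ} {u v : Fin m → V} (hf : HypFam Q u v) {t : F} (ht : t ≠ 0)
    (S : Finset (Fin m)) :
    ∃ vs : List V, (∀ w ∈ vs, Q w ≠ 0) ∧ Even vs.length ∧ normProd Q vs = t ^ S.card ∧
      ∀ x, wordProd Q vs x = torS Q u v S t x := by
  induction S using Finset.induction_on with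
  | empty =>
    refine ⟨[], by simp, by simp, by simp [normProd_nil], ?_⟩
    intro x
    rw [wordProd_nil]
    simp [torS]
  | insert a S ha ih =>
    obtain ⟨vs, h1, h2, h3, h4⟩ := ih
    refine ⟨(u a - v a) :: (u a - t • v a) :: vs, ?_, ?_, ?_, ?_⟩
    · intro w hw
      simp only [List.mem_cons] at hw
      rcases hw with rfl | rfl | hw
      · have := Q_hyp_sub Q (hf.Qu a) (hf.Qv a) (by rw [hf.uv, if_pos rfl]) 1
        rw [one_smul] at this
        rw [this]
        exact neg_ne_zero.2 one_ne_zero
      · rw [Q_hyp_sub Q (hf.Qu a) (hf.Qv a) (by rw [hf.uv, if_pos rfl])]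
        exact neg_ne_zero.2 ht
      · exact h1 w hw
    · rw [List.length_cons, List.length_cons]
      obtain ⟨k, hk⟩ := h2
      exact ⟨k + 1, by omega⟩
    · have e1 := Q_hyp_sub Q (hf.Qu a) (hf.Qv a) (by rw [hf.uv, if_pos rfl]) 1
      rw [one_smul] at e1
      rw [normProd_cons, normProd_cons, h3, e1,
        Q_hyp_sub Q (hf.Qu a) (hf.Qv a) (by rw [hf.uv, if_pos rfl]), Finset.card_insert_of_notMem ha]
      ring
    · intro x
      rw [wordProd_cons, wordProd_cons, LinearEquiv.mul_apply, LinearEquiv.mul_apply, h4,
        hyp_refl_pair Q (hf.Qu a) (hf.Qv a) (by rw [hf.uv, if_pos rfl]) ht]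
      have hva : polar Q (v a) (torS Q u v S t x) = polar Q (v a) x := by
        unfold torS
        rw [polar_add_right]
        have : polar Q (v a) (∑ i ∈ S, (((t - 1) * polar Q (v i) x) • u i +
            ((t⁻¹ - 1) * polar Q (u i) x) • v i)) = 0 := by
          rw [← polarBilin_apply_apply, map_sum]
          apply Finset.sum_eq_zero
          intro i hi
          have hia : i ≠ a := fun h => ha (h ▸ hi)
          rw [polarBilin_apply_apply, polar_add_right, polar_smul_right, polar_smul_right,
            polar_comm Q (v a) (u i), hf.uv, if_neg hia, hf.vv]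
          simp
        rw [this, add_zero]
      have hua : polar Q (u a) (torS Q u v S t x) = polar Q (u a) x := by
        unfold torS
        rw [polar_add_right]
        have : polar Q (u a) (∑ i ∈ S, (((t - 1) * polar Q (v i) x) • u i +
            ((t⁻¹ - 1) * polar Q (u i) x) • v i)) = 0 := by
          rw [← polarBilin_apply_apply, map_sum]
          apply Finset.sum_eq_zero
          intro i hi
          have hia : a ≠ i := fun h => ha (h ▸ hi)
          rw [polarBilin_apply_apply, polar_add_right, polar_smul_right, polar_smul_right,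
            hf.uu, hf.uv, if_neg hia]
          simp
        rw [this, add_zero]
      rw [hva, hua]
      unfold torS
      rw [Finset.sum_insert ha]
      abel

end Cfsg.Agent.Lib.Helper25.OT
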