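import Mathlib
import Cfsg.Agent.Lib.Helper25.OTOmega
import Cfsg.Agent.Lib.Helper25.OTTorus

/-!
S5681 / S5709: the black box (Ω-A) = (INV-R) of `notes/S5681_LA_plan.md`, in coordinate-free form.

For a hyperbolic pair `y, ys` of `B` (`fB G2 y y = 0 = fB G2 ys ys`, `fB G2 y ys = 1`) and `t ≠ 0`,
`torB G2 t y ys` is the torus element `y ↦ t y`, `ys ↦ t⁻¹ ys`, identity on `⟨y,ys⟩^⊥`; `reflA G1 d` is the
reflection of `A` along the nonsingular vector `d`.

* `exists_torus_mem` : `1 ⊗ torB t` is induced by an element `s` of `KG ∩ O(V)` of determinant one, which lies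
  in `Ω(V)` iff `t` is a square (`a` odd);
* `inv_refl` : for every nonsingular `d ∈ A` there are `t ≠ 0` and `g ∈ KG ⊓ Ω(V)` with
  `g (x ⊗ v) = -(r_d x ⊗ torB t v)`.
-/

set_option autoImplicit false
set_option linter.unusedSectionVars false
set_option linter.unusedVariables false

namespace Cfsg.Agent.Lib.Helper25.OT
open Matrix QuadraticMap
open Cfsg.Agent.Lib.Helper25.Tens Cfsg.Agent.Lib.Helper19.OSub Cfsg.Agent.Lib.Helper2.SOT
open Cfsg.Agent.Lib.Helper7.OTT Cfsg.Agent.Lib.Helper25.CD Cfsg.Agent.Lib.Helper25.Spin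
open scoped Kronecker

variable {F : Type*} [Field F] {a b : ℕ}

/-- the reflection of `A` along the nonsingular vector `d` -/
def reflA (G1 : Matrix (Fin a) (Fin a) F) (d x : Fin a → F) : Fin a → F :=
  x - (2 * fB G1 d x / fB G1 d d) • d

/-- the torus element `y ↦ t y`, `ys ↦ t⁻¹ ys`, identity on `⟨y, ys⟩^⊥` -/
def torB (G2 : Matrix (Fin b) (Fin b) F) (t : F) (y ys v : Fin b → F) : Fin b → F :=
  v + ((t - 1) * fB G2 ys v) • y + ((t⁻¹ - 1) * fB G2 y v) • ys

variable {G1 : Matrix (Fin a) (Fin a) F} {G2 : Matrix (Fin b) (Fin b) F}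

lemma torB_one (y ys v : Fin b → F) : torB G2 1 y ys v = v := by
  unfold torB
  simp

variable [Fintype F]

/-- the reflection `r_d` as an element of `O(A)` acts by `reflA` -/
lemma mv_reflM_A (h : Ctx a b G1 G2) {d : Fin a → F} (hd : fB G1 d d ≠ 0) (x : Fin a → F) :
    mv ((reflM (QA G1) d : ↥(Cfsg.isometryGroup F ⇑(QA G1))) : GL (Fin a) F) x = reflA G1 d x := by
  have e : mv ((reflM (QA G1) d : ↥(Cfsg.isometryGroup F ⇑(QA G1))) : GL (Fin a) F) x =
      toOG (QA G1) (reflM (QA G1) d) x := (toOG_apply (QA G1) _ x).symm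
  rw [e, toOG_reflM, reflE_apply, QA_apply, polar_QA h.symm1 h.two]
  unfold reflA
  congr 2
  have := h.two
  field_simp

/-- the torus element of `B` as a product of two reflections -/
lemma mv_torus_B (h : Ctx a b G1 G2) {y ys : Fin b → F} (hy : fB G2 y y = 0)
    (hys : fB G2 ys ys = 0) (hyy : fB G2 y ys = 1) {t : F} (ht : t ≠ 0) (v : Fin b → F) :
    mv ((wordG (QB G2) [y - ys, y - t • ys] : ↥(Cfsg.isometryGroup F ⇑(QB G2))) : GL (Fin b) F) v =
      torB G2 t y ys v := by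
  have e : mv ((wordG (QB G2) [y - ys, y - t • ys] : ↥(Cfsg.isometryGroup F ⇑(QB G2))) :
      GL (Fin b) F) v = toOG (QB G2) (wordG (QB G2) [y - ys, y - t • ys]) v :=
    (toOG_apply (QB G2) _ v).symm
  rw [e, toOG_wordG, wordProd_cons, wordProd_cons, wordProd_nil, mul_one, LinearEquiv.mul_apply,
    hyp_refl_pair (QB G2) ((QB_eq_zero_iff G2 h.two y).2 hy) ((QB_eq_zero_iff G2 h.two ys).2 hys)
      (by rw [polar_QB h.symm2 h.two]; exact hyy) ht,
    polar_QB h.symm2 h.two, polar_QB h.symm2 h.two]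
  rfl

omit [Fintype F] in
lemma inv_symm {G : Matrix (Fin a) (Fin a) F} (hs : Gᵀ = G) : (G⁻¹)ᵀ = G⁻¹ := by
  rw [Matrix.transpose_nonsing_inv, hs]

omit [Fintype F] in
/-- `fB G (G⁻¹ e_i) x = x i` -/
lemma fB_inv_single {G : Matrix (Fin a) (Fin a) F} (hs : Gᵀ = G) (hd : G.det ≠ 0) (i : Fin a)
    (x : Fin a → F) : fB G (G⁻¹ *ᵥ Pi.single i 1) x = x i := by
  unfold fB
  rw [Matrix.dotProduct_mulVec, Matrix.vecMul_mulVec, ← Matrix.dotProduct_mulVec]
  have : (G⁻¹)ᵀ * G = 1 := by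
    rw [inv_symm hs]
    exact Matrix.nonsing_inv_mul G (isUnit_iff_ne_zero.2 hd)
  rw [this, Matrix.one_mulVec, single_dotProduct, one_mul]


omit [Fintype F] in
/-- `fB G (e_i) x = (G x) i` -/
lemma fB_single_left (G : Matrix (Fin a) (Fin a) F) (i : Fin a) (x : Fin a → F) :
    fB G (Pi.single i 1) x = (G *ᵥ x) i := by
  unfold fB
  rw [single_dotProduct, one_mul]

omit [Fintype F] in
/-- `Σ_i z i • G⁻¹ e_i = G⁻¹ z` -/
lemma sum_smul_inv_single (G : Matrix (Fin a) (Fin a) F) (z : Fin a → F) :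
    ∑ i, z i • (G⁻¹ *ᵥ Pi.single i (1 : F)) = G⁻¹ *ᵥ z := by
  have : z = ∑ i, z i • (Pi.single i (1 : F) : Fin a → F) := by
    ext j
    simp [Finset.sum_apply, Pi.single_apply]
  conv_rhs => rw [this]
  rw [Matrix.mulVec_sum]
  apply Finset.sum_congr rfl
  intro i _
  rw [Matrix.mulVec_smul]

/-- the hyperbolic family `e_i ⊗ y`, `G1⁻¹ e_i ⊗ ys` of `V` -/
lemma hypFam_V (h : Ctx a b G1 G2) {y ys : Fin b → F} (hy : fB G2 y y = 0)
    (hys : fB G2 ys ys = 0) (hyy : fB G2 y ys = 1) :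
    HypFam (QV G1 G2) (fun i : Fin a => pt (Pi.single i (1 : F)) y)
      (fun i : Fin a => pt (G1⁻¹ *ᵥ Pi.single i (1 : F)) ys) where
  Qu i := by rw [QV_pt, hy, mul_zero, mul_zero]
  Qv i := by rw [QV_pt, hys, mul_zero, mul_zero]
  uv i j := by
    rw [polar_QV h.symm1 h.symm2 h.two, fV_pt, hyy, mul_one, fB_comm G1 h.symm1,
      fB_inv_single h.symm1 h.nd1, Pi.single_apply]
    by_cases hij : i = j
    · rw [if_pos hij, if_pos hij.symm]
    · rw [if_neg hij, if_neg (Ne.symm hij)]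
  uu i j := by rw [polar_QV h.symm1 h.symm2 h.two, fV_pt, hy, mul_zero]
  vv i j := by rw [polar_QV h.symm1 h.symm2 h.two, fV_pt, hys, mul_zero]

/-- the torus of the family on pure tensors -/
lemma torS_pt (h : Ctx a b G1 G2) {y ys : Fin b → F} (t : F) (x : Fin a → F) (v : Fin b → F) :
    torS (QV G1 G2) (fun i : Fin a => pt (Pi.single i (1 : F)) y)
      (fun i : Fin a => pt (G1⁻¹ *ᵥ Pi.single i (1 : F)) ys) Finset.univ t (pt x v) =
      pt x (torB G2 t y ys v) := by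
  unfold torS torB
  rw [Finset.sum_add_distrib, pt_add_right, pt_add_right, pt_smul_right, pt_smul_right, add_assoc]
  congr 1
  congr 1
  · -- the `y`-part
    have e : ∀ i : Fin a, ((t - 1) * polar (QV G1 G2) (pt (G1⁻¹ *ᵥ Pi.single i (1 : F)) ys)
        (pt x v)) • pt (Pi.single i (1 : F)) y =
        ((t - 1) * fB G2 ys v) • (x i • pt (Pi.single i (1 : F)) y) := by
      intro i
      rw [polar_QV h.symm1 h.symm2 h.two, fV_pt, fB_inv_single h.symm1 h.nd1, smul_smul]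
      congr 1
      ring
    rw [Finset.sum_congr rfl (fun i _ => e i), ← Finset.smul_sum, ← pt_eq_sum_left]
  · -- the `ys`-part
    have e : ∀ i : Fin a, ((t⁻¹ - 1) * polar (QV G1 G2) (pt (Pi.single i (1 : F)) y)
        (pt x v)) • pt (G1⁻¹ *ᵥ Pi.single i (1 : F)) ys =
        ((t⁻¹ - 1) * fB G2 y v) • pt ((G1 *ᵥ x) i • (G1⁻¹ *ᵥ Pi.single i (1 : F))) ys := by
      intro i
      rw [polar_QV h.symm1 h.symm2 h.two, fV_pt, fB_single_left, pt_smul_left, smul_smul]
      congr 1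
      ring
    rw [Finset.sum_congr rfl (fun i _ => e i), ← Finset.smul_sum]
    congr 1
    have e2 : ∑ i, pt ((G1 *ᵥ x) i • (G1⁻¹ *ᵥ Pi.single i (1 : F))) ys =
        pt (∑ i, (G1 *ᵥ x) i • (G1⁻¹ *ᵥ Pi.single i (1 : F))) ys := by
      ext ⟨i', l'⟩
      simp only [pt, Finset.sum_apply, Finset.sum_mul]
    rw [e2, sum_smul_inv_single, Matrix.mulVec_mulVec,
      Matrix.nonsing_inv_mul G1 (isUnit_iff_ne_zero.2 h.nd1), Matrix.one_mulVec]


/-- `1 ⊗ torB t` is induced by an element of `KG ∩ O(V)` which is a word of `2a` reflections with norm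
product `t ^ a` -/
theorem exists_torus_elt (h : Ctx a b G1 G2) {y ys : Fin b → F} (hy : fB G2 y y = 0)
    (hys : fB G2 ys ys = 0) (hyy : fB G2 y ys = 1) {t : F} (ht : t ≠ 0) :
    ∃ s : ↥(OV G1 G2), (s : GL (Idx a b) F) ∈ KG a b F ∧
      (∀ (x : Fin a → F) (v : Fin b → F),
        mv (s : GL (Idx a b) F) (pt x v) = pt x (torB G2 t y ys v)) ∧
      ∃ ws : List (Idx a b → F), (∀ w ∈ ws, QV G1 G2 w ≠ 0) ∧ Even ws.length ∧
        normProd (QV G1 G2) ws = t ^ a ∧ wordG (QV G1 G2) ws = s := by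
  obtain ⟨β, hβ⟩ : ∃ β : ↥(Cfsg.isometryGroup F ⇑(QB G2)),
      β = wordG (QB G2) [y - ys, y - t • ys] := ⟨_, rfl⟩
  have hact : ∀ (x : Fin a → F) (v : Fin b → F),
      mv (kel (1 : GL (Fin a) F) (β : GL (Fin b) F)) (pt x v) = pt x (torB G2 t y ys v) := by
    intro x v
    have := kel_mulVec_pt (1 : GL (Fin a) F) (β : GL (Fin b) F) x v
    rw [Units.val_one, Matrix.one_mulVec] at this
    rw [← mv_torus_B h hy hys hyy ht v, ← hβ]
    exact this
  obtain ⟨ws, hws, hev, hnp, hwp⟩ := exists_tor_word (QV G1 G2) (hypFam_V h hy hys hyy) ht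
    Finset.univ
  refine ⟨⟨kel 1 β.1, kel_mem_OV h (one_mem _) β.2⟩, kel_mem_KG _ _, hact, ws, hws, hev, ?_, ?_⟩
  · rw [hnp, Finset.card_univ, Fintype.card_fin]
  · apply Subtype.ext
    apply Units.ext
    apply eq_wordG_of_apply
    intro x
    refine Cfsg.Agent.Lib.Helper7.SOTLeaf.pt_ind (p := fun x =>
      ((kel (1 : GL (Fin a) F) (β : GL (Fin b) F) : GL (Idx a b) F) :
        Matrix (Idx a b) (Idx a b) F) *ᵥ x = wordProd (QV G1 G2) ws x) ?_ ?_ ?_ x
    · rw [Matrix.mulVec_zero, map_zero]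
    · intro v v' hv hv'
      rw [Matrix.mulVec_add, map_add, hv, hv']
    · intro x v
      rw [hwp, torS_pt h]
      exact hact x v

/-- (Ω-A) = (INV-R): for every nonsingular `d ∈ A` some `-(r_d ⊗ torB t)` lies in `H = KG ⊓ Ω(V)` -/
theorem inv_refl (h : Ctx a b G1 G2) (hoa : Odd a) {d : Fin a → F} (hd : fB G1 d d ≠ 0)
    {y ys : Fin b → F}
    (hy : fB G2 y y = 0) (hys : fB G2 ys ys = 0) (hyy : fB G2 y ys = 1) :
    ∃ (t : F) (g : GL (Idx a b) F), t ≠ 0 ∧ g ∈ KG a b F ⊓ OmV G1 G2 ∧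
      ∀ (x : Fin a → F) (v : Fin b → F),
        mv g (pt x v) = -pt (reflA G1 d x) (torB G2 t y ys v) := by
  have h2 := h.two
  have hQd : QA G1 d ≠ 0 := by
    rw [QA_apply]
    exact mul_ne_zero (inv_ne_zero h2) hd
  -- `-r_d ∈ O(A)`
  obtain ⟨r, hr⟩ : ∃ r : ↥(Cfsg.isometryGroup F ⇑(QA G1)), r = reflM (QA G1) d := ⟨_, rfl⟩
  have hnr : (-(r : GL (Fin a) F)) ∈ Cfsg.isometryGroup F ⇑(QA G1) := by
    intro u _
    show QA G1 ((-(r : GL (Fin a) F) : GL (Fin a) F).1 *ᵥ u) = QA G1 u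
    rw [Units.val_neg, Matrix.neg_mulVec, QuadraticMap.map_neg]
    exact r.2 u u
  have hmvn : ∀ x, mv (-(r : GL (Fin a) F)) x = -reflA G1 d x := by
    intro x
    show (-(r : GL (Fin a) F) : GL (Fin a) F).1 *ᵥ x = _
    rw [Units.val_neg, Matrix.neg_mulVec, ← mv_reflM_A h hd x, hr]
  -- `g₀ = (-r_d) ⊗ 1`
  have hg₀ : kel (-(r : GL (Fin a) F)) (1 : GL (Fin b) F) ∈ OV G1 G2 :=
    kel_mem_OV h hnr (one_mem _)
  have hact₀ : ∀ (x : Fin a → F) (v : Fin b → F),
      mv (kel (-(r : GL (Fin a) F)) (1 : GL (Fin b) F)) (pt x v) = -pt (reflA G1 d x) v := by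
    intro x v
    have := kel_mulVec_pt (-(r : GL (Fin a) F)) (1 : GL (Fin b) F) x v
    rw [Units.val_one, Matrix.one_mulVec] at this
    have e : pt (-reflA G1 d x) v = -pt (reflA G1 d x) v := by
      rw [← neg_one_smul F (reflA G1 d x), pt_smul_left, neg_one_smul]
    rw [← e, ← hmvn x]
    exact this
  have hdet₀ : ((kel (-(r : GL (Fin a) F)) (1 : GL (Fin b) F) : GL (Idx a b) F) :
      Matrix (Idx a b) (Idx a b) F).det = 1 := by
    rw [kel_det, Units.val_one, Matrix.det_one, one_pow, mul_one, Units.val_neg, Matrix.det_neg,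
      Fintype.card_fin, hr, reflM_coe, det_reflectionMatrix (QA G1) h2 hQd, hoa.neg_one_pow]
    simp
  obtain ⟨vs, hvs, hword⟩ := exists_word (QV G1 G2) h2 (QV_nondeg h)
    ⟨kel (-(r : GL (Fin a) F)) (1 : GL (Fin b) F), hg₀⟩
  have hev : Even vs.length := by
    have hd' := det_wordG (QV G1 G2) h2 hvs
    rw [hword] at hd'
    rw [show (((⟨kel (-(r : GL (Fin a) F)) (1 : GL (Fin b) F), hg₀⟩ : ↥(OV G1 G2)) :
      GL (Idx a b) F) : Matrix (Idx a b) (Idx a b) F) =
      ((kel (-(r : GL (Fin a) F)) (1 : GL (Fin b) F) : GL (Idx a b) F) :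
        Matrix (Idx a b) (Idx a b) F) from rfl, hdet₀] at hd'
    have hne : (-1 : F) ≠ 1 := by
      intro h1
      apply h2
      have : (1 : F) + 1 = 0 := by
        nth_rewrite 1 [← h1]
        ring
      rw [← this]
      ring
    exact (neg_one_pow_eq_one_iff_even hne).1 hd'.symm
  by_cases hsq : IsSquare (normProd (QV G1 G2) vs)
  · -- `g₀ ∈ Ω`
    refine ⟨1, kel (-(r : GL (Fin a) F)) (1 : GL (Fin b) F), one_ne_zero,
      ⟨kel_mem_KG _ _, ?_⟩, ?_⟩
    · refine ⟨⟨kel (-(r : GL (Fin a) F)) (1 : GL (Fin b) F), hg₀⟩, ?_, rfl⟩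
      rw [← hword]
      exact (mem_omega_iff (QV G1 G2) h2 (QV_nondeg h) hvs).2 ⟨hev, hsq⟩
    · intro x v
      rw [torB_one]
      exact hact₀ x v
  · -- correct by a torus element of nonsquare spinor norm
    obtain ⟨ν, hν⟩ := FiniteField.exists_nonsquare (ringChar_ne_two h2)
    have hν0 : ν ≠ 0 := by
      rintro rfl
      exact hν ⟨0, by simp⟩
    obtain ⟨s, hsK, hsact, ws, hws, hwev, hwnp, hwword⟩ :=
      exists_torus_elt h hy hys hyy hν0
    refine ⟨ν, kel (-(r : GL (Fin a) F)) (1 : GL (Fin b) F) * (s : GL (Idx a b) F), hν0,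
      ⟨Subgroup.mul_mem _ (kel_mem_KG _ _) hsK, ?_⟩, ?_⟩
    · refine ⟨⟨kel (-(r : GL (Fin a) F)) (1 : GL (Fin b) F), hg₀⟩ * s, ?_, rfl⟩
      rw [← hword, ← hwword, ← wordG_append]
      have hall : ∀ v ∈ vs ++ ws, QV G1 G2 v ≠ 0 := by
        intro v hv
        rcases List.mem_append.1 hv with h' | h'
        · exact hvs v h'
        · exact hws v h'
      apply (mem_omega_iff (QV G1 G2) h2 (QV_nondeg h) hall).2
      refine ⟨?_, ?_⟩
      · rw [List.length_append]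
        exact hev.add hwev
      · rw [normProd_append, isSquare_mul_iff (normProd_ne_zero _ hvs) (normProd_ne_zero _ hws),
          hwnp]
        constructor
        · intro h'
          exact absurd h' hsq
        · intro h'
          exfalso
          obtain ⟨k, hk⟩ := hoa
          rw [hk, pow_succ, pow_mul] at h'
          have h3 : IsSquare ((ν ^ 2) ^ k) := by
            rw [← pow_mul, mul_comm, pow_mul]
            exact ⟨ν ^ k, by ring⟩
          have hk0 : (ν ^ 2) ^ k ≠ 0 := pow_ne_zero _ (pow_ne_zero _ hν0)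
          rw [isSquare_mul_iff hk0 hν0] at h'
          exact hν (h'.1 h3)
    · intro x v
      rw [mv_mul, hsact, hact₀]

end Cfsg.Agent.Lib.Helper25.OT
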