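import Mathlib
import Cfsg.Agent.Lib.Helper25.OTInvR
import Cfsg.Agent.Lib.Helper13.OTLADefs
import Cfsg.Agent.Lib.Helper12.UOGRE

/-!
S5681 / S5709: the instance of helper13's local context `LCtx` (`OTLADefs`) for `Om := Ω(V) = OmV G1 G2`,
`G2` ADAPTED to `(o, o', p, p')`:  `lctx_of_adp : MCtx a b G1 G2 M → Adp G2 o o' p p' → LCtx G1 G2 o o' p p' (OmV G1 G2) M`.
All `Ω`-facts come from `OTOmega` / `OTInvR`.
-/

set_option autoImplicit false
set_option linter.unusedSectionVars false
set_option linter.unusedVariables false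

namespace Cfsg.Agent.Lib.Helper25.OT
open Matrix QuadraticMap
open Cfsg.Agent.Lib.Helper25.Tens Cfsg.Agent.Lib.Helper19.OSub Cfsg.Agent.Lib.Helper2.SOT
open Cfsg.Agent.Lib.Helper7.OTT Cfsg.Agent.Lib.Helper25.CD Cfsg.Agent.Lib.Helper25.Spin
open Cfsg.Agent.Lib.Helper13
open scoped Kronecker

variable {F : Type*} [Field F] {a b : ℕ}
variable {G1 : Matrix (Fin a) (Fin a) F} {G2 : Matrix (Fin b) (Fin b) F}

/-! ### generalities -/

/-- two elements of `GL` agreeing on the pure tensors are equal -/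
lemma gl_ext_pt {g g' : GL (Idx a b) F}
    (h : ∀ (x : Fin a → F) (v : Fin b → F), mv g (pt x v) = mv g' (pt x v)) : g = g' := by
  apply gl_ext
  intro w
  refine Cfsg.Agent.Lib.Helper7.SOTLeaf.pt_ind (p := fun w => mv g w = mv g' w) ?_ ?_ ?_ w
  · rw [mv_zero, mv_zero]
  · intro v v' hv hv'
    rw [mv_add, mv_add, hv, hv']
  · exact h

/-- the diagonal element of `GL` -/
def diagGL (D : Fin b → F) (hD : ∀ k, D k ≠ 0) : GL (Fin b) F where
  val := Matrix.diagonal D
  inv := Matrix.diagonal (fun k => (D k)⁻¹)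
  val_inv := by
    rw [Matrix.diagonal_mul_diagonal, ← Matrix.diagonal_one]
    congr 1
    funext k
    exact mul_inv_cancel₀ (hD k)
  inv_val := by
    rw [Matrix.diagonal_mul_diagonal, ← Matrix.diagonal_one]
    congr 1
    funext k
    exact inv_mul_cancel₀ (hD k)

lemma mv_diagGL (D : Fin b → F) (hD : ∀ k, D k ≠ 0) (v : Fin b → F) :
    mv (diagGL D hD) v = fun k => D k * v k := by
  funext k
  show (Matrix.diagonal D *ᵥ v) k = _
  rw [Matrix.mulVec_diagonal]

/-- the diagonal of helper13's torus -/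
def torD (o o' p p' : Fin b) (t₁ t₂ : F) (k : Fin b) : F :=
  if k = o then t₁ else if k = o' then t₂ else if k = p then t₁⁻¹ else if k = p' then t₂⁻¹ else 1

lemma torD_ne_zero (o o' p p' : Fin b) {t₁ t₂ : F} (h₁ : t₁ ≠ 0) (h₂ : t₂ ≠ 0) (k : Fin b) :
    torD o o' p p' t₁ t₂ k ≠ 0 := by
  unfold torD
  split_ifs
  · exact h₁
  · exact h₂
  · exact inv_ne_zero h₁
  · exact inv_ne_zero h₂
  · exact one_ne_zero

/-! ### adapted Gram matrices -/

section adapted
variable {o o' p p' : Fin b}

lemma adp_fB_o (hadp : OTLA.Adp G2 o o' p p') (v : Fin b → F) :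
    fB G2 (Pi.single o 1) v = v p := by
  unfold fB
  rw [single_one_dotProduct]
  show ∑ k, G2 o k * v k = v p
  rw [Finset.sum_eq_single p]
  · rw [hadp.row_o, if_pos rfl, one_mul]
  · intro k _ hk
    rw [hadp.row_o, if_neg hk, zero_mul]
  · intro h; exact absurd (Finset.mem_univ p) h

lemma adp_fB_o' (hadp : OTLA.Adp G2 o o' p p') (v : Fin b → F) :
    fB G2 (Pi.single o' 1) v = v p' := by
  unfold fB
  rw [single_one_dotProduct]
  show ∑ k, G2 o' k * v k = v p'
  rw [Finset.sum_eq_single p']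
  · rw [hadp.row_o', if_pos rfl, one_mul]
  · intro k _ hk
    rw [hadp.row_o', if_neg hk, zero_mul]
  · intro h; exact absurd (Finset.mem_univ p') h

lemma adp_fB_p (hadp : OTLA.Adp G2 o o' p p') (v : Fin b → F) :
    fB G2 (Pi.single p 1) v = v o := by
  unfold fB
  rw [single_one_dotProduct]
  show ∑ k, G2 p k * v k = v o
  rw [Finset.sum_eq_single o]
  · rw [hadp.row_p, if_pos rfl, one_mul]
  · intro k _ hk
    rw [hadp.row_p, if_neg hk, zero_mul]
  · intro h; exact absurd (Finset.mem_univ o) h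

lemma adp_fB_p' (hadp : OTLA.Adp G2 o o' p p') (v : Fin b → F) :
    fB G2 (Pi.single p' 1) v = v o' := by
  unfold fB
  rw [single_one_dotProduct]
  show ∑ k, G2 p' k * v k = v o'
  rw [Finset.sum_eq_single o']
  · rw [hadp.row_p', if_pos rfl, one_mul]
  · intro k _ hk
    rw [hadp.row_p', if_neg hk, zero_mul]
  · intro h; exact absurd (Finset.mem_univ o') h

/-- the coordinate-free torus on the pair `(e_o, e_p)` in adapted coordinates -/
lemma torB_adp_o (hadp : OTLA.Adp G2 o o' p p') (t : F) (v : Fin b → F) :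
    torB G2 t (Pi.single o 1) (Pi.single p 1) v =
      fun k => (if k = o then t else if k = p then t⁻¹ else 1) * v k := by
  unfold torB
  rw [adp_fB_p hadp, adp_fB_o hadp]
  funext k
  simp only [Pi.add_apply, Pi.smul_apply, Pi.single_apply, smul_eq_mul]
  by_cases hk : k = o
  · subst hk
    rw [if_pos rfl, if_neg hadp.hop, if_pos rfl]
    ring
  · rw [if_neg hk, if_neg hk]
    by_cases hk2 : k = p
    · subst hk2
      rw [if_pos rfl, if_pos rfl]
      ring
    · rw [if_neg hk2, if_neg hk2]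
      ring

/-- the coordinate-free torus on the pair `(e_o', e_p')` in adapted coordinates -/
lemma torB_adp_o' (hadp : OTLA.Adp G2 o o' p p') (t : F) (v : Fin b → F) :
    torB G2 t (Pi.single o' 1) (Pi.single p' 1) v =
      fun k => (if k = o' then t else if k = p' then t⁻¹ else 1) * v k := by
  unfold torB
  rw [adp_fB_p' hadp, adp_fB_o' hadp]
  funext k
  simp only [Pi.add_apply, Pi.smul_apply, Pi.single_apply, smul_eq_mul]
  by_cases hk : k = o'
  · subst hk
    rw [if_pos rfl, if_neg hadp.ho'p', if_pos rfl]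
    ring
  · rw [if_neg hk, if_neg hk]
    by_cases hk2 : k = p'
    · subst hk2
      rw [if_pos rfl, if_pos rfl]
      ring
    · rw [if_neg hk2, if_neg hk2]
      ring

end adapted


/-! ### the instance -/

section inst
variable [Fintype F] {o o' p p' : Fin b} {M : Subgroup (GL (Idx a b) F)}

lemma adp_hyp_o (hadp : OTLA.Adp G2 o o' p p') :
    fB G2 (Pi.single o 1) (Pi.single o 1) = 0 ∧ fB G2 (Pi.single p 1) (Pi.single p 1) = 0 ∧
      fB G2 (Pi.single o 1) (Pi.single p 1) = (1 : F) := by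
  refine ⟨?_, ?_, ?_⟩
  · rw [adp_fB_o hadp, Pi.single_apply, if_neg (Ne.symm hadp.hop)]
  · rw [adp_fB_p hadp, Pi.single_apply, if_neg hadp.hop]
  · rw [adp_fB_o hadp, Pi.single_apply, if_pos rfl]

lemma adp_hyp_o' (hadp : OTLA.Adp G2 o o' p p') :
    fB G2 (Pi.single o' 1) (Pi.single o' 1) = 0 ∧ fB G2 (Pi.single p' 1) (Pi.single p' 1) = 0 ∧
      fB G2 (Pi.single o' 1) (Pi.single p' 1) = (1 : F) := by
  refine ⟨?_, ?_, ?_⟩
  · rw [adp_fB_o' hadp, Pi.single_apply, if_neg (Ne.symm hadp.ho'p')]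
  · rw [adp_fB_p' hadp, Pi.single_apply, if_neg hadp.ho'p']
  · rw [adp_fB_o' hadp, Pi.single_apply, if_pos rfl]

/-- the adapted line is totally singular -/
lemma adp_TSL (hadp : OTLA.Adp G2 o o' p p') :
    TSL G2 (Pi.single o (1 : F)) (Pi.single o' (1 : F)) where
  yy := (adp_hyp_o hadp).1
  zz := (adp_hyp_o' hadp).1
  yz := by rw [adp_fB_o hadp, Pi.single_apply, if_neg (Ne.symm hadp.ho'p)]
  li := by
    rw [LinearIndependent.pair_iff]
    intro s t hst
    have h1 := congrFun hst o
    have h2 := congrFun hst o'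
    simp only [Pi.add_apply, Pi.smul_apply, Pi.single_apply, smul_eq_mul, Pi.zero_apply] at h1 h2
    rw [if_pos trivial, if_neg hadp.hoo'] at h1
    rw [if_neg (Ne.symm hadp.hoo'), if_pos trivial] at h2
    constructor
    · simpa using h1
    · simpa using h2

/-- (Ω-B) the torus `1 ⊗ β_{t,t}` lies in `Ω(V)` -/
lemma om_tor_adp (h : Ctx a b G1 G2) (hadp : OTLA.Adp G2 o o' p p') {t : F} (ht : t ≠ 0) :
    (kel (1 : GL (Fin a) F) (diagGL (torD o o' p p' t t) (torD_ne_zero o o' p p' ht ht)) :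
      GL (Idx a b) F) ∈ OmV G1 G2 := by
  obtain ⟨hy, hys, hyy⟩ := adp_hyp_o hadp
  obtain ⟨hz, hzs, hzz⟩ := adp_hyp_o' hadp
  have h2 := h.two
  set y : Fin b → F := Pi.single o 1 with hy_def
  set ys : Fin b → F := Pi.single p 1 with hys_def
  set z : Fin b → F := Pi.single o' 1 with hz_def
  set zs : Fin b → F := Pi.single p' 1 with hzs_def
  have hQ : ∀ {u v : Fin b → F}, fB G2 u u = 0 → fB G2 v v = 0 → fB G2 u v = 1 → ∀ s : F,
      QB G2 (u - s • v) = -s := by
    intro u v hu hv huv s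
    exact Q_hyp_sub (QB G2) ((QB_eq_zero_iff G2 h2 u).2 hu) ((QB_eq_zero_iff G2 h2 v).2 hv)
      (by rw [polar_QB h.symm2 h2]; exact huv) s
  have hQ1 : ∀ {u v : Fin b → F}, fB G2 u u = 0 → fB G2 v v = 0 → fB G2 u v = 1 →
      QB G2 (u - v) = -1 := by
    intro u v hu hv huv
    have := hQ hu hv huv 1
    rwa [one_smul] at this
  have hws : ∀ w ∈ [y - ys, y - t • ys] ++ [z - zs, z - t • zs], QB G2 w ≠ 0 := by
    intro w hw
    simp only [List.cons_append, List.nil_append, List.mem_cons, List.not_mem_nil, or_false] at hw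
    rcases hw with rfl | rfl | rfl | rfl
    · rw [hQ1 hy hys hyy]; exact neg_ne_zero.2 one_ne_zero
    · rw [hQ hy hys hyy]; exact neg_ne_zero.2 ht
    · rw [hQ1 hz hzs hzz]; exact neg_ne_zero.2 one_ne_zero
    · rw [hQ hz hzs hzz]; exact neg_ne_zero.2 ht
  have hmem : wordG (QB G2) ([y - ys, y - t • ys] ++ [z - zs, z - t • zs]) ∈
      Cfsg.Omega F ⇑(QB G2) := by
    apply (mem_omega_iff (QB G2) h2 (QB_nondeg h) hws).2
    refine ⟨⟨2, rfl⟩, ?_⟩
    rw [normProd_append, normProd_cons, normProd_cons, normProd_nil, normProd_cons, normProd_cons,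
      normProd_nil, hQ1 hy hys hyy, hQ hy hys hyy, hQ1 hz hzs hzz, hQ hz hzs hzz]
    exact ⟨t, by ring⟩
  have heq : ((wordG (QB G2) ([y - ys, y - t • ys] ++ [z - zs, z - t • zs]) :
      ↥(Cfsg.isometryGroup F ⇑(QB G2))) : GL (Fin b) F) =
      diagGL (torD o o' p p' t t) (torD_ne_zero o o' p p' ht ht) := by
    apply gl_ext
    intro v
    rw [wordG_append, Subgroup.coe_mul, mv_mul, mv_torus_B h hz hzs hzz ht,
      mv_torus_B h hy hys hyy ht, torB_adp_o hadp, torB_adp_o' hadp, mv_diagGL]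
    funext k
    show (if k = o then t else if k = p then t⁻¹ else 1) *
      ((if k = o' then t else if k = p' then t⁻¹ else 1) * v k) = torD o o' p p' t t k * v k
    unfold torD
    by_cases h1 : k = o
    · have h1' : k ≠ o' := by rw [h1]; exact hadp.hoo'
      have h1'' : k ≠ p' := by rw [h1]; exact hadp.hop'
      rw [if_pos h1, if_neg h1', if_neg h1'', if_pos h1]
      ring
    · rw [if_neg h1, if_neg h1]
      by_cases h2' : k = o'
      · have h3 : k ≠ p := by rw [h2']; exact hadp.ho'p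
        rw [if_pos h2', if_neg h3, if_pos h2']
        ring
      · rw [if_neg h2', if_neg h2']
        by_cases h3 : k = p
        · have h4 : k ≠ p' := by rw [h3]; exact hadp.hpp'
          rw [if_pos h3, if_neg h4, if_pos h3]
          ring
        · rw [if_neg h3, if_neg h3]
          by_cases h4 : k = p'
          · rw [if_pos h4]
            ring
          · rw [if_neg h4]
            ring
  rw [← heq]
  exact kel_one_mem_OmV h ⟨_, hmem, rfl⟩

/-- helper27's reflection matrix is the matrix of the reflection of `QA G1` -/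
lemma reflM_coe_eq_refl (h : Ctx a b G1 G2) {d : Fin a → F} (hd : fB G1 d d ≠ 0) :
    (((reflM (QA G1) d : ↥(Cfsg.isometryGroup F ⇑(QA G1))) : GL (Fin a) F) :
      Matrix (Fin a) (Fin a) F) = Cfsg.Agent.Lib.Helper27.SOTLA.refl G1 d := by
  apply Matrix.mulVec_injective
  funext x
  have e := mv_reflM_A h hd x
  unfold mv at e
  rw [e]
  unfold reflA Cfsg.Agent.Lib.Helper27.SOTLA.refl
  rw [Matrix.sub_mulVec, Matrix.one_mulVec, Matrix.smul_mulVec,
    Cfsg.Agent.Lib.Helper27.SOTLA.rk1_mulVec, smul_smul, fB_comm G1 h.symm1 x d]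
  congr 2
  field_simp

/-- the instance of helper13's local BASE context for `Om = Ω(V)` in adapted coordinates (no parity
condition: common to the unswapped cases and to the swapped case of S5709) -/
theorem lbase_of_adp (h : MCtx a b G1 G2 M) (hadp : OTLA.Adp G2 o o' p p') :
    OTLA.LBase G1 G2 o o' p p' (OmV G1 G2) M := by
  have hc : Ctx a b G1 G2 := h.toCtx
  have h2 := hc.two
  have hK : (G1 ⊗ₖ G2 : Matrix (Idx a b) (Idx a b) F)ᵀ = G1 ⊗ₖ G2 := kron_symm hc.symm1 hc.symm2
  obtain ⟨hy, hys, hyy⟩ := adp_hyp_o hadp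
  obtain ⟨hz, hzs, hzz⟩ := adp_hyp_o' hadp
  have hpo' : fB G2 (Pi.single p' (1 : F)) (Pi.single o (1 : F)) = 0 := by
    rw [adp_fB_p' hadp, Pi.single_apply, if_neg (Ne.symm hadp.hoo')]
  have hpo'' : fB G2 (Pi.single p (1 : F)) (Pi.single o' (1 : F)) = 0 := by
    rw [adp_fB_p hadp, Pi.single_apply, if_neg hadp.hoo']
  refine
    { symm1 := hc.symm1, symm2 := hc.symm2, nd1 := hc.nd1, nd2 := hc.nd2, two := h2, ha := hc.ha,
      hb := hc.hb, ndvd := hc.ndvd, adp := hadp, le := h.le, le_om := h.le_om,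
      om_iso := ?_, om_uform := ?_, om_tor := ?_, om_xL := ?_, om_xLm := ?_, om_trans := ?_ }
  · -- om_iso
    intro g hg
    have hg' : g ∈ OV G1 G2 := OmV_le_OV G1 G2 hg
    exact Cfsg.Agent.Lib.Helper12.UOGLeaf.gram_of_iso hK h2 ⟨g, hg'⟩
  · -- om_uform
    intro g hiso hU
    have hg : g ∈ OV G1 G2 := Cfsg.Agent.Lib.Helper12.UOGLeaf.mem_iso_of_gram g hiso
    apply mem_OmV_of_cube hc hg
    have hd : Disjoint (OTLA.TL o o') (OTLA.TL p p') := by
      unfold OTLA.TL
      rw [Finset.disjoint_left]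
      intro k hk hk'
      simp only [Finset.mem_insert, Finset.mem_singleton] at hk hk'
      rcases hk with rfl | rfl <;> rcases hk' with hk' | hk'
      · exact hadp.hop hk'
      · exact hadp.hop' hk'
      · exact hadp.ho'p hk'
      · exact hadp.ho'p' hk'
    have hS := (OTU.UFS_iff _ _ _).1 hU
    rw [pow_three', OTU.SuppF.mul_mul hd hS hS hS]
  · -- om_tor
    intro t ht
    exact ⟨diagGL (torD o o' p p' t t) (torD_ne_zero o o' p p' ht ht), rfl, om_tor_adp hc hadp ht⟩
  · -- om_xL
    intro c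
    refine ⟨rhoB G2 (Pi.single p' 1) (Pi.single o 1) c, ?_, kB_mem_OmV hc _ _ c⟩
    apply Matrix.mulVec_injective
    funext x
    have e := mv_rt (Q := QB G2) ((QB_eq_zero_iff G2 h2 _).2 hzs) ((QB_eq_zero_iff G2 h2 _).2 hy)
      (by rw [polar_QB hc.symm2 h2]; exact hpo') c x
    unfold mv at e
    rw [e, polar_QB hc.symm2 h2, polar_QB hc.symm2 h2, adp_fB_p' hadp, adp_fB_o hadp]
    unfold OTLA.xL
    rw [Matrix.add_mulVec, Matrix.one_mulVec, Matrix.smul_mulVec, Matrix.sub_mulVec,
      Matrix.single_mulVec_eq, Matrix.single_mulVec_eq, one_mul, one_mul]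
  · -- om_xLm
    intro c
    refine ⟨rhoB G2 (Pi.single p 1) (Pi.single o' 1) c, ?_, kB_mem_OmV hc _ _ c⟩
    apply Matrix.mulVec_injective
    funext x
    have e := mv_rt (Q := QB G2) ((QB_eq_zero_iff G2 h2 _).2 hys) ((QB_eq_zero_iff G2 h2 _).2 hz)
      (by rw [polar_QB hc.symm2 h2]; exact hpo'') c x
    unfold mv at e
    rw [e, polar_QB hc.symm2 h2, polar_QB hc.symm2 h2, adp_fB_p hadp, adp_fB_o' hadp]
    unfold OTLA.xLm
    rw [Matrix.add_mulVec, Matrix.one_mulVec, Matrix.smul_mulVec, Matrix.sub_mulVec,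
      Matrix.single_mulVec_eq, Matrix.single_mulVec_eq, one_mul, one_mul]
  · -- om_trans
    intro y z hyy' hzz' hyz' hli
    have hL' : TSL G2 y z :=
      { yy := hyy', zz := hzz', yz := hyz'
        li := by
          rw [LinearIndependent.pair_iff]
          intro s t hst
          exact hli s t hst }
    obtain ⟨β, hβ, ⟨s, t, h1⟩, ⟨s', t', h2'⟩⟩ := exists_omega_line hc (adp_TSL hadp) hL'
    exact ⟨β, kel_one_mem_OmV hc hβ, s, t, s', t', h1, h2'⟩

/-- the instance of helper13's local context (unswapped cases: `a` odd) for `Om = Ω(V)` in adapted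
coordinates -/
theorem lctx_of_adp (h : MCtx a b G1 G2 M) (hoa : Odd a) (hadp : OTLA.Adp G2 o o' p p') :
    OTLA.LCtx G1 G2 o o' p p' (OmV G1 G2) M := by
  have hc : Ctx a b G1 G2 := h.toCtx
  obtain ⟨hy, hys, hyy⟩ := adp_hyp_o hadp
  refine { toLBase := lbase_of_adp h hadp, hex := hc.hex, om_refl := ?_ }
  · -- om_refl
    intro d hd
    obtain ⟨t, g, ht, hg, hact⟩ := inv_refl hc hoa hd hy hys hyy
    refine ⟨t, -1, -((reflM (QA G1) d : ↥(Cfsg.isometryGroup F ⇑(QA G1))) : GL (Fin a) F),
      diagGL (torD o o' p p' t 1) (torD_ne_zero o o' p p' ht one_ne_zero), ht,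
      neg_ne_zero.2 one_ne_zero, ?_, rfl, ?_⟩
    · rw [Units.val_neg, reflM_coe_eq_refl hc hd, neg_one_smul]
    · have e : kel (-((reflM (QA G1) d : ↥(Cfsg.isometryGroup F ⇑(QA G1))) : GL (Fin a) F))
          (diagGL (torD o o' p p' t 1) (torD_ne_zero o o' p p' ht one_ne_zero)) = g := by
        apply gl_ext_pt
        intro x v
        rw [hact x v]
        have e1 := kel_mulVec_pt
          (-((reflM (QA G1) d : ↥(Cfsg.isometryGroup F ⇑(QA G1))) : GL (Fin a) F))
          (diagGL (torD o o' p p' t 1) (torD_ne_zero o o' p p' ht one_ne_zero)) x v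
        unfold mv
        rw [e1, Units.val_neg, Matrix.neg_mulVec]
        have e2 := mv_reflM_A hc hd x
        unfold mv at e2
        rw [e2]
        have e3 := mv_diagGL (torD o o' p p' t 1) (torD_ne_zero o o' p p' ht one_ne_zero) v
        unfold mv at e3
        rw [e3, torB_adp_o hadp]
        have e4 : (fun k => torD o o' p p' t 1 k * v k) =
            fun k => (if k = o then t else if k = p then t⁻¹ else 1) * v k := by
          funext k
          unfold torD
          by_cases h1 : k = o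
          · rw [if_pos h1, if_pos h1]
          · rw [if_neg h1, if_neg h1]
            by_cases h2' : k = o'
            · have h3 : k ≠ p := by rw [h2']; exact hadp.ho'p
              rw [if_pos h2', if_neg h3]
            · rw [if_neg h2']
              by_cases h3 : k = p
              · rw [if_pos h3, if_pos h3]
              · rw [if_neg h3, if_neg h3]
                by_cases h4 : k = p'
                · rw [if_pos h4, inv_one]
                · rw [if_neg h4]
        rw [e4, ← neg_one_smul F (reflA G1 d x), pt_smul_left, neg_one_smul]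
      rw [e]
      exact hg.2

end inst

end Cfsg.Agent.Lib.Helper25.OT
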