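/-
helper25: special rank one groups with abelian unipotent subgroups (Timmesfeld I (5.2)):
`A` is of prime exponent or torsion-free and divisible.  Notation: `Rel a b` means `b A b⁻¹ = a B a⁻¹`
(`b • ∞ = a • 0` for the action on the conjugates of `A`); the key identity is
`β(a^m)^m = β(a)`, proved by induction on `m` from the addition formula.
-/
import Mathlib
import Cfsg.Prelude.Def_RootSubgroups
import Cfsg.Agent.Lib.Helper25.RankOne
import Cfsg.Agent.Lib.Helper25.RankOneConj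
import Cfsg.Agent.Lib.Helper25.RankOneOmega
import Cfsg.Agent.Lib.Helper25.RootSet

set_option autoImplicit false

namespace Cfsg.Agent.Lib.Helper25.SpecialAUS

open Cfsg Cfsg.Agent.Lib.Helper25

variable {G : Type*} [Group G] {A B : Subgroup G}

/-- `b A b⁻¹ = a B a⁻¹`. -/
def Rel (A B : Subgroup G) (a b : G) : Prop := conjBy A b = conjBy B a

theorem exists_rel_left (h : IsRankOnePair A B) {a : G} (ha : a ∈ A) (ha1 : a ≠ 1) :
    ∃ b ∈ B, b ≠ 1 ∧ Rel A B a b := by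
  obtain ⟨b₀, hb₀, hb₀1, hc⟩ := h.cond_left a⁻¹ (A.inv_mem ha) (inv_ne_one.2 ha1)
  refine ⟨b₀⁻¹, B.inv_mem hb₀, inv_ne_one.2 hb₀1, ?_⟩
  unfold Rel
  rw [hc, inv_inv]

theorem exists_rel_right (h : IsRankOnePair A B) {b : G} (hb : b ∈ B) (hb1 : b ≠ 1) :
    ∃ a ∈ A, a ≠ 1 ∧ Rel A B a b := by
  obtain ⟨a₀, ha₀, ha₀1, hc⟩ := h.cond_right b⁻¹ (B.inv_mem hb) (inv_ne_one.2 hb1)
  refine ⟨a₀⁻¹, A.inv_mem ha₀, inv_ne_one.2 ha₀1, ?_⟩
  unfold Rel
  rw [hc, inv_inv]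

theorem rel_unique_right (h : IsRankOnePair A B) {a b b' : G} (hb : b ∈ B) (hb' : b' ∈ B)
    (h1 : Rel A B a b) (h2 : Rel A B a b') : b = b' :=
  rankOne_eq_of_conjBy_eq (RankOnePair_symm h) hb hb' (h1.trans h2.symm)

theorem rel_unique_left (h : IsRankOnePair A B) {a a' b : G} (ha : a ∈ A) (ha' : a' ∈ A)
    (h1 : Rel A B a b) (h2 : Rel A B a' b) : a = a' :=
  rankOne_eq_of_conjBy_eq h ha ha' (h1.symm.trans h2)

theorem rel_right_ne_one (h : IsRankOnePair A B) {a b : G} (ha : a ∈ A)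
    (hr : Rel A B a b) : b ≠ 1 := by
  rintro rfl
  unfold Rel at hr
  rw [conjBy_one] at hr
  exact rankOne_conjBy_right_ne_left h ha hr.symm

theorem rel_left_ne_one (h : IsRankOnePair A B) {a b : G} (hb : b ∈ B)
    (hr : Rel A B a b) : a ≠ 1 := by
  rintro rfl
  unfold Rel at hr
  rw [conjBy_one] at hr
  exact rankOne_conjBy_right_ne_left (RankOnePair_symm h) hb hr

section special

variable (hs : ∀ a ∈ A, a ≠ 1 → ∀ b ∈ B, b ≠ 1 → conjBy A b⁻¹ = conjBy B a⁻¹ →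
  b⁻¹ * a * b = a⁻¹ * b⁻¹ * a)

include hs

theorem braid {a b : G} (ha : a ∈ A) (ha1 : a ≠ 1) (hb : b ∈ B) (hb1 : b ≠ 1)
    (hr : Rel A B a b) : a⁻¹ * b * a⁻¹ = b * a⁻¹ * b := by
  have h1 := hs a⁻¹ (A.inv_mem ha) (inv_ne_one.2 ha1) b⁻¹ (B.inv_mem hb) (inv_ne_one.2 hb1)
    (by rw [inv_inv, inv_inv]; exact hr)
  rw [inv_inv, inv_inv] at h1
  have h2 : a⁻¹ * b * a⁻¹ = a⁻¹ * (b * a⁻¹ * b⁻¹) * b := by group
  rw [h2, h1]
  group

/-- `β(a⁻¹) = β(a)⁻¹`. -/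
theorem rel_inv (h : IsRankOnePair A B) {a b : G} (ha : a ∈ A) (ha1 : a ≠ 1) (hb : b ∈ B)
    (hb1 : b ≠ 1) (hr : Rel A B a b) : Rel A B a⁻¹ b⁻¹ := by
  obtain ⟨a₁, ha₁, ha₁1, hr₁⟩ := exists_rel_right h (B.inv_mem hb) (inv_ne_one.2 hb1)
  have hbr := braid hs ha ha1 hb hb1 hr
  -- the inverse braid relation
  have hbr' : a * b⁻¹ * a = b⁻¹ * a * b⁻¹ := by
    have := congrArg (fun x => x⁻¹) hbr
    simpa [mul_assoc] using this
  have e1 : conjBy A (a * b⁻¹ * a) = conjBy B (a * a₁) := by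
    unfold Rel at hr₁
    rw [conjBy_mul, conjBy_eq_self_of_mem ha, conjBy_mul, hr₁, ← conjBy_mul]
  have e2 : conjBy A (b⁻¹ * a * b⁻¹) = conjBy (conjBy B (a * a₁)) b⁻¹ := by
    unfold Rel at hr₁
    rw [conjBy_mul, conjBy_mul, hr₁, ← conjBy_mul B a a₁]
  rw [hbr', e2] at e1
  -- `b⁻¹` normalizes `conjBy B (a * a₁)`
  have hn : b⁻¹ ∈ Subgroup.normalizer ((conjBy B (a * a₁) : Subgroup G) : Set G) :=
    conjBy_eq_self_iff.1 e1
  have hmem : conjBy B (a * a₁) ∈ unipotentSubgroups B A :=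
    ⟨a * a₁, Subgroup.mem_sup_right (A.mul_mem ha ha₁), rfl⟩
  have hP : conjBy B (a * a₁) = B :=
    rankOne_eq_of_normalizes (RankOnePair_symm h) hmem (B.inv_mem hb) (inv_ne_one.2 hb1) hn
  have hx : a * a₁ = 1 :=
    rankOne_eq_one_of_mem_normalizer h (A.mul_mem ha ha₁) (conjBy_eq_self_iff.1 hP)
  have : a₁ = a⁻¹ := (eq_inv_of_mul_eq_one_right hx)
  rw [← this]
  exact hr₁

omit hs in
/-- `n = a⁻¹ b a⁻¹` maps `∞` to `0`. -/
theorem swap_left {a b : G} (ha : a ∈ A) (hr : Rel A B a b) :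
    conjBy A (a⁻¹ * b * a⁻¹) = B := by
  unfold Rel at hr
  rw [conjBy_mul, conjBy_eq_self_of_mem (A.inv_mem ha), conjBy_mul, hr, conjBy_conjBy_inv]

/-- `n = a⁻¹ b a⁻¹` maps `0` to `∞`. -/
theorem swap_right (h : IsRankOnePair A B) {a b : G} (ha : a ∈ A) (ha1 : a ≠ 1) (hb : b ∈ B)
    (hb1 : b ≠ 1) (hr : Rel A B a b) : conjBy B (a⁻¹ * b * a⁻¹) = A := by
  rw [braid hs ha ha1 hb hb1 hr]
  have hri := rel_inv hs h ha ha1 hb hb1 hr
  unfold Rel at hri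
  rw [conjBy_mul, conjBy_eq_self_of_mem hb, conjBy_mul, ← hri, conjBy_inv_conjBy]

omit hs in
/-- transport of `Rel` by an element interchanging `A` and `B`. -/
theorem rel_conj {s d e : G} (hsA : conjBy A s = B) (hsB : conjBy B s = A)
    (hr : Rel A B d e) : Rel A B (s * e * s⁻¹) (s * d * s⁻¹) := by
  have hA' : conjBy A s⁻¹ = B := by rw [← hsB, conjBy_conjBy_inv]
  have hB' : conjBy B s⁻¹ = A := by rw [← hsA, conjBy_conjBy_inv]
  unfold Rel at hr ⊢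
  rw [conjBy_mul, hA', conjBy_mul, ← hr, conjBy_mul B, hB', conjBy_mul]

omit hs in
/-- the addition formula. -/
theorem rel_mul {a b c e g : G} (hnB : conjBy B (a⁻¹ * b * a⁻¹) = A)
    (hr : Rel A B c e)
    (hg : Rel A B (a⁻¹ * ((a⁻¹ * b * a⁻¹)⁻¹ * e * (a⁻¹ * b * a⁻¹))) g) :
    Rel A B (a * c) (b * g) := by
  unfold Rel at hr hg ⊢
  rw [conjBy_mul, hg, ← conjBy_mul]
  have e1 : b * (a⁻¹ * ((a⁻¹ * b * a⁻¹)⁻¹ * e * (a⁻¹ * b * a⁻¹))) =
      a * (e * (a⁻¹ * b * a⁻¹)) := by group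
  rw [e1, conjBy_mul, conjBy_mul, hnB, hr, ← conjBy_mul]

/-- the statement `β(c^m)^m = β(c)`. -/
def PowRel (A B : Subgroup G) (m : ℕ) : Prop :=
  ∀ c ∈ A, ∀ e ∈ B, ∀ e' ∈ B, c ≠ 1 → c ^ m ≠ 1 → Rel A B c e → Rel A B (c ^ m) e' → e' ^ m = e

theorem step (h : IsRankOnePair A B) (hB : IsMulCommutative B)
    {k : ℕ} (hP : PowRel A B k) {a' a : G} (ha' : a' ∈ A) (haa : a' ^ k = a)
    (h1 : a ^ (k + 1) ≠ 1) (h2 : a ^ k ≠ 1) {e₁ e₂ : G} (he₁ : e₁ ∈ B)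
    (he₂ : e₂ ∈ B) (hr₁ : Rel A B a e₁) (hr₂ : Rel A B (a ^ (k + 1)) e₂) :
    e₂ ^ (k + 1) = e₁ := by
  have ha : a ∈ A := haa ▸ A.pow_mem ha' k
  have ha1 : a ≠ 1 := by
    rintro rfl
    exact h2 (one_pow _)
  have ha'1 : a' ≠ 1 := by
    rintro rfl
    rw [one_pow] at haa
    exact ha1 haa.symm
  have ham1 : a' ^ (k + 1) ≠ 1 := by
    intro e
    apply h1
    rw [← haa, ← pow_mul, mul_comm, pow_mul, e, one_pow]
  have hb1 : e₁ ≠ 1 := rel_right_ne_one h ha hr₁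
  have hc : a ^ k ∈ A := A.pow_mem ha k
  obtain ⟨e, he, he1, hre⟩ := exists_rel_left h hc h2
  obtain ⟨n, hn⟩ : ∃ n, n = a⁻¹ * e₁ * a⁻¹ := ⟨_, rfl⟩
  have hnA : conjBy A n = B := hn ▸ swap_left ha hr₁
  have hnB : conjBy B n = A := hn ▸ swap_right hs h ha ha1 he₁ hb1 hr₁
  have hnA' : conjBy A n⁻¹ = B := by rw [← hnB, conjBy_conjBy_inv]
  have hnB' : conjBy B n⁻¹ = A := by rw [← hnA, conjBy_conjBy_inv]
  obtain ⟨y, hy⟩ : ∃ y, y = n⁻¹ * e * n := ⟨_, rfl⟩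
  have hyA : y ∈ A := by
    rw [hy, ← hnB']
    have := conj_mem_conjBy (g := n⁻¹) he
    rwa [inv_inv] at this
  have hry : Rel A B y (n⁻¹ * a ^ k * n) := by
    have := rel_conj (s := n⁻¹) hnA' hnB' hre
    rwa [inv_inv, ← hy] at this
  have hconj : n⁻¹ * a * n = e₁⁻¹ := by
    have hbr := braid hs ha ha1 he₁ hb1 hr₁
    have e3 : n⁻¹ * a * n = (e₁ * a⁻¹ * e₁)⁻¹ * a * (a⁻¹ * e₁ * a⁻¹) := by rw [← hbr, ← hn]
    rw [e3]
    group
  have hconjk : n⁻¹ * a ^ k * n = e₁⁻¹ ^ k := by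
    have e4 : n⁻¹ * a ^ k * n = (n⁻¹ * a * n) ^ k := by
      have := conj_pow (a := n⁻¹) (b := a) (i := k)
      rw [inv_inv] at this
      exact this.symm
    rw [e4, hconj]
  rw [hconjk] at hry
  obtain ⟨b', hb', hb'1, hrb'⟩ := exists_rel_left h ha' ha'1
  have hPk := hP a' ha' b' hb' e₁ he₁ ha'1 (by rw [haa]; exact ha1) hrb' (by rw [haa]; exact hr₁)
  have hri := rel_inv hs h ha' ha'1 hb' hb'1 hrb'
  rw [← hPk, ← inv_pow] at hri
  have hya : y = a'⁻¹ := rel_unique_left h hyA (A.inv_mem ha') hry hri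
  have ham : a' ^ (k + 1) ∈ A := A.pow_mem ha' _
  obtain ⟨g₀, hg₀, hg₀1, hrg₀⟩ := exists_rel_left h ham ham1
  have hrg := rel_inv hs h ham ham1 hg₀ hg₀1 hrg₀
  have hmul : Rel A B (a * a ^ k) (e₁ * g₀⁻¹) := by
    apply rel_mul (hn ▸ hnB) hre
    rw [← hn, ← hy, hya, ← haa]
    have e5 : (a' ^ k)⁻¹ * a'⁻¹ = (a' ^ (k + 1))⁻¹ := by rw [pow_succ', mul_inv_rev]
    rw [e5]
    exact hrg
  rw [← pow_succ'] at hmul
  have he₂eq : e₂ = e₁ * g₀⁻¹ :=
    rel_unique_right h he₂ (B.mul_mem he₁ (B.inv_mem hg₀)) hr₂ hmul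
  have hpow : (a' ^ (k + 1)) ^ k = a ^ (k + 1) := by
    rw [← haa, ← pow_mul, ← pow_mul, mul_comm]
  have hPk2 := hP (a' ^ (k + 1)) ham g₀ hg₀ e₂ he₂ ham1 (by rw [hpow]; exact h1) hrg₀
    (by rw [hpow]; exact hr₂)
  rw [pow_succ, hPk2, he₂eq,
    comm_of_isMulCommutative hB hg₀ (B.mul_mem he₁ (B.inv_mem hg₀))]
  group

theorem torsion_transfer (h : IsRankOnePair A B) {k : ℕ} (hA : ∀ x ∈ A, x ^ k = 1 → x = 1) :
    ∀ e ∈ B, e ^ k = 1 → e = 1 := by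
  intro e he hek
  obtain ⟨a, ha1⟩ := (Subgroup.ne_bot_iff_exists_ne_one).1 (rankOne_left_ne_bot h)
  have ha1' : (a : G) ≠ 1 := fun e => ha1 (Subtype.ext e)
  obtain ⟨b, hb, hb1, hr⟩ := exists_rel_left h a.2 ha1'
  have hnB := swap_right hs h a.2 ha1' hb hb1 hr
  have hmem : ((a : G)⁻¹ * b * (a : G)⁻¹) * e * ((a : G)⁻¹ * b * (a : G)⁻¹)⁻¹ ∈ A := by
    have := conj_mem_conjBy (A := B) (g := (a : G)⁻¹ * b * (a : G)⁻¹) he
    rwa [hnB] at this
  have hpow : (((a : G)⁻¹ * b * (a : G)⁻¹) * e * ((a : G)⁻¹ * b * (a : G)⁻¹)⁻¹) ^ k = 1 := by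
    rw [conj_pow, hek, mul_one, mul_inv_cancel]
  exact conj_eq_one_iff.1 (hA _ hmem hpow)

theorem divisible_of_powRel (h : IsRankOnePair A B) (hB : IsMulCommutative B) {k : ℕ}
    (hP : PowRel A B k) (hAk : ∀ x ∈ A, x ^ k = 1 → x = 1) {c : G} (hc : c ∈ A) (hc1 : c ≠ 1) :
    ∃ a' ∈ A, a' ^ k = c := by
  have hBk := torsion_transfer hs h hAk
  obtain ⟨e, he, he1, hr⟩ := exists_rel_left h hc hc1
  have hek : e ^ k ≠ 1 := fun e0 => he1 (hBk e he e0)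
  obtain ⟨a', ha', ha'1, hra'⟩ := exists_rel_right h (B.pow_mem he k) hek
  have ha'k : a' ^ k ≠ 1 := fun e0 => ha'1 (hAk a' ha' e0)
  obtain ⟨e₃, he₃, _, hr₃⟩ := exists_rel_left h (A.pow_mem ha' k) ha'k
  have h3 := hP a' ha' (e ^ k) (B.pow_mem he k) e₃ he₃ ha'1 ha'k hra' hr₃
  have h4 : e₃ = e := by
    have hcomm : Commute e₃ e⁻¹ := comm_of_isMulCommutative hB he₃ (B.inv_mem he)
    have h5 : (e₃ * e⁻¹) ^ k = 1 := by rw [hcomm.mul_pow, h3, inv_pow, mul_inv_cancel]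
    exact mul_inv_eq_one.1 (hBk _ (B.mul_mem he₃ (B.inv_mem he)) h5)
  rw [h4] at hr₃
  exact ⟨a', ha', rel_unique_left h (A.pow_mem ha' k) hc hr₃ hr⟩

theorem powRel_of_no_torsion (h : IsRankOnePair A B) (hB : IsMulCommutative B) :
    ∀ m : ℕ, 1 ≤ m → (∀ j, 1 ≤ j → j < m → ∀ x ∈ A, x ^ j = 1 → x = 1) → PowRel A B m := by
  intro m
  induction m using Nat.strong_induction_on with
  | _ m ih =>
    intro hm hnt
    rcases Nat.lt_or_ge m 2 with hlt | hge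
    · obtain rfl : m = 1 := by omega
      intro c hc e he e' he' hc1 _ hr hr'
      rw [pow_one] at hr' ⊢
      exact rel_unique_right h he' he hr' hr
    · obtain ⟨k, rfl⟩ : ∃ k, m = k + 1 := ⟨m - 1, by omega⟩
      have hk1 : 1 ≤ k := by omega
      have hPk : PowRel A B k := ih k (by omega) hk1 (fun j hj hjk => hnt j hj (by omega))
      have hAk : ∀ x ∈ A, x ^ k = 1 → x = 1 := hnt k hk1 (by omega)
      intro c hc e he e' he' hc1 hcm hr hr'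
      obtain ⟨a', ha', hac⟩ := divisible_of_powRel hs h hB hPk hAk hc hc1
      exact step hs h hB hPk ha' hac hcm (fun e0 => hc1 (hAk c hc e0)) he he' hr hr'

/-- Timmesfeld I (5.2). -/
theorem main (h : IsRankOnePair A B) (hA : IsMulCommutative A) (hB : IsMulCommutative B) :
    (∃ p : ℕ, p.Prime ∧ ∀ a ∈ A, a ^ p = 1) ∨
    ((∀ a ∈ A, a ≠ 1 → ¬ IsOfFinOrder a) ∧
      ∀ a ∈ A, ∀ n : ℕ, 0 < n → ∃ c ∈ A, c ^ n = a) := by
  by_cases htor : ∃ a ∈ A, a ≠ 1 ∧ IsOfFinOrder a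
  · left
    have hex : ∃ j, 2 ≤ j ∧ ∃ x ∈ A, x ≠ 1 ∧ x ^ j = 1 := by
      obtain ⟨a, ha, ha1, hfin⟩ := htor
      obtain ⟨j, hj, hpow⟩ := isOfFinOrder_iff_pow_eq_one.1 hfin
      refine ⟨j, ?_, a, ha, ha1, hpow⟩
      by_contra hlt
      have : j = 1 := by omega
      rw [this, pow_one] at hpow
      exact ha1 hpow
    classical
    obtain ⟨p, hp⟩ : ∃ p, p = Nat.find hex := ⟨_, rfl⟩
    obtain ⟨hp2, t, ht, ht1, htp⟩ := Nat.find_spec hex
    rw [← hp] at hp2 htp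
    have hmin : ∀ j, 1 ≤ j → j < p → ∀ x ∈ A, x ^ j = 1 → x = 1 := by
      intro j hj hjp x hx hxj
      by_contra hx1
      rcases Nat.lt_or_ge j 2 with hlt | hge
      · have : j = 1 := by omega
        rw [this, pow_one] at hxj
        exact hx1 hxj
      · rw [hp] at hjp
        exact Nat.find_min hex hjp ⟨hge, x, hx, hx1, hxj⟩
    have hprime : p.Prime := by
      by_contra hnp
      have hr := Nat.minFac_prime (n := p) (by omega)
      have hlt : p.minFac < p :=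
        lt_of_le_of_ne (Nat.minFac_le (by omega)) (fun e => hnp (e ▸ hr))
      obtain ⟨s, hs'⟩ := Nat.minFac_dvd p
      have hs1 : 1 ≤ s := by
        rcases Nat.eq_zero_or_pos s with rfl | h0
        · omega
        · exact h0
      have hsp : s < p := by
        have := hr.two_le
        nlinarith
      have hy1 : t ^ s ≠ 1 := fun e => ht1 (hmin s hs1 hsp t ht e)
      have hyr : (t ^ s) ^ p.minFac = 1 := by rw [← pow_mul, mul_comm, ← hs', htp]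
      exact hy1 (hmin p.minFac hr.one_lt.le hlt (t ^ s) (A.pow_mem ht s) hyr)
    have hP := powRel_of_no_torsion hs h hB p (by omega) hmin
    refine ⟨p, hprime, ?_⟩
    intro c hc
    by_contra hcp
    have hc1 : c ≠ 1 := by
      rintro rfl
      exact hcp (one_pow _)
    have htc : t * c ∈ A := A.mul_mem ht hc
    have htcp : (t * c) ^ p = c ^ p := by
      have hcomm : Commute t c := comm_of_isMulCommutative hA ht hc
      rw [hcomm.mul_pow, htp, one_mul]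
    have htc1 : t * c ≠ 1 := by
      intro e
      apply hcp
      rw [← htcp, e, one_pow]
    obtain ⟨e, he, _, hr⟩ := exists_rel_left h hc hc1
    obtain ⟨e', he', _, hr'⟩ := exists_rel_left h (A.pow_mem hc p) hcp
    obtain ⟨e'', he'', _, hr''⟩ := exists_rel_left h htc htc1
    have h1 := hP c hc e he e' he' hc1 hcp hr hr'
    have h2 := hP (t * c) htc e'' he'' e' he' htc1 (by rw [htcp]; exact hcp) hr''
      (by rw [htcp]; exact hr')
    have h3 : e = e'' := h1.symm.trans h2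
    rw [← h3] at hr''
    have h4 := rel_unique_left h htc hc hr'' hr
    exact ht1 (mul_eq_right.1 h4)
  · right
    push Not at htor
    refine ⟨htor, ?_⟩
    have hnt : ∀ j, 1 ≤ j → ∀ x ∈ A, x ^ j = 1 → x = 1 := by
      intro j hj x hx hxj
      by_contra hx1
      exact htor x hx hx1 (isOfFinOrder_iff_pow_eq_one.2 ⟨j, hj, hxj⟩)
    intro a ha n hn
    by_cases ha1 : a = 1
    · exact ⟨1, A.one_mem, by rw [ha1, one_pow]⟩
    have hPn := powRel_of_no_torsion hs h hB n hn (fun j hj _ => hnt j hj)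
    exact divisible_of_powRel hs h hB hPn (hnt n hn) ha ha1

end special

end Cfsg.Agent.Lib.Helper25.SpecialAUS
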