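import Mathlib

set_option autoImplicit false

/-!
# Counting the subgroups of index two of a group whose abelianization is a Klein four-group
-/

namespace Cfsg.Agent.Lib.Helper25.IndexTwo

open Subgroup
open scoped commutatorElement

theorem commutator_le_of_index_two {G : Type*} [Group G] {H : Subgroup G} (hH : H.index = 2) :
    commutator G ≤ H := by
  have hn : H.Normal := Subgroup.normal_of_index_eq_two hH
  rw [commutator_def, Subgroup.commutator_le]
  intro a _ b _
  rw [commutatorElement_def, Subgroup.mul_mem_iff_of_index_two hH]
  constructor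
  · intro h
    have := hn.conj_mem _ h a⁻¹
    have e : a⁻¹ * (a * b * a⁻¹) * a⁻¹⁻¹ = b := by group
    rw [e] at this
    exact H.inv_mem this
  · intro h
    have hb : b ∈ H := by
      have := H.inv_mem h
      rwa [inv_inv] at this
    exact hn.conj_mem b hb a

/-- In a group of order four and exponent two there are three subgroups of index two. -/
theorem card_index_two_of_four {A : Type*} [Group A] (h4 : Nat.card A = 4)
    (hsq : ∀ a : A, a * a = 1) : Nat.card {K : Subgroup A // K.index = 2} = 3 := by
  classical
  haveI : Finite A := Nat.finite_of_card_ne_zero (by omega)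
  haveI : Fintype A := Fintype.ofFinite A
  have hord : ∀ a : A, a ≠ 1 → orderOf a = 2 := by
    intro a ha
    exact orderOf_eq_prime (by rw [pow_two]; exact hsq a) ha
  have hmem : ∀ a b : A, b ∈ Subgroup.zpowers a → b = 1 ∨ b = a := by
    intro a b hb
    obtain ⟨k, rfl⟩ := Subgroup.mem_zpowers_iff.1 hb
    rcases Int.even_or_odd k with ⟨j, rfl⟩ | ⟨j, rfl⟩
    · left
      rw [← two_mul, zpow_mul, zpow_two, hsq, one_zpow]
    · right
      rw [zpow_add, zpow_one, zpow_mul, zpow_two, hsq, one_zpow, one_mul]
  have hidx : ∀ a : A, a ≠ 1 → (Subgroup.zpowers a).index = 2 := by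
    intro a ha
    have h1 := Subgroup.card_mul_index (Subgroup.zpowers a)
    rw [Nat.card_zpowers, hord a ha, h4] at h1
    omega
  have hbij : Function.Bijective (fun a : {a : A // a ≠ 1} =>
      (⟨Subgroup.zpowers a.1, hidx a.1 a.2⟩ : {K : Subgroup A // K.index = 2})) := by
    constructor
    · rintro ⟨a, ha⟩ ⟨b, hb⟩ h
      have h1 : Subgroup.zpowers a = Subgroup.zpowers b := congrArg Subtype.val h
      have h2 : b ∈ Subgroup.zpowers a := by rw [h1]; exact Subgroup.mem_zpowers b
      rcases hmem a b h2 with h3 | h3
      · exact absurd h3 hb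
      · exact Subtype.ext h3.symm
    · rintro ⟨K, hK⟩
      have hcard : Nat.card K = 2 := by
        have h1 := Subgroup.card_mul_index K
        rw [hK, h4] at h1
        omega
      have hne : K ≠ ⊥ := by
        intro h
        rw [h, Subgroup.card_bot] at hcard
        omega
      obtain ⟨⟨a, haK⟩, ha1'⟩ := (Subgroup.ne_bot_iff_exists_ne_one).1 hne
      have ha1 : a ≠ 1 := fun h => ha1' (Subtype.ext h)
      refine ⟨⟨a, ha1⟩, Subtype.ext ?_⟩
      show Subgroup.zpowers a = K
      apply Subgroup.eq_of_le_of_card_ge
      · rw [Subgroup.zpowers_le]; exact haK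
      · rw [Nat.card_zpowers, hord a ha1, hcard]
  rw [← Nat.card_congr (Equiv.ofBijective _ hbij)]
  rw [Nat.card_eq_fintype_card, Fintype.card_subtype_compl, Fintype.card_subtype_eq,
    ← Nat.card_eq_fintype_card, h4]

/-- If the commutator subgroup of `G` has index four and contains all squares, then `G` has
exactly three subgroups of index two. -/
theorem card_index_two {G : Type*} [Group G] (h4 : (commutator G).index = 4)
    (hsq : ∀ x : G, x * x ∈ commutator G) :
    Nat.card {H : Subgroup G // H.index = 2} = 3 := by
  have hA : Nat.card (G ⧸ commutator G) = 4 := by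
    rw [← Subgroup.index_eq_card]; exact h4
  have hsqA : ∀ a : G ⧸ commutator G, a * a = 1 := by
    intro a
    induction a using QuotientGroup.induction_on with
    | H x =>
      rw [← QuotientGroup.mk_mul, QuotientGroup.eq_one_iff]
      exact hsq x
  rw [← card_index_two_of_four hA hsqA]
  apply Nat.card_congr
  refine
    { toFun := fun H => ⟨H.1.map (QuotientGroup.mk' (commutator G)), ?_⟩
      invFun := fun K => ⟨K.1.comap (QuotientGroup.mk' (commutator G)), ?_⟩
      left_inv := ?_
      right_inv := ?_ }
  · rw [Subgroup.index_map_eq _ (QuotientGroup.mk'_surjective _)]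
    · exact H.2
    · rw [QuotientGroup.ker_mk']
      exact commutator_le_of_index_two H.2
  · rw [Subgroup.index_comap_of_surjective _ (QuotientGroup.mk'_surjective _)]
    exact K.2
  · intro H
    apply Subtype.ext
    show (H.1.map (QuotientGroup.mk' (commutator G))).comap (QuotientGroup.mk' (commutator G)) = H.1
    rw [Subgroup.comap_map_eq, QuotientGroup.ker_mk', sup_eq_left]
    exact commutator_le_of_index_two H.2
  · intro K
    apply Subtype.ext
    show (K.1.comap (QuotientGroup.mk' (commutator G))).map (QuotientGroup.mk' (commutator G)) = K.1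
    exact Subgroup.map_comap_eq_self_of_surjective (QuotientGroup.mk'_surjective _) _

end Cfsg.Agent.Lib.Helper25.IndexTwo
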