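/-
helper25: S2281, the common ENDGAME.  A subgroup `M` of `Sp_2m(F)` containing two elements `u`, `w`
acting on the standard basis like helper26's upper regular unipotent `u0 c` and its opposite
`w = J u J⁻¹`, and containing ONE full long root group `Tr e_0 F`, is everything.
Pure orbit argument: `θ = u w` maps `e_i ↦ -e_{i+1}`, `e_{m-1} ↦ -f_0`, and `w (u f_i) = -f_{i+1}`;
then helper6's `eq_top_of_long_pairs`.
-/
import Mathlib
import Cfsg.Agent.Lib.Helper6.SpGenB

set_option autoImplicit false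

namespace Cfsg.Agent.Lib.Helper25.SpReg

open Matrix Cfsg.Agent.Lib.Helper5 Cfsg.Agent.Lib.Helper14 Cfsg.Agent.Lib.Helper14.SpPerfect
open Cfsg.Agent.Lib.Helper6.SpGen

variable {F : Type*} [Field F] {m : ℕ}

theorem Rt_of_neg {M : Subgroup (Matrix.symplecticGroup (Fin m) F)} {x : Fin m ⊕ Fin m → F}
    (h : -x ∈ Rt M) : x ∈ Rt M := by
  have := Rt_neg h
  rwa [neg_neg] at this

/-- flipping the sign of the `e_k`-coordinate of `e_j - e_k` inside `Rt M` -/
theorem pair_of_diff {M : Subgroup (Matrix.symplecticGroup (Fin m) F)} {j k : Fin m} (hjk : j ≠ k)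
    (hek : (eV k : Fin m ⊕ Fin m → F) ∈ Rt M) (hfk : (fV k : Fin m ⊕ Fin m → F) ∈ Rt M)
    (hx : (eV j - eV k : Fin m ⊕ Fin m → F) ∈ Rt M) :
    (eV j + eV k : Fin m ⊕ Fin m → F) ∈ Rt M := by
  -- first move along `f_k`
  have h1 : (eV j - eV k + fV k : Fin m ⊕ Fin m → F) ∈ Rt M := by
    have := (Rel.move hfk (1 : F) (eV j - eV k : Fin m ⊕ Fin m → F)).mem_Rt hx
    have e : Cfsg.sympForm m F (eV j - eV k : Fin m ⊕ Fin m → F) (fV k) = 1 := by
      rw [form_fV, Pi.sub_apply, eV_inl, eV_inl, if_neg hjk.symm, if_pos rfl]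
      ring
    rwa [e, mul_one, one_smul] at this
  -- then along `e_k` with parameter 2
  have h2 : (eV j + eV k + fV k : Fin m ⊕ Fin m → F) ∈ Rt M := by
    have := (Rel.move hek (2 : F) (eV j - eV k + fV k : Fin m ⊕ Fin m → F)).mem_Rt h1
    have e : Cfsg.sympForm m F (eV j - eV k + fV k : Fin m ⊕ Fin m → F) (eV k) = 1 := by
      rw [form_eV, Pi.add_apply, Pi.sub_apply, eV_inr, eV_inr, fV_inr, if_pos rfl]
      ring
    rw [e, mul_one] at this
    have e2 : (eV j - eV k + fV k + (2 : F) • eV k : Fin m ⊕ Fin m → F) = eV j + eV k + fV k := by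
      module
    rwa [e2] at this
  -- and back along `f_k`
  have h3 := (Rel.move hfk (1 : F) (eV j + eV k + fV k : Fin m ⊕ Fin m → F)).mem_Rt h2
  have e : Cfsg.sympForm m F (eV j + eV k + fV k : Fin m ⊕ Fin m → F) (fV k) = -1 := by
    rw [form_fV, Pi.add_apply, Pi.add_apply, eV_inl, eV_inl, fV_inl, if_neg hjk.symm, if_pos rfl]
    ring
  rw [e, mul_neg, mul_one, neg_smul, one_smul] at h3
  have e3 : (eV j + eV k + fV k + -fV k : Fin m ⊕ Fin m → F) = eV j + eV k := by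
    module
  rwa [e3] at h3

/-- **The endgame.** -/
theorem endgame (hm : 0 < m) {M : Subgroup (Matrix.symplecticGroup (Fin m) F)}
    {u w : Matrix.symplecticGroup (Fin m) F} (hu : u ∈ M) (hw : w ∈ M)
    (hwe : ∀ i j : Fin m, j.val = i.val + 1 →
      ap w (eV i) = (eV i - eV j : Fin m ⊕ Fin m → F))
    (hue : ∀ i j : Fin m, j.val = i.val + 1 →
      ap u (eV i - eV j : Fin m ⊕ Fin m → F) = -eV j)
    (hlast : ∀ i0 il : Fin m, i0.val = 0 → il.val + 1 = m →
      ap u (ap w (eV il)) = (-fV i0 : Fin m ⊕ Fin m → F))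
    (huf : ∀ i j : Fin m, j.val = i.val + 1 →
      ap u (fV i) = (fV i - fV j : Fin m ⊕ Fin m → F))
    (hwf : ∀ i j : Fin m, j.val = i.val + 1 →
      ap w (fV i - fV j : Fin m ⊕ Fin m → F) = -fV j)
    (h0 : (eV ⟨0, hm⟩ : Fin m ⊕ Fin m → F) ∈ Rt M) : M = ⊤ := by
  -- the `e`-chain
  have hE : ∀ n : ℕ, ∀ i : Fin m, i.val = n → (eV i : Fin m ⊕ Fin m → F) ∈ Rt M := by
    intro n
    induction n with
    | zero =>
      intro i hi
      have : i = ⟨0, hm⟩ := Fin.ext hi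
      rw [this]; exact h0
    | succ n ih =>
      intro j hj
      have hn : n < m := by have := j.2; omega
      have hi := ih ⟨n, hn⟩ rfl
      have h1 : ap u (ap w (eV (⟨n, hn⟩ : Fin m))) ∈ Rt M := Rt_ap hu (Rt_ap hw hi)
      rw [hwe ⟨n, hn⟩ j (by simpa using hj), hue ⟨n, hn⟩ j (by simpa using hj)] at h1
      exact Rt_of_neg h1
  -- `f_0`
  have hF0 : (fV ⟨0, hm⟩ : Fin m ⊕ Fin m → F) ∈ Rt M := by
    have hl : m - 1 < m := by omega
    have hi := hE (m - 1) ⟨m - 1, hl⟩ rfl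
    have h1 : ap u (ap w (eV (⟨m - 1, hl⟩ : Fin m))) ∈ Rt M := Rt_ap hu (Rt_ap hw hi)
    rw [hlast ⟨0, hm⟩ ⟨m - 1, hl⟩ rfl (by show m - 1 + 1 = m; omega)] at h1
    exact Rt_of_neg h1
  -- the `f`-chain
  have hFF : ∀ n : ℕ, ∀ i : Fin m, i.val = n → (fV i : Fin m ⊕ Fin m → F) ∈ Rt M := by
    intro n
    induction n with
    | zero =>
      intro i hi
      have : i = ⟨0, hm⟩ := Fin.ext hi
      rw [this]; exact hF0
    | succ n ih =>
      intro j hj
      have hn : n < m := by have := j.2; omega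
      have hi := ih ⟨n, hn⟩ rfl
      have h1 : ap w (ap u (fV (⟨n, hn⟩ : Fin m))) ∈ Rt M := Rt_ap hw (Rt_ap hu hi)
      rw [huf ⟨n, hn⟩ j (by simpa using hj), hwf ⟨n, hn⟩ j (by simpa using hj)] at h1
      exact Rt_of_neg h1
  have hL : Long M := fun i => ⟨hE i.val i rfl, hFF i.val i rfl⟩
  apply eq_top_of_long_pairs hm hL
  intro j k hjk
  have hne : j ≠ k := by
    intro h; rw [h] at hjk; omega
  have hx : (eV j - eV k : Fin m ⊕ Fin m → F) ∈ Rt M := by
    have := Rt_ap hw (hL j).1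
    rwa [hwe j k hjk] at this
  exact pair_of_diff hne (hL k).1 (hL k).2 hx

end Cfsg.Agent.Lib.Helper25.SpReg
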