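/-
helper25 (S4892 market, planner helper23): leaf (T1) `existsUnique_extension_pprime_det`:
over a `p`-group quotient an invariant irreducible character of `p'`-degree and `p'`-determinantal
order has a unique extension of `p'`-determinantal order (Isaacs 6.28 + 6.24, with S0865).
-/
import Mathlib
import Cfsg.Prelude.Def_Blocks
import Cfsg.Prelude.Def_CharExt
import Cfsg.Agent.Lib.Helper6.Clifford
import Cfsg.Agent.Lib.Helper6.DetChar
import Cfsg.Agent.Lib.Helper6.DetExt
import Cfsg.Agent.Lib.Helper6.DetExtSolv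
import Cfsg.Agent.S0865

set_option autoImplicit false

namespace Cfsg.Agent.Lib.Helper25.PRat

open Cfsg Cfsg.Agent.CharLib Cfsg.Agent.Lib.Helper6

universe u

theorem charDegree_eq_of_one {X : Type u} [Group X] {χ : X → ℂ} {d : ℕ} (h : χ 1 = d) :
    charDegree χ = d := by
  unfold charDegree
  rw [h]
  simp

/-- function form of T1 -/
theorem existsUnique_extension_pprime_det_fun {G : Type u} [Group G] [Finite G] (p : ℕ)
    [hp : Fact p.Prime] (H : Subgroup G) [hH : H.Normal] {a : ℕ} (hidx : H.index = p ^ a)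
    {θ : H → ℂ} (hθ : IsIrrCharacter H θ) (hinv : ∀ g : G, conjFun H g θ = θ)
    (hdeg : ¬ p ∣ charDegree θ) (hdet : ¬ p ∣ orderOf (detChar θ)) :
    ∃ χ : G → ℂ, (IsIrrCharacter G χ ∧ resFun H χ = θ ∧ ¬ p ∣ orderOf (detChar χ)) ∧
      ∀ χ' : G → ℂ, IsIrrCharacter G χ' → resFun H χ' = θ → ¬ p ∣ orderOf (detChar χ') →
        χ' = χ := by
  classical
  let _ := Fintype.ofFinite G
  let _ : Fintype H := Fintype.ofFinite H
  have hθc : IsCharacter H θ := IsIrrCharacter.isCharacter hθ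
  obtain ⟨d, _, hd⟩ := IsIrrCharacter.apply_one_pos hθ
  rw [charDegree_eq_of_one hd] at hdeg
  have hlam := detChar_isCharacter hθc
  have hinvlam : ∀ (g : G) (n : H),
      detChar θ ⟨g * n * g⁻¹, hH.conj_mem (n : G) n.2 g⟩ = detChar θ n := by
    intro g n
    have h1 := detChar_conjFun H g hθc
    rw [hinv g] at h1
    exact (congrFun h1 n).symm
  have hcop : Nat.Coprime H.index (orderOf (detChar θ)) := by
    rw [hidx]
    exact Nat.Coprime.pow_left a ((Nat.Prime.coprime_iff_not_dvd hp.out).2 hdet)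
  obtain ⟨μ, ⟨hμ, hμ1, hμH, hμord⟩, hμuniq⟩ :=
    Cfsg.Agent.S0865.result H (detChar θ) hlam hinvlam hcop
  have hPG : IsPGroup p (G ⧸ H) := by
    apply IsPGroup.of_card (n := a)
    rw [← Subgroup.index_eq_card, hidx]
  have : Group.IsNilpotent (G ⧸ H) := hPG.isNilpotent
  have hsolv : Group.IsSolvable (G ⧸ H) := inferInstance
  have hcop' : Nat.Coprime H.index d := by
    rw [hidx]
    exact Nat.Coprime.pow_left a ((Nat.Prime.coprime_iff_not_dvd hp.out).2 hdeg)
  have hμres : resFun H μ = detChar θ := by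
    funext n
    rw [resFun_apply]
    exact hμH n
  obtain ⟨η, hη, hηH⟩ := exists_extension_of_det_extends H hsolv hθ hinv hd hcop' hμ hμ1 hμres
  obtain ⟨χ, ⟨hχ, hχH, hχdet⟩, hχuniq⟩ :=
    existsUnique_extension_with_det H hθ hd hcop' hη hηH hμ hμ1 hμres
  refine ⟨χ, ⟨hχ, hχH, ?_⟩, ?_⟩
  · rw [hχdet, hμord]
    exact hdet
  · intro χ' hχ' hres' hdet'
    apply hχuniq
    refine ⟨hχ', hres', ?_⟩
    have hc' : IsCharacter G χ' := IsIrrCharacter.isCharacter hχ'
    have hl' := detChar_isCharacter hc'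
    apply hμuniq (detChar χ') hl'
    · intro n
      have h1 := detChar_resFun H hc'
      rw [hres'] at h1
      have h2 := congrFun h1 n
      rw [resFun_apply] at h2
      exact h2.symm
    · rw [hidx]
      exact Nat.Coprime.pow_left a ((Nat.Prime.coprime_iff_not_dvd hp.out).2 hdet')

/-- **S4892 leaf (T1)** (frozen signature of `notes/S4892_leaves.lean`). -/
theorem existsUnique_extension_pprime_det {G : Type u} [Group G] [Finite G] (p : ℕ)
    [Fact p.Prime] (H : Subgroup G) [H.Normal] {a : ℕ} (hidx : H.index = p ^ a)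
    (χ₁ : IrrCharacter H) (hinv : ∀ g : G, conjFun H g (χ₁ : H → ℂ) = (χ₁ : H → ℂ))
    (hdeg : ¬ p ∣ charDegree (χ₁ : H → ℂ)) (hdet : ¬ p ∣ orderOf (detChar (χ₁ : H → ℂ))) :
    ∃! χ : IrrCharacter G, (∀ h : H, (χ : G → ℂ) h = (χ₁ : H → ℂ) h) ∧
      ¬ p ∣ orderOf (detChar (χ : G → ℂ)) := by
  obtain ⟨χ, ⟨hχ, hχH, hχdet⟩, huniq⟩ :=
    existsUnique_extension_pprime_det_fun p H hidx χ₁.2 hinv hdeg hdet
  refine ⟨⟨χ, hχ⟩, ⟨?_, hχdet⟩, ?_⟩
  · intro h
    have := congrFun hχH h
    rw [resFun_apply] at this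
    exact this
  · rintro ⟨χ', hχ'⟩ ⟨hres', hdet'⟩
    apply Subtype.ext
    show χ' = χ
    apply huniq χ' hχ' _ hdet'
    funext h
    rw [resFun_apply]
    exact hres' h

end Cfsg.Agent.Lib.Helper25.PRat
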