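import Mathlib
import Cfsg.Agent.Lib.Helper14.TypeABound
import Cfsg.Agent.S2530

/-!
Moore's presentation of the alternating group `A_n` (helper25), derived from the Coxeter
presentation of `S_n` (helper14, S2530) via the semidirect product `P ⋊ C₂`.
-/

set_option autoImplicit false

namespace Cfsg.Agent.Lib.Helper25.Moore

open Cfsg.Agent.Lib.Helper14

section abstract

variable {W : Type*} [Group W]

theorem braid_of_pow_three (a b : W) (ha : a * a = 1) (hb : b * b = 1) (h : (a * b) ^ 3 = 1) :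
    a * b * a = b * a * b := by
  have hai : a⁻¹ = a := inv_eq_of_mul_eq_one_right ha
  have hbi : b⁻¹ = b := inv_eq_of_mul_eq_one_right hb
  have h1 : a * b * a * (b * a * b) = 1 := by
    rw [pow_succ, pow_two] at h
    simpa only [mul_assoc] using h
  have h4 := eq_inv_of_mul_eq_one_left h1
  rw [h4, mul_inv_rev, mul_inv_rev, hai, hbi, mul_assoc]

theorem pow_three_of_braid (a b : W) (ha : a * a = 1) (hb : b * b = 1) (h : a * b * a = b * a * b) :
    (a * b) ^ 3 = 1 := by
  rw [pow_succ, pow_two]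
  calc a * b * (a * b) * (a * b) = (a * b * a) * (b * a * b) := by simp only [mul_assoc]
    _ = (b * a * b) * (b * a * b) := by rw [h]
    _ = b * a * (b * b) * a * b := by simp only [mul_assoc]
    _ = b * (a * a) * b := by rw [hb, mul_one]; simp only [mul_assoc]
    _ = 1 := by rw [ha, mul_one, hb]

theorem comm_of_pow_two (a b : W) (ha : a * a = 1) (hb : b * b = 1) (h : (a * b) ^ 2 = 1) :
    a * b = b * a := by
  have hai : a⁻¹ = a := inv_eq_of_mul_eq_one_right ha
  have hbi : b⁻¹ = b := inv_eq_of_mul_eq_one_right hb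
  rw [pow_two] at h
  have h4 := eq_inv_of_mul_eq_one_left h
  rw [h4, mul_inv_rev, hai, hbi]

theorem pow_two_of_comm (a b : W) (ha : a * a = 1) (hb : b * b = 1) (h : a * b = b * a) :
    (a * b) ^ 2 = 1 := by
  rw [pow_two]
  calc a * b * (a * b) = a * (b * a) * b := by simp only [mul_assoc]
    _ = a * (a * b) * b := by rw [h]
    _ = (a * a) * (b * b) := by simp only [mul_assoc]
    _ = 1 := by rw [ha, hb, one_mul]

/-- Moore relations for `y 0, …, y (m-1)`. -/
structure MooreRel (y : ℕ → W) (m : ℕ) : Prop where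
  cube : 0 < m → y 0 ^ 3 = 1
  sq : ∀ i, 1 ≤ i → i < m → y i ^ 2 = 1
  adj : ∀ i, i + 1 < m → (y i * y (i + 1)) ^ 3 = 1
  far : ∀ i j, i + 1 < j → j < m → (y i * y j) ^ 2 = 1

/-- the Moore generators built from Coxeter generators of type `A` -/
def mooreOf (s : ℕ → W) (k : ℕ) : W := if k = 0 then s 0 * s 1 else s 0 * s (k + 1)

theorem mooreOf_zero (s : ℕ → W) : mooreOf s 0 = s 0 * s 1 := by
  unfold mooreOf; rw [if_pos rfl]

theorem mooreOf_pos (s : ℕ → W) (k : ℕ) (hk : 1 ≤ k) : mooreOf s k = s 0 * s (k + 1) := by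
  unfold mooreOf; rw [if_neg (by omega)]

theorem mooreRel_of_braidRel (s : ℕ → W) (m : ℕ) (h : BraidRel s (m + 1)) :
    MooreRel (mooreOf s) m := by
  have hs0 : s 0 * s 0 = 1 := h.sq 0 (by omega)
  -- s 0 commutes with s (k+1) for k ≥ 1
  have hc0 : ∀ k, 1 ≤ k → k < m → s 0 * s (k + 1) = s (k + 1) * s 0 :=
    fun k hk hkm => h.comm 0 (k + 1) (by omega) (by omega)
  -- y i * y j = s (i+1) * s (j+1) for i, j ≥ 1
  have hprod : ∀ i j, 1 ≤ i → i < m → 1 ≤ j → j < m →
      mooreOf s i * mooreOf s j = s (i + 1) * s (j + 1) := by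
    intro i j hi him hj hjm
    rw [mooreOf_pos s i hi, mooreOf_pos s j hj, hc0 i hi him]
    calc s (i + 1) * s 0 * (s 0 * s (j + 1)) = s (i + 1) * (s 0 * s 0) * s (j + 1) := by
          simp only [mul_assoc]
      _ = s (i + 1) * s (j + 1) := by rw [hs0, mul_one]
  refine ⟨?_, ?_, ?_, ?_⟩
  · intro hm
    rw [mooreOf_zero]
    exact pow_three_of_braid _ _ hs0 (h.sq 1 (by omega)) (h.braid 0 (by omega))
  · intro i hi him
    rw [mooreOf_pos s i hi]
    exact pow_two_of_comm _ _ hs0 (h.sq (i + 1) (by omega)) (hc0 i hi him)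
  · intro i him
    rcases Nat.eq_zero_or_pos i with rfl | hi
    · -- (s0 s1 s0 s2)^3 = 1
      rw [mooreOf_zero, mooreOf_pos s 1 le_rfl]
      have hs1 : s 1 * s 1 = 1 := h.sq 1 (by omega)
      have hs2 : s 2 * s 2 = 1 := h.sq 2 (by omega)
      have h01 : s 0 * s 1 * s 0 = s 1 * s 0 * s 1 := h.braid 0 (by omega)
      have h12 : s 1 * s 2 * s 1 = s 2 * s 1 * s 2 := h.braid 1 (by omega)
      have h02 : s 0 * s 2 = s 2 * s 0 := h.comm 0 2 (by omega) (by omega)
      have ha : (s 0 * s 1 * s 0) * (s 0 * s 1 * s 0) = 1 := by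
        calc s 0 * s 1 * s 0 * (s 0 * s 1 * s 0) = s 0 * s 1 * (s 0 * s 0) * s 1 * s 0 := by
              simp only [mul_assoc]
          _ = s 0 * (s 1 * s 1) * s 0 := by rw [hs0, mul_one]; simp only [mul_assoc]
          _ = 1 := by rw [hs1, mul_one, hs0]
      have hbr : (s 0 * s 1 * s 0) * s 2 * (s 0 * s 1 * s 0) = s 2 * (s 0 * s 1 * s 0) * s 2 := by
        have e1 : (s 0 * s 1 * s 0) * s 2 * (s 0 * s 1 * s 0) = s 0 * s 1 * s 2 * s 1 * s 0 := by
          calc (s 0 * s 1 * s 0) * s 2 * (s 0 * s 1 * s 0)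
              = s 0 * s 1 * (s 0 * s 2) * s 0 * s 1 * s 0 := by simp only [mul_assoc]
            _ = s 0 * s 1 * (s 2 * s 0) * s 0 * s 1 * s 0 := by rw [h02]
            _ = s 0 * s 1 * s 2 * (s 0 * s 0) * s 1 * s 0 := by simp only [mul_assoc]
            _ = s 0 * s 1 * s 2 * s 1 * s 0 := by rw [hs0, mul_one]
        have e2 : s 2 * (s 0 * s 1 * s 0) * s 2 = s 0 * s 1 * s 2 * s 1 * s 0 := by
          calc s 2 * (s 0 * s 1 * s 0) * s 2 = (s 2 * s 0) * s 1 * (s 0 * s 2) := by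
                simp only [mul_assoc]
            _ = (s 0 * s 2) * s 1 * (s 2 * s 0) := by rw [h02]
            _ = s 0 * (s 2 * s 1 * s 2) * s 0 := by simp only [mul_assoc]
            _ = s 0 * (s 1 * s 2 * s 1) * s 0 := by rw [h12]
            _ = s 0 * s 1 * s 2 * s 1 * s 0 := by simp only [mul_assoc]
        rw [e1, e2]
      have := pow_three_of_braid _ _ ha hs2 hbr
      have e3 : s 0 * s 1 * (s 0 * s (1 + 1)) = s 0 * s 1 * s 0 * s 2 := by
        simp only [mul_assoc]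
      rw [e3]; exact this
    · rw [hprod i (i + 1) hi (by omega) (by omega) him]
      exact pow_three_of_braid _ _ (h.sq (i + 1) (by omega)) (h.sq (i + 1 + 1) (by omega))
        (h.braid (i + 1) (by omega))
  · intro i j hij hjm
    rcases Nat.eq_zero_or_pos i with rfl | hi
    · rw [mooreOf_zero, mooreOf_pos s j (by omega)]
      have hs1 : s 1 * s 1 = 1 := h.sq 1 (by omega)
      have hsj : s (j + 1) * s (j + 1) = 1 := h.sq (j + 1) (by omega)
      have h0j : s 0 * s (j + 1) = s (j + 1) * s 0 := h.comm 0 (j + 1) (by omega) (by omega)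
      have h1j : s 1 * s (j + 1) = s (j + 1) * s 1 := h.comm 1 (j + 1) (by omega) (by omega)
      have ha : (s 0 * s 1 * s 0) * (s 0 * s 1 * s 0) = 1 := by
        calc s 0 * s 1 * s 0 * (s 0 * s 1 * s 0) = s 0 * s 1 * (s 0 * s 0) * s 1 * s 0 := by
              simp only [mul_assoc]
          _ = s 0 * (s 1 * s 1) * s 0 := by rw [hs0, mul_one]; simp only [mul_assoc]
          _ = 1 := by rw [hs1, mul_one, hs0]
      have hcomm : (s 0 * s 1 * s 0) * s (j + 1) = s (j + 1) * (s 0 * s 1 * s 0) := by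
        calc (s 0 * s 1 * s 0) * s (j + 1) = s 0 * s 1 * (s 0 * s (j + 1)) := by
              simp only [mul_assoc]
          _ = s 0 * s 1 * (s (j + 1) * s 0) := by rw [h0j]
          _ = s 0 * (s 1 * s (j + 1)) * s 0 := by simp only [mul_assoc]
          _ = s 0 * (s (j + 1) * s 1) * s 0 := by rw [h1j]
          _ = (s 0 * s (j + 1)) * s 1 * s 0 := by simp only [mul_assoc]
          _ = (s (j + 1) * s 0) * s 1 * s 0 := by rw [h0j]
          _ = s (j + 1) * (s 0 * s 1 * s 0) := by simp only [mul_assoc]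
      have := pow_two_of_comm _ _ ha hsj hcomm
      have e3 : s 0 * s 1 * (s 0 * s (j + 1)) = s 0 * s 1 * s 0 * s (j + 1) := by
        simp only [mul_assoc]
      rw [e3]; exact this
    · rw [hprod i j hi (by omega) (by omega) hjm]
      exact pow_two_of_comm _ _ (h.sq (i + 1) (by omega)) (h.sq (j + 1) (by omega))
        (h.comm (i + 1) (j + 1) (by omega) (by omega))

/-- twisting the first Moore generator by inversion -/
def twist (y : ℕ → W) (k : ℕ) : W := if k = 0 then (y 0)⁻¹ else y k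

theorem twist_zero (y : ℕ → W) : twist y 0 = (y 0)⁻¹ := by unfold twist; rw [if_pos rfl]

theorem twist_pos (y : ℕ → W) (k : ℕ) (hk : 1 ≤ k) : twist y k = y k := by
  unfold twist; rw [if_neg (by omega)]

theorem MooreRel.twist {y : ℕ → W} {m : ℕ} (h : MooreRel y m) : MooreRel (twist y) m := by
  refine ⟨?_, ?_, ?_, ?_⟩
  · intro hm
    rw [twist_zero, inv_pow, h.cube hm, inv_one]
  · intro i hi him
    rw [twist_pos y i hi]; exact h.sq i hi him
  · intro i him
    rcases Nat.eq_zero_or_pos i with rfl | hi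
    · rw [twist_zero, twist_pos y 1 le_rfl]
      -- (y0⁻¹ y1)^3 = ((y1 y0)^3)⁻¹, y1 involution
      have h1 : y 1 ^ 2 = 1 := h.sq 1 le_rfl (by omega)
      have h1i : (y 1)⁻¹ = y 1 := by
        rw [pow_two] at h1; exact inv_eq_of_mul_eq_one_right h1
      have h3 : (y 0 * y 1) ^ 3 = 1 := h.adj 0 him
      have h4 : (y 1 * y 0) ^ 3 = 1 := by
        have : y 1 * y 0 = (y 0)⁻¹ * (y 0 * y 1) * ((y 0)⁻¹)⁻¹ := by group
        rw [this, conj_pow, h3]; group
      have h5 : (y 0)⁻¹ * y (0 + 1) = (y 1 * y 0)⁻¹ := by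
        rw [mul_inv_rev, h1i]
      rw [h5, inv_pow, h4, inv_one]
    · rw [twist_pos y i hi, twist_pos y (i + 1) (by omega)]; exact h.adj i him
  · intro i j hij hjm
    rcases Nat.eq_zero_or_pos i with rfl | hi
    · rw [twist_zero, twist_pos y j (by omega)]
      have h1 : y j ^ 2 = 1 := h.sq j (by omega) hjm
      have h1i : (y j)⁻¹ = y j := by
        rw [pow_two] at h1; exact inv_eq_of_mul_eq_one_right h1
      have h3 : (y 0 * y j) ^ 2 = 1 := h.far 0 j hij hjm
      have h4 : (y j * y 0) ^ 2 = 1 := by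
        have : y j * y 0 = (y 0)⁻¹ * (y 0 * y j) * ((y 0)⁻¹)⁻¹ := by group
        rw [this, conj_pow, h3]; group
      have h5 : (y 0)⁻¹ * y j = (y j * y 0)⁻¹ := by
        rw [mul_inv_rev, h1i]
      rw [h5, inv_pow, h4, inv_one]
    · rw [twist_pos y i hi, twist_pos y j (by omega)]; exact h.far i j hij hjm

theorem twist_twist (y : ℕ → W) (k : ℕ) : twist (twist y) k = y k := by
  rcases Nat.eq_zero_or_pos k with rfl | hk
  · rw [twist_zero, twist_zero, inv_inv]
  · rw [twist_pos _ k hk, twist_pos _ k hk]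

end abstract

section semidirect

open SemidirectProduct

variable {P : Type*} [Group P] (ψ : ℤˣ →* MulAut P)

/-- the involutions `s, s x₀, s x₁, …` of `P ⋊ C₂` -/
def tgen (y : ℕ → P) : ℕ → P ⋊[ψ] ℤˣ
  | 0 => inr (-1)
  | (k + 1) => inr (-1) * inl (y k)

theorem s_mul_s : (inr (-1) : P ⋊[ψ] ℤˣ) * inr (-1) = 1 := by
  rw [← map_mul]
  have : ((-1 : ℤˣ) * (-1)) = 1 := by decide
  rw [this, map_one]

theorem s_mul_inl (a : P) :
    (inr (-1) : P ⋊[ψ] ℤˣ) * inl a = inl (ψ (-1) a) * inr (-1) := by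
  rw [inl_aut, Int.units_inv_eq_self]
  calc (inr (-1) : P ⋊[ψ] ℤˣ) * inl a = inr (-1) * inl a * 1 := by rw [mul_one]
    _ = inr (-1) * inl a * (inr (-1) * inr (-1)) := by rw [s_mul_s]
    _ = inr (-1) * inl a * inr (-1) * inr (-1) := by simp only [mul_assoc]

theorem tgen_succ_mul_succ (y : ℕ → P) (i j : ℕ) :
    tgen ψ y (i + 1) * tgen ψ y (j + 1) = inl (ψ (-1) (y i) * y j) := by
  show inr (-1) * inl (y i) * (inr (-1) * inl (y j)) = _
  rw [s_mul_inl, map_mul]
  calc (inl (ψ (-1) (y i)) : P ⋊[ψ] ℤˣ) * inr (-1) * (inr (-1) * inl (y j))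
      = inl (ψ (-1) (y i)) * (inr (-1) * inr (-1)) * inl (y j) := by simp only [mul_assoc]
    _ = inl (ψ (-1) (y i)) * inl (y j) := by rw [s_mul_s, mul_one]

theorem tgen_zero_mul_succ (y : ℕ → P) (j : ℕ) :
    tgen ψ y 0 * tgen ψ y (j + 1) = inl (y j) := by
  show inr (-1) * (inr (-1) * inl (y j)) = _
  rw [← mul_assoc, s_mul_s, one_mul]

theorem tgen_braidRel (y : ℕ → P) (m : ℕ) (h : MooreRel y m)
    (hψ : ∀ k, k < m → ψ (-1) (y k) = twist y k) : BraidRel (tgen ψ y) (m + 1) := by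
  have ht := h.twist
  have hsq : ∀ i, i < m + 1 → tgen ψ y i * tgen ψ y i = 1 := by
    intro i hi
    rcases i with _ | k
    · exact s_mul_s ψ
    · rw [tgen_succ_mul_succ, hψ k (by omega)]
      rcases Nat.eq_zero_or_pos k with rfl | hk
      · rw [twist_zero, inv_mul_cancel, map_one]
      · rw [twist_pos y k hk, ← pow_two, h.sq k hk (by omega), map_one]
  refine ⟨hsq, ?_, ?_⟩
  · intro i hi
    apply braid_of_pow_three _ _ (hsq i (by omega)) (hsq (i + 1) hi)
    rcases i with _ | k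
    · rw [tgen_zero_mul_succ, ← map_pow, h.cube (by omega), map_one]
    · rw [tgen_succ_mul_succ, ← map_pow, hψ k (by omega)]
      have := ht.adj k (by omega)
      rw [twist_pos y (k + 1) (by omega)] at this
      rw [this, map_one]
  · intro i j hij hj
    apply comm_of_pow_two _ _ (hsq i (by omega)) (hsq j hj)
    obtain ⟨j', rfl⟩ : ∃ j', j = j' + 1 := ⟨j - 1, by omega⟩
    rcases i with _ | k
    · rw [tgen_zero_mul_succ, ← map_pow, h.sq j' (by omega) (by omega), map_one]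
    · rw [tgen_succ_mul_succ, ← map_pow, hψ k (by omega)]
      have := ht.far k j' (by omega) (by omega)
      rw [twist_pos y j' (by omega)] at this
      rw [this, map_one]

theorem tgen_closure (y : ℕ → P) (m : ℕ) (hy : Subgroup.closure (y '' Set.Iio m) = ⊤) :
    Subgroup.closure (tgen ψ y '' Set.Iio (m + 1)) = ⊤ := by
  set H := Subgroup.closure (tgen ψ y '' Set.Iio (m + 1)) with hH
  have hs : (inr (-1) : P ⋊[ψ] ℤˣ) ∈ H :=
    Subgroup.subset_closure ⟨0, by simp, rfl⟩
  have hinl : ∀ a : P, (inl a : P ⋊[ψ] ℤˣ) ∈ H := by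
    intro a
    have ha : a ∈ Subgroup.closure (y '' Set.Iio m) := by rw [hy]; trivial
    have hle : Subgroup.closure (y '' Set.Iio m) ≤ H.comap (inl : P →* P ⋊[ψ] ℤˣ) := by
      rw [Subgroup.closure_le]
      rintro _ ⟨k, hk, rfl⟩
      show inl (y k) ∈ H
      have h1 : tgen ψ y (k + 1) ∈ H :=
        Subgroup.subset_closure ⟨k + 1, by simp only [Set.mem_Iio] at hk ⊢; omega, rfl⟩
      have h2 : (inl (y k) : P ⋊[ψ] ℤˣ) = inr (-1) * tgen ψ y (k + 1) := by
        show _ = inr (-1) * (inr (-1) * inl (y k))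
        rw [← mul_assoc, s_mul_s, one_mul]
      rw [h2]; exact H.mul_mem hs h1
    exact hle ha
  have hinr : ∀ u : ℤˣ, (inr u : P ⋊[ψ] ℤˣ) ∈ H := by
    intro u
    rcases Int.units_eq_one_or u with rfl | rfl
    · rw [map_one]; exact H.one_mem
    · exact hs
  rw [eq_top_iff]
  intro x _
  rw [← inl_left_mul_inr_right x]
  exact H.mul_mem (hinl _) (hinr _)

end semidirect

theorem exists_unitsHom {W : Type*} [Group W] (g : W) (hg : g * g = 1) :
    ∃ f : ℤˣ →* W, f (-1) = g := by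
  classical
  have hne : ¬ ((-1 : ℤˣ) = 1) := by decide
  refine ⟨MonoidHom.mk' (fun u => if u = 1 then 1 else g) ?_, ?_⟩
  · intro a b
    rcases Int.units_eq_one_or a with rfl | rfl <;> rcases Int.units_eq_one_or b with rfl | rfl
    · simp
    · simp
    · simp
    · have : ((-1 : ℤˣ) * (-1)) = 1 := by decide
      simp only [this, if_neg hne, if_true, hg]
  · show (if (-1 : ℤˣ) = 1 then 1 else g) = g
    rw [if_neg hne]

section presented

/-- Moore's relators on `m` generators. -/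
def mooreRels (m : ℕ) : Set (FreeGroup (Fin m)) :=
  {g : FreeGroup (Fin m) | ∃ i : Fin m, i.val = 0 ∧ g = FreeGroup.of i ^ 3} ∪
   {g | ∃ i : Fin m, 1 ≤ i.val ∧ g = FreeGroup.of i ^ 2} ∪
   {g | ∃ i j : Fin m, j.val = i.val + 1 ∧ g = (FreeGroup.of i * FreeGroup.of j) ^ 3} ∪
   {g | ∃ i j : Fin m, i.val + 1 < j.val ∧ g = (FreeGroup.of i * FreeGroup.of j) ^ 2}

abbrev MooreGroup (m : ℕ) := PresentedGroup (mooreRels m)

theorem exists_hom_of_mooreRel {W : Type*} [Group W] (y : ℕ → W) (m : ℕ) (h : MooreRel y m) :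
    ∃ φ : MooreGroup m →* W, ∀ i : Fin m, φ (PresentedGroup.of i) = y i.val := by
  have hrel : ∀ r ∈ mooreRels m, FreeGroup.lift (fun i : Fin m => y i.val) r = 1 := by
    rintro r (((⟨i, hi, rfl⟩ | ⟨i, hi, rfl⟩) | ⟨i, j, hij, rfl⟩) | ⟨i, j, hij, rfl⟩)
    · rw [map_pow, FreeGroup.lift_apply_of, hi]
      exact h.cube (by have := i.2; omega)
    · rw [map_pow, FreeGroup.lift_apply_of]
      exact h.sq i.val hi i.2
    · rw [map_pow, map_mul, FreeGroup.lift_apply_of, FreeGroup.lift_apply_of, hij]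
      exact h.adj i.val (by rw [← hij]; exact j.2)
    · rw [map_pow, map_mul, FreeGroup.lift_apply_of, FreeGroup.lift_apply_of]
      exact h.far i.val j.val hij j.2
  exact ⟨PresentedGroup.toGroup hrel, fun i => PresentedGroup.toGroup.of hrel⟩

/-- `ℕ`-indexed generators of the Moore group -/
noncomputable def xN (m : ℕ) (k : ℕ) : MooreGroup m :=
  if h : k < m then PresentedGroup.of ⟨k, h⟩ else 1

theorem xN_of_lt (m k : ℕ) (h : k < m) : xN m k = PresentedGroup.of ⟨k, h⟩ := by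
  unfold xN; rw [dif_pos h]

theorem mooreRel_xN (m : ℕ) : MooreRel (xN m) m := by
  refine ⟨?_, ?_, ?_, ?_⟩
  · intro hm
    rw [xN_of_lt m 0 hm]
    have hmem : (FreeGroup.of (⟨0, hm⟩ : Fin m)) ^ 3 ∈ mooreRels m :=
      Or.inl (Or.inl (Or.inl ⟨⟨0, hm⟩, rfl, rfl⟩))
    have h1 := PresentedGroup.one_of_mem hmem
    rw [map_pow] at h1
    exact h1
  · intro i hi him
    rw [xN_of_lt m i him]
    have hmem : (FreeGroup.of (⟨i, him⟩ : Fin m)) ^ 2 ∈ mooreRels m :=
      Or.inl (Or.inl (Or.inr ⟨⟨i, him⟩, hi, rfl⟩))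
    have h1 := PresentedGroup.one_of_mem hmem
    rw [map_pow] at h1
    exact h1
  · intro i him
    rw [xN_of_lt m i (by omega), xN_of_lt m (i + 1) him]
    have hmem : (FreeGroup.of (⟨i, by omega⟩ : Fin m) * FreeGroup.of (⟨i + 1, him⟩ : Fin m)) ^ 3 ∈
        mooreRels m := Or.inl (Or.inr ⟨⟨i, by omega⟩, ⟨i + 1, him⟩, rfl, rfl⟩)
    have h1 := PresentedGroup.one_of_mem hmem
    rw [map_pow, map_mul] at h1
    exact h1
  · intro i j hij hjm
    rw [xN_of_lt m i (by omega), xN_of_lt m j hjm]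
    have hmem : (FreeGroup.of (⟨i, by omega⟩ : Fin m) * FreeGroup.of (⟨j, hjm⟩ : Fin m)) ^ 2 ∈
        mooreRels m := Or.inr ⟨⟨i, by omega⟩, ⟨j, hjm⟩, hij, rfl⟩
    have h1 := PresentedGroup.one_of_mem hmem
    rw [map_pow, map_mul] at h1
    exact h1

theorem closure_xN (m : ℕ) : Subgroup.closure (xN m '' Set.Iio m) = ⊤ := by
  rw [← PresentedGroup.closure_range_of (mooreRels m)]
  congr 1
  ext a
  constructor
  · rintro ⟨k, hk, rfl⟩
    exact ⟨⟨k, hk⟩, (xN_of_lt m k hk).symm⟩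
  · rintro ⟨i, rfl⟩
    exact ⟨i.val, i.2, xN_of_lt m i.val i.2⟩

/-- the twisting automorphism `x₀ ↦ x₀⁻¹`, `xₖ ↦ xₖ` of the Moore group -/
theorem exists_theta (m : ℕ) : ∃ θ : MulAut (MooreGroup m),
    (∀ k, k < m → θ (xN m k) = twist (xN m) k) ∧ θ * θ = 1 := by
  obtain ⟨θ, hθ⟩ := exists_hom_of_mooreRel (twist (xN m)) m (mooreRel_xN m).twist
  have hθ' : ∀ k, k < m → θ (xN m k) = twist (xN m) k := by
    intro k hk
    rw [xN_of_lt m k hk]; exact hθ ⟨k, hk⟩
  have hinv : θ.comp θ = MonoidHom.id _ := by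
    apply PresentedGroup.ext
    intro i
    show θ (θ (PresentedGroup.of i)) = PresentedGroup.of i
    rw [← xN_of_lt m i.val i.2, hθ' i.val i.2]
    rcases Nat.eq_zero_or_pos i.val with h0 | hpos
    · rw [h0, twist_zero, map_inv, hθ' 0 (by have := i.2; omega), twist_zero, inv_inv]
    · rw [twist_pos _ _ hpos, hθ' i.val i.2, twist_pos _ _ hpos]
  refine ⟨MonoidHom.toMulEquiv θ θ hinv hinv, hθ', ?_⟩
  ext a
  show θ (θ a) = a
  exact DFunLike.congr_fun hinv a

end presented

section final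

open SemidirectProduct

/-- `ℕ`-indexed adjacent transpositions of `Fin (m+2)` -/
noncomputable def sw (m j : ℕ) : Equiv.Perm (Fin (m + 1 + 1)) :=
  if h : j < m + 1 then Equiv.swap (Fin.castSucc ⟨j, h⟩) (Fin.succ ⟨j, h⟩) else 1

theorem sw_of_lt (m j : ℕ) (h : j < m + 1) :
    sw m j = Equiv.swap (Fin.castSucc ⟨j, h⟩) (Fin.succ ⟨j, h⟩) := by
  unfold sw; rw [dif_pos h]

theorem sw_braidRel (m : ℕ) : BraidRel (sw m) (m + 1) := by
  set φ : (CoxeterMatrix.A (m + 1)).Group →* Equiv.Perm (Fin (m + 1 + 1)) :=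
    (CoxeterMatrix.A (m + 1)).toCoxeterSystem.lift ⟨_, Cfsg.Agent.S2530.swap_liftable (m + 1)⟩ with hφ
  have hφs : ∀ i : Fin (m + 1), φ ((CoxeterMatrix.A (m + 1)).simple i) =
      Equiv.swap i.castSucc i.succ := by
    intro i
    have := (CoxeterMatrix.A (m + 1)).toCoxeterSystem.lift_apply_simple
      (Cfsg.Agent.S2530.swap_liftable (m + 1)) i
    rwa [CoxeterMatrix.toCoxeterSystem_simple] at this
  have hfun : ∀ j, sw m j = φ (Cfsg.Agent.S2530.tgen (m + 1) j) := by
    intro j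
    by_cases h : j < m + 1
    · rw [sw_of_lt m j h, Cfsg.Agent.S2530.tgen_of_lt (m + 1) j h, hφs]
    · unfold sw Cfsg.Agent.S2530.tgen
      rw [dif_neg h, dif_neg h, map_one]
  have hb := Cfsg.Agent.S2530.tgen_braidRel (m + 1)
  refine ⟨?_, ?_, ?_⟩
  · intro i hi; rw [hfun, ← map_mul, hb.sq i hi, map_one]
  · intro i hi
    rw [hfun i, hfun (i + 1), ← map_mul, ← map_mul, ← map_mul, ← map_mul, hb.braid i hi]
  · intro i j hij hj
    rw [hfun i, hfun j, ← map_mul, ← map_mul, hb.comm i j hij hj]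

theorem sign_sw (m j : ℕ) (h : j < m + 1) : Equiv.Perm.sign (sw m j) = -1 := by
  rw [sw_of_lt m j h]
  apply Equiv.Perm.sign_swap
  exact (Fin.castSucc_lt_succ).ne

/-- **Moore's presentation of the alternating group.** -/
theorem nonempty_mulEquiv_alternatingGroup (m : ℕ) :
    Nonempty (MooreGroup m ≃* alternatingGroup (Fin (m + 1 + 1))) := by
  classical
  have hsw := sw_braidRel m
  have hp : MooreRel (mooreOf (sw m)) m := mooreRel_of_braidRel (sw m) m hsw
  obtain ⟨φ₀, hφ₀⟩ := exists_hom_of_mooreRel (mooreOf (sw m)) m hp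
  have hφ₀N : ∀ k, k < m → φ₀ (xN m k) = mooreOf (sw m) k := by
    intro k hk; rw [xN_of_lt m k hk]; exact hφ₀ ⟨k, hk⟩
  obtain ⟨θ, hθ, hθθ⟩ := exists_theta m
  obtain ⟨ψ, hψ⟩ := exists_unitsHom θ hθθ
  have hs0 : sw m 0 * sw m 0 = 1 := hsw.sq 0 (by omega)
  have hs0i : (sw m 0)⁻¹ = sw m 0 := inv_eq_of_mul_eq_one_right hs0
  obtain ⟨f₂, hf₂⟩ := exists_unitsHom (sw m 0) hs0
  -- the semidirect product
  have hbraid := tgen_braidRel ψ (xN m) m (mooreRel_xN m) (fun k hk => by rw [hψ]; exact hθ k hk)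
  have hgen := tgen_closure ψ (xN m) m (closure_xN m)
  obtain ⟨hfin, hcard⟩ := finite_card_le_of_braidRel hbraid hgen
  -- the homomorphism to the symmetric group
  have hcompat : ∀ g : ℤˣ, φ₀.comp (ψ g).toMonoidHom =
      (MulAut.conj (f₂ g)).toMonoidHom.comp φ₀ := by
    intro g
    rcases Int.units_eq_one_or g with rfl | rfl
    · ext a
      simp
    · rw [hψ, hf₂]
      apply PresentedGroup.ext
      intro i
      show φ₀ (θ (PresentedGroup.of i)) = sw m 0 * φ₀ (PresentedGroup.of i) * (sw m 0)⁻¹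
      rw [← xN_of_lt m i.val i.2, hθ i.val i.2, hφ₀N i.val i.2, hs0i]
      rcases Nat.eq_zero_or_pos i.val with h0 | hpos
      · rw [h0, twist_zero, map_inv, hφ₀N 0 (by have := i.2; omega), mooreOf_zero, mul_inv_rev]
        have hs1 : sw m 1 * sw m 1 = 1 := hsw.sq 1 (by have := i.2; omega)
        rw [hs0i, inv_eq_of_mul_eq_one_right hs1]
        calc sw m 1 * sw m 0 = (sw m 0 * sw m 0) * sw m 1 * sw m 0 := by rw [hs0, one_mul]
          _ = sw m 0 * (sw m 0 * sw m 1) * sw m 0 := by simp only [mul_assoc]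
      · rw [twist_pos _ _ hpos, hφ₀N i.val i.2, mooreOf_pos _ _ hpos]
        have hc : sw m 0 * sw m (i.val + 1) = sw m (i.val + 1) * sw m 0 :=
          hsw.comm 0 (i.val + 1) (by omega) (by have := i.2; omega)
        calc sw m 0 * sw m (i.val + 1) = sw m (i.val + 1) * sw m 0 := hc
          _ = (sw m 0 * sw m 0) * sw m (i.val + 1) * sw m 0 := by rw [hs0, one_mul]
          _ = sw m 0 * (sw m 0 * sw m (i.val + 1)) * sw m 0 := by simp only [mul_assoc]
  set Φ : MooreGroup m ⋊[ψ] ℤˣ →* Equiv.Perm (Fin (m + 1 + 1)) := lift φ₀ f₂ hcompat with hΦ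
  have hΦt : ∀ j, j < m + 1 → Φ (tgen ψ (xN m) j) = sw m j := by
    intro j hj
    rcases j with _ | k
    · show Φ (inr (-1)) = _
      rw [hΦ, lift_inr, hf₂]
    · show Φ (inr (-1) * inl (xN m k)) = _
      rw [map_mul, hΦ, lift_inr, lift_inl, hf₂, hφ₀N k (by omega)]
      rcases Nat.eq_zero_or_pos k with rfl | hk
      · rw [mooreOf_zero, ← mul_assoc, hs0, one_mul]
      · rw [mooreOf_pos _ _ hk, ← mul_assoc, hs0, one_mul]
  have hsurj : Function.Surjective Φ := by
    rw [← MonoidHom.mrange_eq_top, eq_top_iff, ← Equiv.Perm.mclosure_swap_castSucc_succ (m + 1),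
      Submonoid.closure_le]
    rintro _ ⟨i, rfl⟩
    refine ⟨tgen ψ (xN m) i.val, ?_⟩
    rw [hΦt i.val i.2, sw_of_lt m i.val i.2]
  haveI := hfin
  have hbij : Function.Bijective Φ := by
    rw [Nat.bijective_iff_surjective_and_card]
    refine ⟨hsurj, le_antisymm ?_ (Nat.card_le_card_of_surjective Φ hsurj)⟩
    rw [Nat.card_perm, Nat.card_fin]
    exact hcard
  have hEcard : Nat.card (MooreGroup m ⋊[ψ] ℤˣ) = (m + 1 + 1).factorial := by
    rw [Nat.card_congr (Equiv.ofBijective Φ hbij), Nat.card_perm, Nat.card_fin]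
  have hPcard : Nat.card (MooreGroup m) * 2 = (m + 1 + 1).factorial := by
    rw [← hEcard, SemidirectProduct.card, Nat.card_eq_fintype_card (α := ℤˣ), Fintype.card_units_int]
  -- injectivity of φ₀ and its image
  have hφ₀inj : Function.Injective φ₀ := by
    have : φ₀ = Φ.comp inl := by rw [hΦ, lift_comp_inl]
    rw [this]
    exact hbij.1.comp inl_injective
  have hsign : ∀ a, φ₀ a ∈ alternatingGroup (Fin (m + 1 + 1)) := by
    have hhom : (Equiv.Perm.sign).comp φ₀ = 1 := by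
      apply PresentedGroup.ext
      intro i
      show Equiv.Perm.sign (φ₀ (PresentedGroup.of i)) = 1
      rw [hφ₀ i]
      rcases Nat.eq_zero_or_pos i.val with h0 | hpos
      · rw [h0, mooreOf_zero, map_mul, sign_sw m 0 (by omega),
          sign_sw m 1 (by have := i.2; omega)]
        rfl
      · rw [mooreOf_pos _ _ hpos, map_mul, sign_sw m 0 (by omega),
          sign_sw m (i.val + 1) (by have := i.2; omega)]
        rfl
    intro a
    rw [Equiv.Perm.mem_alternatingGroup]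
    exact DFunLike.congr_fun hhom a
  set φ₁ : MooreGroup m →* alternatingGroup (Fin (m + 1 + 1)) :=
    φ₀.codRestrict _ hsign with hφ₁
  have hφ₁inj : Function.Injective φ₁ := by
    intro a b hab
    apply hφ₀inj
    have := congrArg Subtype.val hab
    exact this
  have hAcard : 2 * Nat.card (alternatingGroup (Fin (m + 1 + 1))) = (m + 1 + 1).factorial := by
    rw [two_mul_nat_card_alternatingGroup, Nat.card_perm, Nat.card_fin]
  have hφ₁bij : Function.Bijective φ₁ := by
    rw [Nat.bijective_iff_injective_and_card]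
    refine ⟨hφ₁inj, ?_⟩
    omega
  exact ⟨MulEquiv.ofBijective φ₁ hφ₁bij⟩

end final

end Cfsg.Agent.Lib.Helper25.Moore
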