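import Cfsg.Agent.Lib.Helper25.SpinAll
import Cfsg.Agent.Lib.Helper25.IndexTwoCount

set_option autoImplicit false

/-!
# `Ω` is the unique subgroup of index two of the special orthogonal group
-/

namespace Cfsg.Agent.Lib.Helper25.Spin

open Module QuadraticMap Matrix Cfsg.Agent.Lib.Helper25.CD
open scoped commutatorElement

section det

variable {ι : Type} [Fintype ι] [DecidableEq ι] {F : Type*} [Field F]
  (Q : QuadraticForm F (ι → F))

theorem det_reflectionMatrix' {v : ι → F} (hv : Q v ≠ 0) :
    (Cfsg.reflectionMatrix ⇑Q v).det = -1 := by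
  have h1 : Cfsg.reflectionMatrix ⇑Q v =
      1 + replicateCol Unit (-(Q v)⁻¹ • v) * replicateRow Unit (Cfsg.polarVec ⇑Q v) := by
    ext i j
    simp [Cfsg.reflectionMatrix, vecMulVec_apply, Matrix.mul_apply, sub_eq_add_neg, mul_assoc]
  rw [h1, det_one_add_replicateCol_mul_replicateRow, dotProduct_smul, polarVec_dot, polar_self,
    smul_eq_mul]
  simp only [nsmul_eq_mul, Nat.cast_ofNat]
  field_simp
  ring

theorem det_wordG' {vs : List (ι → F)} (hvs : ∀ v ∈ vs, Q v ≠ 0) :
    ((wordG Q vs : GL ι F) : Matrix ι ι F).det = (-1) ^ vs.length := by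
  induction vs with
  | nil => simp [wordG_nil]
  | cons v vs ih =>
    have e : ((wordG Q (v :: vs) : GL ι F) : Matrix ι ι F) =
        Cfsg.reflectionMatrix ⇑Q v * ((wordG Q vs : GL ι F) : Matrix ι ι F) := by
      rw [wordG_cons, ← reflM_coe]
      rfl
    rw [e, det_mul, det_reflectionMatrix' Q (hvs v (List.mem_cons_self ..)),
      ih (fun w hw => hvs w (List.mem_cons_of_mem _ hw)), List.length_cons, pow_succ]
    ring

theorem mem_special_iff_det (g : ↥(Cfsg.isometryGroup F ⇑Q)) :
    g ∈ Cfsg.specialIsometryGroup F ⇑Q ↔ ((g : GL ι F) : Matrix ι ι F).det = 1 := by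
  unfold Cfsg.specialIsometryGroup
  rw [MonoidHom.mem_ker, Units.ext_iff]
  rfl

end det

section main

variable {ι : Type} [Fintype ι] [DecidableEq ι] {F : Type*} [Field F] [Fintype F]
  (Q : QuadraticForm F (ι → F))

/-- In characteristic two every isometry has determinant one. -/
theorem special_eq_top [CharP F 2] (hQ : (polarBilin Q).Nondegenerate)
    (hex : Fintype.card F ≠ 2 ∨ Fintype.card ι ≠ 4) : Cfsg.specialIsometryGroup F ⇑Q = ⊤ := by
  rw [eq_top_iff]
  intro g _
  obtain ⟨vs, hvs, rfl⟩ := exists_word' Q hQ hex g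
  rw [mem_special_iff_det, det_wordG' Q hvs]
  have : (-1 : F) = 1 := by
    rw [CharTwo.neg_eq]
  rw [this, one_pow]

theorem conj_refl_mem_iff (h2 : (2 : F) ≠ 0) (K' : Subgroup ↥(Cfsg.isometryGroup F ⇑Q))
    (hK : (K'.subgroupOf (Cfsg.specialIsometryGroup F ⇑Q)).index = 2) {v : ι → F}
    (hv : Q v ≠ 0) : ∀ vs : List (ι → F), (∀ u ∈ vs, Q u ≠ 0) → Even vs.length →
      (reflM Q v * wordG Q vs * reflM Q v ∈ K' ↔ wordG Q vs ∈ K')
  | [], _, _ => by rw [wordG_nil, mul_one, reflM_mul_self]
  | [u], _, h => by simp at h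
  | a :: b :: vs, hvs, h => by
    have hF2 : ∀ x y : ↥(Cfsg.isometryGroup F ⇑Q), x ∈ Cfsg.specialIsometryGroup F ⇑Q →
        y ∈ Cfsg.specialIsometryGroup F ⇑Q → (x * y ∈ K' ↔ (x ∈ K' ↔ y ∈ K')) := by
      intro x y hx hy
      have := Subgroup.mul_mem_iff_of_index_two hK (a := ⟨x, hx⟩) (b := ⟨y, hy⟩)
      simpa [Subgroup.mem_subgroupOf] using this
    have hinv : ∀ x : ↥(Cfsg.isometryGroup F ⇑Q), (x⁻¹ ∈ K' ↔ x ∈ K') := fun x => inv_mem_iff
    have ha : Q a ≠ 0 := hvs a (by simp)
    have hb : Q b ≠ 0 := hvs b (by simp)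
    have hvs' : ∀ u ∈ vs, Q u ≠ 0 := fun u hu => hvs u (by simp [hu])
    have hev : Even vs.length := by
      rw [List.length_cons, List.length_cons, Nat.even_add_one, Nat.even_add_one, not_not] at h
      exact h
    have ih := conj_refl_mem_iff h2 K' hK hv vs hvs' hev
    have hpair : ∀ x y : ι → F, Q x ≠ 0 → Q y ≠ 0 →
        reflM Q x * reflM Q y ∈ Cfsg.specialIsometryGroup F ⇑Q := by
      intro x y hx hy
      have e : reflM Q x * reflM Q y = wordG Q [x, y] := by
        rw [wordG_cons, wordG_singleton]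
      rw [e, mem_special_iff Q h2]
      · exact ⟨1, rfl⟩
      · intro u hu
        simp only [List.mem_cons, List.not_mem_nil, or_false] at hu
        rcases hu with rfl | rfl
        · exact hx
        · exact hy
    have hw : wordG Q vs ∈ Cfsg.specialIsometryGroup F ⇑Q := (mem_special_iff Q h2 hvs').2 hev
    have hcw : reflM Q v * wordG Q vs * reflM Q v ∈ Cfsg.specialIsometryGroup F ⇑Q := by
      have e : reflM Q v * wordG Q vs * reflM Q v = wordG Q (v :: (vs ++ [v])) := by
        rw [wordG_cons, wordG_append, wordG_singleton, mul_assoc]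
      rw [e, mem_special_iff Q h2]
      · rw [List.length_cons, List.length_append, List.length_singleton]
        obtain ⟨k, hk⟩ := hev
        exact ⟨k + 1, by omega⟩
      · intro u hu
        simp only [List.mem_cons, List.mem_append, List.not_mem_nil, or_false] at hu
        rcases hu with rfl | hu | rfl
        · exact hv
        · exact hvs' u hu
        · exact hv
    -- the pair
    have hp : reflM Q v * (reflM Q a * reflM Q b) * reflM Q v ∈ K' ↔
        reflM Q a * reflM Q b ∈ K' := by
      have e1 : reflM Q v * (reflM Q a * reflM Q b) * reflM Q v =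
          (reflM Q v * reflM Q a) * (reflM Q v * reflM Q b)⁻¹ := by
        have hb' : (reflM Q b)⁻¹ = reflM Q b := inv_eq_of_mul_eq_one_left (reflM_mul_self Q b)
        have hv' : (reflM Q v)⁻¹ = reflM Q v := inv_eq_of_mul_eq_one_left (reflM_mul_self Q v)
        rw [_root_.mul_inv_rev, hb', hv']
        group
      have e2 : reflM Q a * reflM Q b = (reflM Q v * reflM Q a)⁻¹ * (reflM Q v * reflM Q b) := by
        have ha' : (reflM Q a)⁻¹ = reflM Q a := inv_eq_of_mul_eq_one_left (reflM_mul_self Q a)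
        rw [_root_.mul_inv_rev, ha']
        group
      rw [e1, e2, hF2 _ _ (hpair v a hv ha) (inv_mem (hpair v b hv hb)),
        hF2 _ _ (inv_mem (hpair v a hv ha)) (hpair v b hv hb), hinv, hinv]
    have e3 : wordG Q (a :: b :: vs) = (reflM Q a * reflM Q b) * wordG Q vs := by
      rw [wordG_cons, wordG_cons, mul_assoc]
    have e4 : reflM Q v * wordG Q (a :: b :: vs) * reflM Q v =
        (reflM Q v * (reflM Q a * reflM Q b) * reflM Q v) *
          (reflM Q v * wordG Q vs * reflM Q v) := by
      rw [e3]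
      have hvv := reflM_mul_self Q v
      calc reflM Q v * (reflM Q a * reflM Q b * wordG Q vs) * reflM Q v
          = reflM Q v * (reflM Q a * reflM Q b) * 1 * wordG Q vs * reflM Q v := by group
        _ = reflM Q v * (reflM Q a * reflM Q b) * (reflM Q v * reflM Q v) * wordG Q vs *
            reflM Q v := by rw [hvv]
        _ = _ := by group
    have hcp : reflM Q v * (reflM Q a * reflM Q b) * reflM Q v ∈
        Cfsg.specialIsometryGroup F ⇑Q := by
      have e : reflM Q v * (reflM Q a * reflM Q b) * reflM Q v = wordG Q [v, a, b, v] := by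
        simp only [wordG_cons, wordG_nil, mul_one, mul_assoc]
      rw [e, mem_special_iff Q h2]
      · exact ⟨2, rfl⟩
      · intro u hu
        simp only [List.mem_cons, List.not_mem_nil, or_false] at hu
        rcases hu with rfl | rfl | rfl | rfl
        · exact hv
        · exact ha
        · exact hb
        · exact hv
    rw [e4, e3, hF2 _ _ hcp hcw, hF2 _ _ (hpair a b ha hb) hw, hp, ih]

/-- A subgroup of index two of `SO` in odd characteristic contains `Ω`. -/
theorem omega_le_of_relIndex_two (h2 : (2 : F) ≠ 0) (hQ : (polarBilin Q).Nondegenerate)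
    {u₀ : ι → F} (hu₀ : Q u₀ ≠ 0)
    (K' : Subgroup ↥(Cfsg.isometryGroup F ⇑Q)) (hle : K' ≤ Cfsg.specialIsometryGroup F ⇑Q)
    (hK : (K'.subgroupOf (Cfsg.specialIsometryGroup F ⇑Q)).index = 2) :
    Cfsg.Omega F ⇑Q ≤ K' := by
  have hSO : (Cfsg.specialIsometryGroup F ⇑Q).Normal := by
    unfold Cfsg.specialIsometryGroup
    infer_instance
  -- conjugation by reflections preserves `K'`
  have hrefl : ∀ v : ι → F, Q v ≠ 0 → ∀ x ∈ K', reflM Q v * x * reflM Q v ∈ K' := by
    intro v hv x hx
    obtain ⟨vs, hvs, rfl⟩ := exists_word Q h2 hQ x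
    have hev := (mem_special_iff Q h2 hvs).1 (hle hx)
    exact (conj_refl_mem_iff Q h2 K' hK hv vs hvs hev).2 hx
  have hnormal : K'.Normal := by
    constructor
    intro x hx g
    obtain ⟨vs, hvs, rfl⟩ := exists_word Q h2 hQ g
    induction vs with
    | nil => simpa [wordG_nil] using hx
    | cons v vs ih =>
      have hv := hvs v (List.mem_cons_self ..)
      have ih' := ih (fun w hw => hvs w (List.mem_cons_of_mem _ hw))
      have e : wordG Q (v :: vs) * x * (wordG Q (v :: vs))⁻¹ =
          reflM Q v * (wordG Q vs * x * (wordG Q vs)⁻¹) * reflM Q v := by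
        have hv' : (reflM Q v)⁻¹ = reflM Q v := inv_eq_of_mul_eq_one_left (reflM_mul_self Q v)
        rw [wordG_cons, _root_.mul_inv_rev, hv']
        group
      rw [e]
      exact hrefl v hv _ ih'
  have hidx : K'.index = 4 := by
    have h1 := Subgroup.relIndex_mul_index hle
    unfold Subgroup.relIndex at h1
    rw [hK, special_index_two Q h2 hQ hu₀] at h1
    exact h1.symm
  have hcard : Nat.card (↥(Cfsg.isometryGroup F ⇑Q) ⧸ K') = 2 ^ 2 := by
    rw [← Subgroup.index_eq_card, hidx]
    norm_num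
  haveI : Fact (Nat.Prime 2) := ⟨Nat.prime_two⟩
  have hcomm := IsPGroup.commutative_of_card_eq_prime_sq hcard
  show commutator ↥(Cfsg.isometryGroup F ⇑Q) ≤ K'
  rw [commutator_def, Subgroup.commutator_le]
  intro a _ b _
  rw [← QuotientGroup.eq_one_iff, commutatorElement_def]
  simp only [QuotientGroup.mk_mul, QuotientGroup.mk_inv]
  rw [hcomm (↑a) (↑b)]
  group

/-- `Ω` is the unique subgroup of index two of the special orthogonal group. -/
theorem unique_index_two (hQ : (polarBilin Q).Nondegenerate)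
    (hex : Fintype.card F ≠ 2 ∨ Fintype.card ι ≠ 4) (hn : 2 ≤ Fintype.card ι) :
    ∃! H : Subgroup ↥(Cfsg.specialIsometryGroup F ⇑Q), H.index = 2 := by
  haveI : Nonempty ι := by
    rw [← Fintype.card_pos_iff]; omega
  haveI : Nontrivial (ι → F) := inferInstance
  obtain ⟨u₀, hu₀⟩ := exists_nonsing Q hQ
  -- the index of `Ω` and `SO`
  have key : Cfsg.Omega F ⇑Q ≤ Cfsg.specialIsometryGroup F ⇑Q ∧
      (Cfsg.Omega F ⇑Q).relIndex (Cfsg.specialIsometryGroup F ⇑Q) = 2 ∧
      ∀ K' : Subgroup ↥(Cfsg.isometryGroup F ⇑Q), K' ≤ Cfsg.specialIsometryGroup F ⇑Q →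
        (K'.subgroupOf (Cfsg.specialIsometryGroup F ⇑Q)).index = 2 → Cfsg.Omega F ⇑Q ≤ K' := by
    by_cases h2 : (2 : F) = 0
    · haveI : CharP F 2 := CharTwo.of_one_ne_zero_of_two_eq_zero one_ne_zero h2
      have htop := special_eq_top Q hQ hex
      have hidx := omega_index_two Q hQ hex
      refine ⟨by rw [htop]; exact le_top, ?_, ?_⟩
      · rw [htop, Subgroup.relIndex_top_right]
        exact hidx
      · intro K' _ hK
        rw [htop] at hK
        have : K'.index = 2 := by
          rw [← Subgroup.relIndex_top_right]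
          exact hK
        exact IndexTwo.commutator_le_of_index_two this
    · refine ⟨omega_le_special Q h2 hQ, ?_, ?_⟩
      · have h1 := Subgroup.relIndex_mul_index (omega_le_special Q h2 hQ)
        rw [special_index_two Q h2 hQ hu₀, omega_index_four Q h2 hQ hn] at h1
        omega
      · intro K' hle hK
        exact omega_le_of_relIndex_two Q h2 hQ hu₀ K' hle hK
  obtain ⟨hΩle, hΩrel, huniq⟩ := key
  refine ⟨(Cfsg.Omega F ⇑Q).subgroupOf (Cfsg.specialIsometryGroup F ⇑Q), hΩrel, ?_⟩
  intro K hK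
  -- the image of `K` in the orthogonal group
  obtain ⟨K', hK'def⟩ : ∃ K', K' = K.map (Cfsg.specialIsometryGroup F ⇑Q).subtype := ⟨_, rfl⟩
  have hK'le : K' ≤ Cfsg.specialIsometryGroup F ⇑Q := by
    rw [hK'def]
    rintro _ ⟨x, -, rfl⟩
    exact x.2
  have hKeq : K'.subgroupOf (Cfsg.specialIsometryGroup F ⇑Q) = K := by
    rw [hK'def]
    unfold Subgroup.subgroupOf
    exact Subgroup.comap_map_eq_self_of_injective (Subgroup.subtype_injective _) K
  have hΩK' := huniq K' hK'le (by rw [hKeq]; exact hK)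
  -- equal relative index
  have h3 : K' ≤ Cfsg.Omega F ⇑Q := by
    rw [← Subgroup.relIndex_eq_one]
    have h4 := Subgroup.relIndex_mul_relIndex (Cfsg.Omega F ⇑Q) K'
      (Cfsg.specialIsometryGroup F ⇑Q) hΩK' hK'le
    have h5 : K'.relIndex (Cfsg.specialIsometryGroup F ⇑Q) = 2 := by
      unfold Subgroup.relIndex
      rw [hKeq]; exact hK
    rw [h5, hΩrel] at h4
    omega
  have h6 : K' = Cfsg.Omega F ⇑Q := le_antisymm h3 hΩK'
  rw [← hKeq, h6]

end main

end Cfsg.Agent.Lib.Helper25.Spin
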