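import Cfsg.Agent.Lib.Helper18.PSLnFldB
import Cfsg.Agent.Lib.Helper15.IsometryTransport

set_option autoImplicit false

/-!
# The centraliser of the inverse-transpose automorphism in `PGL_n`
-/

namespace Cfsg.Agent.Lib.Helper25.InvTrans

open Matrix Cfsg Cfsg.Agent.Lib.Helper18.PSLnAut Cfsg.Agent.Lib.Helper18.PSLnFld

section dot

variable {n : ℕ} {F : Type*} [Field F]

/-- The sum of squares form. -/
def dotQ (n : ℕ) (F : Type*) [Field F] (v : Fin n → F) : F := v ⬝ᵥ v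

theorem dotQ_mulVec (g : Matrix (Fin n) (Fin n) F) (v : Fin n → F) :
    dotQ n F (g *ᵥ v) = v ⬝ᵥ (gᵀ * g) *ᵥ v := by
  unfold dotQ
  rw [← Matrix.mulVec_mulVec, Matrix.dotProduct_mulVec v, Matrix.vecMul_transpose]

/-- A matrix is a similarity of the sum of squares iff `gᵀ g` is a scalar. -/
theorem mem_sim_dot_iff (h2 : (2 : F) ≠ 0) (g : GL (Fin n) F) :
    g ∈ Geo.quadSimilarityGroup (F := F) (dotQ n F) ↔
      ∃ c : Fˣ, (g.1)ᵀ * g.1 = (c : F) • (1 : Matrix (Fin n) (Fin n) F) := by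
  constructor
  · rintro ⟨c, hc⟩
    refine ⟨c, ?_⟩
    have hv : ∀ v : Fin n → F,
        v ⬝ᵥ ((g.1)ᵀ * g.1 - (c : F) • (1 : Matrix (Fin n) (Fin n) F)) *ᵥ v = 0 := by
      intro v
      rw [Matrix.sub_mulVec, dotProduct_sub, ← dotQ_mulVec, hc, Matrix.smul_mulVec,
        Matrix.one_mulVec, dotProduct_smul, smul_eq_mul]
      unfold dotQ
      ring
    obtain ⟨hd, hs⟩ := (Cfsg.Agent.Lib.Helper15.quad_vanish_iff _).1 hv
    rw [← sub_eq_zero]
    ext i j
    have hsym : ((g.1)ᵀ * g.1 - (c : F) • (1 : Matrix (Fin n) (Fin n) F)) j i =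
        ((g.1)ᵀ * g.1 - (c : F) • (1 : Matrix (Fin n) (Fin n) F)) i j := by
      have e : ((g.1)ᵀ * g.1 - (c : F) • (1 : Matrix (Fin n) (Fin n) F))ᵀ =
          (g.1)ᵀ * g.1 - (c : F) • (1 : Matrix (Fin n) (Fin n) F) := by
        rw [Matrix.transpose_sub, Matrix.transpose_mul, Matrix.transpose_transpose,
          Matrix.transpose_smul, Matrix.transpose_one]
      have := congrFun (congrFun e i) j
      rwa [Matrix.transpose_apply] at this
    have h3 := hs i j
    rw [hsym] at h3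
    have h4 : (2 : F) * ((g.1)ᵀ * g.1 - (c : F) • (1 : Matrix (Fin n) (Fin n) F)) i j = 0 := by
      linear_combination h3
    exact (mul_eq_zero.1 h4).resolve_left h2
  · rintro ⟨c, hc⟩
    refine ⟨c, fun v => ?_⟩
    rw [dotQ_mulVec, hc, Matrix.smul_mulVec, Matrix.one_mulVec, dotProduct_smul, smul_eq_mul]
    rfl

/-- The scalar matrix of a unit. -/
def scalarGL (c : Fˣ) : GL (Fin n) F :=
  Units.map (Matrix.scalar (Fin n) : F →+* Matrix (Fin n) (Fin n) F).toMonoidHom c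

theorem scalarGL_coe (c : Fˣ) :
    ((scalarGL c : GL (Fin n) F) : Matrix (Fin n) (Fin n) F) =
      (c : F) • (1 : Matrix (Fin n) (Fin n) F) := by
  show Matrix.scalar (Fin n) (c : F) = _
  rw [Matrix.scalar_apply, Matrix.smul_one_eq_diagonal]

theorem scalarGL_mem_center (c : Fˣ) : (scalarGL c : GL (Fin n) F) ∈ Subgroup.center (GL (Fin n) F) := by
  rw [Matrix.GeneralLinearGroup.mem_center_iff_val_mem_range_scalar]
  exact ⟨(c : F), rfl⟩

theorem center_eq_scalars (hn : 0 < n) :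
    Subgroup.center (GL (Fin n) F) = Geo.scalars (Fin n) F := by
  ext g
  rw [Matrix.GeneralLinearGroup.mem_center_iff_val_mem_range_scalar, Geo.mem_scalars_iff]
  constructor
  · rintro ⟨a, ha⟩
    have ha0 : a ≠ 0 := by
      rintro rfl
      rw [map_zero] at ha
      have h3 := g.3
      rw [show g.val = 0 from ha.symm, Matrix.zero_mul] at h3
      have h4 := congrFun (congrFun h3 ⟨0, hn⟩) ⟨0, hn⟩
      rw [Matrix.zero_apply, Matrix.one_apply_eq] at h4
      exact zero_ne_one h4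
    refine ⟨Units.mk0 a ha0, ?_⟩
    show g.val = a • (1 : Matrix (Fin n) (Fin n) F)
    rw [← ha, Matrix.scalar_apply, Matrix.smul_one_eq_diagonal]
  · rintro ⟨c, hc⟩
    refine ⟨(c : F), ?_⟩
    show _ = g.val
    rw [Matrix.scalar_apply, ← Matrix.smul_one_eq_diagonal]
    exact hc.symm

theorem conjAHom_scalarGL (hn : 2 ≤ n) (c : Fˣ) :
    conjAHom (scalarGL c : GL (Fin n) F) = 1 := by
  have h : (scalarGL c : GL (Fin n) F) ∈ (conjAHom (n := n) (F := F)).ker := by
    rw [ker_conjAHom hn]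
    exact scalarGL_mem_center c
  exact h

/-- `gti g = c⁻¹ g` when `gᵀ g = c`. -/
theorem gti_eq_of_sim (g : GL (Fin n) F) (c : Fˣ)
    (hc : (g.1)ᵀ * g.1 = (c : F) • (1 : Matrix (Fin n) (Fin n) F)) :
    gti g = g * scalarGL c⁻¹ := by
  apply Units.ext
  rw [gti_coe, Units.val_mul, scalarGL_coe, Matrix.mul_smul, Matrix.mul_one]
  have h1 : (g.1)ᵀ = (c : F) • ((g⁻¹ : GL (Fin n) F) : Matrix (Fin n) (Fin n) F) := by
    have h3 : (g.1)ᵀ * g.1 * ((g⁻¹ : GL (Fin n) F) : Matrix (Fin n) (Fin n) F) =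
        ((c : F) • (1 : Matrix (Fin n) (Fin n) F)) *
          ((g⁻¹ : GL (Fin n) F) : Matrix (Fin n) (Fin n) F) := by rw [hc]
    rw [Matrix.mul_assoc, gl_mul_inv, Matrix.mul_one, Matrix.smul_mul, Matrix.one_mul] at h3
    exact h3
  have h3 : ((g⁻¹ : GL (Fin n) F) : Matrix (Fin n) (Fin n) F) = ((c⁻¹ : Fˣ) : F) • (g.1)ᵀ := by
    rw [h1, smul_smul, ← Units.val_mul, inv_mul_cancel, Units.val_one, one_smul]
  rw [h3, Matrix.transpose_smul, Matrix.transpose_transpose]

/-- The automorphism induced by `g` commutes with inverse-transpose iff `g` is a similarity of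
the sum of squares. -/
theorem conjAHom_mem_centralizer_iff (hn : 2 ≤ n) (h2 : (2 : F) ≠ 0) (g : GL (Fin n) F) :
    conjAHom g ∈ Subgroup.centralizer
        {(itA : MulAut (ProjectiveSpecialLinearGroup (Fin n) F))} ↔
      g ∈ Geo.quadSimilarityGroup (F := F) (dotQ n F) := by
  rw [Subgroup.mem_centralizer_iff, mem_sim_dot_iff h2]
  constructor
  · intro h
    have hc := h itA (Set.mem_singleton _)
    have h1 : ∀ x, conjA (gti g) x = conjA g x := by
      intro x
      have h3 := DFunLike.congr_fun hc (itA x)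
      rw [MulAut.mul_apply, MulAut.mul_apply, conjAHom_apply, conjAHom_apply, itA_conjA,
        itA_itA] at h3
      exact h3
    have h3 : g⁻¹ * gti g ∈ (conjAHom (n := n) (F := F)).ker := by
      rw [MonoidHom.mem_ker, map_mul, map_inv, inv_mul_eq_one]
      ext x
      exact (h1 x).symm
    rw [ker_conjAHom hn, Matrix.GeneralLinearGroup.mem_center_iff_val_mem_range_scalar] at h3
    obtain ⟨a, ha⟩ := h3
    have ha' : ((gti g : GL (Fin n) F) : Matrix (Fin n) (Fin n) F) = a • g.1 := by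
      have h4 : (gti g : GL (Fin n) F) = g * (g⁻¹ * gti g) := by group
      rw [h4, Units.val_mul]
      have h5 : ((g⁻¹ * gti g : GL (Fin n) F) : Matrix (Fin n) (Fin n) F) =
          a • (1 : Matrix (Fin n) (Fin n) F) := by
        show (g⁻¹ * gti g).val = _
        rw [← ha, Matrix.scalar_apply, Matrix.smul_one_eq_diagonal]
      rw [h5, Matrix.mul_smul, Matrix.mul_one]
    rw [gti_coe] at ha'
    have h6 : a • ((g.1)ᵀ * g.1) = 1 := by
      rw [← Matrix.mul_smul, ← ha', ← Matrix.transpose_mul, gl_inv_mul, Matrix.transpose_one]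
    have ha0 : a ≠ 0 := by
      rintro rfl
      rw [zero_smul] at h6
      have h7 := congrFun (congrFun h6 ⟨0, by omega⟩) ⟨0, by omega⟩
      rw [Matrix.zero_apply, Matrix.one_apply_eq] at h7
      exact zero_ne_one h7
    refine ⟨(Units.mk0 a ha0)⁻¹, ?_⟩
    rw [Units.val_inv_eq_inv_val, Units.val_mk0, ← h6, smul_smul, inv_mul_cancel₀ ha0, one_smul]
  · rintro ⟨c, hc⟩ y hy
    rw [Set.mem_singleton_iff] at hy
    subst hy
    have h1 := gti_eq_of_sim g c hc
    ext x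
    rw [MulAut.mul_apply, MulAut.mul_apply, conjAHom_apply, conjAHom_apply, itA_conjA, h1,
      ← conjAHom_apply, map_mul, conjAHom_scalarGL hn, mul_one, conjAHom_apply]

end dot

section transport

variable {ι₁ ι₂ : Type} [Fintype ι₁] [DecidableEq ι₁] [Fintype ι₂] [DecidableEq ι₂]
  {F : Type*} [Field F]

/-- A change of coordinates, as an isomorphism of general linear groups. -/
def glCongr (P : Matrix ι₂ ι₁ F) (P' : Matrix ι₁ ι₂ F) (h1 : P * P' = 1) (h2 : P' * P = 1) :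
    GL ι₁ F ≃* GL ι₂ F where
  toFun g := ⟨P * g.1 * P', P * (g⁻¹ : GL ι₁ F).1 * P', by
      calc P * g.1 * P' * (P * (g⁻¹ : GL ι₁ F).1 * P')
          = P * (g.1 * ((P' * P) * (g⁻¹ : GL ι₁ F).1)) * P' := by simp only [Matrix.mul_assoc]
        _ = 1 := by
          rw [h2, Matrix.one_mul, ← Units.val_mul, mul_inv_cancel, Units.val_one, Matrix.mul_one,
            h1], by
      calc P * (g⁻¹ : GL ι₁ F).1 * P' * (P * g.1 * P')
          = P * ((g⁻¹ : GL ι₁ F).1 * ((P' * P) * g.1)) * P' := by simp only [Matrix.mul_assoc]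
        _ = 1 := by
          rw [h2, Matrix.one_mul, ← Units.val_mul, inv_mul_cancel, Units.val_one, Matrix.mul_one,
            h1]⟩
  invFun g := ⟨P' * g.1 * P, P' * (g⁻¹ : GL ι₂ F).1 * P, by
      calc P' * g.1 * P * (P' * (g⁻¹ : GL ι₂ F).1 * P)
          = P' * (g.1 * ((P * P') * (g⁻¹ : GL ι₂ F).1)) * P := by simp only [Matrix.mul_assoc]
        _ = 1 := by
          rw [h1, Matrix.one_mul, ← Units.val_mul, mul_inv_cancel, Units.val_one, Matrix.mul_one,
            h2], by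
      calc P' * (g⁻¹ : GL ι₂ F).1 * P * (P' * g.1 * P)
          = P' * ((g⁻¹ : GL ι₂ F).1 * ((P * P') * g.1)) * P := by simp only [Matrix.mul_assoc]
        _ = 1 := by
          rw [h1, Matrix.one_mul, ← Units.val_mul, inv_mul_cancel, Units.val_one, Matrix.mul_one,
            h2]⟩
  left_inv g := Units.ext (by
    show P' * (P * g.1 * P') * P = g.1
    calc P' * (P * g.1 * P') * P = (P' * P) * g.1 * (P' * P) := by simp only [Matrix.mul_assoc]
      _ = g.1 := by rw [h2, Matrix.one_mul, Matrix.mul_one])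
  right_inv g := Units.ext (by
    show P * (P' * g.1 * P) * P' = g.1
    calc P * (P' * g.1 * P) * P' = (P * P') * g.1 * (P * P') := by simp only [Matrix.mul_assoc]
      _ = g.1 := by rw [h1, Matrix.one_mul, Matrix.mul_one])
  map_mul' g h := Units.ext (by
    show P * (g.1 * h.1) * P' = (P * g.1 * P') * (P * h.1 * P')
    calc P * (g.1 * h.1) * P' = P * (g.1 * (1 * h.1)) * P' := by rw [Matrix.one_mul]
      _ = P * (g.1 * ((P' * P) * h.1)) * P' := by rw [h2]
      _ = _ := by simp only [Matrix.mul_assoc])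

variable (P : Matrix ι₂ ι₁ F) (P' : Matrix ι₁ ι₂ F) (h1 : P * P' = 1) (h2 : P' * P = 1)

theorem glCongr_coe (g : GL ι₁ F) :
    ((glCongr P P' h1 h2 g : GL ι₂ F) : Matrix ι₂ ι₂ F) = P * g.1 * P' := rfl

theorem glCongr_symm_coe (g : GL ι₂ F) :
    (((glCongr P P' h1 h2).symm g : GL ι₁ F) : Matrix ι₁ ι₁ F) = P' * g.1 * P := rfl

include h1 h2 in
theorem mulVec_cancel (w : ι₁ → F) : P' *ᵥ (P *ᵥ w) = w := by
  rw [Matrix.mulVec_mulVec, h2, Matrix.one_mulVec]

include h1 h2 in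
theorem mulVec_cancel' (v : ι₂ → F) : P *ᵥ (P' *ᵥ v) = v := by
  rw [Matrix.mulVec_mulVec, h1, Matrix.one_mulVec]

/-- Transport of similarity groups. -/
theorem glCongr_mem_sim_iff (Q₁ : (ι₁ → F) → F) (Q₂ : (ι₂ → F) → F) (c : F) (hc : c ≠ 0)
    (hQ : ∀ w, Q₂ (P *ᵥ w) = c * Q₁ w) (g : GL ι₁ F) :
    glCongr P P' h1 h2 g ∈ Geo.quadSimilarityGroup (F := F) Q₂ ↔
      g ∈ Geo.quadSimilarityGroup (F := F) Q₁ := by
  constructor
  · rintro ⟨d, hd⟩
    refine ⟨d, fun w => ?_⟩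
    have h3 := hd (P *ᵥ w)
    rw [glCongr_coe, ← Matrix.mulVec_mulVec, ← Matrix.mulVec_mulVec, mulVec_cancel P P' h1 h2, hQ,
      hQ] at h3
    have h4 : c * Q₁ (g.1 *ᵥ w) = c * ((d : F) * Q₁ w) := by rw [h3]; ring
    exact mul_left_cancel₀ hc h4
  · rintro ⟨d, hd⟩
    refine ⟨d, fun v => ?_⟩
    rw [glCongr_coe, ← Matrix.mulVec_mulVec, ← Matrix.mulVec_mulVec, hQ, hd]
    have h3 := hQ (P' *ᵥ v)
    rw [mulVec_cancel' P P' h1 h2] at h3
    rw [h3]
    ring

theorem glCongr_mem_scalars_iff (g : GL ι₁ F) :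
    glCongr P P' h1 h2 g ∈ Geo.scalars ι₂ F ↔ g ∈ Geo.scalars ι₁ F := by
  rw [Geo.mem_scalars_iff, Geo.mem_scalars_iff]
  constructor
  · rintro ⟨c, hc⟩
    refine ⟨c, ?_⟩
    rw [glCongr_coe] at hc
    calc g.1 = (P' * P) * g.1 * (P' * P) := by rw [h2, Matrix.one_mul, Matrix.mul_one]
      _ = P' * (P * g.1 * P') * P := by simp only [Matrix.mul_assoc]
      _ = (c : F) • (1 : Matrix ι₁ ι₁ F) := by
        rw [hc, Matrix.mul_smul, Matrix.mul_one, Matrix.smul_mul, h2]
  · rintro ⟨c, hc⟩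
    refine ⟨c, ?_⟩
    rw [glCongr_coe, hc, Matrix.mul_smul, Matrix.mul_one, Matrix.smul_mul, h1]

end transport

section main

variable {n : ℕ} {F : Type*} [Field F] {ι₂ : Type} [Fintype ι₂] [DecidableEq ι₂]

/-- The centraliser of inverse-transpose in `Inndiag(PSL_n)` is the projective similarity group
of any form equivalent to the sum of squares. -/
theorem nonempty_centralizer_equiv (hn : 2 ≤ n) (h2 : (2 : F) ≠ 0) (Q₂ : (ι₂ → F) → F)
    (P : Matrix ι₂ (Fin n) F) (P' : Matrix (Fin n) ι₂ F) (h1 : P * P' = 1) (h2' : P' * P = 1)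
    (c : F) (hc : c ≠ 0) (hQ : ∀ w, Q₂ (P *ᵥ w) = c * dotQ n F w)
    (ι : MulAut (ProjectiveSpecialLinearGroup (Fin n) F))
    (hι : Cfsg.IsInverseTransposeAutPSL ι) :
    Nonempty (↥(Cfsg.inndiagPSL n F ⊓ Subgroup.centralizer {ι}) ≃* Cfsg.PGO F Q₂) := by
  obtain rfl := (isInverseTranspose_iff ι).1 hι
  obtain ⟨Φ, hΦ⟩ : ∃ Φ : ↥(Geo.quadSimilarityGroup (F := F) Q₂) →*
      MulAut (ProjectiveSpecialLinearGroup (Fin n) F),
      ∀ h, Φ h = conjAHom ((glCongr P P' h1 h2').symm h.1) :=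
    ⟨(conjAHom (n := n) (F := F)).comp (((glCongr P P' h1 h2').symm.toMonoidHom).comp
      (Subgroup.subtype _)), fun h => rfl⟩
  have hmem : ∀ h : GL ι₂ F, (glCongr P P' h1 h2').symm h ∈
      Geo.quadSimilarityGroup (F := F) (dotQ n F) ↔ h ∈ Geo.quadSimilarityGroup (F := F) Q₂ := by
    intro h
    rw [← glCongr_mem_sim_iff P P' h1 h2' (dotQ n F) Q₂ c hc hQ, MulEquiv.apply_symm_apply]
  have hrange : Φ.range = Cfsg.inndiagPSL n F ⊓ Subgroup.centralizer
      {(itA : MulAut (ProjectiveSpecialLinearGroup (Fin n) F))} := by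
    ext β
    constructor
    · rintro ⟨h, rfl⟩
      rw [hΦ]
      refine ⟨?_, ?_⟩
      · rw [inndiag_eq]
        exact ⟨_, rfl⟩
      · show conjAHom _ ∈ Subgroup.centralizer _
        rw [conjAHom_mem_centralizer_iff hn h2, hmem]
        exact h.2
    · rintro ⟨hβ1, hβ2⟩
      rw [inndiag_eq] at hβ1
      obtain ⟨g, rfl⟩ := hβ1
      have hβ2' : conjAHom g ∈ Subgroup.centralizer
          {(itA : MulAut (ProjectiveSpecialLinearGroup (Fin n) F))} := hβ2
      rw [conjAHom_mem_centralizer_iff hn h2] at hβ2'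
      have h3 : glCongr P P' h1 h2' g ∈ Geo.quadSimilarityGroup (F := F) Q₂ := by
        rw [← hmem, MulEquiv.symm_apply_apply]
        exact hβ2'
      refine ⟨⟨_, h3⟩, ?_⟩
      rw [hΦ, MulEquiv.symm_apply_apply]
  have hker : Φ.ker = (Geo.scalars ι₂ F).subgroupOf (Geo.quadSimilarityGroup (F := F) Q₂) := by
    ext h
    rw [MonoidHom.mem_ker, hΦ, Subgroup.mem_subgroupOf]
    have h3 : conjAHom ((glCongr P P' h1 h2').symm h.1) = 1 ↔
        (glCongr P P' h1 h2').symm h.1 ∈ (conjAHom (n := n) (F := F)).ker := Iff.rfl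
    rw [h3, ker_conjAHom hn, center_eq_scalars (by omega),
      ← glCongr_mem_scalars_iff P P' h1 h2', MulEquiv.apply_symm_apply]
  exact ⟨((MulEquiv.subgroupCongr hrange).symm.trans
    (QuotientGroup.quotientKerEquivRange Φ).symm).trans
    (QuotientGroup.quotientMulEquivOfEq hker)⟩

end main

end Cfsg.Agent.Lib.Helper25.InvTrans
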