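/-
helper25 (S2332, stage 0 = leaf C1 of helper16's plan): the two symmetry inputs coming from the
block embedding `emb (emb h)`, `h ∈ SL J`, of `SL (Unit ⊕ (Unit ⊕ J)) F`:

* `stage0_hSym_ge3` : for `3 ≤ |J|` and independent `v, w` more than `q` weights `w'` have the same
  joint multiplicity with `v` as `w`  (`h = 1 + u φᵀ`, `φ v = 0`, `φ w = 1`, `u ∈ ker φ`);
* `stage0_hMix_ge2` : for `2 ≤ |J|` the mixing element (`h w ≠ w`).
-/
import Cfsg.Agent.Lib.Helper16.SLMinDefs

set_option autoImplicit false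

namespace Cfsg.Agent.Lib.Helper25.SLMin

open Matrix Module Cfsg.Agent.Lib.Helper16.SLMin

/-! ### private copies of the abstract weight lemmas W3, W4 -/
section W

variable {F : Type*} [Field F] [Fintype F] {H : Type*} [Group H] {M : Type*} [AddCommGroup M]
  [Module ℂ M] (ρ : Representation ℂ H M)

theorem rho_mul_apply (g h : H) (m : M) : ρ (g * h) m = ρ g (ρ h m) := by
  rw [map_mul]; rfl

theorem rho_inv_apply (g : H) (m : M) : ρ g⁻¹ (ρ g m) = m := by
  rw [← rho_mul_apply, inv_mul_cancel, map_one]; rfl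

theorem rho_apply_inv (g : H) (m : M) : ρ g (ρ g⁻¹ m) = m := by
  rw [← rho_mul_apply, mul_inv_cancel, map_one]; rfl

theorem rho_injective (g : H) : Function.Injective (ρ g) := by
  intro a b hab
  rw [← rho_inv_apply ρ g a, hab, rho_inv_apply]

/-- conjugation moves weight spaces -/
theorem map_wt_conj {I I' : Type*} [Fintype I] [Fintype I'] (ι : (I → F) → H)
    (ι' : (I' → F) → H) (g : H) (N : (I → F) → (I' → F)) (hN : Function.Surjective N)
    (hg : ∀ r, g * ι r * g⁻¹ = ι' (N r)) (v : I → F) (v' : I' → F)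
    (hd : ∀ r, v ⬝ᵥ r = v' ⬝ᵥ N r) :
    Submodule.map (ρ g) (wt ρ ι v) = wt ρ ι' v' := by
  have hg1 : ∀ r, ι' (N r) * g = g * ι r := by
    intro r
    rw [← hg r, inv_mul_cancel_right]
  have hg2 : ∀ r, ι r * g⁻¹ = g⁻¹ * ι' (N r) := by
    intro r
    rw [← hg r]
    group
  ext m'
  constructor
  · rintro ⟨m, hm, rfl⟩
    intro r'
    obtain ⟨r, rfl⟩ := hN r'
    rw [← rho_mul_apply, hg1, rho_mul_apply, hm r, map_smul, hd r]
  · intro hm'
    refine ⟨ρ g⁻¹ m', ?_, rho_apply_inv ρ g m'⟩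
    intro r
    rw [← rho_mul_apply, hg2, rho_mul_apply, hm' (N r), map_smul, hd r]

theorem finrank_map_rho' (g : H) (P : Submodule ℂ M) :
    finrank ℂ ↥(Submodule.map (ρ g) P) = finrank ℂ ↥P :=
  (Submodule.equivMapOfInjective (ρ g) (rho_injective ρ g) P).finrank_eq.symm

theorem map_rho_inf' (g : H) (P P' : Submodule ℂ M) :
    Submodule.map (ρ g) (P ⊓ P') = Submodule.map (ρ g) P ⊓ Submodule.map (ρ g) P' :=
  Submodule.map_inf (ρ g) (rho_injective ρ g)

end W

/-! ### the block embedding of `SL J` -/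
section emb2

variable {F : Type*} [Field F] {J : Type*} [Fintype J] [DecidableEq J]

/-- `SL J → SL (Unit ⊕ (Unit ⊕ J))` -/
def emb2 : SpecialLinearGroup J F →* SpecialLinearGroup (Unit ⊕ (Unit ⊕ J)) F :=
  (emb (F := F) (ι' := Unit ⊕ J)).comp (emb (F := F) (ι' := J))

theorem emb2_apply (h : SpecialLinearGroup J F) : emb2 h = emb (emb h) := rfl

theorem elim_vecMul_emb (a : Unit → F) (r : J → F) (h : SpecialLinearGroup J F) :
    (Sum.elim a r) ᵥ* ((emb h : SpecialLinearGroup (Unit ⊕ J) F) : Matrix (Unit ⊕ J) (Unit ⊕ J) F)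
      = Sum.elim a (r ᵥ* (h : Matrix J J F)) := by
  rw [emb_coe, vecMul_fromBlocks]
  simp

theorem emb2_ra (h : SpecialLinearGroup J F) (r : J → F) :
    emb2 h * ra r * (emb2 h)⁻¹ = ra (r ᵥ* ((h⁻¹ : SpecialLinearGroup J F) : Matrix J J F)) := by
  rw [emb2_apply]
  unfold ra
  rw [emb_rad, ← map_inv, elim_vecMul_emb]

theorem emb2_rx (h : SpecialLinearGroup J F) (t : Unit → F) :
    emb2 h * rx (J := J) t * (emb2 h)⁻¹ = rx t := by
  rw [emb2_apply]
  unfold rx
  rw [emb_rad, ← map_inv, elim_vecMul_emb, zero_vecMul]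

theorem emb2_rb (h : SpecialLinearGroup J F) (w : J → F) :
    emb2 h * rb w * (emb2 h)⁻¹ = rb (w ᵥ* ((h⁻¹ : SpecialLinearGroup J F) : Matrix J J F)) := by
  rw [emb2_apply]
  unfold rb
  rw [← map_inv, ← map_mul, ← map_mul, emb_rad]

theorem coe_inv_mul_coe (g : SpecialLinearGroup J F) :
    ((g⁻¹ : SpecialLinearGroup J F) : Matrix J J F) * (g : Matrix J J F) = 1 := by
  rw [← Matrix.SpecialLinearGroup.coe_mul, inv_mul_cancel, Matrix.SpecialLinearGroup.coe_one]

theorem coe_mul_coe_inv (g : SpecialLinearGroup J F) :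
    (g : Matrix J J F) * ((g⁻¹ : SpecialLinearGroup J F) : Matrix J J F) = 1 := by
  rw [← Matrix.SpecialLinearGroup.coe_mul, mul_inv_cancel, Matrix.SpecialLinearGroup.coe_one]

theorem vecMul_inv_surjective (h : SpecialLinearGroup J F) :
    Function.Surjective (fun r : J → F => r ᵥ* ((h⁻¹ : SpecialLinearGroup J F) : Matrix J J F)) := by
  intro r
  refine ⟨r ᵥ* (h : Matrix J J F), ?_⟩
  show (r ᵥ* (h : Matrix J J F)) ᵥ* ((h⁻¹ : SpecialLinearGroup J F) : Matrix J J F) = r
  rw [vecMul_vecMul, coe_mul_coe_inv, vecMul_one]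

theorem dot_mulVec_vecMul_inv (h : SpecialLinearGroup J F) (v r : J → F) :
    v ⬝ᵥ r = ((h : Matrix J J F) *ᵥ v) ⬝ᵥ
      (r ᵥ* ((h⁻¹ : SpecialLinearGroup J F) : Matrix J J F)) := by
  rw [dotProduct_comm ((h : Matrix J J F) *ᵥ v), ← dotProduct_mulVec, mulVec_mulVec,
    coe_inv_mul_coe, one_mulVec, dotProduct_comm]

end emb2

section action

variable {F : Type*} [Field F] [Fintype F] {M : Type*} [AddCommGroup M] [Module ℂ M]
  {J : Type*} [Fintype J] [DecidableEq J]
  (ρ : Representation ℂ (SpecialLinearGroup (Unit ⊕ (Unit ⊕ J)) F) M)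

theorem map_wt_ra (h : SpecialLinearGroup J F) (v : J → F) :
    Submodule.map (ρ (emb2 h)) (wt ρ (ra (F := F) (J := J)) v) =
      wt ρ (ra (F := F) (J := J)) ((h : Matrix J J F) *ᵥ v) :=
  map_wt_conj ρ ra ra (emb2 h) _ (vecMul_inv_surjective h) (emb2_ra h) v _
    (dot_mulVec_vecMul_inv h v)

theorem map_wt_rb (h : SpecialLinearGroup J F) (w : J → F) :
    Submodule.map (ρ (emb2 h)) (wt ρ (rb (F := F) (J := J)) w) =
      wt ρ (rb (F := F) (J := J)) ((h : Matrix J J F) *ᵥ w) :=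
  map_wt_conj ρ rb rb (emb2 h) _ (vecMul_inv_surjective h) (emb2_rb h) w _
    (dot_mulVec_vecMul_inv h w)

theorem map_wt_rx (h : SpecialLinearGroup J F) (a : Unit → F) :
    Submodule.map (ρ (emb2 h)) (wt ρ (rx (F := F) (J := J)) a) = wt ρ (rx (F := F) (J := J)) a :=
  map_wt_conj ρ rx rx (emb2 h) id Function.surjective_id (emb2_rx h) a a (fun _ => rfl)

end action

/-! ### transvections of `SL J` -/
section tv

variable {F : Type*} [Field F] {J : Type*} [Fintype J] [DecidableEq J]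

/-- `1 + u φᵀ` for `φ u = 0` -/
def tv (u φ : J → F) (h : φ ⬝ᵥ u = 0) : SpecialLinearGroup J F :=
  ⟨1 + vecMulVec u φ, by
    rw [vecMulVec_eq Unit, det_one_add_replicateCol_mul_replicateRow, h, add_zero]⟩

theorem tv_mulVec (u φ : J → F) (h : φ ⬝ᵥ u = 0) (v : J → F) :
    ((tv u φ h : SpecialLinearGroup J F) : Matrix J J F) *ᵥ v = v + (φ ⬝ᵥ v) • u := by
  show (1 + vecMulVec u φ) *ᵥ v = v + (φ ⬝ᵥ v) • u
  rw [add_mulVec, one_mulVec, vecMulVec_mulVec, op_smul_eq_smul]

end tv

section main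

variable {F : Type*} [Field F] [Fintype F] [DecidableEq F] {M : Type*} [AddCommGroup M]
  [Module ℂ M] [FiniteDimensional ℂ M] {J : Type*} [Fintype J] [DecidableEq J]
  (ρ : Representation ℂ (SpecialLinearGroup (Unit ⊕ (Unit ⊕ J)) F) M)

/-- a functional in dot product form vanishing at `v` and equal to one at `w` -/
theorem exists_dot_functional (v w : J → F) (hvw : LinearIndependent F ![v, w]) :
    ∃ φ : J → F, φ ⬝ᵥ v = 0 ∧ φ ⬝ᵥ w = 1 := by
  have hw : w ∉ Submodule.span F {v} := by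
    intro hmem
    obtain ⟨c, hc⟩ := Submodule.mem_span_singleton.mp hmem
    have h := (LinearIndependent.pair_iff.mp hvw) c (-1) (by rw [hc, neg_smul, one_smul, add_neg_cancel])
    exact one_ne_zero (neg_eq_zero.mp h.2)
  obtain ⟨f, hf1, hf2⟩ := Submodule.exists_dual_map_eq_bot_of_notMem hw inferInstance
  have hfv : f v = 0 := by
    have : f v ∈ (Submodule.span F {v}).map f := ⟨v, Submodule.mem_span_singleton_self v, rfl⟩
    rw [hf2] at this
    simpa using this
  have hrep : ∀ r : J → F,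
      f r = (fun j => f (fun j' => if j = j' then (1 : F) else 0)) ⬝ᵥ r := by
    intro r
    rw [LinearMap.pi_apply_eq_sum_univ f r, dotProduct]
    apply Finset.sum_congr rfl
    intro j _
    rw [smul_eq_mul, mul_comm]
  refine ⟨(f w)⁻¹ • (fun j => f (fun j' => if j = j' then (1 : F) else 0)), ?_, ?_⟩
  · rw [smul_dotProduct, ← hrep, hfv, smul_zero]
  · rw [smul_dotProduct, ← hrep, smul_eq_mul, inv_mul_cancel₀ hf1]

/-- the number of vectors killed by a non-zero functional -/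
theorem card_ker_dot (φ : J → F) (hφ : φ ≠ 0) :
    (Finset.univ.filter (fun u : J → F => φ ⬝ᵥ u = 0)).card * Fintype.card F =
      Fintype.card F ^ Fintype.card J := by
  classical
  -- the linear functional
  let f : (J → F) →ₗ[F] F :=
    { toFun := fun u => φ ⬝ᵥ u
      map_add' := fun a b => dotProduct_add φ a b
      map_smul' := fun c a => by rw [dotProduct_smul]; rfl }
  have hsurj : Function.Surjective f := by
    obtain ⟨j, hj⟩ : ∃ j, φ j ≠ 0 := by
      by_contra hcon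
      push Not at hcon
      exact hφ (funext hcon)
    intro c
    refine ⟨Pi.single j (c / φ j), ?_⟩
    show φ ⬝ᵥ Pi.single j (c / φ j) = c
    rw [dotProduct_single, mul_div_cancel₀ c hj]
  have hrange : LinearMap.range f = ⊤ := LinearMap.range_eq_top.mpr hsurj
  have hrk := LinearMap.finrank_range_add_finrank_ker f
  rw [hrange, finrank_top, finrank_self, Module.finrank_fintype_fun_eq_card] at hrk
  have hcardker : Nat.card ↥(LinearMap.ker f) = Fintype.card F ^ finrank F ↥(LinearMap.ker f) := by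
    rw [Nat.card_eq_fintype_card]
    exact Module.card_eq_pow_finrank (K := F) (V := ↥(LinearMap.ker f))
  have hfilter : (Finset.univ.filter (fun u : J → F => φ ⬝ᵥ u = 0)).card =
      Nat.card ↥(LinearMap.ker f) := by
    rw [Nat.card_eq_fintype_card, ← Fintype.card_coe]
    apply Fintype.card_congr
    refine ⟨fun u => ⟨u.1, ?_⟩, fun u => ⟨u.1, ?_⟩, fun u => rfl, fun u => rfl⟩
    · have := u.2
      rw [Finset.mem_filter] at this
      exact LinearMap.mem_ker.mpr this.2
    · rw [Finset.mem_filter]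
      exact ⟨Finset.mem_univ _, LinearMap.mem_ker.mp u.2⟩
  rw [hfilter, hcardker, ← pow_succ]
  congr 1
  omega

/-- S3: the symmetry input of the rank-two exclusion for `3 ≤ |J|`. -/
theorem stage0_hSym_ge3 (h3 : 3 ≤ Fintype.card J) :
    ∀ v w : J → F, LinearIndependent F ![v, w] → ∃ S : Finset (J → F),
      Fintype.card F < S.card ∧ ∀ w' ∈ S,
        finrank ℂ ↥((⊤ : Submodule ℂ M) ⊓ wt ρ (ra (F := F) (J := J)) v ⊓
          wt ρ (rb (F := F) (J := J)) w') =
        finrank ℂ ↥((⊤ : Submodule ℂ M) ⊓ wt ρ (ra (F := F) (J := J)) v ⊓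
          wt ρ (rb (F := F) (J := J)) w) := by
  classical
  intro v w hvw
  obtain ⟨φ, hφv, hφw⟩ := exists_dot_functional v w hvw
  have hφ : φ ≠ 0 := by
    rintro rfl
    rw [zero_dotProduct] at hφw
    exact zero_ne_one hφw
  set K : Finset (J → F) := Finset.univ.filter (fun u : J → F => φ ⬝ᵥ u = 0) with hK
  refine ⟨K.image (fun u => w + u), ?_, ?_⟩
  · rw [Finset.card_image_of_injective _ (add_right_injective w)]
    have hcard := card_ker_dot φ hφ
    rw [← hK] at hcard
    have hq : 2 ≤ Fintype.card F := Fintype.one_lt_card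
    -- `K.card * q = q ^ |J|` with `|J| ≥ 3` gives `K.card ≥ q ^ 2 > q`
    have hpow : Fintype.card F ^ 3 ≤ Fintype.card F ^ Fintype.card J :=
      Nat.pow_le_pow_right (by omega) h3
    have h1 : Fintype.card F ^ 2 * Fintype.card F ≤ K.card * Fintype.card F := by
      rw [hcard, ← pow_succ]
      exact hpow
    have h2 : Fintype.card F ^ 2 ≤ K.card := Nat.le_of_mul_le_mul_right h1 (by omega)
    have h4 : Fintype.card F < Fintype.card F ^ 2 := by
      rw [pow_two]
      nlinarith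
    omega
  · intro w' hw'
    obtain ⟨u, hu, rfl⟩ := Finset.mem_image.mp hw'
    have hφu : φ ⬝ᵥ u = 0 := (Finset.mem_filter.mp hu).2
    set h : SpecialLinearGroup J F := tv u φ hφu
    have hv' : (h : Matrix J J F) *ᵥ v = v := by
      rw [tv_mulVec, hφv, zero_smul, add_zero]
    have hw'' : (h : Matrix J J F) *ᵥ w = w + u := by
      rw [tv_mulVec, hφw, one_smul]
    rw [top_inf_eq, ← hw'', ← map_wt_rb ρ h w]
    conv_lhs => rw [← hv', ← map_wt_ra ρ h v]
    rw [← map_rho_inf', finrank_map_rho']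

/-- X2: the mixing element for `2 ≤ |J|`. -/
theorem stage0_hMix_ge2 (h2 : 2 ≤ Fintype.card J) :
    ∀ a : Unit → F, a ≠ 0 → ∀ w : J → F, w ≠ 0 →
      ∃ (g : SpecialLinearGroup (Unit ⊕ (Unit ⊕ J)) F) (w' : J → F), w' ≠ w ∧
        Submodule.map (ρ g) ((⊤ : Submodule ℂ M) ⊓ wt ρ (rx (F := F) (J := J)) a ⊓
          wt ρ (ra (F := F) (J := J)) 0) =
          (⊤ : Submodule ℂ M) ⊓ wt ρ (rx (F := F) (J := J)) a ⊓ wt ρ (ra (F := F) (J := J)) 0 ∧
        Submodule.map (ρ g) ((⊤ : Submodule ℂ M) ⊓ wt ρ (ra (F := F) (J := J)) 0 ⊓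
          wt ρ (rb (F := F) (J := J)) w) =
          (⊤ : Submodule ℂ M) ⊓ wt ρ (ra (F := F) (J := J)) 0 ⊓
            wt ρ (rb (F := F) (J := J)) w' := by
  classical
  intro a _ w hw
  obtain ⟨j0, hj0⟩ : ∃ j, w j ≠ 0 := by
    by_contra hcon
    push Not at hcon
    exact hw (funext hcon)
  obtain ⟨j1, hj1⟩ : ∃ j, j ≠ j0 := by
    by_contra hcon
    push Not at hcon
    have : Fintype.card J ≤ 1 := Fintype.card_le_one_iff.mpr (fun x y => by rw [hcon x, hcon y])
    omega
  have hφu : (Pi.single j0 (1 : F) : J → F) ⬝ᵥ (Pi.single j1 (1 : F) : J → F) = 0 := by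
    rw [single_dotProduct, one_mul, Pi.single_eq_of_ne (Ne.symm hj1)]
  set h : SpecialLinearGroup J F := tv (Pi.single j1 1) (Pi.single j0 1) hφu
  have hw' : (h : Matrix J J F) *ᵥ w = w + w j0 • (Pi.single j1 (1 : F) : J → F) := by
    rw [tv_mulVec, single_dotProduct, one_mul]
  have h0 : (h : Matrix J J F) *ᵥ (0 : J → F) = 0 := mulVec_zero _
  refine ⟨emb2 h, (h : Matrix J J F) *ᵥ w, ?_, ?_, ?_⟩
  · rw [hw']
    intro hEq
    have h1 := congrFun hEq j1
    rw [Pi.add_apply, Pi.smul_apply, Pi.single_eq_same, smul_eq_mul, mul_one, add_eq_left] at h1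
    exact hj0 h1
  · rw [top_inf_eq, map_rho_inf', map_wt_rx, map_wt_ra, h0]
  · rw [top_inf_eq, map_rho_inf', map_wt_ra, map_wt_rb, h0]

end main

end Cfsg.Agent.Lib.Helper25.SLMin
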