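/-
The Frobenius–Schur count of square roots: `#{s | s * s = g} = ∑ χ, conj (ν χ) * χ g` (helper25).
-/
import Mathlib
import Cfsg.Prelude.Def_Blocks
import Cfsg.Agent.Lib.Lead.FrobSchur
import Cfsg.Agent.Lib.Helper24.IrrFacts

set_option autoImplicit false

namespace Cfsg.Agent.Lib.Helper25

open Cfsg Cfsg.Agent.CharLib Cfsg.Agent.Lib.Helper24 Representation Module
open scoped ComplexConjugate

universe u
variable {G : Type u} [Group G]

/-- the number of square roots of `g`, as a complex number -/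
noncomputable def sqCount [Fintype G] (g : G) : ℂ := by
  classical
  exact ∑ s : G, (if s * s = g then (1 : ℂ) else 0)

/-- the Frobenius–Schur indicator of a function -/
noncomputable def fsInd [Fintype G] (χ : G → ℂ) : ℂ := (Nat.card G : ℂ)⁻¹ * ∑ s : G, χ (s * s)

theorem sqCount_eq_zero [Fintype G] (g : G) (h : ¬ ∃ u : G, u * u = g) : sqCount g = 0 := by
  classical
  unfold sqCount
  apply Finset.sum_eq_zero
  intro s _
  rw [if_neg]
  intro hs
  exact h ⟨s, hs⟩

theorem sqCount_isClassFunction [Fintype G] : IsClassFunction G (sqCount (G := G)) := by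
  classical
  intro g h
  unfold sqCount
  rw [← Equiv.sum_comp (MulAut.conj h).toEquiv]
  apply Finset.sum_congr rfl
  intro s _
  have : (MulAut.conj h).toEquiv s * (MulAut.conj h).toEquiv s = h * g * h⁻¹ ↔ s * s = g := by
    simp only [MulEquiv.toEquiv_eq_coe, MulEquiv.coe_toEquiv, MulAut.conj_apply]
    constructor
    · intro h1
      have h2 : h * (s * s) * h⁻¹ = h * g * h⁻¹ := by rw [← h1]; group
      exact mul_left_cancel (mul_right_cancel h2)
    · intro h1
      rw [← h1]; group
  simp only [this]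

theorem classInner_sqCount [Fintype G] (χ : G → ℂ) :
    classInner (sqCount (G := G)) χ = conj (fsInd χ) := by
  classical
  unfold classInner fsInd sqCount
  rw [map_mul, map_inv₀, Complex.conj_natCast, map_sum]
  congr 1
  simp only [Finset.sum_mul]
  rw [Finset.sum_comm]
  apply Finset.sum_congr rfl
  intro s _
  simp only [ite_mul, one_mul, zero_mul]
  rw [Finset.sum_ite_eq Finset.univ (s * s), if_pos (Finset.mem_univ _)]

/-- Frobenius–Schur: the number of square roots of `g` -/
theorem sqCount_eq_sum [Fintype G] [Fintype (IrrCharacter G)] (g : G) :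
    sqCount g = ∑ χ : IrrCharacter G, conj (fsInd (χ : G → ℂ)) * (χ : G → ℂ) g := by
  have h := congrFun (classFunction_eq_sum (sqCount_isClassFunction (G := G))) g
  rw [h, Finset.sum_apply]
  apply Finset.sum_congr rfl
  intro χ _
  rw [Pi.smul_apply, smul_eq_mul, classInner_sqCount]

theorem fsInd_one [Fintype G] : fsInd (1 : G → ℂ) = 1 := by
  unfold fsInd
  simp only [Pi.one_apply, Finset.sum_const, Finset.card_univ, nsmul_eq_mul, mul_one]
  rw [Nat.card_eq_fintype_card]
  have : (Fintype.card G : ℂ) ≠ 0 := by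
    have : 0 < Fintype.card G := Fintype.card_pos
    exact_mod_cast this.ne'
  field_simp

/-- a character with nonzero Frobenius–Schur indicator is real-valued -/
theorem real_of_fsInd_ne_zero [Fintype G] (χ : IrrCharacter G) (h : fsInd (χ : G → ℂ) ≠ 0) (g : G) :
    ((χ : G → ℂ) g).im = 0 := by
  obtain ⟨χf, n, ρ, hirr, rfl⟩ := χ
  haveI : ρ.IsIrreducible := hirr
  have h2 := (frobenius_schur ρ).2
  by_contra hne
  exact h (h2.mpr ⟨g, hne⟩)

/-- if `g` is not a square then some nonprincipal real-valued irreducible character does not vanish at `g` -/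
theorem exists_real_irr_ne_zero_of_not_sq [Finite G] (g : G) (h : ¬ ∃ u : G, u * u = g) :
    ∃ χ : IrrCharacter G, ¬ ((χ : G → ℂ) = fun _ => (1 : ℂ)) ∧ (∀ s : G, ((χ : G → ℂ) s).im = 0) ∧
      (χ : G → ℂ) g ≠ 0 := by
  classical
  let _ := Fintype.ofFinite G
  let _ := fintypeIrr G
  have h1 := sqCount_eq_sum g
  rw [sqCount_eq_zero g h] at h1
  let χ₀ : IrrCharacter G := ⟨1, isIrrCharacter_one⟩
  rw [← Finset.add_sum_erase Finset.univ _ (Finset.mem_univ χ₀)] at h1
  have h2 : conj (fsInd (χ₀ : G → ℂ)) * (χ₀ : G → ℂ) g = 1 := by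
    show conj (fsInd (1 : G → ℂ)) * (1 : G → ℂ) g = 1
    rw [fsInd_one, map_one, Pi.one_apply, mul_one]
  rw [h2] at h1
  have h3 : ∑ χ ∈ Finset.univ.erase χ₀, conj (fsInd (χ : G → ℂ)) * (χ : G → ℂ) g ≠ 0 := by
    intro h0
    rw [h0, add_zero] at h1
    exact zero_ne_one h1
  obtain ⟨χ, hχmem, hχ⟩ := Finset.exists_ne_zero_of_sum_ne_zero h3
  rw [Finset.mem_erase] at hχmem
  refine ⟨χ, ?_, ?_, right_ne_zero_of_mul hχ⟩
  · intro h
    apply hχmem.1
    apply Subtype.ext
    rw [h]
    rfl
  · have h4 : fsInd (χ : G → ℂ) ≠ 0 := by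
      intro h0
      apply hχ
      rw [h0, map_zero, zero_mul]
    exact real_of_fsInd_ne_zero χ h4

end Cfsg.Agent.Lib.Helper25
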