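import Mathlib
import Cfsg.Prelude.Def_GeometricClasses
import Cfsg.Agent.Lib.Helper20.AschDefs
import Cfsg.Agent.Lib.Helper29.SpAschDefs
import Cfsg.Agent.Lib.Helper29.SpAschTools
import Cfsg.Agent.Lib.Helper18.OAschDefs
import Cfsg.Agent.Lib.Helper18.OAschG
import Cfsg.Agent.Lib.Helper26.AschNL

/-!
S5673 (planner helper18), packet O-TNS, part b (helper25): TNS1 `gram_kron`, TNS5 `tensor_equalise`.
Exact signatures of `notes/S5673_leaves.lean`.
-/

set_option autoImplicit false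
set_option linter.unusedSectionVars false
set_option linter.unusedVariables false

namespace Cfsg.Agent.Lib.Helper25.OAschLeaf
open Matrix Cfsg Cfsg.Geo Cfsg.Agent.Lib.Helper20.Asch Cfsg.Agent.Lib.Helper29.SpAsch Cfsg.Agent.Lib.Helper18.OAsch
open scoped Kronecker

variable {F : Type*} [Field F] [Fintype F] {n : ℕ} {G : Matrix (Fin n) (Fin n) F} {H N : Subgroup (GL (Fin n) F)}

section reidx
variable {κ : Type} [Fintype κ] [DecidableEq κ] (e : Fin n ≃ κ)

theorem reidx_mul (A B : Matrix (Fin n) (Fin n) F) :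
    Matrix.reindex e e (A * B) = Matrix.reindex e e A * Matrix.reindex e e B := by
  simp only [Matrix.reindex_apply]
  rw [Matrix.submatrix_mul_equiv]

theorem reidx_symm_mul (A B : Matrix κ κ F) :
    Matrix.reindex e.symm e.symm (A * B) = Matrix.reindex e.symm e.symm A * Matrix.reindex e.symm e.symm B := by
  simp only [Matrix.reindex_apply]
  rw [Matrix.submatrix_mul_equiv]

theorem reidx_reidx_symm (M : Matrix κ κ F) : Matrix.reindex e e (Matrix.reindex e.symm e.symm M) = M := by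
  ext i j
  simp [Matrix.reindex_apply]

theorem reidx_transpose (A : Matrix (Fin n) (Fin n) F) : Matrix.reindex e e Aᵀ = (Matrix.reindex e e A)ᵀ := by
  rw [Matrix.transpose_reindex]

theorem reidx_symm_transpose (A : Matrix κ κ F) :
    Matrix.reindex e.symm e.symm Aᵀ = (Matrix.reindex e.symm e.symm A)ᵀ := by
  rw [Matrix.transpose_reindex]

theorem glReindex_val (K : GL κ F) :
    ((glReindex e.symm K : GL (Fin n) F) : Matrix (Fin n) (Fin n) F) = Matrix.reindex e.symm e.symm (K : Matrix κ κ F) := rfl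

theorem conjR_mul_glReindex (P : GL (Fin n) F) (K : GL κ F) (M : Matrix κ κ F) :
    conjR e (P * glReindex e.symm K) M =
      conjR e P ((K : Matrix κ κ F) * M * ((K⁻¹ : GL κ F) : Matrix κ κ F)) := by
  unfold conjR
  rw [_root_.mul_inv_rev, Units.val_mul, Units.val_mul, ← map_inv, glReindex_val, glReindex_val, reidx_symm_mul,
    reidx_symm_mul]
  simp only [Matrix.mul_assoc]

end reidx

/-- TNS5: change of basis inside the second factor: `P' := P * glReindex e.symm (1 ⊗ b⁻¹)` -/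
theorem tensor_equalise {s : ℕ} (e : Fin n ≃ Fin s × Fin s) (P : GL (Fin n) F) (G₁ : Matrix (Fin s) (Fin s) F)
    (b : GL (Fin s) F) (c : F)
    (h : Matrix.reindex e e ((P : Matrix (Fin n) (Fin n) F)ᵀ * G * (P : Matrix (Fin n) (Fin n) F)) =
      G₁ ⊗ₖ (c • ((b : Matrix (Fin s) (Fin s) F)ᵀ * G₁ * (b : Matrix (Fin s) (Fin s) F)))) :
    ∃ P' : GL (Fin n) F, tensorProductSubgroup s s e P' = tensorProductSubgroup s s e P ∧
      Matrix.reindex e e ((P' : Matrix (Fin n) (Fin n) F)ᵀ * G * (P' : Matrix (Fin n) (Fin n) F)) = c • (G₁ ⊗ₖ G₁) := by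
  have hb1 : (b : Matrix (Fin s) (Fin s) F) * ((b⁻¹ : GL (Fin s) F) : Matrix (Fin s) (Fin s) F) = 1 := by
    rw [← Units.val_mul, mul_inv_cancel, Units.val_one]
  have hb2 : ((b⁻¹ : GL (Fin s) F) : Matrix (Fin s) (Fin s) F) * (b : Matrix (Fin s) (Fin s) F) = 1 := by
    rw [← Units.val_mul, inv_mul_cancel, Units.val_one]
  let K : GL (Fin s × Fin s) F :=
    ⟨(1 : Matrix (Fin s) (Fin s) F) ⊗ₖ ((b⁻¹ : GL (Fin s) F) : Matrix (Fin s) (Fin s) F),
      (1 : Matrix (Fin s) (Fin s) F) ⊗ₖ (b : Matrix (Fin s) (Fin s) F),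
      by rw [← Matrix.mul_kronecker_mul, hb2, Matrix.mul_one, Matrix.one_kronecker_one],
      by rw [← Matrix.mul_kronecker_mul, hb1, Matrix.mul_one, Matrix.one_kronecker_one]⟩
  have hKv : (K : Matrix (Fin s × Fin s) (Fin s × Fin s) F) =
      (1 : Matrix (Fin s) (Fin s) F) ⊗ₖ ((b⁻¹ : GL (Fin s) F) : Matrix (Fin s) (Fin s) F) := rfl
  have hKi : ((K⁻¹ : GL (Fin s × Fin s) F) : Matrix (Fin s × Fin s) (Fin s × Fin s) F) =
      (1 : Matrix (Fin s) (Fin s) F) ⊗ₖ (b : Matrix (Fin s) (Fin s) F) := rfl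
  refine ⟨P * glReindex e.symm K, ?_, ?_⟩
  · ext g
    rw [mem_tensorProductSubgroup_iff, mem_tensorProductSubgroup_iff]
    constructor
    · rintro ⟨a, b', hg⟩
      refine ⟨a, b⁻¹ * b' * b, ?_⟩
      rw [hg, conjR_mul_glReindex, hKv, hKi, ← Matrix.mul_kronecker_mul, ← Matrix.mul_kronecker_mul, Matrix.one_mul,
        Matrix.mul_one, Units.val_mul, Units.val_mul]
    · rintro ⟨a, b'', hg⟩
      refine ⟨a, b * b'' * b⁻¹, ?_⟩
      rw [hg, conjR_mul_glReindex, hKv, hKi, ← Matrix.mul_kronecker_mul, ← Matrix.mul_kronecker_mul, Matrix.one_mul,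
        Matrix.mul_one, Units.val_mul, Units.val_mul]
      congr 2
      rw [← Matrix.mul_assoc, ← Matrix.mul_assoc, hb2, Matrix.one_mul, Matrix.mul_assoc, hb2, Matrix.mul_one]
  · rw [Units.val_mul, glReindex_val, Matrix.transpose_mul]
    have e1 : (Matrix.reindex e.symm e.symm (K : Matrix (Fin s × Fin s) (Fin s × Fin s) F))ᵀ *
        (P : Matrix (Fin n) (Fin n) F)ᵀ * G *
        ((P : Matrix (Fin n) (Fin n) F) * Matrix.reindex e.symm e.symm (K : Matrix (Fin s × Fin s) (Fin s × Fin s) F)) =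
        (Matrix.reindex e.symm e.symm (K : Matrix (Fin s × Fin s) (Fin s × Fin s) F))ᵀ *
        ((P : Matrix (Fin n) (Fin n) F)ᵀ * G * (P : Matrix (Fin n) (Fin n) F)) *
        Matrix.reindex e.symm e.symm (K : Matrix (Fin s × Fin s) (Fin s × Fin s) F) := by
      simp only [Matrix.mul_assoc]
    rw [e1, reidx_mul, reidx_mul, h, ← reidx_symm_transpose, reidx_reidx_symm, reidx_reidx_symm, hKv,
      ← Matrix.kroneckerMap_transpose, Matrix.transpose_one, ← Matrix.mul_kronecker_mul, ← Matrix.mul_kronecker_mul,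
      Matrix.one_mul, Matrix.mul_one, Matrix.mul_smul, Matrix.smul_mul, Matrix.kronecker_smul]
    congr 2
    have hbT : ((b⁻¹ : GL (Fin s) F) : Matrix (Fin s) (Fin s) F)ᵀ * (b : Matrix (Fin s) (Fin s) F)ᵀ = 1 := by
      rw [← Matrix.transpose_mul, hb1, Matrix.transpose_one]
    calc ((b⁻¹ : GL (Fin s) F) : Matrix (Fin s) (Fin s) F)ᵀ *
          ((b : Matrix (Fin s) (Fin s) F)ᵀ * G₁ * (b : Matrix (Fin s) (Fin s) F)) *
          ((b⁻¹ : GL (Fin s) F) : Matrix (Fin s) (Fin s) F)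
        = (((b⁻¹ : GL (Fin s) F) : Matrix (Fin s) (Fin s) F)ᵀ * (b : Matrix (Fin s) (Fin s) F)ᵀ) * G₁ *
          ((b : Matrix (Fin s) (Fin s) F) * ((b⁻¹ : GL (Fin s) F) : Matrix (Fin s) (Fin s) F)) := by
          simp only [Matrix.mul_assoc]
      _ = G₁ := by rw [hbT, hb1, Matrix.one_mul, Matrix.mul_one]

/-- (TNS-core) `G' := reindex e e (Pᵀ G P)` is a Kronecker product -/
theorem gram_kron (hd : G.det ≠ 0) (hNI : N ≤ isoG G) {s k : ℕ} (hs : 0 < s) (hk : 0 < k) (e : Fin n ≃ Fin s × Fin k)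
    (P : GL (Fin n) F)
    (h1 : ∀ A : Matrix (Fin s) (Fin s) F, conjR e P (A ⊗ₖ (1 : Matrix (Fin k) (Fin k) F)) ∈ Env N)
    (h2 : ∀ T ∈ Env N, ∃ A : Matrix (Fin s) (Fin s) F, T = conjR e P (A ⊗ₖ (1 : Matrix (Fin k) (Fin k) F))) :
    ∃ (G₁ : Matrix (Fin s) (Fin s) F) (G₂ : Matrix (Fin k) (Fin k) F),
      Matrix.reindex e e ((P : Matrix (Fin n) (Fin n) F)ᵀ * G * (P : Matrix (Fin n) (Fin n) F)) = G₁ ⊗ₖ G₂ := by
  have : Nonempty (Fin s) := ⟨⟨0, hs⟩⟩
  have : Nonempty (Fin k) := ⟨⟨0, hk⟩⟩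
  obtain ⟨M, hM⟩ : ∃ M : Matrix (Fin n) (Fin n) F,
      M = (P : Matrix (Fin n) (Fin n) F)ᵀ * G * (P : Matrix (Fin n) (Fin n) F) := ⟨_, rfl⟩
  rw [← hM]
  obtain ⟨G', hG'⟩ : ∃ G' : Matrix (Fin s × Fin k) (Fin s × Fin k) F, G' = Matrix.reindex e e M := ⟨_, rfl⟩
  rw [← hG']
  have hPP : ((P⁻¹ : GL (Fin n) F) : Matrix (Fin n) (Fin n) F) * (P : Matrix (Fin n) (Fin n) F) = 1 := by
    rw [← Units.val_mul, inv_mul_cancel, Units.val_one]
  have hPP' : (P : Matrix (Fin n) (Fin n) F) * ((P⁻¹ : GL (Fin n) F) : Matrix (Fin n) (Fin n) F) = 1 := by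
    rw [← Units.val_mul, mul_inv_cancel, Units.val_one]
  have hPdet : (P : Matrix (Fin n) (Fin n) F).det ≠ 0 := (Matrix.isUnits_det_units P).ne_zero
  have hMdet : M.det ≠ 0 := by
    rw [hM, Matrix.det_mul, Matrix.det_mul, Matrix.det_transpose]
    exact mul_ne_zero (mul_ne_zero hPdet hd) hPdet
  have hG'det : G'.det ≠ 0 := by rw [hG', Matrix.det_reindex_self]; exact hMdet
  have hGG : G * G⁻¹ = 1 := Matrix.mul_nonsing_inv G (Ne.isUnit hd)
  -- the intertwining relation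
  have key : ∀ A : Matrix (Fin s) (Fin s) F, ∃ A' : Matrix (Fin s) (Fin s) F,
      (Aᵀ ⊗ₖ (1 : Matrix (Fin k) (Fin k) F)) * G' = G' * (A' ⊗ₖ (1 : Matrix (Fin k) (Fin k) F)) := by
    intro A
    obtain ⟨A', hA'⟩ := h2 _ (adjM_mem_Env hd hNI (h1 A))
    refine ⟨A', ?_⟩
    -- `G * adjM G T = Tᵀ * G`
    have e1 : (conjR e P (A ⊗ₖ (1 : Matrix (Fin k) (Fin k) F)))ᵀ * G =
        G * conjR e P (A' ⊗ₖ (1 : Matrix (Fin k) (Fin k) F)) := by
      rw [← hA']
      unfold adjM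
      rw [← Matrix.mul_assoc, ← Matrix.mul_assoc, hGG, Matrix.one_mul]
    unfold conjR at e1
    rw [Matrix.transpose_mul, Matrix.transpose_mul] at e1
    -- multiply by `Pᵀ` on the left and `P` on the right
    have e2 := congrArg (fun X => (P : Matrix (Fin n) (Fin n) F)ᵀ * X * (P : Matrix (Fin n) (Fin n) F)) e1
    simp only at e2
    have hPT : (P : Matrix (Fin n) (Fin n) F)ᵀ * ((P⁻¹ : GL (Fin n) F) : Matrix (Fin n) (Fin n) F)ᵀ = 1 := by
      rw [← Matrix.transpose_mul, hPP, Matrix.transpose_one]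
    have e3 : (Matrix.reindex e.symm e.symm (A ⊗ₖ (1 : Matrix (Fin k) (Fin k) F)))ᵀ * M =
        M * Matrix.reindex e.symm e.symm (A' ⊗ₖ (1 : Matrix (Fin k) (Fin k) F)) := by
      calc (Matrix.reindex e.symm e.symm (A ⊗ₖ (1 : Matrix (Fin k) (Fin k) F)))ᵀ * M
          = ((P : Matrix (Fin n) (Fin n) F)ᵀ * ((P⁻¹ : GL (Fin n) F) : Matrix (Fin n) (Fin n) F)ᵀ) *
              (Matrix.reindex e.symm e.symm (A ⊗ₖ (1 : Matrix (Fin k) (Fin k) F)))ᵀ * M := by
            rw [hPT, Matrix.one_mul]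
        _ = (P : Matrix (Fin n) (Fin n) F)ᵀ * (((P⁻¹ : GL (Fin n) F) : Matrix (Fin n) (Fin n) F)ᵀ *
              ((Matrix.reindex e.symm e.symm (A ⊗ₖ (1 : Matrix (Fin k) (Fin k) F)))ᵀ *
              (P : Matrix (Fin n) (Fin n) F)ᵀ) * G) * (P : Matrix (Fin n) (Fin n) F) := by
            rw [hM]; simp only [Matrix.mul_assoc]
        _ = (P : Matrix (Fin n) (Fin n) F)ᵀ * (G * ((P : Matrix (Fin n) (Fin n) F) *
              Matrix.reindex e.symm e.symm (A' ⊗ₖ (1 : Matrix (Fin k) (Fin k) F)) *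
              ((P⁻¹ : GL (Fin n) F) : Matrix (Fin n) (Fin n) F))) * (P : Matrix (Fin n) (Fin n) F) := by
            rw [e1]
        _ = M * Matrix.reindex e.symm e.symm (A' ⊗ₖ (1 : Matrix (Fin k) (Fin k) F)) *
              (((P⁻¹ : GL (Fin n) F) : Matrix (Fin n) (Fin n) F) * (P : Matrix (Fin n) (Fin n) F)) := by
            rw [hM]; simp only [Matrix.mul_assoc]
        _ = _ := by rw [hPP, Matrix.mul_one]
    have e4 := congrArg (Matrix.reindex e e) e3
    rw [reidx_mul, reidx_mul, ← reidx_symm_transpose, reidx_reidx_symm, reidx_reidx_symm, ← Matrix.kroneckerMap_transpose,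
      Matrix.transpose_one, ← hG'] at e4
    exact e4
  -- apply Skolem-Noether to `G'⁻¹`
  have hinv1 : G'⁻¹ * G' = 1 := Matrix.nonsing_inv_mul G' (Ne.isUnit hG'det)
  have hinv2 : G' * G'⁻¹ = 1 := Matrix.mul_nonsing_inv G' (Ne.isUnit hG'det)
  obtain ⟨a, b, ha, hb, hab⟩ := Cfsg.Agent.Lib.Helper26.AschLeaf.kron_of_normalizes G'⁻¹ G' hinv1 hinv2 (by
    intro A
    obtain ⟨A', hA'⟩ := key Aᵀ
    rw [Matrix.transpose_transpose] at hA'
    refine ⟨A', ?_⟩
    rw [Matrix.mul_assoc, hA', ← Matrix.mul_assoc, hinv1, Matrix.one_mul])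
  refine ⟨a⁻¹, b⁻¹, ?_⟩
  rw [← Matrix.inv_kronecker, ← hab, Matrix.nonsing_inv_nonsing_inv G' (Ne.isUnit hG'det)]

end Cfsg.Agent.Lib.Helper25.OAschLeaf
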