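import Cfsg.Agent.Lib.Helper25.POmegaSimple
import Cfsg.Prelude.Def_LieTypeDatum

set_option autoImplicit false

/-!
# Automorphisms of `PΩ(Q)` induced by isometries
-/

namespace Cfsg.Agent.Lib.Helper25.PAut

open Module QuadraticMap Matrix Cfsg.Agent.Lib.Helper25.CD Cfsg.Agent.Lib.Helper25.Spin
  Cfsg.Agent.Lib.Helper25.MaxTS Cfsg.Agent.Lib.Helper25.Fam Cfsg.Agent.Lib.Helper25.Siegel
  Cfsg.Agent.Lib.Helper25.PS

open scoped Pointwise commutatorElement

universe u

section conj

variable {ι : Type} [Fintype ι] [DecidableEq ι] {F : Type u} [Field F]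
  (Q : (ι → F) → F)

theorem center_map (g : ↥(Cfsg.isometryGroup F Q)) :
    (Subgroup.center ↥(Cfsg.Omega F Q)).map
      (MulAut.conjNormal (H := Cfsg.Omega F Q) g : ↥(Cfsg.Omega F Q) ≃* ↥(Cfsg.Omega F Q)).toMonoidHom =
      Subgroup.center ↥(Cfsg.Omega F Q) :=
  Subgroup.characteristic_iff_map_eq.1 inferInstance _

/-- The automorphism of `PΩ` induced by conjugation by an isometry. -/
noncomputable def conjT (g : ↥(Cfsg.isometryGroup F Q)) : MulAut (Cfsg.POmega F Q) :=
  QuotientGroup.congr (Subgroup.center ↥(Cfsg.Omega F Q)) (Subgroup.center ↥(Cfsg.Omega F Q))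
    (MulAut.conjNormal (H := Cfsg.Omega F Q) g) (center_map Q g)

theorem conjT_mk (g : ↥(Cfsg.isometryGroup F Q)) (s : ↥(Cfsg.Omega F Q)) :
    conjT Q g (QuotientGroup.mk s) =
      QuotientGroup.mk (MulAut.conjNormal (H := Cfsg.Omega F Q) g s) := rfl

theorem conjNormal_val (g : ↥(Cfsg.isometryGroup F Q)) (s : ↥(Cfsg.Omega F Q)) :
    ((MulAut.conjNormal (H := Cfsg.Omega F Q) g s : ↥(Cfsg.Omega F Q)) :
      ↥(Cfsg.isometryGroup F Q)) = g * s * g⁻¹ := rfl

/-- Conjugation as a homomorphism into the automorphism group of `PΩ`. -/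
noncomputable def conjTHom : ↥(Cfsg.isometryGroup F Q) →* MulAut (Cfsg.POmega F Q) where
  toFun := conjT Q
  map_one' := by
    apply MulEquiv.ext
    intro t
    induction t using QuotientGroup.induction_on with
    | H s =>
      rw [conjT_mk, map_one]
      rfl
  map_mul' g h := by
    apply MulEquiv.ext
    intro t
    induction t using QuotientGroup.induction_on with
    | H s =>
      rw [MulAut.mul_apply, conjT_mk, conjT_mk, conjT_mk, map_mul]
      rfl

theorem conjTHom_apply (g : ↥(Cfsg.isometryGroup F Q)) : conjTHom Q g = conjT Q g := rfl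

theorem map_refl (M : Matrix ι ι F) : M.map (RingEquiv.refl F) = M := by
  ext i j
  rfl

theorem induced_iff (g : GL ι F) (hg : g ∈ Cfsg.isometryGroup F Q)
    (β : Cfsg.POmega F Q ≃* Cfsg.POmega F Q) :
    Cfsg.IsInducedBySemilinearPOmega Q g (RingEquiv.refl F) β ↔ β = conjT Q ⟨g, hg⟩ := by
  constructor
  · intro h
    apply MulEquiv.ext
    intro t
    induction t using QuotientGroup.induction_on with
    | H s =>
      rw [conjT_mk]
      apply h
      rw [map_refl]
      rfl
  · rintro rfl s s' hs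
    rw [conjT_mk]
    congr 1
    apply Subtype.ext
    apply Subtype.ext
    apply Units.ext
    rw [hs, map_refl]
    rfl

end conj

section abstract

variable {G A : Type*} [Group G] [Group A]

theorem relIndex_map_eq_one (Φ : G →* A) {H K : Subgroup G} (hidx : H.relIndex K = 2) {z : G}
    (hzK : z ∈ K) (hzH : z ∉ H) (hz : Φ z = 1) : (H.map Φ).relIndex (K.map Φ) = 1 := by
  rw [Subgroup.relIndex_eq_one]
  rintro _ ⟨k, hk, rfl⟩
  by_cases hkH : k ∈ H
  · exact ⟨k, hkH, rfl⟩
  · refine ⟨k * z, ?_, by rw [map_mul, hz, mul_one]⟩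
    have h2 : (H.subgroupOf K).index = 2 := hidx
    have h3 := Subgroup.mul_mem_iff_of_index_two h2 (a := ⟨k, hk⟩) (b := ⟨z, hzK⟩)
    rw [Subgroup.mem_subgroupOf, Subgroup.mem_subgroupOf, Subgroup.mem_subgroupOf] at h3
    exact h3.2 ⟨fun h => absurd h hkH, fun h => absurd h hzH⟩

theorem relIndex_map_eq_two (Φ : G →* A) {H K : Subgroup G} (hidx : H.relIndex K = 2)
    (hHK : H ≤ K) (hker : ∀ k ∈ K, Φ k = 1 → k ∈ H) : (H.map Φ).relIndex (K.map Φ) = 2 := by
  rw [← Subgroup.relIndex_comap, ← hidx]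
  unfold Subgroup.relIndex
  congr 1
  ext ⟨k, hk⟩
  rw [Subgroup.mem_subgroupOf, Subgroup.mem_subgroupOf, Subgroup.mem_comap]
  constructor
  · rintro ⟨h, hh, hΦ⟩
    have h1 : h⁻¹ * k ∈ H := hker _ (K.mul_mem (K.inv_mem (hHK hh)) hk)
      (by rw [map_mul, map_inv, hΦ, inv_mul_cancel])
    have h2 := H.mul_mem hh h1
    rwa [mul_inv_cancel_left] at h2
  · intro h
    exact ⟨k, h, rfl⟩

theorem fix_of_central_commutator (hperf : commutator G = ⊤) (φ : G ≃* G)
    (h : ∀ s, s⁻¹ * φ s ∈ Subgroup.center G) (s : G) : φ s = s := by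
  let χ : G →* ↥(Subgroup.center G) :=
    { toFun := fun s => ⟨s⁻¹ * φ s, h s⟩
      map_one' := by
        apply Subtype.ext
        show (1 : G)⁻¹ * φ 1 = 1
        rw [map_one, inv_one, one_mul]
      map_mul' := by
        intro a b
        apply Subtype.ext
        show (a * b)⁻¹ * φ (a * b) = (a⁻¹ * φ a) * (b⁻¹ * φ b)
        have hc := (Subgroup.mem_center_iff.1 (h a)) b⁻¹
        rw [map_mul, _root_.mul_inv_rev]
        calc b⁻¹ * a⁻¹ * (φ a * φ b) = (b⁻¹ * (a⁻¹ * φ a)) * φ b := by group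
          _ = ((a⁻¹ * φ a) * b⁻¹) * φ b := by rw [hc]
          _ = _ := by group }
  have hker : commutator G ≤ χ.ker := by
    rw [commutator_def, Subgroup.commutator_le]
    intro a _ b _
    rw [MonoidHom.mem_ker, map_commutatorElement, commutatorElement_eq_one_iff_mul_comm]
    apply Subtype.ext
    exact ((Subgroup.mem_center_iff.1 (χ a).2) (χ b).1).symm
  rw [hperf] at hker
  have h1 : χ s = 1 := hker (Subgroup.mem_top s)
  have h2 : s⁻¹ * φ s = 1 := congrArg Subtype.val h1
  rw [inv_mul_eq_one] at h2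
  exact h2.symm

end abstract

section images

variable {ι : Type} [Fintype ι] [DecidableEq ι] {F : Type u} [Field F]
  (Q : (ι → F) → F)

theorem psoAut_eq :
    Cfsg.psoAut F Q = (Cfsg.specialIsometryGroup F Q).map (conjTHom Q) := by
  unfold Cfsg.psoAut Cfsg.autSubgroupOf
  have hset : {β : MulAut (Cfsg.POmega F Q) | Cfsg.IsSpecialIsometryInducedAutPOmega Q β} =
      (conjTHom Q) '' (Cfsg.specialIsometryGroup F Q : Set ↥(Cfsg.isometryGroup F Q)) := by
    ext β
    constructor
    · rintro ⟨g, hg, hind⟩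
      obtain ⟨hgO, hgS⟩ := Subgroup.mem_inf.1 hg
      refine ⟨⟨g, hgO⟩, ?_, ((induced_iff Q g hgO β).1 hind).symm⟩
      exact hgS
    · rintro ⟨g, hg, rfl⟩
      refine ⟨g.1, Subgroup.mem_inf.2 ⟨g.2, hg⟩, (induced_iff Q g.1 g.2 _).2 rfl⟩
  rw [hset, ← MonoidHom.map_closure, Subgroup.closure_eq]

theorem inn_eq : Cfsg.Inn (Cfsg.POmega F Q) = (Cfsg.Omega F Q).map (conjTHom Q) := by
  ext β
  constructor
  · rintro ⟨t, rfl⟩
    induction t using QuotientGroup.induction_on with
    | H s =>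
      refine ⟨s.1, s.2, ?_⟩
      apply MulEquiv.ext
      intro x
      induction x using QuotientGroup.induction_on with
      | H y =>
        rw [conjTHom_apply, conjT_mk, MulAut.conj_apply]
        rfl
  · rintro ⟨s, hs, rfl⟩
    refine ⟨QuotientGroup.mk (⟨s, hs⟩ : ↥(Cfsg.Omega F Q)), ?_⟩
    apply MulEquiv.ext
    intro x
    induction x using QuotientGroup.induction_on with
    | H y =>
      rw [conjTHom_apply, conjT_mk, MulAut.conj_apply]
      rfl

end images

section kernel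

variable {ι : Type} [Fintype ι] [DecidableEq ι] {F : Type u} [Field F] [Fintype F]
  (Q : QuadraticForm F (ι → F))

/-- An isometry acting trivially on `PΩ` centralises `Ω`. -/
theorem centralizes_of_conjT_eq_one (hQ : (polarBilin Q).Nondegenerate)
    (hn : 7 ≤ Fintype.card ι) (g : ↥(Cfsg.isometryGroup F ⇑Q)) (hg : conjT ⇑Q g = 1)
    (s : ↥(Cfsg.Omega F ⇑Q)) : g * s.1 * g⁻¹ = s.1 := by
  have hcen : ∀ s : ↥(Cfsg.Omega F ⇑Q),
      s⁻¹ * MulAut.conjNormal (H := Cfsg.Omega F ⇑Q) g s ∈ Subgroup.center ↥(Cfsg.Omega F ⇑Q) := by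
    intro s
    have h1 : conjT ⇑Q g (QuotientGroup.mk s) = QuotientGroup.mk s := by
      rw [hg]
      rfl
    rw [conjT_mk] at h1
    exact QuotientGroup.eq.1 h1.symm
  have h3 := fix_of_central_commutator (omega_perfect Q hQ hn)
    (MulAut.conjNormal (H := Cfsg.Omega F ⇑Q) g) hcen s
  have h4 := congrArg Subtype.val h3
  rw [conjNormal_val] at h4
  exact h4

theorem exists_other (hQ : (polarBilin Q).Nondegenerate) (hn : 5 ≤ Fintype.card ι)
    {P R : SPt Q} (hPR : P ≠ R) :
    ∃ R' : SPt Q, P ≠ R' ∧ R' ≠ R ∧ (ort Q P R ↔ ort Q P R') := by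
  have hfr : 5 ≤ finrank F (ι → F) := by
    rw [Module.finrank_fintype_fun_eq_card]
    exact hn
  obtain ⟨p, hp0, hp, rfl⟩ := exists_rep Q P
  obtain ⟨r, hr0, hr, rfl⟩ := exists_rep Q R
  by_cases hpr : polar Q p r = 0
  · have hr'0 : r + p ≠ 0 := by
      intro h
      apply hPR
      symm
      apply mk'_eq_of_smul Q hp0 hp hr0 hr (t := -1)
      rw [neg_one_smul]
      exact eq_neg_of_add_eq_zero_left h
    have hQr' : Q (r + p) = 0 := by
      rw [MaxTS.Q_add, hr, hp, polar_comm, hpr]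
      ring
    refine ⟨mk' Q (r + p) hr'0 hQr', ?_, ?_, ?_⟩
    · intro h
      obtain ⟨t, ht⟩ := exists_smul_of_mk'_eq Q hp0 hp hr'0 hQr' h.symm
      apply hPR
      symm
      apply mk'_eq_of_smul Q hp0 hp hr0 hr (t := t - 1)
      rw [sub_smul, one_smul, ← ht]
      abel
    · intro h
      obtain ⟨t, ht⟩ := exists_smul_of_mk'_eq Q hr0 hr hr'0 hQr' h
      apply hPR
      apply mk'_eq_of_smul Q hr0 hr hp0 hp (t := t - 1)
      rw [sub_smul, one_smul, ← ht]
      abel
    · rw [ort_mk', ort_mk', polar_add_right, hpr, OGeom.polar_self0 Q hp]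
      simp
  · obtain ⟨z, hz0, hQz, hpz, hrz⟩ := OGeom.exists_sing_perp_pair Q hQ hfr hp hr hpr
    have hQr' : Q (r + z) = 0 := by
      rw [MaxTS.Q_add, hr, hQz, hrz]
      ring
    have hpr' : polar Q p (r + z) ≠ 0 := by
      rw [polar_add_right, hpz, add_zero]
      exact hpr
    have hr'0 : r + z ≠ 0 := by
      intro h
      rw [h] at hpr'
      simp at hpr'
    refine ⟨mk' Q (r + z) hr'0 hQr', ?_, ?_, ?_⟩
    · intro h
      have h1 := ort_self Q (mk' Q p hp0 hp)
      nth_rewrite 2 [h] at h1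
      rw [ort_mk'] at h1
      exact hpr' h1
    · intro h
      obtain ⟨t, ht⟩ := exists_smul_of_mk'_eq Q hr0 hr hr'0 hQr' h
      have hz : z = (t - 1) • r := by
        rw [sub_smul, one_smul, ← ht]
        abel
      have h1 : polar Q p z = (t - 1) * polar Q p r := by
        rw [hz, polar_smul_right, smul_eq_mul]
      rw [hpz] at h1
      have h2 : t - 1 = 0 := (mul_eq_zero.1 h1.symm).resolve_right hpr
      rw [h2, zero_smul] at hz
      exact hz0 hz
    · rw [ort_mk', ort_mk']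
      exact ⟨fun h => absurd h hpr, fun h => absurd h hpr'⟩

/-- An isometry acting trivially on `PΩ` is a scalar. -/
theorem scalar_of_conjT_eq_one (hQ : (polarBilin Q).Nondegenerate)
    (hn : 7 ≤ Fintype.card ι) (g : ↥(Cfsg.isometryGroup F ⇑Q)) (hg : conjT ⇑Q g = 1) :
    ∃ c : F, ∀ x, toOG Q g x = c • x := by
  apply scalar_of_fix_all Q hQ (by omega) g
  intro P
  by_contra hne
  obtain ⟨R', hPR', hR'R, hort⟩ := exists_other Q hQ (by omega) (P := P) (R := g • P)
    (fun h => hne h.symm)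
  obtain ⟨h, hhP, hhR⟩ := trans_pair Q hQ (by omega) (fun h => hne h.symm) hPR' hort
  apply hR'R
  rw [← hhR]
  have hcomm : h.1 * g = g * h.1 := by
    have := centralizes_of_conjT_eq_one Q hQ hn g hg h
    calc h.1 * g = (g * h.1 * g⁻¹) * g := by rw [this]
      _ = g * h.1 := by group
  show h.1 • g • P = g • P
  rw [← mul_smul, hcomm, mul_smul]
  congr 1

end kernel

section main

variable {ι : Type} [Fintype ι] [DecidableEq ι] {F : Type u} [Field F] [Fintype F]
  (Q : QuadraticForm F (ι → F))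

/-- The isometry `-1`. -/
theorem neg_mem_OG : LinearEquiv.neg F ∈ OG Q := by
  rw [mem_OG]
  intro x
  show Q (-x) = Q x
  exact QuadraticMap.map_neg Q x

noncomputable def negOne : ↥(Cfsg.isometryGroup F ⇑Q) :=
  ofOG Q (LinearEquiv.neg F) (neg_mem_OG Q)

theorem toOG_negOne (x : ι → F) : toOG Q (negOne Q) x = -x := by
  rw [negOne, toOG_ofOG]
  rfl

theorem negOne_coe : ((negOne Q : GL ι F) : Matrix ι ι F) = -1 := by
  apply Matrix.toLin'.injective
  apply LinearMap.ext
  intro x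
  rw [Matrix.toLin'_apply, Matrix.toLin'_apply, ← toOG_apply, toOG_negOne, Matrix.neg_mulVec,
    Matrix.one_mulVec]

theorem conjT_negOne : conjTHom ⇑Q (negOne Q) = 1 := by
  apply MulEquiv.ext
  intro t
  induction t using QuotientGroup.induction_on with
  | H s =>
    rw [conjTHom_apply, conjT_mk]
    show _ = QuotientGroup.mk s
    congr 1
    apply Subtype.ext
    rw [conjNormal_val, mul_inv_eq_iff_eq_mul]
    apply toOG_injective Q
    ext1 x
    rw [map_mul, map_mul, LinearEquiv.mul_apply, LinearEquiv.mul_apply, toOG_negOne, toOG_negOne,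
      map_neg]

/-- The index of `Inn(PΩ)` in the image of `SO` is `2` or `1` according as `-1 ∈ Ω` or not. -/
theorem relIndex_inn_pso (h2 : (2 : F) ≠ 0) (hQ : (polarBilin Q).Nondegenerate)
    (hn : 7 ≤ Fintype.card ι) (he : Even (Fintype.card ι)) :
    ((∃ g : ↥(Cfsg.isometryGroup F ⇑Q), g ∈ Cfsg.Omega F ⇑Q ∧
        ((g : GL ι F) : Matrix ι ι F) = -1) →
      (Cfsg.Inn (Cfsg.POmega F ⇑Q)).relIndex (Cfsg.psoAut F ⇑Q) = 2) ∧
    (¬ (∃ g : ↥(Cfsg.isometryGroup F ⇑Q), g ∈ Cfsg.Omega F ⇑Q ∧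
        ((g : GL ι F) : Matrix ι ι F) = -1) →
      (Cfsg.Inn (Cfsg.POmega F ⇑Q)).relIndex (Cfsg.psoAut F ⇑Q) = 1) := by
  rw [psoAut_eq, inn_eq]
  have hfin : 2 ≤ finrank F (ι → F) := by
    rw [Module.finrank_fintype_fun_eq_card]
    omega
  obtain ⟨u, hu⟩ := exists_rep Q hQ hfin 1
  obtain ⟨a, ha⟩ := FiniteField.exists_nonsquare (ringChar_ne_two h2)
  obtain ⟨w, hw⟩ := exists_rep Q hQ hfin a
  have ha0 : a ≠ 0 := by
    rintro rfl
    exact ha ⟨0, by simp⟩
  have hu0 : Q u ≠ 0 := by rw [hu]; exact one_ne_zero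
  have hw0 : Q w ≠ 0 := by rw [hw]; exact ha0
  have hidx := omega_relIndex_two Q h2 hQ hu0 hw0 (by rw [hu, hw, one_mul]; exact ha)
  have hle := omega_le_special Q h2 hQ
  constructor
  · rintro ⟨g₀, hg₀Ω, hg₀⟩
    apply relIndex_map_eq_two (conjTHom ⇑Q) hidx hle
    intro k _ hΦ
    obtain ⟨c, hc⟩ := scalar_of_conjT_eq_one Q hQ hn k hΦ
    have hc2 : (c - 1) * (c + 1) = 0 := by
      have h1 := Q_toOG Q k u
      rw [hc, QuadraticMap.map_smul, hu, smul_eq_mul, mul_one] at h1
      linear_combination h1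
    rcases mul_eq_zero.1 hc2 with h | h
    · have hc1 : c = 1 := by linear_combination h
      have : k = 1 := by
        apply toOG_injective Q
        ext1 x
        rw [hc, hc1, one_smul, map_one]
        rfl
      rw [this]
      exact one_mem _
    · have hc1 : c = -1 := by linear_combination h
      have : k = g₀ := by
        apply toOG_injective Q
        ext1 x
        rw [hc, hc1, neg_one_smul, toOG_apply, hg₀, Matrix.neg_mulVec, Matrix.one_mulVec]
      rw [this]
      exact hg₀Ω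
  · intro hno
    apply relIndex_map_eq_one (conjTHom ⇑Q) hidx (z := negOne Q) ?_ ?_ (conjT_negOne Q)
    · unfold Cfsg.specialIsometryGroup
      rw [MonoidHom.mem_ker, Units.ext_iff]
      have e : ((Matrix.GeneralLinearGroup.det.comp (Cfsg.isometryGroup F ⇑Q).subtype)
          (negOne Q) : Fˣ).val = ((negOne Q : GL ι F) : Matrix ι ι F).det := rfl
      rw [e, negOne_coe, Matrix.det_neg, Matrix.det_one, mul_one, he.neg_one_pow, Units.val_one]
    · intro h
      exact hno ⟨negOne Q, h, negOne_coe Q⟩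

end main

end Cfsg.Agent.Lib.Helper25.PAut
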