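import Cfsg.Agent.Lib.Helper25.AutO1

set_option autoImplicit false
set_option linter.unusedSectionVars false
set_option linter.unusedVariables false
set_option linter.unusedSimpArgs false

/-!
# Automorphisms of `PΩ(Q)`, part 2: the subgroups `R_u` and `X_{u,v}` of `Ω(Q)`
-/

namespace Cfsg.Agent.Lib.Helper25.AutO

open Module QuadraticMap Matrix Cfsg.Agent.Lib.Helper25.CD Cfsg.Agent.Lib.Helper25.Siegel
  Cfsg.Agent.Lib.Helper5.NSMax Cfsg.Agent.Lib.Helper5.TSMax Cfsg.Agent.Lib.Helper25.PS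

variable {ι : Type} [Fintype ι] [DecidableEq ι] {F : Type*} [Field F] [Fintype F]
  (Q : QuadraticForm F (ι → F))

/-- The action of `Ω` on the space. -/
noncomputable def act : ↥(Cfsg.Omega F ⇑Q) →* ((ι → F) ≃ₗ[F] (ι → F)) :=
  (toOG Q).comp (Subgroup.subtype _)

theorem act_apply (g : ↥(Cfsg.Omega F ⇑Q)) (x : ι → F) : act Q g x = toOG Q g.1 x := rfl

theorem act_injective : Function.Injective (act Q) := by
  intro a b h
  exact Subtype.ext (toOG_injective Q h)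

theorem act_ext {a b : ↥(Cfsg.Omega F ⇑Q)} (h : ∀ x, act Q a x = act Q b x) : a = b :=
  act_injective Q (LinearEquiv.ext h)

theorem Q_act (g : ↥(Cfsg.Omega F ⇑Q)) (x : ι → F) : Q (act Q g x) = Q x := Q_toOG Q g.1 x

theorem polar_act (g : ↥(Cfsg.Omega F ⇑Q)) (x y : ι → F) :
    polar Q (act Q g x) (act Q g y) = polar Q x y := polar_toOG Q g.1 x y

theorem act_inv_act (g : ↥(Cfsg.Omega F ⇑Q)) (x : ι → F) : act Q g⁻¹ (act Q g x) = x := by
  rw [← LinearEquiv.mul_apply, ← map_mul, inv_mul_cancel, map_one]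
  rfl

theorem act_act_inv (g : ↥(Cfsg.Omega F ⇑Q)) (x : ι → F) : act Q g (act Q g⁻¹ x) = x := by
  rw [← LinearEquiv.mul_apply, ← map_mul, mul_inv_cancel, map_one]
  rfl

theorem act_mul (g h : ↥(Cfsg.Omega F ⇑Q)) (x : ι → F) : act Q (g * h) x = act Q g (act Q h x) := by
  rw [map_mul]
  rfl

theorem act_one (x : ι → F) : act Q 1 x = x := by
  rw [map_one]
  rfl

theorem polar_act_inv (g : ↥(Cfsg.Omega F ⇑Q)) (x y : ι → F) :
    polar Q (act Q g⁻¹ x) y = polar Q x (act Q g y) := by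
  rw [← polar_act Q g (act Q g⁻¹ x) y, act_act_inv]

/-- The unipotent radical `R_u` of the stabiliser of the singular point `u`. -/
def RU (u : ι → F) (hu : Q u = 0) : Subgroup ↥(Cfsg.Omega F ⇑Q) where
  carrier := {g | ∃ y, polar Q u y = 0 ∧ ∀ x, act Q g x = egen Q u y x}
  one_mem' := ⟨0, by simp, fun x => by rw [act_one, egen_zero]⟩
  mul_mem' := by
    rintro a b ⟨y, hy, ha⟩ ⟨y', hy', hb⟩
    refine ⟨y + y', by rw [polar_add_right, hy, hy', add_zero], fun x => ?_⟩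
    rw [act_mul, hb, ha, egen_add Q hu hy hy']
  inv_mem' := by
    rintro a ⟨y, hy, ha⟩
    refine ⟨-y, by rw [polar_neg_right, hy, neg_zero], fun x => ?_⟩
    have h1 : act Q a (act Q a⁻¹ x) = act Q a (egen Q u (-y) x) := by
      rw [act_act_inv, ha, egen_neg Q hu hy]
    exact (act Q a).injective h1

theorem mem_RU {u : ι → F} {hu : Q u = 0} {g : ↥(Cfsg.Omega F ⇑Q)} :
    g ∈ RU Q u hu ↔ ∃ y, polar Q u y = 0 ∧ ∀ x, act Q g x = egen Q u y x := Iff.rfl

/-- The long root group attached to the totally singular pair `u, v`. -/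
def XL (u v : ι → F) (hu : Q u = 0) (hv : Q v = 0) (huv : polar Q u v = 0) :
    Subgroup ↥(Cfsg.Omega F ⇑Q) where
  carrier := {g | ∃ c : F, ∀ x, act Q g x = siegF Q u v c x}
  one_mem' := ⟨0, fun x => by rw [act_one, siegF_zero]⟩
  mul_mem' := by
    rintro a b ⟨c, ha⟩ ⟨d, hb⟩
    refine ⟨c + d, fun x => ?_⟩
    rw [act_mul, hb, ha, siegF_siegF Q hu hv huv]
  inv_mem' := by
    rintro a ⟨c, ha⟩
    refine ⟨-c, fun x => ?_⟩
    have h1 : act Q a (act Q a⁻¹ x) = act Q a (siegF Q u v (-c) x) := by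
      rw [act_act_inv, ha, siegF_siegF Q hu hv huv, add_neg_cancel, siegF_zero]
    exact (act Q a).injective h1

theorem mem_XL {u v : ι → F} {hu : Q u = 0} {hv : Q v = 0} {huv : polar Q u v = 0}
    {g : ↥(Cfsg.Omega F ⇑Q)} :
    g ∈ XL Q u v hu hv huv ↔ ∃ c : F, ∀ x, act Q g x = siegF Q u v c x := Iff.rfl

theorem XL_le_RU {u v : ι → F} (hu : Q u = 0) (hv : Q v = 0) (huv : polar Q u v = 0) :
    XL Q u v hu hv huv ≤ RU Q u hu := by
  rintro g ⟨c, hg⟩
  refine ⟨c • v, by rw [polar_smul_right, huv, smul_zero], fun x => ?_⟩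
  rw [hg, egen_sing Q hv]

/-- The element of `Ω` realising a generalised Siegel map. -/
noncomputable def EG (hQ : (polarBilin Q).Nondegenerate) (hn : 7 ≤ Fintype.card ι)
    {u y : ι → F} (hu0 : u ≠ 0) (hu : Q u = 0) (huy : polar Q u y = 0) : ↥(Cfsg.Omega F ⇑Q) :=
  ⟨(exists_egen Q hQ hn hu0 hu huy).choose, (exists_egen Q hQ hn hu0 hu huy).choose_spec.1⟩

theorem act_EG (hQ : (polarBilin Q).Nondegenerate) (hn : 7 ≤ Fintype.card ι)
    {u y : ι → F} (hu0 : u ≠ 0) (hu : Q u = 0) (huy : polar Q u y = 0) (x : ι → F) :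
    act Q (EG Q hQ hn hu0 hu huy) x = egen Q u y x :=
  (exists_egen Q hQ hn hu0 hu huy).choose_spec.2 x

theorem EG_mem_RU (hQ : (polarBilin Q).Nondegenerate) (hn : 7 ≤ Fintype.card ι)
    {u y : ι → F} (hu0 : u ≠ 0) (hu : Q u = 0) (huy : polar Q u y = 0) :
    EG Q hQ hn hu0 hu huy ∈ RU Q u hu :=
  ⟨y, huy, act_EG Q hQ hn hu0 hu huy⟩

/-- Conjugation of generalised Siegel maps. -/
theorem conj_act_egen (k g : ↥(Cfsg.Omega F ⇑Q)) {u y : ι → F}
    (hg : ∀ x, act Q g x = egen Q u y x) (x : ι → F) :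
    act Q (k * g * k⁻¹) x = egen Q (act Q k u) (act Q k y) x := by
  rw [act_mul, act_mul, hg, egen_conj Q (Q_act Q k), act_act_inv]

theorem conj_mem_RU (k : ↥(Cfsg.Omega F ⇑Q)) {u : ι → F} (hu : Q u = 0)
    {g : ↥(Cfsg.Omega F ⇑Q)} (hg : g ∈ RU Q u hu) :
    k * g * k⁻¹ ∈ RU Q (act Q k u) (by rw [Q_act, hu]) := by
  obtain ⟨y, hy, hgy⟩ := hg
  exact ⟨act Q k y, by rw [polar_act, hy], conj_act_egen Q k g hgy⟩

theorem RU_smul {u : ι → F} (hu : Q u = 0) {a : F} (ha : a ≠ 0) :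
    RU Q (a • u) (by rw [QuadraticMap.map_smul, hu, smul_zero]) = RU Q u hu := by
  ext g
  constructor
  · rintro ⟨y, hy, hg⟩
    refine ⟨a • y, ?_, fun x => ?_⟩
    · rw [polar_smul_left] at hy
      rw [polar_smul_right]
      exact hy
    · rw [hg, egen_smul_left]
  · rintro ⟨y, hy, hg⟩
    refine ⟨a⁻¹ • y, ?_, fun x => ?_⟩
    · rw [polar_smul_left, polar_smul_right, hy]
      simp
    · rw [hg, egen_smul_left, smul_smul, mul_inv_cancel₀ ha, one_smul]

theorem RU_comm {u : ι → F} (hu : Q u = 0) {a b : ↥(Cfsg.Omega F ⇑Q)} (ha : a ∈ RU Q u hu)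
    (hb : b ∈ RU Q u hu) : a * b = b * a := by
  obtain ⟨y, hy, hay⟩ := ha
  obtain ⟨y', hy', hby⟩ := hb
  apply act_ext
  intro x
  rw [act_mul, act_mul, hby, hay, hay, hby, egen_add Q hu hy hy', egen_add Q hu hy' hy, add_comm]

end Cfsg.Agent.Lib.Helper25.AutO
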