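import Cfsg.Agent.Lib.Helper25.POmegaSim

set_option autoImplicit false

/-!
# Automorphisms of `PΩ(Q)` induced by semisimilarities
-/

namespace Cfsg.Agent.Lib.Helper25.GraphSplit

open Module QuadraticMap Matrix Cfsg.Agent.Lib.Helper25.CD Cfsg.Agent.Lib.Helper25.Spin
  Cfsg.Agent.Lib.Helper25.PSim Cfsg.Agent.Lib.Helper25.PAut Cfsg.Agent.Lib.Helper25.PS
  Cfsg.Agent.Lib.Helper25.Siegel Cfsg.Agent.Lib.Helper25.MaxTS Cfsg.Agent.Lib.Helper25.Fam

universe u

section semi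

variable {ι : Type} [Fintype ι] [DecidableEq ι] {F : Type u} [Field F]

/-- The semilinear map `v ↦ g σ(v)`. -/
def semiMap (g : GL ι F) (σ : F ≃+* F) (v : ι → F) : ι → F :=
  (g : Matrix ι ι F) *ᵥ (fun i => σ (v i))

theorem map_mulVec_equiv (σ : F ≃+* F) (M : Matrix ι ι F) (v : ι → F) :
    (fun i => σ ((M *ᵥ v) i)) = (M.map σ) *ᵥ (fun i => σ (v i)) := by
  funext i
  exact RingHom.map_mulVec (σ : F →+* F) M v i

/-- The entrywise action of a field automorphism on `GL`. -/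
def sigmaGL (σ : F ≃+* F) : GL ι F →* GL ι F :=
  Matrix.GeneralLinearGroup.map (σ : F →+* F)

theorem sigmaGL_coe (σ : F ≃+* F) (g : GL ι F) :
    ((sigmaGL σ g : GL ι F) : Matrix ι ι F) = (g : Matrix ι ι F).map σ := rfl

theorem coe_conj (g s : GL ι F) (σ : F ≃+* F) :
    ((g * sigmaGL σ s * g⁻¹ : GL ι F) : Matrix ι ι F) =
      (g : Matrix ι ι F) * (s : Matrix ι ι F).map σ * ((g⁻¹ : GL ι F) : Matrix ι ι F) := rfl

theorem sigmaGL_trans (σ τ : F ≃+* F) (g : GL ι F) :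
    sigmaGL σ (sigmaGL τ g) = sigmaGL (τ.trans σ) g := by
  apply Units.ext
  rw [sigmaGL_coe, sigmaGL_coe, sigmaGL_coe]
  ext i j
  rfl

theorem sigmaGL_refl (g : GL ι F) : sigmaGL (RingEquiv.refl F) g = g := by
  apply Units.ext
  rw [sigmaGL_coe]
  ext i j
  rfl

theorem semiMap_add (g : GL ι F) (σ : F ≃+* F) (v w : ι → F) :
    semiMap g σ (v + w) = semiMap g σ v + semiMap g σ w := by
  unfold semiMap
  rw [← Matrix.mulVec_add]
  congr 1
  funext i
  simp

theorem semiMap_smul (g : GL ι F) (σ : F ≃+* F) (c : F) (v : ι → F) :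
    semiMap g σ (c • v) = σ c • semiMap g σ v := by
  unfold semiMap
  rw [← Matrix.mulVec_smul]
  congr 1
  funext i
  simp

theorem semiMap_zero (g : GL ι F) (σ : F ≃+* F) : semiMap g σ 0 = 0 := by
  unfold semiMap
  have : (fun i => σ ((0 : ι → F) i)) = 0 := by
    funext i
    simp
  rw [this, Matrix.mulVec_zero]

theorem semiMap_injective (g : GL ι F) (σ : F ≃+* F) : Function.Injective (semiMap g σ) := by
  intro v w h
  unfold semiMap at h
  have h1 := (toLE g).injective (a₁ := fun i => σ (v i)) (a₂ := fun i => σ (w i))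
    (by rw [toLE_apply, toLE_apply]; exact h)
  funext i
  exact σ.injective (congrFun h1 i)

theorem semiMap_surjective (g : GL ι F) (σ : F ≃+* F) : Function.Surjective (semiMap g σ) := by
  intro v
  refine ⟨fun i => σ.symm ((((g⁻¹ : GL ι F) : Matrix ι ι F) *ᵥ v) i), ?_⟩
  unfold semiMap
  have : (fun i => σ (σ.symm ((((g⁻¹ : GL ι F) : Matrix ι ι F) *ᵥ v) i))) =
      ((g⁻¹ : GL ι F) : Matrix ι ι F) *ᵥ v := by
    funext i
    simp
  rw [this, Matrix.mulVec_mulVec, ← Units.val_mul, mul_inv_cancel, Units.val_one,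
    Matrix.one_mulVec]

/-- The conjugate `g σ(s) g⁻¹` intertwines with the semilinear map. -/
theorem semiMap_conj (g s : GL ι F) (σ : F ≃+* F) (w : ι → F) :
    ((g * sigmaGL σ s * g⁻¹ : GL ι F) : Matrix ι ι F) *ᵥ semiMap g σ w =
      semiMap g σ ((s : Matrix ι ι F) *ᵥ w) := by
  unfold semiMap
  rw [map_mulVec_equiv, Matrix.mulVec_mulVec, Matrix.mulVec_mulVec]
  congr 1
  rw [coe_conj, Matrix.mul_assoc, Matrix.mul_assoc, ← Units.val_mul, inv_mul_cancel, Units.val_one,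
    Matrix.mul_one]

/-- Composition of semilinear maps. -/
theorem semiMap_comp (g₁ g₂ : GL ι F) (σ₁ σ₂ : F ≃+* F) (v : ι → F) :
    semiMap (g₁ * sigmaGL σ₁ g₂) (σ₂.trans σ₁) v = semiMap g₁ σ₁ (semiMap g₂ σ₂ v) := by
  unfold semiMap
  rw [map_mulVec_equiv, Matrix.mulVec_mulVec]
  rfl

variable (Q : (ι → F) → F)

theorem pair_apply {g : GL ι F} {σ : F ≃+* F} (h : Cfsg.IsSemisimilarityPair Q g σ) :
    ∃ c : Fˣ, ∀ v, Q (semiMap g σ v) = (c : F) * σ (Q v) := h

/-- Conjugation by a semisimilarity preserves the isometry group. -/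
theorem semi_conj_mem {g : GL ι F} {σ : F ≃+* F} (h : Cfsg.IsSemisimilarityPair Q g σ)
    {s : GL ι F} (hs : s ∈ Cfsg.isometryGroup F Q) :
    g * sigmaGL σ s * g⁻¹ ∈ Cfsg.isometryGroup F Q := by
  rw [mem_iso_iff'] at hs ⊢
  obtain ⟨c, hc⟩ := pair_apply Q h
  intro v
  obtain ⟨w, rfl⟩ := semiMap_surjective g σ v
  rw [semiMap_conj, hc, hc, hs]

/-- Conjugation by a semisimilarity, as an endomorphism of the isometry group. -/
def semiHom {g : GL ι F} {σ : F ≃+* F} (h : Cfsg.IsSemisimilarityPair Q g σ) :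
    ↥(Cfsg.isometryGroup F Q) →* ↥(Cfsg.isometryGroup F Q) where
  toFun s := ⟨g * sigmaGL σ s.1 * g⁻¹, semi_conj_mem Q h s.2⟩
  map_one' := by
    apply Subtype.ext
    show g * sigmaGL σ (1 : GL ι F) * g⁻¹ = 1
    rw [map_one, mul_one, mul_inv_cancel]
  map_mul' s t := by
    apply Subtype.ext
    show g * sigmaGL σ (s.1 * t.1) * g⁻¹ = (g * sigmaGL σ s.1 * g⁻¹) * (g * sigmaGL σ t.1 * g⁻¹)
    rw [map_mul]
    group

theorem semiHom_val {g : GL ι F} {σ : F ≃+* F} (h : Cfsg.IsSemisimilarityPair Q g σ)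
    (s : ↥(Cfsg.isometryGroup F Q)) : (semiHom Q h s).1 = g * sigmaGL σ s.1 * g⁻¹ := rfl

theorem semiHom_mem_omega {g : GL ι F} {σ : F ≃+* F} (h : Cfsg.IsSemisimilarityPair Q g σ)
    (s : ↥(Cfsg.Omega F Q)) : semiHom Q h s.1 ∈ Cfsg.Omega F Q := by
  have h1 : semiHom Q h s.1 ∈ (commutator ↥(Cfsg.isometryGroup F Q)).map (semiHom Q h) :=
    ⟨s.1, s.2, rfl⟩
  rw [commutator_def, Subgroup.map_commutator] at h1
  exact Subgroup.commutator_mono le_top le_top h1

/-- The induced endomorphism of `Ω`. -/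
def semiOmega {g : GL ι F} {σ : F ≃+* F} (h : Cfsg.IsSemisimilarityPair Q g σ) :
    ↥(Cfsg.Omega F Q) →* ↥(Cfsg.Omega F Q) where
  toFun s := ⟨semiHom Q h s.1, semiHom_mem_omega Q h s⟩
  map_one' := by
    apply Subtype.ext
    show semiHom Q h (1 : ↥(Cfsg.isometryGroup F Q)) = 1
    rw [map_one]
  map_mul' s t := by
    apply Subtype.ext
    show semiHom Q h (s.1 * t.1) = semiHom Q h s.1 * semiHom Q h t.1
    rw [map_mul]

theorem semiOmega_val {g : GL ι F} {σ : F ≃+* F} (h : Cfsg.IsSemisimilarityPair Q g σ)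
    (s : ↥(Cfsg.Omega F Q)) : (semiOmega Q h s).1.1 = g * sigmaGL σ s.1.1 * g⁻¹ := rfl

/-- The value of an automorphism induced by a semisimilarity. -/
theorem induced_mk {g : GL ι F} {σ : F ≃+* F} (h : Cfsg.IsSemisimilarityPair Q g σ)
    {β : Cfsg.POmega F Q ≃* Cfsg.POmega F Q}
    (hind : Cfsg.IsInducedBySemilinearPOmega Q g σ β) (s : ↥(Cfsg.Omega F Q)) :
    β (QuotientGroup.mk s) = QuotientGroup.mk (semiOmega Q h s) := by
  apply hind
  rw [semiOmega_val, coe_conj]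

/-- Automorphisms induced by semisimilarities. -/
def IsPairAut (β : MulAut (Cfsg.POmega F Q)) : Prop :=
  ∃ (g : GL ι F) (σ : F ≃+* F), Cfsg.IsSemisimilarityPair Q g σ ∧
    Cfsg.IsInducedBySemilinearPOmega Q g σ β

theorem pair_mul {g₁ g₂ : GL ι F} {σ₁ σ₂ : F ≃+* F} (h₁ : Cfsg.IsSemisimilarityPair Q g₁ σ₁)
    (h₂ : Cfsg.IsSemisimilarityPair Q g₂ σ₂) :
    Cfsg.IsSemisimilarityPair Q (g₁ * sigmaGL σ₁ g₂) (σ₂.trans σ₁) := by
  obtain ⟨c₁, hc₁⟩ := pair_apply Q h₁
  obtain ⟨c₂, hc₂⟩ := pair_apply Q h₂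
  refine ⟨c₁ * Units.map (σ₁ : F →* F) c₂, fun v => ?_⟩
  show Q (semiMap (g₁ * sigmaGL σ₁ g₂) (σ₂.trans σ₁) v) = _
  rw [semiMap_comp, hc₁, hc₂, map_mul, Units.val_mul, mul_assoc]
  rfl

theorem induced_mul {g₁ g₂ : GL ι F} {σ₁ σ₂ : F ≃+* F} (h₁ : Cfsg.IsSemisimilarityPair Q g₁ σ₁)
    (h₂ : Cfsg.IsSemisimilarityPair Q g₂ σ₂) {β₁ β₂ : MulAut (Cfsg.POmega F Q)}
    (hind₁ : Cfsg.IsInducedBySemilinearPOmega Q g₁ σ₁ β₁)
    (hind₂ : Cfsg.IsInducedBySemilinearPOmega Q g₂ σ₂ β₂) :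
    Cfsg.IsInducedBySemilinearPOmega Q (g₁ * sigmaGL σ₁ g₂) (σ₂.trans σ₁) (β₁ * β₂) := by
  intro s s' hs
  rw [MulAut.mul_apply, induced_mk Q h₂ hind₂]
  apply hind₁
  rw [hs, ← coe_conj, ← coe_conj, semiOmega_val]
  congr 1
  rw [map_mul, map_mul, map_inv, sigmaGL_trans]
  group

theorem isPairAut_mul {β₁ β₂ : MulAut (Cfsg.POmega F Q)} (h₁ : IsPairAut Q β₁)
    (h₂ : IsPairAut Q β₂) : IsPairAut Q (β₁ * β₂) := by
  obtain ⟨g₁, σ₁, hp₁, hi₁⟩ := h₁
  obtain ⟨g₂, σ₂, hp₂, hi₂⟩ := h₂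
  exact ⟨_, _, pair_mul Q hp₁ hp₂, induced_mul Q hp₁ hp₂ hi₁ hi₂⟩

theorem pair_of_sim {g : GL ι F} (hg : g ∈ Cfsg.Geo.quadSimilarityGroup (F := F) Q) :
    Cfsg.IsSemisimilarityPair Q g (RingEquiv.refl F) := by
  obtain ⟨c, hc⟩ := hg
  exact ⟨c, fun v => hc v⟩

theorem sim_of_pair {g : GL ι F} (h : Cfsg.IsSemisimilarityPair Q g (RingEquiv.refl F)) :
    g ∈ Cfsg.Geo.quadSimilarityGroup (F := F) Q := by
  obtain ⟨c, hc⟩ := h
  exact ⟨c, fun v => hc v⟩

theorem isPairAut_one : IsPairAut Q 1 := by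
  refine ⟨1, RingEquiv.refl F, pair_of_sim Q (Subgroup.one_mem _), ?_⟩
  rw [PSim.induced_iff Q 1 (Subgroup.one_mem _)]
  exact (map_one (theta Q)).symm

theorem isPairAut_pow {β : MulAut (Cfsg.POmega F Q)} (h : IsPairAut Q β) (n : ℕ) :
    IsPairAut Q (β ^ n) := by
  induction n with
  | zero => rw [pow_zero]; exact isPairAut_one Q
  | succ n ih => rw [pow_succ]; exact isPairAut_mul Q ih h

end semi

section abstractHom

variable {G : Type*} [Group G]

/-- An endomorphism of a perfect group that moves every element by a central element is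
the identity. -/
theorem fix_of_central_commutator_hom (hperf : commutator G = ⊤) (φ : G →* G)
    (h : ∀ s, s⁻¹ * φ s ∈ Subgroup.center G) (s : G) : φ s = s := by
  let χ : G →* ↥(Subgroup.center G) :=
    { toFun := fun s => ⟨s⁻¹ * φ s, h s⟩
      map_one' := by
        apply Subtype.ext
        show (1 : G)⁻¹ * φ 1 = 1
        rw [map_one, inv_one, one_mul]
      map_mul' := by
        intro a b
        apply Subtype.ext
        show (a * b)⁻¹ * φ (a * b) = (a⁻¹ * φ a) * (b⁻¹ * φ b)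
        have hc := (Subgroup.mem_center_iff.1 (h a)) b⁻¹
        rw [map_mul, _root_.mul_inv_rev]
        calc b⁻¹ * a⁻¹ * (φ a * φ b) = (b⁻¹ * (a⁻¹ * φ a)) * φ b := by group
          _ = ((a⁻¹ * φ a) * b⁻¹) * φ b := by rw [hc]
          _ = _ := by group }
  have hker : commutator G ≤ χ.ker := by
    rw [commutator_def, Subgroup.commutator_le]
    intro a _ b _
    rw [MonoidHom.mem_ker, map_commutatorElement, commutatorElement_eq_one_iff_mul_comm]
    apply Subtype.ext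
    exact ((Subgroup.mem_center_iff.1 (χ a).2) (χ b).1).symm
  rw [hperf] at hker
  have h1 : χ s = 1 := hker (Subgroup.mem_top s)
  have h2 : s⁻¹ * φ s = 1 := congrArg Subtype.val h1
  rw [inv_mul_eq_one] at h2
  exact h2.symm

end abstractHom

section finite

variable {ι : Type} [Fintype ι] [DecidableEq ι] {F : Type u} [Field F] [Fintype F]

/-- Every element of the image of the semisimilarity group is induced by one semisimilarity. -/
theorem isPairAut_of_mem_gamma (Q : (ι → F) → F) {β : MulAut (Cfsg.POmega F Q)}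
    (hβ : β ∈ Cfsg.gammaPOmega F Q) : IsPairAut Q β := by
  unfold Cfsg.gammaPOmega Cfsg.autSubgroupOf at hβ
  induction hβ using Subgroup.closure_induction with
  | mem x hx => exact hx
  | one => exact isPairAut_one Q
  | mul x y _ _ hx hy => exact isPairAut_mul Q hx hy
  | inv x _ hx =>
    have hfin : IsOfFinOrder x := isOfFinOrder_of_finite x
    have hpos : 0 < orderOf x := hfin.orderOf_pos
    have e : x⁻¹ = x ^ (orderOf x - 1) := by
      apply inv_eq_of_mul_eq_one_right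
      rw [← pow_succ', Nat.sub_add_cancel hpos, pow_orderOf_eq_one]
    rw [e]
    exact isPairAut_pow Q hx _

variable (Q : QuadraticForm F (ι → F))

/-- A semisimilarity acting trivially on `PΩ` commutes with `Ω`. -/
theorem semi_commute_of_induced_one (hQ : (polarBilin Q).Nondegenerate)
    (hn : 7 ≤ Fintype.card ι) {g : GL ι F} {σ : F ≃+* F}
    (h : Cfsg.IsSemisimilarityPair (⇑Q) g σ)
    (hind : Cfsg.IsInducedBySemilinearPOmega (⇑Q) g σ 1) (s : ↥(Cfsg.Omega F ⇑Q))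
    (w : ι → F) :
    ((s.1.1 : GL ι F) : Matrix ι ι F) *ᵥ semiMap g σ w =
      semiMap g σ (((s.1.1 : GL ι F) : Matrix ι ι F) *ᵥ w) := by
  have hcen : ∀ s : ↥(Cfsg.Omega F ⇑Q),
      s⁻¹ * semiOmega (⇑Q) h s ∈ Subgroup.center ↥(Cfsg.Omega F ⇑Q) := by
    intro s
    have h1 := induced_mk (⇑Q) h hind s
    exact QuotientGroup.eq.1 h1
  have h3 := fix_of_central_commutator_hom (omega_perfect Q hQ hn) (semiOmega (⇑Q) h) hcen s
  have h4 : g * sigmaGL σ s.1.1 * g⁻¹ = s.1.1 := by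
    rw [← semiOmega_val (⇑Q) h s, h3]
  rw [← semiMap_conj, h4]

/-- A semisimilarity acting trivially on `PΩ` fixes every singular point. -/
theorem semi_eigen (hQ : (polarBilin Q).Nondegenerate)
    (hn : 7 ≤ Fintype.card ι) {g : GL ι F} {σ : F ≃+* F}
    (h : Cfsg.IsSemisimilarityPair (⇑Q) g σ)
    (hind : Cfsg.IsInducedBySemilinearPOmega (⇑Q) g σ 1)
    (u : ι → F) (hu0 : u ≠ 0) (hu : Q u = 0) : ∃ t : F, semiMap g σ u = t • u := by
  obtain ⟨c, hc⟩ := pair_apply (⇑Q) h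
  have hu' : Q (semiMap g σ u) = 0 := by rw [hc, hu, map_zero, mul_zero]
  have hu'0 : semiMap g σ u ≠ 0 := by
    intro h0
    apply hu0
    apply semiMap_injective g σ
    rw [h0, semiMap_zero]
  by_contra hne
  have hPR : mk' Q u hu0 hu ≠ mk' Q _ hu'0 hu' := by
    intro h
    exact hne (exists_smul_of_mk'_eq Q hu0 hu hu'0 hu' h.symm)
  obtain ⟨R', hPR', hR'R, hort⟩ := exists_other Q hQ (by omega) hPR
  obtain ⟨k, hkP, hkR⟩ := trans_pair Q hQ (by omega) hPR hPR' hort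
  apply hR'R
  rw [← hkR]
  have h1 : k.1 • mk' Q u hu0 hu = mk' Q u hu0 hu := hkP
  rw [smul_mk'] at h1
  obtain ⟨t, ht⟩ := exists_smul_of_mk'_eq Q _ _ _ _ h1
  show k.1 • mk' Q _ hu'0 hu' = mk' Q _ hu'0 hu'
  rw [smul_mk']
  apply mk'_eq_of_smul Q (t := σ t)
  rw [toOG_apply, semi_commute_of_induced_one Q hQ hn h hind k u, ← toOG_apply, ht, semiMap_smul]

/-- A semisimilarity acting trivially on `PΩ` has trivial field automorphism. -/
theorem sigma_eq_refl_of_induced_one (hQ : (polarBilin Q).Nondegenerate)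
    (hn : 7 ≤ Fintype.card ι) {g : GL ι F} {σ : F ≃+* F}
    (h : Cfsg.IsSemisimilarityPair (⇑Q) g σ)
    (hind : Cfsg.IsInducedBySemilinearPOmega (⇑Q) g σ 1) : σ = RingEquiv.refl F := by
  have hfr : 5 ≤ finrank F (ι → F) := by
    rw [Module.finrank_fintype_fun_eq_card]
    omega
  obtain ⟨u, hu0, hQu⟩ := Cfsg.Agent.Lib.Helper15.exists_singular_of_three_le Q
    (show 3 ≤ finrank F (ι → F) by omega)
  obtain ⟨u', hQu', huu'⟩ := exists_sing_partner Q hQ hu0 hQu
  obtain ⟨z, hz0, hQz, huz, hu'z⟩ := OGeom.exists_sing_perp_pair Q hQ hfr hQu hQu'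
    (by rw [huu']; exact one_ne_zero)
  have hind2 : ∀ s t : F, s • u + t • z = 0 → s = 0 ∧ t = 0 := by
    intro s t hst
    have h1 : polar Q (s • u + t • z) u' = 0 := by
      rw [hst]
      simp
    rw [polar_add_left, polar_smul_left, polar_smul_left, huu', polar_comm Q z u', hu'z,
      smul_eq_mul, smul_eq_mul, mul_one, mul_zero, add_zero] at h1
    subst h1
    rw [zero_smul, zero_add] at hst
    exact ⟨rfl, (smul_eq_zero.1 hst).resolve_right hz0⟩
  obtain ⟨t, ht⟩ := semi_eigen Q hQ hn h hind u hu0 hQu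
  have ht0 : t ≠ 0 := by
    rintro rfl
    rw [zero_smul] at ht
    exact hu0 (semiMap_injective g σ (by rw [ht, semiMap_zero]))
  obtain ⟨t', ht'⟩ := semi_eigen Q hQ hn h hind z hz0 hQz
  have key : ∀ a : F, σ a * t' = t * a := by
    intro a
    have hQa : Q (u + a • z) = 0 := by
      rw [MaxTS.Q_add, hQu, QuadraticMap.map_smul, hQz, polar_smul_right, huz]
      simp
    have ha0 : u + a • z ≠ 0 := by
      intro h0
      have := hind2 1 a (by rw [one_smul]; exact h0)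
      exact one_ne_zero this.1
    obtain ⟨ta, hta⟩ := semi_eigen Q hQ hn h hind (u + a • z) ha0 hQa
    rw [semiMap_add, semiMap_smul, ht, ht', smul_add, smul_smul, smul_smul] at hta
    have h3 : (t - ta) • u + (σ a * t' - ta * a) • z = 0 := by
      rw [sub_smul, sub_smul]
      linear_combination (exp := 1) hta
    obtain ⟨h4, h5⟩ := hind2 _ _ h3
    rw [sub_eq_zero] at h4 h5
    rw [h5, h4]
  have h1 := key 1
  rw [map_one, one_mul, mul_one] at h1
  apply RingEquiv.ext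
  intro a
  have h2 := key a
  rw [h1] at h2
  show σ a = a
  apply mul_right_cancel₀ ht0
  rw [h2, mul_comm]

end finite

end Cfsg.Agent.Lib.Helper25.GraphSplit
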