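import Cfsg.Agent.Lib.Helper25.AutO17
import Cfsg.Agent.Lib.Helper15.WittBound
import Cfsg.Agent.Lib.Helper14.OrthOdd
import Cfsg.Agent.Lib.Helper14.OrthPlus
import Cfsg.Agent.Lib.Helper14.OrthMinus
import Cfsg.Agent.Lib.Helper25.SpinForms

set_option autoImplicit false
set_option linter.unusedSectionVars false
set_option linter.unusedVariables false
set_option linter.unusedSimpArgs false

/-!
# Automorphisms of `PΩ(Q)`, part 18: the `D₄` configuration does not occur in the three families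
-/

namespace Cfsg.Agent.Lib.Helper25.AutO

open Module QuadraticMap Matrix Cfsg.Agent.Lib.Helper25.CD Cfsg.Agent.Lib.Helper25.Siegel
  Cfsg.Agent.Lib.Helper5.NSMax Cfsg.Agent.Lib.Helper5.TSMax Cfsg.Agent.Lib.Helper25.PS
  Cfsg.Agent.Lib.Helper25.Fam Cfsg.Agent.Lib.Helper25.MaxTS Cfsg.Agent.Lib.Helper15

section matrix

variable {ι : Type} [Fintype ι] [DecidableEq ι] {F : Type*} [Field F] [Fintype F]
  (Q : QuadraticForm F (ι → F))

theorem ts_sup {L K : Submodule F (ι → F)} (hL : TS Q L) (hK : TS Q K)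
    (hp : L ≤ MaxTS.perp Q K) : TS Q (L ⊔ K) := by
  intro x hx
  obtain ⟨l, hl, k, hk, rfl⟩ := Submodule.mem_sup.1 hx
  rw [MaxTS.Q_add, hL l hl, hK k hk, polar_comm, MaxTS.mem_perp.1 (hp hl) k hk]
  simp

/-- The `D₄` configuration only occurs in dimension `8` with Witt index `4`. -/
theorem noD4_of (hQ : (polarBilin Q).Nondegenerate) (hn : 7 ≤ Fintype.card ι)
    (h8 : Fintype.card ι = 8 → ∀ U : Submodule F (ι → F), TS Q U → finrank F U ≤ 3) :
    NoD4 Q := by
  intro L K hL hK hm hp hle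
  have hts : TS Q (L ⊔ K) := ts_sup Q (hL.ts Q) (hK.ts Q) hp
  have hfL : finrank F L = 2 := by
    obtain ⟨u, v, h, rfl⟩ := hL
    exact h.finrank Q
  have hfK : finrank F K = 2 := by
    obtain ⟨u, v, h, rfl⟩ := hK
    exact h.finrank Q
  have h1 : finrank F (L ⊔ K : Submodule F (ι → F)) ≤ 4 := by
    have := Submodule.finrank_add_le_finrank_add_finrank L K
    omega
  have h2 := MaxTS.finrank_perp hQ (L ⊔ K)
  rw [finrank_fun] at h2
  have h3 := Submodule.finrank_mono hle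
  have h4 := Submodule.finrank_mono hts.le_perp
  have h5 : finrank F (L ⊔ K : Submodule F (ι → F)) ≤ Fintype.card ι := by
    have := Submodule.finrank_le (L ⊔ K)
    rwa [finrank_fun] at this
  have h6 : Fintype.card ι = 8 := by omega
  have h7 := h8 h6 _ hts
  omega

/-- **Part (I)**, with the characteristic hidden. -/
theorem aut_permutes_RB' (hQ : (polarBilin Q).Nondegenerate)
    (hn : 7 ≤ Fintype.card ι) (hD : NoD4 Q) (β : Cfsg.POmega F ⇑Q ≃* Cfsg.POmega F ⇑Q)
    (u : ι → F) (hu0 : u ≠ 0) (hu : Q u = 0) :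
    ∃ (u' : ι → F) (hu' : Q u' = 0), u' ≠ 0 ∧
      (RB Q u hu).map β.toMonoidHom = RB Q u' hu' := by
  haveI : Fact (ringChar F).Prime := ⟨CharP.char_is_prime F (ringChar F)⟩
  exact aut_permutes_RB Q (ringChar F) hQ hn hD β u hu0 hu

end matrix

section families

variable {F : Type*} [Field F] [Fintype F]

open Cfsg.Agent.Lib.Helper14 Cfsg.Agent.Lib.Helper14.OrthMinus Cfsg.Agent.Lib.Helper25.Spin

theorem noD4_odd {m : ℕ} (hm : 3 ≤ m) (h2 : (2 : F) ≠ 0) :
    NoD4 (qfOf (isQF_odd (m := m) h2)) := by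
  apply noD4_of _ (qfOf_nondeg _)
  · simp; omega
  · intro h
    exfalso
    simp at h
    omega

theorem noD4_plus {m : ℕ} (hm : 5 ≤ m) :
    NoD4 (qfOf (isQF_plus (m := m) (F := F))) := by
  apply noD4_of _ (qfOf_nondeg _)
  · simp; omega
  · intro h
    exfalso
    simp at h
    omega

theorem noD4_minus {m : ℕ} (hm : 3 ≤ m) {a b : F}
    (hab : ∀ z₁ z₂ : F, z₁ ^ 2 + a * z₁ * z₂ + b * z₂ ^ 2 = 0 → z₁ = 0 ∧ z₂ = 0)
    (hD : a ^ 2 - 4 * b ≠ 0) :
    NoD4 (qfOf (isQF_minus (n := m) hD)) := by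
  apply noD4_of _ (qfOf_nondeg _)
  · simp; omega
  · intro h U hU
    have h1 : m = 3 := by
      simp at h
      omega
    subst h1
    exact ts_minus_le 3 a b hab U hU

end families

end Cfsg.Agent.Lib.Helper25.AutO
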