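import Mathlib
import Cfsg.Agent.Lib.Helper4.D8Rec

set_option autoImplicit false

/-!
# Recognising groups of order two and four; homomorphisms from quotients
-/

namespace Cfsg.Agent.Lib.Helper25.SmallQuot

variable {X : Type*} [Group X]

theorem nonempty_equiv_zmod_two (hcard : Nat.card X = 2) :
    Nonempty (X ≃* Multiplicative (ZMod 2)) := by
  haveI : Fact (Nat.Prime 2) := ⟨Nat.prime_two⟩
  have hc : IsCyclic X := isCyclic_of_prime_card hcard
  have e := zmodCyclicMulEquiv hc
  rw [hcard] at e
  exact ⟨e.symm⟩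

theorem nonempty_equiv_zmod_four (hcard : Nat.card X = 4) (x : X) (hx : orderOf x = 4) :
    Nonempty (X ≃* Multiplicative (ZMod 4)) := by
  haveI : Finite X := Nat.finite_of_card_ne_zero (by rw [hcard]; norm_num)
  have hc : IsCyclic X := isCyclic_of_orderOf_eq_card x (by rw [hx, hcard])
  have e := zmodCyclicMulEquiv hc
  rw [hcard] at e
  exact ⟨e.symm⟩

theorem orderOf_eq_four_of_sq_ne (hcard : Nat.card X = 4) (x : X) (hx : x ^ 2 ≠ 1) :
    orderOf x = 4 := by
  haveI : Finite X := Nat.finite_of_card_ne_zero (by rw [hcard]; norm_num)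
  have hdvd : orderOf x ∣ 4 := hcard ▸ orderOf_dvd_natCard x
  have hle : orderOf x ≤ 4 := Nat.le_of_dvd (by norm_num) hdvd
  have h0 : 0 < orderOf x := orderOf_pos x
  have h2 : ¬ orderOf x ∣ 2 := fun h => hx (orderOf_dvd_iff_pow_eq_one.1 h)
  interval_cases h : orderOf x
  · exact absurd (one_dvd 2) h2
  · exact absurd (dvd_refl 2) h2
  · norm_num at hdvd
  · rfl

theorem isKleinFour_of_two_involutions (hcard : Nat.card X = 4) (a b : X) (ha : orderOf a = 2)
    (hb : orderOf b = 2) (hab : a ≠ b) : IsKleinFour X := by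
  haveI : Finite X := Nat.finite_of_card_ne_zero (by rw [hcard]; norm_num)
  have hsq : ∀ x : X, x ^ 2 = 1 := by
    intro x
    by_contra hx
    have hx4 := orderOf_eq_four_of_sq_ne hcard x hx
    have htop : Subgroup.zpowers x = ⊤ := by
      apply Subgroup.eq_top_of_card_eq
      rw [Nat.card_zpowers, hx4, hcard]
    have key : ∀ c : X, orderOf c = 2 → c = x ^ 2 := by
      intro c hc
      have hcx : c ∈ Subgroup.zpowers x := by rw [htop]; exact Subgroup.mem_top c
      rcases Cfsg.Agent.Lib.Helper4.mem_zpowers_four hx4 hcx with h1 | h1 | h1 | h1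
      · rw [h1, orderOf_one] at hc; norm_num at hc
      · rw [h1, hx4] at hc; norm_num at hc
      · exact h1
      · exfalso
        have h3 : c ^ 2 = 1 := by rw [← hc]; exact pow_orderOf_eq_one c
        rw [h1, ← pow_mul] at h3
        have h4 : x ^ 4 = 1 := by rw [← hx4]; exact pow_orderOf_eq_one x
        apply hx
        calc x ^ 2 = x ^ (3 * 2) * (x ^ 4)⁻¹ := by
              rw [show 3 * 2 = 2 + 4 by norm_num, pow_add, mul_inv_cancel_right]
          _ = 1 := by rw [h3, h4, inv_one, mul_one]
    exact hab ((key a ha).trans (key b hb).symm)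
  refine ⟨hcard, ?_⟩
  apply Nat.dvd_antisymm
  · exact Monoid.exponent_dvd_of_forall_pow_eq_one hsq
  · have := Monoid.order_dvd_exponent a
    rwa [ha] at this

theorem nonempty_equiv_klein (hcard : Nat.card X = 4) (a b : X) (ha : orderOf a = 2)
    (hb : orderOf b = 2) (hab : a ≠ b) :
    Nonempty (X ≃* Multiplicative (ZMod 2 × ZMod 2)) := by
  haveI := isKleinFour_of_two_involutions hcard a b ha hb hab
  exact IsKleinFour.nonempty_mulEquiv

/-- From an isomorphism of the quotient to a surjection with prescribed kernel. -/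
theorem exists_hom_of_quotient_equiv {G T : Type*} [Group G] [Group T] (N : Subgroup G)
    [N.Normal] (e : Nonempty ((G ⧸ N) ≃* T)) :
    ∃ φ : G →* T, Function.Surjective φ ∧ φ.ker = N := by
  obtain ⟨e⟩ := e
  refine ⟨e.toMonoidHom.comp (QuotientGroup.mk' N),
    e.surjective.comp (QuotientGroup.mk'_surjective N), ?_⟩
  ext x
  rw [MonoidHom.mem_ker, MonoidHom.comp_apply]
  have : e.toMonoidHom (QuotientGroup.mk' N x) = 1 ↔ QuotientGroup.mk' N x = 1 :=
    e.map_eq_one_iff
  rw [this, QuotientGroup.mk'_apply, QuotientGroup.eq_one_iff]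

end Cfsg.Agent.Lib.Helper25.SmallQuot
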