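import Cfsg.Agent.Lib.Helper25.POmegaSim4
import Cfsg.Agent.Lib.Helper25.SmallQuot

set_option autoImplicit false

/-!
# Proper similarities modulo `Ω`
-/

namespace Cfsg.Agent.Lib.Helper25.PSim

open Module QuadraticMap Matrix Cfsg.Agent.Lib.Helper25.CD Cfsg.Agent.Lib.Helper25.Spin
  Cfsg.Agent.Lib.Helper25.MaxTS Cfsg.Agent.Lib.Helper25.Fam Cfsg.Agent.Lib.Helper25.Siegel
  Cfsg.Agent.Lib.Helper25.PS Cfsg.Agent.Lib.Helper25.PAut Cfsg.Agent.Lib.Helper25.SmallQuot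

open scoped Pointwise commutatorElement

universe u

section proper

variable {ι : Type} [Fintype ι] [DecidableEq ι] {F : Type u} [Field F] [Fintype F]
  (Q : QuadraticForm F (ι → F)) (u₀ : ι → F) (hu₀ : Q u₀ = 1)
  (h2 : (2 : F) ≠ 0) (hQ : (polarBilin Q).Nondegenerate) {m : ℕ}
  (hcard : Fintype.card ι = 2 * m)

/-- The proper similarities. -/
noncomputable def properSub : Subgroup ↥(Cfsg.Geo.quadSimilarityGroup (F := F) ⇑Q) :=
  (psi2 Q u₀ hu₀ h2 hQ hcard).ker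

theorem mem_properSub_iff (g : ↥(Cfsg.Geo.quadSimilarityGroup (F := F) ⇑Q)) :
    g ∈ properSub Q u₀ hu₀ h2 hQ hcard ↔ IsProper Q u₀ hu₀ m g := by
  unfold properSub
  rw [MonoidHom.mem_ker]
  exact psi2_eq_one_iff Q u₀ hu₀ h2 hQ hcard g

/-- The image of the proper similarities in the automorphism group. -/
noncomputable def properAut : Subgroup (MulAut (Cfsg.POmega F ⇑Q)) :=
  (properSub Q u₀ hu₀ h2 hQ hcard).map (theta ⇑Q)

theorem incl_special_mem_proper (s : ↥(Cfsg.isometryGroup F ⇑Q))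
    (hs : s ∈ Cfsg.specialIsometryGroup F ⇑Q) :
    incl ⇑Q s ∈ properSub Q u₀ hu₀ h2 hQ hcard := by
  rw [mem_properSub_iff]
  unfold IsProper
  rw [mult_val, incl_val, Q_iso, hu₀, one_pow]
  exact (mem_special_iff_det Q s).1 hs

theorem inn_le_properAut :
    Cfsg.Inn (Cfsg.POmega F ⇑Q) ≤ properAut Q u₀ hu₀ h2 hQ hcard := by
  rw [inn_eq']
  unfold properAut
  apply Subgroup.map_mono
  rintro _ ⟨s, hs, rfl⟩
  exact incl_special_mem_proper Q u₀ hu₀ h2 hQ hcard s (omega_le_special Q h2 hQ hs)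

theorem properAut_le_pgoAut : properAut Q u₀ hu₀ h2 hQ hcard ≤ Cfsg.pgoAut F ⇑Q := by
  rw [pgoAut_eq]
  rintro _ ⟨g, -, rfl⟩
  exact ⟨g, rfl⟩

theorem psi2_refl : psi2 Q u₀ hu₀ h2 hQ hcard (incl ⇑Q (reflM Q u₀)) = -1 := by
  have hu₀0 : Q u₀ ≠ 0 := by rw [hu₀]; exact one_ne_zero
  rcases int_units_cases (psi2 Q u₀ hu₀ h2 hQ hcard (incl ⇑Q (reflM Q u₀))) with h | h
  · exfalso
    rw [psi2_eq_one_iff] at h
    unfold IsProper at h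
    rw [mult_val, incl_val, Q_iso, hu₀, one_pow, reflM_coe,
      det_reflectionMatrix' Q hu₀0] at h
    apply h2
    linear_combination -h
  · exact h

theorem psi2_surjective : Function.Surjective (psi2 Q u₀ hu₀ h2 hQ hcard) := by
  intro a
  rcases int_units_cases a with rfl | rfl
  · exact ⟨1, map_one _⟩
  · exact ⟨_, psi2_refl Q u₀ hu₀ h2 hQ hcard⟩

theorem relIndex_proper_pgo (hn : 7 ≤ Fintype.card ι) :
    (properAut Q u₀ hu₀ h2 hQ hcard).relIndex (Cfsg.pgoAut F ⇑Q) = 2 := by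
  have hker : (theta ⇑Q).ker ≤ (psi2 Q u₀ hu₀ h2 hQ hcard).ker := by
    intro g hg
    rw [MonoidHom.mem_ker] at hg ⊢
    have h1 : Psi Q u₀ hu₀ h2 hQ hcard g = 1 := by
      rw [Psi_eq_one_iff_pso Q u₀ hu₀ h2 hQ hcard hn, hg]
      exact one_mem _
    rw [Psi_eq_one_iff] at h1
    exact (psi2_eq_one_iff Q u₀ hu₀ h2 hQ hcard g).2 h1.2
  obtain ⟨φ, hφs, hφk⟩ := exists_lift (theta ⇑Q) (psi2 Q u₀ hu₀ h2 hQ hcard)
    (psi2_surjective Q u₀ hu₀ h2 hQ hcard) hker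
  rw [pgoAut_eq]
  unfold Subgroup.relIndex properAut properSub
  rw [← hφk, Subgroup.index_ker, MonoidHom.range_eq_top.2 hφs, Subgroup.card_top]
  rw [Nat.card_eq_fintype_card]
  rfl

include hu₀ hcard h2 hQ in
theorem relIndex_inn_pgo (hn : 7 ≤ Fintype.card ι)
    (d : ↥(Cfsg.Geo.quadSimilarityGroup (F := F) ⇑Q))
    (hd : ¬ IsSquare (mult Q u₀ hu₀ d : F)) :
    ((∃ g : ↥(Cfsg.isometryGroup F ⇑Q), g ∈ Cfsg.Omega F ⇑Q ∧
        ((g : GL ι F) : Matrix ι ι F) = -1) →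
      (Cfsg.Inn (Cfsg.POmega F ⇑Q)).relIndex (Cfsg.pgoAut F ⇑Q) = 8) ∧
    (¬ (∃ g : ↥(Cfsg.isometryGroup F ⇑Q), g ∈ Cfsg.Omega F ⇑Q ∧
        ((g : GL ι F) : Matrix ι ι F) = -1) →
      (Cfsg.Inn (Cfsg.POmega F ⇑Q)).relIndex (Cfsg.pgoAut F ⇑Q) = 4) := by
  have hle1 := inn_le_psoAut Q h2 hQ
  have hle2 := psoAut_le_pgoAut Q
  obtain ⟨φ₀, hφ₀s, hφ₀k⟩ := exists_hom_pgo_pso Q u₀ hu₀ h2 hQ hcard hn d hd
  have hidx2 : (Cfsg.psoAut F ⇑Q).relIndex (Cfsg.pgoAut F ⇑Q) = 4 := by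
    unfold Subgroup.relIndex
    rw [← hφ₀k, Subgroup.index_ker, MonoidHom.range_eq_top.2 hφ₀s, Subgroup.card_top]
    exact kleinFour_int_units.card_four
  constructor
  · intro hneg
    have hidx1 : (Cfsg.Inn (Cfsg.POmega F ⇑Q)).relIndex (Cfsg.psoAut F ⇑Q) = 2 :=
      (relIndex_inn_pso Q h2 hQ hn ⟨m, by omega⟩).1 hneg
    rw [← Subgroup.relIndex_mul_relIndex _ _ _ hle1 hle2, hidx1, hidx2]
  · intro hneg
    have hidx1 : (Cfsg.Inn (Cfsg.POmega F ⇑Q)).relIndex (Cfsg.psoAut F ⇑Q) = 1 :=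
      (relIndex_inn_pso Q h2 hQ hn ⟨m, by omega⟩).2 hneg
    rw [← Subgroup.relIndex_mul_relIndex _ _ _ hle1 hle2, hidx1, hidx2]

theorem relIndex_inn_proper (hn : 7 ≤ Fintype.card ι)
    (d : ↥(Cfsg.Geo.quadSimilarityGroup (F := F) ⇑Q))
    (hd : ¬ IsSquare (mult Q u₀ hu₀ d : F)) :
    ((∃ g : ↥(Cfsg.isometryGroup F ⇑Q), g ∈ Cfsg.Omega F ⇑Q ∧
        ((g : GL ι F) : Matrix ι ι F) = -1) →
      (Cfsg.Inn (Cfsg.POmega F ⇑Q)).relIndex (properAut Q u₀ hu₀ h2 hQ hcard) = 4) ∧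
    (¬ (∃ g : ↥(Cfsg.isometryGroup F ⇑Q), g ∈ Cfsg.Omega F ⇑Q ∧
        ((g : GL ι F) : Matrix ι ι F) = -1) →
      (Cfsg.Inn (Cfsg.POmega F ⇑Q)).relIndex (properAut Q u₀ hu₀ h2 hQ hcard) = 2) := by
  have h1 := Subgroup.relIndex_mul_relIndex _ _ _ (inn_le_properAut Q u₀ hu₀ h2 hQ hcard)
    (properAut_le_pgoAut Q u₀ hu₀ h2 hQ hcard)
  rw [relIndex_proper_pgo Q u₀ hu₀ h2 hQ hcard hn] at h1
  obtain ⟨k1, k2⟩ := relIndex_inn_pgo Q u₀ hu₀ h2 hQ hcard hn d hd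
  constructor
  · intro hneg
    rw [k1 hneg] at h1
    omega
  · intro hneg
    rw [k2 hneg] at h1
    omega

end proper

end Cfsg.Agent.Lib.Helper25.PSim
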