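import Cfsg.Agent.Lib.Helper25.AutOut1
import Cfsg.Agent.Lib.Helper25.POmegaSim5
import Cfsg.Agent.Lib.Helper25.AutO18
import Cfsg.Agent.Lib.Helper18.OrthAutP

set_option autoImplicit false
set_option linter.unusedSectionVars false
set_option linter.unusedVariables false
set_option linter.unusedSimpArgs false

/-!
# The order of `Aut(PΩ(Q))`: general reductions, and the odd-dimensional case
-/

namespace Cfsg.Agent.Lib.Helper25.AutOut

open Module QuadraticMap Matrix Cfsg.Agent.Lib.Helper25.CD Cfsg.Agent.Lib.Helper25.Spin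
  Cfsg.Agent.Lib.Helper25.PSim Cfsg.Agent.Lib.Helper25.PAut Cfsg.Agent.Lib.Helper25.PS
  Cfsg.Agent.Lib.Helper25.Siegel Cfsg.Agent.Lib.Helper25.MaxTS Cfsg.Agent.Lib.Helper25.Fam
  Cfsg.Agent.Lib.Helper25.GraphSplit

universe u

section general

variable {ι : Type} [Fintype ι] [DecidableEq ι] {F : Type u} [Field F] [Fintype F]
  (Q : QuadraticForm F (ι → F))

/-- `PΩ(Q)` has trivial centre (Grün's lemma). -/
theorem center_pomega (hQ : (polarBilin Q).Nondegenerate) (hn : 7 ≤ Fintype.card ι) :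
    Subgroup.center (Cfsg.POmega F ⇑Q) = ⊥ := by
  haveI : Group.IsPerfect ↥(Cfsg.Omega F ⇑Q) := ⟨omega_perfect Q hQ hn⟩
  exact Group.IsPerfect.center_quotient_center_eq_bot _

theorem conj_injective_pomega (hQ : (polarBilin Q).Nondegenerate) (hn : 7 ≤ Fintype.card ι) :
    Function.Injective (MulAut.conj : Cfsg.POmega F ⇑Q →* MulAut (Cfsg.POmega F ⇑Q)) := by
  rw [injective_iff_map_eq_one]
  intro a ha
  have h1 : a ∈ Subgroup.center (Cfsg.POmega F ⇑Q) := by
    rw [Subgroup.mem_center_iff]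
    intro g
    have h2 : MulAut.conj a g = g := by rw [ha]; rfl
    rw [MulAut.conj_apply] at h2
    calc g * a = (a * g * a⁻¹) * a := by rw [h2]
      _ = a * g := by group
  rw [center_pomega Q hQ hn] at h1
  exact h1

theorem card_inn (hQ : (polarBilin Q).Nondegenerate) (hn : 7 ≤ Fintype.card ι) :
    Nat.card (Cfsg.Inn (Cfsg.POmega F ⇑Q)) = Nat.card (Cfsg.POmega F ⇑Q) :=
  Nat.card_congr (MonoidHom.ofInjective (conj_injective_pomega Q hQ hn)).toEquiv.symm

theorem card_of_relIndex {G : Type*} [Group G] {H K : Subgroup G} (hHK : H ≤ K) :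
    Nat.card K = Nat.card H * H.relIndex K := by
  have h := Subgroup.relIndex_mul_relIndex (⊥ : Subgroup G) H K bot_le hHK
  rw [Subgroup.relIndex_bot_left, Subgroup.relIndex_bot_left] at h
  exact h.symm

/-- `|Aut(PΩ)| = [PGO : Inn] · |Aut F| · |PΩ|`. -/
theorem card_aut' (hQ : (polarBilin Q).Nondegenerate) (hn : 7 ≤ Fintype.card ι)
    (hAll : ∀ β : MulAut (Cfsg.POmega F ⇑Q), IsPairAut (⇑Q) β)
    (hσ : ∀ σ : F ≃+* F, ∃ g : GL ι F, Cfsg.IsSemisimilarityPair (⇑Q) g σ)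
    (hle : Cfsg.Inn (Cfsg.POmega F ⇑Q) ≤ Cfsg.pgoAut F ⇑Q) :
    Nat.card (MulAut (Cfsg.POmega F ⇑Q)) =
      (Cfsg.Inn (Cfsg.POmega F ⇑Q)).relIndex (Cfsg.pgoAut F ⇑Q) * Nat.card (RingAut F) *
        Nat.card (Cfsg.POmega F ⇑Q) := by
  rw [card_aut Q hQ hn hAll hσ, card_of_relIndex hle, card_inn Q hQ hn]
  ring

/-- every automorphism is induced by a semisimilarity, from the permutation property -/
theorem hAll_of_noD4 (hQ : (polarBilin Q).Nondegenerate) (hn : 7 ≤ Fintype.card ι)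
    (hD : Cfsg.Agent.Lib.Helper25.AutO.NoD4 Q) (β : MulAut (Cfsg.POmega F ⇑Q)) :
    IsPairAut (⇑Q) β :=
  Cfsg.Agent.Lib.Helper18.OrthAut.aut_induced_of_permutes Q hQ hn
    (fun β u hu0 hu => by
      obtain ⟨u', hu', hu0', h⟩ := Cfsg.Agent.Lib.Helper25.AutO.aut_permutes_RB' Q hQ hn hD β u hu0 hu
      exact ⟨u', hu0', hu', h⟩) β

end general

section odd

variable {ι : Type} [Fintype ι] [DecidableEq ι] {F : Type u} [Field F] [Fintype F]
  (Q : QuadraticForm F (ι → F))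

/-- In odd dimension every similarity is a scalar multiple of a special isometry. -/
theorem pgoAut_eq_psoAut_odd (hQ : (polarBilin Q).Nondegenerate) {m : ℕ}
    (hcard : Fintype.card ι = 2 * m + 1) (u₀ : ι → F) (hu₀ : Q u₀ = 1) :
    Cfsg.pgoAut F ⇑Q = Cfsg.psoAut F ⇑Q := by
  apply le_antisymm _ (psoAut_le_pgoAut Q)
  rw [pgoAut_eq, psoAut_eq]
  rintro _ ⟨g, rfl⟩
  have hdet0 : (g.1 : Matrix ι ι F).det ≠ 0 := by
    have := (Matrix.isUnit_iff_isUnit_det _).1 g.1.isUnit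
    exact this.ne_zero
  have hμ0 : (mult Q u₀ hu₀ g : F) ≠ 0 := Units.ne_zero _
  have hsq := det_sq Q u₀ hu₀ hQ g
  rw [hcard] at hsq
  obtain ⟨c, hcdef⟩ : ∃ c : F, c = (g.1 : Matrix ι ι F).det / (mult Q u₀ hu₀ g : F) ^ m := ⟨_, rfl⟩
  have hc2 : (mult Q u₀ hu₀ g : F) = c ^ 2 := by
    rw [hcdef, div_pow, hsq]
    field_simp
    ring
  obtain ⟨s, hs⟩ := exists_iso_of_sq Q u₀ hu₀ g c hc2
  have hc0 : c ≠ 0 := by
    rintro rfl
    rw [hc2] at hμ0
    simp at hμ0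
  have hdet := rel_det Q g s c hs
  have hcpow : c ^ Fintype.card ι = (g.1 : Matrix ι ι F).det := by
    rw [hcard, pow_succ, pow_mul, ← hc2, hcdef]
    field_simp
  rw [hcpow] at hdet
  have hs1 : (s.1 : Matrix ι ι F).det = 1 := by
    apply mul_left_cancel₀ hdet0
    rw [mul_one]
    exact hdet.symm
  refine ⟨s, (mem_special_iff_det Q s).2 hs1, ?_⟩
  rw [← theta_incl]
  exact (rel_theta Q g s c hc0 hs).symm

/-- In odd dimension `Inn(PΩ)` has index two in the image of `SO`. -/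
theorem relIndex_inn_pso_odd (h2 : (2 : F) ≠ 0) (hQ : (polarBilin Q).Nondegenerate)
    (hn : 7 ≤ Fintype.card ι) (ho : Odd (Fintype.card ι)) :
    (Cfsg.Inn (Cfsg.POmega F ⇑Q)).relIndex (Cfsg.psoAut F ⇑Q) = 2 := by
  rw [psoAut_eq, inn_eq]
  have hfin : 2 ≤ finrank F (ι → F) := by
    rw [Module.finrank_fintype_fun_eq_card]
    omega
  obtain ⟨u, hu⟩ := exists_rep Q hQ hfin 1
  obtain ⟨a, ha⟩ := FiniteField.exists_nonsquare (ringChar_ne_two h2)
  obtain ⟨w, hw⟩ := exists_rep Q hQ hfin a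
  have ha0 : a ≠ 0 := by
    rintro rfl
    exact ha ⟨0, by simp⟩
  have hu0 : Q u ≠ 0 := by rw [hu]; exact one_ne_zero
  have hw0 : Q w ≠ 0 := by rw [hw]; exact ha0
  have hidx := omega_relIndex_two Q h2 hQ hu0 hw0 (by rw [hu, hw, one_mul]; exact ha)
  have hle := omega_le_special Q h2 hQ
  apply relIndex_map_eq_two (conjTHom ⇑Q) hidx hle
  intro k hk hΦ
  obtain ⟨c, hc⟩ := scalar_of_conjT_eq_one Q hQ hn k hΦ
  have hc2 : (c - 1) * (c + 1) = 0 := by
    have h1 := Q_toOG Q k u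
    rw [hc, QuadraticMap.map_smul, hu, smul_eq_mul, mul_one] at h1
    linear_combination h1
  have hkmat : ((k : GL ι F) : Matrix ι ι F) = c • (1 : Matrix ι ι F) := by
    apply matrix_eq_of_mulVec
    intro x
    rw [← toOG_apply, hc, Matrix.smul_mulVec, Matrix.one_mulVec]
  have hdet : c ^ Fintype.card ι = 1 := by
    have h1 := (mem_special_iff_det Q k).1 hk
    rw [hkmat, Matrix.det_smul, Matrix.det_one, mul_one] at h1
    exact h1
  have hc1 : c = 1 := by
    rcases mul_eq_zero.1 hc2 with h | h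
    · linear_combination h
    · have hcm : c = -1 := by linear_combination h
      rw [hcm, ho.neg_one_pow] at hdet
      exfalso
      apply h2
      linear_combination -hdet
  have : k = 1 := by
    apply toOG_injective Q
    ext1 x
    rw [hc, hc1, one_smul, map_one]
    rfl
  rw [this]
  exact one_mem _

/-- The order of `Aut(PΩ(Q))` in odd dimension. -/
theorem card_aut_odd (h2 : (2 : F) ≠ 0) (hQ : (polarBilin Q).Nondegenerate)
    (hn : 7 ≤ Fintype.card ι) {m : ℕ} (hcard : Fintype.card ι = 2 * m + 1)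
    (hAll : ∀ β : MulAut (Cfsg.POmega F ⇑Q), IsPairAut (⇑Q) β)
    (hσ : ∀ σ : F ≃+* F, ∃ g : GL ι F, Cfsg.IsSemisimilarityPair (⇑Q) g σ) :
    Nat.card (MulAut (Cfsg.POmega F ⇑Q)) =
      2 * Nat.card (RingAut F) * Nat.card (Cfsg.POmega F ⇑Q) := by
  have hfin : 2 ≤ finrank F (ι → F) := by
    rw [Module.finrank_fintype_fun_eq_card]
    omega
  obtain ⟨u₀, hu₀⟩ := exists_rep Q hQ hfin 1
  have hle : Cfsg.Inn (Cfsg.POmega F ⇑Q) ≤ Cfsg.pgoAut F ⇑Q :=
    (inn_le_psoAut Q h2 hQ).trans (psoAut_le_pgoAut Q)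
  rw [card_aut' Q hQ hn hAll hσ hle, pgoAut_eq_psoAut_odd Q hQ hcard u₀ hu₀,
    relIndex_inn_pso_odd Q h2 hQ hn ⟨m, hcard⟩]

end odd

end Cfsg.Agent.Lib.Helper25.AutOut
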