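import Cfsg.Agent.Lib.Helper25.GraphSplit6

set_option autoImplicit false
set_option linter.unusedSectionVars false
set_option linter.unusedVariables false
set_option linter.unusedSimpArgs false

/-!
# The field-automorphism homomorphism on `Aut(PΩ(Q))`

When every automorphism of `PΩ(Q)` is induced by a semisimilarity, sending an automorphism to
the field automorphism of any semisimilarity inducing it is a homomorphism
`Aut(PΩ) →* Aut(F)` with kernel the image of the conformal group.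
-/

namespace Cfsg.Agent.Lib.Helper25.AutOut

open Module QuadraticMap Matrix Cfsg.Agent.Lib.Helper25.CD Cfsg.Agent.Lib.Helper25.Spin
  Cfsg.Agent.Lib.Helper25.PSim Cfsg.Agent.Lib.Helper25.PAut Cfsg.Agent.Lib.Helper25.PS
  Cfsg.Agent.Lib.Helper25.Siegel Cfsg.Agent.Lib.Helper25.MaxTS Cfsg.Agent.Lib.Helper25.Fam
  Cfsg.Agent.Lib.Helper25.GraphSplit

universe u

section semi

variable {ι : Type} [Fintype ι] [DecidableEq ι] {F : Type u} [Field F] [Fintype F]
  (Q : (ι → F) → F)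

theorem sigmaGL_injective (σ : F ≃+* F) : Function.Injective (sigmaGL (ι := ι) σ) := by
  intro a b h
  apply Units.ext
  have h1 := congrArg (fun x : GL ι F => (x : Matrix ι ι F)) h
  simp only [sigmaGL_coe] at h1
  ext i j
  have h2 := congrFun (congrFun h1 i) j
  simp only [Matrix.map_apply] at h2
  exact σ.injective h2

theorem semiOmega_injective {g : GL ι F} {σ : F ≃+* F} (h : Cfsg.IsSemisimilarityPair Q g σ) :
    Function.Injective (semiOmega Q h) := by
  intro s t hst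
  have h1 : (semiOmega Q h s).1.1 = (semiOmega Q h t).1.1 := by rw [hst]
  rw [semiOmega_val, semiOmega_val] at h1
  have h2 : sigmaGL σ s.1.1 = sigmaGL σ t.1.1 := by
    have := congrArg (fun x => g⁻¹ * x * g) h1
    simpa [mul_assoc] using this
  exact Subtype.ext (Subtype.ext (sigmaGL_injective σ h2))

/-- The automorphism of `Ω` induced by a semisimilarity. -/
noncomputable def semiEquiv {g : GL ι F} {σ : F ≃+* F} (h : Cfsg.IsSemisimilarityPair Q g σ) :
    ↥(Cfsg.Omega F Q) ≃* ↥(Cfsg.Omega F Q) :=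
  MulEquiv.ofBijective (semiOmega Q h)
    ⟨semiOmega_injective Q h, Finite.injective_iff_surjective.1 (semiOmega_injective Q h)⟩

theorem semiEquiv_apply {g : GL ι F} {σ : F ≃+* F} (h : Cfsg.IsSemisimilarityPair Q g σ)
    (s : ↥(Cfsg.Omega F Q)) : semiEquiv Q h s = semiOmega Q h s := rfl

/-- The automorphism of `PΩ` induced by a semisimilarity. -/
noncomputable def semiAut {g : GL ι F} {σ : F ≃+* F} (h : Cfsg.IsSemisimilarityPair Q g σ) :
    MulAut (Cfsg.POmega F Q) :=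
  quotChar (Subgroup.center ↥(Cfsg.Omega F Q)) (semiEquiv Q h)

theorem semiAut_mk {g : GL ι F} {σ : F ≃+* F} (h : Cfsg.IsSemisimilarityPair Q g σ)
    (s : ↥(Cfsg.Omega F Q)) :
    semiAut Q h (QuotientGroup.mk s) = QuotientGroup.mk (semiOmega Q h s) := rfl

theorem semiAut_induced {g : GL ι F} {σ : F ≃+* F} (h : Cfsg.IsSemisimilarityPair Q g σ) :
    Cfsg.IsInducedBySemilinearPOmega Q g σ (semiAut Q h) := by
  intro s s' hs
  rw [semiAut_mk]
  congr 1
  apply Subtype.ext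
  apply Subtype.ext
  apply Units.ext
  rw [hs, semiOmega_val, coe_conj]

theorem eq_semiAut_of_induced {g : GL ι F} {σ : F ≃+* F} (h : Cfsg.IsSemisimilarityPair Q g σ)
    {β : MulAut (Cfsg.POmega F Q)} (hind : Cfsg.IsInducedBySemilinearPOmega Q g σ β) :
    β = semiAut Q h := by
  apply MulEquiv.ext
  intro t
  induction t using QuotientGroup.induction_on with
  | H s => rw [induced_mk Q h hind, semiAut_mk]

theorem isPairAut_inv {β : MulAut (Cfsg.POmega F Q)} (h : IsPairAut Q β) : IsPairAut Q β⁻¹ := by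
  have hfin : IsOfFinOrder β := isOfFinOrder_of_finite β
  have hpos : 0 < orderOf β := hfin.orderOf_pos
  have e : β⁻¹ = β ^ (orderOf β - 1) := by
    apply inv_eq_of_mul_eq_one_right
    rw [← pow_succ', Nat.sub_add_cancel hpos, pow_orderOf_eq_one]
  rw [e]
  exact isPairAut_pow Q h _

end semi

section hom

variable {ι : Type} [Fintype ι] [DecidableEq ι] {F : Type u} [Field F] [Fintype F]
  (Q : QuadraticForm F (ι → F))

/-- The field automorphism of a semisimilarity inducing a given automorphism is unique. -/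
theorem sigma_unique (hQ : (polarBilin Q).Nondegenerate) (hn : 7 ≤ Fintype.card ι)
    {β : MulAut (Cfsg.POmega F ⇑Q)} {g₁ g₂ : GL ι F} {σ₁ σ₂ : F ≃+* F}
    (h₁ : Cfsg.IsSemisimilarityPair (⇑Q) g₁ σ₁)
    (i₁ : Cfsg.IsInducedBySemilinearPOmega (⇑Q) g₁ σ₁ β)
    (h₂ : Cfsg.IsSemisimilarityPair (⇑Q) g₂ σ₂)
    (i₂ : Cfsg.IsInducedBySemilinearPOmega (⇑Q) g₂ σ₂ β) : σ₁ = σ₂ := by
  obtain ⟨g', σ', h', i'⟩ := isPairAut_inv (⇑Q) ⟨g₁, σ₁, h₁, i₁⟩
  have k₁ := sigma_eq_refl_of_induced_one Q hQ hn (pair_mul (⇑Q) h₁ h')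
    (by have := induced_mul (⇑Q) h₁ h' i₁ i'; rwa [mul_inv_cancel] at this)
  have k₂ := sigma_eq_refl_of_induced_one Q hQ hn (pair_mul (⇑Q) h₂ h')
    (by have := induced_mul (⇑Q) h₂ h' i₂ i'; rwa [mul_inv_cancel] at this)
  ext x
  have e₁ : σ₁ (σ' (σ'.symm x)) = σ'.symm x := by
    have := RingEquiv.congr_fun k₁ (σ'.symm x)
    exact this
  have e₂ : σ₂ (σ' (σ'.symm x)) = σ'.symm x := by
    have := RingEquiv.congr_fun k₂ (σ'.symm x)
    exact this
  rw [RingEquiv.apply_symm_apply] at e₁ e₂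
  rw [e₁, e₂]

/-- The field-automorphism homomorphism. -/
noncomputable def fieldHom (hQ : (polarBilin Q).Nondegenerate) (hn : 7 ≤ Fintype.card ι)
    (hAll : ∀ β : MulAut (Cfsg.POmega F ⇑Q), IsPairAut (⇑Q) β) :
    MulAut (Cfsg.POmega F ⇑Q) →* RingAut F where
  toFun β := (hAll β).choose_spec.choose
  map_one' := by
    have h1 := (hAll 1).choose_spec.choose_spec
    obtain ⟨g, σ, hp, hi⟩ := isPairAut_one (⇑Q)
    have hσ : σ = RingEquiv.refl F := sigma_eq_refl_of_induced_one Q hQ hn hp hi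
    rw [sigma_unique Q hQ hn h1.1 h1.2 hp hi, hσ]
    rfl
  map_mul' β₁ β₂ := by
    have h := (hAll (β₁ * β₂)).choose_spec.choose_spec
    have h1 := (hAll β₁).choose_spec.choose_spec
    have h2 := (hAll β₂).choose_spec.choose_spec
    rw [sigma_unique Q hQ hn h.1 h.2 (pair_mul (⇑Q) h1.1 h2.1) (induced_mul (⇑Q) h1.1 h2.1 h1.2 h2.2)]
    rfl

theorem fieldHom_eq (hQ : (polarBilin Q).Nondegenerate) (hn : 7 ≤ Fintype.card ι)
    (hAll : ∀ β : MulAut (Cfsg.POmega F ⇑Q), IsPairAut (⇑Q) β)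
    {β : MulAut (Cfsg.POmega F ⇑Q)} {g : GL ι F} {σ : F ≃+* F}
    (h : Cfsg.IsSemisimilarityPair (⇑Q) g σ)
    (i : Cfsg.IsInducedBySemilinearPOmega (⇑Q) g σ β) : fieldHom Q hQ hn hAll β = σ := by
  have h1 := (hAll β).choose_spec.choose_spec
  exact sigma_unique Q hQ hn h1.1 h1.2 h i

/-- The kernel of the field-automorphism homomorphism is the image of the conformal group. -/
theorem fieldHom_ker (hQ : (polarBilin Q).Nondegenerate) (hn : 7 ≤ Fintype.card ι)
    (hAll : ∀ β : MulAut (Cfsg.POmega F ⇑Q), IsPairAut (⇑Q) β) :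
    (fieldHom Q hQ hn hAll).ker = Cfsg.pgoAut F ⇑Q := by
  ext β
  rw [MonoidHom.mem_ker]
  constructor
  · intro h
    have h1 := (hAll β).choose_spec.choose_spec
    have h2 : (hAll β).choose_spec.choose = RingEquiv.refl F := h
    rw [h2] at h1
    unfold Cfsg.pgoAut Cfsg.autSubgroupOf
    apply Subgroup.subset_closure
    exact ⟨_, sim_of_pair (⇑Q) h1.1, h1.2⟩
  · intro h
    rw [pgoAut_eq] at h
    obtain ⟨g, rfl⟩ := h
    have hi := (PSim.induced_iff (⇑Q) g.1 g.2 (theta (⇑Q) g)).2 rfl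
    rw [fieldHom_eq Q hQ hn hAll (pair_of_sim (⇑Q) g.2) hi]
    rfl

/-- The image of the field-automorphism homomorphism. -/
theorem mem_fieldHom_range (hQ : (polarBilin Q).Nondegenerate) (hn : 7 ≤ Fintype.card ι)
    (hAll : ∀ β : MulAut (Cfsg.POmega F ⇑Q), IsPairAut (⇑Q) β) {σ : F ≃+* F}
    (h : ∃ g : GL ι F, Cfsg.IsSemisimilarityPair (⇑Q) g σ) :
    σ ∈ (fieldHom Q hQ hn hAll).range := by
  obtain ⟨g, hg⟩ := h
  exact ⟨semiAut (⇑Q) hg, fieldHom_eq Q hQ hn hAll hg (semiAut_induced (⇑Q) hg)⟩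

/-- The order of `Aut(PΩ)` when every field automorphism extends to a semisimilarity. -/
theorem card_aut (hQ : (polarBilin Q).Nondegenerate) (hn : 7 ≤ Fintype.card ι)
    (hAll : ∀ β : MulAut (Cfsg.POmega F ⇑Q), IsPairAut (⇑Q) β)
    (hσ : ∀ σ : F ≃+* F, ∃ g : GL ι F, Cfsg.IsSemisimilarityPair (⇑Q) g σ) :
    Nat.card (MulAut (Cfsg.POmega F ⇑Q)) =
      Nat.card (Cfsg.pgoAut F ⇑Q) * Nat.card (RingAut F) := by
  have h1 := Subgroup.card_mul_index (fieldHom Q hQ hn hAll).ker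
  rw [Subgroup.index_ker, fieldHom_ker] at h1
  have h2 : (fieldHom Q hQ hn hAll).range = ⊤ := by
    rw [eq_top_iff]
    intro σ _
    exact mem_fieldHom_range Q hQ hn hAll (hσ σ)
  rw [h2, Subgroup.card_top] at h1
  exact h1.symm

theorem fieldHom_surjective (hQ : (polarBilin Q).Nondegenerate) (hn : 7 ≤ Fintype.card ι)
    (hAll : ∀ β : MulAut (Cfsg.POmega F ⇑Q), IsPairAut (⇑Q) β)
    (hσ : ∀ σ : F ≃+* F, ∃ g : GL ι F, Cfsg.IsSemisimilarityPair (⇑Q) g σ) :
    Function.Surjective (fieldHom Q hQ hn hAll) := by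
  intro σ
  exact mem_fieldHom_range Q hQ hn hAll (hσ σ)

end hom

end Cfsg.Agent.Lib.Helper25.AutOut
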