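import Cfsg.Agent.Lib.Helper25.POmegaSim2
import Cfsg.Agent.Lib.Helper25.SpinSO

set_option autoImplicit false

/-!
# `PGO / PSO` is a four-group
-/

namespace Cfsg.Agent.Lib.Helper25.PSim

open Module QuadraticMap Matrix Cfsg.Agent.Lib.Helper25.CD Cfsg.Agent.Lib.Helper25.Spin
  Cfsg.Agent.Lib.Helper25.MaxTS Cfsg.Agent.Lib.Helper25.Fam Cfsg.Agent.Lib.Helper25.Siegel
  Cfsg.Agent.Lib.Helper25.PS Cfsg.Agent.Lib.Helper25.PAut

open scoped Pointwise commutatorElement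

universe u

section rel

variable {ι : Type} [Fintype ι] [DecidableEq ι] {F : Type u} [Field F]
  (Q : QuadraticForm F (ι → F)) (u₀ : ι → F) (hu₀ : Q u₀ = 1)

theorem Q_iso (s : ↥(Cfsg.isometryGroup F ⇑Q)) (x : ι → F) :
    Q ((s.1 : Matrix ι ι F) *ᵥ x) = Q x := (mem_iso_iff' (⇑Q) s.1).1 s.2 x

theorem matrix_eq_of_mulVec {A B : Matrix ι ι F} (h : ∀ x, A *ᵥ x = B *ᵥ x) : A = B := by
  apply Matrix.toLin'.injective
  apply LinearMap.ext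
  intro x
  rw [Matrix.toLin'_apply, Matrix.toLin'_apply, h]

/-- A similarity which is a scalar multiple of an isometry. -/
theorem rel_mult (g : ↥(Cfsg.Geo.quadSimilarityGroup (F := F) ⇑Q))
    (s : ↥(Cfsg.isometryGroup F ⇑Q)) (c : F)
    (h : ∀ x, (g.1 : Matrix ι ι F) *ᵥ x = c • ((s.1 : Matrix ι ι F) *ᵥ x)) :
    (mult Q u₀ hu₀ g : F) = c ^ 2 := by
  rw [mult_val, h, QuadraticMap.map_smul, Q_iso, hu₀, smul_eq_mul, mul_one, pow_two]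

theorem rel_det (g : ↥(Cfsg.Geo.quadSimilarityGroup (F := F) ⇑Q))
    (s : ↥(Cfsg.isometryGroup F ⇑Q)) (c : F)
    (h : ∀ x, (g.1 : Matrix ι ι F) *ᵥ x = c • ((s.1 : Matrix ι ι F) *ᵥ x)) :
    (g.1 : Matrix ι ι F).det = c ^ Fintype.card ι * (s.1 : Matrix ι ι F).det := by
  have e : (g.1 : Matrix ι ι F) = c • (s.1 : Matrix ι ι F) := by
    apply matrix_eq_of_mulVec
    intro x
    rw [h, Matrix.smul_mulVec]
  rw [e, Matrix.det_smul]

end rel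

section rel2

variable {ι : Type} [Fintype ι] [DecidableEq ι] {F : Type u} [Field F] [Fintype F]
  (Q : QuadraticForm F (ι → F)) (u₀ : ι → F) (hu₀ : Q u₀ = 1)

theorem rel_theta (g : ↥(Cfsg.Geo.quadSimilarityGroup (F := F) ⇑Q))
    (s : ↥(Cfsg.isometryGroup F ⇑Q)) (c : F) (hc : c ≠ 0)
    (h : ∀ x, (g.1 : Matrix ι ι F) *ᵥ x = c • ((s.1 : Matrix ι ι F) *ᵥ x)) :
    theta ⇑Q g = theta ⇑Q (incl ⇑Q s) := by
  have h1 : theta ⇑Q (g⁻¹ * incl ⇑Q s) = 1 := by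
    apply theta_eq_one_of_scalar Q _ c⁻¹
    intro x
    show ((g.1⁻¹ * s.1 : GL ι F) : Matrix ι ι F) *ᵥ x = c⁻¹ • x
    have h3 : (s.1 : Matrix ι ι F) *ᵥ x = c⁻¹ • ((g.1 : Matrix ι ι F) *ᵥ x) := by
      rw [h, smul_smul, inv_mul_cancel₀ hc, one_smul]
    rw [Units.val_mul, ← Matrix.mulVec_mulVec, h3, Matrix.mulVec_smul, Matrix.mulVec_mulVec,
      ← Units.val_mul, inv_mul_cancel, Units.val_one, Matrix.one_mulVec]
  rw [map_mul, map_inv, inv_mul_eq_one] at h1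
  exact h1

include hu₀ in
/-- A similarity with square multiplier is a scalar multiple of an isometry. -/
theorem exists_iso_of_sq (g : ↥(Cfsg.Geo.quadSimilarityGroup (F := F) ⇑Q)) (c : F)
    (hc : (mult Q u₀ hu₀ g : F) = c ^ 2) :
    ∃ s : ↥(Cfsg.isometryGroup F ⇑Q),
      ∀ x, (g.1 : Matrix ι ι F) *ᵥ x = c • ((s.1 : Matrix ι ι F) *ᵥ x) := by
  have hc0 : c ≠ 0 := by
    rintro rfl
    have := Units.ne_zero (mult Q u₀ hu₀ g)
    rw [hc] at this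
    simp at this
  obtain ⟨ρ, hρdef⟩ : ∃ ρ : (ι → F) ≃ₗ[F] (ι → F),
      ρ = (LinearEquiv.smulOfNeZero F (ι → F) c⁻¹ (inv_ne_zero hc0)).trans (toLE g.1) := ⟨_, rfl⟩
  have hρ : ∀ x, ρ x = c⁻¹ • ((g.1 : Matrix ι ι F) *ᵥ x) := by
    intro x
    rw [hρdef, LinearEquiv.trans_apply, LinearEquiv.smulOfNeZero_apply, toLE_apply,
      Matrix.mulVec_smul]
  have hρO : ρ ∈ OG Q := by
    rw [mem_OG]
    intro x
    rw [hρ, QuadraticMap.map_smul, Q_sim Q u₀ hu₀, hc, smul_eq_mul]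
    field_simp
  refine ⟨ofOG Q ρ hρO, fun x => ?_⟩
  rw [← toOG_apply, toOG_ofOG, hρ, smul_smul, mul_inv_cancel₀ hc0, one_smul]

include hu₀ in
/-- Two elements with the same image differ by a scalar. -/
theorem exists_scalar_of_theta_eq (hQ : (polarBilin Q).Nondegenerate)
    (hn : 7 ≤ Fintype.card ι) (g : ↥(Cfsg.Geo.quadSimilarityGroup (F := F) ⇑Q))
    (s : ↥(Cfsg.isometryGroup F ⇑Q)) (h : theta ⇑Q g = theta ⇑Q (incl ⇑Q s)) :
    ∃ c : F, c ≠ 0 ∧ ∀ x, (g.1 : Matrix ι ι F) *ᵥ x = c • ((s.1 : Matrix ι ι F) *ᵥ x) := by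
  have h1 : theta ⇑Q (g * (incl ⇑Q s)⁻¹) = 1 := by
    rw [map_mul, map_inv, h, mul_inv_cancel]
  obtain ⟨c, hc⟩ := scalar_of_theta_eq_one Q hQ hn _ h1
  have hx : ∀ x, (g.1 : Matrix ι ι F) *ᵥ x = c • ((s.1 : Matrix ι ι F) *ᵥ x) := by
    intro x
    rw [← hc]
    show _ = ((g.1 * s.1⁻¹ : GL ι F) : Matrix ι ι F) *ᵥ _
    rw [Matrix.mulVec_mulVec, ← Units.val_mul, inv_mul_cancel_right]
  refine ⟨c, ?_, hx⟩
  rintro rfl
  have h3 := mult_ne_zero Q u₀ hu₀ g.1 g.2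
  rw [hx, zero_smul, map_zero] at h3
  exact h3 rfl

end rel2

section main

variable {ι : Type} [Fintype ι] [DecidableEq ι] {F : Type u} [Field F] [Fintype F]
  (Q : QuadraticForm F (ι → F)) (u₀ : ι → F) (hu₀ : Q u₀ = 1)

theorem Psi_eq_one_iff_pso (h2 : (2 : F) ≠ 0) (hQ : (polarBilin Q).Nondegenerate) {m : ℕ}
    (hcard : Fintype.card ι = 2 * m) (hn : 7 ≤ Fintype.card ι)
    (g : ↥(Cfsg.Geo.quadSimilarityGroup (F := F) ⇑Q)) :
    Psi Q u₀ hu₀ h2 hQ hcard g = 1 ↔ theta ⇑Q g ∈ Cfsg.psoAut F ⇑Q := by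
  rw [Psi_eq_one_iff, psoAut_eq']
  constructor
  · rintro ⟨⟨c, hc⟩, hprop⟩
    rw [← pow_two] at hc
    obtain ⟨s, hs⟩ := exists_iso_of_sq Q u₀ hu₀ g c hc
    have hc0 : c ≠ 0 := by
      rintro rfl
      have := Units.ne_zero (mult Q u₀ hu₀ g)
      rw [hc] at this
      simp at this
    have hdet := rel_det Q g s c hs
    unfold IsProper at hprop
    rw [hprop, hc, hcard, ← pow_mul] at hdet
    have hs1 : (s.1 : Matrix ι ι F).det = 1 := by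
      have h3 : c ^ (2 * m) ≠ 0 := pow_ne_zero _ hc0
      apply mul_left_cancel₀ h3
      rw [mul_one]
      exact hdet.symm
    refine ⟨incl ⇑Q s, ⟨s, (mem_special_iff_det Q s).2 hs1, rfl⟩, ?_⟩
    exact (rel_theta Q g s c hc0 hs).symm
  · rintro ⟨_, ⟨s, hsS, rfl⟩, hs⟩
    obtain ⟨c, hc0, hc⟩ := exists_scalar_of_theta_eq Q u₀ hu₀ hQ hn g s hs.symm
    have hmult := rel_mult Q u₀ hu₀ g s c hc
    refine ⟨⟨c, by rw [hmult, pow_two]⟩, ?_⟩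
    unfold IsProper
    rw [rel_det Q g s c hc, (mem_special_iff_det Q s).1 hsS, mul_one, hmult, hcard, pow_mul]

theorem psoAut_le_pgoAut : Cfsg.psoAut F ⇑Q ≤ Cfsg.pgoAut F ⇑Q := by
  rw [psoAut_eq', pgoAut_eq]
  rintro _ ⟨g, -, rfl⟩
  exact ⟨g, rfl⟩

theorem inn_le_psoAut (h2 : (2 : F) ≠ 0) (hQ : (polarBilin Q).Nondegenerate) :
    Cfsg.Inn (Cfsg.POmega F ⇑Q) ≤ Cfsg.psoAut F ⇑Q := by
  rw [psoAut_eq', inn_eq']
  apply Subgroup.map_mono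
  apply Subgroup.map_mono
  exact omega_le_special Q h2 hQ

theorem int_units_cases (a : ℤˣ) : a = 1 ∨ a = -1 := Int.units_eq_one_or a

/-- `Ψ` is surjective, given a similarity with nonsquare multiplier. -/
theorem Psi_surjective (h2 : (2 : F) ≠ 0) (hQ : (polarBilin Q).Nondegenerate) {m : ℕ}
    (hcard : Fintype.card ι = 2 * m)
    (d : ↥(Cfsg.Geo.quadSimilarityGroup (F := F) ⇑Q))
    (hd : ¬ IsSquare (mult Q u₀ hu₀ d : F)) :
    Function.Surjective (Psi Q u₀ hu₀ h2 hQ hcard) := by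
  obtain ⟨r, hrdef⟩ : ∃ r, r = incl ⇑Q (reflM Q u₀) := ⟨_, rfl⟩
  have hu₀0 : Q u₀ ≠ 0 := by rw [hu₀]; exact one_ne_zero
  have hr1 : psi1 Q u₀ hu₀ r = 1 := by
    rw [psi1_eq_one_iff, mult_val, hrdef, incl_val, Q_iso, hu₀]
    exact ⟨1, by ring⟩
  have hr2 : psi2 Q u₀ hu₀ h2 hQ hcard r = -1 := by
    rcases int_units_cases (psi2 Q u₀ hu₀ h2 hQ hcard r) with h | h
    · exfalso
      rw [psi2_eq_one_iff] at h
      unfold IsProper at h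
      rw [mult_val, hrdef, incl_val, Q_iso, hu₀, one_pow, reflM_coe,
        det_reflectionMatrix' Q hu₀0] at h
      apply h2
      linear_combination -h
    · exact h
  have hd1 : psi1 Q u₀ hu₀ d = -1 := by
    rcases int_units_cases (psi1 Q u₀ hu₀ d) with h | h
    · exact absurd ((psi1_eq_one_iff Q u₀ hu₀ d).1 h) hd
    · exact h
  rintro ⟨a, b⟩
  obtain ⟨g₁, hg₁⟩ : ∃ g₁, psi1 Q u₀ hu₀ g₁ = a := by
    rcases int_units_cases a with rfl | rfl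
    · exact ⟨1, map_one _⟩
    · exact ⟨d, hd1⟩
  obtain ⟨g₂, hg₂1, hg₂2⟩ : ∃ g₂, psi1 Q u₀ hu₀ g₂ = 1 ∧
      psi2 Q u₀ hu₀ h2 hQ hcard g₂ = (psi2 Q u₀ hu₀ h2 hQ hcard g₁)⁻¹ * b := by
    rcases int_units_cases ((psi2 Q u₀ hu₀ h2 hQ hcard g₁)⁻¹ * b) with h | h
    · exact ⟨1, map_one _, by rw [h, map_one]⟩
    · exact ⟨r, hr1, by rw [h, hr2]⟩
  refine ⟨g₁ * g₂, ?_⟩
  show ((psi1 Q u₀ hu₀ (g₁ * g₂), psi2 Q u₀ hu₀ h2 hQ hcard (g₁ * g₂)) : ℤˣ × ℤˣ) = (a, b)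
  rw [map_mul, map_mul, hg₁, hg₂1, hg₂2, mul_one, mul_inv_cancel_left]

theorem kleinFour_int_units : IsKleinFour (ℤˣ × ℤˣ) where
  card_four := by
    rw [Nat.card_eq_fintype_card]
    rfl
  exponent_two := by
    apply Nat.dvd_antisymm
    · apply Monoid.exponent_dvd_of_forall_pow_eq_one
      rintro ⟨a, b⟩
      rcases int_units_cases a with rfl | rfl <;> rcases int_units_cases b with rfl | rfl <;> rfl
    · have h := Monoid.order_dvd_exponent ((-1, 1) : ℤˣ × ℤˣ)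
      have h2 : orderOf ((-1, 1) : ℤˣ × ℤˣ) = 2 := by
        rw [orderOf_eq_prime_iff]
        constructor
        · rfl
        · decide
      rwa [h2] at h

/-- The image of the similarity group modulo the image of the special orthogonal group is a
four-group. -/
theorem exists_hom_pgo_pso (h2 : (2 : F) ≠ 0) (hQ : (polarBilin Q).Nondegenerate) {m : ℕ}
    (hcard : Fintype.card ι = 2 * m) (hn : 7 ≤ Fintype.card ι)
    (d : ↥(Cfsg.Geo.quadSimilarityGroup (F := F) ⇑Q))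
    (hd : ¬ IsSquare (mult Q u₀ hu₀ d : F)) :
    ∃ φ : ↥(Cfsg.pgoAut F ⇑Q) →* ℤˣ × ℤˣ, Function.Surjective φ ∧
      φ.ker = (Cfsg.psoAut F ⇑Q).subgroupOf (Cfsg.pgoAut F ⇑Q) := by
  have hle := psoAut_le_pgoAut Q
  rw [pgoAut_eq] at hle ⊢
  have hker : (theta ⇑Q).ker ≤ (Psi Q u₀ hu₀ h2 hQ hcard).ker := by
    intro g hg
    rw [MonoidHom.mem_ker] at hg ⊢
    rw [Psi_eq_one_iff_pso Q u₀ hu₀ h2 hQ hcard hn, hg]
    exact one_mem _
  obtain ⟨φ, hφs, hφk⟩ := exists_lift (theta ⇑Q) (Psi Q u₀ hu₀ h2 hQ hcard)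
    (Psi_surjective Q u₀ hu₀ h2 hQ hcard d hd) hker
  refine ⟨φ, hφs, ?_⟩
  rw [hφk]
  congr 1
  ext β
  constructor
  · rintro ⟨g, hg, rfl⟩
    exact (Psi_eq_one_iff_pso Q u₀ hu₀ h2 hQ hcard hn g).1 (MonoidHom.mem_ker.1 hg)
  · intro hβ
    obtain ⟨g, rfl⟩ := hle hβ
    exact ⟨g, MonoidHom.mem_ker.2 ((Psi_eq_one_iff_pso Q u₀ hu₀ h2 hQ hcard hn g).2 hβ), rfl⟩

end main

end Cfsg.Agent.Lib.Helper25.PSim
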