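import Cfsg.Agent.Lib.Helper25.GraphSplit5

set_option autoImplicit false

/-!
# The centraliser in `Inndiag` of an involutory graph automorphism, dimension `0 mod 4`
-/

namespace Cfsg.Agent.Lib.Helper25.GraphSplit

open Module QuadraticMap Matrix Cfsg.Agent.Lib.Helper25.CD Cfsg.Agent.Lib.Helper25.Spin
  Cfsg.Agent.Lib.Helper25.PSim Cfsg.Agent.Lib.Helper25.PAut Cfsg.Agent.Lib.Helper25.ReflClass
  Cfsg.Agent.Lib.Helper25.MaxTS

universe u

section linalg

variable {F V : Type*} [Field F] [AddCommGroup V] [Module F V] [FiniteDimensional F V]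

/-- An involution anticommuting with an invertible map has determinant `(-1)^m`. -/
theorem det_invol_of_swap (h2 : (2 : F) ≠ 0) {m : ℕ} (hdim : finrank F V = 2 * m)
    (σ : V →ₗ[F] V) (hσσ : ∀ x, σ (σ x) = x) (β : V ≃ₗ[F] V)
    (hanti : ∀ x, β (σ x) = -σ (β x)) : LinearMap.det σ = (-1) ^ m := by
  have hsum := finrank_eigen_add h2 σ hσσ
  have hPN : finrank F (LinearMap.ker (σ - LinearMap.id)) ≤
      finrank F (LinearMap.ker (σ + LinearMap.id)) := by
    have hle : (LinearMap.ker (σ - LinearMap.id)).map (β : V →ₗ[F] V) ≤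
        LinearMap.ker (σ + LinearMap.id) := by
      rintro _ ⟨x, hx, rfl⟩
      rw [SetLike.mem_coe, LinearMap.mem_ker, LinearMap.sub_apply, LinearMap.id_apply,
        sub_eq_zero] at hx
      rw [LinearMap.mem_ker, LinearMap.add_apply, LinearMap.id_apply]
      have h1 := hanti x
      rw [hx] at h1
      show σ (β x) + β x = 0
      nth_rewrite 2 [h1]
      exact add_neg_cancel _
    have h3 := Submodule.finrank_mono hle
    rwa [LinearEquiv.finrank_map_eq] at h3
  have hNP : finrank F (LinearMap.ker (σ + LinearMap.id)) ≤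
      finrank F (LinearMap.ker (σ - LinearMap.id)) := by
    have hle : (LinearMap.ker (σ + LinearMap.id)).map (β : V →ₗ[F] V) ≤
        LinearMap.ker (σ - LinearMap.id) := by
      rintro _ ⟨x, hx, rfl⟩
      rw [SetLike.mem_coe, LinearMap.mem_ker, LinearMap.add_apply, LinearMap.id_apply] at hx
      have hx' : σ x = -x := eq_neg_of_add_eq_zero_left hx
      rw [LinearMap.mem_ker, LinearMap.sub_apply, LinearMap.id_apply, sub_eq_zero]
      have h1 := hanti x
      rw [hx', map_neg] at h1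
      show σ (β x) = β x
      exact (neg_injective h1).symm
    have h3 := Submodule.finrank_mono hle
    rwa [LinearEquiv.finrank_map_eq] at h3
  rw [det_invol h2 σ hσσ]
  have : finrank F (LinearMap.ker (σ + LinearMap.id)) = m := by omega
  rw [this]

/-- An involution negating a nondegenerate quadratic form has determinant `(-1)^m`. -/
theorem det_invol_of_neg (h2 : (2 : F) ≠ 0) (Q : QuadraticForm F V)
    (hQ : (polarBilin Q).Nondegenerate) {m : ℕ} (hdim : finrank F V = 2 * m)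
    (σ : V →ₗ[F] V) (hσσ : ∀ x, σ (σ x) = x) (hneg : ∀ x, Q (σ x) = -Q x) :
    LinearMap.det σ = (-1) ^ m := by
  have hsum := finrank_eigen_add h2 σ hσσ
  have hP : TS Q (LinearMap.ker (σ - LinearMap.id)) := by
    intro x hx
    rw [LinearMap.mem_ker, LinearMap.sub_apply, LinearMap.id_apply, sub_eq_zero] at hx
    have h1 := hneg x
    rw [hx] at h1
    have h3 : (2 : F) * Q x = 0 := by linear_combination h1
    exact (mul_eq_zero.1 h3).resolve_left h2
  have hN : TS Q (LinearMap.ker (σ + LinearMap.id)) := by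
    intro x hx
    rw [LinearMap.mem_ker, LinearMap.add_apply, LinearMap.id_apply] at hx
    have hx' : σ x = -x := eq_neg_of_add_eq_zero_left hx
    have h1 := hneg x
    rw [hx', QuadraticMap.map_neg] at h1
    have h3 : (2 : F) * Q x = 0 := by linear_combination h1
    exact (mul_eq_zero.1 h3).resolve_left h2
  have hd : finrank F V = m + m := by rw [hdim]; ring
  have h1 := hP.finrank_le hQ hd
  have h3 := hN.finrank_le hQ hd
  rw [det_invol h2 σ hσσ]
  have : finrank F (LinearMap.ker (σ + LinearMap.id)) = m := by omega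
  rw [this]

end linalg

section central

variable {ι : Type} [Fintype ι] [DecidableEq ι] {F : Type u} [Field F] [Fintype F]
  (Q : QuadraticForm F (ι → F)) (u₀ : ι → F) (hu₀ : Q u₀ = 1)
  (h2 : (2 : F) ≠ 0) (hQ : (polarBilin Q).Nondegenerate) {m : ℕ}
  (hcard : Fintype.card ι = 2 * m)

include hu₀ h2 hQ hcard in
/-- In dimension `0 mod 4`, an improper similarity with scalar square is a scalar multiple of
an involutory isometry of determinant `-1`. -/
theorem improper_invol_data (hm : Even m)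
    (g : ↥(Cfsg.Geo.quadSimilarityGroup (F := F) ⇑Q)) (hg : ¬ IsProper Q u₀ hu₀ m g) (lam : F)
    (hsq : ∀ x, (g.1 : Matrix ι ι F) *ᵥ ((g.1 : Matrix ι ι F) *ᵥ x) = lam • x) :
    ∃ (c : F) (s : ↥(Cfsg.isometryGroup F ⇑Q)), c ≠ 0 ∧
      (∀ x, (g.1 : Matrix ι ι F) *ᵥ x = c • ((s.1 : Matrix ι ι F) *ᵥ x)) ∧
      (s.1 : Matrix ι ι F).det = -1 ∧
      ∀ x, (s.1 : Matrix ι ι F) *ᵥ ((s.1 : Matrix ι ι F) *ᵥ x) = x := by
  obtain ⟨μ, hμ⟩ : ∃ μ : F, μ = (mult Q u₀ hu₀ g : F) := ⟨_, rfl⟩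
  have hμ0 : μ ≠ 0 := by rw [hμ]; exact Units.ne_zero _
  have hfin : finrank F (ι → F) = 2 * m := by
    rw [Module.finrank_fintype_fun_eq_card, hcard]
  have hQg : ∀ x, Q ((g.1 : Matrix ι ι F) *ᵥ x) = μ * Q x := fun x => by
    rw [Q_sim Q u₀ hu₀, hμ]
  have hlam : lam = μ ∨ lam = -μ := by
    have h1 : Q ((g.1 : Matrix ι ι F) *ᵥ ((g.1 : Matrix ι ι F) *ᵥ u₀)) = μ * μ := by
      rw [hQg, hQg, hu₀, mul_one]
    rw [hsq, QuadraticMap.map_smul, hu₀, smul_eq_mul, mul_one] at h1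
    have h3 : (lam - μ) * (lam + μ) = 0 := by linear_combination h1
    rcases mul_eq_zero.1 h3 with h | h
    · left; linear_combination h
    · right; linear_combination h
  have hlampow : lam ^ m = μ ^ m := by
    rcases hlam with h | h
    · rw [h]
    · rw [h, hm.neg_pow]
  have hGG : (g.1 : Matrix ι ι F) * (g.1 : Matrix ι ι F) = lam • (1 : Matrix ι ι F) := by
    apply matrix_eq_of_mulVec
    intro x
    rw [← Matrix.mulVec_mulVec, hsq, Matrix.smul_mulVec, Matrix.one_mulVec]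
  by_cases hsqμ : IsSquare μ
  · obtain ⟨c, hc⟩ := hsqμ
    have hc0 : c ≠ 0 := by
      rintro rfl
      rw [mul_zero] at hc
      exact hμ0 hc
    rcases hlam with hl | hl
    · obtain ⟨s, hs⟩ := exists_iso_of_sq Q u₀ hu₀ g c (by rw [← hμ, hc, pow_two])
      refine ⟨c, s, hc0, hs, ?_, ?_⟩
      · have hdet := rel_det Q g s c hs
        rcases det_eq_or Q u₀ hu₀ hQ hcard g with h | h
        · exact absurd h hg
        · rw [h, ← hμ, hcard, hc] at hdet
          have hcm : (c * c) ^ m ≠ 0 := pow_ne_zero _ (mul_ne_zero hc0 hc0)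
          have e : c ^ (2 * m) = (c * c) ^ m := by rw [pow_mul, pow_two]
          rw [e] at hdet
          apply mul_left_cancel₀ hcm
          rw [← hdet]
          ring
      · intro x
        have h1 := hsq x
        rw [hs, hs, Matrix.mulVec_smul, smul_smul, hl, hc] at h1
        have hcc : c * c ≠ 0 := mul_ne_zero hc0 hc0
        have h3 : (c * c) • ((s.1 : Matrix ι ι F) *ᵥ ((s.1 : Matrix ι ι F) *ᵥ x)) =
            (c * c) • x := h1
        exact smul_right_injective _ hcc h3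
    · exfalso
      apply hg
      apply proper_of_sq_neg Q u₀ hu₀ hQ h2 hcard g c (by rw [← hμ, hc])
      intro x
      rw [hsq, hl, hc]
  · exfalso
    apply hg
    unfold IsProper
    rw [← hμ]
    by_cases hsql : IsSquare lam
    · obtain ⟨c, hc⟩ := hsql
      have hl : lam = -μ := by
        rcases hlam with h | h
        · exfalso
          apply hsqμ
          rw [← h]
          exact ⟨c, hc⟩
        · exact h
      have hlam0 : lam ≠ 0 := by rw [hl]; exact neg_ne_zero.2 hμ0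
      have hc0 : c ≠ 0 := by
        rintro rfl
        rw [mul_zero] at hc
        exact hlam0 hc
      obtain ⟨τ, hτdef⟩ : ∃ τ : (ι → F) →ₗ[F] (ι → F),
          τ = c⁻¹ • Matrix.toLin' (g.1 : Matrix ι ι F) := ⟨_, rfl⟩
      have hτa : ∀ x, τ x = c⁻¹ • ((g.1 : Matrix ι ι F) *ᵥ x) := fun x => by
        rw [hτdef, LinearMap.smul_apply, Matrix.toLin'_apply]
      have hτneg : ∀ x, Q (τ x) = -Q x := by
        intro x
        rw [hτa, QuadraticMap.map_smul, hQg, smul_eq_mul]
        have hμc : μ = -(c * c) := by rw [← hc, hl, neg_neg]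
        rw [hμc]
        field_simp
      have hττ : ∀ x, τ (τ x) = x := by
        intro x
        rw [hτa, hτa, Matrix.mulVec_smul, hsq, smul_smul, smul_smul, hc]
        have : c⁻¹ * c⁻¹ * (c * c) = 1 := by field_simp
        rw [this, one_smul]
      have hdetτ' := det_invol_of_neg h2 Q hQ hfin τ hττ hτneg
      rw [hm.neg_one_pow, hτdef, LinearMap.det_smul, LinearMap.det_toLin', hfin] at hdetτ'
      have e : (c⁻¹) ^ (2 * m) = ((c * c) ^ m)⁻¹ := by
        rw [inv_pow, pow_mul, pow_two]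
      rw [e, ← hc, hlampow] at hdetτ'
      have hμm : μ ^ m ≠ 0 := pow_ne_zero _ hμ0
      field_simp at hdetτ'
      exact hdetτ'
    · rw [det_of_sq_nonsquare hcard _ lam hsql hGG, hm.neg_pow, hlampow]

include hu₀ in
/-- In dimension `0 mod 4` with `-1 ∉ Ω`, the centraliser in the proper similarities of an
involutory improper similarity acts on `PΩ` by inner automorphisms. -/
theorem centralizer_le_inn (hn : 7 ≤ Fintype.card ι) (hm : Even m)
    (hneg : ¬ ∃ g : ↥(Cfsg.isometryGroup F ⇑Q), g ∈ Cfsg.Omega F ⇑Q ∧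
        ((g : GL ι F) : Matrix ι ι F) = -1)
    (g : ↥(Cfsg.Geo.quadSimilarityGroup (F := F) ⇑Q)) (hg : ¬ IsProper Q u₀ hu₀ m g)
    (hγ2 : theta ⇑Q g * theta ⇑Q g = 1)
    (σ : MulAut (Cfsg.POmega F ⇑Q)) (hσ : σ ∈ properAut Q u₀ hu₀ h2 hQ hcard)
    (hσγ : σ * theta ⇑Q g * σ⁻¹ = theta ⇑Q g) : σ ∈ Cfsg.Inn (Cfsg.POmega F ⇑Q) := by
  have h1 : theta ⇑Q (g * g) = 1 := by rw [map_mul]; exact hγ2
  obtain ⟨lam, hlam⟩ := scalar_of_theta_eq_one Q hQ hn _ h1
  have hsq : ∀ x, (g.1 : Matrix ι ι F) *ᵥ ((g.1 : Matrix ι ι F) *ᵥ x) = lam • x := by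
    intro x
    rw [← hlam x, Matrix.mulVec_mulVec]
    rfl
  obtain ⟨c, s, hc0, hgs, hdet, hss⟩ :=
    improper_invol_data Q u₀ hu₀ h2 hQ hcard hm g hg lam hsq
  have hθ : theta ⇑Q g = theta ⇑Q (incl ⇑Q s) := rel_theta Q g s c hc0 hgs
  obtain ⟨h, hh, rfl⟩ := hσ
  rw [hθ, ← map_inv, ← map_mul, ← map_mul] at hσγ
  obtain ⟨κ, hκ0, hκ⟩ := exists_scalar_of_theta_eq Q u₀ hu₀ hQ hn (h * incl ⇑Q s * h⁻¹) s hσγ
  have hfin : finrank F (ι → F) = 2 * m := by
    rw [Module.finrank_fintype_fun_eq_card, hcard]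
  have hs2 : s * s = 1 := by
    apply Subtype.ext
    apply Units.ext
    apply matrix_eq_of_mulVec
    intro x
    show ((s.1 * s.1 : GL ι F) : Matrix ι ι F) *ᵥ x = ((1 : GL ι F) : Matrix ι ι F) *ᵥ x
    rw [Units.val_mul, ← Matrix.mulVec_mulVec, hss, Units.val_one, Matrix.one_mulVec]
  have htt : (h * incl ⇑Q s * h⁻¹) * (h * incl ⇑Q s * h⁻¹) = 1 := by
    have e : (h * incl ⇑Q s * h⁻¹) * (h * incl ⇑Q s * h⁻¹) =
        h * (incl ⇑Q s * incl ⇑Q s) * h⁻¹ := by group
    rw [e, ← map_mul, hs2, map_one, mul_one, mul_inv_cancel]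
  have hu₀0 : u₀ ≠ 0 := by
    rintro rfl
    rw [map_zero] at hu₀
    exact zero_ne_one hu₀
  have hκ2 : κ * κ = 1 := by
    have h3 : ((h * incl ⇑Q s * h⁻¹).1 : Matrix ι ι F) *ᵥ
        (((h * incl ⇑Q s * h⁻¹).1 : Matrix ι ι F) *ᵥ u₀) = u₀ := by
      rw [Matrix.mulVec_mulVec]
      have e : ((h * incl ⇑Q s * h⁻¹).1 : Matrix ι ι F) * ((h * incl ⇑Q s * h⁻¹).1 : Matrix ι ι F) =
          (((h * incl ⇑Q s * h⁻¹) * (h * incl ⇑Q s * h⁻¹) :
            ↥(Cfsg.Geo.quadSimilarityGroup (F := F) ⇑Q)).1 : Matrix ι ι F) := rfl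
      rw [e, htt]
      show ((1 : GL ι F) : Matrix ι ι F) *ᵥ u₀ = u₀
      rw [Units.val_one, Matrix.one_mulVec]
    rw [hκ, hκ, Matrix.mulVec_smul, hss, smul_smul] at h3
    have h4 : (κ * κ - 1) • u₀ = 0 := by rw [sub_smul, h3, one_smul, sub_self]
    exact sub_eq_zero.1 ((smul_eq_zero.1 h4).resolve_right hu₀0)
  have hκ' : κ = 1 ∨ κ = -1 := by
    have h3 : (κ - 1) * (κ + 1) = 0 := by linear_combination hκ2
    rcases mul_eq_zero.1 h3 with h | h
    · left; linear_combination h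
    · right; linear_combination h
  rcases hκ' with hk | hk
  · have ht : h * incl ⇑Q s * h⁻¹ = incl ⇑Q s := by
      apply Subtype.ext
      apply Units.ext
      apply matrix_eq_of_mulVec
      intro x
      rw [hκ, hk, one_smul]
      rfl
    have hsqm := isSquare_mult_of_commute Q u₀ hu₀ h2 hQ s hdet h ht
    have hprop : IsProper Q u₀ hu₀ m h := (mem_properSub_iff Q u₀ hu₀ h2 hQ hcard h).1 hh
    have hPsi : Psi Q u₀ hu₀ h2 hQ hcard h = 1 :=
      (Psi_eq_one_iff Q u₀ hu₀ h2 hQ hcard h).2 ⟨hsqm, hprop⟩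
    have hpso := (Psi_eq_one_iff_pso Q u₀ hu₀ h2 hQ hcard hn h).1 hPsi
    have hidx := (relIndex_inn_pso Q h2 hQ hn ⟨m, by rw [hcard]; ring⟩).2 hneg
    exact Subgroup.relIndex_eq_one.1 hidx hpso
  · exfalso
    have hanti : ∀ x, toLE h.1 (Matrix.toLin' (s.1 : Matrix ι ι F) x) =
        -Matrix.toLin' (s.1 : Matrix ι ι F) (toLE h.1 x) := by
      intro x
      rw [toLE_apply, toLE_apply, Matrix.toLin'_apply, Matrix.toLin'_apply]
      have h3 := hκ ((h.1 : Matrix ι ι F) *ᵥ x)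
      rw [hk, neg_one_smul] at h3
      rw [← h3, Matrix.mulVec_mulVec, Matrix.mulVec_mulVec]
      congr 1
      show ((h.1 : GL ι F) : Matrix ι ι F) * (s.1 : Matrix ι ι F) =
        ((h.1 * s.1 * h.1⁻¹ : GL ι F) : Matrix ι ι F) * ((h.1 : GL ι F) : Matrix ι ι F)
      rw [← Units.val_mul, ← Units.val_mul]
      congr 1
      group
    have hss' : ∀ x, Matrix.toLin' (s.1 : Matrix ι ι F) (Matrix.toLin' (s.1 : Matrix ι ι F) x) =
        x := by
      intro x
      rw [Matrix.toLin'_apply, Matrix.toLin'_apply, hss]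
    have h3 := det_invol_of_swap h2 hfin (Matrix.toLin' (s.1 : Matrix ι ι F)) hss' (toLE h.1) hanti
    rw [LinearMap.det_toLin', hdet, hm.neg_one_pow] at h3
    apply h2
    linear_combination -h3

end central

section count

/-- If the centraliser of `γ` in `G` lies in `T`, the `G`-class of `γ` splits into `|G : T|`
classes under `T`. -/
theorem split_count_of_centralizer_le {X : Type*} [Group X] (T G : Subgroup X) [T.Normal]
    (hTG : T ≤ G) (γ : X) (hc : ∀ c ∈ G ⊓ Subgroup.centralizer {γ}, c ∈ T) :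
    Cfsg.splitClassCount G T γ = T.relIndex G := by
  obtain ⟨M, hTM, hMG, hcount, hM⟩ := exists_split_subgroup T G hTG γ
  have hMT : M = T := by
    apply le_antisymm _ hTM
    intro x hx
    obtain ⟨k, hk, c, hc', rfl⟩ := (hM x).1 hx
    exact T.mul_mem hk (hc c hc')
  rw [hcount, hMT]

variable {ι : Type} [Fintype ι] [DecidableEq ι] {F : Type u} [Field F] [Fintype F]
  (Q : QuadraticForm F (ι → F)) (u₀ : ι → F) (hu₀ : Q u₀ = 1)
  (h2 : (2 : F) ≠ 0) (hQ : (polarBilin Q).Nondegenerate) {m : ℕ}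
  (hcard : Fintype.card ι = 2 * m)

/-- In dimension `0 mod 4` the class of an involutory graph automorphism always splits. -/
theorem split_main_even (hn : 7 ≤ Fintype.card ι) (hm : Even m)
    (d : ↥(Cfsg.Geo.quadSimilarityGroup (F := F) ⇑Q))
    (hd : ¬ IsSquare (mult Q u₀ hu₀ d : F))
    (g : ↥(Cfsg.Geo.quadSimilarityGroup (F := F) ⇑Q)) (hg : ¬ IsProper Q u₀ hu₀ m g)
    (hγ2 : theta ⇑Q g * theta ⇑Q g = 1) :
    Cfsg.splitClassCount (properAut Q u₀ hu₀ h2 hQ hcard) (Cfsg.Inn (Cfsg.POmega F ⇑Q))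
        (theta ⇑Q g) = 2 := by
  by_cases hneg : ∃ g : ↥(Cfsg.isometryGroup F ⇑Q), g ∈ Cfsg.Omega F ⇑Q ∧
        ((g : GL ι F) : Matrix ι ι F) = -1
  · exact (split_main Q u₀ hu₀ h2 hQ hcard hn d hd g hg hγ2).2 hneg
  · rw [split_count_of_centralizer_le _ _ (inn_le_properAut Q u₀ hu₀ h2 hQ hcard)]
    · exact (relIndex_inn_proper Q u₀ hu₀ h2 hQ hcard hn d hd).2 hneg
    · intro c hc
      obtain ⟨hcG, hcC⟩ := hc
      have hcC' : c ∈ Subgroup.centralizer {theta ⇑Q g} := hcC
      rw [Subgroup.mem_centralizer_iff] at hcC'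
      have h3 := hcC' (theta ⇑Q g) (Set.mem_singleton _)
      apply centralizer_le_inn Q u₀ hu₀ h2 hQ hcard hn hm hneg g hg hγ2 c hcG
      rw [← h3, mul_inv_cancel_right]

end count

end Cfsg.Agent.Lib.Helper25.GraphSplit
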