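import Mathlib

set_option autoImplicit false

/-!
# Quadratic extensions of finite fields of odd order: every element of the base field becomes a
square; quadratic polynomials split; existence of a quadratic extension in the same universe.
-/

namespace Cfsg.Agent.Lib.Helper25.QExt

open Polynomial

universe u v

section sq

variable {F : Type u} [Field F] [Fintype F] {K : Type v} [Field K] [Algebra F K]

theorem two_ne_zero_base (hodd : Odd (Fintype.card F)) : (2 : F) ≠ 0 := by
  intro h
  have hchar : ringChar F = 2 := by
    have : ringChar F ∣ 2 := by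
      apply ringChar.dvd
      exact_mod_cast h
    rcases (Nat.dvd_prime Nat.prime_two).1 this with h1 | h1
    · exact absurd h1 (CharP.ringChar_ne_one)
    · exact h1
  have := FiniteField.even_card_iff_char_two.1 hchar
  rw [Nat.odd_iff] at hodd
  omega

theorem two_ne_zero_ext (hodd : Odd (Fintype.card F)) : (2 : K) ≠ 0 := by
  have h := two_ne_zero_base hodd
  intro h'
  apply h
  apply (algebraMap F K).injective
  rw [map_ofNat, map_zero]
  exact h'

/-- Every element of a finite field of odd order is a square in any quadratic extension. -/
theorem isSquare_algebraMap (hodd : Odd (Fintype.card F)) (hK : Module.finrank F K = 2) (x : F) :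
    IsSquare (algebraMap F K x) := by
  by_cases hx : x = 0
  · subst hx
    exact ⟨0, by simp⟩
  haveI : Module.Finite F K := Module.finite_of_finrank_pos (by rw [hK]; norm_num)
  haveI : Finite K := Module.finite_of_finite F
  haveI : Fintype K := Fintype.ofFinite K
  have hcard : Fintype.card K = Fintype.card F ^ 2 := by
    rw [Module.card_eq_pow_finrank (K := F) (V := K), hK]
  have h2K : ringChar K ≠ 2 := by
    intro h
    have : (2 : K) = 0 := by
      have := ringChar.Nat.cast_ringChar (R := K)
      rw [h] at this
      exact_mod_cast this
    exact two_ne_zero_ext (F := F) hodd this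
  have hx' : algebraMap F K x ≠ 0 := by
    intro h
    apply hx
    apply (algebraMap F K).injective
    rw [h, map_zero]
  rw [FiniteField.isSquare_iff h2K hx', hcard]
  obtain ⟨k, hk⟩ := hodd
  have e : Fintype.card F ^ 2 / 2 = (Fintype.card F - 1) * (k + 1) := by
    rw [hk]
    have : (2 * k + 1) ^ 2 = 2 * ((2 * k + 1 - 1) * (k + 1)) + 1 := by
      simp only [Nat.add_sub_cancel]
      ring
    rw [this]
    omega
  rw [e, pow_mul, ← map_pow, FiniteField.pow_card_sub_one_eq_one x hx, map_one, one_pow]

/-- Every monic quadratic polynomial over the base field has a root in a quadratic extension. -/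
theorem exists_root (hodd : Odd (Fintype.card F)) (hK : Module.finrank F K = 2) (a b : F) :
    ∃ ζ : K, ζ ^ 2 + algebraMap F K a * ζ + algebraMap F K b = 0 := by
  obtain ⟨s, hs⟩ := isSquare_algebraMap (K := K) hodd hK (a ^ 2 - 4 * b)
  have h2 := two_ne_zero_ext (F := F) (K := K) hodd
  refine ⟨(s - algebraMap F K a) / 2, ?_⟩
  rw [map_sub, map_mul, map_pow, map_ofNat] at hs
  field_simp
  linear_combination (-1 : K) * hs

end sq

section ext

variable {F : Type u} [Field F]

/-- A quadratic extension in the same universe, for a quadratic polynomial without roots. -/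
theorem exists_ext (a b : F) (hab : ∀ z : F, z ^ 2 + a * z + b ≠ 0) :
    ∃ (K : Type u) (_ : Field K) (_ : Algebra F K), Module.finrank F K = 2 := by
  let f : F[X] := X ^ 2 + C a * X + C b
  have hdeg : f.natDegree = 2 := by
    show (X ^ 2 + C a * X + C b : F[X]).natDegree = 2
    compute_degree!
  have hirr : Irreducible f := by
    apply irreducible_of_degree_le_three_of_not_isRoot
    · rw [hdeg]
      simp
    · intro x hx
      apply hab x
      have : f.eval x = 0 := hx
      simpa [f] using this
  haveI : Fact (Irreducible f) := ⟨hirr⟩
  refine ⟨AdjoinRoot f, inferInstance, inferInstance, ?_⟩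
  have hf0 : f ≠ 0 := hirr.ne_zero
  rw [(AdjoinRoot.powerBasis hf0).finrank, AdjoinRoot.powerBasis_dim hf0, hdeg]

end ext

end Cfsg.Agent.Lib.Helper25.QExt
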