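import Cfsg.Agent.Lib.Helper25.GraphSplit6
import Cfsg.Agent.Lib.Helper25.QuadExt
import Cfsg.Agent.Lib.Helper25.DiscType
import Cfsg.Agent.Lib.Helper18.PSLnFldA

set_option autoImplicit false

/-!
# Involutory semisimilarities with a nontrivial field automorphism force a square discriminant
-/

namespace Cfsg.Agent.Lib.Helper25.GraphSplit

open Module QuadraticMap Matrix Cfsg.Agent.Lib.Helper25.CD Cfsg.Agent.Lib.Helper25.Spin
  Cfsg.Agent.Lib.Helper25.PSim Cfsg.Agent.Lib.Helper25.PAut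

universe u

/-- An element fixed by a field automorphism of order two of a finite field of odd order is a
square. -/
theorem isSquare_of_fixed {F : Type*} [Field F] [Fintype F] (hodd : Odd (Fintype.card F))
    (σ : RingAut F) (hσ : orderOf σ = 2) (x : F) (hx : σ x = x) : IsSquare x := by
  classical
  let G := Subgroup.zpowers σ
  let F₀ := FixedPoints.subfield G F
  have : Finite (RingAut F) := Finite.of_injective (fun τ : RingAut F => (τ : F → F))
    (fun a b h => RingEquiv.ext (congrFun h))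
  have : Fintype G := Fintype.ofFinite _
  have h1 : Module.finrank F₀ F = Fintype.card G := FixedPoints.finrank_eq_card G F
  have h2 : Fintype.card G = 2 := by
    rw [← Nat.card_eq_fintype_card, Nat.card_zpowers, hσ]
  have hxm : x ∈ F₀ := by
    intro g
    obtain ⟨g, hg⟩ := g
    obtain ⟨k, rfl⟩ := Subgroup.mem_zpowers_iff.1 hg
    show (σ ^ k) x = x
    have hn : ∀ n : ℕ, (σ ^ n) x = x := by
      intro n
      induction n with
      | zero => rfl
      | succ n ih => rw [pow_succ]; show (σ ^ n) (σ x) = x; rw [hx, ih]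
    have hfin : IsOfFinOrder σ := isOfFinOrder_of_finite σ
    obtain ⟨n, hn'⟩ := hfin.mem_powers_iff_mem_zpowers.2 ⟨k, rfl⟩
    have hn'' : σ ^ n = σ ^ k := hn'
    rw [← hn'']
    exact hn n
  have : Fintype F₀ := Fintype.ofFinite _
  have hc : Fintype.card F = Fintype.card F₀ ^ 2 := by
    rw [Module.card_eq_pow_finrank (K := F₀) (V := F), h1, h2]
  have hoddF₀ : Odd (Fintype.card F₀) := by
    rw [hc] at hodd
    exact Nat.Odd.of_mul_right (by rw [← pow_two]; exact hodd)
  have := QExt.isSquare_algebraMap (F := F₀) (K := F) hoddF₀ (by rw [h1, h2]) ⟨x, hxm⟩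
  exact this

section descent

variable {ι : Type} [Fintype ι] [DecidableEq ι] {F : Type u} [Field F] [Fintype F]
  (Q : QuadraticForm F (ι → F))

/-- If `(g, σ)` is a semisimilarity with `σ` of order two whose square is a scalar, the Gram
determinant of the form is a square. -/
theorem isSquare_gram_of_semi_invol (hodd : Odd (Fintype.card F))
    (heven : Even (Fintype.card ι)) (hpos : 0 < Fintype.card ι)
    {g : GL ι F} {σ : F ≃+* F} (h : Cfsg.IsSemisimilarityPair (⇑Q) g σ)
    (hσ1 : σ ≠ RingEquiv.refl F) (hσ2 : ∀ x, σ (σ x) = x) (lam : F)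
    (hsc : ∀ x, semiMap g σ (semiMap g σ x) = lam • x) :
    IsSquare (-1 : F) ∧
    IsSquare (Matrix.of (fun i j : ι => polar ⇑Q (Pi.single i 1) (Pi.single j 1))).det := by
  classical
  have hord : orderOf (σ : RingAut F) = 2 := by
    apply orderOf_eq_prime
    · apply RingEquiv.ext
      intro x
      exact hσ2 x
    · exact hσ1
  refine ⟨isSquare_of_fixed hodd (σ : RingAut F) hord (-1) (by
    show σ (-1) = -1
    rw [map_neg, map_one]), ?_⟩
  obtain ⟨i₀⟩ : Nonempty ι := Fintype.card_pos_iff.1 hpos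
  obtain ⟨c, hc⟩ := pair_apply (⇑Q) h
  have hx₀ : (Pi.single i₀ (1 : F) : ι → F) ≠ 0 := by
    intro h0
    have := congrFun h0 i₀
    simp at this
  have hSx₀ : semiMap g σ (Pi.single i₀ 1) ≠ 0 :=
    fun h0 => hx₀ (semiMap_injective g σ (by rw [h0, semiMap_zero]))
  have hlam0 : lam ≠ 0 := by
    rintro rfl
    have h1 := hsc (Pi.single i₀ 1)
    rw [zero_smul] at h1
    exact hSx₀ (semiMap_injective g σ (by rw [h1, semiMap_zero]))
  have hlamfix : σ lam = lam := by
    have h1 := hsc (semiMap g σ (Pi.single i₀ 1))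
    have h2 : semiMap g σ (semiMap g σ (semiMap g σ (Pi.single i₀ 1))) =
        σ lam • semiMap g σ (Pi.single i₀ 1) := by
      rw [hsc (Pi.single i₀ 1), semiMap_smul]
    rw [h2] at h1
    have h3 : (σ lam - lam) • semiMap g σ (Pi.single i₀ 1) = 0 := by
      rw [sub_smul, h1, sub_self]
    exact sub_eq_zero.1 ((smul_eq_zero.1 h3).resolve_right hSx₀)
  obtain ⟨μ, hμ0, hμ⟩ := Cfsg.Agent.Lib.Helper18.PSLnFld.exists_nrm_eq (σ : RingAut F) 2 hord
    (by norm_num) lam⁻¹ (inv_ne_zero hlam0) (by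
      show σ lam⁻¹ = lam⁻¹
      rw [map_inv₀, hlamfix])
  have hμ' : μ * σ μ = lam⁻¹ := by
    rw [← hμ]
    unfold Cfsg.Agent.Lib.Helper18.PSLnFld.nrm
    rw [Finset.prod_range_succ, Finset.prod_range_one]
    rfl
  have hTT : ∀ v, μ • semiMap g σ (μ • semiMap g σ v) = v := by
    intro v
    rw [semiMap_smul, hsc, smul_smul, smul_smul, hμ', inv_mul_cancel₀ hlam0, one_smul]
  have hspan := Cfsg.Agent.Lib.Helper18.PSLnFld.span_fixed_eq_top (V := ι → F) (σ : RingAut F) 2
    hord (by norm_num) (fun v => μ • semiMap g σ v)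
    (fun u v => by
      show μ • semiMap g σ (u + v) = μ • semiMap g σ u + μ • semiMap g σ v
      rw [semiMap_add, smul_add])
    (fun a v => by
      show μ • semiMap g σ (a • v) = σ a • (μ • semiMap g σ v)
      rw [semiMap_smul, smul_comm])
    (fun v => hTT v)
  obtain ⟨f, hfS, hfspan, hfli⟩ := Submodule.exists_fun_fin_finrank_span_eq F
    {v : ι → F | μ • semiMap g σ v = v}
  have hN : finrank F ↥(Submodule.span F {v : ι → F | μ • semiMap g σ v = v}) =
      Fintype.card ι := by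
    rw [hspan, finrank_top, Module.finrank_fintype_fun_eq_card]
  obtain ⟨b, hb⟩ : ∃ b : Basis (Fin (finrank F
      ↥(Submodule.span F {v : ι → F | μ • semiMap g σ v = v}))) F (ι → F), ∀ i, b i = f i :=
    ⟨Basis.mk hfli (by rw [hfspan, hspan]), fun i => Basis.mk_apply _ _ i⟩
  have hfix0 : ∀ i, μ • semiMap g σ (f i) = f i := fun i => hfS i
  have hc'0 : μ ^ 2 * (c : F) ≠ 0 := mul_ne_zero (pow_ne_zero _ hμ0) c.ne_zero
  have hpol : ∀ x y, polar Q (μ • semiMap g σ x) (μ • semiMap g σ y) =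
      (μ ^ 2 * c) * σ (polar Q x y) := by
    intro x y
    unfold polar
    rw [← smul_add, ← semiMap_add, QuadraticMap.map_smul, QuadraticMap.map_smul,
      QuadraticMap.map_smul, hc, hc, hc, map_sub, map_sub]
    simp only [smul_eq_mul]
    ring
  obtain ⟨Γ, hΓdef⟩ : ∃ Γ, Γ = LinearMap.BilinForm.toMatrix b (polarBilin Q) := ⟨_, rfl⟩
  have hΓ : ∀ i j, Γ i j = polar Q (f i) (f j) := by
    intro i j
    rw [hΓdef, LinearMap.BilinForm.toMatrix_apply, hb, hb]
    rfl
  have hfix : ∀ i j, Γ i j = (μ ^ 2 * c) * σ (Γ i j) := by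
    intro i j
    rw [hΓ]
    have h1 := hpol (f i) (f j)
    rw [hfix0 i, hfix0 j] at h1
    exact h1
  have hdetΓ : IsSquare Γ.det := by
    by_cases hz : ∀ i j, Γ i j = 0
    · have h0 : Γ = 0 := by
        ext i j
        exact hz i j
      haveI : Nonempty (Fin (finrank F
          ↥(Submodule.span F {v : ι → F | μ • semiMap g σ v = v}))) :=
        ⟨⟨0, by rw [hN]; exact hpos⟩⟩
      rw [h0, Matrix.det_zero]
      exact ⟨0, by simp⟩
    · push Not at hz
      obtain ⟨i₁, j₁, hx0⟩ := hz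
      obtain ⟨x₀, hx₀def⟩ : ∃ x₀, x₀ = Γ i₁ j₁ := ⟨_, rfl⟩
      rw [← hx₀def] at hx0
      have hx₀fix : x₀ = (μ ^ 2 * c) * σ x₀ := by
        rw [hx₀def]
        exact hfix i₁ j₁
      have hσx₀ : σ x₀ ≠ 0 := (map_ne_zero_iff _ σ.injective).2 hx0
      have hΓ₀fix : ∀ i j, σ ((x₀⁻¹ • Γ) i j) = (x₀⁻¹ • Γ) i j := by
        intro i j
        rw [Matrix.smul_apply, smul_eq_mul, map_mul, map_inv₀]
        have h1 : σ (Γ i j) = (μ ^ 2 * c)⁻¹ * Γ i j := by
          rw [eq_inv_mul_iff_mul_eq₀ hc'0]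
          exact (hfix i j).symm
        have h2 : σ x₀ = (μ ^ 2 * c)⁻¹ * x₀ := by
          rw [eq_inv_mul_iff_mul_eq₀ hc'0]
          exact hx₀fix.symm
        rw [h1, h2]
        field_simp
      have hdet : Γ.det = x₀ ^ Fintype.card ι * (x₀⁻¹ • Γ).det := by
        have e : Γ = x₀ • (x₀⁻¹ • Γ) := by
          rw [smul_smul, mul_inv_cancel₀ hx0, one_smul]
        have hcard : Fintype.card (Fin (finrank F
            ↥(Submodule.span F {v : ι → F | μ • semiMap g σ v = v}))) = Fintype.card ι := by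
          rw [Fintype.card_fin, hN]
        nth_rewrite 1 [e]
        rw [Matrix.det_smul, hcard]
      have hfixdet : σ (x₀⁻¹ • Γ).det = (x₀⁻¹ • Γ).det := by
        have := RingHom.map_det (σ : F →+* F) (x₀⁻¹ • Γ)
        have h3 : (σ : F →+* F) (x₀⁻¹ • Γ).det = σ (x₀⁻¹ • Γ).det := rfl
        rw [← h3, this]
        congr 1
        ext i j
        exact hΓ₀fix i j
      have hsq1 : IsSquare (x₀⁻¹ • Γ).det := isSquare_of_fixed hodd (σ : RingAut F) hord _ hfixdet
      have hsq2 : IsSquare (x₀ ^ Fintype.card ι) := heven.isSquare_pow x₀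
      rw [hdet]
      exact hsq2.mul hsq1
  obtain ⟨d, hd0, hd⟩ := DiscType.gram_det_change (Pi.basisFun F ι) b (polarBilin Q)
  rw [LinearMap.BilinForm.toMatrix_basisFun, ← hΓdef] at hd
  have e1 : LinearMap.BilinForm.toMatrix' (polarBilin Q) =
      Matrix.of (fun i j : ι => polar ⇑Q (Pi.single i 1) (Pi.single j 1)) := by
    ext i j
    rw [LinearMap.BilinForm.toMatrix'_apply, polarBilin_apply_apply, Matrix.of_apply]
  rw [e1] at hd
  apply DiscType.isSquare_mul_sq hd0
  rw [mul_comm, ← hd]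
  exact hdetΓ

/-- When the Gram determinant is not a square, every involution in the image of the
semisimilarity group is induced by a similarity. -/
theorem exists_sim_of_gamma_invol (hodd : Odd (Fintype.card F))
    (hQ : (polarBilin Q).Nondegenerate) (hn : 7 ≤ Fintype.card ι)
    (heven : Even (Fintype.card ι))
    (hns : IsSquare (-1 : F) →
      ¬ IsSquare (Matrix.of (fun i j : ι => polar ⇑Q (Pi.single i 1) (Pi.single j 1))).det)
    {γ : MulAut (Cfsg.POmega F ⇑Q)} (hγ : γ ∈ Cfsg.gammaPOmega F ⇑Q) (hγ2 : γ * γ = 1) :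
    ∃ g : ↥(Cfsg.Geo.quadSimilarityGroup (F := F) ⇑Q), γ = theta ⇑Q g := by
  obtain ⟨g, σ, hp, hi⟩ := isPairAut_of_mem_gamma ⇑Q hγ
  have hp2 := pair_mul ⇑Q hp hp
  have hi2 := induced_mul ⇑Q hp hp hi hi
  rw [hγ2] at hi2
  have hσσ : σ.trans σ = RingEquiv.refl F := sigma_eq_refl_of_induced_one Q hQ hn hp2 hi2
  by_cases hσ : σ = RingEquiv.refl F
  · subst hσ
    exact ⟨⟨g, sim_of_pair ⇑Q hp⟩, (PSim.induced_iff ⇑Q g _ γ).1 hi⟩
  · exfalso
    rw [hσσ] at hp2 hi2
    have hsim := sim_of_pair ⇑Q hp2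
    have h1 : theta ⇑Q ⟨_, hsim⟩ = 1 := ((PSim.induced_iff ⇑Q _ hsim 1).1 hi2).symm
    obtain ⟨lam, hlam⟩ := scalar_of_theta_eq_one Q hQ hn _ h1
    have key := isSquare_gram_of_semi_invol Q hodd heven (by omega) hp hσ (fun x => by
        have := congrArg (fun τ : F ≃+* F => τ x) hσσ
        exact this) lam (by
      intro x
      rw [← semiMap_comp, hσσ]
      exact hlam x)
    exact hns key.1 key.2

end descent

end Cfsg.Agent.Lib.Helper25.GraphSplit
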