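import Cfsg.Agent.Lib.Helper25.POmegaSim3
import Cfsg.Agent.Lib.Helper25.SpinForms
import Cfsg.Agent.Lib.Helper14.OrthMinus

set_option autoImplicit false

/-!
# Similarities with prescribed multiplier for the standard forms
-/

namespace Cfsg.Agent.Lib.Helper25.PSim

open Module QuadraticMap Matrix Cfsg.Agent.Lib.Helper25.CD Cfsg.Agent.Lib.Helper25.Spin

universe u

section generic

variable {ι : Type} [Fintype ι] [DecidableEq ι] {F : Type u} [Field F]
  (Q : QuadraticForm F (ι → F))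

/-- A matrix scaling a nondegenerate quadratic form by a nonzero scalar is invertible. -/
theorem exists_gl_of_sim (hQ : (polarBilin Q).Nondegenerate) (A : Matrix ι ι F) (c : F)
    (hc : c ≠ 0) (h : ∀ v, Q (A *ᵥ v) = c * Q v) :
    ∃ d : GL ι F, (d : Matrix ι ι F) = A := by
  have hpol : ∀ x y, polar Q (A *ᵥ x) (A *ᵥ y) = c * polar Q x y := by
    intro x y
    unfold polar
    rw [← Matrix.mulVec_add, h, h, h]
    ring
  have hinj : Function.Injective A.mulVec := by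
    rw [← Matrix.coe_mulVecLin, injective_iff_map_eq_zero]
    intro x hx
    apply hQ.1
    intro y
    rw [polarBilin_apply_apply]
    have h1 := hpol x y
    rw [Matrix.mulVecLin_apply] at hx
    rw [hx] at h1
    have h2 : polar Q 0 (A *ᵥ y) = 0 := by simp [polar]
    rw [h2] at h1
    exact (mul_eq_zero.1 h1.symm).resolve_left hc
  obtain ⟨d, hd⟩ := Matrix.mulVec_injective_iff_isUnit.1 hinj
  exact ⟨d, hd⟩

theorem exists_sim_of_matrix (hQ : (polarBilin Q).Nondegenerate) (A : Matrix ι ι F) (c : F)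
    (hc : c ≠ 0) (h : ∀ v, Q (A *ᵥ v) = c * Q v) :
    ∃ d : ↥(Cfsg.Geo.quadSimilarityGroup (F := F) ⇑Q),
      ∀ v, Q ((d.1 : Matrix ι ι F) *ᵥ v) = c * Q v := by
  obtain ⟨d, hd⟩ := exists_gl_of_sim Q hQ A c hc h
  refine ⟨⟨d, ⟨Units.mk0 c hc, fun v => ?_⟩⟩, fun v => ?_⟩
  · rw [hd, h]
    rfl
  · show Q ((d : Matrix ι ι F) *ᵥ v) = _
    rw [hd, h]

end generic

section wrap

variable {ι : Type} [Fintype ι] [DecidableEq ι] {F : Type u} [Field F] [Fintype F]
  (Q : QuadraticForm F (ι → F))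

theorem comp_equiv_ker {G T T' : Type*} [Group G] [Group T] [Group T'] (φ : G →* T) (e : T ≃* T') :
    (e.toMonoidHom.comp φ).ker = φ.ker := by
  ext x
  rw [MonoidHom.mem_ker, MonoidHom.mem_ker, MonoidHom.comp_apply]
  exact e.map_eq_one_iff

/-- Existence of a similarity with a nonsquare multiplier, packaged with a vector of norm one. -/
theorem exists_data (h2 : (2 : F) ≠ 0) (hQ : (polarBilin Q).Nondegenerate)
    (hn : 2 ≤ Fintype.card ι) (A : Matrix ι ι F) (ν : F) (hν : ¬ IsSquare ν)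
    (hA : ∀ v, Q (A *ᵥ v) = ν * Q v) :
    ∃ (u₀ : ι → F) (hu₀ : Q u₀ = 1) (d : ↥(Cfsg.Geo.quadSimilarityGroup (F := F) ⇑Q)),
      (mult Q u₀ hu₀ d : F) = ν := by
  have hfin : 2 ≤ finrank F (ι → F) := by
    rw [Module.finrank_fintype_fun_eq_card]
    exact hn
  obtain ⟨u₀, hu₀⟩ := exists_rep Q hQ hfin 1
  have hν0 : ν ≠ 0 := by
    rintro rfl
    exact hν ⟨0, by simp⟩
  obtain ⟨d, hd⟩ := exists_sim_of_matrix Q hQ A ν hν0 hA
  refine ⟨u₀, hu₀, d, ?_⟩
  rw [mult_val, hd, hu₀, mul_one]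

/-- `PGO/PSO` is a four-group (target `Multiplicative (ZMod 2 × ZMod 2)`). -/
theorem exists_hom_pgo_pso' (h2 : (2 : F) ≠ 0) (hQ : (polarBilin Q).Nondegenerate) {m : ℕ}
    (hcard : Fintype.card ι = 2 * m) (hn : 7 ≤ Fintype.card ι)
    (A : Matrix ι ι F) (ν : F) (hν : ¬ IsSquare ν) (hA : ∀ v, Q (A *ᵥ v) = ν * Q v) :
    ∃ φ : ↥(Cfsg.pgoAut F ⇑Q) →* Multiplicative (ZMod 2 × ZMod 2), Function.Surjective φ ∧
      φ.ker = (Cfsg.psoAut F ⇑Q).subgroupOf (Cfsg.pgoAut F ⇑Q) := by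
  obtain ⟨u₀, hu₀, d, hd⟩ := exists_data Q h2 hQ (by omega) A ν hν hA
  obtain ⟨φ, hφs, hφk⟩ := exists_hom_pgo_pso Q u₀ hu₀ h2 hQ hcard hn d (by rw [hd]; exact hν)
  haveI := kleinFour_int_units
  obtain ⟨e⟩ := IsKleinFour.nonempty_mulEquiv (G₁ := ℤˣ × ℤˣ)
    (G₂ := Multiplicative (ZMod 2 × ZMod 2))
  refine ⟨e.toMonoidHom.comp φ, e.surjective.comp hφs, ?_⟩
  rw [comp_equiv_ker, hφk]

end wrap

section plus

variable {F : Type u} [Field F] (m : ℕ)

theorem plus_sim (c : F) (v : Fin m ⊕ Fin m → F) :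
    Cfsg.quadFormPlus m F
      ((Matrix.diagonal (Sum.elim (fun _ : Fin m => c) (fun _ : Fin m => (1 : F)))) *ᵥ v) =
      c * Cfsg.quadFormPlus m F v := by
  unfold Cfsg.quadFormPlus
  rw [Finset.mul_sum]
  apply Finset.sum_congr rfl
  intro i _
  rw [Matrix.mulVec_diagonal, Matrix.mulVec_diagonal]
  simp only [Sum.elim_inl, Sum.elim_inr]
  ring

end plus

section minus

variable {F : Type u} [Field F] (m : ℕ) (a b : F)

/-- The matrix multiplying the first `m` coordinates by the norm and the anisotropic plane by an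
element of the quadratic extension. -/
def minusSimMatrix (x y : F) :
    Matrix ((Fin m ⊕ Fin m) ⊕ Fin 2) ((Fin m ⊕ Fin m) ⊕ Fin 2) F :=
  Matrix.fromBlocks
    (Matrix.diagonal (Sum.elim (fun _ : Fin m => x ^ 2 + a * x * y + b * y ^ 2)
      (fun _ : Fin m => (1 : F)))) 0 0
    !![x, -(b * y); y, x + a * y]

theorem minus_sim (x y : F) (v : (Fin m ⊕ Fin m) ⊕ Fin 2 → F) :
    Cfsg.quadFormMinus m F a b (minusSimMatrix m a b x y *ᵥ v) =
      (x ^ 2 + a * x * y + b * y ^ 2) * Cfsg.quadFormMinus m F a b v := by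
  unfold Cfsg.quadFormMinus minusSimMatrix
  have e1 : ∀ i : Fin m, (Matrix.fromBlocks
      (Matrix.diagonal (Sum.elim (fun _ : Fin m => x ^ 2 + a * x * y + b * y ^ 2)
        (fun _ : Fin m => (1 : F)))) 0 0
      !![x, -(b * y); y, x + a * y] *ᵥ v) (Sum.inl (Sum.inl i)) =
      (x ^ 2 + a * x * y + b * y ^ 2) * v (Sum.inl (Sum.inl i)) := by
    intro i
    rw [Matrix.mulVec, dotProduct, Fintype.sum_sum_type]
    simp [Matrix.fromBlocks_apply₁₁, Matrix.fromBlocks_apply₁₂, Matrix.diagonal_apply,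
      Fintype.sum_sum_type]
  have e2 : ∀ i : Fin m, (Matrix.fromBlocks
      (Matrix.diagonal (Sum.elim (fun _ : Fin m => x ^ 2 + a * x * y + b * y ^ 2)
        (fun _ : Fin m => (1 : F)))) 0 0
      !![x, -(b * y); y, x + a * y] *ᵥ v) (Sum.inl (Sum.inr i)) =
      v (Sum.inl (Sum.inr i)) := by
    intro i
    rw [Matrix.mulVec, dotProduct, Fintype.sum_sum_type]
    simp [Matrix.fromBlocks_apply₁₁, Matrix.fromBlocks_apply₁₂, Matrix.diagonal_apply,
      Fintype.sum_sum_type]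
  have e3 : (Matrix.fromBlocks
      (Matrix.diagonal (Sum.elim (fun _ : Fin m => x ^ 2 + a * x * y + b * y ^ 2)
        (fun _ : Fin m => (1 : F)))) 0 0
      !![x, -(b * y); y, x + a * y] *ᵥ v) (Sum.inr 0) =
      x * v (Sum.inr 0) - b * y * v (Sum.inr 1) := by
    rw [Matrix.mulVec, dotProduct, Fintype.sum_sum_type]
    simp [Matrix.fromBlocks_apply₂₁, Matrix.fromBlocks_apply₂₂, Fin.sum_univ_two]
    ring
  have e4 : (Matrix.fromBlocks
      (Matrix.diagonal (Sum.elim (fun _ : Fin m => x ^ 2 + a * x * y + b * y ^ 2)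
        (fun _ : Fin m => (1 : F)))) 0 0
      !![x, -(b * y); y, x + a * y] *ᵥ v) (Sum.inr 1) =
      y * v (Sum.inr 0) + (x + a * y) * v (Sum.inr 1) := by
    rw [Matrix.mulVec, dotProduct, Fintype.sum_sum_type]
    simp [Matrix.fromBlocks_apply₂₁, Matrix.fromBlocks_apply₂₂, Fin.sum_univ_two]
  rw [e3, e4]
  simp only [e1, e2]
  rw [mul_add (x ^ 2 + a * x * y + b * y ^ 2), Finset.mul_sum]
  congr 1
  · apply Finset.sum_congr rfl
    intro i _
    ring
  · ring

/-- A binary form with nonzero discriminant over a finite field of odd order is universal. -/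
theorem binary_universal [Fintype F] (hodd : Fintype.card F % 2 = 1) (h2 : (2 : F) ≠ 0)
    (hD : a ^ 2 - 4 * b ≠ 0) (c : F) : ∃ x y : F, x ^ 2 + a * x * y + b * y ^ 2 = c := by
  obtain ⟨i, hi⟩ : ∃ i : F, 2 * i = 1 := ⟨2⁻¹, mul_inv_cancel₀ h2⟩
  have hD' : b - a ^ 2 * i ^ 2 ≠ 0 := by
    intro h
    apply hD
    linear_combination (-4) * h + (-(a ^ 2) * (2 * i + 1)) * hi
  open Polynomial in
  have hf : degree ((X : F[X]) ^ 2) = 2 := by
    rw [degree_X_pow]
    rfl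
  open Polynomial in
  have hg : degree (C (b - a ^ 2 * i ^ 2) * (X : F[X]) ^ 2 - C c) = 2 := by
    rw [degree_sub_C, degree_C_mul_X_pow 2 hD']
    · rfl
    · rw [degree_C_mul_X_pow 2 hD']
      norm_num
  obtain ⟨s, t, hst⟩ := FiniteField.exists_root_sum_quadratic hf hg hodd
  simp only [Polynomial.eval_pow, Polynomial.eval_X, Polynomial.eval_sub, Polynomial.eval_mul,
    Polynomial.eval_C] at hst
  refine ⟨s - a * t * i, t, ?_⟩
  linear_combination hst + (a ^ 2 * t ^ 2 * i - a * s * t) * hi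

end minus

end Cfsg.Agent.Lib.Helper25.PSim
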