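import Cfsg.Agent.Lib.Helper25.POmegaSim5

set_option autoImplicit false

/-!
# The structure of (proper similarities)/(scalars · Ω)
-/

namespace Cfsg.Agent.Lib.Helper25.PSim

open Module QuadraticMap Matrix Cfsg.Agent.Lib.Helper25.CD Cfsg.Agent.Lib.Helper25.Spin
  Cfsg.Agent.Lib.Helper25.MaxTS Cfsg.Agent.Lib.Helper25.Fam Cfsg.Agent.Lib.Helper25.Siegel
  Cfsg.Agent.Lib.Helper25.PS Cfsg.Agent.Lib.Helper25.PAut Cfsg.Agent.Lib.Helper25.SmallQuot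

open scoped Pointwise commutatorElement

universe u

section struct

variable {ι : Type} [Fintype ι] [DecidableEq ι] {F : Type u} [Field F] [Fintype F]
  (Q : QuadraticForm F (ι → F)) (u₀ : ι → F) (hu₀ : Q u₀ = 1)
  (h2 : (2 : F) ≠ 0) (hQ : (polarBilin Q).Nondegenerate) {m : ℕ}
  (hcard : Fintype.card ι = 2 * m)

/-- Order two when `-1 ∉ Ω`. -/
theorem proper_mod_inn_two (hn : 7 ≤ Fintype.card ι)
    (d : ↥(Cfsg.Geo.quadSimilarityGroup (F := F) ⇑Q))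
    (hd : ¬ IsSquare (mult Q u₀ hu₀ d : F))
    (hneg : ¬ (∃ g : ↥(Cfsg.isometryGroup F ⇑Q), g ∈ Cfsg.Omega F ⇑Q ∧
        ((g : GL ι F) : Matrix ι ι F) = -1)) :
    ∃ φ : ↥(properAut Q u₀ hu₀ h2 hQ hcard) →* Multiplicative (ZMod 2), Function.Surjective φ ∧
      φ.ker = (Cfsg.Inn (Cfsg.POmega F ⇑Q)).subgroupOf (properAut Q u₀ hu₀ h2 hQ hcard) := by
  have hidx := (relIndex_inn_proper Q u₀ hu₀ h2 hQ hcard hn d hd).2 hneg
  apply exists_hom_of_quotient_equiv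
  apply nonempty_equiv_zmod_two
  rw [← Subgroup.index_eq_card]
  exact hidx

/-- The common setup for the order four cases. -/
theorem proper_mod_inn_four (hn : 7 ≤ Fintype.card ι)
    (δ : ↥(Cfsg.Geo.quadSimilarityGroup (F := F) ⇑Q))
    (hδp : δ ∈ properSub Q u₀ hu₀ h2 hQ hcard)
    (hδ : ¬ IsSquare (mult Q u₀ hu₀ δ : F))
    (s₀ : ↥(Cfsg.isometryGroup F ⇑Q)) (ν : F) (hν : ν ≠ 0)
    (hrel : ∀ x, ((δ * δ).1 : Matrix ι ι F) *ᵥ x = ν • ((s₀.1 : Matrix ι ι F) *ᵥ x))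
    (hneg : ∃ g : ↥(Cfsg.isometryGroup F ⇑Q), g ∈ Cfsg.Omega F ⇑Q ∧
        ((g : GL ι F) : Matrix ι ι F) = -1) :
    (s₀ ∉ Cfsg.Omega F ⇑Q →
      ∃ φ : ↥(properAut Q u₀ hu₀ h2 hQ hcard) →* Multiplicative (ZMod 4), Function.Surjective φ ∧
        φ.ker = (Cfsg.Inn (Cfsg.POmega F ⇑Q)).subgroupOf (properAut Q u₀ hu₀ h2 hQ hcard)) ∧
    (s₀ ∈ Cfsg.Omega F ⇑Q →
      ∃ φ : ↥(properAut Q u₀ hu₀ h2 hQ hcard) →* Multiplicative (ZMod 2 × ZMod 2),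
        Function.Surjective φ ∧
        φ.ker = (Cfsg.Inn (Cfsg.POmega F ⇑Q)).subgroupOf (properAut Q u₀ hu₀ h2 hQ hcard)) := by
  have hidx := (relIndex_inn_proper Q u₀ hu₀ h2 hQ hcard hn δ hδ).1 hneg
  obtain ⟨N, hN⟩ : ∃ N, N = (Cfsg.Inn (Cfsg.POmega F ⇑Q)).subgroupOf
      (properAut Q u₀ hu₀ h2 hQ hcard) := ⟨_, rfl⟩
  haveI : N.Normal := by
    rw [hN]
    infer_instance
  have hcardT : Nat.card (↥(properAut Q u₀ hu₀ h2 hQ hcard) ⧸ N) = 4 := by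
    rw [← Subgroup.index_eq_card, hN]
    exact hidx
  have hmem : ∀ g : ↥(properSub Q u₀ hu₀ h2 hQ hcard),
      theta ⇑Q g.1 ∈ properAut Q u₀ hu₀ h2 hQ hcard := fun g => ⟨g.1, g.2, rfl⟩
  obtain ⟨π, hπdef⟩ : ∃ π : ↥(properSub Q u₀ hu₀ h2 hQ hcard) →*
      (↥(properAut Q u₀ hu₀ h2 hQ hcard) ⧸ N),
      π = (QuotientGroup.mk' N).comp
        (((theta ⇑Q).comp (properSub Q u₀ hu₀ h2 hQ hcard).subtype).codRestrict _ hmem) :=
    ⟨_, rfl⟩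
  have hπ : ∀ g, π g = 1 ↔ theta ⇑Q g.1 ∈ Cfsg.Inn (Cfsg.POmega F ⇑Q) := by
    intro g
    rw [hπdef]
    show (QuotientGroup.mk ((((theta ⇑Q).comp
      (properSub Q u₀ hu₀ h2 hQ hcard).subtype).codRestrict _ hmem) g) : _ ⧸ N) = 1 ↔ _
    rw [QuotientGroup.eq_one_iff, hN, Subgroup.mem_subgroupOf]
    rfl
  have hθ : theta ⇑Q (δ * δ) = theta ⇑Q (incl ⇑Q s₀) := rel_theta Q (δ * δ) s₀ ν hν hrel
  obtain ⟨δ', hδ'⟩ : ∃ δ' : ↥(properSub Q u₀ hu₀ h2 hQ hcard), δ'.1 = δ := ⟨⟨δ, hδp⟩, rfl⟩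
  have hsq : δ' ^ 2 ∈ π.ker ↔ s₀ ∈ Cfsg.Omega F ⇑Q := by
    rw [MonoidHom.mem_ker, hπ]
    have e : ((δ' ^ 2 : ↥(properSub Q u₀ hu₀ h2 hQ hcard)) :
        ↥(Cfsg.Geo.quadSimilarityGroup (F := F) ⇑Q)) = δ * δ := by
      rw [pow_two, ← hδ']
      rfl
    rw [e, hθ]
    constructor
    · exact mem_omega_of_theta_mem_inn Q u₀ hu₀ hQ hn hneg s₀
    · intro h
      rw [inn_eq']
      exact ⟨_, ⟨s₀, h, rfl⟩, rfl⟩
  have hsq' : π δ' ^ 2 = 1 ↔ s₀ ∈ Cfsg.Omega F ⇑Q := by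
    rw [← hsq, MonoidHom.mem_ker, map_pow]
  constructor
  · intro hs₀
    rw [← hN]
    apply exists_hom_of_quotient_equiv
    apply nonempty_equiv_zmod_four hcardT (π δ')
    apply orderOf_eq_four_of_sq_ne hcardT
    intro h
    exact hs₀ (hsq'.1 h)
  · intro hs₀
    rw [← hN]
    apply exists_hom_of_quotient_equiv
    -- the second involution
    obtain ⟨w, hwdef⟩ : ∃ w, w = (δ.1 : Matrix ι ι F) *ᵥ u₀ := ⟨_, rfl⟩
    have hQw : Q w = (mult Q u₀ hu₀ δ : F) := by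
      rw [hwdef, Q_sim Q u₀ hu₀, hu₀, mul_one]
    have hu₀0 : Q u₀ ≠ 0 := by rw [hu₀]; exact one_ne_zero
    have hw0 : Q w ≠ 0 := by rw [hQw]; exact Units.ne_zero _
    have hall : ∀ x ∈ [u₀, w], Q x ≠ 0 := by
      intro x hx
      simp only [List.mem_cons, List.not_mem_nil, or_false] at hx
      rcases hx with rfl | rfl
      · exact hu₀0
      · exact hw0
    obtain ⟨s₁, hs₁def⟩ : ∃ s₁, s₁ = wordG Q [u₀, w] := ⟨_, rfl⟩
    have hs₁S : s₁ ∈ Cfsg.specialIsometryGroup F ⇑Q := by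
      rw [hs₁def]
      exact (mem_special_iff Q h2 hall).2 ⟨1, rfl⟩
    have hs₁p := incl_special_mem_proper Q u₀ hu₀ h2 hQ hcard _ hs₁S
    obtain ⟨s₁', hs₁'⟩ : ∃ s₁' : ↥(properSub Q u₀ hu₀ h2 hQ hcard), s₁'.1 = incl ⇑Q s₁ :=
      ⟨⟨_, hs₁p⟩, rfl⟩
    have hs₁Ω : s₁ ∉ Cfsg.Omega F ⇑Q := by
      rw [hs₁def, mem_omega_iff Q h2 hQ hall]
      rintro ⟨-, hsq''⟩
      rw [normProd_cons, normProd_cons, normProd_nil, mul_one, hu₀, one_mul, hQw] at hsq''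
      exact hδ hsq''
    have hs₁sq : s₁ * s₁ ∈ Cfsg.Omega F ⇑Q := by
      have hall2 : ∀ x ∈ [u₀, w] ++ [u₀, w], Q x ≠ 0 := by
        intro x hx
        rcases List.mem_append.1 hx with h | h
        · exact hall x h
        · exact hall x h
      rw [hs₁def, ← wordG_append, mem_omega_iff Q h2 hQ hall2]
      refine ⟨⟨2, rfl⟩, ?_⟩
      rw [normProd_append]
      exact ⟨_, rfl⟩
    have hmulta : ∀ s : ↥(Cfsg.isometryGroup F ⇑Q), (mult Q u₀ hu₀ (incl ⇑Q s) : F) = 1 := by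
      intro s
      rw [mult_val, incl_val, Q_iso, hu₀]
    have hpsi1 : ∀ g : ↥(Cfsg.Geo.quadSimilarityGroup (F := F) ⇑Q),
        theta ⇑Q g ∈ Cfsg.Inn (Cfsg.POmega F ⇑Q) → IsSquare (mult Q u₀ hu₀ g : F) := by
      intro g hg
      have h1 := (Psi_eq_one_iff_pso Q u₀ hu₀ h2 hQ hcard hn g).2 (inn_le_psoAut Q h2 hQ hg)
      rw [Psi_eq_one_iff] at h1
      exact h1.1
    apply nonempty_equiv_klein hcardT (π δ') (π s₁')
    · apply orderOf_eq_prime (hsq'.2 hs₀)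
      intro h
      have h3 := hpsi1 _ ((hπ _).1 h)
      rw [hδ'] at h3
      exact hδ h3
    · apply orderOf_eq_prime
      · rw [pow_two, ← map_mul, hπ]
        have e : ((s₁' * s₁' : ↥(properSub Q u₀ hu₀ h2 hQ hcard)) :
            ↥(Cfsg.Geo.quadSimilarityGroup (F := F) ⇑Q)) = incl ⇑Q (s₁ * s₁) := by
          rw [map_mul, ← hs₁']
          rfl
        rw [e, inn_eq']
        exact ⟨_, ⟨_, hs₁sq, rfl⟩, rfl⟩
      · intro h
        have h3 := (hπ _).1 h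
        rw [hs₁'] at h3
        exact hs₁Ω (mem_omega_of_theta_mem_inn Q u₀ hu₀ hQ hn hneg _ h3)
    · intro h
      have h1 : π (δ' * s₁'⁻¹) = 1 := by
        rw [map_mul, map_inv, h, mul_inv_cancel]
      have h3 := hpsi1 _ ((hπ _).1 h1)
      have e : ((δ' * s₁'⁻¹ : ↥(properSub Q u₀ hu₀ h2 hQ hcard)) :
          ↥(Cfsg.Geo.quadSimilarityGroup (F := F) ⇑Q)) = δ * (incl ⇑Q s₁)⁻¹ := by
        rw [← hδ', ← hs₁']
        rfl
      rw [e, map_mul, map_inv, Units.val_mul, Units.val_inv_eq_inv_val, hmulta, inv_one,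
        mul_one] at h3
      exact hδ h3

end struct

end Cfsg.Agent.Lib.Helper25.PSim
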