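import Cfsg.Agent.Lib.Helper25.InndiagPlus1
import Cfsg.Agent.Lib.Helper25.POmegaSim6
import Cfsg.Agent.Lib.Helper25.SpinGL

set_option autoImplicit false

/-!
# `Inndiag(PΩ⁺)` modulo inner automorphisms
-/

namespace Cfsg.Agent.Lib.Helper25.PSim

open Module QuadraticMap Matrix Cfsg.Agent.Lib.Helper25.CD Cfsg.Agent.Lib.Helper25.Spin
  Cfsg.Agent.Lib.Helper25.PAut Cfsg.Agent.Lib.Helper25.SmallQuot

universe u

section plus

variable {F : Type u} [Field F] [Fintype F] (m : ℕ) (u₀ : Fin m ⊕ Fin m → F)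
  (hu₀ : Qp m F u₀ = 1) (h2 : (2 : F) ≠ 0)

theorem card_plus : Fintype.card (Fin m ⊕ Fin m) = 2 * m := by
  simp only [Fintype.card_sum, Fintype.card_fin]
  ring

/-- `Inndiag(PΩ⁺)` is the image of the proper similarities. -/
theorem inndiag_eq :
    Cfsg.inndiagPOmegaPlus m F =
      properAut (Qp m F) u₀ hu₀ h2 (qfOf_nondeg _) (card_plus m) := by
  unfold Cfsg.inndiagPOmegaPlus Cfsg.autSubgroupOf
  have hset : {β : MulAut (Cfsg.POmega F (Cfsg.quadFormPlus m F)) |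
      Cfsg.IsInnerDiagonalAutPOmegaPlus m β} =
      ((properAut (Qp m F) u₀ hu₀ h2 (qfOf_nondeg _) (card_plus m) :
        Subgroup (MulAut (Cfsg.POmega F ⇑(Qp m F)))) :
        Set (MulAut (Cfsg.POmega F ⇑(Qp m F)))) := by
    ext β
    constructor
    · rintro ⟨g, hg, hpres, hind⟩
      have hβ := (induced_iff (⇑(Qp m F)) g hg β).1 hind
      refine ⟨⟨g, hg⟩, ?_, hβ.symm⟩
      rw [SetLike.mem_coe, mem_properSub_iff]
      unfold IsProper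
      exact (preserves_iff m h2 g _ (Units.ne_zero (mult (Qp m F) u₀ hu₀ ⟨g, hg⟩))
        (fun v => Q_sim (Qp m F) u₀ hu₀ ⟨g, hg⟩ v)).1 hpres
    · rintro ⟨g, hg, rfl⟩
      rw [SetLike.mem_coe, mem_properSub_iff] at hg
      refine ⟨g.1, g.2, ?_, (induced_iff (⇑(Qp m F)) g.1 g.2 _).2 rfl⟩
      exact (preserves_iff m h2 g.1 _ (Units.ne_zero (mult (Qp m F) u₀ hu₀ g))
        (fun v => Q_sim (Qp m F) u₀ hu₀ g v)).2 hg
  rw [hset]
  exact Subgroup.closure_eq _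

/-- The similarity `diag(ν, 1)`. -/
theorem exists_delta (ν : F) (hν0 : ν ≠ 0) :
    ∃ δ : ↥(Cfsg.Geo.quadSimilarityGroup (F := F) ⇑(Qp m F)),
      (δ.1 : Matrix (Fin m ⊕ Fin m) (Fin m ⊕ Fin m) F) = Dm m ν := by
  obtain ⟨d, hd⟩ := exists_gl_of_sim (Qp m F) (qfOf_nondeg _) (Dm m ν) ν hν0 (plus_sim m ν)
  refine ⟨⟨d, ⟨Units.mk0 ν hν0, fun v => ?_⟩⟩, hd⟩
  rw [hd]
  exact plus_sim m ν v

include hu₀ in
theorem delta_facts (ν : F) (hν0 : ν ≠ 0)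
    (δ : ↥(Cfsg.Geo.quadSimilarityGroup (F := F) ⇑(Qp m F)))
    (hδ : (δ.1 : Matrix (Fin m ⊕ Fin m) (Fin m ⊕ Fin m) F) = Dm m ν) :
    (mult (Qp m F) u₀ hu₀ δ : F) = ν ∧
    δ ∈ properSub (Qp m F) u₀ hu₀ h2 (qfOf_nondeg _) (card_plus m) ∧
    (∀ x, ((δ * δ).1 : Matrix (Fin m ⊕ Fin m) (Fin m ⊕ Fin m) F) *ᵥ x =
      ν • (((phiGL (dG (fun _ : Fin m => ν) (fun _ => hν0))).1 :
        Matrix (Fin m ⊕ Fin m) (Fin m ⊕ Fin m) F) *ᵥ x)) := by
  have hmult : (mult (Qp m F) u₀ hu₀ δ : F) = ν := by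
    rw [mult_val, hδ]
    have := plus_sim m ν u₀
    have h1 : Cfsg.quadFormPlus m F u₀ = 1 := hu₀
    rw [h1, mul_one] at this
    exact this
  refine ⟨hmult, ?_, ?_⟩
  · rw [mem_properSub_iff]
    unfold IsProper
    rw [hmult, hδ, det_Dm]
  · intro x
    have e : ((δ * δ).1 : Matrix (Fin m ⊕ Fin m) (Fin m ⊕ Fin m) F) = Dm m (ν * ν) := by
      show ((δ.1 * δ.1 : GL (Fin m ⊕ Fin m) F) : Matrix (Fin m ⊕ Fin m) (Fin m ⊕ Fin m) F) = _
      rw [Units.val_mul, hδ, Dm_mul]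
    rw [e, phiGL_dG_apply]
    funext k
    rcases k with i | i
    · unfold Dm
      rw [Matrix.mulVec_diagonal]
      simp only [Sum.elim_inl, Pi.smul_apply, smul_eq_mul, scaleS, Finset.mem_univ, if_true]
      ring
    · unfold Dm
      rw [Matrix.mulVec_diagonal]
      simp only [Sum.elim_inr, Pi.smul_apply, smul_eq_mul, scaleS, Finset.mem_univ, if_true]
      field_simp

include h2 in
theorem s0_mem_iff (ν : F) (hν0 : ν ≠ 0) :
    phiGL (dG (fun _ : Fin m => ν) (fun _ => hν0)) ∈ Cfsg.Omega F (Cfsg.quadFormPlus m F) ↔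
      IsSquare (ν ^ m) := by
  rw [phiGL_dG_mem_iff h2, Finset.prod_const, Finset.card_univ, Fintype.card_fin]

theorem isSquare_pow_of_even (ν : F) (hm : Even m) : IsSquare (ν ^ m) := by
  obtain ⟨k, rfl⟩ := hm
  exact ⟨ν ^ k, by rw [pow_add]⟩

theorem not_isSquare_pow_of_odd (ν : F) (hν : ¬ IsSquare ν) (hm : Odd m) : ¬ IsSquare (ν ^ m) := by
  obtain ⟨k, rfl⟩ := hm
  have hν0 : ν ≠ 0 := by
    rintro rfl
    exact hν ⟨0, by simp⟩
  rintro ⟨a, ha⟩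
  apply hν
  refine ⟨a * (ν ^ k)⁻¹, ?_⟩
  have h0 : ν ^ k ≠ 0 := pow_ne_zero _ hν0
  field_simp
  rw [pow_two a, ← ha]
  ring

include h2 in
/-- The three cases for `Inndiag(PΩ⁺)/Inn`. -/
theorem inndiag_plus_cases (hm : 4 ≤ m) :
    (¬ (∃ g : ↥(Cfsg.isometryGroup F (Cfsg.quadFormPlus m F)),
        g ∈ Cfsg.Omega F (Cfsg.quadFormPlus m F) ∧
        ((g : GL (Fin m ⊕ Fin m) F) : Matrix (Fin m ⊕ Fin m) (Fin m ⊕ Fin m) F) = -1) →
      ∃ φ : ↥(Cfsg.inndiagPOmegaPlus m F) →* Multiplicative (ZMod 2), Function.Surjective φ ∧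
        φ.ker = (Cfsg.Inn (Cfsg.POmega F (Cfsg.quadFormPlus m F))).subgroupOf
          (Cfsg.inndiagPOmegaPlus m F)) ∧
    ((∃ g : ↥(Cfsg.isometryGroup F (Cfsg.quadFormPlus m F)),
        g ∈ Cfsg.Omega F (Cfsg.quadFormPlus m F) ∧
        ((g : GL (Fin m ⊕ Fin m) F) : Matrix (Fin m ⊕ Fin m) (Fin m ⊕ Fin m) F) = -1) →
      Odd m →
      ∃ φ : ↥(Cfsg.inndiagPOmegaPlus m F) →* Multiplicative (ZMod 4), Function.Surjective φ ∧
        φ.ker = (Cfsg.Inn (Cfsg.POmega F (Cfsg.quadFormPlus m F))).subgroupOf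
          (Cfsg.inndiagPOmegaPlus m F)) ∧
    ((∃ g : ↥(Cfsg.isometryGroup F (Cfsg.quadFormPlus m F)),
        g ∈ Cfsg.Omega F (Cfsg.quadFormPlus m F) ∧
        ((g : GL (Fin m ⊕ Fin m) F) : Matrix (Fin m ⊕ Fin m) (Fin m ⊕ Fin m) F) = -1) →
      Even m →
      ∃ φ : ↥(Cfsg.inndiagPOmegaPlus m F) →* Multiplicative (ZMod 2 × ZMod 2),
        Function.Surjective φ ∧
        φ.ker = (Cfsg.Inn (Cfsg.POmega F (Cfsg.quadFormPlus m F))).subgroupOf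
          (Cfsg.inndiagPOmegaPlus m F)) := by
  have hQ : (polarBilin (Qp m F)).Nondegenerate := qfOf_nondeg _
  have hfin : 2 ≤ finrank F (Fin m ⊕ Fin m → F) := by
    rw [Module.finrank_fintype_fun_eq_card, card_plus]
    omega
  obtain ⟨u₀, hu₀⟩ := exists_rep (Qp m F) hQ hfin 1
  obtain ⟨ν, hν⟩ := FiniteField.exists_nonsquare (F := F) (ringChar_ne_two h2)
  have hν0 : ν ≠ 0 := by
    rintro rfl
    exact hν ⟨0, by simp⟩
  obtain ⟨δ, hδ⟩ := exists_delta m ν hν0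
  obtain ⟨hmult, hδp, hrel⟩ := delta_facts m u₀ hu₀ h2 ν hν0 δ hδ
  have hn : 7 ≤ Fintype.card (Fin m ⊕ Fin m) := by
    rw [card_plus]
    omega
  have hδns : ¬ IsSquare (mult (Qp m F) u₀ hu₀ δ : F) := by rw [hmult]; exact hν
  rw [inndiag_eq m u₀ hu₀ h2]
  refine ⟨?_, ?_, ?_⟩
  · intro hneg
    exact proper_mod_inn_two (Qp m F) u₀ hu₀ h2 hQ (card_plus m) hn δ hδns hneg
  · intro hneg hodd
    apply (proper_mod_inn_four (Qp m F) u₀ hu₀ h2 hQ (card_plus m) hn δ hδp hδns _ ν hν0 hrel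
      hneg).1
    intro h
    exact not_isSquare_pow_of_odd m ν hν hodd ((s0_mem_iff m h2 ν hν0).1 h)
  · intro hneg heven
    apply (proper_mod_inn_four (Qp m F) u₀ hu₀ h2 hQ (card_plus m) hn δ hδp hδns _ ν hν0 hrel
      hneg).2
    exact (s0_mem_iff m h2 ν hν0).2 (isSquare_pow_of_even m ν heven)

end plus

end Cfsg.Agent.Lib.Helper25.PSim
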