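import Cfsg.Agent.Lib.Helper25.InndiagMinus2
import Cfsg.Agent.Lib.Helper25.InndiagPlus2
import Cfsg.Agent.Lib.Helper25.SpinOrth

set_option autoImplicit false

/-!
# `Inndiag(PΩ⁻)` modulo inner automorphisms
-/

namespace Cfsg.Agent.Lib.Helper25.PSim

open Module QuadraticMap Matrix Cfsg.Agent.Lib.Helper25.CD Cfsg.Agent.Lib.Helper25.Spin
  Cfsg.Agent.Lib.Helper25.PAut Cfsg.Agent.Lib.Helper25.SmallQuot
  Cfsg.Agent.Lib.Helper14 Cfsg.Agent.Lib.Helper14.OrthMinus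

universe u

section comp

variable {F : Type u} [Field F] (m : ℕ) (a b : F)

theorem minusSim_inl_inl (x y : F) (v : Idx m → F) (i : Fin m) :
    (minusSimMatrix m a b x y *ᵥ v) (Sum.inl (Sum.inl i)) =
      (x ^ 2 + a * x * y + b * y ^ 2) * v (Sum.inl (Sum.inl i)) := by
  unfold minusSimMatrix
  rw [Matrix.mulVec, dotProduct, Fintype.sum_sum_type]
  simp [Matrix.fromBlocks_apply₁₁, Matrix.fromBlocks_apply₁₂, Matrix.diagonal_apply,
    Fintype.sum_sum_type]

theorem minusSim_inl_inr (x y : F) (v : Idx m → F) (i : Fin m) :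
    (minusSimMatrix m a b x y *ᵥ v) (Sum.inl (Sum.inr i)) = v (Sum.inl (Sum.inr i)) := by
  unfold minusSimMatrix
  rw [Matrix.mulVec, dotProduct, Fintype.sum_sum_type]
  simp [Matrix.fromBlocks_apply₁₁, Matrix.fromBlocks_apply₁₂, Matrix.diagonal_apply,
    Fintype.sum_sum_type]

theorem minusSim_inr_zero (x y : F) (v : Idx m → F) :
    (minusSimMatrix m a b x y *ᵥ v) (Sum.inr 0) = x * v (Sum.inr 0) - b * y * v (Sum.inr 1) := by
  unfold minusSimMatrix
  rw [Matrix.mulVec, dotProduct, Fintype.sum_sum_type]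
  simp [Matrix.fromBlocks_apply₂₁, Matrix.fromBlocks_apply₂₂, Fin.sum_univ_two]
  ring

theorem minusSim_inr_one (x y : F) (v : Idx m → F) :
    (minusSimMatrix m a b x y *ᵥ v) (Sum.inr 1) =
      y * v (Sum.inr 0) + (x + a * y) * v (Sum.inr 1) := by
  unfold minusSimMatrix
  rw [Matrix.mulVec, dotProduct, Fintype.sum_sum_type]
  simp [Matrix.fromBlocks_apply₂₁, Matrix.fromBlocks_apply₂₂, Fin.sum_univ_two]

theorem det_minusSim (x y : F) :
    (minusSimMatrix m a b x y).det = (x ^ 2 + a * x * y + b * y ^ 2) ^ (m + 1) := by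
  unfold minusSimMatrix
  rw [Matrix.det_fromBlocks_zero₂₁, Matrix.det_diagonal, Fintype.prod_sum_type,
    Matrix.det_fin_two_of]
  simp only [Sum.elim_inl, Sum.elim_inr, Finset.prod_const, Finset.card_univ, Fintype.card_fin,
    one_pow, mul_one]
  ring

/-- A vector in the anisotropic plane. -/
def pl (p : Fin 2 → F) : Idx m → F := Sum.elim 0 p

theorem minus_pl (p : Fin 2 → F) :
    Cfsg.quadFormMinus m F a b (pl m p) = p 0 ^ 2 + a * p 0 * p 1 + b * p 1 ^ 2 := by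
  unfold Cfsg.quadFormMinus pl
  simp

theorem minusPolar_pl (p : Fin 2 → F) (r : Idx m → F) :
    minusPolar m F a b (pl m p) r =
      2 * p 0 * r (Sum.inr 0) + a * (p 0 * r (Sum.inr 1) + p 1 * r (Sum.inr 0)) +
        2 * b * p 1 * r (Sum.inr 1) := by
  unfold minusPolar pl
  simp

variable (hD : a ^ 2 - 4 * b ≠ 0)

theorem reflE_pl_inl (p : Fin 2 → F) (r : Idx m → F) (k : Fin m ⊕ Fin m) :
    (reflE (qfOf (isQF_minus (n := m) hD)) (pl m p) r) (Sum.inl k) = r (Sum.inl k) := by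
  rw [reflE_apply]
  simp [pl]

theorem reflE_pl_inr (p : Fin 2 → F) (r : Idx m → F) (j : Fin 2) :
    (reflE (qfOf (isQF_minus (n := m) hD)) (pl m p) r) (Sum.inr j) =
      r (Sum.inr j) - ((p 0 ^ 2 + a * p 0 * p 1 + b * p 1 ^ 2)⁻¹ *
        (2 * p 0 * r (Sum.inr 0) + a * (p 0 * r (Sum.inr 1) + p 1 * r (Sum.inr 0)) +
        2 * b * p 1 * r (Sum.inr 1))) * p j := by
  rw [reflE_apply, polar_qfOf, minusPolar_pl, coe_qfOf, minus_pl]
  simp [pl]

omit hD in
theorem plane_zero (X Y r0 r1 d : F) (hN : X ^ 2 + a * X * Y + b * Y ^ 2 = 1)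
    (hd : d = 2 + 2 * X + a * Y) (hd0 : d ≠ 0) :
    X * r0 - b * Y * r1 = (-r0 - a * r1) -
      (d⁻¹ * (2 * (1 + X) * (-r0 - a * r1) + a * ((1 + X) * r1 + Y * (-r0 - a * r1)) +
        2 * b * Y * r1)) * (1 + X) := by
  apply mul_left_cancel₀ hd0
  rw [mul_sub d (-r0 - a * r1), mul_assoc d⁻¹, mul_inv_cancel_left₀ hd0]
  subst hd
  linear_combination (-a * r1) * hN

omit hD in
theorem plane_one (X Y r0 r1 d : F) (hN : X ^ 2 + a * X * Y + b * Y ^ 2 = 1)
    (hd : d = 2 + 2 * X + a * Y) (hd0 : d ≠ 0) :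
    Y * r0 + (X + a * Y) * r1 = r1 -
      (d⁻¹ * (2 * (1 + X) * (-r0 - a * r1) + a * ((1 + X) * r1 + Y * (-r0 - a * r1)) +
        2 * b * Y * r1)) * Y := by
  apply mul_left_cancel₀ hd0
  rw [mul_sub, mul_assoc d⁻¹, mul_inv_cancel_left₀ hd0]
  subst hd
  linear_combination (2 * r1) * hN

/-- The square of the multiplication by a norm `-1` element is a product of two reflections. -/
theorem sq_eq_word (x y : F) (hxy : x ^ 2 + a * x * y + b * y ^ 2 = -1) (hy : y ≠ 0)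
    (r : Idx m → F) :
    (minusSimMatrix m a b x y * minusSimMatrix m a b x y) *ᵥ r =
      wordProd (qfOf (isQF_minus (n := m) hD))
        [pl m ![1 + (x ^ 2 - b * y ^ 2), 2 * x * y + a * y ^ 2], pl m ![1, 0]] r := by
  obtain ⟨X, hX⟩ : ∃ X, X = x ^ 2 - b * y ^ 2 := ⟨_, rfl⟩
  obtain ⟨Y, hY⟩ : ∃ Y, Y = 2 * x * y + a * y ^ 2 := ⟨_, rfl⟩
  have hN : X ^ 2 + a * X * Y + b * Y ^ 2 = 1 := by
    have : X ^ 2 + a * X * Y + b * Y ^ 2 = (x ^ 2 + a * x * y + b * y ^ 2) ^ 2 := by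
      rw [hX, hY]
      ring
    rw [this, hxy]
    ring
  have hd : (1 + X) ^ 2 + a * (1 + X) * Y + b * Y ^ 2 = (a ^ 2 - 4 * b) * y ^ 2 := by
    have h1 : (1 + X) ^ 2 + a * (1 + X) * Y + b * Y ^ 2 = 2 + 2 * X + a * Y := by
      linear_combination hN
    rw [h1, hX, hY]
    linear_combination 2 * hxy
  have hd0 : (1 + X) ^ 2 + a * (1 + X) * Y + b * Y ^ 2 ≠ 0 := by
    rw [hd]
    exact mul_ne_zero hD (pow_ne_zero _ hy)
  have hd1 : (1 + X) ^ 2 + a * (1 + X) * Y + b * Y ^ 2 = 2 + 2 * X + a * Y := by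
    linear_combination hN
  have hd2 : 2 + 2 * X + a * Y ≠ 0 := by
    rw [← hd1]
    exact hd0
  rw [← hX, ← hY, wordProd_cons, wordProd_cons, wordProd_nil, mul_one, LinearEquiv.mul_apply,
    ← Matrix.mulVec_mulVec]
  obtain ⟨s, hs⟩ : ∃ s, s = reflE (qfOf (isQF_minus (n := m) hD)) (pl m ![1, 0]) r := ⟨_, rfl⟩
  have hs0 : s (Sum.inr 0) = -r (Sum.inr 0) - a * r (Sum.inr 1) := by
    rw [hs, reflE_pl_inr m a b hD]
    simp only [Matrix.cons_val_zero, Matrix.cons_val_one]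
    ring
  have hs1 : s (Sum.inr 1) = r (Sum.inr 1) := by
    rw [hs, reflE_pl_inr m a b hD]
    simp only [Matrix.cons_val_zero, Matrix.cons_val_one]
    ring
  rw [← hs]
  have h0 : (minusSimMatrix m a b x y *ᵥ (minusSimMatrix m a b x y *ᵥ r)) (Sum.inr 0) =
      (reflE (qfOf (isQF_minus (n := m) hD)) (pl m ![1 + X, Y]) s) (Sum.inr 0) := by
    rw [reflE_pl_inr m a b hD, minusSim_inr_zero, minusSim_inr_zero, minusSim_inr_one, hs0, hs1]
    simp only [Matrix.cons_val_zero, Matrix.cons_val_one]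
    rw [hd1]
    have e : x * (x * r (Sum.inr 0) - b * y * r (Sum.inr 1)) -
        b * y * (y * r (Sum.inr 0) + (x + a * y) * r (Sum.inr 1)) =
        X * r (Sum.inr 0) - b * Y * r (Sum.inr 1) := by
      rw [hX, hY]
      ring
    rw [e]
    exact plane_zero a b X Y _ _ _ hN rfl hd2
  have h1 : (minusSimMatrix m a b x y *ᵥ (minusSimMatrix m a b x y *ᵥ r)) (Sum.inr 1) =
      (reflE (qfOf (isQF_minus (n := m) hD)) (pl m ![1 + X, Y]) s) (Sum.inr 1) := by
    rw [reflE_pl_inr m a b hD, minusSim_inr_one, minusSim_inr_zero, minusSim_inr_one, hs0, hs1]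
    simp only [Matrix.cons_val_zero, Matrix.cons_val_one]
    rw [hd1]
    have e : y * (x * r (Sum.inr 0) - b * y * r (Sum.inr 1)) +
        (x + a * y) * (y * r (Sum.inr 0) + (x + a * y) * r (Sum.inr 1)) =
        Y * r (Sum.inr 0) + (X + a * Y) * r (Sum.inr 1) := by
      rw [hX, hY]
      ring
    rw [e]
    exact plane_one a b X Y _ _ _ hN rfl hd2
  funext k
  rcases k with (i | i) | j
  · rw [reflE_pl_inl m a b hD, hs, reflE_pl_inl m a b hD, minusSim_inl_inl, minusSim_inl_inl, hxy]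
    ring
  · rw [reflE_pl_inl m a b hD, hs, reflE_pl_inl m a b hD, minusSim_inl_inr, minusSim_inl_inr]
  · fin_cases j
    · exact h0
    · exact h1

end comp

section main

variable {F : Type u} [Field F] [Fintype F] (m : ℕ) (a b : F) (hD : a ^ 2 - 4 * b ≠ 0)
  (u₀ : Idx m → F) (hu₀ : qfOf (isQF_minus (n := m) hD) u₀ = 1) (h2 : (2 : F) ≠ 0)

omit [Fintype F] in
theorem card_minus : Fintype.card (Idx m) = 2 * (m + 1) := by
  simp only [Fintype.card_sum, Fintype.card_fin]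
  ring

/-- `Inndiag(PΩ⁻)` is the image of the proper similarities. -/
theorem inndiag_minus_eq (hodd : Odd (Fintype.card F))
    (hab : ∀ z₁ z₂ : F, z₁ ^ 2 + a * z₁ * z₂ + b * z₂ ^ 2 = 0 → z₁ = 0 ∧ z₂ = 0) :
    Cfsg.inndiagPOmegaMinus m F a b =
      properAut (qfOf (isQF_minus (n := m) hD)) u₀ hu₀ h2 (qfOf_nondeg _) (card_minus m) := by
  unfold Cfsg.inndiagPOmegaMinus Cfsg.autSubgroupOf
  have hset : {β : MulAut (Cfsg.POmega F (Cfsg.quadFormMinus m F a b)) |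
      Cfsg.IsInnerDiagonalAutPOmegaMinus m a b β} =
      ((properAut (qfOf (isQF_minus (n := m) hD)) u₀ hu₀ h2 (qfOf_nondeg _) (card_minus m) :
        Subgroup (MulAut (Cfsg.POmega F ⇑(qfOf (isQF_minus (n := m) hD))))) :
        Set (MulAut (Cfsg.POmega F ⇑(qfOf (isQF_minus (n := m) hD))))) := by
    ext β
    constructor
    · rintro ⟨g, hg, hpres, hind⟩
      have hβ := (induced_iff (⇑(qfOf (isQF_minus (n := m) hD))) g hg β).1 hind
      refine ⟨⟨g, hg⟩, ?_, hβ.symm⟩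
      rw [SetLike.mem_coe, mem_properSub_iff]
      unfold IsProper
      exact (preserves_minus_iff m a b hodd hab (g : Matrix (Idx m) (Idx m) F) _
        (Units.ne_zero (mult (qfOf (isQF_minus (n := m) hD)) u₀ hu₀ ⟨g, hg⟩))
        (fun v => Q_sim (qfOf (isQF_minus (n := m) hD)) u₀ hu₀ ⟨g, hg⟩ v)).1 hpres
    · rintro ⟨g, hg, rfl⟩
      rw [SetLike.mem_coe, mem_properSub_iff] at hg
      refine ⟨g.1, g.2, ?_, (induced_iff (⇑(qfOf (isQF_minus (n := m) hD))) g.1 g.2 _).2 rfl⟩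
      exact (preserves_minus_iff m a b hodd hab (g.1 : Matrix (Idx m) (Idx m) F) _
        (Units.ne_zero (mult (qfOf (isQF_minus (n := m) hD)) u₀ hu₀ g))
        (fun v => Q_sim (qfOf (isQF_minus (n := m) hD)) u₀ hu₀ g v)).2 hg
  rw [hset]
  exact Subgroup.closure_eq _

omit [Fintype F] in
/-- The similarity given by an element of the quadratic extension. -/
theorem exists_delta_minus (x y : F) (hν0 : x ^ 2 + a * x * y + b * y ^ 2 ≠ 0) :
    ∃ δ : ↥(Cfsg.Geo.quadSimilarityGroup (F := F) ⇑(qfOf (isQF_minus (n := m) hD))),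
      (δ.1 : Matrix (Idx m) (Idx m) F) = minusSimMatrix m a b x y := by
  obtain ⟨d, hd⟩ := exists_gl_of_sim (qfOf (isQF_minus (n := m) hD)) (qfOf_nondeg _)
    (minusSimMatrix m a b x y) _ hν0 (minus_sim m a b x y)
  refine ⟨⟨d, ⟨Units.mk0 _ hν0, fun v => ?_⟩⟩, hd⟩
  rw [hd]
  exact minus_sim m a b x y v

omit [Fintype F] in
include hu₀ in
theorem delta_minus_facts (x y : F)
    (δ : ↥(Cfsg.Geo.quadSimilarityGroup (F := F) ⇑(qfOf (isQF_minus (n := m) hD))))
    (hδ : (δ.1 : Matrix (Idx m) (Idx m) F) = minusSimMatrix m a b x y) :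
    (mult (qfOf (isQF_minus (n := m) hD)) u₀ hu₀ δ : F) = x ^ 2 + a * x * y + b * y ^ 2 ∧
    IsProper (qfOf (isQF_minus (n := m) hD)) u₀ hu₀ (m + 1) δ := by
  have hmult : (mult (qfOf (isQF_minus (n := m) hD)) u₀ hu₀ δ : F) =
      x ^ 2 + a * x * y + b * y ^ 2 := by
    rw [mult_val, hδ]
    have := minus_sim m a b x y u₀
    have h1 : Cfsg.quadFormMinus m F a b u₀ = 1 := hu₀
    rw [h1, mul_one] at this
    exact this
  refine ⟨hmult, ?_⟩
  unfold IsProper
  rw [hmult, hδ, det_minusSim]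

omit [Fintype F] in
theorem norm_v1 (x y : F) (hxy : x ^ 2 + a * x * y + b * y ^ 2 = -1) :
    (1 + (x ^ 2 - b * y ^ 2)) ^ 2 + a * (1 + (x ^ 2 - b * y ^ 2)) * (2 * x * y + a * y ^ 2) +
      b * (2 * x * y + a * y ^ 2) ^ 2 = y ^ 2 * (a ^ 2 - 4 * b) := by
  have hN : (x ^ 2 - b * y ^ 2) ^ 2 + a * (x ^ 2 - b * y ^ 2) * (2 * x * y + a * y ^ 2) +
      b * (2 * x * y + a * y ^ 2) ^ 2 = 1 := by
    have : (x ^ 2 - b * y ^ 2) ^ 2 + a * (x ^ 2 - b * y ^ 2) * (2 * x * y + a * y ^ 2) +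
      b * (2 * x * y + a * y ^ 2) ^ 2 = (x ^ 2 + a * x * y + b * y ^ 2) ^ 2 := by ring
    rw [this, hxy]
    ring
  linear_combination hN + 2 * hxy

/-- The two cases for `Inndiag(PΩ⁻)/Inn`. -/
theorem inndiag_minus_cases (hodd : Odd (Fintype.card F)) (hm : 3 ≤ m)
    (hab : ∀ z₁ z₂ : F, z₁ ^ 2 + a * z₁ * z₂ + b * z₂ ^ 2 = 0 → z₁ = 0 ∧ z₂ = 0) :
    (¬ (∃ g : ↥(Cfsg.isometryGroup F (Cfsg.quadFormMinus m F a b)),
        g ∈ Cfsg.Omega F (Cfsg.quadFormMinus m F a b) ∧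
        ((g : GL (Idx m) F) : Matrix (Idx m) (Idx m) F) = -1) →
      ∃ φ : ↥(Cfsg.inndiagPOmegaMinus m F a b) →* Multiplicative (ZMod 2), Function.Surjective φ ∧
        φ.ker = (Cfsg.Inn (Cfsg.POmega F (Cfsg.quadFormMinus m F a b))).subgroupOf
          (Cfsg.inndiagPOmegaMinus m F a b)) ∧
    ((∃ g : ↥(Cfsg.isometryGroup F (Cfsg.quadFormMinus m F a b)),
        g ∈ Cfsg.Omega F (Cfsg.quadFormMinus m F a b) ∧
        ((g : GL (Idx m) F) : Matrix (Idx m) (Idx m) F) = -1) →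
      ¬ IsSquare (-1 : F) →
      ∃ φ : ↥(Cfsg.inndiagPOmegaMinus m F a b) →* Multiplicative (ZMod 4), Function.Surjective φ ∧
        φ.ker = (Cfsg.Inn (Cfsg.POmega F (Cfsg.quadFormMinus m F a b))).subgroupOf
          (Cfsg.inndiagPOmegaMinus m F a b)) := by
  have h2 := two_ne_zero_of_odd_card hodd
  have hD : a ^ 2 - 4 * b ≠ 0 := disc_ne_zero hab
  have hQ : (polarBilin (qfOf (isQF_minus (n := m) hD))).Nondegenerate := qfOf_nondeg _
  have hfin : 2 ≤ finrank F (Idx m → F) := by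
    rw [Module.finrank_fintype_fun_eq_card, card_minus]
    omega
  obtain ⟨u₀, hu₀⟩ := exists_rep (qfOf (isQF_minus (n := m) hD)) hQ hfin 1
  have hn : 7 ≤ Fintype.card (Idx m) := by
    rw [card_minus]
    omega
  have hodd' : Fintype.card F % 2 = 1 := Nat.odd_iff.1 hodd
  rw [inndiag_minus_eq m a b hD u₀ hu₀ h2 hodd hab]
  refine ⟨?_, ?_⟩
  · intro hneg
    obtain ⟨ν, hν⟩ := FiniteField.exists_nonsquare (F := F) (ringChar_ne_two h2)
    have hν0 : ν ≠ 0 := by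
      rintro rfl
      exact hν ⟨0, by simp⟩
    obtain ⟨x, y, hxy⟩ := binary_universal a b hodd' h2 hD ν
    obtain ⟨δ, hδ⟩ := exists_delta_minus m a b hD x y (by rw [hxy]; exact hν0)
    obtain ⟨hmult, -⟩ := delta_minus_facts m a b hD u₀ hu₀ x y δ hδ
    have hδns : ¬ IsSquare (mult (qfOf (isQF_minus (n := m) hD)) u₀ hu₀ δ : F) := by
      rw [hmult, hxy]
      exact hν
    exact proper_mod_inn_two (qfOf (isQF_minus (n := m) hD)) u₀ hu₀ h2 hQ (card_minus m) hn δ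
      hδns hneg
  · intro hneg hns
    obtain ⟨x, y, hxy⟩ := binary_universal a b hodd' h2 hD (-1)
    have hy : y ≠ 0 := by
      rintro rfl
      apply hns
      refine ⟨x, ?_⟩
      linear_combination (-1 : F) * hxy
    have hne : x ^ 2 + a * x * y + b * y ^ 2 ≠ 0 := by
      rw [hxy]
      exact neg_ne_zero.2 one_ne_zero
    obtain ⟨δ, hδ⟩ := exists_delta_minus m a b hD x y hne
    obtain ⟨hmult, hprop⟩ := delta_minus_facts m a b hD u₀ hu₀ x y δ hδ
    have hδns : ¬ IsSquare (mult (qfOf (isQF_minus (n := m) hD)) u₀ hu₀ δ : F) := by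
      rw [hmult, hxy]
      exact hns
    have hδp : δ ∈ properSub (qfOf (isQF_minus (n := m) hD)) u₀ hu₀ h2 hQ (card_minus m) := by
      rw [mem_properSub_iff]
      exact hprop
    obtain ⟨vs, hvs⟩ : ∃ vs : List (Idx m → F),
        vs = [pl m ![1 + (x ^ 2 - b * y ^ 2), 2 * x * y + a * y ^ 2], pl m ![1, 0]] := ⟨_, rfl⟩
    have hword := sq_eq_word m a b hD x y hxy hy
    rw [← hvs] at hword
    have hQ1 : (qfOf (isQF_minus (n := m) hD))
        (pl m ![1 + (x ^ 2 - b * y ^ 2), 2 * x * y + a * y ^ 2]) = y ^ 2 * (a ^ 2 - 4 * b) := by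
      rw [coe_qfOf, minus_pl]
      simp only [Matrix.cons_val_zero, Matrix.cons_val_one]
      exact norm_v1 a b x y hxy
    have hQ2 : (qfOf (isQF_minus (n := m) hD)) (pl m ![1, 0]) = 1 := by
      rw [coe_qfOf, minus_pl]
      simp
    have hall : ∀ v ∈ vs, (qfOf (isQF_minus (n := m) hD)) v ≠ 0 := by
      intro v hv
      rw [hvs] at hv
      simp only [List.mem_cons, List.not_mem_nil, or_false] at hv
      rcases hv with rfl | rfl
      · rw [hQ1]
        exact mul_ne_zero (pow_ne_zero _ hy) hD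
      · rw [hQ2]
        exact one_ne_zero
    have hs₀ : wordG (qfOf (isQF_minus (n := m) hD)) vs ∉
        Cfsg.Omega F ⇑(qfOf (isQF_minus (n := m) hD)) := by
      rw [mem_omega_iff _ h2 hQ hall]
      rintro ⟨-, hsq⟩
      rw [hvs, normProd_cons, normProd_cons, normProd_nil, hQ1, hQ2, mul_one, mul_one,
        isSquare_sq_mul_iff hy] at hsq
      exact not_isSquare_disc h2 hab hsq
    have hmat := eq_wordG_of_apply (qfOf (isQF_minus (n := m) hD)) hword
    have hrel : ∀ r, ((δ * δ).1 : Matrix (Idx m) (Idx m) F) *ᵥ r =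
        (1 : F) • (((wordG (qfOf (isQF_minus (n := m) hD)) vs).1 : Matrix (Idx m) (Idx m) F) *ᵥ r) := by
      intro r
      rw [one_smul, hmat]
      show ((δ.1 * δ.1 : GL (Idx m) F) : Matrix (Idx m) (Idx m) F) *ᵥ r = _
      rw [Units.val_mul, hδ]
    exact (proper_mod_inn_four (qfOf (isQF_minus (n := m) hD)) u₀ hu₀ h2 hQ (card_minus m) hn δ
      hδp hδns _ 1 one_ne_zero hrel hneg).1 hs₀

end main


end Cfsg.Agent.Lib.Helper25.PSim
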