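import Cfsg.Agent.Lib.Helper25.GraphInv3

set_option autoImplicit false

/-!
# Involutory graph automorphisms of `PSL_n`: the centralisers of `tauG M`
-/

namespace Cfsg.Agent.Lib.Helper25.GraphInv

open Module Matrix QuadraticMap Cfsg Cfsg.Agent.Lib.Helper18.PSLnAut
  Cfsg.Agent.Lib.Helper18.PSLnFld Cfsg.Agent.Lib.Helper25.InvTrans

section transport

variable {ι₁ ι₂ : Type} [Fintype ι₁] [DecidableEq ι₁] [Fintype ι₂] [DecidableEq ι₂]
  {F : Type*} [Field F]

/-- Transport of the similarity condition along a change of coordinates. -/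
theorem congr_transport (P : Matrix ι₂ ι₁ F) (P' : Matrix ι₁ ι₂ F) (h1 : P * P' = 1)
    (h2 : P' * P = 1) (M₂ : Matrix ι₂ ι₂ F) (g : Matrix ι₁ ι₁ F) (c : F) :
    (P * g * P')ᵀ * M₂ * (P * g * P') = c • M₂ ↔
      gᵀ * (Pᵀ * M₂ * P) * g = c • (Pᵀ * M₂ * P) := by
  have hA : ∀ X : Matrix ι₁ ι₁ F, P' * (P * X) = X := by
    intro X
    rw [← Matrix.mul_assoc, h2, Matrix.one_mul]
  have hA' : ∀ X : Matrix ι₁ ι₂ F, P' * (P * X) = X := by
    intro X
    rw [← Matrix.mul_assoc, h2, Matrix.one_mul]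
  have hB : ∀ X : Matrix ι₁ ι₁ F, Pᵀ * (P'ᵀ * X) = X := by
    intro X
    rw [← Matrix.mul_assoc, ← Matrix.transpose_mul, h2, Matrix.transpose_one, Matrix.one_mul]
  have hC : ∀ X : Matrix ι₂ ι₂ F, P * (P' * X) = X := by
    intro X
    rw [← Matrix.mul_assoc, h1, Matrix.one_mul]
  have hD : ∀ X : Matrix ι₂ ι₂ F, P'ᵀ * (Pᵀ * X) = X := by
    intro X
    rw [← Matrix.mul_assoc, ← Matrix.transpose_mul, h1, Matrix.transpose_one, Matrix.one_mul]
  constructor
  · intro h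
    have key : gᵀ * (Pᵀ * M₂ * P) * g = Pᵀ * ((P * g * P')ᵀ * M₂ * (P * g * P')) * P := by
      simp only [Matrix.transpose_mul, Matrix.mul_assoc, hB, h2, Matrix.mul_one]
    rw [key, h, Matrix.mul_smul, Matrix.smul_mul]
  · intro h
    have key : (P * g * P')ᵀ * M₂ * (P * g * P') = P'ᵀ * (gᵀ * (Pᵀ * M₂ * P) * g) * P' := by
      simp only [Matrix.transpose_mul, Matrix.mul_assoc]
    rw [key, h, Matrix.mul_smul, Matrix.smul_mul]
    congr 1
    simp only [Matrix.mul_assoc, hD, h1, Matrix.mul_one]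

end transport

section cent

variable {n : ℕ} {F : Type*} [Field F] {ι₂ : Type} [Fintype ι₂] [DecidableEq ι₂]

/-- The centraliser of `tauG M`, `M` symmetric, is the projective similarity group of any
quadratic form of the same discriminant class (even dimension, finite field, odd
characteristic). -/
theorem nonempty_centralizer_sym [Finite F] (hn : 2 ≤ n) (h2 : (2 : F) ≠ 0)
    (Q₂ : QuadraticForm F (ι₂ → F)) (hQ₂ : (polarBilin Q₂).Nondegenerate)
    (hcard : Fintype.card ι₂ = n) (heven : Even n)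
    (M : GL (Fin n) F) (hM : (M.1)ᵀ = M.1)
    (hsq : IsSquare (M.1.det *
      (Matrix.of (fun i j : ι₂ => polar ⇑Q₂ (Pi.single i 1) (Pi.single j 1))).det)) :
    Nonempty (↥(Cfsg.inndiagPSL n F ⊓ Subgroup.centralizer {tauG M}) ≃* Cfsg.PGO F ⇑Q₂) := by
  have hdet : M.1.det ≠ 0 := Matrix.GeneralLinearGroup.det_ne_zero M
  obtain ⟨P, P', h1, h1', hP⟩ := exists_change_of_sym h2 Q₂ hQ₂ hcard heven M.1 hM hdet hsq
  refine nonempty_centralizer_equiv' hn _ P P' h1 h1' (tauG M) fun g => ?_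
  rw [conjAHom_mem_centralizer_tauG_iff hn, ← mem_quadSim_iff h2 M.1 hM,
    glCongr_mem_sim_iff P P' h1 h1' (symQ M.1) (⇑Q₂) 1 one_ne_zero
      (fun w => by rw [one_mul, hP])]

/-- The centraliser of `tauG M`, `M` the standard symplectic matrix in other coordinates, is the
projective conformal symplectic group. -/
theorem nonempty_centralizer_symp (hn : 2 ≤ n) (m : ℕ)
    (P : Matrix (Fin m ⊕ Fin m) (Fin n) F) (P' : Matrix (Fin n) (Fin m ⊕ Fin m) F)
    (h1 : P * P' = 1) (h1' : P' * P = 1) (M : GL (Fin n) F)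
    (hM : M.1 = Pᵀ * Matrix.J (Fin m) F * P) :
    Nonempty (↥(Cfsg.inndiagPSL n F ⊓ Subgroup.centralizer {tauG M}) ≃* Cfsg.PGSp m F) := by
  have hS : Cfsg.GSp m F = Geo.similarityGroup (F := F) (bilM (Matrix.J (Fin m) F)) := rfl
  show Nonempty (_ ≃* Cfsg.projQuot (Cfsg.GSp m F))
  rw [hS]
  refine nonempty_centralizer_equiv' hn _ P P' h1 h1' (tauG M) fun g => ?_
  rw [conjAHom_mem_centralizer_tauG_iff hn, mem_similarityGroup_iff, hM]
  constructor
  · rintro ⟨c, hc⟩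
    exact ⟨c, (congr_transport P P' h1 h1' _ g.1 c).2 hc⟩
  · rintro ⟨c, hc⟩
    exact ⟨c, (congr_transport P P' h1 h1' _ g.1 c).1 hc⟩

/-- A skew-symmetric invertible matrix from the standard symplectic matrix. -/
theorem exists_skew (m : ℕ) (P : Matrix (Fin m ⊕ Fin m) (Fin n) F)
    (P' : Matrix (Fin n) (Fin m ⊕ Fin m) F) (h1 : P * P' = 1) (h1' : P' * P = 1) :
    ∃ M : GL (Fin n) F, M.1 = Pᵀ * Matrix.J (Fin m) F * P ∧ (M.1)ᵀ = -M.1 := by
  have hJ : Matrix.J (Fin m) F * -Matrix.J (Fin m) F = 1 := by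
    rw [Matrix.mul_neg, Matrix.J_squared, neg_neg]
  have hJ' : -Matrix.J (Fin m) F * Matrix.J (Fin m) F = 1 := by
    rw [Matrix.neg_mul, Matrix.J_squared, neg_neg]
  have hT : Pᵀ * P'ᵀ = 1 := by rw [← Matrix.transpose_mul, h1', Matrix.transpose_one]
  have hT' : P'ᵀ * Pᵀ = 1 := by rw [← Matrix.transpose_mul, h1, Matrix.transpose_one]
  refine ⟨⟨Pᵀ * Matrix.J (Fin m) F * P, P' * -Matrix.J (Fin m) F * P'ᵀ, ?_, ?_⟩, rfl, ?_⟩
  · calc Pᵀ * Matrix.J (Fin m) F * P * (P' * -Matrix.J (Fin m) F * P'ᵀ)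
        = Pᵀ * (Matrix.J (Fin m) F * ((P * P') * (-Matrix.J (Fin m) F * P'ᵀ))) := by
          simp only [Matrix.mul_assoc]
      _ = 1 := by rw [h1, Matrix.one_mul, ← Matrix.mul_assoc (Matrix.J (Fin m) F), hJ,
          Matrix.one_mul, hT]
  · calc P' * -Matrix.J (Fin m) F * P'ᵀ * (Pᵀ * Matrix.J (Fin m) F * P)
        = P' * (-Matrix.J (Fin m) F * ((P'ᵀ * Pᵀ) * (Matrix.J (Fin m) F * P))) := by
          simp only [Matrix.mul_assoc]
      _ = 1 := by rw [hT', Matrix.one_mul, ← Matrix.mul_assoc (-Matrix.J (Fin m) F), hJ',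
          Matrix.one_mul, h1']
  · show (Pᵀ * Matrix.J (Fin m) F * P)ᵀ = -(Pᵀ * Matrix.J (Fin m) F * P)
    rw [Matrix.transpose_mul, Matrix.transpose_mul, Matrix.transpose_transpose,
      Matrix.J_transpose, Matrix.neg_mul, Matrix.mul_neg, Matrix.mul_assoc]

/-- A symmetric invertible matrix of prescribed determinant. -/
theorem exists_sym_of_det (hn : 0 < n) (d : F) (hd : d ≠ 0) :
    ∃ M : GL (Fin n) F, (M.1)ᵀ = M.1 ∧ M.1.det = d := by
  have hdet : (Matrix.diagonal (Function.update (fun _ : Fin n => (1 : F)) ⟨0, hn⟩ d)).det = d := by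
    rw [Matrix.det_diagonal, Finset.prod_update_of_mem (Finset.mem_univ _)]
    simp
  have hdet' : (Matrix.diagonal (Function.update (fun _ : Fin n => (1 : F)) ⟨0, hn⟩ d)).det ≠ 0 := by
    rw [hdet]
    exact hd
  refine ⟨Matrix.GeneralLinearGroup.mkOfDetNeZero _ hdet', ?_, hdet⟩
  exact Matrix.diagonal_transpose _

section classify

/-- Every involutory graph automorphism is conjugate to one of three representatives. -/
theorem classify {F : Type*} [Field F] [Fintype F] (h2 : (2 : F) ≠ 0) {n : ℕ} (hn : 3 ≤ n)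
    (M₁ M₂ M₃ : GL (Fin n) F) (h₁ : (M₁.1)ᵀ = -M₁.1) (h₂ : (M₂.1)ᵀ = M₂.1)
    (h₃ : (M₃.1)ᵀ = M₃.1) (D : F) (hD : ¬ IsSquare D) (hdet : M₃.1.det = M₂.1.det * D)
    (γ : MulAut (Matrix.ProjectiveSpecialLinearGroup (Fin n) F))
    (hγ : Cfsg.IsGraphAutClassPSL γ) (hγ2 : orderOf γ = 2) :
    Cfsg.IsConjUnder (Cfsg.inndiagPSL n F) (tauG M₁) γ ∨
      Cfsg.IsConjUnder (Cfsg.inndiagPSL n F) (tauG M₂) γ ∨
      Cfsg.IsConjUnder (Cfsg.inndiagPSL n F) (tauG M₃) γ := by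
  obtain ⟨M, rfl⟩ := exists_tauG_of_graph γ hγ
  have hd : ∀ M : GL (Fin n) F, M.1.det ≠ 0 := fun M => Matrix.GeneralLinearGroup.det_ne_zero M
  have hD0 : D ≠ 0 := by
    rintro rfl
    exact hD ⟨0, by simp⟩
  rcases transpose_eq_of_orderOf (by omega) M hγ2 with hM | hM
  · right
    by_cases hsq : IsSquare (M.1.det * M₂.1.det)
    · left
      obtain ⟨k, hk⟩ := exists_congr_of_disc h2 M.1 M₂.1 hM h₂ (hd M) (hd M₂) hsq
      exact conj_of_congr M₂ M k hk
    · right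
      have hsq' : IsSquare (M.1.det * M₃.1.det) := by
        rw [hdet, ← mul_assoc,
          Cfsg.Agent.Lib.Helper25.Spin.isSquare_mul_iff (mul_ne_zero (hd M) (hd M₂)) hD0]
        exact ⟨fun h => absurd h hsq, fun h => absurd h hD⟩
      obtain ⟨k, hk⟩ := exists_congr_of_disc h2 M.1 M₃.1 hM h₃ (hd M) (hd M₃) hsq'
      exact conj_of_congr M₃ M k hk
  · left
    obtain ⟨k, hk⟩ := exists_congr_of_skew h2 M.1 M₁.1 hM h₁ (hd M) (hd M₁)
    exact conj_of_congr M₁ M k hk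

end classify

end cent

end Cfsg.Agent.Lib.Helper25.GraphInv
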