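import Cfsg.Agent.Lib.Helper25.GraphInv4

set_option autoImplicit false

/-!
# Involutory graph automorphisms of `PSL_n`: odd dimension, and general transport lemmas
-/

namespace Cfsg.Agent.Lib.Helper25.GraphInv

open Module Matrix QuadraticMap Cfsg Cfsg.Agent.Lib.Helper18.PSLnAut
  Cfsg.Agent.Lib.Helper18.PSLnFld Cfsg.Agent.Lib.Helper25.InvTrans

section gen

variable {n : ℕ} {F : Type*} [Field F] {ι₂ : Type} [Fintype ι₂] [DecidableEq ι₂]

/-- A nondegenerate quadratic form is equivalent to the quadratic form of any symmetric matrix of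
the same discriminant class (finite field, odd characteristic). -/
theorem exists_change_of_sym_gen [Finite F] (h2 : (2 : F) ≠ 0)
    (Q₂ : QuadraticForm F (ι₂ → F)) (hQ₂ : (polarBilin Q₂).Nondegenerate)
    (hcard : Fintype.card ι₂ = n)
    (M : Matrix (Fin n) (Fin n) F) (hM : Mᵀ = M) (hdet : M.det ≠ 0)
    (hsq : IsSquare ((2 : F) ^ n * M.det *
      (Matrix.of (fun i j : ι₂ => polar ⇑Q₂ (Pi.single i 1) (Pi.single j 1))).det)) :
    ∃ (P : Matrix ι₂ (Fin n) F) (P' : Matrix (Fin n) ι₂ F), P * P' = 1 ∧ P' * P = 1 ∧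
      ∀ w, Q₂ (P *ᵥ w) = symQ M w := by
  classical
  have hc : Fintype.card ι₂ = Fintype.card (Fin n) := by rw [hcard, Fintype.card_fin]
  obtain ⟨b₂, hb₂⟩ : ∃ b₂ : Basis (Fin n) F (ι₂ → F),
      b₂ = (Pi.basisFun F ι₂).reindex (Fintype.equivOfCardEq hc) := ⟨_, rfl⟩
  obtain ⟨B₁, hB₁⟩ : ∃ B₁ : LinearMap.BilinForm F (Fin n → F),
      B₁ = Matrix.toBilin' ((2 : F) • M) := ⟨_, rfl⟩
  have hB₁a : ∀ x y, B₁ x y = 2 * (x ⬝ᵥ M *ᵥ y) := by
    intro x y
    rw [hB₁, Matrix.toBilin'_apply', Matrix.smul_mulVec, dotProduct_smul, smul_eq_mul]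
  have hS₁ : B₁.IsSymm := by
    rw [hB₁, Matrix.isSymm_toBilin'_iff_isSymm]
    exact Matrix.IsSymm.smul hM 2
  have hd₁ : (LinearMap.BilinForm.toMatrix (Pi.basisFun F (Fin n)) B₁).det = 2 ^ n * M.det := by
    rw [LinearMap.BilinForm.toMatrix_basisFun, hB₁, LinearMap.BilinForm.toMatrix'_toBilin',
      Matrix.det_smul, Fintype.card_fin]
  have hN₁ : B₁.Nondegenerate := by
    rw [LinearMap.BilinForm.nondegenerate_iff_det_ne_zero (Pi.basisFun F (Fin n)), hd₁]
    exact mul_ne_zero (pow_ne_zero _ h2) hdet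
  have hS₂ : LinearMap.BilinForm.IsSymm (polarBilin Q₂) := by
    constructor
    intro x y
    rw [polarBilin_apply_apply, polarBilin_apply_apply, polar_comm]
  have hd₂ : (LinearMap.BilinForm.toMatrix b₂ (polarBilin Q₂)).det =
      (Matrix.of (fun i j : ι₂ => polar ⇑Q₂ (Pi.single i 1) (Pi.single j 1))).det := by
    rw [hb₂, DiscType.toMatrix_reindex, Matrix.det_submatrix_equiv_self,
      LinearMap.BilinForm.toMatrix_basisFun]
    congr 1
  obtain ⟨g, hg⟩ := DiscType.exists_isometry_of_disc h2 (Pi.basisFun F (Fin n)) b₂ B₁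
    (polarBilin Q₂) hS₁ hS₂ hN₁ hQ₂ (by
      rw [hd₁, hd₂]
      exact hsq)
  obtain ⟨P, P', h1, h1', hP⟩ := exists_mat_of_linearEquiv g
  refine ⟨P, P', h1, h1', fun w => ?_⟩
  rw [hP]
  have h3 := hg w w
  rw [polarBilin_apply_apply, hB₁a] at h3
  have h4 : polar ⇑Q₂ (g w) (g w) = 2 * Q₂ (g w) := by
    rw [QuadraticMap.polar_self]
    simp
  rw [h4] at h3
  exact mul_left_cancel₀ h2 h3

/-- The Gram determinant of a nondegenerate quadratic form is nonzero. -/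
theorem gram_det_ne_zero (Q₂ : QuadraticForm F (ι₂ → F)) (hQ₂ : (polarBilin Q₂).Nondegenerate) :
    (Matrix.of (fun i j : ι₂ => polar ⇑Q₂ (Pi.single i 1) (Pi.single j 1))).det ≠ 0 := by
  have h := (LinearMap.BilinForm.nondegenerate_iff_det_ne_zero (Pi.basisFun F ι₂)).1 hQ₂
  rw [LinearMap.BilinForm.toMatrix_basisFun] at h
  have e : (Matrix.of (fun i j : ι₂ => polar ⇑Q₂ (Pi.single i 1) (Pi.single j 1))) =
      LinearMap.BilinForm.toMatrix' (polarBilin Q₂) := by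
    ext i j
    rw [Matrix.of_apply, LinearMap.BilinForm.toMatrix'_apply, polarBilin_apply_apply]
  rw [e]
  exact h

/-- In odd dimension the centraliser of `tauG M`, `M` symmetric, is the projective similarity
group of any nondegenerate quadratic form. -/
theorem nonempty_centralizer_sym_odd [Finite F] (hn : 2 ≤ n) (h2 : (2 : F) ≠ 0)
    (Q₂ : QuadraticForm F (ι₂ → F)) (hQ₂ : (polarBilin Q₂).Nondegenerate)
    (hcard : Fintype.card ι₂ = n) (hodd : Odd n)
    (M : GL (Fin n) F) (hM : (M.1)ᵀ = M.1) :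
    Nonempty (↥(Cfsg.inndiagPSL n F ⊓ Subgroup.centralizer {tauG M}) ≃* Cfsg.PGO F ⇑Q₂) := by
  have hdet : M.1.det ≠ 0 := Matrix.GeneralLinearGroup.det_ne_zero M
  have hG := gram_det_ne_zero Q₂ hQ₂
  obtain ⟨G, hGe⟩ : ∃ G : F, G =
    (Matrix.of (fun i j : ι₂ => polar ⇑Q₂ (Pi.single i 1) (Pi.single j 1))).det := ⟨_, rfl⟩
  rw [← hGe] at hG
  obtain ⟨c, hc⟩ : ∃ c : F, c = 2 * M.1.det * G := ⟨_, rfl⟩
  have hc0 : c ≠ 0 := by
    rw [hc]
    exact mul_ne_zero (mul_ne_zero h2 hdet) hG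
  obtain ⟨j, hj⟩ := hodd
  have hMc : ((c • M.1 : Matrix (Fin n) (Fin n) F))ᵀ = c • M.1 := by
    rw [Matrix.transpose_smul, hM]
  have hdc : (c • M.1 : Matrix (Fin n) (Fin n) F).det = c ^ n * M.1.det := by
    rw [Matrix.det_smul, Fintype.card_fin]
  obtain ⟨P, P', h1, h1', hP⟩ := exists_change_of_sym_gen h2 Q₂ hQ₂ hcard (c • M.1) hMc
    (by rw [hdc]; exact mul_ne_zero (pow_ne_zero _ hc0) hdet)
    (by
      rw [hdc, ← hGe]
      refine ⟨2 ^ j * c ^ j * (2 * M.1.det * G), ?_⟩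
      have e1 : (2 : F) ^ n = 2 ^ (2 * j) * 2 := by rw [hj, pow_succ]
      have e2 : c ^ n = c ^ (2 * j) * c := by rw [hj, pow_succ]
      rw [e1, e2]
      linear_combination ((2 : F) ^ (2 * j) * c ^ (2 * j) * 2 * M.1.det * G) * hc)
  refine nonempty_centralizer_equiv' hn _ P P' h1 h1' (tauG M) fun g => ?_
  rw [conjAHom_mem_centralizer_tauG_iff hn, ← mem_quadSim_iff h2 M.1 hM,
    glCongr_mem_sim_iff P P' h1 h1' (symQ M.1) (⇑Q₂) c hc0
      (fun w => by
        rw [hP]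
        unfold symQ
        rw [Matrix.smul_mulVec, dotProduct_smul, smul_eq_mul])]

/-- In odd dimension and odd characteristic there are no invertible skew-symmetric matrices. -/
theorem not_skew_of_odd (h2 : (2 : F) ≠ 0) (hodd : Odd n) (M : GL (Fin n) F)
    (hM : (M.1)ᵀ = -M.1) : False := by
  have h1 := congrArg Matrix.det hM
  rw [Matrix.det_transpose, Matrix.det_neg, Fintype.card_fin, hodd.neg_one_pow] at h1
  have h3 : (2 : F) * M.1.det = 0 := by linear_combination h1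
  rcases mul_eq_zero.1 h3 with h | h
  · exact h2 h
  · exact Matrix.GeneralLinearGroup.det_ne_zero M h

/-- In odd dimension all graph automorphisms coming from symmetric matrices are conjugate. -/
theorem conj_of_sym_odd [Finite F] (hn : 2 ≤ n) (h2 : (2 : F) ≠ 0) (hodd : Odd n)
    (M M' : GL (Fin n) F) (hM : (M.1)ᵀ = M.1) (hM' : (M'.1)ᵀ = M'.1) :
    Cfsg.IsConjUnder (Cfsg.inndiagPSL n F) (tauG M) (tauG M') := by
  have hd : ∀ M : GL (Fin n) F, M.1.det ≠ 0 := fun M => Matrix.GeneralLinearGroup.det_ne_zero M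
  obtain ⟨c, hc⟩ : ∃ c : Fˣ, (c : F) = M.1.det * M'.1.det :=
    ⟨Units.mk0 _ (mul_ne_zero (hd M) (hd M')), rfl⟩
  have hM'' : ((M' * scalarGL c : GL (Fin n) F) : Matrix (Fin n) (Fin n) F) = (c : F) • M'.1 :=
    coe_mul_scalarGL M' c
  obtain ⟨j, hj⟩ := hodd
  obtain ⟨k, hk⟩ := exists_congr_of_disc h2 (M' * scalarGL c : GL (Fin n) F).1 M.1
    (by
      show ((M' * scalarGL c : GL (Fin n) F) : Matrix (Fin n) (Fin n) F)ᵀ = _
      rw [hM'', Matrix.transpose_smul, hM'])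
    hM (hd _) (hd M) (by
      show IsSquare (((M' * scalarGL c : GL (Fin n) F) : Matrix (Fin n) (Fin n) F).det * _)
      rw [hM'', Matrix.det_smul, Fintype.card_fin]
      refine ⟨(c : F) ^ (j + 1), ?_⟩
      have e2 : (c : F) ^ n = (c : F) ^ (2 * j) * c := by rw [hj, pow_succ]
      rw [e2]
      linear_combination (-((c : F) ^ (2 * j) * c)) * hc)
  have h3 := conj_of_congr M (M' * scalarGL c) k hk
  rw [tauG_smul hn M' (M' * scalarGL c) c hM''] at h3
  exact h3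

end gen

section bil

variable {n : ℕ} {F : Type*} [Field F] {ι₂ : Type} [Fintype ι₂] [DecidableEq ι₂]

/-- The centraliser of `tauG M` when `M = Pᵀ M₂ P`. -/
theorem nonempty_centralizer_bil (hn : 2 ≤ n) (M₂ : Matrix ι₂ ι₂ F)
    (P : Matrix ι₂ (Fin n) F) (P' : Matrix (Fin n) ι₂ F)
    (h1 : P * P' = 1) (h1' : P' * P = 1) (M : GL (Fin n) F)
    (hM : M.1 = Pᵀ * M₂ * P) :
    Nonempty (↥(Cfsg.inndiagPSL n F ⊓ Subgroup.centralizer {tauG M}) ≃*
      Cfsg.projQuot (Geo.similarityGroup (F := F) (bilM M₂))) := by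
  refine nonempty_centralizer_equiv' hn _ P P' h1 h1' (tauG M) fun g => ?_
  rw [conjAHom_mem_centralizer_tauG_iff hn, mem_similarityGroup_iff, hM]
  constructor
  · rintro ⟨c, hc⟩
    exact ⟨c, (congr_transport P P' h1 h1' _ g.1 c).2 hc⟩
  · rintro ⟨c, hc⟩
    exact ⟨c, (congr_transport P P' h1 h1' _ g.1 c).1 hc⟩

/-- Two matrices with the same canonical form give conjugate automorphisms. -/
theorem conj_of_canon (M₂ : Matrix ι₂ ι₂ F)
    (P : Matrix ι₂ (Fin n) F) (P' : Matrix (Fin n) ι₂ F) (h1 : P * P' = 1) (h1' : P' * P = 1)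
    (R : Matrix ι₂ (Fin n) F) (R' : Matrix (Fin n) ι₂ F) (h3 : R * R' = 1) (h3' : R' * R = 1)
    (M M' : GL (Fin n) F) (hM : M.1 = Pᵀ * M₂ * P) (hM' : M'.1 = Rᵀ * M₂ * R) :
    Cfsg.IsConjUnder (Cfsg.inndiagPSL n F) (tauG M) (tauG M') := by
  have e1 : (P' * R) * (R' * P) = 1 := by
    calc (P' * R) * (R' * P) = P' * ((R * R') * P) := by simp only [Matrix.mul_assoc]
      _ = 1 := by rw [h3, Matrix.one_mul, h1']
  have e2 : (R' * P) * (P' * R) = 1 := by
    calc (R' * P) * (P' * R) = R' * ((P * P') * R) := by simp only [Matrix.mul_assoc]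
      _ = 1 := by rw [h1, Matrix.one_mul, h3']
  refine conj_of_congr M M' ⟨P' * R, R' * P, e1, e2⟩ ?_
  show (P' * R)ᵀ * M.1 * (P' * R) = M'.1
  rw [hM, hM', Matrix.transpose_mul]
  calc Rᵀ * P'ᵀ * (Pᵀ * M₂ * P) * (P' * R)
      = Rᵀ * ((P'ᵀ * Pᵀ) * M₂ * (P * P')) * R := by simp only [Matrix.mul_assoc]
    _ = Rᵀ * M₂ * R := by
      rw [← Matrix.transpose_mul, h1, Matrix.transpose_one, Matrix.one_mul, Matrix.mul_one]

end bil

section compl

variable {ι : Type} [Fintype ι] [DecidableEq ι] {F : Type*} [Field F]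

/-- A matrix group which is the direct product of its scalars and a subgroup `I` has projective
quotient `I`. -/
theorem projQuot_equiv_of_compl (S I : Subgroup (GL ι F)) (hIS : I ≤ S)
    (h1 : ∀ g ∈ S, ∃ z ∈ Geo.scalars ι F, g * z ∈ I)
    (h2 : ∀ g ∈ I, g ∈ Geo.scalars ι F → g = 1) :
    Nonempty (Cfsg.projQuot S ≃* ↥I) := by
  let f : ↥I →* Cfsg.projQuot S :=
    (QuotientGroup.mk' ((Geo.scalars ι F).subgroupOf S)).comp (Subgroup.inclusion hIS)
  have hinj : Function.Injective f := by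
    rw [injective_iff_map_eq_one]
    intro g hg
    have h3 : Subgroup.inclusion hIS g ∈ (Geo.scalars ι F).subgroupOf S :=
      (QuotientGroup.eq_one_iff _).1 hg
    rw [Subgroup.mem_subgroupOf] at h3
    exact Subtype.ext (h2 g.1 g.2 h3)
  have hsurj : Function.Surjective f := by
    intro x
    obtain ⟨⟨g, hg⟩, rfl⟩ := QuotientGroup.mk_surjective x
    obtain ⟨z, hz, hzg⟩ := h1 g hg
    refine ⟨⟨g * z, hzg⟩, ?_⟩
    show QuotientGroup.mk (Subgroup.inclusion hIS ⟨g * z, hzg⟩) = QuotientGroup.mk ⟨g, hg⟩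
    rw [QuotientGroup.eq, Subgroup.mem_subgroupOf]
    show (g * z)⁻¹ * g ∈ Geo.scalars ι F
    have : (g * z)⁻¹ * g = z⁻¹ := by group
    rw [this]
    exact Subgroup.inv_mem _ hz
  exact ⟨(MulEquiv.ofBijective f ⟨hinj, hsurj⟩).symm⟩

end compl

end Cfsg.Agent.Lib.Helper25.GraphInv
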