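import Cfsg.Agent.Lib.Helper25.GraphInv16
import Cfsg.Agent.Lib.Helper25.POmegaSim3

set_option autoImplicit false

/-!
# The centraliser of a symmetric graph involution is not a projective conformal symplectic group
-/

namespace Cfsg.Agent.Lib.Helper25.GraphInv

open Module Matrix Cfsg QuadraticMap Cfsg.Agent.Lib.Helper18.PSLnAut
  Cfsg.Agent.Lib.Helper25.InvTrans Cfsg.Agent.Lib.Helper25.Spin Cfsg.Agent.Lib.Helper14

section qf

variable {n : ℕ} {F : Type*} [Field F]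

theorem dot_symm_of_sym (M : Matrix (Fin n) (Fin n) F) (hM : Mᵀ = M) (u v : Fin n → F) :
    v ⬝ᵥ M *ᵥ u = u ⬝ᵥ M *ᵥ v := by
  rw [Matrix.dotProduct_mulVec, ← Matrix.mulVec_transpose, hM, dotProduct_comm]

/-- The quadratic form of an invertible symmetric matrix. -/
theorem isQF_symQ (h2 : (2 : F) ≠ 0) (M : GL (Fin n) F) (hM : (M.1)ᵀ = M.1) :
    IsQF (symQ M.1) (fun u v => u ⬝ᵥ M.1 *ᵥ v + v ⬝ᵥ M.1 *ᵥ u) where
  polar u v := by
    unfold symQ
    rw [Matrix.mulVec_add, add_dotProduct, dotProduct_add, dotProduct_add]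
    ring
  q_smul c u := by
    unfold symQ
    rw [Matrix.mulVec_smul, smul_dotProduct, dotProduct_smul, smul_eq_mul, smul_eq_mul]
    ring
  b_add u v w := by
    show (u + v) ⬝ᵥ M.1 *ᵥ w + w ⬝ᵥ M.1 *ᵥ (u + v) = _
    rw [Matrix.mulVec_add, add_dotProduct, dotProduct_add]
    ring
  b_smul c u w := by
    show (c • u) ⬝ᵥ M.1 *ᵥ w + w ⬝ᵥ M.1 *ᵥ (c • u) = _
    rw [Matrix.mulVec_smul, smul_dotProduct, dotProduct_smul, smul_eq_mul, smul_eq_mul]
    ring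
  b_symm u v := add_comm _ _
  nondeg u hu := by
    have h1 : u ᵥ* M.1 ≠ 0 := by
      intro h
      apply hu
      have h3 : (u ᵥ* M.1) ᵥ* (M⁻¹ : GL (Fin n) F).1 = u := by
        rw [Matrix.vecMul_vecMul, gl_mul_inv, Matrix.vecMul_one]
      rw [← h3, h, Matrix.zero_vecMul]
    obtain ⟨i, hi⟩ : ∃ i, (u ᵥ* M.1) i ≠ 0 := by
      by_contra hne
      push Not at hne
      exact h1 (funext hne)
    refine ⟨Pi.single i 1, ?_⟩
    show u ⬝ᵥ M.1 *ᵥ Pi.single i 1 + Pi.single i 1 ⬝ᵥ M.1 *ᵥ u ≠ 0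
    rw [dot_symm_of_sym M.1 hM u (Pi.single i 1), Matrix.dotProduct_mulVec,
      dotProduct_single, mul_one]
    intro h
    have h3 : (2 : F) * (u ᵥ* M.1) i = 0 := by linear_combination h
    rcases mul_eq_zero.1 h3 with h4 | h4
    · exact h2 h4
    · exact hi h4

end qf

section main

variable {n : ℕ} {F : Type*} [Field F] [Fintype F]

/-- With a vector of norm one. -/
theorem not_pgsp_of_sym_aux (h2 : (2 : F) ≠ 0) {m : ℕ} (hnm : n = 2 * m) (hm : 2 ≤ m)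
    (M : GL (Fin n) F) (hM : (M.1)ᵀ = M.1) (u₀ : Fin n → F) (hu₀ : symQ M.1 u₀ = 1) :
    ¬ Nonempty (↥(Cfsg.inndiagPSL n F ⊓ Subgroup.centralizer {tauG M}) ≃* Cfsg.PGSp m F) := by
  have hn : 2 ≤ n := by omega
  rintro ⟨e⟩
  obtain ⟨Q, hQdef⟩ : ∃ Q : QuadraticForm F (Fin n → F), Q = qfOf (isQF_symQ h2 M hM) := ⟨_, rfl⟩
  have hQcoe : ⇑Q = symQ M.1 := by rw [hQdef]; rfl
  have hQ : (polarBilin Q).Nondegenerate := by rw [hQdef]; exact qfOf_nondeg _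
  have hu₀' : Q u₀ = 1 := by rw [hQcoe]; exact hu₀
  have hcard : Fintype.card (Fin n) = 2 * m := by rw [Fintype.card_fin, hnm]
  -- the centraliser as a projective similarity group
  obtain ⟨e'⟩ : Nonempty (↥(Cfsg.inndiagPSL n F ⊓ Subgroup.centralizer {tauG M}) ≃*
      Cfsg.PGO F ⇑Q) := by
    refine nonempty_centralizer_equiv' hn _ 1 1 (Matrix.one_mul 1) (Matrix.one_mul 1) (tauG M)
      fun g => ?_
    rw [conjAHom_mem_centralizer_tauG_iff hn, ← mem_quadSim_iff h2 M.1 hM,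
      glCongr_mem_sim_iff 1 1 (Matrix.one_mul 1) (Matrix.one_mul 1) (symQ M.1) (⇑Q) 1 one_ne_zero
        (fun w => by rw [one_mul, Matrix.one_mulVec, hQcoe])]
  -- a similarity with nonsquare multiplier
  obtain ⟨ν, hν⟩ := FiniteField.exists_nonsquare (F := F) (by
    rw [Ne, ringChar.eq_iff]
    intro hchar
    exact h2 (CharTwo.two_eq_zero))
  have hν0 : ν ≠ 0 := by
    rintro rfl
    exact hν ⟨0, by rw [mul_zero]⟩
  have hdetM : M.1.det ≠ 0 := Matrix.GeneralLinearGroup.det_ne_zero M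
  have hpow : ν ^ n = ν ^ m * ν ^ m := by rw [← pow_add, hnm, two_mul]
  obtain ⟨k, hk⟩ := exists_congr_of_disc h2 (ν • M.1) M.1
    (by rw [Matrix.transpose_smul, hM]) hM
    (by rw [Matrix.det_smul, Fintype.card_fin]; exact mul_ne_zero (pow_ne_zero _ hν0) hdetM) hdetM
    ⟨ν ^ m * M.1.det, by rw [Matrix.det_smul, Fintype.card_fin, hpow]; ring⟩
  have hkmem : k ∈ Geo.quadSimilarityGroup (F := F) ⇑Q := by
    rw [hQcoe, mem_quadSim_iff h2 M.1 hM]
    exact ⟨Units.mk0 ν hν0, hk⟩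
  have hmultk : (PSim.mult Q u₀ hu₀' ⟨k, hkmem⟩ : F) = ν := by
    rw [PSim.mult_val]
    have h3 : Q (k.1 *ᵥ u₀) = symQ M.1 (k.1 *ᵥ u₀) := congrFun hQcoe _
    show Q (k.1 *ᵥ u₀) = ν
    rw [h3]
    unfold symQ
    rw [dot_congr, hk, Matrix.smul_mulVec, dotProduct_smul, smul_eq_mul]
    have : u₀ ⬝ᵥ M.1 *ᵥ u₀ = 1 := hu₀
    rw [this, mul_one]
  have hsurj := PSim.Psi_surjective Q u₀ hu₀' h2 hQ hcard ⟨k, hkmem⟩ (by rw [hmultk]; exact hν)
  -- scalars are killed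
  have hker : (Geo.scalars (Fin n) F).subgroupOf (Geo.quadSimilarityGroup (F := F) ⇑Q) ≤
      (PSim.Psi Q u₀ hu₀' h2 hQ hcard).ker := by
    intro z hz
    rw [Subgroup.mem_subgroupOf, Geo.mem_scalars_iff] at hz
    obtain ⟨c, hc⟩ := hz
    rw [MonoidHom.mem_ker, PSim.Psi_eq_one_iff]
    have hmz : (PSim.mult Q u₀ hu₀' z : F) = c * c := by
      rw [PSim.mult_val, hc, Matrix.smul_mulVec, Matrix.one_mulVec, QuadraticMap.map_smul,
        hu₀', smul_eq_mul, mul_one]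
    refine ⟨⟨c, hmz⟩, ?_⟩
    unfold PSim.IsProper
    rw [hmz, hc, Matrix.det_smul, Matrix.det_one, mul_one, Fintype.card_fin, hnm, two_mul,
      pow_add, mul_pow]
  obtain ⟨φ, hφ⟩ : ∃ φ : Cfsg.PGO F ⇑Q →* ℤˣ × ℤˣ,
      ∀ g, φ (QuotientGroup.mk g) = PSim.Psi Q u₀ hu₀' h2 hQ hcard g :=
    ⟨QuotientGroup.lift _ (PSim.Psi Q u₀ hu₀' h2 hQ hcard) hker, fun g => rfl⟩
  have hφs : Function.Surjective φ := by
    intro t
    obtain ⟨g, rfl⟩ := hsurj t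
    exact ⟨_, hφ g⟩
  obtain ⟨f, hf⟩ : ∃ f : Cfsg.PGSp m F →* ℤˣ × ℤˣ, ∀ x, f x = φ (e' (e.symm x)) :=
    ⟨φ.comp (e'.toMonoidHom.comp e.symm.toMonoidHom), fun x => rfl⟩
  have hfs : Function.Surjective f := by
    intro t
    obtain ⟨y, rfl⟩ := hφs t
    refine ⟨e (e'.symm y), ?_⟩
    rw [hf, MulEquiv.symm_apply_apply, MulEquiv.apply_symm_apply]
  obtain ⟨a₀, ha₀⟩ := pgsp_hom_values h2 hm f
  obtain ⟨x₁, hx₁⟩ := hfs ((1, -1) : ℤˣ × ℤˣ)
  obtain ⟨x₂, hx₂⟩ := hfs ((-1, 1) : ℤˣ × ℤˣ)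
  have h1 : ((1, -1) : ℤˣ × ℤˣ) ≠ 1 := by decide
  have h2' : ((-1, 1) : ℤˣ × ℤˣ) ≠ 1 := by decide
  have h3 : ((1, -1) : ℤˣ × ℤˣ) ≠ (-1, 1) := by decide
  have e1 : a₀ = (1, -1) := by
    rcases ha₀ x₁ with h | h
    · rw [hx₁] at h; exact absurd h h1
    · rw [← h, hx₁]
  have e2 : a₀ = (-1, 1) := by
    rcases ha₀ x₂ with h | h
    · rw [hx₂] at h; exact absurd h h2'
    · rw [← h, hx₂]
  exact h3 (e1.symm.trans e2)

/-- The centraliser of a symmetric graph involution is not a projective conformal symplectic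
group. -/
theorem not_pgsp_of_sym (h2 : (2 : F) ≠ 0) {m : ℕ} (hnm : n = 2 * m) (hm : 2 ≤ m)
    (M : GL (Fin n) F) (hM : (M.1)ᵀ = M.1) :
    ¬ Nonempty (↥(Cfsg.inndiagPSL n F ⊓ Subgroup.centralizer {tauG M}) ≃* Cfsg.PGSp m F) := by
  have hn : 2 ≤ n := by omega
  obtain ⟨v, hv⟩ : ∃ v : Fin n → F, symQ M.1 v ≠ 0 := by
    by_contra hne
    push Not at hne
    obtain ⟨hd, hs⟩ := (Cfsg.Agent.Lib.Helper15.quad_vanish_iff M.1).1 hne
    have hM0 : M.1 = 0 := by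
      ext i j
      have h3 := hs i j
      have h4 : M.1 j i = M.1 i j := by
        have := congrFun (congrFun hM i) j
        rwa [Matrix.transpose_apply] at this
      rw [h4] at h3
      have h5 : (2 : F) * M.1 i j = 0 := by linear_combination h3
      rcases mul_eq_zero.1 h5 with h6 | h6
      · exact absurd h6 h2
      · exact h6
    have hdet : M.1.det ≠ 0 := Matrix.GeneralLinearGroup.det_ne_zero M
    apply hdet
    rw [hM0]
    haveI : Nonempty (Fin n) := ⟨⟨0, by omega⟩⟩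
    exact Matrix.det_zero
  obtain ⟨c, hc⟩ : ∃ c : Fˣ, (c : F) = (symQ M.1 v)⁻¹ := ⟨Units.mk0 _ (inv_ne_zero hv), rfl⟩
  have hM' : ((M * scalarGL c : GL (Fin n) F).1)ᵀ = (M * scalarGL c : GL (Fin n) F).1 := by
    rw [coe_mul_scalarGL, Matrix.transpose_smul, hM]
  have hu : symQ (M * scalarGL c : GL (Fin n) F).1 v = 1 := by
    unfold symQ
    rw [coe_mul_scalarGL, Matrix.smul_mulVec, dotProduct_smul, smul_eq_mul, hc]
    exact inv_mul_cancel₀ hv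
  have ht : tauG (M * scalarGL c) = tauG M := tauG_smul hn M _ c (coe_mul_scalarGL M c)
  rw [← ht]
  exact not_pgsp_of_sym_aux h2 hnm hm _ hM' v hu

end main

end Cfsg.Agent.Lib.Helper25.GraphInv
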