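import Cfsg.Agent.Lib.Helper25.PSUGraph2

set_option autoImplicit false

/-!
# Kernel and range of the similitude action on `PSU_n`
-/

namespace Cfsg.Agent.Lib.Helper25.PSUG

open Matrix Cfsg Cfsg.Agent.Lib.Helper18.PSLnAut Cfsg.Agent.Lib.Helper18.PSLnFld
  Cfsg.Agent.Lib.Helper14

section perfect

/-- A homomorphism from a perfect group to a group with commuting elements is trivial. -/
theorem hom_eq_one_of_perfect' {G A : Type*} [Group G] [Group A] (h : commutator G = ⊤)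
    (φ : G →* A) (hc : ∀ a b : A, a * b = b * a) (x : G) : φ x = 1 := by
  have h1 : commutator G ≤ φ.ker := by
    rw [commutator_def, Subgroup.commutator_le]
    intro a _ b _
    rw [MonoidHom.mem_ker, map_commutatorElement, commutatorElement_def, hc (φ a) (φ b)]
    group
  rw [h] at h1
  exact h1 (Subgroup.mem_top x)

end perfect

section ker

variable {n : ℕ} {F : Type*} [Field F] [Fintype F] {q : ℕ}

/-- A similitude acting trivially on `PSU_n` centralises `SU_n`. -/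
theorem conjMatU_eq_self_of_ker (hF : Fintype.card F = q ^ 2) (hn : 3 ≤ n)
    (h32 : ¬ (n = 3 ∧ q = 2)) (g : ↥(GUs n F q))
    (hg : (conjUHom g : MulAut (Cfsg.PSU n F q)) = 1) (s : ↥(Cfsg.SU n F q)) :
    conjMatU g s = s := by
  have hz : ∀ s : ↥(Cfsg.SU n F q), s⁻¹ * conjMatU g s ∈ Subgroup.center ↥(Cfsg.SU n F q) := by
    intro s
    have h1 : conjUHom g (piU s) = piU s := by rw [hg]; rfl
    rw [conjUHom_apply, conjU_piU] at h1
    rw [← piU_eq_one_iff, map_mul, map_inv, h1, inv_mul_cancel]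
  obtain ⟨φ, hφ⟩ : ∃ φ : ↥(Cfsg.SU n F q) →* ↥(Subgroup.center ↥(Cfsg.SU n F q)),
      ∀ s, (φ s).1 = s⁻¹ * conjMatU g s := by
    refine ⟨MonoidHom.mk' (fun s => ⟨s⁻¹ * conjMatU g s, hz s⟩) (fun s t => Subtype.ext ?_),
      fun s => rfl⟩
    show (s * t)⁻¹ * conjMatU g (s * t) = (s⁻¹ * conjMatU g s) * (t⁻¹ * conjMatU g t)
    have h1 := (Subgroup.mem_center_iff.1 (hz s)) t⁻¹
    rw [conjMatU_mul, _root_.mul_inv_rev]
    calc t⁻¹ * s⁻¹ * (conjMatU g s * conjMatU g t)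
        = t⁻¹ * (s⁻¹ * conjMatU g s) * conjMatU g t := by group
      _ = (s⁻¹ * conjMatU g s) * t⁻¹ * conjMatU g t := by rw [h1]
      _ = _ := by group
  have h1 := hom_eq_one_of_perfect'
    (Cfsg.Agent.Lib.Helper5.PSUSimple.commutator_SU_eq_top hF hn h32) φ
    (fun a b => Subtype.ext ((Subgroup.mem_center_iff.1 b.2) a.1)) s
  have h2 := hφ s
  rw [h1] at h2
  have h3 : s⁻¹ * conjMatU g s = 1 := h2.symm
  rw [inv_mul_eq_one] at h3
  exact h3.symm

theorem ker_conjUHom (hF : Fintype.card F = q ^ 2) (hn : 3 ≤ n) (h32 : ¬ (n = 3 ∧ q = 2)) :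
    (conjUHom (n := n) (F := F) (q := q)).ker =
      (Geo.scalars (Fin n) F).subgroupOf (GUs n F q) := by
  classical
  ext g
  rw [MonoidHom.mem_ker, Subgroup.mem_subgroupOf, Geo.mem_scalars_iff]
  constructor
  · intro hg
    obtain ⟨m, rfl⟩ : ∃ m, n = m + 2 := ⟨n - 2, by omega⟩
    have hcomm : ∀ M : Matrix (Fin (m + 2)) (Fin (m + 2)) F, M.det = 1 → IsUni F q (m + 2) M →
        M * (g.1 : Matrix (Fin (m + 2)) (Fin (m + 2)) F) =
          (g.1 : Matrix (Fin (m + 2)) (Fin (m + 2)) F) * M := by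
      intro M hdet hU
      have h1 := conjMatU_eq_self_of_ker hF hn h32 g hg ⟨⟨M, hdet⟩, hU⟩
      have h2 := congrArg (fun s : ↥(Cfsg.SU (m + 2) F q) =>
        (s.1 : Matrix (Fin (m + 2)) (Fin (m + 2)) F)) h1
      simp only [conjMatU_coe] at h2
      have h3 : (g.1 : Matrix (Fin (m + 2)) (Fin (m + 2)) F) * M *
          ((g.1⁻¹ : GL (Fin (m + 2)) F) : Matrix (Fin (m + 2)) (Fin (m + 2)) F) = M := h2
      calc M * (g.1 : Matrix (Fin (m + 2)) (Fin (m + 2)) F)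
          = (g.1 : Matrix (Fin (m + 2)) (Fin (m + 2)) F) * M *
            ((g.1⁻¹ : GL (Fin (m + 2)) F) : Matrix (Fin (m + 2)) (Fin (m + 2)) F) *
              (g.1 : Matrix (Fin (m + 2)) (Fin (m + 2)) F) := by rw [h3]
        _ = (g.1 : Matrix (Fin (m + 2)) (Fin (m + 2)) F) * M := by
            rw [Matrix.mul_assoc, gl_inv_mul, Matrix.mul_one]
    have hsc := Cfsg.Agent.Lib.Helper5.GUCenter.comm_scalar hF
      (g.1 : Matrix (Fin (m + 2)) (Fin (m + 2)) F) hcomm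
    have hc0 : (g.1 : Matrix (Fin (m + 2)) (Fin (m + 2)) F) 0 0 ≠ 0 := by
      intro h0
      rw [h0] at hsc
      have hdet : (g.1 : Matrix (Fin (m + 2)) (Fin (m + 2)) F).det ≠ 0 :=
        Matrix.GeneralLinearGroup.det_ne_zero g.1
      apply hdet
      rw [hsc, Matrix.det_diagonal]
      simp
    refine ⟨Units.mk0 _ hc0, ?_⟩
    rw [Units.val_mk0, Matrix.smul_one_eq_diagonal]
    exact hsc
  · rintro ⟨c, hc⟩
    have h1 := conjUHom_eq_of_smul (1 : ↥(GUs n F q)) g (c : F) c.ne_zero (by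
      rw [hc]
      rfl)
    rw [h1, map_one]

end ker

section range

variable {n : ℕ} {F : Type*} [Field F] [Finite F] {q : ℕ}

/-- Every similitude is a scalar multiple of a unitary matrix. -/
theorem exists_GU_smul (ρ : RingAut F) (hρ : ∀ a, ρ a = a ^ q) (hρo : orderOf ρ = 2)
    (hn : 0 < n) (g : ↥(GUs n F q)) :
    ∃ (g' : ↥(GUs n F q)) (d : F), d ≠ 0 ∧ g'.1 ∈ Cfsg.GU n F q ∧
      (g'.1 : Matrix (Fin n) (Fin n) F) = d • (g.1 : Matrix (Fin n) (Fin n) F) := by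
  have hρρ : ρ * ρ = 1 := by rw [← pow_two, ← hρo]; exact pow_orderOf_eq_one ρ
  have hρ2 : ∀ a, ρ (ρ a) = a := by
    intro a
    have := congrArg (fun τ : RingAut F => τ a) hρρ
    exact this
  obtain ⟨c, hc⟩ := (mem_GUs_iff_gram ρ hρ g.1).1 g.2
  have hcfix : ρ (c : F) = c := multiplier_fixed ρ hρ2 hn _ _ hc
  obtain ⟨d, hd0, hd⟩ := exists_nrm_eq ρ 2 hρo (by norm_num) ((c : F)⁻¹)
    (inv_ne_zero c.ne_zero) (by rw [map_inv₀, hcfix])
  have hd' : d * ρ d = (c : F)⁻¹ := by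
    rw [← hd]
    unfold nrm
    simp [Finset.prod_range_succ]
  obtain ⟨du, hdu⟩ : ∃ du : Fˣ, (du : F) = d := ⟨Units.mk0 d hd0, rfl⟩
  have hmem : g.1 * Cfsg.Agent.Lib.Helper25.InvTrans.scalarGL du ∈ Cfsg.GU n F q := by
    rw [mem_GU_iff_gram ρ q hρ, Cfsg.Agent.Lib.Helper25.GraphInv.coe_mul_scalarGL, hdu,
      Matrix.transpose_smul, Matrix.smul_mul]
    have h1 : (d • (g.1 : Matrix (Fin n) (Fin n) F)).map ρ =
        ρ d • (g.1 : Matrix (Fin n) (Fin n) F).map ρ := by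
      ext i j
      simp
    rw [h1, Matrix.mul_smul, hc, smul_smul, smul_smul, hd', inv_mul_cancel₀ c.ne_zero, one_smul]
  refine ⟨⟨_, GU_le_GUs hmem⟩, d, hd0, hmem, ?_⟩
  rw [Cfsg.Agent.Lib.Helper25.GraphInv.coe_mul_scalarGL, hdu]

theorem range_conjUHom (ρ : RingAut F) (hρ : ∀ a, ρ a = a ^ q) (hρo : orderOf ρ = 2)
    (hn : 0 < n) :
    (conjUHom (n := n) (F := F) (q := q)).range = Cfsg.inndiagPSU n F q := by
  unfold Cfsg.inndiagPSU Cfsg.autSubgroupOf
  apply le_antisymm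
  · rintro _ ⟨g, rfl⟩
    obtain ⟨g', d, hd0, hg', hgd⟩ := exists_GU_smul ρ hρ hρo hn g
    apply Subgroup.subset_closure
    rw [Set.mem_setOf_eq, isInnerDiagonal_iff]
    exact ⟨g', hg', (conjUHom_eq_of_smul g g' d hd0 hgd).symm⟩
  · rw [Subgroup.closure_le]
    intro β hβ
    obtain ⟨g, -, rfl⟩ := (isInnerDiagonal_iff β).1 hβ
    exact ⟨g, rfl⟩

end range

end Cfsg.Agent.Lib.Helper25.PSUG
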