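import Cfsg.Agent.Lib.Helper25.PSUGraph5
import Cfsg.Agent.Lib.Helper5.HermBridge

set_option autoImplicit false

/-!
# The Frobenius data for a unitary group and its fixed field
-/

namespace Cfsg.Agent.Lib.Helper25.PSUG

open Matrix Cfsg Cfsg.Agent.Lib.Helper18.PSLnAut Cfsg.Agent.Lib.Helper18.PSLnFld
  Cfsg.Agent.Lib.Helper25.GraphInv Cfsg.Agent.Lib.Helper25.InvTrans

section frob

variable {F : Type*} [Field F] [Fintype F] {q : ℕ}

/-- The involution `x ↦ x^q` has order two. -/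
theorem orderOf_frob (hF : Fintype.card F = q ^ 2) (ρ : RingAut F) (hρ : ∀ a, ρ a = a ^ q) :
    orderOf ρ = 2 := by
  have hU := Cfsg.Agent.Lib.Helper5.HermBridge.herm_unitary (n := 1) hF
  apply orderOf_eq_prime
  · ext a
    show ρ (ρ a) = a
    rw [hρ, hρ]
    exact Cfsg.Agent.Lib.Helper5.HermBridge.pow_q_pow_q hF a
  · intro h1
    apply hU.ne_refl
    ext a
    rw [Cfsg.Agent.Lib.Helper5.HermBridge.frobQ_apply, ← hρ, h1]
    rfl

/-- The Frobenius data: the involution and an embedding of a field with `q` elements onto its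
fixed field. -/
theorem exists_frob_data (hF : Fintype.card F = q ^ 2) (F₀ : Type*) [Field F₀] [Fintype F₀]
    (hF₀ : Fintype.card F₀ = q) :
    ∃ ρ : RingAut F, (∀ a, ρ a = a ^ q) ∧ orderOf ρ = 2 ∧
      ∃ ι : F₀ →+* F, ∀ a : F, ρ a = a ↔ a ∈ Set.range ι := by
  obtain ⟨ρ, hρ⟩ : ∃ ρ : RingAut F, ∀ a, ρ a = a ^ q :=
    ⟨Cfsg.Agent.Lib.Helper5.HermBridge.frobQ hF,
      fun a => Cfsg.Agent.Lib.Helper5.HermBridge.frobQ_apply hF a⟩
  have hρo := orderOf_frob hF ρ hρ
  refine ⟨ρ, hρ, hρo, ?_⟩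
  obtain ⟨p, hp⟩ : ∃ p, p = ringChar F := ⟨_, rfl⟩
  haveI : CharP F p := by rw [hp]; exact ringChar.charP F
  haveI hpf : Fact p.Prime := ⟨CharP.char_is_prime F p⟩
  obtain ⟨f', -, hf'⟩ := FiniteField.card F p
  have hqdvd : q ∣ p ^ (f' : ℕ) := by
    rw [← hf', hF]
    exact dvd_pow_self q (by norm_num)
  obtain ⟨j, -, hj⟩ := (Nat.dvd_prime_pow hpf.out).1 hqdvd
  have h2j : (f' : ℕ) = 2 * j := by
    have h1 : p ^ (f' : ℕ) = p ^ (2 * j) := by
      rw [← hf', hF, hj, ← pow_mul, mul_comm]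
    exact Nat.pow_right_injective hpf.out.two_le h1
  have hF' : Fintype.card F = p ^ (2 * j) := by rw [← h2j]; exact hf'
  have hF₀' : Fintype.card F₀ = p ^ (2 * j / 2) := by
    rw [Nat.mul_div_cancel_left j (by norm_num : 0 < 2), hF₀, hj]
  exact (exists_fixed_embedding hF' ρ 2 hρo (by norm_num) F₀ hF₀').2

end frob

section field

variable {n : ℕ} {F : Type*} [Field F] [Fintype F] {F₀ : Type*} [Field F₀] [Fintype F₀] {q : ℕ}

/-- The centraliser of the standard graph involution (the field automorphism `x ↦ x^q`) is the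
projective similarity group of the sum of squares over the fixed field. -/
theorem nonempty_centralizer_field (hF : Fintype.card F = q ^ 2) (hn : 3 ≤ n)
    (h32 : ¬ (n = 3 ∧ q = 2)) (ρ : RingAut F) (hρ : ∀ a, ρ a = a ^ q) (hρo : orderOf ρ = 2)
    (ι : F₀ →+* F) (hι : ∀ a : F, ρ a = a ↔ a ∈ Set.range ι) :
    Nonempty (↥(Cfsg.inndiagPSU n F q ⊓
      Subgroup.centralizer {(fieldUHom ρ : MulAut (Cfsg.PSU n F q))}) ≃*
      Cfsg.projQuot (simG (1 : GL (Fin n) F₀))) := by
  have h := nonempty_centralizer_descent hF hn h32 ρ hρ hρo ι hι (1 : GL (Fin n) F) 1 one_ne_zero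
    (1 : GL (Fin n) F₀) (by
      rw [Units.val_one, Matrix.transpose_one, Matrix.one_mul, map_one_eq, one_smul]
      ext i j
      by_cases hij : i = j
      · subst hij
        simp
      · simp [hij]) (1 : ↥(GUs n F q)) (by
      rw [map_one, inv_one, mul_one]
      rfl)
  rw [map_one, one_mul] at h
  exact h

end field

end Cfsg.Agent.Lib.Helper25.PSUG
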