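import Cfsg.Agent.Lib.Helper25.PSUGraph11
import Cfsg.Agent.Lib.Helper25.GraphInv17

set_option autoImplicit false

/-!
# The number of `PSU_n`-classes in the `PGU_n`-class of an automorphism, as an index in the
norm-one group
-/

namespace Cfsg.Agent.Lib.Helper25.PSUG

open Matrix Cfsg Cfsg.Agent.Lib.Helper18.PSLnAut Cfsg.Agent.Lib.Helper18.PSLnFld
  Cfsg.Agent.Lib.Helper14 Cfsg.Agent.Lib.Helper25.InvTrans

section chi

variable {n : ℕ} {F : Type*} [Field F] {q : ℕ}

/-- The action of the unitary group on `PSU_n`. -/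
noncomputable def chiU : ↥(Cfsg.GU n F q) →* MulAut (Cfsg.PSU n F q) :=
  conjUHom.comp (Subgroup.inclusion GU_le_GUs)

theorem chiU_apply (g : ↥(Cfsg.GU n F q)) : chiU g = conjUHom ⟨g.1, GU_le_GUs g.2⟩ := rfl

theorem range_chiU : (chiU (n := n) (F := F) (q := q)).range = Cfsg.inndiagPSU n F q := by
  unfold Cfsg.inndiagPSU Cfsg.autSubgroupOf
  apply le_antisymm
  · rintro _ ⟨g, rfl⟩
    apply Subgroup.subset_closure
    rw [Set.mem_setOf_eq, isInnerDiagonal_iff]
    exact ⟨⟨g.1, GU_le_GUs g.2⟩, g.2, rfl⟩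
  · rw [Subgroup.closure_le]
    intro β hβ
    obtain ⟨g, hg, rfl⟩ := (isInnerDiagonal_iff β).1 hβ
    exact ⟨⟨g.1, hg⟩, rfl⟩

/-- Special unitary matrices as unitary matrices. -/
def toGLU : ↥(Cfsg.SU n F q) →* ↥(Cfsg.GU n F q) where
  toFun s := ⟨Matrix.SpecialLinearGroup.toGL s.1, s.2⟩
  map_one' := Subtype.ext (map_one _)
  map_mul' s t := Subtype.ext (map_mul _ s.1 t.1)

theorem toGLU_coe (s : ↥(Cfsg.SU n F q)) :
    (toGLU s).1 = Matrix.SpecialLinearGroup.toGL s.1 := rfl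

theorem chiU_toGLU (s : ↥(Cfsg.SU n F q)) : chiU (toGLU s) = MulAut.conj (piU s) := by
  ext x
  obtain ⟨x, rfl⟩ := piU_surjective x
  rw [MulAut.conj_apply, chiU_apply, conjUHom_apply, conjU_piU, ← map_inv, ← map_mul, ← map_mul]
  congr 1

theorem inn_le_range_chiU :
    Cfsg.Inn (Cfsg.PSU n F q) ≤ (chiU (n := n) (F := F) (q := q)).range := by
  rintro _ ⟨t, rfl⟩
  obtain ⟨s, rfl⟩ := piU_surjective t
  exact ⟨_, chiU_toGLU s⟩

theorem exists_toGLU_eq (g : ↥(Cfsg.GU n F q))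
    (h : Matrix.GeneralLinearGroup.det g.1 = 1) : ∃ s, toGLU s = g := by
  obtain ⟨s, hs⟩ := exists_toGL_eq g.1 h
  have hs' : s ∈ Cfsg.SU n F q := by
    show Matrix.SpecialLinearGroup.toGL s ∈ Cfsg.GU n F q
    rw [hs]
    exact g.2
  exact ⟨⟨s, hs'⟩, Subtype.ext hs⟩

theorem scalarGL_mem_GU (w : Fˣ) (hw : w ∈ normOne F q) :
    (scalarGL w : GL (Fin n) F) ∈ Cfsg.GU n F q := by
  intro u v
  show Cfsg.hermForm n F q (((scalarGL w : GL (Fin n) F) : Matrix (Fin n) (Fin n) F) *ᵥ u)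
    (((scalarGL w : GL (Fin n) F) : Matrix (Fin n) (Fin n) F) *ᵥ v) = Cfsg.hermForm n F q u v
  rw [scalarGL_coe, Matrix.smul_mulVec, Matrix.one_mulVec, Matrix.smul_mulVec,
    Matrix.one_mulVec]
  rw [mem_normOne] at hw
  have hw' : (w : F) ^ (q + 1) = 1 := by
    have := congrArg Units.val hw
    rwa [Units.val_pow_eq_pow_val, Units.val_one] at this
  unfold Cfsg.hermForm
  have : ∀ i, ((w : F) • u) i * (((w : F) • v) i) ^ q = (w : F) ^ (q + 1) * (u i * (v i) ^ q) := by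
    intro i
    simp only [Pi.smul_apply, smul_eq_mul]
    ring
  simp only [this, hw', one_mul]

/-- Norm-one scalars as unitary matrices. -/
def scalarGU (w : ↥(normOne F q)) : ↥(Cfsg.GU n F q) := ⟨scalarGL w.1, scalarGL_mem_GU w.1 w.2⟩

theorem chiU_scalarGU (w : ↥(normOne F q)) : chiU (scalarGU (n := n) w) = 1 := by
  rw [chiU_apply]
  have h1 := conjUHom_eq_of_smul (1 : ↥(GUs n F q)) ⟨(scalarGU (n := n) w).1, GU_le_GUs (scalarGU w).2⟩
    ((w.1 : Fˣ) : F) w.1.ne_zero (by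
      show ((scalarGL w.1 : GL (Fin n) F) : Matrix (Fin n) (Fin n) F) = _
      rw [scalarGL_coe]
      rfl)
  rw [h1, map_one]

theorem det_scalarGU (w : ↥(normOne F q)) :
    Matrix.GeneralLinearGroup.det (scalarGU (n := n) w).1 = w.1 ^ n := by
  apply Units.ext
  show ((scalarGL w.1 : GL (Fin n) F) : Matrix (Fin n) (Fin n) F).det = _
  rw [scalarGL_coe, Matrix.det_smul, Matrix.det_one, mul_one, Fintype.card_fin,
    Units.val_pow_eq_pow_val]

end chi

section detN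

variable {n : ℕ} {F : Type*} [Field F] [Fintype F] {q : ℕ}

/-- The determinant, from the unitary group to the norm-one group. -/
noncomputable def detN (hF : Fintype.card F = q ^ 2) : ↥(Cfsg.GU n F q) →* ↥(normOne F q) :=
  (detGU F q n).codRestrict (normOne F q) (fun g => by
    classical
    exact detGU_range_le hF ⟨g, rfl⟩)

theorem detN_coe (hF : Fintype.card F = q ^ 2) (g : ↥(Cfsg.GU n F q)) :
    (detN hF g).1 = Matrix.GeneralLinearGroup.det g.1 := rfl

theorem detN_surjective (hF : Fintype.card F = q ^ 2) (hn : 0 < n) :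
    Function.Surjective (detN (n := n) hF) := by
  classical
  intro w
  obtain ⟨m, rfl⟩ : ∃ m, n = m + 1 := ⟨n - 1, by omega⟩
  obtain ⟨g, hg⟩ := normOne_le_detGU_range hF m w.2
  exact ⟨g, Subtype.ext hg⟩

theorem detN_toGLU (hF : Fintype.card F = q ^ 2) (s : ↥(Cfsg.SU n F q)) :
    detN hF (toGLU s) = 1 := by
  apply Subtype.ext
  rw [detN_coe, toGLU_coe, det_toGL]
  rfl

theorem detN_scalarGU (hF : Fintype.card F = q ^ 2) (w : ↥(normOne F q)) :
    detN hF (scalarGU (n := n) w) = w ^ n := by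
  apply Subtype.ext
  rw [detN_coe, det_scalarGU]
  rfl

theorem ker_chiU_le (hF : Fintype.card F = q ^ 2) (hn : 3 ≤ n) (h32 : ¬ (n = 3 ∧ q = 2))
    (g : ↥(Cfsg.GU n F q)) (hg : chiU g = 1) : ∃ w : ↥(normOne F q), g = scalarGU w := by
  classical
  have h1 : (⟨g.1, GU_le_GUs g.2⟩ : ↥(GUs n F q)) ∈
      (conjUHom (n := n) (F := F) (q := q)).ker := hg
  rw [ker_conjUHom hF hn h32, Subgroup.mem_subgroupOf, Geo.mem_scalars_iff] at h1
  obtain ⟨c, hc⟩ := h1
  have hgc : g.1 = scalarGL c := by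
    apply Units.ext
    rw [scalarGL_coe]
    exact hc
  have hcN : c ∈ normOne F q := by
    rw [mem_normOne]
    have h2 : ∀ u v : Fin n → F, Cfsg.hermForm n F q
        (((g.1 : GL (Fin n) F) : Matrix (Fin n) (Fin n) F) *ᵥ u)
        (((g.1 : GL (Fin n) F) : Matrix (Fin n) (Fin n) F) *ᵥ v) = Cfsg.hermForm n F q u v := g.2
    have h3 := h2 (Pi.single ⟨0, by omega⟩ 1) (Pi.single ⟨0, by omega⟩ 1)
    rw [hgc, scalarGL_coe, Matrix.smul_mulVec, Matrix.one_mulVec] at h3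
    unfold Cfsg.hermForm at h3
    rw [Finset.sum_eq_single ⟨0, by omega⟩, Finset.sum_eq_single ⟨0, by omega⟩] at h3
    · simp only [Pi.smul_apply, Pi.single_eq_same, smul_eq_mul, mul_one, one_pow] at h3
      apply Units.ext
      rw [Units.val_pow_eq_pow_val, Units.val_one, pow_succ']
      exact h3
    · intro i _ hi
      simp [Pi.single_eq_of_ne hi]
    · intro h; exact absurd (Finset.mem_univ _) h
    · intro i _ hi
      simp [Pi.single_eq_of_ne hi]
    · intro h; exact absurd (Finset.mem_univ _) h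
  exact ⟨⟨c, hcN⟩, Subtype.ext hgc⟩

/-- The subgroup of the norm-one group attached to the class of `γ`. -/
noncomputable def detSubU (hF : Fintype.card F = q ^ 2) (γ : MulAut (Cfsg.PSU n F q)) :
    Subgroup ↥(normOne F q) :=
  (powMonoidHom n : ↥(normOne F q) →* ↥(normOne F q)).range ⊔
    ((Subgroup.centralizer {γ}).comap (chiU (n := n) (F := F) (q := q))).map (detN hF)

theorem mem_map_comap_detN_iff (hF : Fintype.card F = q ^ 2) (γ : MulAut (Cfsg.PSU n F q))
    (x : MulAut (Cfsg.PSU n F q)) :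
    x ∈ ((detSubU hF γ).comap (detN hF)).map chiU ↔
    ∃ k ∈ Cfsg.Inn (Cfsg.PSU n F q),
      ∃ c ∈ (chiU (n := n) (F := F) (q := q)).range ⊓ Subgroup.centralizer {γ},
        x = k * c := by
  constructor
  · rintro ⟨g, hg, rfl⟩
    rw [SetLike.mem_coe, Subgroup.mem_comap] at hg
    obtain ⟨y, ⟨lam, rfl⟩, z, ⟨h, hh, rfl⟩, hyz⟩ := Subgroup.mem_sup.1 hg
    have hdet : detN hF (g * (scalarGU lam * h)⁻¹) = 1 := by
      rw [map_mul, map_inv, map_mul, detN_scalarGU, ← hyz]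
      exact mul_inv_cancel _
    have hdet' : Matrix.GeneralLinearGroup.det (g * (scalarGU lam * h)⁻¹).1 = 1 := by
      rw [← detN_coe hF, hdet]
      rfl
    obtain ⟨s, hs⟩ := exists_toGLU_eq _ hdet'
    have hg' : g = toGLU s * (scalarGU lam * h) := by
      rw [hs, inv_mul_cancel_right]
    refine ⟨MulAut.conj (piU s), ⟨_, rfl⟩, chiU h, ⟨⟨_, rfl⟩, hh⟩, ?_⟩
    rw [hg', map_mul, map_mul, chiU_scalarGU, one_mul, chiU_toGLU]
  · rintro ⟨k, ⟨t, rfl⟩, c, ⟨⟨g₀, rfl⟩, hc⟩, rfl⟩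
    obtain ⟨s, rfl⟩ := piU_surjective t
    refine ⟨toGLU s * g₀, ?_, ?_⟩
    · rw [SetLike.mem_coe, Subgroup.mem_comap, map_mul, detN_toGLU, one_mul]
      exact Subgroup.mem_sup_right ⟨g₀, hc, rfl⟩
    · rw [map_mul, chiU_toGLU]

/-- The class of `γ` under `Inndiag` splits into `|N : detSubU γ|` classes under `PSU_n`. -/
theorem splitClassCount_U (hF : Fintype.card F = q ^ 2) (hn : 3 ≤ n) (h32 : ¬ (n = 3 ∧ q = 2))
    (γ : MulAut (Cfsg.PSU n F q)) :
    Cfsg.splitClassCount (Cfsg.inndiagPSU n F q) (Cfsg.Inn (Cfsg.PSU n F q)) γ =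
      (detSubU hF γ).index := by
  rw [← range_chiU, splitClassCount_eq _ _ inn_le_range_chiU
    (fun h _ k hk => (Cfsg.innNormal _).conj_mem k hk h) _ _
    (mem_map_comap_detN_iff hF γ)]
  rw [← Subgroup.index_comap, Subgroup.comap_map_eq]
  have hker : (chiU (n := n) (F := F) (q := q)).ker ≤ (detSubU hF γ).comap (detN hF) := by
    intro g hg
    obtain ⟨w, rfl⟩ := ker_chiU_le hF hn h32 g hg
    rw [Subgroup.mem_comap, detN_scalarGU]
    exact Subgroup.mem_sup_left ⟨w, rfl⟩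
  rw [sup_eq_left.2 hker]
  exact Subgroup.index_comap_of_surjective _ (detN_surjective hF (by omega))

end detN

end Cfsg.Agent.Lib.Helper25.PSUG
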