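import Cfsg.Agent.Lib.Helper25.PSUGraph8

set_option autoImplicit false

/-!
# Lang data of graph involutions of `PSU_n`
-/

namespace Cfsg.Agent.Lib.Helper25.PSUG

open Matrix Cfsg Cfsg.Agent.Lib.Helper18.PSLnAut Cfsg.Agent.Lib.Helper18.PSLnFld
  Cfsg.Agent.Lib.Helper25.GraphInv Cfsg.Agent.Lib.Helper25.InvTrans Cfsg.Agent.Lib.Helper14

section gramlemmas

variable {n : ℕ} {F : Type*} [Field F] {F₀ : Type*} [Field F₀]

theorem map_smul_map (ι : F₀ →+* F) (c : F₀) (M : Matrix (Fin n) (Fin n) F₀) :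
    (c • M).map ι = ι c • M.map ι := by
  ext i j
  simp

/-- Descend a proportionality of matrices over the small field. -/
theorem descend_smul (hn : 2 ≤ n) (ι : F₀ →+* F) (M : Matrix (Fin n) (Fin n) F₀)
    (N : GL (Fin n) F₀) (c : F) (h : M.map ι = c • (N.1).map ι) :
    ∃ c₀ : F₀, ι c₀ = c ∧ M = c₀ • N.1 := by
  obtain ⟨a, b, hab⟩ := exists_entry_ne_zero hn N
  have h2 := congrFun (congrFun h a) b
  rw [Matrix.map_apply, Matrix.smul_apply, Matrix.map_apply, smul_eq_mul] at h2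
  have hιab : ι ((N.1 : Matrix (Fin n) (Fin n) F₀) a b) ≠ 0 :=
    (map_ne_zero_iff _ ι.injective).2 hab
  have hc₀ : ι (M a b / (N.1 : Matrix (Fin n) (Fin n) F₀) a b) = c := by
    rw [map_div₀, h2, mul_div_assoc, div_self hιab, mul_one]
  refine ⟨_, hc₀, ?_⟩
  apply map_injective' ι
  rw [h, map_smul_map, hc₀]

theorem gram_transpose (ρ : RingAut F) (hρ2 : ∀ a, ρ (ρ a) = a) (K : Matrix (Fin n) (Fin n) F) :
    (Kᵀ * K.map ρ)ᵀ = (Kᵀ * K.map ρ).map ρ := by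
  rw [Matrix.transpose_mul, Matrix.transpose_transpose, Matrix.map_mul, map_map_eq ρ hρ2,
    Matrix.transpose_map]

theorem gram_map (ρ : RingAut F) (hρ2 : ∀ a, ρ (ρ a) = a) (K : Matrix (Fin n) (Fin n) F) :
    (Kᵀ * K.map ρ).map ρ = (K.map ρ)ᵀ * K := by
  rw [Matrix.map_mul, map_map_eq ρ hρ2, Matrix.transpose_map]

theorem coe_mul_glF_inv (ρ : RingAut F) (k : GL (Fin n) F) :
    ((k * (glF ρ k)⁻¹ : GL (Fin n) F) : Matrix (Fin n) (Fin n) F) =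
      k.1 * ((k⁻¹ : GL (Fin n) F).1).map ρ := by
  rw [← map_inv, Units.val_mul, glF_coe]

/-- The Gram matrix of `g = k σ(k)⁻¹` in terms of that of `k`. -/
theorem gram_of_lang (ρ : RingAut F) (hρ2 : ∀ a, ρ (ρ a) = a) (k : GL (Fin n) F) :
    ((k * (glF ρ k)⁻¹ : GL (Fin n) F).1)ᵀ * ((k * (glF ρ k)⁻¹ : GL (Fin n) F).1).map ρ =
      (((k⁻¹ : GL (Fin n) F).1).map ρ)ᵀ * ((k.1)ᵀ * (k.1).map ρ) * (k⁻¹ : GL (Fin n) F).1 := by
  rw [coe_mul_glF_inv, Matrix.transpose_mul, Matrix.map_mul, map_map_eq ρ hρ2]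
  simp only [Matrix.mul_assoc]

theorem gram_twist (ρ : RingAut F) (hρ2 : ∀ a, ρ (ρ a) = a) (k : GL (Fin n) F) (μ : F)
    (h : ((k * (glF ρ k)⁻¹ : GL (Fin n) F).1)ᵀ *
      ((k * (glF ρ k)⁻¹ : GL (Fin n) F).1).map ρ = μ • (1 : Matrix (Fin n) (Fin n) F)) :
    (k.1)ᵀ * (k.1).map ρ = μ • ((k.1)ᵀ * (k.1).map ρ).map ρ := by
  rw [gram_of_lang ρ hρ2] at h
  have h1 : ((k.1).map ρ)ᵀ * (((k⁻¹ : GL (Fin n) F).1).map ρ)ᵀ = 1 := by
    rw [← Matrix.transpose_mul, map_inv_mul_map, Matrix.transpose_one]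
  calc (k.1)ᵀ * (k.1).map ρ
      = (((k.1).map ρ)ᵀ * (((k⁻¹ : GL (Fin n) F).1).map ρ)ᵀ) * ((k.1)ᵀ * (k.1).map ρ) *
          ((k⁻¹ : GL (Fin n) F).1 * k.1) := by
        rw [h1, gl_inv_mul, Matrix.one_mul, Matrix.mul_one]
    _ = ((k.1).map ρ)ᵀ * ((((k⁻¹ : GL (Fin n) F).1).map ρ)ᵀ * ((k.1)ᵀ * (k.1).map ρ) *
          (k⁻¹ : GL (Fin n) F).1) * k.1 := by
        simp only [Matrix.mul_assoc]
    _ = μ • ((k.1)ᵀ * (k.1).map ρ).map ρ := by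
        rw [h, Matrix.mul_smul, Matrix.mul_one, Matrix.smul_mul, gram_map ρ hρ2]

/-- Conversely, the Gram matrix of `k σ(k)⁻¹` when that of `k` is twisted-symmetric. -/
theorem gram_of_twist (ρ : RingAut F) (hρ2 : ∀ a, ρ (ρ a) = a) (k : GL (Fin n) F) (μ : F)
    (h : (k.1)ᵀ * (k.1).map ρ = μ • ((k.1)ᵀ * (k.1).map ρ).map ρ) :
    ((k * (glF ρ k)⁻¹ : GL (Fin n) F).1)ᵀ *
      ((k * (glF ρ k)⁻¹ : GL (Fin n) F).1).map ρ = μ • (1 : Matrix (Fin n) (Fin n) F) := by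
  rw [gram_of_lang ρ hρ2, h, gram_map ρ hρ2, Matrix.mul_smul, Matrix.smul_mul]
  congr 1
  calc (((k⁻¹ : GL (Fin n) F).1).map ρ)ᵀ * (((k.1).map ρ)ᵀ * k.1) * (k⁻¹ : GL (Fin n) F).1
      = ((((k⁻¹ : GL (Fin n) F).1).map ρ)ᵀ * ((k.1).map ρ)ᵀ) *
          (k.1 * (k⁻¹ : GL (Fin n) F).1) := by simp only [Matrix.mul_assoc]
    _ = 1 := by
        rw [← Matrix.transpose_mul, map_mul_map_inv, Matrix.transpose_one, gl_mul_inv,
          Matrix.one_mul]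

end gramlemmas

section datum

variable {n : ℕ} {F : Type*} [Field F] {F₀ : Type*} [Field F₀] {q : ℕ}

/-- `γ` is the graph involution of `PSU_n` attached to a matrix `k` whose Gram matrix is a
multiple of the matrix `A₀` over the fixed field. -/
def HasDatum (ρ : RingAut F) (ι : F₀ →+* F) (γ : MulAut (Cfsg.PSU n F q))
    (A₀ : GL (Fin n) F₀) : Prop :=
  ∃ (k : GL (Fin n) F) (t : F) (g : ↥(GUs n F q)), t ≠ 0 ∧
    (k.1)ᵀ * (k.1).map ρ = t • (A₀.1).map ι ∧ g.1 = k * (glF ρ k)⁻¹ ∧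
    γ = conjUHom g * fieldUHom ρ

variable [Fintype F]

theorem HasDatum.nonempty_equiv (hF : Fintype.card F = q ^ 2) (hn : 3 ≤ n)
    (h32 : ¬ (n = 3 ∧ q = 2)) (ρ : RingAut F) (hρ : ∀ a, ρ a = a ^ q) (hρo : orderOf ρ = 2)
    (ι : F₀ →+* F) (hι : ∀ a : F, ρ a = a ↔ a ∈ Set.range ι)
    {γ : MulAut (Cfsg.PSU n F q)} {A₀ : GL (Fin n) F₀} (h : HasDatum ρ ι γ A₀) :
    Nonempty (↥(Cfsg.inndiagPSU n F q ⊓ Subgroup.centralizer {γ}) ≃*
      Cfsg.projQuot (simG A₀)) := by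
  obtain ⟨k, t, g, ht, hk, hg, rfl⟩ := h
  exact nonempty_centralizer_descent hF hn h32 ρ hρ hρo ι hι k t ht A₀ hk g hg

/-- Every involutory graph automorphism has a Lang datum, symmetric or skew-symmetric. -/
theorem exists_datum_of_graph (hF : Fintype.card F = q ^ 2) (hn : 3 ≤ n)
    (h32 : ¬ (n = 3 ∧ q = 2)) (ρ : RingAut F) (hρ : ∀ a, ρ a = a ^ q) (hρo : orderOf ρ = 2)
    (ι : F₀ →+* F) (hι : ∀ a : F, ρ a = a ↔ a ∈ Set.range ι)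
    (γ : MulAut (Cfsg.PSU n F q)) (hγ : Cfsg.IsGraphAutClassPSU γ) (hγ2 : orderOf γ = 2) :
    ∃ A₀ : GL (Fin n) F₀, ((A₀.1)ᵀ = A₀.1 ∨ (A₀.1)ᵀ = -A₀.1) ∧ HasDatum ρ ι γ A₀ := by
  have hn2 : 2 ≤ n := by omega
  have hρρ : ρ * ρ = 1 := by rw [← pow_two, ← hρo]; exact pow_orderOf_eq_one ρ
  have hρ2 : ∀ a, ρ (ρ a) = a := by
    intro a
    have := congrArg (fun τ : RingAut F => τ a) hρρ
    exact this
  have hι' : ∀ b, ρ (ι b) = ι b := fun b => (hι _).2 ⟨b, rfl⟩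
  obtain ⟨g, rfl, c, hc⟩ := graph_involution_form hF hn h32 ρ hρ hρo γ hγ hγ2
  -- the scalar is fixed
  have hcfix : ρ (c : F) = c := by
    obtain ⟨Z, hZ⟩ : ∃ Z : GL (Fin n) F, Z = g.1 * glF ρ g.1 := ⟨_, rfl⟩
    rw [← hZ] at hc
    have h1 : glF ρ Z = g.1⁻¹ * Z * g.1 := by
      rw [hZ, map_mul, glF_glF ρ hρρ]
      group
    rw [conj_scalar g.1 Z c hc] at h1
    have h2 := congrArg (fun u : GL (Fin n) F => (u.1 : Matrix (Fin n) (Fin n) F)) h1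
    simp only [glF_coe] at h2
    rw [hc, map_smul_eq, map_one_eq] at h2
    have h3 := congrFun (congrFun h2 ⟨0, by omega⟩) ⟨0, by omega⟩
    simpa using h3
  obtain ⟨e, he0, he⟩ := exists_nrm_eq ρ 2 hρo (by norm_num) ((c : F)⁻¹)
    (inv_ne_zero c.ne_zero) (by rw [map_inv₀, hcfix])
  have he' : e * ρ e = (c : F)⁻¹ := by
    rw [← he]
    unfold nrm
    simp [Finset.prod_range_succ]
  obtain ⟨eu, heu⟩ : ∃ eu : Fˣ, (eu : F) = e := ⟨Units.mk0 e he0, rfl⟩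
  obtain ⟨g', hg'⟩ : ∃ g' : ↥(GUs n F q), g'.1 = g.1 * scalarGL eu :=
    ⟨⟨g.1 * scalarGL eu, (GUs n F q).mul_mem g.2 (scalarGL_mem_GUs ρ hρ eu)⟩, rfl⟩
  have hg'coe : (g'.1.1 : Matrix (Fin n) (Fin n) F) = e • (g.1.1 : Matrix (Fin n) (Fin n) F) := by
    rw [hg', coe_mul_scalarGL, heu]
  have hg'1 : g'.1 * glF ρ g'.1 = 1 := by
    apply Units.ext
    rw [Units.val_mul, glF_coe, hg'coe, map_smul_eq, Matrix.smul_mul, Matrix.mul_smul, smul_smul,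
      he']
    have h1 : (g.1.1 : Matrix (Fin n) (Fin n) F) * (g.1.1 : Matrix (Fin n) (Fin n) F).map ρ =
        (c : F) • (1 : Matrix (Fin n) (Fin n) F) := by
      rw [← hc, Units.val_mul, glF_coe]
    rw [h1, smul_smul, inv_mul_cancel₀ c.ne_zero, one_smul]
    rfl
  obtain ⟨k, hk⟩ := exists_lang ρ hρo g'.1 hg'1
  obtain ⟨μ, hμ⟩ := (mem_GUs_iff_gram ρ hρ g'.1).1 g'.2
  rw [hk] at hμ
  have htw := gram_twist ρ hρ2 k μ hμ
  obtain ⟨Agl, hAgl⟩ : ∃ Agl : GL (Fin n) F,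
      (Agl.1 : Matrix (Fin n) (Fin n) F) = (k.1)ᵀ * (k.1).map ρ :=
    ⟨(gti k)⁻¹ * glF ρ k, by rw [Units.val_mul, gti_inv_coe, glF_coe]⟩
  obtain ⟨A₀, ν, hν0, hA₀⟩ := exists_glMap_of_twisted ρ hρo ι hι hn2 Agl μ (by
    rw [hAgl]
    exact htw)
  rw [glMap_coe, hAgl] at hA₀
  have hgram : (k.1)ᵀ * (k.1).map ρ = ν⁻¹ • (A₀.1).map ι := by
    rw [hA₀, smul_smul, inv_mul_cancel₀ hν0, one_smul]
  refine ⟨A₀, ?_, k, ν⁻¹, g', inv_ne_zero hν0, hgram, hk, ?_⟩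
  · -- symmetric or skew
    have h1 := gram_transpose ρ hρ2 k.1
    rw [hgram, Matrix.transpose_smul, map_smul_eq] at h1
    have hfixA : ((A₀.1 : Matrix (Fin n) (Fin n) F₀).map ι).map ρ = (A₀.1).map ι := by
      ext a b
      rw [Matrix.map_apply, Matrix.map_apply]
      exact hι' _
    rw [hfixA, ← Matrix.transpose_map] at h1
    have h2 : ((A₀.1)ᵀ).map ι = (ν * ρ ν⁻¹) • (A₀.1).map ι := by
      have h3 := congrArg (fun M => ν • M) h1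
      simp only [smul_smul, mul_inv_cancel₀ hν0, one_smul] at h3
      exact h3
    obtain ⟨κ, -, hκ⟩ := descend_smul hn2 ι _ A₀ _ h2
    have h4 : (A₀.1 : Matrix (Fin n) (Fin n) F₀) = (κ * κ) • A₀.1 := by
      conv_lhs => rw [← Matrix.transpose_transpose (A₀.1 : Matrix (Fin n) (Fin n) F₀), hκ,
        Matrix.transpose_smul, hκ, smul_smul]
    obtain ⟨a, b, hab⟩ := exists_entry_ne_zero hn2 A₀
    have h5 := congrFun (congrFun h4 a) b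
    rw [Matrix.smul_apply, smul_eq_mul] at h5
    have h6 : κ * κ = 1 := by
      have h7 : (κ * κ) * (A₀.1 : Matrix (Fin n) (Fin n) F₀) a b =
          1 * (A₀.1 : Matrix (Fin n) (Fin n) F₀) a b := by rw [one_mul, ← h5]
      exact mul_right_cancel₀ hab h7
    rcases mul_self_eq_one_iff.1 h6 with h7 | h7
    · left
      rw [hκ, h7, one_smul]
    · right
      rw [hκ, h7, neg_smul, one_smul]
  · rw [conjUHom_eq_of_smul g g' e he0 hg'coe]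

end datum

end Cfsg.Agent.Lib.Helper25.PSUG
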