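import Cfsg.Agent.Lib.Helper18.SPDec
import Cfsg.Agent.Lib.Helper18.SPHom

/-! S3713 leaf GENP (helper25): the vector stabiliser `PJ (insert o J) o` is generated by `M_{op}` and `GJ J`;
all the `M`'s commute. -/

set_option autoImplicit false

namespace Cfsg.Agent.Lib.Helper25.SPGENP

open Matrix Cfsg.Agent.Lib.Helper18.SP Cfsg.Agent.Lib.Helper5 Cfsg.Agent.Lib.Helper14.SpPerfect

variable {F : Type*} [Field F] {n : ℕ}

theorem Tr_eV_mem_MM (o p : Fin n) (c : F) : Tr (eV n F o) c ∈ MM n F o p := by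
  refine ⟨fun k => ?_, fun k hko _ => ?_⟩
  · rw [act_Tr, ω_eV_eV, mul_zero, zero_smul, add_zero]
  · rw [act_Tr, ω_fV_eV, if_neg (Ne.symm hko), mul_zero, zero_smul, add_zero]

theorem E_eV_eV_mem_MM (o p : Fin n) : E (eV n F o) (eV n F p) ∈ MM n F o p := by
  have h : ω n F (eV n F o) (eV n F p) = 0 := ω_eV_eV o p
  refine ⟨fun k => ?_, fun k hko hkp => ?_⟩
  · rw [act_E _ _ _ h, ω_eV_eV, ω_eV_eV, zero_smul, zero_smul, add_zero, add_zero]
  · rw [act_E _ _ _ h, ω_fV_eV, ω_fV_eV, if_neg (Ne.symm hko), if_neg (Ne.symm hkp), zero_smul, zero_smul,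
      add_zero, add_zero]

theorem PJ_le_closure {J : Set (Fin n)} {o p : Fin n} (ho : o ∉ J) (hp : p ∈ J) :
    PJ n F (insert o J) o ≤ Subgroup.closure ((MM n F o p : Set (Sp n F)) ∪ (GJ n F J : Set (Sp n F))) := by
  intro g hg
  obtain ⟨u, hu, c, l, hl, rfl⟩ := PJ_decomp ho hg
  have hM : ∀ x ∈ MM n F o p,
      x ∈ Subgroup.closure ((MM n F o p : Set (Sp n F)) ∪ (GJ n F J : Set (Sp n F))) :=
    fun x hx => Subgroup.subset_closure (Or.inl hx)
  have hG : ∀ x ∈ GJ n F J,
      x ∈ Subgroup.closure ((MM n F o p : Set (Sp n F)) ∪ (GJ n F J : Set (Sp n F))) :=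
    fun x hx => Subgroup.subset_closure (Or.inr hx)
  refine mul_mem ?_ (hG l hl)
  unfold qH
  refine mul_mem ?_ (hM _ (Tr_eV_mem_MM o p c))
  by_cases hu0 : u = 0
  · rw [hu0, E_zero_right]
    exact one_mem _
  · obtain ⟨l', hl', hl'p⟩ := GJ_trans J (eV_mem_VJ hp) hu (eV_ne_zero p) hu0
    have e : E (eV n F o) u = l' * E (eV n F o) (eV n F p) * l'⁻¹ := by
      rw [conj_E, (hl' o ho).1, hl'p]
    rw [e]
    exact mul_mem (mul_mem (hG l' hl') (hM _ (E_eV_eV_mem_MM o p))) (inv_mem (hG l' hl'))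

/-- an element fixing every `e_j` fixes their span -/
theorem act_eq_of_inr_zero {g : Sp n F} (hg : ∀ k : Fin n, act g (eV n F k) = eV n F k) {x : V n F}
    (hx : ∀ k : Fin n, x (Sum.inr k) = 0) : act g x = x := by
  conv_rhs => rw [vec_eq_sum x]
  conv_lhs => rw [vec_eq_sum x]
  rw [act_sum]
  refine Finset.sum_congr rfl fun k _ => ?_
  rw [hx k, zero_smul, add_zero, act_smul, hg k]

/-- an element fixing every `e_j` moves `f_k` by a vector of the span of the `e_j` -/
theorem sub_inr_zero {g : Sp n F} (hg : ∀ k : Fin n, act g (eV n F k) = eV n F k) (k j : Fin n) :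
    (act g (fV n F k) - fV n F k) (Sum.inr j) = 0 := by
  have h1 : ω n F (act g (fV n F k)) (eV n F j) = ω n F (fV n F k) (eV n F j) := by
    conv_lhs => rw [← hg j]
    exact ω_act g _ _
  rw [ω_eV_right, ω_eV_right] at h1
  rw [Pi.sub_apply, h1, sub_self]

/-- all the `M`'s commute with each other -/
theorem MM_commute {i p i' p' : Fin n} {g h : Sp n F} (hg : g ∈ MM n F i p) (hh : h ∈ MM n F i' p') :
    Commute g h := by
  apply sp_ext_basis
  · intro k
    rw [act_mul, act_mul, hh.1 k, hg.1 k, hh.1 k]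
  · intro k
    rw [act_mul, act_mul]
    have eg : act g (fV n F k) = fV n F k + (act g (fV n F k) - fV n F k) := by abel
    have eh : act h (fV n F k) = fV n F k + (act h (fV n F k) - fV n F k) := by abel
    have e1 : act g (act h (fV n F k)) =
        act g (fV n F k) + (act h (fV n F k) - fV n F k) := by
      conv_lhs => rw [eh]
      rw [act_add, act_eq_of_inr_zero hg.1 (sub_inr_zero hh.1 k)]
    have e2 : act h (act g (fV n F k)) =
        act h (fV n F k) + (act g (fV n F k) - fV n F k) := by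
      conv_lhs => rw [eg]
      rw [act_add, act_eq_of_inr_zero hh.1 (sub_inr_zero hg.1 k)]
    rw [e1, e2]
    abel

end Cfsg.Agent.Lib.Helper25.SPGENP
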