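import Cfsg.Agent.Lib.Helper25.ChInvA
import Cfsg.Agent.Lib.Helper7.ChevCanon2
import Cfsg.Agent.Lib.Helper7.ChevSylow
import Cfsg.Agent.Lib.Helper7.ChevOrd3

/-! Group-level tools for the classification of involutions of Chevalley groups in characteristic two:
the Weyl-length of the elements of `N`, its behaviour under multiplication by the fundamental
reflections, the form `t = n v` (`n ∈ N`, `v ∈ U`) of an element and the normal form
`n² = 1`, `n v n⁻¹ = v⁻¹` of an involution (helper25). -/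

set_option autoImplicit false

namespace Cfsg.Agent.Lib.Helper25.ChInv

open Cfsg Cfsg.Lie Matrix
open Cfsg.Agent.Lib.Helper7
open Cfsg.Agent.Lib.Helper3.BN Cfsg.Agent.Lib.Helper3.WordLen

section
variable (D : ChevalleyDatum) (hD : D ∈ [chevG2, chevB2, chevD4, chevF4, chevE6, chevE7, chevE8])
variable (F : Type*) [Field F]
include hD

/-- the image in the Weyl group `N/H` of an element of `N` (and `1` outside `N`) -/
noncomputable def wOf (n : GL D.Idx F) : W (chevBNPair D hD F) := by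
  classical
  exact if h : n ∈ D.monomialSubgroup F then
    mkW (chevBNPair D hD F) ⟨n, monomial_le_group D hD F h⟩ ((mem_N_iff D hD F _).mpr h) else 1

theorem wOf_eq (n : GL D.Idx F) (h : n ∈ D.monomialSubgroup F) :
    wOf D hD F n = mkW (chevBNPair D hD F) ⟨n, monomial_le_group D hD F h⟩ ((mem_N_iff D hD F _).mpr h) := by
  unfold wOf
  rw [dif_pos h]

theorem wOf_mul (n m : GL D.Idx F) (hn : n ∈ D.monomialSubgroup F) (hm : m ∈ D.monomialSubgroup F) :
    wOf D hD F (n * m) = wOf D hD F n * wOf D hD F m := by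
  rw [wOf_eq D hD F _ (Subgroup.mul_mem _ hn hm), wOf_eq D hD F _ hn, wOf_eq D hD F _ hm]
  rfl

theorem wOf_inv (n : GL D.Idx F) (hn : n ∈ D.monomialSubgroup F) :
    wOf D hD F n⁻¹ = (wOf D hD F n)⁻¹ := by
  rw [wOf_eq D hD F _ (Subgroup.inv_mem _ hn), wOf_eq D hD F _ hn]
  rfl

theorem wOf_eq_one_iff (n : GL D.Idx F) (hn : n ∈ D.monomialSubgroup F) :
    wOf D hD F n = 1 ↔ n ∈ D.diagonalSubgroup F := by
  rw [wOf_eq D hD F _ hn, mkW_eq_one_iff, mem_B_iff]
  show n ∈ D.borelSubgroup F ↔ _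
  rw [← borel_inf_monomial D hD F, Subgroup.mem_inf]
  exact ⟨fun h => ⟨h, hn⟩, fun h => h.1⟩

/-- the length of the image in the Weyl group -/
noncomputable def wl (n : GL D.Idx F) : ℕ := len (Sbar (chevBNPair D hD F)) (wOf D hD F n)

theorem wOf_diag_mul (h n : GL D.Idx F) (hh : h ∈ D.diagonalSubgroup F) (hn : n ∈ D.monomialSubgroup F) :
    wOf D hD F (h * n) = wOf D hD F n := by
  have hhN : h ∈ D.monomialSubgroup F := by
    unfold ChevalleyDatum.monomialSubgroup; exact Subgroup.mem_sup_left hh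
  rw [wOf_mul D hD F _ _ hhN hn, (wOf_eq_one_iff D hD F h hhN).mpr hh, one_mul]

theorem wOf_mul_diag (h n : GL D.Idx F) (hh : h ∈ D.diagonalSubgroup F) (hn : n ∈ D.monomialSubgroup F) :
    wOf D hD F (n * h) = wOf D hD F n := by
  have hhN : h ∈ D.monomialSubgroup F := by
    unfold ChevalleyDatum.monomialSubgroup; exact Subgroup.mem_sup_left hh
  rw [wOf_mul D hD F _ _ hn hhN, (wOf_eq_one_iff D hD F h hhN).mpr hh, mul_one]

/-- the fundamental reflection `s_i` in the Weyl group -/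
theorem nFund_mem_S (i : ℕ) (hi : i < D.rank) :
    (⟨nFund D hD F i, monomial_le_group D hD F (nFund_mem_monomial D hD F i hi)⟩ : ↥(D.group F)) ∈
      (chevBNPair D hD F).S := by
  refine ⟨i, hi, ?_⟩
  show ((nFund D hD F i : GL D.Idx F) : Matrix D.Idx D.Idx F) = _
  unfold nFund
  rw [coe_wordGL]; rfl

theorem wOf_nFund (i : ℕ) (hi : i < D.rank) :
    wOf D hD F (nFund D hD F i) = sb (chevBNPair D hD F) _ (nFund_mem_S D hD F i hi) := by
  rw [wOf_eq D hD F _ (nFund_mem_monomial D hD F i hi)]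
  rfl

/-- an element of `N` acting on the roots as the `i`-th fundamental reflection has image `s_i` -/
theorem wOf_of_actsAs_reflect (i : ℕ) (hi : i < D.rank) (m : GL D.Idx F) (hm : m ∈ D.monomialSubgroup F)
    (hact : ActsAs D hD F m (D.reflectRoot i)) :
    wOf D hD F m = sb (chevBNPair D hD F) _ (nFund_mem_S D hD F i hi) := by
  have hs := nFund_mem_monomial D hD F i hi
  have hC := conjFacts_of_mem D hD i hi
  have h1 : ActsAs D hD F ((nFund D hD F i)⁻¹ * m) (D.reflectRoot i ∘ D.reflectRoot i) :=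
    ActsAs.mul D F (actsAs_nFund_inv D hD F i hi) hact
  have h2 : (nFund D hD F i)⁻¹ * m ∈ D.diagonalSubgroup F :=
    mem_diagonal_of_actsAs_id D hD F _ (Subgroup.mul_mem _ (Subgroup.inv_mem _ hs) hm) _ h1
      (fun s hs' => hC.winv s hs')
  have h3 := (wOf_eq_one_iff D hD F _ (Subgroup.mul_mem _ (Subgroup.inv_mem _ hs) hm)).mpr h2
  rw [wOf_mul D hD F _ _ (Subgroup.inv_mem _ hs) hm, wOf_inv D hD F _ hs, inv_mul_eq_one] at h3
  rw [← h3, wOf_nFund D hD F i hi]

/-- (W2) left multiplication by a reflection lengthens `n` if `n⁻¹ X_{p_i} n` is a positive root group -/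
theorem wl_lt_left (n : GL D.Idx F) (hn : n ∈ D.monomialSubgroup F) (i : ℕ) (hi : i < D.rank)
    (m : GL D.Idx F) (hm : m ∈ D.monomialSubgroup F) (hact : ActsAs D hD F m (D.reflectRoot i))
    (a : ℕ) (ha : D.IsPosRoot a) (c : F)
    (hconj : ∀ t : F, n⁻¹ * xGL D hD F (D.simple i) t * n = xGL D hD F a (c * t)) :
    wl D hD F n < wl D hD F (m * n) := by
  unfold wl
  rw [wOf_mul D hD F _ _ hm hn, wOf_of_actsAs_reflect D hD F i hi m hm hact, wOf_eq D hD F _ hn]
  exact len_lt_of_pos D hD F ⟨n, monomial_le_group D hD F hn⟩ ((mem_N_iff D hD F _).mpr hn) _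
    (nFund_mem_S D hD F i hi) i hi rfl a ha c hconj

/-- (W1) right multiplication by a reflection lengthens `n` if `n X_{p_i} n⁻¹` is a positive root group -/
theorem wl_lt_right (n : GL D.Idx F) (hn : n ∈ D.monomialSubgroup F) (f : ℕ → ℕ) (hf : ActsAs D hD F n f)
    (i : ℕ) (hi : i < D.rank) (hpos : D.IsPosRoot (f (D.simple i)))
    (m : GL D.Idx F) (hm : m ∈ D.monomialSubgroup F) (hact : ActsAs D hD F m (D.reflectRoot i)) :
    wl D hD F n < wl D hD F (n * m) := by
  have hF := fundFacts_of_mem D hD i hi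
  obtain ⟨-, c, -, hc⟩ := hf (D.simple i) hF.hp
  have hn' := Subgroup.inv_mem _ hn
  have h1 := wl_lt_left D hD F n⁻¹ hn' i hi m hm hact (f (D.simple i)) hpos c
    (by intro t; rw [inv_inv]; exact hc t)
  unfold wl at h1 ⊢
  have hS := Sbar_sq (chevBNPair D hD F)
  have hgen := Sbar_closure (chevBNPair D hD F)
  rw [wOf_inv D hD F _ hn, len_inv hS hgen] at h1
  rw [wOf_mul D hD F _ _ hm hn', wOf_inv D hD F _ hn] at h1
  rw [wOf_mul D hD F _ _ hn hm]
  have h2 : wOf D hD F m * (wOf D hD F n)⁻¹ = (wOf D hD F n * wOf D hD F m)⁻¹ := by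
    rw [_root_.mul_inv_rev]
    congr 1
    rw [wOf_of_actsAs_reflect D hD F i hi m hm hact]
    exact (inv_of_mem hS (sb_mem _ _)).symm
  rw [h2, len_inv hS hgen] at h1
  exact h1

/-- (H1) an element of `N` which makes no fundamental root negative lies in `H` -/
theorem mem_diagonal_of_simple_pos (m : GL D.Idx F) (hm : m ∈ D.monomialSubgroup F) (φ : ℕ → ℕ)
    (hφ : ActsAs D hD F m φ) (hpos : ∀ i < D.rank, D.IsPosRoot (φ (D.simple i))) :
    m ∈ D.diagonalSubgroup F := by
  rw [← wOf_eq_one_iff D hD F m hm]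
  have hS := Sbar_sq (chevBNPair D hD F)
  have hgen := Sbar_closure (chevBNPair D hD F)
  by_contra hne
  have hlen : len (Sbar (chevBNPair D hD F)) (wOf D hD F m) ≠ 0 := by
    rw [Ne, len_eq_zero_iff hS hgen]; exact hne
  obtain ⟨k, hk⟩ := Nat.exists_eq_succ_of_ne_zero hlen
  obtain ⟨t, ht, hlt⟩ := exists_snoc hS hgen hk
  obtain ⟨s, hs, rfl⟩ := exists_sb_of_mem (chevBNPair D hD F) ht
  have hsf : s ∈ fundSet D F := hs
  obtain ⟨i, hi, hsm⟩ := hsf
  have hsn := coe_eq_nFund_of_mem_fundSet D hD F s i hsm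
  have h1 := wl_lt_right D hD F m hm φ hφ i hi (hpos i hi) (nFund D hD F i)
    (nFund_mem_monomial D hD F i hi) (actsAs_nFund D hD F i hi)
  unfold wl at h1
  rw [wOf_mul D hD F _ _ hm (nFund_mem_monomial D hD F i hi), wOf_nFund D hD F i hi] at h1
  have e : sb (chevBNPair D hD F) s hs = sb (chevBNPair D hD F) _ (nFund_mem_S D hD F i hi) := by
    unfold sb
    congr 1
    exact Subtype.ext hsn
  rw [e] at hlt
  omega


theorem finite_GL [Fintype F] : Finite (GL D.Idx F) := by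
  have : Finite (Matrix D.Idx D.Idx F) := inferInstance
  exact Finite.of_injective (fun g : GL D.Idx F => (g : Matrix D.Idx D.Idx F)) Units.val_injective

/-- the lengths are bounded -/
theorem exists_wl_bound [Fintype F] : ∃ M : ℕ, ∀ n : GL D.Idx F, wl D hD F n ≤ M := by
  have hfin : Finite (GL D.Idx F) := finite_GL D hD F
  obtain ⟨n0, hn0⟩ := Finite.exists_max (fun n : GL D.Idx F => wl D hD F n)
  exact ⟨_, hn0⟩

theorem diag_conj_mem_posUnipotent (h : GL D.Idx F) (hh : h ∈ D.diagonalSubgroup F) (u : GL D.Idx F)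
    (hu : u ∈ D.posUnipotent F) : h * u * h⁻¹ ∈ D.posUnipotent F := by
  have := diagonalSubgroup_le_normalizer_posUnipotent D hD F hh
  rw [Subgroup.mem_set_normalizer_iff] at this
  exact (this u).mp hu

theorem diagonal_le_monomial : D.diagonalSubgroup F ≤ D.monomialSubgroup F := by
  unfold ChevalleyDatum.monomialSubgroup; exact le_sup_left

/-- (M0) every element of the group is conjugate to a product `n v` with `n ∈ N`, `v ∈ U` -/
theorem exists_conj_NU (t : GL D.Idx F) (ht : t ∈ D.group F) :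
    ∃ g ∈ D.group F, ∃ n ∈ D.monomialSubgroup F, ∃ v ∈ D.posUnipotent F, g * t * g⁻¹ = n * v := by
  obtain ⟨b, hb, n, hn, u, hu, rfl⟩ := canon_exists D hD F t ht
  have hb' : b ∈ ((D.borelSubgroup F : Subgroup (GL D.Idx F)) : Set (GL D.Idx F)) := hb
  rw [borel_eq_mul D hD F] at hb'
  obtain ⟨h, hh, u1, hu1, rfl⟩ := Set.mem_mul.mp hb'
  have hhi : h⁻¹ ∈ D.diagonalSubgroup F := Subgroup.inv_mem _ hh
  have huU : u ∈ D.posUnipotent F := uMinus_le_posUnipotent D F n hu
  refine ⟨(h * u1)⁻¹, Subgroup.inv_mem _ (borel_le_group D hD F hb), n * h,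
    Subgroup.mul_mem _ hn (diagonal_le_monomial D hD F hh), h⁻¹ * u * h⁻¹⁻¹ * u1,
    Subgroup.mul_mem _ (diag_conj_mem_posUnipotent D hD F _ hhi u huU) hu1, ?_⟩
  group

/-- (M1) the normal form of an involution `n v`: `n² = 1` and `n` inverts `v` -/
theorem invol_normal_form [Fintype F] (n v : GL D.Idx F) (hn : n ∈ D.monomialSubgroup F)
    (hv : v ∈ D.posUnipotent F) (hsq : (n * v) * (n * v) = 1) :
    n * n = 1 ∧ n * v * n⁻¹ = v⁻¹ := by
  have hfin : Finite (GL D.Idx F) := finite_GL D hD F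
  have hnG := monomial_le_group D hD F hn
  have hvB := posUnipotent_le_borel D hD F hv
  have hvG := borel_le_group D hD F hvB
  have hni := Subgroup.inv_mem _ hn
  -- `n v = v⁻¹ n⁻¹`
  have e1 : n * v = v⁻¹ * n⁻¹ := by
    have : (n * v)⁻¹ = n * v := inv_eq_of_mul_eq_one_left hsq
    rw [← this]; group
  -- the two double cosets agree
  have hw : wOf D hD F n = wOf D hD F n⁻¹ := by
    rw [wOf_eq D hD F _ hn, wOf_eq D hD F _ hni]
    apply eq_of_common (chevBNPair D hD F) (g := (⟨n * v, Subgroup.mul_mem _ hnG hvG⟩ : ↥(D.group F)))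
    · rw [mem_C_mk, mem_dc]
      refine ⟨1, Subgroup.one_mem _, ⟨v, hvG⟩, (mem_B_iff D hD F _).mpr hvB, ?_⟩
      apply Subtype.ext
      show n * v = 1 * n * v
      rw [one_mul]
    · rw [mem_C_mk, mem_dc]
      refine ⟨⟨v⁻¹, Subgroup.inv_mem _ hvG⟩, (mem_B_iff D hD F _).mpr (Subgroup.inv_mem _ hvB), 1,
        Subgroup.one_mem _, ?_⟩
      apply Subtype.ext
      show n * v = v⁻¹ * n⁻¹ * 1
      rw [mul_one, e1]
  have hnn : n * n ∈ D.diagonalSubgroup F := by
    rw [← wOf_eq_one_iff D hD F _ (Subgroup.mul_mem _ hn hn), wOf_mul D hD F _ _ hn hn]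
    nth_rewrite 2 [hw]
    rw [wOf_inv D hD F _ hn, mul_inv_cancel]
  obtain ⟨h, hh_def⟩ : ∃ h, h = (n * n)⁻¹ := ⟨_, rfl⟩
  have hh : h ∈ D.diagonalSubgroup F := by rw [hh_def]; exact Subgroup.inv_mem _ hnn
  have e2 : n * v * n⁻¹ = v⁻¹ * h := by
    have : n * v * n = v⁻¹ := by
      have e4 : n * v * n = (n * v * (n * v)) * v⁻¹ := by group
      rw [e4, hsq, one_mul]
    rw [hh_def]
    calc n * v * n⁻¹ = (n * v * n) * (n * n)⁻¹ := by group
      _ = v⁻¹ * (n * n)⁻¹ := by rw [this]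
  -- powers of `v⁻¹ h`
  have hpow : ∀ k : ℕ, ∃ u ∈ D.posUnipotent F, (v⁻¹ * h) ^ k = u * h ^ k := by
    intro k
    induction k with
    | zero => exact ⟨1, Subgroup.one_mem _, by simp⟩
    | succ k ih =>
      obtain ⟨u, hu, he⟩ := ih
      refine ⟨u * (h ^ k * v⁻¹ * (h ^ k)⁻¹), Subgroup.mul_mem _ hu
        (diag_conj_mem_posUnipotent D hD F _ (Subgroup.pow_mem _ hh k) _ (Subgroup.inv_mem _ hv)), ?_⟩
      rw [pow_succ, he, pow_succ]; group
  obtain ⟨N0, hN0⟩ : ∃ N0, N0 = Nat.card (D.posUnipotent F) := ⟨_, rfl⟩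
  have hvN0 : v ^ N0 = 1 := by
    have h1 := pow_card_eq_one' (G := ↥(D.posUnipotent F)) (x := ⟨v, hv⟩)
    have h2 : (((⟨v, hv⟩ : ↥(D.posUnipotent F)) ^ Nat.card ↥(D.posUnipotent F) : ↥(D.posUnipotent F)) :
        GL D.Idx F) = 1 := by rw [h1]; rfl
    rw [hN0]
    rw [← h2]; rfl
  have e5 : (v⁻¹ * h) ^ N0 = 1 := by
    rw [← e2, conj_pow, hvN0]; group
  obtain ⟨u, hu, he⟩ := hpow N0
  rw [e5] at he
  have hhN0 : h ^ N0 = 1 := by
    have h1 : h ^ N0 = u⁻¹ := eq_inv_of_mul_eq_one_right he.symm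
    have h2 : h ^ N0 ∈ D.posUnipotent F ⊓ D.monomialSubgroup F := by
      rw [Subgroup.mem_inf]
      exact ⟨by rw [h1]; exact Subgroup.inv_mem _ hu,
        diagonal_le_monomial D hD F (Subgroup.pow_mem _ hh _)⟩
    rw [posUnipotent_inf_monomial D hD F, Subgroup.mem_bot] at h2
    exact h2
  have hhq : h ^ (Fintype.card F - 1) = 1 := diagonal_pow_card_sub_one D hD F h hh
  have hcop : Nat.Coprime N0 (Fintype.card F - 1) := by
    rw [hN0, card_posUnipotent D hD F]
    apply Nat.Coprime.pow_left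
    have hq : 1 ≤ Fintype.card F := Fintype.card_pos
    have : Fintype.card F = (Fintype.card F - 1) + 1 := by omega
    nth_rewrite 1 [this]
    simp
  have h1 : h = 1 := by
    have := pow_gcd_eq_one.mpr ⟨hhN0, hhq⟩
    rw [Nat.Coprime.gcd_eq_one hcop, pow_one] at this
    exact this
  rw [h1] at hh_def e2
  constructor
  · have := hh_def.symm
    rw [inv_eq_one] at this
    exact this
  · rw [e2, mul_one]

end

end Cfsg.Agent.Lib.Helper25.ChInv
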