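import Cfsg.Agent.Lib.Helper25.BitWordC

/-! The bit-mask word checker, second version: multiplication of a word from the right by the sparse
matrices `x_r(1) - 1`, and soundness (helper25). -/

set_option autoImplicit false

namespace Cfsg.Agent.Lib.Helper25.BitWord

open Cfsg Cfsg.Lie Matrix

/-- `xorCols`, stopping as soon as the mask is exhausted -/
def xorColsE : List ℕ → ℕ → ℕ
  | [], _ => 0
  | x :: xs, m => if m = 0 then 0 else (if m.testBit 0 then x else 0) ^^^ xorColsE xs (m / 2)

theorem xorColsE_eq : ∀ (a : List ℕ) (m : ℕ), xorColsE a m = xorCols a m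
  | [], _ => rfl
  | x :: xs, m => by
    show (if m = 0 then 0 else (if m.testBit 0 then x else 0) ^^^ xorColsE xs (m / 2)) = xorCols (x :: xs) m
    by_cases hm : m = 0
    · rw [if_pos hm, hm, xorCols_zero]
    · rw [if_neg hm, xorColsE_eq xs (m / 2)]
      rfl

section
variable (D : ChevalleyDatum)

/-- the column masks of `A * x_r(1)` from those of `A` -/
def mulR (acc : List ℕ) (r : ℕ) : List ℕ :=
  List.zipWith (fun a n => a ^^^ xorColsE acc n) acc (nCols D r)

theorem mulR_length (acc : List ℕ) (r : ℕ) (h : acc.length = dim D) : (mulR D acc r).length = dim D := by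
  unfold mulR
  rw [List.length_zipWith, h, nCols_length, min_self]

/-- the column masks of the product `x_{r₁}(1) x_{r₂}(1) ⋯` -/
def evalR (w : List ℕ) : List ℕ := w.foldl (mulR D) (idCols D)

theorem idCols_length : (idCols D).length = dim D := by
  unfold idCols; simp

variable (F : Type*) [Field F] [CharP F 2]

theorem matOf_add (a b : List ℕ) (ha : a.length = dim D) (hb : b.length = dim D) :
    matOf D F a + matOf D F b = matOf D F (List.zipWith (fun x y => x ^^^ y) a b) := by
  ext i j
  rw [Matrix.add_apply]
  unfold matOf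
  simp only [Matrix.of_apply]
  rw [ind_add, ← Nat.testBit_xor]
  congr 2
  have hj := pos_lt D j
  rw [List.getD_eq_getElem?_getD, List.getD_eq_getElem?_getD, List.getD_eq_getElem?_getD,
    List.getElem?_zipWith, List.getElem?_eq_getElem (by rw [ha]; exact hj),
    List.getElem?_eq_getElem (by rw [hb]; exact hj)]
  rfl

theorem matOf_mulR (acc : List ℕ) (r : ℕ) (h : acc.length = dim D) :
    matOf D F acc * D.x F r 1 = matOf D F (mulR D acc r) := by
  rw [x_eq_one_add, Matrix.mul_add, Matrix.mul_one, matOf_mul D F _ _ h,
    matOf_add D F _ _ h (by unfold mulCols; rw [List.length_map, nCols_length])]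
  congr 1
  unfold mulR mulCols
  rw [List.zipWith_map_right]
  congr 1
  funext a n
  rw [xorColsE_eq]

theorem matOf_foldl (w : List ℕ) : ∀ (acc : List ℕ), acc.length = dim D →
    matOf D F (w.foldl (mulR D) acc) = matOf D F acc * D.wordMat F (w.map fun r => (r, (1 : F))) := by
  induction w with
  | nil =>
    intro acc _
    show matOf D F acc = matOf D F acc * D.wordMat F []
    unfold ChevalleyDatum.wordMat
    simp
  | cons r w ih =>
    intro acc h
    rw [List.foldl_cons, ih _ (mulR_length D acc r h), ← matOf_mulR D F acc r h]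
    have e : D.wordMat F ((r :: w).map fun r => (r, (1 : F))) =
        D.x F r 1 * D.wordMat F (w.map fun r => (r, (1 : F))) := by
      unfold ChevalleyDatum.wordMat
      rw [List.map_cons, List.map_cons, List.prod_cons]
    rw [e, Matrix.mul_assoc]

theorem wordMat_eq_matOf_evalR (w : List ℕ) :
    D.wordMat F (w.map fun r => (r, (1 : F))) = matOf D F (evalR D w) := by
  unfold evalR
  rw [matOf_foldl D F w _ (idCols_length D), matOf_idCols, Matrix.one_mul]

/-- the checker -/
def bitChkR (w1 w2 : List ℕ) : Bool := decide (evalR D w1 = evalR D w2)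

theorem wordMat_eq_of_bitChkR (w1 w2 : List ℕ) (h : bitChkR D w1 w2 = true) :
    D.wordMat F (w1.map fun r => (r, (1 : F))) = D.wordMat F (w2.map fun r => (r, (1 : F))) := by
  rw [wordMat_eq_matOf_evalR, wordMat_eq_matOf_evalR, of_decide_eq_true h]

end

end Cfsg.Agent.Lib.Helper25.BitWord
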