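import Cfsg.Agent.Lib.Helper25.ChInvG
import Cfsg.Agent.Lib.Helper25.BitWordD

/-! Glue between the second bit-mask word checker and conjugacy statements
`g n_J g⁻¹ = x_{r₁}(1) x_{r₂}(1) ⋯` in characteristic two (helper25). -/

set_option autoImplicit false

namespace Cfsg.Agent.Lib.Helper25.ChInv

open Cfsg Cfsg.Lie Matrix
open Cfsg.Agent.Lib.Helper7

section
variable (D : ChevalleyDatum) (hD : D ∈ [chevG2, chevB2, chevD4, chevF4, chevE6, chevE7, chevE8])
variable (F : Type*) [Field F]

/-- from a successful bit-mask check to an identity of words -/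
theorem wordGL_eq_of_bitChkR [CharP F 2] (w1 w2 : List ℕ) (h : BitWord.bitChkR D w1 w2 = true) :
    wordGL D hD F (ones F w1) = wordGL D hD F (ones F w2) :=
  Units.ext (by rw [coe_wordGL, coe_wordGL]; exact BitWord.wordMat_eq_of_bitChkR D F _ _ h)

/-- from a successful bit-mask check to the conjugacy statement -/
theorem conj_of_bitChkR [CharP F 2] (gW L rep : List ℕ)
    (h : BitWord.bitChkR D (gW ++ nJR D L ++ gW.reverse) rep = true) :
    wordGL D hD F (ones F gW) * nWordGL D hD F L * (wordGL D hD F (ones F gW))⁻¹ =
      wordGL D hD F (ones F rep) := by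
  have key := wordGL_eq_of_bitChkR D hD F _ _ h
  have e : ones F (gW ++ nJR D L ++ gW.reverse) = ones F gW ++ ones F (nJR D L) ++ ones F gW.reverse := by
    unfold ones; rw [List.map_append, List.map_append]
  rw [e, wordGL_append, wordGL_append, ones_nJR, wordGL_nWord_flatMap, wordGL_ones_reverse] at key
  exact key

end

end Cfsg.Agent.Lib.Helper25.ChInv
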