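import Mathlib
import Cfsg.Prelude.Def_ClassicalGeometry
import Cfsg.Prelude.Def_GeometricClasses
import Cfsg.Agent.Lib.Helper5.TSMax
import Cfsg.Agent.Lib.Helper19.OSubDefs
import Cfsg.Agent.Lib.Helper19.OSubBasic
import Cfsg.Agent.Lib.Helper19.OSubDescent
import Cfsg.Agent.Lib.Helper19.OSubEM
import Cfsg.Agent.Lib.Helper18.OSubF12
import Cfsg.Agent.Lib.Helper25.OrthGeom
import Cfsg.Agent.Lib.Helper25.SingPts
import Cfsg.Agent.Lib.Helper25.CDClifford

/-!
helper25: S5702 leaf market, round 2 (helper19): leaf K1 `exists_ginv2`: in characteristic 2 the two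
good involutions of `H0` with fixed spaces of codimension at most 2: a long root involution and a product
of two commuting reflections.
-/

set_option autoImplicit false
set_option linter.unusedSectionVars false
set_option linter.unusedVariables false

namespace Cfsg.Agent.Lib.Helper25.OSubLeaf
open Cfsg Matrix QuadraticMap Module Cfsg.Agent.Lib.Helper25.Siegel Cfsg.Agent.Lib.Helper19.OSub
  Cfsg.Agent.Lib.Helper25.CD

variable {ι : Type} [Fintype ι] [DecidableEq ι] {F : Type*} [Field F]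
  {F₀ : Subfield F} {Q : QuadraticForm F (ι → F)}

/-- an element fixing the common kernel of two linear functionals `B(p,·)`, `B(q,·)` has a fixed space
of codimension at most 2 -/
theorem card_le_finrank_eig_add_two (g : GL ι F) (p q : ι → F)
    (hfix : ∀ x, polar Q p x = 0 → polar Q q x = 0 → mv g x = x) :
    Fintype.card ι ≤ finrank F (Eig g 1) + 2 := by
  obtain ⟨φ, hφ⟩ : ∃ φ : (ι → F) →ₗ[F] (F × F), φ = (polarBilin Q p).prod (polarBilin Q q) :=
    ⟨_, rfl⟩
  have hker : LinearMap.ker φ ≤ Eig g 1 := by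
    intro x hx
    rw [LinearMap.mem_ker, hφ, LinearMap.prod_apply] at hx
    have hx' : (polar Q p x, polar Q q x) = (0 : F × F) := hx
    rw [Prod.mk_eq_zero] at hx'
    rw [mem_Eig, one_smul]
    exact hfix x hx'.1 hx'.2
  have h1 := LinearMap.finrank_range_add_finrank_ker φ
  rw [Module.finrank_fintype_fun_eq_card] at h1
  have h2 : finrank F ↥(LinearMap.range φ) ≤ 2 := by
    have := Submodule.finrank_le (LinearMap.range φ)
    rwa [Module.finrank_prod, Module.finrank_self] at this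
  have h3 := Submodule.finrank_mono hker
  omega

variable [Fintype F]

/-- K1 -/
theorem exists_ginv2 (h : QCtx F₀ Q) (hc2 : (2 : F) = 0) :
    ∃ t t' : GL ι F, GInv F₀ Q t ∧ GInv F₀ Q t' ∧ (∀ v, Q (mv t v - v) = 0) ∧
      (∃ v, Q (mv t' v - v) ≠ 0) ∧ Fintype.card ι ≤ finrank F (Eig t 1) + 2 ∧
      Fintype.card ι ≤ finrank F (Eig t' 1) + 2 := by
  classical
  obtain ⟨fr⟩ := Cfsg.Agent.Lib.Helper18.OSubLeaf.exists_frame h
  have hn := h.card
  have hneg : ∀ x : ι → F, -x = x := by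
    intro x
    have : (2 : F) • x = 0 := by rw [hc2, zero_smul]
    rw [two_smul] at this
    exact neg_eq_of_add_eq_zero_left this
  have h11 : (1 : F) + 1 = 0 := by rw [one_add_one_eq_two]; exact hc2
  -- abbreviations
  obtain ⟨e0, he0⟩ : ∃ e0, e0 = fr.e 0 := ⟨_, rfl⟩
  obtain ⟨e1, he1⟩ : ∃ e1, e1 = fr.e 1 := ⟨_, rfl⟩
  obtain ⟨f0, hf0⟩ : ∃ f0, f0 = fr.f 0 := ⟨_, rfl⟩
  obtain ⟨f1, hf1⟩ : ∃ f1, f1 = fr.f 1 := ⟨_, rfl⟩
  have hQe0 : Q e0 = 0 := by rw [he0]; exact fr.Qe 0
  have hQe1 : Q e1 = 0 := by rw [he1]; exact fr.Qe 1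
  have hQf0 : Q f0 = 0 := by rw [hf0]; exact fr.Qf 0
  have hQf1 : Q f1 = 0 := by rw [hf1]; exact fr.Qf 1
  have re0 : RatV F₀ e0 := by rw [he0]; exact fr.rat_e 0
  have re1 : RatV F₀ e1 := by rw [he1]; exact fr.rat_e 1
  have rf0 : RatV F₀ f0 := by rw [hf0]; exact fr.rat_f 0
  have rf1 : RatV F₀ f1 := by rw [hf1]; exact fr.rat_f 1
  have e0e1 : polar Q e0 e1 = 0 := by rw [he0, he1]; exact fr.ee 0 1
  have e0f0 : polar Q e0 f0 = 1 := by rw [he0, hf0, fr.ef]; simp
  have e0f1 : polar Q e0 f1 = 0 := by rw [he0, hf1, fr.ef]; simp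
  have e1f0 : polar Q e1 f0 = 0 := by rw [he1, hf0, fr.ef]; simp
  have e1f1 : polar Q e1 f1 = 1 := by rw [he1, hf1, fr.ef]; simp
  have f0f1 : polar Q f0 f1 = 0 := by rw [hf0, hf1]; exact fr.ff 0 1
  -- the four vectors of the pairs 2, 3
  have hd : HypPair F₀ Q (fr.e 2) (fr.f 2) ∧ HypPair F₀ Q (fr.e 3) (fr.f 3) ∧
      polar Q (fr.e 2) (fr.e 3) = 0 ∧ polar Q (fr.e 2) (fr.f 3) = 0 ∧
      polar Q (fr.f 2) (fr.e 3) = 0 ∧ polar Q (fr.f 2) (fr.f 3) = 0 := by
    refine ⟨⟨fr.rat_e 2, fr.rat_f 2, fr.Qe 2, fr.Qf 2, by rw [fr.ef]; simp⟩,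
      ⟨fr.rat_e 3, fr.rat_f 3, fr.Qe 3, fr.Qf 3, by rw [fr.ef]; simp⟩, fr.ee 2 3, ?_, ?_, fr.ff 2 3⟩
    · rw [fr.ef]; simp
    · rw [polar_comm, fr.ef]; simp
  -- orthogonality of e0, e1, f0, f1 to the pairs 2, 3
  have horth : ∀ w : ι → F, (w = fr.e 2 ∨ w = fr.f 2 ∨ w = fr.e 3 ∨ w = fr.f 3) →
      polar Q e0 w = 0 ∧ polar Q e1 w = 0 ∧ polar Q f0 w = 0 ∧ polar Q f1 w = 0 := by
    intro w hw
    rcases hw with rfl | rfl | rfl | rfl
    · refine ⟨by rw [he0]; exact fr.ee 0 2, by rw [he1]; exact fr.ee 1 2, ?_, ?_⟩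
      · rw [hf0, polar_comm, fr.ef]; simp
      · rw [hf1, polar_comm, fr.ef]; simp
    · refine ⟨?_, ?_, by rw [hf0]; exact fr.ff 0 2, by rw [hf1]; exact fr.ff 1 2⟩
      · rw [he0, fr.ef]; simp
      · rw [he1, fr.ef]; simp
    · refine ⟨by rw [he0]; exact fr.ee 0 3, by rw [he1]; exact fr.ee 1 3, ?_, ?_⟩
      · rw [hf0, polar_comm, fr.ef]; simp
      · rw [hf1, polar_comm, fr.ef]; simp
    · refine ⟨?_, ?_, by rw [hf0]; exact fr.ff 0 3, by rw [hf1]; exact fr.ff 1 3⟩
      · rw [he0, fr.ef]; simp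
      · rw [he1, fr.ef]; simp
  ------------------------------------------------------------------
  -- the long root involution
  obtain ⟨t, ht⟩ : ∃ t : GL ι F, t = rt Q e0 e1 1 := ⟨_, rfl⟩
  have hmvt : ∀ x, mv t x - x = polar Q e0 x • e1 - polar Q e1 x • e0 := by
    intro x
    rw [ht, mv_rt hQe0 hQe1 e0e1, one_smul, add_sub_cancel_left]
  have htG : GInv F₀ Q t := by
    refine ⟨?_, ?_, ?_, ?_⟩
    · rw [ht]; exact rt_mem_H0 h re0 re1 F₀.one_mem
    · rw [ht, rt_mul, h11, rt_zero]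
    · refine ⟨e0, f1, re0, ?_, hQe0, ?_⟩
      · intro h0
        rw [h0, polar_zero_left] at e0f0
        exact zero_ne_one e0f0
      · rw [hmvt, e0f1, e1f1, zero_smul, one_smul, zero_sub, hneg]
    · refine ⟨fr.e 2, fr.f 2, fr.e 3, fr.f 3, hd.1, hd.2.1, hd.2.2.1, hd.2.2.2.1, hd.2.2.2.2.1,
        hd.2.2.2.2.2, ?_⟩
      intro v
      rw [hmvt]
      have key : ∀ w : ι → F, (w = fr.e 2 ∨ w = fr.f 2 ∨ w = fr.e 3 ∨ w = fr.f 3) →
          polar Q (polar Q e0 v • e1 - polar Q e1 v • e0) w = 0 := by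
        intro w hw
        obtain ⟨h1, h2, -, -⟩ := horth w hw
        rw [polar_sub_left, polar_smul_left, polar_smul_left, h1, h2, smul_zero, smul_zero,
          sub_zero]
      exact ⟨key _ (Or.inl rfl), key _ (Or.inr (Or.inl rfl)), key _ (Or.inr (Or.inr (Or.inl rfl))),
        key _ (Or.inr (Or.inr (Or.inr rfl)))⟩
  have htQ : ∀ v, Q (mv t v - v) = 0 := by
    intro v
    rw [hmvt, sub_eq_add_neg, ← neg_smul, Cfsg.Agent.Lib.Helper25.MaxTS.Q_add,
      QuadraticMap.map_smul, QuadraticMap.map_smul, hQe0, hQe1, polar_smul_left, polar_smul_right,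
      polar_comm Q e1 e0, e0e1]
    simp
  have htfix : Fintype.card ι ≤ finrank F (Eig t 1) + 2 := by
    apply card_le_finrank_eig_add_two (Q := Q) t e0 e1
    intro x hx0 hx1
    have := hmvt x
    rw [hx0, hx1, zero_smul, zero_smul, sub_zero, sub_eq_zero] at this
    exact this
  ------------------------------------------------------------------
  -- the product of two commuting reflections
  obtain ⟨u, hu⟩ : ∃ u, u = e0 + f0 := ⟨_, rfl⟩
  obtain ⟨v, hv⟩ : ∃ v, v = e1 + f1 := ⟨_, rfl⟩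
  have hQu : Q u = 1 := by
    rw [hu, Cfsg.Agent.Lib.Helper25.MaxTS.Q_add, hQe0, hQf0, e0f0]; ring
  have hQv : Q v = 1 := by
    rw [hv, Cfsg.Agent.Lib.Helper25.MaxTS.Q_add, hQe1, hQf1, e1f1]; ring
  have huv : polar Q u v = 0 := by
    rw [hu, hv, polar_add_left, polar_add_right, polar_add_right, e0e1, e0f1, f0f1,
      polar_comm Q f0 e1, e1f0]
    ring
  have ru : RatV F₀ u := by rw [hu]; exact ratV_add re0 rf0
  have rv : RatV F₀ v := by rw [hv]; exact ratV_add re1 rf1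
  obtain ⟨t', ht'⟩ : ∃ t' : GL ι F,
      t' = ((reflM Q u * reflM Q v : ↥(Cfsg.isometryGroup F ⇑Q)) : GL ι F) := ⟨_, rfl⟩
  have hmvt' : ∀ x, mv t' x - x = polar Q u x • u + polar Q v x • v := by
    intro x
    have e1 : mv t' x = reflE Q u (reflE Q v x) := by
      rw [ht']
      show (((reflM Q u * reflM Q v : ↥(Cfsg.isometryGroup F ⇑Q)) : GL ι F) : Matrix ι ι F) *ᵥ x = _
      rw [Subgroup.coe_mul, Units.val_mul, ← Matrix.mulVec_mulVec, reflM_coe, reflM_coe,
        Cfsg.Agent.Lib.Helper25.CD.reflectionMatrix_mulVec,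
        Cfsg.Agent.Lib.Helper25.CD.reflectionMatrix_mulVec]
    rw [e1, reflE_apply, reflE_apply, hQu, hQv, inv_one, one_mul, one_mul, polar_sub_right,
      polar_smul_right, huv, smul_zero, sub_zero]
    have e2 : x - polar Q v x • v - polar Q u x • u - x =
        -(polar Q u x • u) + -(polar Q v x • v) := by abel
    rw [e2, hneg, hneg]
  have hmvt'2 : ∀ x, mv t' x = x + (polar Q u x • u + polar Q v x • v) := by
    intro x
    rw [← hmvt' x]; abel
  have huu : polar Q u u = 0 := by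
    rw [Cfsg.Agent.Lib.Helper25.MaxTS.polar_self, hc2, zero_mul]
  have hvv : polar Q v v = 0 := by
    rw [Cfsg.Agent.Lib.Helper25.MaxTS.polar_self, hc2, zero_mul]
  have ht'G : GInv F₀ Q t' := by
    refine ⟨?_, ?_, ?_, ?_⟩
    · refine Subgroup.mem_inf.mpr ⟨?_, ?_⟩
      · apply mem_sub1_of_maps F₀ one_ne_zero
        intro x hx
        refine ⟨mv t' x, ?_, (one_smul _ _).symm⟩
        rw [hmvt'2]
        exact ratV_add hx (ratV_add (ratV_smul (ratV_polar h ru hx) ru)
          (ratV_smul (ratV_polar h rv hx) rv))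
      · have hmem : reflM Q u * reflM Q v ∈ Cfsg.Omega F ⇑Q := by
          rw [Cfsg.Agent.Lib.Helper25.Siegel.omega_eq_root' Q h.nd (by omega)]
          exact Cfsg.Agent.Lib.Helper25.Siegel.pair_same_norm_even Q hc2 h.nd (by omega)
            one_ne_zero hQu hQv
        rw [ht']
        exact ⟨_, hmem, rfl⟩
    · apply gl_ext
      intro x
      rw [mv_mul, mv_one, hmvt'2 (mv t' x), hmvt'2 x]
      simp only [polar_add_right, polar_smul_right, huu, hvv, huv, polar_comm Q v u, smul_zero,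
        add_zero]
      rw [add_assoc, ← two_smul F (polar Q u x • u + polar Q v x • v), hc2, zero_smul, add_zero]
    · refine ⟨u + v, e0 + e1, ratV_add ru rv, ?_, ?_, ?_⟩
      · intro h0
        have e : polar Q (u + v) e0 = 1 := by
          rw [hu, hv]
          simp only [polar_add_left, polar_self_sing hQe0, polar_comm Q f0 e0, e0f0,
            polar_comm Q e1 e0, e0e1, polar_comm Q f1 e0, e0f1]
          ring
        rw [h0, polar_zero_left] at e
        exact zero_ne_one e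
      · rw [Cfsg.Agent.Lib.Helper25.MaxTS.Q_add, hQu, hQv, huv, add_zero, h11]
      · rw [hmvt']
        have a1 : polar Q u (e0 + e1) = 1 := by
          rw [hu]
          simp only [polar_add_left, polar_add_right, polar_self_sing hQe0, polar_comm Q f0 e0,
            e0f0, e0e1, polar_comm Q f0 e1, e1f0]
          ring
        have a2 : polar Q v (e0 + e1) = 1 := by
          rw [hv]
          simp only [polar_add_left, polar_add_right, polar_self_sing hQe1, polar_comm Q f1 e0,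
            e0f1, polar_comm Q e1 e0, e0e1, polar_comm Q f1 e1, e1f1]
          ring
        rw [a1, a2, one_smul, one_smul]
    · refine ⟨fr.e 2, fr.f 2, fr.e 3, fr.f 3, hd.1, hd.2.1, hd.2.2.1, hd.2.2.2.1, hd.2.2.2.2.1,
        hd.2.2.2.2.2, ?_⟩
      intro x
      rw [hmvt']
      have key : ∀ w : ι → F, (w = fr.e 2 ∨ w = fr.f 2 ∨ w = fr.e 3 ∨ w = fr.f 3) →
          polar Q (polar Q u x • u + polar Q v x • v) w = 0 := by
        intro w hw
        obtain ⟨h1, h2, h3, h4⟩ := horth w hw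
        rw [hu, hv]
        simp only [polar_add_left, polar_smul_left, h1, h2, h3, h4, smul_zero, add_zero]
      exact ⟨key _ (Or.inl rfl), key _ (Or.inr (Or.inl rfl)), key _ (Or.inr (Or.inr (Or.inl rfl))),
        key _ (Or.inr (Or.inr (Or.inr rfl)))⟩
  have ht'Q : ∃ x, Q (mv t' x - x) ≠ 0 := by
    refine ⟨e0, ?_⟩
    rw [hmvt']
    have a1 : polar Q u e0 = 1 := by
      rw [hu, polar_add_left, polar_self_sing hQe0, polar_comm Q f0 e0, e0f0, zero_add]
    have a2 : polar Q v e0 = 0 := by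
      rw [hv, polar_add_left, polar_comm Q e1 e0, e0e1, polar_comm Q f1 e0, e0f1, zero_add]
    rw [a1, a2, one_smul, zero_smul, add_zero, hQu]
    exact one_ne_zero
  have ht'fix : Fintype.card ι ≤ finrank F (Eig t' 1) + 2 := by
    apply card_le_finrank_eig_add_two (Q := Q) t' u v
    intro x hx0 hx1
    have := hmvt' x
    rw [hx0, hx1, zero_smul, zero_smul, add_zero, sub_eq_zero] at this
    exact this
  exact ⟨t, t', htG, ht'G, htQ, ht'Q, htfix, ht'fix⟩

end Cfsg.Agent.Lib.Helper25.OSubLeaf
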