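import Mathlib
import Cfsg.Prelude.Def_ClassicalGeometry
import Cfsg.Prelude.Def_GeometricClasses
import Cfsg.Agent.Lib.Helper5.TSMax
import Cfsg.Agent.Lib.Helper5.LSubC
import Cfsg.Agent.Lib.Helper19.OSubDefs
import Cfsg.Agent.Lib.Helper19.OSubBasic
import Cfsg.Agent.Lib.Helper19.OSubDescent
import Cfsg.Agent.Lib.Helper19.OSubEM
import Cfsg.Agent.Lib.Helper13.OSubK2K3ccore
import Cfsg.Agent.Lib.Helper23.OSubRA
import Cfsg.Agent.Lib.Helper25.OSubK1

/-!
helper25: S5702 leaf market, round 2 (helper19): leaf K2 `round2`, wired from helper13's `round2_core`,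
helper25's K1 `exists_ginv2` and helper23's RA `ratact`; the leaf S (`stab`, helper19's own) is the only
remaining hypothesis.
-/

set_option autoImplicit false
set_option linter.unusedSectionVars false
set_option linter.unusedVariables false

namespace Cfsg.Agent.Lib.Helper25.OSubLeaf
open Cfsg Matrix QuadraticMap Module Cfsg.Agent.Lib.Helper25.Siegel Cfsg.Agent.Lib.Helper19.OSub

variable {ι : Type} [Fintype ι] [DecidableEq ι] {F : Type*} [Field F] [Fintype F]
  {F₀ : Subfield F} {Q : QuadraticForm F (ι → F)} {M : Subgroup (GL ι F)}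

/-- K2, with the leaf S (`stab`) as hypothesis -/
theorem round2_of
    (S : ∀ {t : GL ι F}, GInv F₀ Q t → ∀ {z : GL ι F}, z ∈ M → z * t = t * z →
      z ∈ Cfsg.Geo.subfieldSubgroup F₀ (1 : GL ι F))
    (h : Ctx F₀ Q M) (hc2 : (2 : F) = 0) (hr3 : 3 ≤ Module.finrank F₀ F) {g : GL ι F}
    (hg : g ∈ M) :
    ∃ z, z ∈ M ∧ RatInv F₀ Q z ∧ RatInv F₀ Q (g⁻¹ * z * g) ∧ z ≠ 1 ∧
      Fintype.card ι ≤ finrank F (Eig z 1) + 4 :=
  Cfsg.Agent.Lib.Helper13.OSubLeaf.round2_core (exists_ginv2 h.toQCtx hc2) S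
    (fun hz hzz => Cfsg.Agent.Lib.Helper23.OSubLeaf.ratact h.prime hr3 hz hzz) h hg

end Cfsg.Agent.Lib.Helper25.OSubLeaf
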