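import Mathlib
import Cfsg.Agent.Lib.Helper25.SpTK
import Cfsg.Agent.Lib.Helper25.TensS
import Cfsg.Agent.Lib.Helper19.SpTNDefs
import Cfsg.Agent.Lib.Helper23.SpTGS

/-!
S5704 (N1) leaf B8 `rootB_of_double`: the commutator of a double root element with a `K`-conjugate
is a T3 root element.
-/

set_option autoImplicit false
set_option linter.unusedSectionVars false
set_option linter.unusedVariables false
set_option linter.unusedSimpArgs false

namespace Cfsg.Agent.Lib.Helper25.SpTNLeaf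
open Matrix QuadraticMap
open Cfsg.Agent.Lib.Helper25.Tens Cfsg.Agent.Lib.Helper25.TensLeaves Cfsg.Agent.Lib.Helper19.OSub
open Cfsg.Agent.Lib.Helper25.SpT Cfsg.Agent.Lib.Helper19.SpTN
open scoped Kronecker commutatorElement

section general
variable {F : Type*} [Field F] {ι : Type} [Fintype ι] [DecidableEq ι] {Q : QuadraticForm F (ι → F)}

/-- root elements on four mutually orthogonal singular vectors commute -/
theorem rt_commute_of_orth {u v u' v' : ι → F} (hu : Q u = 0) (hv : Q v = 0) (hu' : Q u' = 0)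
    (hv' : Q v' = 0) (huv : polar Q u v = 0) (hu'v' : polar Q u' v' = 0)
    (h1 : polar Q u u' = 0) (h2 : polar Q u v' = 0) (h3 : polar Q v u' = 0)
    (h4 : polar Q v v' = 0) (c c' : F) :
    Commute (rt Q u v c) (rt Q u' v' c') := by
  unfold Commute SemiconjBy
  apply gl_ext
  intro x
  rw [mv_mul, mv_mul, mv_rt hu hv huv, mv_rt hu' hv' hu'v', mv_rt hu hv huv, mv_rt hu' hv' hu'v']
  simp only [polar_add_right, polar_smul_right, polar_sub_right, smul_eq_mul, h1, h2, h3, h4,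
    polar_comm Q u' u, polar_comm Q v' u, polar_comm Q u' v, polar_comm Q v' v]
  module

theorem comm_double_eq {G : Type*} [Group G] {p q r s : G} (hqp : Commute q p) (hqr : Commute q r)
    (hqs : Commute q s) (hsp : Commute s p) (hsr : Commute s r) :
    ⁅p * q, r * s⁆ = ⁅p, r⁆ := by
  have h1 : q * (r * s) * q⁻¹ = r * s := by
    rw [(hqr.mul_right hqs).eq, mul_inv_cancel_right]
  have h2 : s * p⁻¹ * s⁻¹ = p⁻¹ := by
    rw [(hsp.inv_right).eq, mul_inv_cancel_right]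
  rw [commutatorElement_def, commutatorElement_def, _root_.mul_inv_rev, _root_.mul_inv_rev]
  calc p * q * (r * s) * (q⁻¹ * p⁻¹) * (s⁻¹ * r⁻¹)
      = p * (q * (r * s) * q⁻¹) * p⁻¹ * s⁻¹ * r⁻¹ := by group
    _ = p * r * (s * p⁻¹ * s⁻¹) * r⁻¹ := by rw [h1]; group
    _ = p * r * p⁻¹ * r⁻¹ := by rw [h2]

end general

variable {F : Type*} [Field F] {a b : ℕ} {Q : QuadraticForm F (Idx a b → F)}

/-- the commutator of two double root elements whose Gram matrices have a single non-zero entry -/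
theorem comm_double_pt (h : Ctx a b Q) (x₀ x₁ x₁' : Fin a → F) (y y₂ y₃ y₂' : Fin b → F)
    (hA1 : sf x₀ x₁ = 0) (hA2 : sf x₀ x₁' = 0) {s : F} (hs : sf x₁ x₁' = s) (hs0 : s ≠ 0)
    (hB1 : sf y y₂ = 0) (hB2 : sf y₃ y₂' = 0) (hB3 : sf y y₃ = 0) (hB4 : sf y y₂' = 0)
    (hB5 : sf y₂ y₃ = 0) {t : F} (ht : sf y₂ y₂' = t) (ht0 : t ≠ 0) (c c' : F) :
    ⁅rt Q (pt x₀ y) (pt x₁ y₂) c * rt Q (pt x₁ y) (pt x₀ y₂) (-c),
      rt Q (pt x₀ y₃) (pt x₁' y₂') c' * rt Q (pt x₁' y₃) (pt x₀ y₂') (-c')⁆ =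
      rt Q (pt x₀ y) (pt x₀ y₃) (c * c' * s * t) := by
  have hA1' : sf x₁ x₀ = 0 := by rw [sf_skew, hA1, neg_zero]
  have hA2' : sf x₁' x₀ = 0 := by rw [sf_skew, hA2, neg_zero]
  have hB5' : sf y₃ y₂ = 0 := by rw [sf_skew, hB5, neg_zero]
  have hB3' : sf y₃ y = 0 := by rw [sf_skew, hB3, neg_zero]
  have hB4' : sf y₂' y = 0 := by rw [sf_skew, hB4, neg_zero]
  have hB1' : sf y₂ y = 0 := by rw [sf_skew, hB1, neg_zero]
  have hB2' : sf y₂' y₃ = 0 := by rw [sf_skew, hB2, neg_zero]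
  have P := h.pure
  rw [comm_double_eq]
  · -- the commutator of the two first factors
    have hst : s * t ≠ 0 := mul_ne_zero hs0 ht0
    have e1 : rt Q (pt x₀ y₃) (pt x₁' y₂') c' =
        rt Q ((s * t)⁻¹ • pt x₁' y₂') (pt x₀ y₃) (-(c' * s * t)) := by
      rw [rt_swap (P _ _) (P _ _) (by rw [h.pol, hA2, zero_mul]),
        rt_smul_left (P _ _) (P _ _) (by rw [h.pol, hA2', zero_mul])]
      congr 1
      field_simp
    rw [e1, rt_comm (P _ _) (P _ _) (P _ _)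
      (by rw [QuadraticMap.map_smul, P, smul_zero])]
    · congr 1
      ring
    · rw [h.pol, sf_self, zero_mul]
    · rw [h.pol, hA1, zero_mul]
    · rw [h.pol, hA1, zero_mul]
    · rw [polar_smul_right, h.pol, hA2, zero_mul, smul_zero]
    · rw [polar_smul_right, h.pol, hA2, zero_mul, smul_zero]
    · rw [polar_smul_right, h.pol, hs, ht, smul_eq_mul, inv_mul_cancel₀ hst]
  · exact rt_commute_of_orth (P _ _) (P _ _) (P _ _) (P _ _)
      (by rw [h.pol, hA1', zero_mul]) (by rw [h.pol, hA1, zero_mul])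
      (by rw [h.pol, hA1', zero_mul]) (by rw [h.pol, sf_self, zero_mul])
      (by rw [h.pol, sf_self, zero_mul]) (by rw [h.pol, hA1, zero_mul]) _ _
  · exact rt_commute_of_orth (P _ _) (P _ _) (P _ _) (P _ _)
      (by rw [h.pol, hA1', zero_mul]) (by rw [h.pol, hA2, zero_mul])
      (by rw [h.pol, hA1', zero_mul]) (by rw [h.pol, hB4, mul_zero])
      (by rw [h.pol, sf_self, zero_mul]) (by rw [h.pol, hA2, zero_mul]) _ _
  · exact rt_commute_of_orth (P _ _) (P _ _) (P _ _) (P _ _)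
      (by rw [h.pol, hA1', zero_mul]) (by rw [h.pol, hA2', zero_mul])
      (by rw [h.pol, hB3, mul_zero]) (by rw [h.pol, hA1', zero_mul])
      (by rw [h.pol, hA2, zero_mul]) (by rw [h.pol, sf_self, zero_mul]) _ _
  · exact rt_commute_of_orth (P _ _) (P _ _) (P _ _) (P _ _)
      (by rw [h.pol, hA2', zero_mul]) (by rw [h.pol, hA1, zero_mul])
      (by rw [h.pol, hA2', zero_mul]) (by rw [h.pol, hB5', mul_zero])
      (by rw [h.pol, sf_self, zero_mul]) (by rw [h.pol, hA1, zero_mul]) _ _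
  · exact rt_commute_of_orth (P _ _) (P _ _) (P _ _) (P _ _)
      (by rw [h.pol, hA2', zero_mul]) (by rw [h.pol, hA2, zero_mul])
      (by rw [h.pol, hA2', zero_mul]) (by rw [h.pol, sf_self, zero_mul])
      (by rw [h.pol, sf_self, zero_mul]) (by rw [h.pol, hA2, zero_mul]) _ _

variable [Fintype F] {M : Subgroup (GL (Idx a b) F)}

/-- (B8) a double root element gives a T3 root element -/
theorem rootB_of_double (h : MCtx a b Q M) (o o' : Fin b) (ho : o.val = 0) (ho' : o'.val = 1)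
    (l : Fin b) (hl : l ≠ o) (hl' : l ≠ o') (x₀ x₁ : Fin a → F)
    (hind : LinearIndependent F ![x₀, x₁]) (hsf : sf x₀ x₁ = 0) (ha4 : 4 ≤ a) (c : F) (hc : c ≠ 0)
    (hd : rt Q (pt x₀ (Pi.single o 1)) (pt x₁ (Pi.single l 1)) c *
      rt Q (pt x₁ (Pi.single o 1)) (pt x₀ (Pi.single l 1)) (-c) ∈ M) : RootB Q M := by
  have hc' := h.toCtx
  have eb := h.eb
  -- the A side
  obtain ⟨xs, hxs0, hxs1⟩ := Cfsg.Agent.Lib.Helper23.SpTGLeaf.exists_perp_not_perp h.ea hind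
  obtain ⟨s₁, hs₁⟩ : ∃ s₁ : F, s₁ = sf x₁ xs := ⟨_, rfl⟩
  have hs₁0 : s₁ ≠ 0 := by rw [hs₁]; exact hxs1
  have hx₀ : x₀ ≠ 0 := by
    have := hind.ne_zero 0
    simpa using this
  -- the indices
  have hpo : pr eb o = o' := pr_o eb o o' ho ho'
  have hpo' : pr eb o' = o := pr_o' eb o o' ho ho'
  obtain ⟨ls, hls⟩ : ∃ ls : Fin b, ls = pr eb l := ⟨_, rfl⟩
  have hpls : pr eb ls = l := by rw [hls, pr_pr]
  have hlso : ls ≠ o := by
    intro e
    apply hl'
    rw [← hpls, e, hpo]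
  have hlso' : ls ≠ o' := by
    intro e
    apply hl
    rw [← hpls, e, hpo']
  obtain ⟨m, hmo, hmo', hml, hmls⟩ : ∃ m : Fin b, m ≠ o ∧ m ≠ o' ∧ m ≠ l ∧ m ≠ ls := by
    have hcard : ({o, o', l, ls} : Finset (Fin b)).card < (Finset.univ : Finset (Fin b)).card := by
      have h4 := Finset.card_le_four (a := o) (b := o') (c := l) (d := ls)
      rw [Finset.card_univ, Fintype.card_fin]
      have := h.hab
      omega
    obtain ⟨m, -, hm⟩ := Finset.exists_mem_notMem_of_card_lt_card hcard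
    simp only [Finset.mem_insert, Finset.mem_singleton, not_or] at hm
    exact ⟨m, hm.1, hm.2.1, hm.2.2.1, hm.2.2.2⟩
  have hpm_l : pr eb m ≠ l := by
    intro e
    apply hmls
    rw [← pr_pr eb m, e, hls]
  have hpm_ls : pr eb m ≠ ls := by
    intro e
    apply hml
    rw [← pr_pr eb m, e, hpls]
  -- values of the form on the basis vectors
  have z := fun (i j : Fin b) (hij : j ≠ pr eb i) => sf_single_eq_zero (F := F) eb i j hij
  have z_oo' : sf (Pi.single o (1 : F) : Fin b → F) (Pi.single o' 1) = 1 := sf_o_o' o o' ho ho'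
  have z_ol : sf (Pi.single o (1 : F) : Fin b → F) (Pi.single l 1) = 0 := z o l (by rw [hpo]; exact hl')
  have z_ols : sf (Pi.single o (1 : F) : Fin b → F) (Pi.single ls 1) = 0 :=
    z o ls (by rw [hpo]; exact hlso')
  have z_om : sf (Pi.single o (1 : F) : Fin b → F) (Pi.single m 1) = 0 :=
    z o m (by rw [hpo]; exact hmo')
  have z_o'm : sf (Pi.single o' (1 : F) : Fin b → F) (Pi.single m 1) = 0 :=
    z o' m (by rw [hpo']; exact hmo)
  have z_lo : sf (Pi.single l (1 : F) : Fin b → F) (Pi.single o 1) = 0 := by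
    rw [sf_skew, z_ol, neg_zero]
  have z_lo' : sf (Pi.single l (1 : F) : Fin b → F) (Pi.single o' 1) = 0 :=
    z l o' (by rw [← hls]; exact hlso'.symm)
  have z_lso' : sf (Pi.single ls (1 : F) : Fin b → F) (Pi.single o' 1) = 0 :=
    z ls o' (by rw [hpls]; exact hl'.symm)
  have z_lm : sf (Pi.single l (1 : F) : Fin b → F) (Pi.single m 1) = 0 :=
    z l m (by rw [← hls]; exact hmls)
  have z_lsm : sf (Pi.single ls (1 : F) : Fin b → F) (Pi.single m 1) = 0 :=
    z ls m (by rw [hpls]; exact hml)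
  have z_ml : sf (Pi.single m (1 : F) : Fin b → F) (Pi.single l 1) = 0 := by
    rw [sf_skew, z_lm, neg_zero]
  have z_mls : sf (Pi.single m (1 : F) : Fin b → F) (Pi.single ls 1) = 0 := by
    rw [sf_skew, z_lsm, neg_zero]
  obtain ⟨J, hJ⟩ : ∃ J : F, J = sf (Pi.single l (1 : F) : Fin b → F) (Pi.single ls 1) := ⟨_, rfl⟩
  have hJ0 : J ≠ 0 := by
    rw [hJ, sf_single_single, hls]
    exact Jm_pr_ne_zero eb l
  -- the conjugating element
  obtain ⟨κ, hκ⟩ : ∃ κ : GL (Idx a b) F, κ = kA xs 1 * (kB (Pi.single o' 1 + Pi.single m 1) 1 *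
      kB (Pi.single o' 1) (-1) * kB (Pi.single ls 1) 1) := ⟨_, rfl⟩
  have hκM : κ ∈ M := by
    rw [hκ]
    exact M.mul_mem (kA_mem h _ _)
      (M.mul_mem (M.mul_mem (kB_mem h _ _) (kB_mem h _ _)) (kB_mem h _ _))
  have hκiso : κ ∈ Cfsg.isometryGroup F ⇑Q := M_le_iso h hκM
  have hκo : ∀ x : Fin a → F, mv κ (pt x (Pi.single o 1)) =
      pt (x + sf x xs • xs) (Pi.single o 1 + Pi.single m 1) := by
    intro x
    rw [hκ, mv_mul, mv_mul, mv_mul, mv_kB_pt, mv_kB_pt, mv_kB_pt, mv_kA_pt]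
    congr 1
    · rw [one_mul]
    · simp only [sf_add_left, sf_add_right, sf_smul_left, sf_neg_left, sf_self, z_ols, z_oo', z_om,
        z_o'm, mul_zero, zero_smul, add_zero, mul_one, neg_smul, one_smul, mul_neg, neg_zero,
        zero_add, sub_zero]
      module
  have hκl : ∀ x : Fin a → F, mv κ (pt x (Pi.single l 1)) =
      pt (x + sf x xs • xs) (Pi.single l 1 + J • Pi.single ls 1) := by
    intro x
    rw [hκ, mv_mul, mv_mul, mv_mul, mv_kB_pt, mv_kB_pt, mv_kB_pt, mv_kA_pt]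
    congr 1
    · rw [one_mul]
    · simp only [sf_add_left, sf_add_right, sf_smul_left, ← hJ, z_lo', z_lso', z_lm, z_lsm,
        mul_zero, zero_smul, add_zero, mul_one, one_mul]
  -- the conjugate double root element
  obtain ⟨x₁', hx₁'⟩ : ∃ x₁' : Fin a → F, x₁' = x₁ + s₁ • xs := ⟨_, rfl⟩
  have hαx₀ : x₀ + sf x₀ xs • xs = x₀ := by rw [hxs0, zero_smul, add_zero]
  have hαx₁ : x₁ + sf x₁ xs • xs = x₁' := by rw [hx₁', hs₁]
  obtain ⟨y₃, hy₃⟩ : ∃ y₃ : Fin b → F, y₃ = Pi.single o 1 + Pi.single m 1 := ⟨_, rfl⟩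
  obtain ⟨y₂', hy₂'⟩ : ∃ y₂' : Fin b → F, y₂' = Pi.single l 1 + J • Pi.single ls 1 := ⟨_, rfl⟩
  have hd' : rt Q (pt x₀ y₃) (pt x₁' y₂') c * rt Q (pt x₁' y₃) (pt x₀ y₂') (-c) ∈ M := by
    have h1 := M.mul_mem (M.mul_mem hκM hd) (M.inv_mem hκM)
    have e : κ * (rt Q (pt x₀ (Pi.single o 1)) (pt x₁ (Pi.single l 1)) c *
        rt Q (pt x₁ (Pi.single o 1)) (pt x₀ (Pi.single l 1)) (-c)) * κ⁻¹ =
        (κ * rt Q (pt x₀ (Pi.single o 1)) (pt x₁ (Pi.single l 1)) c * κ⁻¹) *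
        (κ * rt Q (pt x₁ (Pi.single o 1)) (pt x₀ (Pi.single l 1)) (-c) * κ⁻¹) := by group
    rw [e, conj_rt hκiso, conj_rt hκiso, hκo, hκo, hκl, hκl, hαx₀, hαx₁, ← hy₃, ← hy₂'] at h1
    exact h1
  have hcomm : ⁅rt Q (pt x₀ (Pi.single o 1)) (pt x₁ (Pi.single l 1)) c *
      rt Q (pt x₁ (Pi.single o 1)) (pt x₀ (Pi.single l 1)) (-c),
      rt Q (pt x₀ y₃) (pt x₁' y₂') c * rt Q (pt x₁' y₃) (pt x₀ y₂') (-c)⁆ ∈ M := by
    rw [commutatorElement_def]
    exact M.mul_mem (M.mul_mem (M.mul_mem hd hd') (M.inv_mem hd)) (M.inv_mem hd')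
  have hA2 : sf x₀ x₁' = 0 := by
    rw [hx₁', sf_add_right, sf_smul_right, hsf, hxs0, mul_zero, add_zero]
  have hs : sf x₁ x₁' = s₁ * s₁ := by
    rw [hx₁', sf_add_right, sf_smul_right, sf_self, zero_add, ← hs₁]
  have hB2 : sf y₃ y₂' = 0 := by
    rw [hy₃, hy₂']
    simp only [sf_add_left, sf_add_right, sf_smul_right, z_ol, z_ols, z_ml, z_mls, mul_zero,
      add_zero]
  have hB3 : sf (Pi.single o (1 : F) : Fin b → F) y₃ = 0 := by
    rw [hy₃, sf_add_right, sf_self, z_om, add_zero]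
  have hB4 : sf (Pi.single o (1 : F) : Fin b → F) y₂' = 0 := by
    rw [hy₂', sf_add_right, sf_smul_right, z_ol, z_ols, mul_zero, add_zero]
  have hB5 : sf (Pi.single l (1 : F) : Fin b → F) y₃ = 0 := by
    rw [hy₃, sf_add_right, z_lo, z_lm, add_zero]
  have ht : sf (Pi.single l (1 : F) : Fin b → F) y₂' = J * J := by
    rw [hy₂', sf_add_right, sf_smul_right, sf_self, zero_add, ← hJ]
  rw [comm_double_pt hc' x₀ x₁ x₁' (Pi.single o 1) (Pi.single l 1) y₃ y₂' hsf hA2 hs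
    (mul_ne_zero hs₁0 hs₁0) z_ol hB2 hB3 hB4 hB5 ht (mul_ne_zero hJ0 hJ0) c c] at hcomm
  refine ⟨x₀, x₀, Pi.single o 1, y₃, c * c * (s₁ * s₁) * (J * J), ?_, hx₀, hx₀, ?_, ?_, hcomm⟩
  · exact mul_ne_zero (mul_ne_zero (mul_ne_zero hc hc) (mul_ne_zero hs₁0 hs₁0))
      (mul_ne_zero hJ0 hJ0)
  · rw [LinearIndependent.pair_iff]
    intro p q hpq
    have h1 := congrFun hpq m
    have h2 := congrFun hpq o
    rw [hy₃] at h1 h2
    simp [Pi.single_apply, hmo, hmo.symm] at h1 h2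
    subst h1
    simpa using h2
  · rw [sf_self, zero_mul]

end Cfsg.Agent.Lib.Helper25.SpTNLeaf
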