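/-
helper25: EQ leaf (R11) `finrank_iInf_ge` (planner helper2, notes/EQ_leaves.lean):
finitely many subspaces of relative codimension at most one.
-/
import Cfsg.Agent.Lib.Helper2.EQDefs

set_option autoImplicit false

namespace Cfsg.Agent.Lib.Helper25.EQ

open Matrix Module Cfsg.Agent.Lib.Helper16.SLMin Cfsg.Agent.Lib.Helper16.SLMinSpine
  Cfsg.Agent.Lib.Helper2.EQ

/-- relative codimension at most one passes to smaller subspaces -/
theorem finrank_inf_step {V : Type*} [AddCommGroup V] [Module ℂ V] [FiniteDimensional ℂ V]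
    (C D W : Submodule ℂ V) (hDC : D ≤ C)
    (h : finrank ℂ ↥C ≤ finrank ℂ ↥(C ⊓ W) + 1) :
    finrank ℂ ↥D ≤ finrank ℂ ↥(D ⊓ W) + 1 := by
  have h1 := Submodule.finrank_sup_add_finrank_inf_eq D (C ⊓ W)
  have h2 : finrank ℂ ↥(D ⊔ C ⊓ W) ≤ finrank ℂ ↥C :=
    Submodule.finrank_mono (sup_le hDC inf_le_left)
  have h3 : D ⊓ (C ⊓ W) = D ⊓ W := by
    rw [← inf_assoc, inf_eq_left.2 hDC]
  rw [h3] at h1
  omega

/-- R11: linear algebra: finitely many subspaces of codimension at most one -/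
theorem finrank_iInf_ge {V : Type*} [AddCommGroup V] [Module ℂ V] [FiniteDimensional ℂ V]
    {I : Type*} (S : Finset I) (C : Submodule ℂ V) (W : I → Submodule ℂ V)
    (h : ∀ i ∈ S, finrank ℂ ↥C ≤ finrank ℂ ↥(C ⊓ W i) + 1) :
    finrank ℂ ↥C ≤ finrank ℂ ↥(C ⊓ ⨅ i ∈ S, W i) + S.card := by
  classical
  induction S using Finset.induction_on with
  | empty =>
    have : (⨅ i ∈ (∅ : Finset I), W i) = ⊤ := by simp
    rw [this, inf_top_eq]
    omega
  | insert a S ha ih =>
    have ih' := ih (fun i hi => h i (Finset.mem_insert_of_mem hi))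
    have hstep := finrank_inf_step C (C ⊓ ⨅ i ∈ S, W i) (W a) inf_le_left
      (h a (Finset.mem_insert_self a S))
    have heq : C ⊓ ⨅ i ∈ insert a S, W i = (C ⊓ ⨅ i ∈ S, W i) ⊓ W a := by
      rw [Finset.iInf_insert, inf_assoc, inf_comm (W a)]
    rw [heq, Finset.card_insert_of_notMem ha]
    omega

end Cfsg.Agent.Lib.Helper25.EQ
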