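/-
helper25: EQ leaf (R5) `Cfix_le_iSup_wtT` + `sum_finrank_wtT_le` (planner helper2,
notes/EQ_leaves.lean): a finite abelian group acting on a complex vector space; a stable
subspace is the sum of its joint eigenspaces, and these are independent.
-/
import Cfsg.Agent.Lib.Helper2.EQDefs
import Cfsg.Agent.Lib.Helper20.EQM1

set_option autoImplicit false

namespace Cfsg.Agent.Lib.Helper25.EQ

open Matrix Module Cfsg.Agent.Lib.Helper16.SLMin Cfsg.Agent.Lib.Helper16.SLMinSpine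
  Cfsg.Agent.Lib.Helper2.EQ

section general

variable {T : Type*} [CommGroup T] [Finite T] {V : Type*} [AddCommGroup V] [Module ℂ V]

/-- joint eigenspace of a finite abelian group acting linearly -/
def eig (σ : T →* Module.End ℂ V) (θ : T →* ℂˣ) : Submodule ℂ V where
  carrier := {x | ∀ t : T, σ t x = ((θ t : ℂˣ) : ℂ) • x}
  add_mem' := by
    intro x y hx hy t
    rw [map_add, hx t, hy t, smul_add]
  zero_mem' := by
    intro t
    rw [map_zero, smul_zero]
  smul_mem' := by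
    intro c x hx t
    rw [map_smul, hx t, smul_comm]

omit [Finite T] in
theorem mem_eig {σ : T →* Module.End ℂ V} {θ : T →* ℂˣ} {x : V} :
    x ∈ eig σ θ ↔ ∀ t : T, σ t x = ((θ t : ℂˣ) : ℂ) • x := Iff.rfl

/-- dual orthogonality: the characters of a finite abelian group separate points -/
theorem sum_char_apply_of_ne [Fintype (T →* ℂˣ)] (t : T) (ht : t ≠ 1) :
    ∑ θ : T →* ℂˣ, ((θ t : ℂˣ) : ℂ) = 0 := by
  have : NeZero (Monoid.exponent T : ℂ) :=
    ⟨by exact_mod_cast (Monoid.exponent_ne_zero_of_finite (G := T))⟩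
  obtain ⟨φ, hφ⟩ := CommGroup.exists_apply_ne_one_of_hasEnoughRootsOfUnity T ℂ ht
  have h : ∑ θ : T →* ℂˣ, ((θ t : ℂˣ) : ℂ) =
      ((φ t : ℂˣ) : ℂ) * ∑ θ : T →* ℂˣ, ((θ t : ℂˣ) : ℂ) := by
    rw [Finset.mul_sum]
    refine (Fintype.sum_equiv (Equiv.mulLeft φ) _ _ (fun θ => ?_)).symm
    simp
  have h1 : ((φ t : ℂˣ) : ℂ) ≠ 1 := by
    intro h'
    exact hφ (Units.ext h')
  have h2 : (1 - ((φ t : ℂˣ) : ℂ)) * ∑ θ : T →* ℂˣ, ((θ t : ℂˣ) : ℂ) = 0 := by
    rw [sub_mul, one_mul, ← h, sub_self]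
  rcases mul_eq_zero.1 h2 with h3 | h3
  · exact absurd (sub_eq_zero.1 h3).symm h1
  · exact h3

theorem card_char [Fintype (T →* ℂˣ)] : (Fintype.card (T →* ℂˣ) : ℂ) = (Nat.card T : ℂ) := by
  have : NeZero (Monoid.exponent T : ℂ) :=
    ⟨by exact_mod_cast (Monoid.exponent_ne_zero_of_finite (G := T))⟩
  rw [← Nat.card_eq_fintype_card, CommGroup.card_monoidHom_of_hasEnoughRootsOfUnity T ℂ]

/-- a stable subspace is the sum of its joint eigenspaces -/
theorem le_iSup_eig (σ : T →* Module.End ℂ V) (C : Submodule ℂ V)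
    (hC : ∀ (t : T) (x : V), x ∈ C → σ t x ∈ C) :
    C ≤ ⨆ θ : T →* ℂˣ, C ⊓ eig σ θ := by
  classical
  have : Fintype T := Fintype.ofFinite T
  have : Fintype (T →* ℂˣ) := Fintype.ofFinite _
  intro x hx
  have hn0 : (Nat.card T : ℂ) ≠ 0 := by
    exact_mod_cast (Nat.card_pos (α := T)).ne'
  let pr : (T →* ℂˣ) → V := fun θ =>
    (Nat.card T : ℂ)⁻¹ • ∑ t : T, (((θ t)⁻¹ : ℂˣ) : ℂ) • σ t x
  have key : ∀ t : T, ∑ θ : T →* ℂˣ, (((θ t)⁻¹ : ℂˣ) : ℂ) =
      if t = 1 then (Nat.card T : ℂ) else 0 := by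
    intro t
    have e : ∀ θ : T →* ℂˣ, (((θ t)⁻¹ : ℂˣ) : ℂ) = ((θ t⁻¹ : ℂˣ) : ℂ) := by
      intro θ
      rw [map_inv]
    simp_rw [e]
    split_ifs with h
    · subst h
      simp only [inv_one, map_one, Units.val_one, Finset.sum_const, Finset.card_univ,
        nsmul_eq_mul, mul_one]
      exact card_char
    · exact sum_char_apply_of_ne t⁻¹ (by simpa using h)
  have hsum : x = ∑ θ : T →* ℂˣ, pr θ := by
    simp only [pr]
    rw [← Finset.smul_sum, Finset.sum_comm]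
    simp_rw [← Finset.sum_smul, key]
    simp only [ite_smul, zero_smul, Finset.sum_ite_eq', Finset.mem_univ, if_true, map_one,
      Module.End.one_apply]
    rw [smul_smul, inv_mul_cancel₀ hn0, one_smul]
  have hmem : ∀ θ : T →* ℂˣ, pr θ ∈ C ⊓ eig σ θ := by
    intro θ
    refine ⟨C.smul_mem _ (C.sum_mem fun t _ => C.smul_mem _ (hC t x hx)), ?_⟩
    intro s
    simp only [pr, map_smul, map_sum]
    rw [smul_comm]
    congr 1
    rw [Finset.smul_sum]
    refine Fintype.sum_equiv (Equiv.mulLeft s) _ _ (fun u => ?_)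
    simp only [Equiv.coe_mulLeft, map_mul, Module.End.mul_apply, smul_smul]
    congr 1
    rw [← Units.val_mul]
    congr 1
    rw [_root_.mul_inv_rev, mul_comm (θ u)⁻¹, mul_inv_cancel_left]
  rw [hsum]
  exact Submodule.sum_mem _ (fun θ _ => Submodule.mem_iSup_of_mem θ (hmem θ))

omit [Finite T] in
/-- the operator `∑ t, θ(t)⁻¹ σ(t)` on a joint eigenvector -/
theorem sum_smul_apply_of_mem_eig [Fintype T] (σ : T →* Module.End ℂ V) (θ θ' : T →* ℂˣ)
    {y : V} (hy : y ∈ eig σ θ') :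
    ∑ t : T, (((θ t)⁻¹ : ℂˣ) : ℂ) • σ t y =
      if θ' = θ then (Nat.card T : ℂ) • y else 0 := by
  classical
  have h1 : ∀ t : T, (((θ t)⁻¹ : ℂˣ) : ℂ) • σ t y =
      ((Units.coeHom ℂ).comp (θ' * θ⁻¹) t) • y := by
    intro t
    rw [hy t, smul_smul]
    congr 1
    simp [mul_comm]
  simp_rw [h1, ← Finset.sum_smul]
  split_ifs with h
  · subst h
    simp [Nat.card_eq_fintype_card]
  · rw [sum_hom_units_eq_zero, zero_smul]
    intro h'
    apply h
    have h2 : θ' * θ⁻¹ = 1 := by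
      ext t
      have := DFunLike.congr_fun h' t
      simpa using this
    exact mul_inv_eq_one.1 h2

/-- a joint eigenspace is disjoint from the span of finitely many others -/
theorem disjoint_eig_biSup (σ : T →* Module.End ℂ V) (θ : T →* ℂˣ) (S : Finset (T →* ℂˣ))
    (hθ : θ ∉ S) : Disjoint (eig σ θ) (⨆ θ' ∈ S, eig σ θ') := by
  classical
  have : Fintype T := Fintype.ofFinite T
  let E : V →ₗ[ℂ] V := ∑ t : T, (((θ t)⁻¹ : ℂˣ) : ℂ) • σ t
  have hE : ∀ y : V, E y = ∑ t : T, (((θ t)⁻¹ : ℂˣ) : ℂ) • σ t y := by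
    intro y
    simp [E, LinearMap.sum_apply]
  have hker : (⨆ θ' ∈ S, eig σ θ') ≤ LinearMap.ker E := by
    refine iSup₂_le (fun θ' hθ' y hy => ?_)
    rw [LinearMap.mem_ker, hE, sum_smul_apply_of_mem_eig σ θ θ' hy, if_neg]
    rintro rfl
    exact hθ hθ'
  rw [Submodule.disjoint_def]
  intro y hy hy'
  have h0 : E y = 0 := hker hy'
  rw [hE, sum_smul_apply_of_mem_eig σ θ θ hy, if_pos rfl] at h0
  have hn0 : (Nat.card T : ℂ) ≠ 0 := by
    exact_mod_cast (Nat.card_pos (α := T)).ne'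
  exact (smul_eq_zero.1 h0).resolve_left hn0

/-- the joint eigenspaces inside a subspace are independent (dimension form) -/
theorem sum_finrank_eig_eq [FiniteDimensional ℂ V] (σ : T →* Module.End ℂ V)
    (C : Submodule ℂ V) (S : Finset (T →* ℂˣ)) :
    ∑ θ ∈ S, finrank ℂ ↥(C ⊓ eig σ θ) = finrank ℂ ↥(⨆ θ ∈ S, C ⊓ eig σ θ) := by
  classical
  induction S using Finset.induction_on with
  | empty =>
    have : (⨆ θ ∈ (∅ : Finset (T →* ℂˣ)), C ⊓ eig σ θ) = ⊥ := by simp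
    rw [this, finrank_bot, Finset.sum_empty]
  | insert a S ha ih =>
    rw [Finset.sum_insert ha, ih, Finset.iSup_insert]
    have hdis : Disjoint (C ⊓ eig σ a) (⨆ θ ∈ S, C ⊓ eig σ θ) := by
      refine (disjoint_eig_biSup σ a S ha).mono inf_le_right ?_
      exact iSup₂_mono (fun θ _ => inf_le_right)
    have h1 := Submodule.finrank_sup_add_finrank_inf_eq (C ⊓ eig σ a) (⨆ θ ∈ S, C ⊓ eig σ θ)
    rw [hdis.eq_bot, finrank_bot, add_zero] at h1
    exact h1.symm

theorem sum_finrank_eig_le [FiniteDimensional ℂ V] (σ : T →* Module.End ℂ V)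
    (C : Submodule ℂ V) (S : Finset (T →* ℂˣ)) :
    ∑ θ ∈ S, finrank ℂ ↥(C ⊓ eig σ θ) ≤ finrank ℂ ↥C := by
  rw [sum_finrank_eig_eq]
  exact Submodule.finrank_mono (iSup₂_le (fun θ _ => inf_le_left))

end general

section R

variable {F : Type*} [Field F] [Fintype F] [DecidableEq F] {M : Type*} [AddCommGroup M]
  [Module ℂ M] [FiniteDimensional ℂ M]

variable {N : ℕ}

omit [Fintype F] [DecidableEq F] [FiniteDimensional ℂ M] in
/-- `wtT` is the joint eigenspace of the torus acting through `dg` -/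
theorem wtT_eq_eig (ρ : Representation ℂ (SpecialLinearGroup (Fin (N + 1)) F) M)
    (θ : Tor (N + 1) F →* ℂˣ) : wtT ρ θ = eig (ρ.comp dg) θ := rfl

omit [Fintype F] [DecidableEq F] [FiniteDimensional ℂ M] in
/-- STAB1 (own copy, from helper20's M4): the torus preserves `C_M(U)` -/
theorem dg_mem_Cfix' (ρ : Representation ℂ (SpecialLinearGroup (Fin (N + 1)) F) M)
    (t : Tor (N + 1) F) {x : M} (hx : x ∈ Cfix ρ) : ρ (dg t) x ∈ Cfix ρ := by
  intro a b hab s
  have h := Cfsg.Agent.Lib.Helper20.EQ.dg_conj_X (t⁻¹) a b s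
  -- `X a b s * dg t = dg t * X a b (c s)`
  have h2 : X a b s * dg t = dg t * X a b
      (((((t⁻¹ : Tor (N + 1) F) : Fin (N + 1) → Fˣ) a : Fˣ) : F) *
        ((((((t⁻¹ : Tor (N + 1) F) : Fin (N + 1) → Fˣ) b)⁻¹ : Fˣ)) : F) * s) := by
    rw [← h, map_inv, inv_inv]
    group
  have h3 : ρ (X a b s) (ρ (dg t) x) = (ρ (X a b s * dg t)) x := by
    rw [map_mul]; rfl
  rw [h3, h2, map_mul, Module.End.mul_apply, hx a b hab]

/-- R5a: `C_M(U)` is spanned by its torus weight spaces -/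
theorem Cfix_le_iSup_wtT (ρ : Representation ℂ (SpecialLinearGroup (Fin (N + 1)) F) M) :
    Cfix ρ ≤ ⨆ θ : Tor (N + 1) F →* ℂˣ, Cfix ρ ⊓ wtT ρ θ := by
  have : Finite (Tor (N + 1) F) := inferInstance
  exact le_iSup_eig (ρ.comp dg) (Cfix ρ) (fun t x hx => dg_mem_Cfix' ρ t hx)

/-- R5b: the torus weight spaces are independent -/
theorem sum_finrank_wtT_le (ρ : Representation ℂ (SpecialLinearGroup (Fin (N + 1)) F) M)
    (S : Finset (Tor (N + 1) F →* ℂˣ)) :
    ∑ θ ∈ S, finrank ℂ ↥(Cfix ρ ⊓ wtT ρ θ) ≤ finrank ℂ ↥(Cfix ρ) :=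
  sum_finrank_eig_le (ρ.comp dg) (Cfix ρ) S

end R

end Cfsg.Agent.Lib.Helper25.EQ
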