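/-
helper25: S2281, the transvection calculus used by all cores (any field, any characteristic):
* `Sh a b c = Tr (a+b) c * Tr a (-c) * Tr b (-c)` (for `a ⊥ b`) is the short root element
  `x ↦ x + c (f(x,a) b + f(x,b) a)`  (`ap_Sh`);
* `Tr_add_smul_orth`: `Tr (y + a • v) γ = Tr y γ * Tr v (a² γ) * Sh y v (a γ)` for `y ⊥ v`;
* `Tr_pm`: `Tr (y + a • v) γ * Tr (y - a • v) γ = Tr y (2γ) * Tr v (2 a² γ)` for `y ⊥ v`;
* `Sh_pencil`: `Sh v z₁ γ * Sh v z₂ γ = Sh v (z₁+z₂) γ * Tr v (γ² f(z₂,z₁))` for `v ⊥ z₁, z₂`;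
* `conj_Tr_Sh`: conjugating `Tr y γ` by `Sh v z t`.
-/
import Mathlib
import Cfsg.Agent.Lib.Helper6.SpGenB

set_option autoImplicit false

namespace Cfsg.Agent.Lib.Helper25.SpReg

open Matrix Cfsg.Agent.Lib.Helper5 Cfsg.Agent.Lib.Helper14 Cfsg.Agent.Lib.Helper14.SpPerfect
open Cfsg.Agent.Lib.Helper6.SpGen

variable {F : Type*} [Field F] {m : ℕ}

/-- the short root element attached to an isotropic pair, written with transvections -/
def Sh (a b : Fin m ⊕ Fin m → F) (c : F) : Matrix.symplecticGroup (Fin m) F :=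
  Tr (a + b) c * Tr a (-c) * Tr b (-c)

theorem ap_Sh (a b x : Fin m ⊕ Fin m → F) (c : F) (hab : Cfsg.sympForm m F a b = 0) :
    ap (Sh a b c) x = x + (c * Cfsg.sympForm m F x a) • b + (c * Cfsg.sympForm m F x b) • a := by
  have hba : Cfsg.sympForm m F b a = 0 := by rw [sympForm_swap, hab, neg_zero]
  unfold Sh
  rw [ap_mul, ap_mul, ap_Tr, ap_Tr, ap_Tr]
  simp only [sympForm_add_left, sympForm_add_right, sympForm_smul_left, sympForm_self, hab, hba,
    mul_zero, add_zero, zero_add]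
  module

theorem Sh_mem {M : Subgroup (Matrix.symplecticGroup (Fin m) F)} {a b : Fin m ⊕ Fin m → F} {c : F}
    (h1 : Tr (a + b) c ∈ M) (h2 : Tr a c ∈ M) (h3 : Tr b c ∈ M) : Sh a b c ∈ M := by
  unfold Sh
  rw [Tr_neg, Tr_neg]
  exact M.mul_mem (M.mul_mem h1 (M.inv_mem h2)) (M.inv_mem h3)

/-- conjugating a transvection by a short root element -/
theorem conj_Tr_Sh (v z y : Fin m ⊕ Fin m → F) (t γ : F) (hvz : Cfsg.sympForm m F v z = 0) :
    Sh v z t * Tr y γ * (Sh v z t)⁻¹ =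
      Tr (y + (t * Cfsg.sympForm m F y v) • z + (t * Cfsg.sympForm m F y z) • v) γ := by
  rw [conj_Tr', ap_Sh _ _ _ _ hvz]

theorem Tr_add_smul_orth (y v : Fin m ⊕ Fin m → F) (a γ : F) (hyv : Cfsg.sympForm m F y v = 0) :
    Tr (y + a • v) γ = Tr y γ * Tr v (a ^ 2 * γ) * Sh y v (a * γ) := by
  have hvy : Cfsg.sympForm m F v y = 0 := by rw [sympForm_swap, hyv, neg_zero]
  apply ap_ext
  intro x
  rw [ap_mul, ap_mul, ap_Sh _ _ _ _ hyv, ap_Tr, ap_Tr, ap_Tr]
  simp only [sympForm_add_left, sympForm_add_right, sympForm_smul_left, sympForm_smul_right,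
    sympForm_self, hyv, hvy, mul_zero, add_zero, zero_add]
  module

theorem Tr_pm (y v : Fin m ⊕ Fin m → F) (a γ : F) (hyv : Cfsg.sympForm m F y v = 0) :
    Tr (y + a • v) γ * Tr (y - a • v) γ = Tr y (2 * γ) * Tr v (2 * a ^ 2 * γ) := by
  have hvy : Cfsg.sympForm m F v y = 0 := by rw [sympForm_swap, hyv, neg_zero]
  apply ap_ext
  intro x
  rw [ap_mul, ap_mul, ap_Tr, ap_Tr, ap_Tr, ap_Tr]
  simp only [sympForm_add_left, sympForm_add_right, sympForm_sub_left, sympForm_sub_right,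
    sympForm_smul_left, sympForm_smul_right, sympForm_self, hyv, hvy, mul_zero, add_zero,
    zero_add, sub_zero, zero_sub]
  module

theorem Sh_pencil (v z₁ z₂ : Fin m ⊕ Fin m → F) (γ : F)
    (h1 : Cfsg.sympForm m F v z₁ = 0) (h2 : Cfsg.sympForm m F v z₂ = 0) :
    Sh v z₁ γ * Sh v z₂ γ = Sh v (z₁ + z₂) γ * Tr v (γ ^ 2 * Cfsg.sympForm m F z₂ z₁) := by
  have h1' : Cfsg.sympForm m F z₁ v = 0 := by rw [sympForm_swap, h1, neg_zero]
  have h2' : Cfsg.sympForm m F z₂ v = 0 := by rw [sympForm_swap, h2, neg_zero]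
  have h12 : Cfsg.sympForm m F v (z₁ + z₂) = 0 := by rw [sympForm_add_right, h1, h2, add_zero]
  apply ap_ext
  intro x
  rw [ap_mul, ap_mul, ap_Sh _ _ _ _ h1, ap_Sh _ _ _ _ h2, ap_Sh _ _ _ _ h12, ap_Tr]
  simp only [sympForm_add_left, sympForm_add_right, sympForm_smul_left, sympForm_smul_right,
    sympForm_self, h1, h2, h1', h2', mul_zero, add_zero, zero_add]
  module

end Cfsg.Agent.Lib.Helper25.SpReg
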