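import Mathlib
import Cfsg.Agent.S4216
import Cfsg.Agent.Lib.Helper22.HallWielandt

/-!
Coset functions for transfer computations (helper25): for `φ : H →* A` and `u : G`, the function
`cosetFn H φ u : G ⧸ H → A`, `xH ↦ φ (x⁻¹ u x)` if `x⁻¹ u x ∈ H` and `1` otherwise, together with
decomposition lemmas for the product of its values.
-/

set_option autoImplicit false

namespace Cfsg.Agent.Lib.Helper25

open Cfsg.Agent.S4216 (ext1 ext1_of_mem transfer_eq_prod_fixed)
open Cfsg.Agent.Lib.Helper22 (ext1_one' ext1_mul' ext1_inv' ext1_conj')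

section basic

variable {G : Type*} [Group G] {A : Type*} [CommGroup A]

theorem ext1_of_not_mem (H : Subgroup G) (φ : H → A) (x : G) (h : x ∉ H) : ext1 H φ x = 1 := by
  unfold ext1
  rw [dif_neg h]

theorem ext1_conj_any (H : Subgroup G) (φ : H →* A) (x h : G) (hh : h ∈ H) :
    ext1 H φ (h⁻¹ * x * h) = ext1 H φ x := by
  by_cases hx : x ∈ H
  · exact ext1_conj' H φ x h hx hh
  · rw [ext1_of_not_mem H φ x hx, ext1_of_not_mem]
    intro hc
    apply hx
    have : x = h * (h⁻¹ * x * h) * h⁻¹ := by group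
    rw [this]
    exact H.mul_mem (H.mul_mem hh hc) (H.inv_mem hh)

/-- the coset function `xH ↦ φ (x⁻¹ u x)` (or `1` when `x⁻¹ u x ∉ H`) -/
noncomputable def cosetFn (H : Subgroup G) (φ : H →* A) (u : G) : G ⧸ H → A :=
  Quotient.lift (s := QuotientGroup.leftRel H) (fun x : G => ext1 H φ (x⁻¹ * u * x)) (by
    intro a b hab
    have hab' : a⁻¹ * b ∈ H := QuotientGroup.leftRel_apply.mp hab
    have e : b⁻¹ * u * b = (a⁻¹ * b)⁻¹ * (a⁻¹ * u * a) * (a⁻¹ * b) := by group
    show ext1 H φ (a⁻¹ * u * a) = ext1 H φ (b⁻¹ * u * b)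
    rw [e, ext1_conj_any H φ _ _ hab'])

theorem cosetFn_mk (H : Subgroup G) (φ : H →* A) (u x : G) :
    cosetFn H φ u (QuotientGroup.mk x) = ext1 H φ (x⁻¹ * u * x) := rfl

theorem smul_mk_eq_iff (H : Subgroup G) (u x : G) :
    u • (QuotientGroup.mk x : G ⧸ H) = QuotientGroup.mk x ↔ x⁻¹ * u * x ∈ H := by
  change (QuotientGroup.mk (u * x) : G ⧸ H) = QuotientGroup.mk x ↔ _
  rw [QuotientGroup.eq]
  have e : (u * x)⁻¹ * x = (x⁻¹ * u * x)⁻¹ := by group
  rw [e, inv_mem_iff]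

theorem cosetFn_of_not_fixed (H : Subgroup G) (φ : H →* A) (u : G) (c : G ⧸ H)
    (hc : u • c ≠ c) : cosetFn H φ u c = 1 := by
  obtain ⟨x, rfl⟩ := QuotientGroup.mk_surjective c
  rw [cosetFn_mk]
  apply ext1_of_not_mem
  intro h
  exact hc ((smul_mk_eq_iff H u x).mpr h)

theorem cosetFn_out (H : Subgroup G) (φ : H →* A) (u : G) (c : G ⧸ H) :
    ext1 H φ (c.out⁻¹ * u * c.out) = cosetFn H φ u c := by
  conv_rhs => rw [← QuotientGroup.out_eq' c]
  rfl

theorem transfer_eq_prod_cosetFn [Finite G] (H : Subgroup G) (φ : H →* A) (u : G)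
    [Fintype (G ⧸ H)]
    (hpow : ∀ (k : G) (n : ℕ), n ≠ 1 → n ∣ orderOf u → ∀ h : k⁻¹ * u ^ n * k ∈ H,
      φ ⟨_, h⟩ = 1) :
    MonoidHom.transfer φ u = ∏ c : G ⧸ H, cosetFn H φ u c := by
  classical
  rw [transfer_eq_prod_fixed H φ u hpow, Finset.prod_filter]
  have e : (Fintype.ofFinite (G ⧸ H)).elems = Finset.univ := by
    ext c
    simp [Fintype.complete]
  rw [e]
  apply Finset.prod_congr rfl
  intro c _
  by_cases hc : u • c = c
  · rw [if_pos hc, cosetFn_out]
  · rw [if_neg hc, cosetFn_of_not_fixed H φ u c hc]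

end basic

section indexp

variable {P : Type*} [Group P] {A : Type*} [CommGroup A]

/-- restriction of a hom on `Q ≤ M` to `Q.subgroupOf M` -/
noncomputable def resSub (M Q : Subgroup P) (hQM : Q ≤ M) (ν : Q →* A) : Q.subgroupOf M →* A :=
  ν.comp (Subgroup.subgroupOfEquivOfLe hQM).toMonoidHom

theorem resSub_apply (M Q : Subgroup P) (hQM : Q ≤ M) (ν : Q →* A) (z : Q.subgroupOf M) :
    resSub M Q hQM ν z = ν ⟨((z : M) : P), Subgroup.mem_subgroupOf.mp z.2⟩ := rfl

theorem ext1_resSub (M Q : Subgroup P) (hQM : Q ≤ M) (ν : Q →* A) (z : M) :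
    ext1 (Q.subgroupOf M) (resSub M Q hQM ν) z = ext1 Q ν (z : P) := by
  by_cases hz : (z : P) ∈ Q
  · rw [ext1_of_mem Q ν _ hz, ext1_of_mem (Q.subgroupOf M) _ z (Subgroup.mem_subgroupOf.mpr hz)]
    rfl
  · rw [ext1_of_not_mem Q ν _ hz, ext1_of_not_mem]
    intro h
    exact hz (Subgroup.mem_subgroupOf.mp h)

theorem cosetFn_eq_one_of_not_mem (M Q : Subgroup P) [M.Normal] (hQM : Q ≤ M) (ν : Q →* A) (u : P)
    (hu : u ∉ M) (c : P ⧸ Q) : cosetFn Q ν u c = 1 := by
  obtain ⟨x, rfl⟩ := QuotientGroup.mk_surjective c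
  rw [cosetFn_mk]
  apply ext1_of_not_mem
  intro h
  apply hu
  have h1 : x⁻¹ * u * x ∈ M := hQM h
  have : u = x * (x⁻¹ * u * x) * x⁻¹ := by group
  rw [this]
  exact Subgroup.Normal.conj_mem inferInstance _ h1 x

/-- powers of an element outside a normal subgroup of prime index -/
theorem pow_inj_of_index_prime {p : ℕ} [hp : Fact p.Prime] (M : Subgroup P) [M.Normal]
    (hidx : M.index = p) (y : P) (hy : y ∉ M) {i j : ℕ} (hi : i < p) (hj : j < p)
    (h : (y ^ i)⁻¹ * y ^ j ∈ M) : i = j := by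
  have hcard : Nat.card (P ⧸ M) = p := by rw [← Subgroup.index_eq_card]; exact hidx
  have hne : (QuotientGroup.mk y : P ⧸ M) ≠ 1 := by
    rw [Ne, QuotientGroup.eq_one_iff]; exact hy
  have hord : orderOf (QuotientGroup.mk y : P ⧸ M) = p := by
    have h1 : orderOf (QuotientGroup.mk y : P ⧸ M) ∣ p := by
      rw [← hcard]; exact orderOf_dvd_natCard _
    rcases (Nat.dvd_prime hp.out).mp h1 with h2 | h2
    · exact absurd (orderOf_eq_one_iff.mp h2) hne
    · exact h2
  have h3 : (QuotientGroup.mk y : P ⧸ M) ^ i = (QuotientGroup.mk y : P ⧸ M) ^ j := by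
    rw [← QuotientGroup.mk_pow, ← QuotientGroup.mk_pow, QuotientGroup.eq]
    exact h
  rw [pow_eq_pow_iff_modEq, hord] at h3
  exact Nat.ModEq.eq_of_lt_of_lt h3 hi hj

theorem exists_pow_mul_of_index_prime {p : ℕ} [hp : Fact p.Prime] (M : Subgroup P) [M.Normal]
    (hidx : M.index = p) (y : P) (hy : y ∉ M) (x : P) : ∃ i < p, (y ^ i)⁻¹ * x ∈ M := by
  have hcard : Nat.card (P ⧸ M) = p := by rw [← Subgroup.index_eq_card]; exact hidx
  have hne : (QuotientGroup.mk y : P ⧸ M) ≠ 1 := by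
    rw [Ne, QuotientGroup.eq_one_iff]; exact hy
  have hord : orderOf (QuotientGroup.mk y : P ⧸ M) = p := by
    have h1 : orderOf (QuotientGroup.mk y : P ⧸ M) ∣ p := by
      rw [← hcard]; exact orderOf_dvd_natCard _
    rcases (Nat.dvd_prime hp.out).mp h1 with h2 | h2
    · exact absurd (orderOf_eq_one_iff.mp h2) hne
    · exact h2
  have htop := zpowers_eq_top_of_prime_card hcard hne
  have hx : (QuotientGroup.mk x : P ⧸ M) ∈ Subgroup.zpowers (QuotientGroup.mk y : P ⧸ M) := by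
    rw [htop]; trivial
  haveI : Finite (P ⧸ M) := Nat.finite_of_card_ne_zero (by rw [hcard]; exact hp.out.ne_zero)
  classical
  rw [← mem_powers_iff_mem_zpowers, mem_powers_iff_mem_range_orderOf, hord] at hx
  obtain ⟨i, hi, hix⟩ := Finset.mem_image.mp hx
  refine ⟨i, Finset.mem_range.mp hi, ?_⟩
  rw [← QuotientGroup.eq, QuotientGroup.mk_pow]
  exact hix

/-- decomposition of the coset product along a normal subgroup `M ⊇ Q` of prime index -/
theorem prod_cosetFn_eq_prod_range {p : ℕ} [hp : Fact p.Prime] (M Q : Subgroup P) [M.Normal]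
    (hidx : M.index = p) (hQM : Q ≤ M) (ν : Q →* A) (y : P) (hy : y ∉ M) (u : P)
    (v : ℕ → M) (hv : ∀ i, ((v i : M) : P) = (y ^ i)⁻¹ * u * y ^ i)
    [Fintype (P ⧸ Q)] [Fintype (M ⧸ Q.subgroupOf M)] :
    ∏ c : P ⧸ Q, cosetFn Q ν u c =
      ∏ i ∈ Finset.range p, ∏ d : M ⧸ Q.subgroupOf M,
        cosetFn (Q.subgroupOf M) (resSub M Q hQM ν) (v i) d := by
  classical
  rw [← Finset.prod_product' (Finset.range p) Finset.univ
    (fun i d => cosetFn (Q.subgroupOf M) (resSub M Q hQM ν) (v i) d)]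
  symm
  let ι : M ⧸ Q.subgroupOf M → P ⧸ Q := Quotient.map' (fun m : M => (m : P)) (by
    intro a b hab
    rw [QuotientGroup.leftRel_apply] at hab ⊢
    exact Subgroup.mem_subgroupOf.mp hab)
  have hι : ∀ m : M, ι (QuotientGroup.mk m) = QuotientGroup.mk (m : P) := fun m => rfl
  apply Finset.prod_nbij (fun x : ℕ × (M ⧸ Q.subgroupOf M) => y ^ x.1 • ι x.2)
  · intro x _
    exact Finset.mem_univ _
  · rintro ⟨i, d⟩ hx ⟨j, d'⟩ hx' h
    obtain ⟨m, rfl⟩ := QuotientGroup.mk_surjective d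
    obtain ⟨m', rfl⟩ := QuotientGroup.mk_surjective d'
    have hi : i < p := by
      have := Finset.mem_coe.mp hx
      exact Finset.mem_range.mp (Finset.mem_product.mp this).1
    have hj : j < p := by
      have := Finset.mem_coe.mp hx'
      exact Finset.mem_range.mp (Finset.mem_product.mp this).1
    simp only [hι] at h
    change (QuotientGroup.mk (y ^ i * (m : P)) : P ⧸ Q) = QuotientGroup.mk (y ^ j * (m' : P)) at h
    rw [QuotientGroup.eq] at h
    have hij : i = j := by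
      apply pow_inj_of_index_prime M hidx y hy hi hj
      have h1 : (y ^ i * (m : P))⁻¹ * (y ^ j * (m' : P)) ∈ M := hQM h
      have e : (y ^ i)⁻¹ * y ^ j = (m : P) * ((y ^ i * (m : P))⁻¹ * (y ^ j * (m' : P))) * (m' : P)⁻¹ := by
        group
      rw [e]
      exact M.mul_mem (M.mul_mem m.2 h1) (M.inv_mem m'.2)
    subst hij
    have e : (y ^ i * (m : P))⁻¹ * (y ^ i * (m' : P)) = ((m⁻¹ * m' : M) : P) := by
      push_cast; group
    rw [e] at h
    have : (QuotientGroup.mk m : M ⧸ Q.subgroupOf M) = QuotientGroup.mk m' := by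
      rw [QuotientGroup.eq]; exact Subgroup.mem_subgroupOf.mpr h
    rw [this]
  · intro c _
    obtain ⟨x, rfl⟩ := QuotientGroup.mk_surjective c
    obtain ⟨i, hi, hix⟩ := exists_pow_mul_of_index_prime M hidx y hy x
    refine ⟨(i, QuotientGroup.mk ⟨(y ^ i)⁻¹ * x, hix⟩), ?_, ?_⟩
    · exact Finset.mem_coe.mpr (Finset.mem_product.mpr ⟨Finset.mem_range.mpr hi, Finset.mem_univ _⟩)
    · simp only [hι]
      change (QuotientGroup.mk (y ^ i * ((y ^ i)⁻¹ * x)) : P ⧸ Q) = QuotientGroup.mk x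
      rw [mul_inv_cancel_left]
  · rintro ⟨i, d⟩ _
    obtain ⟨m, rfl⟩ := QuotientGroup.mk_surjective d
    simp only [hι]
    change cosetFn (Q.subgroupOf M) (resSub M Q hQM ν) (v i) (QuotientGroup.mk m) =
      cosetFn Q ν u (QuotientGroup.mk (y ^ i * (m : P)))
    rw [cosetFn_mk, cosetFn_mk, ext1_resSub]
    congr 1
    push_cast
    rw [hv]
    group

end indexp

end Cfsg.Agent.Lib.Helper25
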