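import Cfsg.Agent.Lib.Helper25.NilpChain

/-!
# A `p`-group with a normal elementary abelian subgroup of index `p` and a nontrivial norm maps
onto a Sylow `p`-subgroup of `S_{p^2}` (a copy of `Z_p ≀ Z_p`).
-/

namespace Cfsg.Agent.Lib.Helper25

open scoped IsMulCommutative

theorem pow_le_index_of_prod_not_mem {p : ℕ} [Fact p.Prime] {C : Type*} [CommGroup C] [Finite C]
    (hC : ∀ a : C, a ^ p = 1) (T : C →* C) (hT : ∀ a, T^[p] a = a)
    (K : Subgroup C) (hK : ∀ a ∈ K, T a ∈ K) (x : C)
    (hx : ∏ i ∈ Finset.range p, T^[i] x ∉ K) : p ^ p ≤ K.index := by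
  have hM : ∀ a : Additive C, p • a = 0 := fun a => by
    show Additive.ofMul (a.toMul ^ p) = 0
    rw [hC]; rfl
  have hiter : ∀ (i : ℕ) (a : C),
      (MonoidHom.toAdditive T)^[i] (Additive.ofMul a) = Additive.ofMul (T^[i] a) := by
    intro i
    induction i with
    | zero => intro a; rfl
    | succ i ih =>
      intro a
      rw [Function.iterate_succ_apply, Function.iterate_succ_apply]
      exact ih (T a)
  have := pow_le_index_of_sum_not_mem (p := p) (M := Additive C) hM (MonoidHom.toAdditive T)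
    (fun a => by
      have := hiter p a.toMul
      rw [hT] at this
      exact this)
    (Subgroup.toAddSubgroup K) (fun a ha => hK a.toMul ha) (Additive.ofMul x)
    (by
      simp only [hiter]
      rw [← ofMul_prod]
      exact hx)
  simpa using this

theorem padicValNat_factorial_sq (p : ℕ) [hp : Fact p.Prime] :
    padicValNat p (p ^ 2).factorial = p + 1 := by
  rw [pow_two, padicValNat_factorial_mul]
  have : padicValNat p p.factorial = 1 := by
    have := padicValNat_factorial_mul (p := p) 1
    rw [mul_one] at this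
    rw [this]
    simp
  rw [this, add_comm]

theorem exists_surjective_sylow_perm_of_norm_ne_one {P : Type*} [Group P] [Finite P] {p : ℕ}
    [Fact p.Prime] (hP : IsPGroup p P) (A : Subgroup P) [hAn : A.Normal] [IsMulCommutative A]
    (hexp : ∀ a ∈ A, a ^ p = 1) (hidx : A.index = p) (x y : P) (hx : x ∈ A)
    (hprod : ((List.range p).map (fun i => (y ^ i)⁻¹ * x * y ^ i)).prod ≠ 1) :
    ∃ (Q : Sylow p (Equiv.Perm (Fin (p ^ 2))))
      (f : P →* ↥(Q : Subgroup (Equiv.Perm (Fin (p ^ 2))))), Function.Surjective f := by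
  classical
  have hpp : p.Prime := Fact.out
  -- conjugation by `y⁻¹` on `A`
  let T : A →* A :=
    { toFun := fun a => ⟨y⁻¹ * a * y, by
        have := hAn.conj_mem a a.2 y⁻¹
        simpa using this⟩
      map_one' := by ext; simp
      map_mul' := fun a b => by ext; simp [mul_assoc] }
  have hTapp : ∀ a : A, ((T a : A) : P) = y⁻¹ * a * y := fun a => rfl
  have hTiter : ∀ (i : ℕ) (a : A), ((T^[i] a : A) : P) = (y ^ i)⁻¹ * a * y ^ i := by
    intro i
    induction i with
    | zero => intro a; simp
    | succ i ih =>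
      intro a
      rw [Function.iterate_succ_apply', hTapp, ih, pow_succ, mul_inv_rev]
      simp only [mul_assoc]
  have hyp : y ^ p ∈ A := by
    have h1 : ((y : P ⧸ A)) ^ Nat.card (P ⧸ A) = 1 := pow_card_eq_one'
    rw [← Subgroup.index_eq_card, hidx, ← QuotientGroup.mk_pow] at h1
    exact (QuotientGroup.eq_one_iff _).mp h1
  have hT : ∀ a : A, T^[p] a = a := by
    intro a
    apply Subtype.ext
    rw [hTiter]
    have hc : (⟨y ^ p, hyp⟩ : A) * a = a * ⟨y ^ p, hyp⟩ := mul_comm _ _
    have hc' : y ^ p * (a : P) = a * y ^ p := congrArg Subtype.val hc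
    rw [mul_assoc, ← hc', ← mul_assoc, inv_mul_cancel, one_mul]
  have hC : ∀ a : A, a ^ p = 1 := fun a => Subtype.ext (by
    rw [Subgroup.coe_pow]; exact hexp a a.2)
  -- the norm of `x`
  have hnx : ∀ n : ℕ, ((∏ i ∈ Finset.range n, T^[i] ⟨x, hx⟩ : A) : P) =
      ((List.range n).map (fun i => (y ^ i)⁻¹ * x * y ^ i)).prod := by
    intro n
    induction n with
    | zero => simp
    | succ n ih =>
      rw [Finset.prod_range_succ, Subgroup.coe_mul, ih, List.range_succ, List.map_append,
        List.prod_append, hTiter]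
      simp
  set nx : A := ∏ i ∈ Finset.range p, T^[i] ⟨x, hx⟩ with hnxdef
  have hnx1 : nx ≠ 1 := by
    intro h
    apply hprod
    rw [← hnx p, ← hnxdef, h]
    rfl
  obtain ⟨B, hBidx, hBnx⟩ := exists_index_p_not_mem hC nx hnx1
  set B' : Subgroup P := B.map A.subtype with hB'
  have hB'idx : B'.index = p ^ 2 := by
    rw [hB', Subgroup.index_map_subtype, hBidx, hidx, pow_two]
  have hB'A : B' ≤ A := by
    rw [hB']
    exact Subgroup.map_subtype_le B
  -- the coset action
  have hcard : Nat.card (P ⧸ B') = p ^ 2 := by rw [← Subgroup.index_eq_card, hB'idx]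
  let e : (P ⧸ B') ≃ Fin (p ^ 2) := (Finite.equivFin _).trans (finCongr hcard)
  let ρ : P →* Equiv.Perm (Fin (p ^ 2)) :=
    (e.permCongrHom).toMonoidHom.comp (MulAction.toPermHom P (P ⧸ B'))
  have hρ : ∀ (g : P) (c : P ⧸ B'), ρ g (e c) = e (g • c) := by
    intro g c
    show e ((MulAction.toPermHom P (P ⧸ B') g) (e.symm (e c))) = e (g • c)
    rw [Equiv.symm_apply_apply]
    rfl
  set K : Subgroup P := ρ.ker with hKdef
  have hKB : K ≤ B' := by
    intro g hg
    have h1 : ρ g = 1 := hg
    have h2 := hρ g ((1 : P) : P ⧸ B')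
    rw [h1, Equiv.Perm.one_apply] at h2
    have h3 := e.injective h2
    rw [MulAction.Quotient.smul_mk, QuotientGroup.eq] at h3
    have : g⁻¹ ∈ B' := by simpa using h3
    simpa using B'.inv_mem this
  have hKA : K ≤ A := hKB.trans hB'A
  have hKn : K.Normal := by rw [hKdef]; infer_instance
  -- apply the index bound
  have hbound : p ^ p ≤ (K.subgroupOf A).index := by
    apply pow_le_index_of_prod_not_mem hC T hT (K.subgroupOf A)
    · intro a ha
      rw [Subgroup.mem_subgroupOf] at ha ⊢
      rw [hTapp]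
      have := hKn.conj_mem a ha y⁻¹
      simpa using this
    · intro hmem
      rw [Subgroup.mem_subgroupOf] at hmem
      have h1 : (nx : P) ∈ B' := hKB hmem
      rw [hB', Subgroup.mem_map] at h1
      obtain ⟨b, hb, hbn⟩ := h1
      have : b = nx := Subtype.ext hbn
      exact hBnx (this ▸ hb)
  have hKidx : p ^ (p + 1) ≤ K.index := by
    rw [← Subgroup.relIndex_mul_index hKA, hidx, pow_succ]
    exact Nat.mul_le_mul_right p hbound
  have hrangecard : Nat.card ρ.range = K.index := (Subgroup.index_ker ρ).symm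
  -- Sylow
  have hrange : IsPGroup p ρ.range :=
    hP.of_surjective ρ.rangeRestrict ρ.rangeRestrict_surjective
  obtain ⟨Q, hQ⟩ := hrange.exists_le_sylow
  have hQcard : Nat.card Q = p ^ (p + 1) := by
    rw [Q.card_eq_multiplicity, Nat.card_perm, Nat.card_fin, Nat.factorization_def _ hpp,
      padicValNat_factorial_sq]
  have hQeq : ρ.range = Q := by
    apply Subgroup.eq_of_le_of_card_ge hQ
    rw [hQcard, hrangecard]
    exact hKidx
  refine ⟨Q, ρ.codRestrict Q (fun g => hQ ⟨g, rfl⟩), ?_⟩
  intro q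
  have hq : (q : Equiv.Perm (Fin (p ^ 2))) ∈ ρ.range := by
    rw [hQeq]
    exact q.2
  obtain ⟨g, hg⟩ := hq
  exact ⟨g, Subtype.ext hg⟩

end Cfsg.Agent.Lib.Helper25
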