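import Mathlib
import Cfsg.Agent.Lib.Helper25.CosetFn
import Cfsg.Agent.Lib.Helper25.WreathImage

/-!
The local (`p`-group) part of Yoshida's transfer theorem (helper25): in a `p`-group `P` without
a quotient `Z_p ≀ Z_p`, the product of the coset function of a hom `ν : Q →* A` of exponent `p`
from a proper subgroup vanishes, provided the contributions of the longer cycles vanish.
-/

set_option autoImplicit false

namespace Cfsg.Agent.Lib.Helper25

open Cfsg.Agent.S4216 (ext1 ext1_of_mem transfer_eq_prod_fixed)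

variable {P : Type*} [Group P] {A : Type*} [CommGroup A]

/-- the "no wreath quotient" property -/
def NoWreath (p : ℕ) [Fact p.Prime] (P : Type*) [Group P] : Prop :=
  ¬ ∃ (S : Sylow p (Equiv.Perm (Fin (p ^ 2))))
    (f : P →* ↥(S : Subgroup (Equiv.Perm (Fin (p ^ 2))))), Function.Surjective f

theorem map_norm_eq_one_of_noWreath [Finite P] {p : ℕ} [Fact p.Prime] (hP : IsPGroup p P)
    (hNW : NoWreath p P) (M : Subgroup P) [hMn : M.Normal] (hidx : M.index = p)
    (ρ : M →* A) (hρ : ∀ m, ρ m ^ p = 1) (y u : P) (hu : u ∈ M) (w : M)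
    (hw : (w : P) = ((List.range p).map (fun i => (y ^ i)⁻¹ * u * y ^ i)).prod) : ρ w = 1 := by
  by_contra hne
  apply hNW
  -- the core of the kernel
  set K : Subgroup P := (ρ.ker.map M.subtype).normalCore with hK
  have hKmem : ∀ x : P, x ∈ K ↔ ∀ g : P, ∃ h : g * x * g⁻¹ ∈ M, ρ ⟨_, h⟩ = 1 := by
    intro x
    rw [hK]
    constructor
    · intro hx g
      have := hx g
      obtain ⟨m, hm, hmx⟩ := this
      have hm' : ρ m = 1 := hm
      have e : g * x * g⁻¹ = (m : P) := hmx.symm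
      refine ⟨e ▸ m.2, ?_⟩
      rw [← hm']
      congr 1
      exact Subtype.ext e
    · intro hx g
      obtain ⟨h, hh⟩ := hx g
      exact ⟨⟨_, h⟩, hh, rfl⟩
  have hKM : K ≤ M := by
    intro x hx
    obtain ⟨h, -⟩ := (hKmem x).mp hx 1
    simpa using h
  haveI hKn : K.Normal := Subgroup.normalCore_normal _
  set π : P →* P ⧸ K := QuotientGroup.mk' K with hπ
  have hπs : Function.Surjective π := QuotientGroup.mk'_surjective K
  set Abar : Subgroup (P ⧸ K) := M.map π with hAbar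
  haveI hAn : Abar.Normal := hMn.map π hπs
  have hconjM : ∀ (g : P) (m : P), m ∈ M → g * m * g⁻¹ ∈ M := fun g m hm => hMn.conj_mem m hm g
  have hcomm : ∀ a b : P, a ∈ M → b ∈ M → (a * b)⁻¹ * (b * a) ∈ K := by
    intro a b ha hb
    rw [hKmem]
    intro g
    have ha' := hconjM g a ha
    have hb' := hconjM g b hb
    have e : g * ((a * b)⁻¹ * (b * a)) * g⁻¹ =
        ((g * a * g⁻¹) * (g * b * g⁻¹))⁻¹ * ((g * b * g⁻¹) * (g * a * g⁻¹)) := by group
    have hmem : g * ((a * b)⁻¹ * (b * a)) * g⁻¹ ∈ M := by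
      rw [e]
      exact M.mul_mem (M.inv_mem (M.mul_mem ha' hb')) (M.mul_mem hb' ha')
    refine ⟨hmem, ?_⟩
    have e2 : (⟨_, hmem⟩ : M) = ((⟨_, ha'⟩ : M) * ⟨_, hb'⟩)⁻¹ * ((⟨_, hb'⟩ : M) * ⟨_, ha'⟩) :=
      Subtype.ext e
    rw [e2, map_mul, map_inv, map_mul, map_mul, mul_comm (ρ ⟨_, hb'⟩), inv_mul_cancel]
  have hpow : ∀ a : P, a ∈ M → a ^ p ∈ K := by
    intro a ha
    rw [hKmem]
    intro g
    have ha' := hconjM g a ha
    have e : g * a ^ p * g⁻¹ = (g * a * g⁻¹) ^ p := (conj_pow (a := g) (b := a) (i := p)).symm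
    have hmem : g * a ^ p * g⁻¹ ∈ M := by rw [e]; exact M.pow_mem ha' p
    refine ⟨hmem, ?_⟩
    have e2 : (⟨_, hmem⟩ : M) = (⟨_, ha'⟩ : M) ^ p := Subtype.ext e
    rw [e2, map_pow, hρ]
  haveI hAc : IsMulCommutative Abar := by
    refine ⟨⟨?_⟩⟩
    rintro ⟨a, ha⟩ ⟨b, hb⟩
    obtain ⟨a', ha', rfl⟩ := ha
    obtain ⟨b', hb', rfl⟩ := hb
    apply Subtype.ext
    change π a' * π b' = π b' * π a'
    rw [← map_mul, ← map_mul, hπ, QuotientGroup.mk'_apply, QuotientGroup.mk'_apply, QuotientGroup.eq]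
    exact hcomm a' b' ha' hb'
  have hexp : ∀ a ∈ Abar, a ^ p = 1 := by
    rintro a ⟨a', ha', rfl⟩
    rw [← map_pow, hπ, QuotientGroup.mk'_apply, QuotientGroup.eq_one_iff]
    exact hpow a' ha'
  have hidx' : Abar.index = p := by
    rw [hAbar, Subgroup.index_map_eq M hπs (by rw [hπ, QuotientGroup.ker_mk']; exact hKM)]
    exact hidx
  have hPK : IsPGroup p (P ⧸ K) := hP.to_quotient K
  have hprod : ((List.range p).map (fun i => (π y ^ i)⁻¹ * π u * π y ^ i)).prod ≠ 1 := by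
    have e : ((List.range p).map (fun i => (π y ^ i)⁻¹ * π u * π y ^ i)) =
        ((List.range p).map (fun i => (y ^ i)⁻¹ * u * y ^ i)).map π := by
      rw [List.map_map]
      apply List.map_congr_left
      intro i _
      simp only [Function.comp_apply, map_mul, map_inv, map_pow]
    rw [e, ← map_list_prod, ← hw, hπ, QuotientGroup.mk'_apply, Ne, QuotientGroup.eq_one_iff]
    intro hwK
    obtain ⟨h, hh⟩ := (hKmem _).mp hwK 1
    apply hne
    rw [← hh]
    congr 1
    apply Subtype.ext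
    simp
  obtain ⟨S, f, hf⟩ := exists_surjective_sylow_perm_of_norm_ne_one hPK Abar hexp hidx' (π u) (π y)
    (Subgroup.mem_map_of_mem π hu) hprod
  exact ⟨S, f.comp π, hf.comp hπs⟩

theorem prod_range_eq_list_prod {B : Type*} [CommMonoid B] (f : ℕ → B) (n : ℕ) :
    ∏ i ∈ Finset.range n, f i = ((List.range n).map f).prod := by
  induction n with
  | zero => simp
  | succ n ih =>
    rw [Finset.prod_range_succ, List.range_succ, List.map_append, List.prod_append, ih]
    simp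

theorem exists_normal_index_prime_ge [Finite P] {p : ℕ} [hp : Fact p.Prime] (hP : IsPGroup p P)
    (Q : Subgroup P) (hQ : Q ≠ ⊤) : ∃ M : Subgroup P, Q ≤ M ∧ M.Normal ∧ M.index = p := by
  obtain ⟨n, hn⟩ := IsPGroup.iff_card.mp hP
  obtain ⟨k, hk⟩ := IsPGroup.iff_card.mp (hP.to_subgroup Q)
  have hkn : k < n := by
    by_contra hcon
    push Not at hcon
    apply hQ
    apply Subgroup.eq_top_of_card_eq
    apply le_antisymm (Subgroup.card_le_card_group Q)
    rw [hn, hk]
    exact Nat.pow_le_pow_right hp.out.pos hcon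
  have hdvd : p ^ (n - 1) ∣ Nat.card P := by
    rw [hn]; exact pow_dvd_pow p (Nat.sub_le n 1)
  obtain ⟨M, hMc, hQM⟩ := Sylow.exists_subgroup_card_pow_prime_le p hdvd Q hk (by omega)
  have hidx : M.index = p := by
    have h1 := M.card_mul_index
    rw [hMc, hn] at h1
    have h2 : p ^ n = p ^ (n - 1) * p := by
      rw [← pow_succ]; congr 1; omega
    rw [h2] at h1
    exact Nat.eq_of_mul_eq_mul_left (pow_pos hp.out.pos _) h1
  refine ⟨M, hQM, ?_, hidx⟩
  apply Subgroup.normal_of_index_eq_minFac_card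
  rw [hidx, hn, Nat.Prime.pow_minFac hp.out (by omega)]

/-- **Local lemma for Yoshida's theorem.** -/
theorem prod_cosetFn_eq_one_of_noWreath [Finite P] {p : ℕ} [hp : Fact p.Prime] (hP : IsPGroup p P)
    (hNW : NoWreath p P) (Q : Subgroup P) (hQ : Q ≠ ⊤) (ν : Q →* A) (hν : ∀ q, ν q ^ p = 1)
    (u : P)
    (hK : ∀ (x : P) (n : ℕ), n ≠ 1 → n ∣ orderOf u → ∀ h : x⁻¹ * u ^ n * x ∈ Q, ν ⟨_, h⟩ = 1)
    [Fintype (P ⧸ Q)] : ∏ c : P ⧸ Q, cosetFn Q ν u c = 1 := by
  classical
  obtain ⟨M, hQM, hMn, hidx⟩ := exists_normal_index_prime_ge hP Q hQ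
  haveI := hMn
  by_cases hu : u ∈ M
  swap
  · exact Finset.prod_eq_one (fun c _ => cosetFn_eq_one_of_not_mem M Q hQM ν u hu c)
  have hMtop : M ≠ ⊤ := by
    intro h
    rw [h, Subgroup.index_top] at hidx
    exact hp.out.one_lt.ne hidx
  obtain ⟨y, hy⟩ : ∃ y, y ∉ M := by
    by_contra h
    push Not at h
    exact hMtop (eq_top_iff.mpr fun x _ => h x)
  let v : ℕ → M := fun i => ⟨(y ^ i)⁻¹ * u * y ^ i, hMn.conj_mem' u hu (y ^ i)⟩
  let _ : Fintype (M ⧸ Q.subgroupOf M) := Fintype.ofFinite _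
  rw [prod_cosetFn_eq_prod_range M Q hidx hQM ν y hy u v (fun i => rfl)]
  set ν' := resSub M Q hQM ν with hν'
  set Θ : M →* A := MonoidHom.transfer ν' with hΘ
  have hstep : ∀ i, ∏ d : M ⧸ Q.subgroupOf M, cosetFn (Q.subgroupOf M) ν' (v i) d = Θ (v i) := by
    intro i
    symm
    apply transfer_eq_prod_cosetFn
    intro k n hn1 hnd h
    rw [hν', resSub_apply]
    have hord : orderOf (v i) = orderOf u := by
      rw [← Subgroup.orderOf_coe]
      exact Cfsg.Agent.S4216.orderOf_conj_inv (y ^ i) u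
    have e : (y ^ i * (k : P))⁻¹ * u ^ n * (y ^ i * (k : P)) = ((k⁻¹ * v i ^ n * k : M) : P) := by
      push_cast
      have : ((y ^ i)⁻¹ * u * y ^ i) ^ n = (y ^ i)⁻¹ * u ^ n * y ^ i := by
        have := conj_pow (a := (y ^ i)⁻¹) (b := u) (i := n)
        simpa using this
      show _ = (k : P)⁻¹ * ((y ^ i)⁻¹ * u * y ^ i) ^ n * (k : P)
      rw [this]
      group
    have hmem : (y ^ i * (k : P))⁻¹ * u ^ n * (y ^ i * (k : P)) ∈ Q := by
      rw [e]; exact Subgroup.mem_subgroupOf.mp h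
    have := hK (y ^ i * (k : P)) n hn1 (hord ▸ hnd) hmem
    rw [← this]
    congr 1
    exact Subtype.ext e.symm
  rw [Finset.prod_congr rfl (fun i _ => hstep i), prod_range_eq_list_prod]
  have e1 : ((List.range p).map (fun i => Θ (v i))) = ((List.range p).map v).map Θ := by
    rw [List.map_map]; rfl
  rw [e1, ← map_list_prod]
  have hΘp : ∀ m, Θ m ^ p = 1 := by
    intro m
    let _ : Fintype (Quotient (MulAction.orbitRel (Subgroup.zpowers m) (M ⧸ Q.subgroupOf M))) :=
      Fintype.ofFinite _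
    rw [hΘ, MonoidHom.transfer_eq_prod_quotient_orbitRel_zpowers_quot, ← Finset.prod_pow]
    apply Finset.prod_eq_one
    intro q _
    rw [hν', resSub_apply]
    exact hν _
  apply map_norm_eq_one_of_noWreath hP hNW M hidx Θ hΘp y u hu
  rw [SubmonoidClass.coe_list_prod, List.map_map]
  rfl

end Cfsg.Agent.Lib.Helper25
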