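import Mathlib

/-!
# Vocabulary for market "TW" (S3613: prime degree `p = q + 2`, twin primes, `|N_G(P)| = p (p-1)/2`
⟹ 5-transitive).  Planner: helper25.

* `TW.TransOff2 G a b` : the stabilizer of the two points `a`, `b` is transitive on the other points.
* `TW.TwoTransOff2 G a b` : it is 2-transitive on the other points.
* `TW.TransOff4 G a b c d` : the stabilizer of four points is transitive on the other points.
* `TW.Hhat G a b` : the setwise stabilizer of `{a, b}`;  `TW.Off G a b` : the points other than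
  `a`, `b` as a `SubMulAction` of `Hhat G a b` (so `↥(Off G a b)` carries a `MulAction` of
  `↥(Hhat G a b)` and of each of its subgroups).
-/

set_option autoImplicit false

namespace Cfsg.Agent.Lib.Helper25.TW

open MulAction

variable (G : Type*) {Ω : Type*} [Group G] [MulAction G Ω]

/-- the stabilizer of the two points `a`, `b` is transitive on the other points -/
def TransOff2 (a b : Ω) : Prop :=
  ∀ y y' : Ω, y ≠ a → y ≠ b → y' ≠ a → y' ≠ b → ∃ g : G, g • a = a ∧ g • b = b ∧ g • y = y'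

/-- the stabilizer of the two points `a`, `b` is 2-transitive on the other points -/
def TwoTransOff2 (a b : Ω) : Prop :=
  ∀ c d c' d' : Ω, c ≠ a → c ≠ b → d ≠ a → d ≠ b → c' ≠ a → c' ≠ b → d' ≠ a → d' ≠ b →
    c ≠ d → c' ≠ d' → ∃ g : G, g • a = a ∧ g • b = b ∧ g • c = c' ∧ g • d = d'

/-- the stabilizer of the four points `a`, `b`, `c`, `d` is transitive on the other points -/
def TransOff4 (a b c d : Ω) : Prop :=
  ∀ y y' : Ω, y ≠ a → y ≠ b → y ≠ c → y ≠ d → y' ≠ a → y' ≠ b → y' ≠ c → y' ≠ d →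
    ∃ g : G, g • a = a ∧ g • b = b ∧ g • c = c ∧ g • d = d ∧ g • y = y'

/-- the setwise stabilizer of `{a, b}` -/
def Hhat (a b : Ω) : Subgroup G where
  carrier := {g | (g • a = a ∧ g • b = b) ∨ (g • a = b ∧ g • b = a)}
  mul_mem' := by
    rintro g h (⟨hga, hgb⟩ | ⟨hga, hgb⟩) (⟨hha, hhb⟩ | ⟨hha, hhb⟩)
    · left; exact ⟨by rw [mul_smul, hha, hga], by rw [mul_smul, hhb, hgb]⟩
    · right; exact ⟨by rw [mul_smul, hha, hgb], by rw [mul_smul, hhb, hga]⟩
    · right; exact ⟨by rw [mul_smul, hha, hga], by rw [mul_smul, hhb, hgb]⟩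
    · left; exact ⟨by rw [mul_smul, hha, hgb], by rw [mul_smul, hhb, hga]⟩
  one_mem' := Or.inl ⟨one_smul _ _, one_smul _ _⟩
  inv_mem' := by
    rintro g (⟨hga, hgb⟩ | ⟨hga, hgb⟩)
    · left; exact ⟨by rw [inv_smul_eq_iff, hga], by rw [inv_smul_eq_iff, hgb]⟩
    · right; exact ⟨by rw [inv_smul_eq_iff, hgb], by rw [inv_smul_eq_iff, hga]⟩

variable {G}

theorem mem_Hhat {a b : Ω} {g : G} :
    g ∈ Hhat G a b ↔ (g • a = a ∧ g • b = b) ∨ (g • a = b ∧ g • b = a) := Iff.rfl

theorem inf_stabilizer_le_Hhat (a b : Ω) : stabilizer G a ⊓ stabilizer G b ≤ Hhat G a b := by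
  intro g hg
  exact Or.inl ⟨mem_stabilizer_iff.1 hg.1, mem_stabilizer_iff.1 hg.2⟩

variable (G)

/-- the points other than `a`, `b`, as a sub-action of the setwise stabilizer of `{a, b}` -/
def Off (a b : Ω) : SubMulAction (Hhat G a b) Ω where
  carrier := {x | x ≠ a ∧ x ≠ b}
  smul_mem' := by
    rintro ⟨g, hg⟩ x ⟨hxa, hxb⟩
    rcases hg with ⟨hga, hgb⟩ | ⟨hga, hgb⟩
    · refine ⟨fun h => hxa ?_, fun h => hxb ?_⟩
      · exact smul_left_cancel g (h.trans hga.symm)
      · exact smul_left_cancel g (h.trans hgb.symm)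
    · refine ⟨fun h => hxb ?_, fun h => hxa ?_⟩
      · exact smul_left_cancel g (h.trans hgb.symm)
      · exact smul_left_cancel g (h.trans hga.symm)

variable {G}

theorem mem_Off {a b x : Ω} : x ∈ Off G a b ↔ x ≠ a ∧ x ≠ b := Iff.rfl

theorem Off_smul_coe {a b : Ω} (g : Hhat G a b) (x : Off G a b) :
    ((g • x : Off G a b) : Ω) = (g : G) • (x : Ω) := rfl

end Cfsg.Agent.Lib.Helper25.TW
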