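import Mathlib
import Cfsg.Agent.Lib.Helper29.SpAschDefs
import Cfsg.Agent.Lib.Helper29.SpAschTools

/-!
# S5662 block [NIL] (sub-planner helper24): leaves MIN-3 `orbit_isotropic`, MIN-4 `card_le_of_isotropic` (helper25)

Exact signatures of `notes/S5662_NIL_leaves.lean`.
-/

set_option autoImplicit false
set_option linter.unusedSectionVars false
set_option linter.unusedVariables false

namespace Cfsg.Agent.Lib.Helper25.SpNILLeaf
open Matrix Cfsg Cfsg.Geo Cfsg.Agent.Lib.Helper20.Asch Cfsg.Agent.Lib.Helper29.SpAsch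

variable {F : Type*} [Field F] {n m : ℕ} {J : Matrix (Fin n) (Fin n) F}

/-- MIN-3 (S).  `f(au, bu) = f(u, ab u)` and `f(u, cu) = f(cu, ccu) = f(cu, u) = -f(u, cu)`. -/
theorem orbit_isotropic (hJ : IsAltGram J) (h2 : (2 : F) ≠ 0) {a b : GL (Fin n) F} (ha : a ∈ isoG J) (hb : b ∈ isoG J)
    (ha2 : a * a = 1) (hb2 : b * b = 1) (hab : a * b = b * a) (u : Fin n → F) :
    bfm J ((a : Matrix (Fin n) (Fin n) F) *ᵥ u) ((b : Matrix (Fin n) (Fin n) F) *ᵥ u) = 0 := by
  have hc : a * b ∈ isoG J := (isoG J).mul_mem ha hb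
  have hcc : (a * b) * (a * b) = 1 := by
    rw [mul_assoc, ← mul_assoc b a b, ← hab, mul_assoc a b b, hb2, mul_one, ha2]
  have ha' : ∀ v w : Fin n → F, bfm J ((a : Matrix (Fin n) (Fin n) F) *ᵥ v)
      ((a : Matrix (Fin n) (Fin n) F) *ᵥ w) = bfm J v w := ha
  have hc' : ∀ v w : Fin n → F, bfm J (((a * b : GL (Fin n) F) : Matrix (Fin n) (Fin n) F) *ᵥ v)
      (((a * b : GL (Fin n) F) : Matrix (Fin n) (Fin n) F) *ᵥ w) = bfm J v w := hc
  have haa : (a : Matrix (Fin n) (Fin n) F) * (a : Matrix (Fin n) (Fin n) F) = 1 := by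
    rw [← Units.val_mul, ha2, Units.val_one]
  have hccm : ((a * b : GL (Fin n) F) : Matrix (Fin n) (Fin n) F) *
      ((a * b : GL (Fin n) F) : Matrix (Fin n) (Fin n) F) = 1 := by
    rw [← Units.val_mul, hcc, Units.val_one]
  have e1 : bfm J ((a : Matrix (Fin n) (Fin n) F) *ᵥ u) ((b : Matrix (Fin n) (Fin n) F) *ᵥ u) =
      bfm J u (((a * b : GL (Fin n) F) : Matrix (Fin n) (Fin n) F) *ᵥ u) := by
    rw [← ha' ((a : Matrix (Fin n) (Fin n) F) *ᵥ u), Matrix.mulVec_mulVec, Matrix.mulVec_mulVec, haa,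
      Matrix.one_mulVec, Units.val_mul]
  rw [e1]
  set x := bfm J u (((a * b : GL (Fin n) F) : Matrix (Fin n) (Fin n) F) *ᵥ u) with hx
  have e2 : x = -x := by
    have h1 := hc' u (((a * b : GL (Fin n) F) : Matrix (Fin n) (Fin n) F) *ᵥ u)
    rw [Matrix.mulVec_mulVec, hccm, Matrix.one_mulVec, bfm_skew hJ] at h1
    rw [hx]
    exact h1.symm
  have e3 : (2 : F) * x = 0 := by linear_combination e2
  rcases mul_eq_zero.1 e3 with h | h
  · exact absurd h h2
  · exact h

/-- MIN-4 (M).  A linearly independent family spanning a totally isotropic subspace of a non-degenerate form has at most `n/2`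
members (`W ≤ W^⊥`, `dim W + dim W^⊥ = n`). -/
theorem card_le_of_isotropic (hJ : IsAltGram J) {ι : Type*} [Fintype ι] (w : ι → Fin n → F)
    (hli : LinearIndependent F w) (hiso : ∀ i j, bfm J (w i) (w j) = 0) : 2 * Fintype.card ι ≤ n := by
  classical
  set B : LinearMap.BilinForm F (Fin n → F) := Matrix.toBilin' J with hB
  have hBapp : ∀ u v, B u v = bfm J u v := fun u v => Matrix.toBilin'_apply' J u v
  have hnd : B.Nondegenerate := LinearMap.BilinForm.nondegenerate_toBilin'_of_det_ne_zero' J hJ.det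
  set W : Submodule F (Fin n → F) := Submodule.span F (Set.range w) with hW
  have hdimW : Module.finrank F W = Fintype.card ι := finrank_span_eq_card hli
  have hle : W ≤ B.orthogonal W := by
    rw [hW, Submodule.span_le]
    rintro _ ⟨i, rfl⟩
    rw [SetLike.mem_coe, LinearMap.BilinForm.mem_orthogonal_iff]
    intro v hv
    change B v (w i) = 0
    induction hv using Submodule.span_induction with
    | mem x hx =>
      obtain ⟨j, rfl⟩ := hx
      rw [hBapp]; exact hiso j i
    | zero => simp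
    | add x y _ _ hx hy => rw [map_add, LinearMap.add_apply, hx, hy, add_zero]
    | smul c x _ hx => rw [map_smul, LinearMap.smul_apply, hx, smul_zero]
  have h1 := Submodule.finrank_mono hle
  rw [LinearMap.BilinForm.finrank_orthogonal hnd, hdimW, Module.finrank_fintype_fun_eq_card,
    Fintype.card_fin] at h1
  omega

end Cfsg.Agent.Lib.Helper25.SpNILLeaf
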