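import Mathlib

/-!
# S5662 block [NIL] (sub-planner helper24): leaves MIN-1 `exists_index_two`, MIN-5 `exists_complement` (helper25)

Exact signatures of `notes/S5662_NIL_leaves.lean`.  Pure group theory of groups of exponent two.
-/

set_option autoImplicit false
set_option linter.unusedSectionVars false
set_option linter.unusedVariables false

namespace Cfsg.Agent.Lib.Helper25.SpNILLeaf

/-- a group of exponent two is commutative -/
theorem comm_of_exp_two {G : Type*} [Group G] (h2 : ∀ x : G, x * x = 1) (a b : G) : a * b = b * a := by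
  have ha : a⁻¹ = a := inv_eq_of_mul_eq_one_left (h2 a)
  have hb : b⁻¹ = b := inv_eq_of_mul_eq_one_left (h2 b)
  have hab : (a * b)⁻¹ = a * b := inv_eq_of_mul_eq_one_left (h2 (a * b))
  rw [mul_inv_rev, ha, hb] at hab
  exact hab.symm

/-- MIN-1 (S-M).  A non-trivial finite group of exponent two has a subgroup of index two. -/
theorem exists_index_two {G : Type*} [Group G] [Finite G] (h2 : ∀ x : G, x * x = 1) (hnt : Nontrivial G) :
    ∃ (B₁ : Subgroup G) (b : G), b ∉ B₁ ∧ (∀ x : G, x ∈ B₁ ∨ x * b ∈ B₁) ∧ Nat.card G = 2 * Nat.card B₁ := by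
  have : Fact (Nat.Prime 2) := ⟨Nat.prime_two⟩
  have hp : IsPGroup 2 G := fun g => ⟨1, by rw [pow_one, pow_two]; exact h2 g⟩
  obtain ⟨k, hk⟩ := IsPGroup.iff_card.1 hp
  have hk0 : k ≠ 0 := by
    intro h0
    rw [h0, pow_zero] at hk
    have : Subsingleton G := (Nat.card_eq_one_iff_unique.1 hk).1
    exact not_subsingleton G this
  obtain ⟨j, rfl⟩ : ∃ j, k = j + 1 := ⟨k - 1, by omega⟩
  obtain ⟨B₁, hB₁⟩ := Sylow.exists_subgroup_card_pow_prime (G := G) 2 (n := j)
    (by rw [hk]; exact pow_dvd_pow 2 (Nat.le_succ j))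
  have hidx : B₁.index = 2 := by
    have h := B₁.card_mul_index
    rw [hB₁, hk, pow_succ] at h
    exact Nat.eq_of_mul_eq_mul_left (Nat.two_pow_pos j) h
  obtain ⟨a, ha⟩ := Subgroup.index_eq_two_iff.1 hidx
  refine ⟨B₁, a, ?_, ?_, ?_⟩
  · have := ha 1
    rw [one_mul] at this
    rcases this with ⟨h, h'⟩ | ⟨h, h'⟩
    · exact absurd B₁.one_mem h'
    · exact h'
  · intro x
    rcases ha x with ⟨h, -⟩ | ⟨h, -⟩
    · exact Or.inr h
    · exact Or.inl h
  · rw [hk, hB₁, pow_succ, mul_comm]

/-- MIN-5 (M).  `A₀` maximal among the subgroups of `A` not containing `z`. -/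
theorem exists_complement {G : Type*} [Group G] [Finite G] (h2 : ∀ x : G, x * x = 1) (z : G) (hz : z ≠ 1) :
    ∃ A₀ : Subgroup G, z ∉ A₀ ∧ Nat.card G ≤ 2 * Nat.card A₀ := by
  classical
  have hcomm := comm_of_exp_two h2
  obtain ⟨A₀, -, hmax⟩ := Finite.exists_le_maximal (α := Subgroup G) (p := fun A => z ∉ A) (a := ⊥)
    (by rw [Subgroup.mem_bot]; exact hz)
  have hzA : z ∉ A₀ := hmax.prop
  have key : ∀ x : G, x ∈ A₀ ∨ x * z ∈ A₀ := by
    intro x
    by_contra hcon
    push Not at hcon
    obtain ⟨hx, hxz⟩ := hcon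
    let B : Subgroup G :=
      { carrier := {g | g ∈ A₀ ∨ g * x ∈ A₀}
        one_mem' := Or.inl A₀.one_mem
        mul_mem' := by
          rintro g h (hg | hg) (hh | hh)
          · exact Or.inl (A₀.mul_mem hg hh)
          · right
            rw [mul_assoc]
            exact A₀.mul_mem hg hh
          · right
            rw [mul_assoc, hcomm h x, ← mul_assoc]
            exact A₀.mul_mem hg hh
          · left
            have : g * h = (g * x) * (h * x) := by
              rw [mul_assoc, ← mul_assoc x h x, hcomm x h, mul_assoc h x x, h2 x, mul_one]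
            rw [this]
            exact A₀.mul_mem hg hh
        inv_mem' := by
          rintro g hg
          have : g⁻¹ = g := inv_eq_of_mul_eq_one_left (h2 g)
          rw [this]
          exact hg }
    have hAB : A₀ ≤ B := fun g hg => Or.inl hg
    have hxB : x ∈ B := Or.inr (by rw [h2 x]; exact A₀.one_mem)
    have hzB : z ∈ B := by
      by_contra hzB
      exact hx (hmax.le_of_ge hzB hAB hxB)
    rcases hzB with h | h
    · exact hzA h
    · rw [hcomm z x] at h
      exact hxz h
  -- counting
  have hinj : Function.Injective (fun g : G =>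
      if h : g ∈ A₀ then ((⟨g, h⟩ : A₀), true) else ((⟨g * z, (key g).resolve_left h⟩ : A₀), false)) := by
    intro g g' hgg
    by_cases h : g ∈ A₀ <;> by_cases h' : g' ∈ A₀
    · simp only [h, h', dif_pos] at hgg
      exact congrArg Subtype.val (congrArg Prod.fst hgg)
    · simp only [h, h', dif_pos, dif_neg, not_false_eq_true] at hgg
      exact absurd (congrArg Prod.snd hgg) (by simp)
    · simp only [h, h', dif_pos, dif_neg, not_false_eq_true] at hgg
      exact absurd (congrArg Prod.snd hgg) (by simp)
    · simp only [h, h', dif_neg, not_false_eq_true] at hgg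
      have := congrArg Subtype.val (congrArg Prod.fst hgg)
      exact mul_right_cancel this
  have := Nat.card_le_card_of_injective _ hinj
  rw [Nat.card_prod, Nat.card_eq_fintype_card (α := Bool), Fintype.card_bool, mul_comm] at this
  exact ⟨A₀, hzA, this⟩

end Cfsg.Agent.Lib.Helper25.SpNILLeaf
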