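import Mathlib
import Cfsg.Agent.Lib.Helper25.SpNILMinGrp

/-!
# S5662 block [NIL] (sub-planner helper24): leaf MIN-2 `exists_free_vector` (helper25)

Exact signature of `notes/S5662_NIL_leaves.lean`.  Induction on `Nat.card B`: `B = B₁ ∪ B₁ b` (MIN-1), `e± = e (1 ± b) / 2`,
`u = u₊ + u₋`.
-/

set_option autoImplicit false
set_option linter.unusedSectionVars false
set_option linter.unusedVariables false

namespace Cfsg.Agent.Lib.Helper25.SpNILLeaf
open Matrix

variable {F : Type*} [Field F] {n : ℕ}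

/-- abstract step: two projections separating the `x`- and `y`-parts -/
theorem li_sum_of_proj {ι₁ V : Type*} [Fintype ι₁] [AddCommGroup V] [Module F V] (h2 : (2 : F) ≠ 0)
    (p q : V →ₗ[F] V) (v w x y : ι₁ → V)
    (hpv : ∀ i, p (v i) = x i) (hpw : ∀ i, p (w i) = x i)
    (hqv : ∀ i, q (v i) = y i) (hqw : ∀ i, q (w i) = - y i)
    (hx : LinearIndependent F x) (hy : LinearIndependent F y) :
    LinearIndependent F (Sum.elim v w) := by
  classical
  rw [Fintype.linearIndependent_iff] at hx hy ⊢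
  intro g hg
  rw [Fintype.sum_sum_type] at hg
  simp only [Sum.elim_inl, Sum.elim_inr] at hg
  have hp := congrArg p hg
  have hq := congrArg q hg
  rw [map_add, map_sum, map_sum, map_zero] at hp hq
  have hp' : ∑ i, (g (Sum.inl i) + g (Sum.inr i)) • x i = 0 := by
    rw [← hp, ← Finset.sum_add_distrib]
    refine Finset.sum_congr rfl fun i _ => ?_
    rw [map_smul, map_smul, hpv, hpw, add_smul]
  have hq' : ∑ i, (g (Sum.inl i) - g (Sum.inr i)) • y i = 0 := by
    rw [← hq, ← Finset.sum_add_distrib]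
    refine Finset.sum_congr rfl fun i _ => ?_
    rw [map_smul, map_smul, hqv, hqw, sub_smul, smul_neg, sub_eq_add_neg]
  have h1 := hx _ hp'
  have h2' := hy _ hq'
  have hl : ∀ i, g (Sum.inl i) = 0 := by
    intro i
    have e3 : (2 : F) * g (Sum.inl i) = 0 := by linear_combination h1 i + h2' i
    rcases mul_eq_zero.1 e3 with h | h
    · exact absurd h h2
    · exact h
  rintro (i | i)
  · exact hl i
  · have := h1 i
    rw [hl i, zero_add] at this
    exact this

/-- the sign idempotent `e (1 + s b) / 2` -/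
noncomputable def sgnId (e bm : Matrix (Fin n) (Fin n) F) (s : F) : Matrix (Fin n) (Fin n) F :=
  (2⁻¹ : F) • (e * (1 + s • bm))

section sgn
variable {e bm : Matrix (Fin n) (Fin n) F} {s : F}

theorem sgnId_eq (e bm : Matrix (Fin n) (Fin n) F) (s : F) :
    sgnId e bm s = (2⁻¹ : F) • e + (2⁻¹ * s) • (e * bm) := by
  unfold sgnId
  rw [Matrix.mul_add, Matrix.mul_one, Matrix.mul_smul, smul_add, smul_smul]

theorem sgnId_mul_sgnId (h2 : (2 : F) ≠ 0) (he : e * e = e) (hb : bm * bm = 1) (hbe : bm * e = e * bm)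
    (s t : F) : sgnId e bm s * sgnId e bm t =
      ((2⁻¹ : F) * 2⁻¹ * (1 + s * t)) • e + ((2⁻¹ : F) * 2⁻¹ * (s + t)) • (e * bm) := by
  have h1 : e * bm * e = e * bm := by rw [Matrix.mul_assoc, hbe, ← Matrix.mul_assoc, he]
  have h2' : e * bm * (e * bm) = e := by
    rw [← Matrix.mul_assoc, h1, Matrix.mul_assoc, hb, Matrix.mul_one]
  have h3 : e * (e * bm) = e * bm := by rw [← Matrix.mul_assoc, he]
  rw [sgnId_eq, sgnId_eq]
  simp only [Matrix.add_mul, Matrix.mul_add, Matrix.smul_mul, Matrix.mul_smul, he, h1, h2', h3]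
  module

theorem sgnId_idem (h2 : (2 : F) ≠ 0) (he : e * e = e) (hb : bm * bm = 1) (hbe : bm * e = e * bm)
    (hs : s * s = 1) : sgnId e bm s * sgnId e bm s = sgnId e bm s := by
  rw [sgnId_mul_sgnId h2 he hb hbe, sgnId_eq, hs]
  congr 1
  · congr 1; field_simp; norm_num
  · congr 1; field_simp; ring

theorem sgnId_mul_neg (h2 : (2 : F) ≠ 0) (he : e * e = e) (hb : bm * bm = 1) (hbe : bm * e = e * bm)
    (hs : s * s = 1) : sgnId e bm s * sgnId e bm (-s) = 0 := by
  rw [sgnId_mul_sgnId h2 he hb hbe]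
  have h1 : (1 + s * -s : F) = 0 := by linear_combination -hs
  rw [h1, add_neg_cancel, mul_zero, zero_smul, zero_smul, add_zero]

theorem e_mul_sgnId (he : e * e = e) : e * sgnId e bm s = sgnId e bm s := by
  unfold sgnId
  rw [Matrix.mul_smul, ← Matrix.mul_assoc, he]

theorem sgnId_mul_bm (hb : bm * bm = 1) (hs : s * s = 1) : sgnId e bm s * bm = s • sgnId e bm s := by
  rw [sgnId_eq, Matrix.add_mul, Matrix.smul_mul, Matrix.smul_mul, Matrix.mul_assoc, hb, Matrix.mul_one,
    smul_add, smul_smul, smul_smul]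
  have h1 : (2⁻¹ : F) * s = s * 2⁻¹ := mul_comm _ _
  have h2 : s * ((2⁻¹ : F) * s) = 2⁻¹ := by rw [mul_comm (2⁻¹ : F) s, ← mul_assoc, hs, one_mul]
  rw [h2, ← h1, add_comm]

theorem sgnId_comm {a : Matrix (Fin n) (Fin n) F} (hae : a * e = e * a) (hab : a * bm = bm * a) :
    a * sgnId e bm s = sgnId e bm s * a := by
  rw [sgnId_eq, Matrix.mul_add, Matrix.add_mul, Matrix.mul_smul, Matrix.mul_smul, Matrix.smul_mul,
    Matrix.smul_mul, hae, ← Matrix.mul_assoc, hae, Matrix.mul_assoc, hab, Matrix.mul_assoc]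

theorem trace_sgnId_mul (a : Matrix (Fin n) (Fin n) F) :
    Matrix.trace (sgnId e bm s * a) =
      2⁻¹ * Matrix.trace (e * a) + 2⁻¹ * s * Matrix.trace (e * (bm * a)) := by
  rw [sgnId_eq, Matrix.add_mul, Matrix.trace_add, Matrix.smul_mul, Matrix.smul_mul, Matrix.trace_smul,
    Matrix.trace_smul, smul_eq_mul, smul_eq_mul, Matrix.mul_assoc]

end sgn

/-- the two formulas for the projections of the orbit vectors -/
theorem proj_orbit {P a bm : Matrix (Fin n) (Fin n) F} {s : F} {uP uQ : Fin n → F}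
    (hPa : a * P = P * a) (hPb : P * bm = s • P) (hPP : P *ᵥ uP = uP) (hPQ : P *ᵥ uQ = 0) :
    P *ᵥ (a *ᵥ (uP + uQ)) = a *ᵥ uP ∧ P *ᵥ ((a * bm) *ᵥ (uP + uQ)) = s • (a *ᵥ uP) := by
  have h0 : P *ᵥ (uP + uQ) = uP := by rw [Matrix.mulVec_add, hPP, hPQ, add_zero]
  constructor
  · rw [Matrix.mulVec_mulVec, ← hPa, ← Matrix.mulVec_mulVec, h0]
  · rw [Matrix.mulVec_mulVec, ← Matrix.mul_assoc, ← hPa, Matrix.mul_assoc, hPb, Matrix.mul_smul,
      Matrix.smul_mulVec, ← Matrix.mulVec_mulVec, h0]

/-- a nonzero fixed vector of an idempotent of nonzero trace -/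
theorem exists_fixed_ne_zero (e : Matrix (Fin n) (Fin n) F) (he : e * e = e) (htr : Matrix.trace e ≠ 0) :
    ∃ u : Fin n → F, e *ᵥ u = u ∧ u ≠ 0 := by
  classical
  have hne : e ≠ 0 := by
    rintro rfl
    exact htr (Matrix.trace_zero _ _)
  obtain ⟨v, hv⟩ : ∃ v : Fin n → F, e *ᵥ v ≠ 0 := by
    by_contra hcon
    push Not at hcon
    apply hne
    ext i j
    have := congrFun (hcon (Pi.single j 1)) i
    simpa using this
  exact ⟨e *ᵥ v, by rw [Matrix.mulVec_mulVec, he], hv⟩

theorem exists_free_vector_aux (h2 : (2 : F) ≠ 0) : ∀ (N : ℕ) (B : Subgroup (GL (Fin n) F)) [Finite B],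
    Nat.card B = N → (∀ a ∈ B, a * a = 1) → (∀ a ∈ B, ∀ b ∈ B, a * b = b * a) →
    ∀ (e : Matrix (Fin n) (Fin n) F), e * e = e →
    (∀ a ∈ B, (a : Matrix (Fin n) (Fin n) F) * e = e * (a : Matrix (Fin n) (Fin n) F)) →
    Matrix.trace e ≠ 0 →
    (∀ a ∈ B, a ≠ 1 → Matrix.trace (e * (a : Matrix (Fin n) (Fin n) F)) = 0) →
    ∃ u : Fin n → F, e *ᵥ u = u ∧
      LinearIndependent F (fun a : B => ((a : GL (Fin n) F) : Matrix (Fin n) (Fin n) F) *ᵥ u) := by
  intro N
  induction N using Nat.strong_induction_on with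
  | _ N ih =>
  intro B _ hN hB2 hBc e he hec htr htr0
  classical
  rcases subsingleton_or_nontrivial B with hsub | hnt
  · obtain ⟨u, hu, hu0⟩ := exists_fixed_ne_zero e he htr
    refine ⟨u, hu, LinearIndependent.of_subsingleton (1 : B) ?_⟩
    change ((1 : GL (Fin n) F) : Matrix (Fin n) (Fin n) F) *ᵥ u ≠ 0
    rw [Units.val_one, Matrix.one_mulVec]
    exact hu0
  · obtain ⟨B₁, b, hb, hcov, hcard⟩ := exists_index_two (G := B) (fun x => Subtype.ext (hB2 x.1 x.2)) hnt
    set B' : Subgroup (GL (Fin n) F) := B₁.map B.subtype with hB'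
    have hle : B' ≤ B := Subgroup.map_subtype_le B₁
    have hmem : ∀ x (hx : x ∈ B), x ∈ B' ↔ (⟨x, hx⟩ : B) ∈ B₁ := by
      intro x hx
      rw [hB', Subgroup.mem_map]
      constructor
      · rintro ⟨y, hy, rfl⟩
        exact hy
      · intro h
        exact ⟨⟨x, hx⟩, h, rfl⟩
    have hfin : Finite B' := Finite.of_injective (Subgroup.inclusion hle) (Subgroup.inclusion_injective hle)
    have hcard' : Nat.card B' = Nat.card B₁ := Subgroup.card_map_of_injective B.subtype_injective
    have hlt : Nat.card B' < N := by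
      rw [hcard', ← hN, hcard]
      have : 0 < Nat.card B₁ := Nat.card_pos
      omega
    have hbB' : (b : GL (Fin n) F) ∉ B' := fun h => hb ((hmem b.1 b.2).1 h)
    set bm : Matrix (Fin n) (Fin n) F := ((b : GL (Fin n) F) : Matrix (Fin n) (Fin n) F) with hbm
    have hbb : bm * bm = 1 := by
      rw [hbm, ← Units.val_mul, hB2 b.1 b.2, Units.val_one]
    have hbe : bm * e = e * bm := hec b.1 b.2
    have hb1 : (b : GL (Fin n) F) ≠ 1 := fun h => hbB' (h ▸ B'.one_mem)
    have htrb : Matrix.trace (e * bm) = 0 := htr0 b.1 b.2 hb1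
    -- the data for the sign `s`
    have hIH : ∀ s : F, s * s = 1 → ∃ u : Fin n → F, sgnId e bm s *ᵥ u = u ∧
        LinearIndependent F (fun a : B' => ((a : GL (Fin n) F) : Matrix (Fin n) (Fin n) F) *ᵥ u) := by
      intro s hs
      refine ih (Nat.card B') hlt B' rfl (fun a ha => hB2 a (hle ha))
        (fun a ha c hc => hBc a (hle ha) c (hle hc)) (sgnId e bm s) (sgnId_idem h2 he hbb hbe hs) ?_ ?_ ?_
      · intro a ha
        apply sgnId_comm (hec a (hle ha))
        rw [hbm, ← Units.val_mul, ← Units.val_mul, hBc a (hle ha) b.1 b.2]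
      · have := trace_sgnId_mul (e := e) (bm := bm) (s := s) 1
        rw [Matrix.mul_one, Matrix.mul_one, Matrix.mul_one, htrb, mul_zero, add_zero] at this
        rw [this]
        exact mul_ne_zero (inv_ne_zero h2) htr
      · intro a ha ha1
        rw [trace_sgnId_mul, htr0 a (hle ha) ha1]
        have hba : (b : GL (Fin n) F) * a ≠ 1 := by
          intro h
          apply hbB'
          have : (b : GL (Fin n) F) = a⁻¹ := eq_inv_of_mul_eq_one_left h
          rw [this]
          exact B'.inv_mem ha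
        have := htr0 ((b : GL (Fin n) F) * a) (B.mul_mem b.2 (hle ha)) hba
        rw [Units.val_mul] at this
        rw [this, mul_zero, mul_zero, add_zero]
    have h11 : (1 : F) * 1 = 1 := one_mul 1
    have hm1 : (-1 : F) * (-1) = 1 := by ring
    obtain ⟨up, hup, hlip⟩ := hIH 1 h11
    obtain ⟨um, hum, hlim⟩ := hIH (-1) hm1
    have hpm : sgnId e bm 1 *ᵥ um = 0 := by
      rw [← hum, Matrix.mulVec_mulVec, sgnId_mul_neg h2 he hbb hbe h11, Matrix.zero_mulVec]
    have hmp : sgnId e bm (-1) *ᵥ up = 0 := by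
      rw [← hup, Matrix.mulVec_mulVec]
      have := sgnId_mul_neg (s := -1) h2 he hbb hbe hm1
      rw [neg_neg] at this
      rw [this, Matrix.zero_mulVec]
    refine ⟨up + um, ?_, ?_⟩
    · rw [Matrix.mulVec_add]
      nth_rewrite 1 [← hup]
      nth_rewrite 1 [← hum]
      rw [Matrix.mulVec_mulVec, Matrix.mulVec_mulVec, e_mul_sgnId he, e_mul_sgnId he, hup, hum]
    · -- the equivalence `B' ⊕ B' ≃ B`
      let E0 : B' ⊕ B' → B := Sum.elim (fun a => ⟨a.1, hle a.2⟩) (fun a => ⟨a.1 * b.1, B.mul_mem (hle a.2) b.2⟩)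
      have hE0 : Function.Bijective E0 := by
        constructor
        · rintro (a | a) (c | c) hac
          · have h0 := congrArg Subtype.val hac
            have : (a : GL (Fin n) F) = c := h0
            exact congrArg Sum.inl (Subtype.ext this)
          · exfalso
            have h0 := congrArg Subtype.val hac
            have h1 : (a : GL (Fin n) F) = c.1 * b.1 := h0
            apply hbB'
            have h3 : (b : GL (Fin n) F) = c.1⁻¹ * a.1 := by rw [h1, inv_mul_cancel_left]
            rw [h3]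
            exact B'.mul_mem (B'.inv_mem c.2) a.2
          · exfalso
            have h0 := congrArg Subtype.val hac
            have h1 : (a : GL (Fin n) F) * b.1 = c.1 := h0
            apply hbB'
            have h3 : (b : GL (Fin n) F) = a.1⁻¹ * c.1 := by rw [← h1, inv_mul_cancel_left]
            rw [h3]
            exact B'.mul_mem (B'.inv_mem a.2) c.2
          · have h0 := congrArg Subtype.val hac
            have h1 : (a : GL (Fin n) F) * b.1 = c.1 * b.1 := h0
            exact congrArg Sum.inr (Subtype.ext (mul_right_cancel h1))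
        · intro x
          rcases hcov x with h | h
          · exact ⟨Sum.inl ⟨x.1, (hmem x.1 x.2).2 h⟩, rfl⟩
          · refine ⟨Sum.inr ⟨x.1 * b.1, (hmem (x.1 * b.1) (B.mul_mem x.2 b.2)).2 h⟩, ?_⟩
            apply Subtype.ext
            change x.1 * b.1 * b.1 = x.1
            rw [mul_assoc, hB2 b.1 b.2, mul_one]
      let E : B' ⊕ B' ≃ B := Equiv.ofBijective E0 hE0
      rw [← linearIndependent_equiv E]
      have hfun : (fun a : B => ((a : GL (Fin n) F) : Matrix (Fin n) (Fin n) F) *ᵥ (up + um)) ∘ E =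
          Sum.elim (fun a : B' => ((a : GL (Fin n) F) : Matrix (Fin n) (Fin n) F) *ᵥ (up + um))
            (fun a : B' => (((a : GL (Fin n) F) : Matrix (Fin n) (Fin n) F) * bm) *ᵥ (up + um)) := by
        funext x
        rcases x with a | a
        · rfl
        · change ((a.1 * b.1 : GL (Fin n) F) : Matrix (Fin n) (Fin n) F) *ᵥ (up + um) = _
          rw [Units.val_mul]
          rfl
      rw [hfun]
      have : Fintype B' := Fintype.ofFinite B'
      have hcomm : ∀ (a : B') (s : F), ((a : GL (Fin n) F) : Matrix (Fin n) (Fin n) F) * sgnId e bm s =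
          sgnId e bm s * ((a : GL (Fin n) F) : Matrix (Fin n) (Fin n) F) := by
        intro a s
        apply sgnId_comm (hec a.1 (hle a.2))
        rw [hbm, ← Units.val_mul, ← Units.val_mul, hBc a.1 (hle a.2) b.1 b.2]
      refine li_sum_of_proj h2 (Matrix.mulVecLin (sgnId e bm 1)) (Matrix.mulVecLin (sgnId e bm (-1))) _ _
        (fun a : B' => ((a : GL (Fin n) F) : Matrix (Fin n) (Fin n) F) *ᵥ up)
        (fun a : B' => ((a : GL (Fin n) F) : Matrix (Fin n) (Fin n) F) *ᵥ um) ?_ ?_ ?_ ?_ hlip hlim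
      · intro a
        rw [Matrix.mulVecLin_apply]
        exact (proj_orbit (hcomm a 1) (sgnId_mul_bm hbb h11) hup hpm).1
      · intro a
        rw [Matrix.mulVecLin_apply]
        have := (proj_orbit (hcomm a 1) (sgnId_mul_bm hbb h11) hup hpm).2
        rw [one_smul] at this
        exact this
      · intro a
        rw [Matrix.mulVecLin_apply, add_comm up um]
        exact (proj_orbit (hcomm a (-1)) (sgnId_mul_bm hbb hm1) hum hmp).1
      · intro a
        rw [Matrix.mulVecLin_apply, add_comm up um]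
        have := (proj_orbit (hcomm a (-1)) (sgnId_mul_bm hbb hm1) hum hmp).2
        rw [neg_one_smul] at this
        exact this

/-- MIN-2 (L).  The free vector. -/
theorem exists_free_vector (h2 : (2 : F) ≠ 0) (B : Subgroup (GL (Fin n) F)) [Finite B]
    (hB2 : ∀ a ∈ B, a * a = 1) (hBc : ∀ a ∈ B, ∀ b ∈ B, a * b = b * a)
    (e : Matrix (Fin n) (Fin n) F) (he : e * e = e)
    (hec : ∀ a ∈ B, (a : Matrix (Fin n) (Fin n) F) * e = e * (a : Matrix (Fin n) (Fin n) F))
    (htr : Matrix.trace e ≠ 0)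
    (htr0 : ∀ a ∈ B, a ≠ 1 → Matrix.trace (e * (a : Matrix (Fin n) (Fin n) F)) = 0) :
    ∃ u : Fin n → F, e *ᵥ u = u ∧
      LinearIndependent F (fun a : B => ((a : GL (Fin n) F) : Matrix (Fin n) (Fin n) F) *ᵥ u) :=
  exists_free_vector_aux h2 (Nat.card B) B rfl hB2 hBc e he hec htr htr0

end Cfsg.Agent.Lib.Helper25.SpNILLeaf
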