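import Mathlib

/-!
# Coset enumeration for the (2,3,5) triangle group: `⟨x, y | x³ = y⁵ = (xy)² = 1⟩` has order ≤ 60
(generated certificates: 12 cosets of `⟨y⟩`).
-/

namespace Cfsg.Agent.Lib.Helper25.A5Pres

variable {Γ : Type*} [Group Γ]

/-- coset representatives of `⟨y⟩` -/
def tau (x y : Γ) : Fin 12 → Γ :=
  ![1, x, x*x, x*x*y, x*x*y*x, x*x*y*y, x*x*y*x*x, x*x*y*y*x, x*x*y*x*x*y, x*x*y*x*x*y*y, x*x*y*x*x*y*y*x, x*x*y*x*x*y*y*x*x]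

set_option linter.unusedSimpArgs false in
set_option linter.unreachableTactic false in
set_option linter.unusedTactic false in
set_option maxHeartbeats 1000000 in
theorem coset_table (x y : Γ) (hx : x*x*x = 1) (hy : y*y*y*y*y = 1) (hxy : x*y*x*y = 1) :
    ((1) * x = (1) * (x)) ∧
    ((1) * y = (y) * (1)) ∧
    ((x) * x = (1) * (x*x)) ∧
    ((x) * y = (y*y*y*y) * (x*x)) ∧
    ((x*x) * x = (1) * (1)) ∧
    ((x*x) * y = (1) * (x*x*y)) ∧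
    ((x*x*y) * x = (1) * (x*x*y*x)) ∧
    ((x*x*y) * y = (1) * (x*x*y*y)) ∧
    ((x*x*y*x) * x = (1) * (x*x*y*x*x)) ∧
    ((x*x*y*x) * y = (1) * (x)) ∧
    ((x*x*y*y) * x = (1) * (x*x*y*y*x)) ∧
    ((x*x*y*y) * y = (y) * (x*x*y*x)) ∧
    ((x*x*y*x*x) * x = (1) * (x*x*y)) ∧
    ((x*x*y*x*x) * y = (1) * (x*x*y*x*x*y)) ∧
    ((x*x*y*y*x) * x = (y) * (x*x*y*x*x*y)) ∧
    ((x*x*y*y*x) * y = (1) * (x*x*y*x*x)) ∧
    ((x*x*y*x*x*y) * x = (y*y*y*y) * (x*x*y*y)) ∧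
    ((x*x*y*x*x*y) * y = (1) * (x*x*y*x*x*y*y)) ∧
    ((x*x*y*x*x*y*y) * x = (1) * (x*x*y*x*x*y*y*x)) ∧
    ((x*x*y*x*x*y*y) * y = (y) * (x*x*y*x*x*y*y*x)) ∧
    ((x*x*y*x*x*y*y*x) * x = (1) * (x*x*y*x*x*y*y*x*x)) ∧
    ((x*x*y*x*x*y*y*x) * y = (y*y*y*y) * (x*x*y*y*x)) ∧
    ((x*x*y*x*x*y*y*x*x) * x = (1) * (x*x*y*x*x*y*y)) ∧
    ((x*x*y*x*x*y*y*x*x) * y = (y*y*y*y) * (x*x*y*x*x*y*y*x*x)) := by
  have d_0_x : (((1) * x) * ((1) * (x))⁻¹) = 1 := by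
    simp only [mul_assoc, mul_inv_rev, inv_inv, one_mul, mul_one, inv_one, mul_inv_cancel_left, inv_mul_cancel_left, mul_inv_cancel, inv_mul_cancel]
  have d_0_y : (((1) * y) * ((y) * (1))⁻¹) = 1 := by
    simp only [mul_assoc, mul_inv_rev, inv_inv, one_mul, mul_one, inv_one, mul_inv_cancel_left, inv_mul_cancel_left, mul_inv_cancel, inv_mul_cancel]
  have d_1_x : (((x) * x) * ((1) * (x*x))⁻¹) = 1 := by
    simp only [mul_assoc, mul_inv_rev, inv_inv, one_mul, mul_one, inv_one, mul_inv_cancel_left, inv_mul_cancel_left, mul_inv_cancel, inv_mul_cancel]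
  have d_2_y : (((x*x) * y) * ((1) * (x*x*y))⁻¹) = 1 := by
    simp only [mul_assoc, mul_inv_rev, inv_inv, one_mul, mul_one, inv_one, mul_inv_cancel_left, inv_mul_cancel_left, mul_inv_cancel, inv_mul_cancel]
  have d_3_x : (((x*x*y) * x) * ((1) * (x*x*y*x))⁻¹) = 1 := by
    simp only [mul_assoc, mul_inv_rev, inv_inv, one_mul, mul_one, inv_one, mul_inv_cancel_left, inv_mul_cancel_left, mul_inv_cancel, inv_mul_cancel]
  have d_3_y : (((x*x*y) * y) * ((1) * (x*x*y*y))⁻¹) = 1 := by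
    simp only [mul_assoc, mul_inv_rev, inv_inv, one_mul, mul_one, inv_one, mul_inv_cancel_left, inv_mul_cancel_left, mul_inv_cancel, inv_mul_cancel]
  have d_4_x : (((x*x*y*x) * x) * ((1) * (x*x*y*x*x))⁻¹) = 1 := by
    simp only [mul_assoc, mul_inv_rev, inv_inv, one_mul, mul_one, inv_one, mul_inv_cancel_left, inv_mul_cancel_left, mul_inv_cancel, inv_mul_cancel]
  have d_5_x : (((x*x*y*y) * x) * ((1) * (x*x*y*y*x))⁻¹) = 1 := by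
    simp only [mul_assoc, mul_inv_rev, inv_inv, one_mul, mul_one, inv_one, mul_inv_cancel_left, inv_mul_cancel_left, mul_inv_cancel, inv_mul_cancel]
  have d_6_y : (((x*x*y*x*x) * y) * ((1) * (x*x*y*x*x*y))⁻¹) = 1 := by
    simp only [mul_assoc, mul_inv_rev, inv_inv, one_mul, mul_one, inv_one, mul_inv_cancel_left, inv_mul_cancel_left, mul_inv_cancel, inv_mul_cancel]
  have d_8_y : (((x*x*y*x*x*y) * y) * ((1) * (x*x*y*x*x*y*y))⁻¹) = 1 := by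
    simp only [mul_assoc, mul_inv_rev, inv_inv, one_mul, mul_one, inv_one, mul_inv_cancel_left, inv_mul_cancel_left, mul_inv_cancel, inv_mul_cancel]
  have d_9_x : (((x*x*y*x*x*y*y) * x) * ((1) * (x*x*y*x*x*y*y*x))⁻¹) = 1 := by
    simp only [mul_assoc, mul_inv_rev, inv_inv, one_mul, mul_one, inv_one, mul_inv_cancel_left, inv_mul_cancel_left, mul_inv_cancel, inv_mul_cancel]
  have d_10_x : (((x*x*y*x*x*y*y*x) * x) * ((1) * (x*x*y*x*x*y*y*x*x))⁻¹) = 1 := by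
    simp only [mul_assoc, mul_inv_rev, inv_inv, one_mul, mul_one, inv_one, mul_inv_cancel_left, inv_mul_cancel_left, mul_inv_cancel, inv_mul_cancel]
  have d_2_x : (((x*x) * x) * ((1) * (1))⁻¹) = 1 := by
    have key : (1) * (x*x*x) * (1)⁻¹ = ((1) * (((1) * x) * ((1) * (x))⁻¹) * (1)⁻¹) * ((1) * (((x) * x) * ((1) * (x*x))⁻¹) * (1)⁻¹) * ((1) * (((x*x) * x) * ((1) * (1))⁻¹) * (1)⁻¹) := by
      simp only [mul_assoc, mul_inv_rev, inv_inv, one_mul, mul_one, inv_one, mul_inv_cancel_left, inv_mul_cancel_left, mul_inv_cancel, inv_mul_cancel]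
    generalize (((x*x) * x) * ((1) * (1))⁻¹) = dd at key ⊢
    rw [hx, d_0_x, d_1_x] at key
    simp only [mul_one, one_mul, mul_inv_cancel, inv_one] at key
    first | exact key.symm | exact conj_eq_one_iff.mp key.symm
  have d_1_y : (((x) * y) * ((y*y*y*y) * (x*x))⁻¹) = 1 := by
    have key : (1) * (x*y*x*y) * (1)⁻¹ = ((1) * (((1) * x) * ((1) * (x))⁻¹) * (1)⁻¹) * ((1) * (((x) * y) * ((y*y*y*y) * (x*x))⁻¹) * (1)⁻¹) * ((y*y*y*y) * (((x*x) * x) * ((1) * (1))⁻¹) * (y*y*y*y)⁻¹) * ((y*y*y*y) * (((1) * y) * ((y) * (1))⁻¹) * (y*y*y*y)⁻¹) * (y*y*y*y*y) := by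
      simp only [mul_assoc, mul_inv_rev, inv_inv, one_mul, mul_one, inv_one, mul_inv_cancel_left, inv_mul_cancel_left, mul_inv_cancel, inv_mul_cancel]
    generalize (((x) * y) * ((y*y*y*y) * (x*x))⁻¹) = dd at key ⊢
    rw [hxy, hy, d_0_x, d_2_x, d_0_y] at key
    simp only [mul_one, one_mul, mul_inv_cancel, inv_one] at key
    first | exact key.symm | exact conj_eq_one_iff.mp key.symm
  have d_4_y : (((x*x*y*x) * y) * ((1) * (x))⁻¹) = 1 := by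
    have key : (x) * (x*y*x*y) * (x)⁻¹ = ((1) * (((x) * x) * ((1) * (x*x))⁻¹) * (1)⁻¹) * ((1) * (((x*x) * y) * ((1) * (x*x*y))⁻¹) * (1)⁻¹) * ((1) * (((x*x*y) * x) * ((1) * (x*x*y*x))⁻¹) * (1)⁻¹) * ((1) * (((x*x*y*x) * y) * ((1) * (x))⁻¹) * (1)⁻¹) := by
      simp only [mul_assoc, mul_inv_rev, inv_inv, one_mul, mul_one, inv_one, mul_inv_cancel_left, inv_mul_cancel_left, mul_inv_cancel, inv_mul_cancel]
    generalize (((x*x*y*x) * y) * ((1) * (x))⁻¹) = dd at key ⊢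
    rw [hxy, d_1_x, d_2_y, d_3_x] at key
    simp only [mul_one, one_mul, mul_inv_cancel, inv_one] at key
    first | exact key.symm | exact conj_eq_one_iff.mp key.symm
  have d_5_y : (((x*x*y*y) * y) * ((y) * (x*x*y*x))⁻¹) = 1 := by
    have key : (x*x) * (y*y*y*y*y) * (x*x)⁻¹ = ((1) * (((x*x) * y) * ((1) * (x*x*y))⁻¹) * (1)⁻¹) * ((1) * (((x*x*y) * y) * ((1) * (x*x*y*y))⁻¹) * (1)⁻¹) * ((1) * (((x*x*y*y) * y) * ((y) * (x*x*y*x))⁻¹) * (1)⁻¹) * ((y) * (((x*x*y*x) * y) * ((1) * (x))⁻¹) * (y)⁻¹) * ((y) * (((x) * y) * ((y*y*y*y) * (x*x))⁻¹) * (y)⁻¹) * (y*y*y*y*y) := by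
      simp only [mul_assoc, mul_inv_rev, inv_inv, one_mul, mul_one, inv_one, mul_inv_cancel_left, inv_mul_cancel_left, mul_inv_cancel, inv_mul_cancel]
    generalize (((x*x*y*y) * y) * ((y) * (x*x*y*x))⁻¹) = dd at key ⊢
    rw [hy, d_2_y, d_3_y, d_4_y, d_1_y] at key
    simp only [mul_one, one_mul, mul_inv_cancel, inv_one] at key
    first | exact key.symm | exact conj_eq_one_iff.mp key.symm
  have d_6_x : (((x*x*y*x*x) * x) * ((1) * (x*x*y))⁻¹) = 1 := by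
    have key : (x*x*y) * (x*x*x) * (x*x*y)⁻¹ = ((1) * (((x*x*y) * x) * ((1) * (x*x*y*x))⁻¹) * (1)⁻¹) * ((1) * (((x*x*y*x) * x) * ((1) * (x*x*y*x*x))⁻¹) * (1)⁻¹) * ((1) * (((x*x*y*x*x) * x) * ((1) * (x*x*y))⁻¹) * (1)⁻¹) := by
      simp only [mul_assoc, mul_inv_rev, inv_inv, one_mul, mul_one, inv_one, mul_inv_cancel_left, inv_mul_cancel_left, mul_inv_cancel, inv_mul_cancel]
    generalize (((x*x*y*x*x) * x) * ((1) * (x*x*y))⁻¹) = dd at key ⊢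
    rw [hx, d_3_x, d_4_x] at key
    simp only [mul_one, one_mul, mul_inv_cancel, inv_one] at key
    first | exact key.symm | exact conj_eq_one_iff.mp key.symm
  have d_8_x : (((x*x*y*x*x*y) * x) * ((y*y*y*y) * (x*x*y*y))⁻¹) = 1 := by
    have key : (x*x*y*x) * (x*y*x*y) * (x*x*y*x)⁻¹ = ((1) * (((x*x*y*x) * x) * ((1) * (x*x*y*x*x))⁻¹) * (1)⁻¹) * ((1) * (((x*x*y*x*x) * y) * ((1) * (x*x*y*x*x*y))⁻¹) * (1)⁻¹) * ((1) * (((x*x*y*x*x*y) * x) * ((y*y*y*y) * (x*x*y*y))⁻¹) * (1)⁻¹) * ((y*y*y*y) * (((x*x*y*y) * y) * ((y) * (x*x*y*x))⁻¹) * (y*y*y*y)⁻¹) * (y*y*y*y*y) := by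
      simp only [mul_assoc, mul_inv_rev, inv_inv, one_mul, mul_one, inv_one, mul_inv_cancel_left, inv_mul_cancel_left, mul_inv_cancel, inv_mul_cancel]
    generalize (((x*x*y*x*x*y) * x) * ((y*y*y*y) * (x*x*y*y))⁻¹) = dd at key ⊢
    rw [hxy, hy, d_4_x, d_6_y, d_5_y] at key
    simp only [mul_one, one_mul, mul_inv_cancel, inv_one] at key
    first | exact key.symm | exact conj_eq_one_iff.mp key.symm
  have d_7_x : (((x*x*y*y*x) * x) * ((y) * (x*x*y*x*x*y))⁻¹) = 1 := by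
    have key : (x*x*y*y) * (x*x*x) * (x*x*y*y)⁻¹ = ((1) * (((x*x*y*y) * x) * ((1) * (x*x*y*y*x))⁻¹) * (1)⁻¹) * ((1) * (((x*x*y*y*x) * x) * ((y) * (x*x*y*x*x*y))⁻¹) * (1)⁻¹) * ((y) * (((x*x*y*x*x*y) * x) * ((y*y*y*y) * (x*x*y*y))⁻¹) * (y)⁻¹) * (y*y*y*y*y) := by
      simp only [mul_assoc, mul_inv_rev, inv_inv, one_mul, mul_one, inv_one, mul_inv_cancel_left, inv_mul_cancel_left, mul_inv_cancel, inv_mul_cancel]
    generalize (((x*x*y*y*x) * x) * ((y) * (x*x*y*x*x*y))⁻¹) = dd at key ⊢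
    rw [hx, hy, d_5_x, d_8_x] at key
    simp only [mul_one, one_mul, mul_inv_cancel, inv_one] at key
    first | exact key.symm | exact conj_eq_one_iff.mp key.symm
  have d_7_y : (((x*x*y*y*x) * y) * ((1) * (x*x*y*x*x))⁻¹) = 1 := by
    have key : (x*x*y*y) * (x*y*x*y) * (x*x*y*y)⁻¹ = ((1) * (((x*x*y*y) * x) * ((1) * (x*x*y*y*x))⁻¹) * (1)⁻¹) * ((1) * (((x*x*y*y*x) * y) * ((1) * (x*x*y*x*x))⁻¹) * (1)⁻¹) * ((1) * (((x*x*y*x*x) * x) * ((1) * (x*x*y))⁻¹) * (1)⁻¹) * ((1) * (((x*x*y) * y) * ((1) * (x*x*y*y))⁻¹) * (1)⁻¹) := by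
      simp only [mul_assoc, mul_inv_rev, inv_inv, one_mul, mul_one, inv_one, mul_inv_cancel_left, inv_mul_cancel_left, mul_inv_cancel, inv_mul_cancel]
    generalize (((x*x*y*y*x) * y) * ((1) * (x*x*y*x*x))⁻¹) = dd at key ⊢
    rw [hxy, d_5_x, d_6_x, d_3_y] at key
    simp only [mul_one, one_mul, mul_inv_cancel, inv_one] at key
    first | exact key.symm | exact conj_eq_one_iff.mp key.symm
  have d_10_y : (((x*x*y*x*x*y*y*x) * y) * ((y*y*y*y) * (x*x*y*y*x))⁻¹) = 1 := by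
    have key : (x*x*y*y*x) * (x*y*x*y) * (x*x*y*y*x)⁻¹ = ((1) * (((x*x*y*y*x) * x) * ((y) * (x*x*y*x*x*y))⁻¹) * (1)⁻¹) * ((y) * (((x*x*y*x*x*y) * y) * ((1) * (x*x*y*x*x*y*y))⁻¹) * (y)⁻¹) * ((y) * (((x*x*y*x*x*y*y) * x) * ((1) * (x*x*y*x*x*y*y*x))⁻¹) * (y)⁻¹) * ((y) * (((x*x*y*x*x*y*y*x) * y) * ((y*y*y*y) * (x*x*y*y*x))⁻¹) * (y)⁻¹) * (y*y*y*y*y) := by
      simp only [mul_assoc, mul_inv_rev, inv_inv, one_mul, mul_one, inv_one, mul_inv_cancel_left, inv_mul_cancel_left, mul_inv_cancel, inv_mul_cancel]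
    generalize (((x*x*y*x*x*y*y*x) * y) * ((y*y*y*y) * (x*x*y*y*x))⁻¹) = dd at key ⊢
    rw [hxy, hy, d_7_x, d_8_y, d_9_x] at key
    simp only [mul_one, one_mul, mul_inv_cancel, inv_one] at key
    first | exact key.symm | exact conj_eq_one_iff.mp key.symm
  have d_9_y : (((x*x*y*x*x*y*y) * y) * ((y) * (x*x*y*x*x*y*y*x))⁻¹) = 1 := by
    have key : (x*x*y*x*x*y) * (y*y*y*y*y) * (x*x*y*x*x*y)⁻¹ = ((1) * (((x*x*y*x*x*y) * y) * ((1) * (x*x*y*x*x*y*y))⁻¹) * (1)⁻¹) * ((1) * (((x*x*y*x*x*y*y) * y) * ((y) * (x*x*y*x*x*y*y*x))⁻¹) * (1)⁻¹) * ((y) * (((x*x*y*x*x*y*y*x) * y) * ((y*y*y*y) * (x*x*y*y*x))⁻¹) * (y)⁻¹) * ((y*y*y*y*y) * (((x*x*y*y*x) * y) * ((1) * (x*x*y*x*x))⁻¹) * (y*y*y*y*y)⁻¹) * ((y*y*y*y*y) * (((x*x*y*x*x) * y) * ((1) * (x*x*y*x*x*y))⁻¹) * (y*y*y*y*y)⁻¹) * (y*y*y*y*y) := by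
      simp only [mul_assoc, mul_inv_rev, inv_inv, one_mul, mul_one, inv_one, mul_inv_cancel_left, inv_mul_cancel_left, mul_inv_cancel, inv_mul_cancel]
    generalize (((x*x*y*x*x*y*y) * y) * ((y) * (x*x*y*x*x*y*y*x))⁻¹) = dd at key ⊢
    rw [hy, d_8_y, d_10_y, d_7_y, d_6_y] at key
    simp only [mul_one, one_mul, mul_inv_cancel, inv_one] at key
    first | exact key.symm | exact conj_eq_one_iff.mp key.symm
  have d_11_x : (((x*x*y*x*x*y*y*x*x) * x) * ((1) * (x*x*y*x*x*y*y))⁻¹) = 1 := by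
    have key : (x*x*y*x*x*y*y) * (x*x*x) * (x*x*y*x*x*y*y)⁻¹ = ((1) * (((x*x*y*x*x*y*y) * x) * ((1) * (x*x*y*x*x*y*y*x))⁻¹) * (1)⁻¹) * ((1) * (((x*x*y*x*x*y*y*x) * x) * ((1) * (x*x*y*x*x*y*y*x*x))⁻¹) * (1)⁻¹) * ((1) * (((x*x*y*x*x*y*y*x*x) * x) * ((1) * (x*x*y*x*x*y*y))⁻¹) * (1)⁻¹) := by
      simp only [mul_assoc, mul_inv_rev, inv_inv, one_mul, mul_one, inv_one, mul_inv_cancel_left, inv_mul_cancel_left, mul_inv_cancel, inv_mul_cancel]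
    generalize (((x*x*y*x*x*y*y*x*x) * x) * ((1) * (x*x*y*x*x*y*y))⁻¹) = dd at key ⊢
    rw [hx, d_9_x, d_10_x] at key
    simp only [mul_one, one_mul, mul_inv_cancel, inv_one] at key
    first | exact key.symm | exact conj_eq_one_iff.mp key.symm
  have d_11_y : (((x*x*y*x*x*y*y*x*x) * y) * ((y*y*y*y) * (x*x*y*x*x*y*y*x*x))⁻¹) = 1 := by
    have key : (x*x*y*x*x*y*y*x) * (x*y*x*y) * (x*x*y*x*x*y*y*x)⁻¹ = ((1) * (((x*x*y*x*x*y*y*x) * x) * ((1) * (x*x*y*x*x*y*y*x*x))⁻¹) * (1)⁻¹) * ((1) * (((x*x*y*x*x*y*y*x*x) * y) * ((y*y*y*y) * (x*x*y*x*x*y*y*x*x))⁻¹) * (1)⁻¹) * ((y*y*y*y) * (((x*x*y*x*x*y*y*x*x) * x) * ((1) * (x*x*y*x*x*y*y))⁻¹) * (y*y*y*y)⁻¹) * ((y*y*y*y) * (((x*x*y*x*x*y*y) * y) * ((y) * (x*x*y*x*x*y*y*x))⁻¹) * (y*y*y*y)⁻¹) * (y*y*y*y*y) := by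
      simp only [mul_assoc, mul_inv_rev, inv_inv, one_mul, mul_one, inv_one, mul_inv_cancel_left, inv_mul_cancel_left, mul_inv_cancel, inv_mul_cancel]
    generalize (((x*x*y*x*x*y*y*x*x) * y) * ((y*y*y*y) * (x*x*y*x*x*y*y*x*x))⁻¹) = dd at key ⊢
    rw [hxy, hy, d_10_x, d_11_x, d_9_y] at key
    simp only [mul_one, one_mul, mul_inv_cancel, inv_one] at key
    first | exact key.symm | exact conj_eq_one_iff.mp key.symm
  exact ⟨mul_inv_eq_one.mp d_0_x, mul_inv_eq_one.mp d_0_y, mul_inv_eq_one.mp d_1_x, mul_inv_eq_one.mp d_1_y, mul_inv_eq_one.mp d_2_x, mul_inv_eq_one.mp d_2_y, mul_inv_eq_one.mp d_3_x, mul_inv_eq_one.mp d_3_y, mul_inv_eq_one.mp d_4_x, mul_inv_eq_one.mp d_4_y, mul_inv_eq_one.mp d_5_x, mul_inv_eq_one.mp d_5_y, mul_inv_eq_one.mp d_6_x, mul_inv_eq_one.mp d_6_y, mul_inv_eq_one.mp d_7_x, mul_inv_eq_one.mp d_7_y, mul_inv_eq_one.mp d_8_x,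 mul_inv_eq_one.mp d_8_y, mul_inv_eq_one.mp d_9_x, mul_inv_eq_one.mp d_9_y, mul_inv_eq_one.mp d_10_x, mul_inv_eq_one.mp d_10_y, mul_inv_eq_one.mp d_11_x, mul_inv_eq_one.mp d_11_y⟩

set_option linter.unnecessarySimpa false in
set_option maxHeartbeats 1000000 in
theorem step (x y : Γ) (hx : x*x*x = 1) (hy : y*y*y*y*y = 1) (hxy : x*y*x*y = 1) :
    ∀ c : Fin 12, (∃ (c' : Fin 12) (k : ℕ), tau x y c * x = y ^ k * tau x y c') ∧
      (∃ (c' : Fin 12) (k : ℕ), tau x y c * y = y ^ k * tau x y c') := by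
  obtain ⟨e_0_x, e_0_y, e_1_x, e_1_y, e_2_x, e_2_y, e_3_x, e_3_y, e_4_x, e_4_y, e_5_x, e_5_y, e_6_x, e_6_y, e_7_x, e_7_y, e_8_x, e_8_y, e_9_x, e_9_y, e_10_x, e_10_y, e_11_x, e_11_y⟩ := coset_table x y hx hy hxy
  intro c
  fin_cases c
  · exact ⟨⟨1, 0, by simpa [tau, pow_succ, mul_assoc] using e_0_x⟩, ⟨0, 1, by simpa [tau, pow_succ, mul_assoc] using e_0_y⟩⟩
  · exact ⟨⟨2, 0, by simpa [tau, pow_succ, mul_assoc] using e_1_x⟩, ⟨2, 4, by simpa [tau, pow_succ, mul_assoc] using e_1_y⟩⟩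
  · exact ⟨⟨0, 0, by simpa [tau, pow_succ, mul_assoc] using e_2_x⟩, ⟨3, 0, by simpa [tau, pow_succ, mul_assoc] using e_2_y⟩⟩
  · exact ⟨⟨4, 0, by simpa [tau, pow_succ, mul_assoc] using e_3_x⟩, ⟨5, 0, by simpa [tau, pow_succ, mul_assoc] using e_3_y⟩⟩
  · exact ⟨⟨6, 0, by simpa [tau, pow_succ, mul_assoc] using e_4_x⟩, ⟨1, 0, by simpa [tau, pow_succ, mul_assoc] using e_4_y⟩⟩
  · exact ⟨⟨7, 0, by simpa [tau, pow_succ, mul_assoc] using e_5_x⟩, ⟨4, 1, by simpa [tau, pow_succ, mul_assoc] using e_5_y⟩⟩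
  · exact ⟨⟨3, 0, by simpa [tau, pow_succ, mul_assoc] using e_6_x⟩, ⟨8, 0, by simpa [tau, pow_succ, mul_assoc] using e_6_y⟩⟩
  · exact ⟨⟨8, 1, by simpa [tau, pow_succ, mul_assoc] using e_7_x⟩, ⟨6, 0, by simpa [tau, pow_succ, mul_assoc] using e_7_y⟩⟩
  · exact ⟨⟨5, 4, by simpa [tau, pow_succ, mul_assoc] using e_8_x⟩, ⟨9, 0, by simpa [tau, pow_succ, mul_assoc] using e_8_y⟩⟩
  · exact ⟨⟨10, 0, by simpa [tau, pow_succ, mul_assoc] using e_9_x⟩, ⟨10, 1, by simpa [tau, pow_succ, mul_assoc] using e_9_y⟩⟩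
  · exact ⟨⟨11, 0, by simpa [tau, pow_succ, mul_assoc] using e_10_x⟩, ⟨7, 4, by simpa [tau, pow_succ, mul_assoc] using e_10_y⟩⟩
  · exact ⟨⟨9, 0, by simpa [tau, pow_succ, mul_assoc] using e_11_x⟩, ⟨11, 4, by simpa [tau, pow_succ, mul_assoc] using e_11_y⟩⟩

end Cfsg.Agent.Lib.Helper25.A5Pres
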