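import Mathlib

set_option autoImplicit false

/-!
Abelian groups acting irreducibly over a finite field: the field model `E = F[H]/m`,
and the self-duality criterion (`n` even and `|H|` divides `q^(n/2)+1`).
-/

namespace Cfsg.Agent.Lib.Helper25.AbelIrr

open Module

section core

variable {F : Type*} [Field F] {E : Type*} [Field E] [Algebra F E]
  {H : Type*} [CommGroup H] (ζ : H →* E)

lemma zeta_mul_inv (h : H) : ζ h * ζ h⁻¹ = 1 := by rw [← map_mul, mul_inv_cancel, map_one]

lemma zeta_ne_zero (h : H) : ζ h ≠ 0 := fun h0 => by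
  have := zeta_mul_inv ζ h
  rw [h0, zero_mul] at this
  exact zero_ne_one this

lemma zeta_inv (h : H) : ζ h⁻¹ = (ζ h)⁻¹ :=
  eq_inv_of_mul_eq_one_right (zeta_mul_inv ζ h)

lemma exists_adjoint (hspan : Submodule.span F (Set.range ζ) = ⊤) (B : LinearMap.BilinForm F E)
    (hinv : ∀ h x y, B (ζ h * x) (ζ h * y) = B x y) (a : E) :
    ∃ a' : E, ∀ x y, B (a * x) y = B x (a' * y) := by
  have ha : a ∈ Submodule.span F (Set.range ζ) := hspan ▸ Submodule.mem_top
  induction ha using Submodule.span_induction with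
  | mem a ha =>
    obtain ⟨h, rfl⟩ := ha
    refine ⟨ζ h⁻¹, fun x y => ?_⟩
    have := hinv h x (ζ h⁻¹ * y)
    rw [← mul_assoc, zeta_mul_inv, one_mul] at this
    exact this
  | zero => exact ⟨0, fun x y => by simp⟩
  | add a b _ _ iha ihb =>
    obtain ⟨a', ha'⟩ := iha
    obtain ⟨b', hb'⟩ := ihb
    exact ⟨a' + b', fun x y => by
      rw [add_mul, map_add, LinearMap.add_apply, ha', hb', add_mul, map_add]⟩
  | smul c a _ iha =>
    obtain ⟨a', ha'⟩ := iha
    exact ⟨c • a', fun x y => by
      rw [smul_mul_assoc, map_smul, LinearMap.smul_apply, ha', smul_mul_assoc, map_smul]⟩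

/-- The adjoint map of an invariant nondegenerate form is an `F`-algebra endomorphism of `E`
inverting `ζ h`. -/
lemma exists_algHom (hspan : Submodule.span F (Set.range ζ) = ⊤) (B : LinearMap.BilinForm F E)
    (hB : B.Nondegenerate)
    (hinv : ∀ h x y, B (ζ h * x) (ζ h * y) = B x y) :
    ∃ T : E →ₐ[F] E, ∀ h, T (ζ h) = (ζ h)⁻¹ := by
  choose τ hτ using exists_adjoint ζ hspan B hinv
  have huniq : ∀ a a', (∀ x y, B (a * x) y = B x (a' * y)) → a' = τ a := by
    intro a a' h
    have : ∀ x, B x (a' - τ a) = 0 := fun x => by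
      have h1 := h x 1
      have h2 := hτ a x 1
      rw [mul_one] at h1 h2
      rw [map_sub, ← h1, ← h2, sub_self]
    exact sub_eq_zero.1 (hB.2 _ this)
  let T : E →ₐ[F] E :=
    { toFun := τ
      map_one' := (huniq 1 1 (fun x y => by rw [one_mul, one_mul])).symm
      map_mul' := fun a b => (huniq (a * b) (τ a * τ b) (fun x y => by
         rw [mul_assoc, hτ a, hτ b, ← mul_assoc, mul_comm (τ b)])).symm
      map_zero' := (huniq 0 0 (fun x y => by simp)).symm
      map_add' := fun a b => (huniq (a + b) (τ a + τ b) (fun x y => by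
        rw [add_mul, map_add, LinearMap.add_apply, hτ, hτ, add_mul, map_add])).symm
      commutes' := fun c => (huniq _ _ (fun x y => by
         rw [Algebra.algebraMap_eq_smul_one, smul_mul_assoc, one_mul, map_smul,
           LinearMap.smul_apply, smul_mul_assoc, one_mul, map_smul])).symm }
  refine ⟨T, fun h => ?_⟩
  have h1 : ζ h⁻¹ = τ (ζ h) := huniq (ζ h) (ζ h⁻¹) (fun x y => by
    have := hinv h x (ζ h⁻¹ * y)
    rw [← mul_assoc, zeta_mul_inv, one_mul] at this
    exact this)
  change τ (ζ h) = _
  rw [← h1, zeta_inv]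

theorem forward [Fintype F] [Finite E] [Finite H] (hinj : Function.Injective ζ)
    (hspan : Submodule.span F (Set.range ζ) = ⊤) (hn : 2 ≤ finrank F E)
    (B : LinearMap.BilinForm F E) (hB : B.Nondegenerate)
    (hinv : ∀ h x y, B (ζ h * x) (ζ h * y) = B x y) :
    Even (finrank F E) ∧ Nat.card H ∣ Fintype.card F ^ (finrank F E / 2) + 1 := by
  obtain ⟨T, hT⟩ := exists_algHom ζ hspan B hB hinv
  obtain ⟨j, hj⟩ := (FiniteField.bijective_frobeniusAlgHom_pow F E).2 T
  have hj' : FiniteField.frobeniusAlgHom F E ^ j.1 = T := hj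
  have hTpow : ∀ x, T x = x ^ (Fintype.card F ^ j.1) := by
    intro x
    have := DFunLike.congr_fun hj' x
    rw [AlgHom.coe_pow, FiniteField.coe_frobeniusAlgHom, pow_iterate] at this
    exact this.symm
  have hTT : ∀ x, T (T x) = x := by
    intro x
    have hx : x ∈ Submodule.span F (Set.range ζ) := hspan ▸ Submodule.mem_top
    induction hx using Submodule.span_induction with
    | mem a ha =>
      obtain ⟨h, rfl⟩ := ha
      rw [hT, map_inv₀, hT, inv_inv]
    | zero => simp
    | add a b _ _ iha ihb => rw [map_add, map_add, iha, ihb]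
    | smul c a _ iha => rw [map_smul, map_smul, iha]
  have hord := FiniteField.orderOf_frobeniusAlgHom F E
  have h2j : (FiniteField.frobeniusAlgHom F E) ^ (2 * j.1) = 1 := by
    rw [two_mul, pow_add, hj']
    ext x
    exact hTT x
  have hdvd : finrank F E ∣ 2 * j.1 := by
    have := orderOf_dvd_of_pow_eq_one h2j
    rwa [hord] at this
  have hjlt := j.2
  obtain ⟨c, hc⟩ := hdvd
  have hc' : c = 0 ∨ c = 1 := by
    rcases c with _ | _ | c
    · left; rfl
    · right; rfl
    · exfalso; nlinarith
  rcases hc' with rfl | rfl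
  · exfalso
    have hj0 : j.1 = 0 := by omega
    have hTid : ∀ x, T x = x := by
      intro x
      rw [hTpow, hj0, pow_zero, pow_one]
    have hsq : ∀ h, ζ h = 1 ∨ ζ h = -1 := by
      intro h
      have := hT h
      rw [hTid] at this
      have h2 : ζ h * ζ h = 1 := by
        nth_rewrite 2 [this]
        exact mul_inv_cancel₀ (zeta_ne_zero ζ h)
      exact mul_self_eq_one_iff.1 h2
    have hle : Submodule.span F (Set.range ζ) ≤ Submodule.span F {(1 : E)} := by
      rw [Submodule.span_le]
      rintro _ ⟨h, rfl⟩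
      rcases hsq h with h1 | h1
      · rw [h1]
        exact Submodule.subset_span rfl
      · rw [h1]
        exact Submodule.neg_mem _ (Submodule.subset_span rfl)
    rw [hspan] at hle
    have h1 := Submodule.finrank_mono hle
    rw [finrank_top, finrank_span_singleton (one_ne_zero)] at h1
    omega
  · have hn2 : finrank F E = j.1 + j.1 := by omega
    refine ⟨⟨j.1, hn2⟩, ?_⟩
    have hdiv : finrank F E / 2 = j.1 := by omega
    rw [hdiv]
    have : IsCyclic H := isCyclic_of_injective_ringHom ζ hinj
    obtain ⟨g, hg⟩ := IsCyclic.exists_generator (α := H)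
    have hcard : orderOf g = Nat.card H := orderOf_eq_card_of_forall_mem_zpowers hg
    rw [← hcard]
    apply orderOf_dvd_of_pow_eq_one
    apply hinj
    rw [map_pow, map_one, pow_succ, ← hTpow, hT, inv_mul_cancel₀ (zeta_ne_zero ζ g)]

theorem backward [Fintype F] [Finite E] [Finite H] (j : ℕ)
    (hdvd : Nat.card H ∣ Fintype.card F ^ j + 1) :
    ∃ B : LinearMap.BilinForm F E, B.Nondegenerate ∧
      ∀ h x y, B (ζ h * x) (ζ h * y) = B x y := by
  obtain ⟨φ, hφ⟩ : ∃ φ : E →ₐ[F] E, φ = FiniteField.frobeniusAlgHom F E ^ j := ⟨_, rfl⟩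
  have hφx : ∀ x, φ x = x ^ (Fintype.card F ^ j) := by
    intro x
    rw [hφ, AlgHom.coe_pow, FiniteField.coe_frobeniusAlgHom, pow_iterate]
  have hinjφ : Function.Injective φ := φ.toRingHom.injective
  have hsurjφ : Function.Surjective φ := Finite.injective_iff_surjective.1 hinjφ
  have hnd := traceForm_nondegenerate F E
  refine ⟨(Algebra.traceForm F E).compRight φ.toLinearMap, ⟨?_, ?_⟩, ?_⟩
  · intro x hx
    apply hnd.1 x
    intro z
    obtain ⟨y, rfl⟩ := hsurjφ z
    exact hx y
  · intro y hy
    have : φ y = 0 := hnd.2 (φ y) (fun x => hy x)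
    exact hinjφ (this.trans (map_zero φ).symm)
  · intro h x y
    have h1 : ζ h * (ζ h) ^ (Fintype.card F ^ j) = 1 := by
      rw [← pow_succ', ← map_pow]
      obtain ⟨c, hc⟩ := hdvd
      rw [hc, pow_mul, pow_card_eq_one', one_pow, map_one]
    simp only [LinearMap.BilinForm.compRight_apply, AlgHom.toLinearMap_apply,
      Algebra.traceForm_apply, map_mul, hφx (ζ h)]
    congr 1
    calc ζ h * x * (ζ h ^ (Fintype.card F ^ j) * φ y)
        = (ζ h * ζ h ^ (Fintype.card F ^ j)) * (x * φ y) := by ring
      _ = x * φ y := by rw [h1, one_mul]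

end core

section model

variable {F : Type*} [Field F] {H : Type*} [CommGroup H] {V : Type*} [AddCommGroup V] [Module F V]
  (ρ : Representation F H V)

/-- An irreducible representation of an abelian group is (as a module over the commutative
group algebra) a quotient by a maximal ideal, i.e. a field. -/
theorem exists_model [Nontrivial V]
    (hirr : ∀ U : Submodule F V, (∀ h : H, ∀ u ∈ U, ρ h u ∈ U) → U = ⊥ ∨ U = ⊤) :
    ∃ (I : Ideal (MonoidAlgebra F H)) (_ : I.IsMaximal) (e : V ≃ₗ[F] (MonoidAlgebra F H ⧸ I)),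
      ∀ h v, e (ρ h v) = Ideal.Quotient.mk I (MonoidAlgebra.of F H h) * e v := by
  have hso : IsSimpleOrder (Subrepresentation ρ) :=
    { exists_pair_ne := ⟨⊥, ⊤, fun h => by
        have h1 : (⊥ : Submodule F V) = ⊤ := congrArg Subrepresentation.toSubmodule h
        exact bot_ne_top h1⟩
      eq_bot_or_eq_top := fun σ => by
        rcases hirr σ.toSubmodule (fun h u hu => σ.apply_mem_toSubmodule h hu) with h | h
        · left; exact Subrepresentation.toSubmodule_injective h
        · right; exact Subrepresentation.toSubmodule_injective h }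
  have hsm : IsSimpleModule (MonoidAlgebra F H) ρ.asModule :=
    (Representation.irreducible_iff_isSimpleModule_asModule ρ).mp hso
  obtain ⟨I, hI, ⟨e₀⟩⟩ := isSimpleModule_iff_quot_maximal.mp hsm
  refine ⟨I, hI, ρ.asModuleEquiv.symm.trans (e₀.restrictScalars F), fun h v => ?_⟩
  rw [LinearEquiv.trans_apply, LinearEquiv.trans_apply, Representation.asModuleEquiv_symm_map_rho]
  rw [LinearEquiv.restrictScalars_apply, LinearEquiv.restrictScalars_apply, map_smul]
  generalize e₀ (ρ.asModuleEquiv.symm v) = w
  obtain ⟨b, rfl⟩ := Ideal.Quotient.mk_surjective w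
  rfl

end model

end Cfsg.Agent.Lib.Helper25.AbelIrr
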