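import Mathlib
import Cfsg.Prelude.Def_RootSubgroups
import Cfsg.Agent.Lib.Helper25.BaerSuzuki

set_option autoImplicit false

namespace Cfsg.Agent.Lib.Helper25

open Cfsg
open scoped Pointwise

section AlperinLyons

variable {G : Type*} [Group G]

theorem smul_eq_conjBy (Z : Subgroup G) (g : G) : MulAut.conj g • Z = conjBy Z g := rfl

/-- The `Y`-invariant part of `conjIn Z P`. -/
def invConjIn (Z Y P : Subgroup G) : Set (Subgroup G) :=
  {T | T ∈ conjIn Z P ∧ ∀ y ∈ Y, conjBy T y ∈ conjIn Z P}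

theorem invConjIn_subset (Z Y P : Subgroup G) : invConjIn Z Y P ⊆ conjIn Z P := fun _ h => h.1

theorem invConjIn_invariant {Z Y P : Subgroup G} {T : Subgroup G} (hT : T ∈ invConjIn Z Y P)
    {y : G} (hy : y ∈ Y) : conjBy T y ∈ invConjIn Z Y P := by
  refine ⟨hT.2 y hy, ?_⟩
  intro y' hy'
  rw [← conjBy_mul]
  exact hT.2 _ (Y.mul_mem hy' hy)

/-- **Alperin–Lyons**: if for every `g` the `Y`-conjugates of `Z^g` generate a `p`-group, then
`Y` normalizes the subgroup generated by the conjugates of `Z` inside a suitable Sylow subgroup. -/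
theorem alperin_lyons [Finite G] {p : ℕ} [Fact p.Prime] (Z Y : Subgroup G)
    (h : ∀ g : G, IsPGroup p ↥(⨆ y ∈ Y, conjBy Z (y * g))) :
    ∃ P : Sylow p G, Y ≤ Subgroup.normalizer ((sSup (conjIn Z (P : Subgroup G)) : Subgroup G) : Set G) := by
  classical
  obtain ⟨P, hPmax⟩ := Finite.exists_max (fun P : Sylow p G => (invConjIn Z Y (P : Subgroup G)).ncard)
  refine ⟨P, ?_⟩
  have hΓ : invConjIn Z Y (P : Subgroup G) = conjIn Z (P : Subgroup G) := by
    by_contra hne
    have hDP : sSup (invConjIn Z Y (P : Subgroup G)) ≤ P := sSup_le (fun T hT => hT.1.2)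
    have hYD : Y ≤ Subgroup.normalizer
        ((sSup (invConjIn Z Y (P : Subgroup G)) : Subgroup G) : Set G) := by
      intro y hy
      exact mem_normalizer_sSup (fun T hT => invConjIn_invariant hT hy)
    have hsubD : invConjIn Z Y (P : Subgroup G) ⊆
        conjIn Z (sSup (invConjIn Z Y (P : Subgroup G))) := fun T hT => ⟨hT.1.1, le_sSup hT⟩
    -- find T₁
    have hT₁ : ∃ T₁ ∈ conjIn Z (P : Subgroup G), T₁ ∉ invConjIn Z Y (P : Subgroup G) ∧
        T₁ ≤ Subgroup.normalizer ((sSup (invConjIn Z Y (P : Subgroup G)) : Subgroup G) : Set G) := by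
      by_cases hc : conjIn Z (sSup (invConjIn Z Y (P : Subgroup G))) = invConjIn Z Y (P : Subgroup G)
      · have hD : sSup (invConjIn Z Y (P : Subgroup G)) =
            sSup (conjIn Z (sSup (invConjIn Z Y (P : Subgroup G)))) := by rw [hc]
        have hne' : conjIn Z (sSup (invConjIn Z Y (P : Subgroup G))) ≠ conjIn Z (P : Subgroup G) := by
          rw [hc]; exact hne
        obtain ⟨T₁, hT₁, hT₁D, hT₁n⟩ := exists_conjIn_normalizing P.isPGroup' hDP hD hne'
        rw [hc] at hT₁D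
        exact ⟨T₁, hT₁, hT₁D, hT₁n⟩
      · have : ∃ T₁ ∈ conjIn Z (sSup (invConjIn Z Y (P : Subgroup G))),
            T₁ ∉ invConjIn Z Y (P : Subgroup G) := by
          by_contra hcon
          push Not at hcon
          exact hc (Set.Subset.antisymm hcon hsubD)
        obtain ⟨T₁, hT₁, hT₁n⟩ := this
        exact ⟨T₁, conjIn_mono Z hDP hT₁, hT₁n, hT₁.2.trans Subgroup.le_normalizer⟩
    obtain ⟨T₁, hT₁P, hT₁Γ, hT₁n⟩ := hT₁
    obtain ⟨g, rfl⟩ := hT₁P.1
    have hQ₀ : IsPGroup p ↥(⨆ y ∈ Y, conjBy (conjBy Z g) y) := by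
      have e : (⨆ y ∈ Y, conjBy (conjBy Z g) y) = ⨆ y ∈ Y, conjBy Z (y * g) :=
        iSup_congr (fun y => iSup_congr (fun _ => (conjBy_mul Z y g).symm))
      rw [e]
      exact h g
    have hQ₀n : (⨆ y ∈ Y, conjBy (conjBy Z g) y) ≤ Subgroup.normalizer
        ((sSup (invConjIn Z Y (P : Subgroup G)) : Subgroup G) : Set G) := by
      refine iSup₂_le ?_
      intro y hy
      exact conjBy_le_of_mem_of_le hT₁n (hYD hy)
    have hDp : IsPGroup p ↥(sSup (invConjIn Z Y (P : Subgroup G))) := P.isPGroup'.to_le hDP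
    have hQD := IsPGroup.to_sup_of_normal_right' hQ₀ hDp hQ₀n
    obtain ⟨P', hP'⟩ := hQD.exists_le_sylow
    have hsub : invConjIn Z Y (P : Subgroup G) ⊆ invConjIn Z Y (P' : Subgroup G) := by
      intro T hT
      refine ⟨⟨hT.1.1, (le_sSup hT).trans (le_sup_right.trans hP')⟩, ?_⟩
      intro y hy
      have h2 := invConjIn_invariant hT hy
      exact ⟨h2.1.1, (le_sSup h2).trans (le_sup_right.trans hP')⟩
    have hmem : conjBy Z g ∈ invConjIn Z Y (P' : Subgroup G) := by
      have hle : ∀ y ∈ Y, conjBy (conjBy Z g) y ≤ (P' : Subgroup G) := by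
        intro y hy
        exact (le_iSup₂ (f := fun y (_ : y ∈ Y) => conjBy (conjBy Z g) y) y hy).trans
          (le_sup_left.trans hP')
      refine ⟨⟨⟨g, rfl⟩, ?_⟩, ?_⟩
      · have := hle 1 Y.one_mem
        rwa [conjBy_one] at this
      · intro y hy
        exact ⟨⟨y * g, (conjBy_mul Z y g).symm⟩, hle y hy⟩
    have hlt : invConjIn Z Y (P : Subgroup G) ⊂ invConjIn Z Y (P' : Subgroup G) :=
      ⟨hsub, fun hsup => hT₁Γ (hsup hmem)⟩
    exact absurd (Set.ncard_lt_ncard hlt (Set.toFinite _)) (not_lt.2 (hPmax P'))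
  intro y hy
  apply mem_normalizer_sSup
  intro T hT
  rw [← hΓ] at hT
  exact hT.2 y hy

end AlperinLyons

end Cfsg.Agent.Lib.Helper25
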