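import Cfsg.Agent.Lib.Helper5.NSMax

set_option autoImplicit false
set_option linter.unusedSectionVars false
set_option linter.unusedVariables false
set_option linter.unusedSimpArgs false

/-!
# Automorphisms of `PΩ(Q)`, part 1: generalised Siegel maps `egen u y` and the groups `R_u`, `X_{u,v}`
-/

namespace Cfsg.Agent.Lib.Helper25.AutO

open Module QuadraticMap Matrix Cfsg.Agent.Lib.Helper25.CD Cfsg.Agent.Lib.Helper25.Siegel
  Cfsg.Agent.Lib.Helper5.NSMax Cfsg.Agent.Lib.Helper5.TSMax

section general

variable {F : Type*} [Field F] {V : Type*} [AddCommGroup V] [Module F V] (Q : QuadraticForm F V)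

theorem egen_zero (u x : V) : egen Q u 0 x = x := by
  unfold egen
  simp

theorem egen_smul_self {u : V} (hu : Q u = 0) (c : F) (x : V) : egen Q u (c • u) x = x := by
  unfold egen
  rw [QuadraticMap.map_smul, hu, polar_smul_left]
  simp only [smul_eq_mul, mul_zero, zero_mul, zero_smul, sub_zero]
  module

theorem Q_egen {u y : V} (hu : Q u = 0) (huy : polar Q u y = 0) (x : V) :
    Q (egen Q u y x) = Q x := by
  unfold egen
  have e : x + polar Q u x • y - polar Q y x • u - (Q y * polar Q u x) • u =
      x + (polar Q u x • y + (-(polar Q y x) - Q y * polar Q u x) • u) := by module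
  rw [e, QuadraticMap.map_add (⇑Q), Cfsg.Agent.Lib.Helper25.ReflClass.Q_lin, hu,
    Cfsg.Agent.Lib.Helper25.ReflClass.polar_lin_right, polar_comm Q y u, huy,
    polar_comm Q x y, polar_comm Q x u]
  ring

theorem polar_egen_left {u y : V} (hu : Q u = 0) (huy : polar Q u y = 0) (x : V) :
    polar Q u (egen Q u y x) = polar Q u x := by
  unfold egen
  simp only [polar_add_right, polar_smul_right, polar_sub_right, smul_eq_mul, huy, pself Q hu]
  ring

theorem egen_neg {u y : V} (hu : Q u = 0) (huy : polar Q u y = 0) (x : V) :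
    egen Q u y (egen Q u (-y) x) = x := by
  rw [egen_add Q hu huy (by rw [polar_neg_right, huy, neg_zero]), add_neg_cancel, egen_zero]

theorem egen_neg' {u y : V} (hu : Q u = 0) (huy : polar Q u y = 0) (x : V) :
    egen Q u (-y) (egen Q u y x) = x := by
  rw [egen_add Q hu (by rw [polar_neg_right, huy, neg_zero]) huy, neg_add_cancel, egen_zero]

theorem egen_add_smul {u y : V} (hu : Q u = 0) (huy : polar Q u y = 0) (c : F) (x : V) :
    egen Q u (y + c • u) x = egen Q u y x := by
  rw [← egen_add Q hu huy (by rw [polar_smul_right, pself Q hu, smul_zero]), egen_smul_self Q hu]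

theorem egen_smul_left (u y : V) (a : F) (x : V) : egen Q (a • u) y x = egen Q u (a • y) x := by
  unfold egen
  rw [QuadraticMap.map_smul, polar_smul_left, polar_smul_left]
  simp only [smul_eq_mul]
  module

theorem egen_conj {g : V ≃ₗ[F] V} (hg : ∀ x, Q (g x) = Q x) (u y x : V) :
    g (egen Q u y x) = egen Q (g u) (g y) (g x) := by
  have hp : ∀ a b, polar Q (g a) (g b) = polar Q a b := by
    intro a b
    unfold polar
    rw [← map_add, hg, hg, hg]
  unfold egen
  rw [hp, hp, hg]
  simp only [map_add, map_sub, map_smul]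

/-- `y` is determined modulo `u` by `egen u y`. -/
theorem sub_mem_of_egen_eq {u y y' v : V} (huv : polar Q u v = 1)
    (h : egen Q u y v = egen Q u y' v) : y - y' ∈ Submodule.span F {u} := by
  unfold egen at h
  rw [huv] at h
  rw [Submodule.mem_span_singleton]
  refine ⟨polar Q y v + Q y - polar Q y' v - Q y', ?_⟩
  have h2 : y - y' = (v + (1 : F) • y) - (v + (1 : F) • y') := by module
  rw [h2]
  have h3 : v + (1 : F) • y = (v + (1 : F) • y - polar Q y v • u - (Q y * 1) • u) +
      (polar Q y v + Q y) • u := by module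
  have h4 : v + (1 : F) • y' = (v + (1 : F) • y' - polar Q y' v • u - (Q y' * 1) • u) +
      (polar Q y' v + Q y') • u := by module
  rw [h3, h4, h]
  module

theorem egen_apply_of_perp {u y x : V} (hux : polar Q u x = 0) :
    egen Q u y x = x - polar Q y x • u := by
  unfold egen
  rw [hux]
  simp

end general

end Cfsg.Agent.Lib.Helper25.AutO
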