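import Cfsg.Agent.Lib.Helper25.AutO9

set_option autoImplicit false
set_option linter.unusedSectionVars false
set_option linter.unusedVariables false
set_option linter.unusedSimpArgs false

/-!
# Automorphisms of `PΩ(Q)`, part 10: the root groups of `Ω` are the `X_L`
-/

namespace Cfsg.Agent.Lib.Helper25.AutO

open Module QuadraticMap Matrix Cfsg.Agent.Lib.Helper25.CD Cfsg.Agent.Lib.Helper25.Siegel
  Cfsg.Agent.Lib.Helper5.NSMax Cfsg.Agent.Lib.Helper5.TSMax Cfsg.Agent.Lib.Helper25.PS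
  Cfsg.Agent.Lib.Helper25.Fam Cfsg.Agent.Lib.Helper25.MaxTS Cfsg.Agent.Lib.Helper15

section general

variable {F : Type*} [Field F] {V : Type*} [AddCommGroup V] [Module F V] (Q : QuadraticForm F V)

theorem TSL.finrank {u v : V} (h : TSL Q u v) :
    finrank F (Submodule.span F ({u, v} : Set V)) = 2 := by
  have h1 : LinearIndependent F ![u, v] := LinearIndependent.pair_iff.2 h.ind
  have h2 := finrank_span_eq_card h1
  have h3 : Set.range ![u, v] = ({u, v} : Set V) := by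
    simp [Matrix.range_cons, Set.pair_comm]
  rw [h3] at h2
  simpa using h2

theorem TSL.map {u v : V} (h : TSL Q u v) (g : V ≃ₗ[F] V) (hg : ∀ x, Q (g x) = Q x) :
    TSL Q (g u) (g v) := by
  refine ⟨by rw [hg, h.hu], by rw [hg, h.hv], ?_, fun a b hab => ?_⟩
  · unfold polar
    rw [← map_add, hg, hg, hg]
    exact h.huv
  · apply h.ind
    apply g.injective
    rw [map_add, map_smul, map_smul, hab, map_zero]

end general

section matrix

variable {ι : Type} [Fintype ι] [DecidableEq ι] {F : Type*} [Field F] [Fintype F]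
  (Q : QuadraticForm F (ι → F))

theorem XL_of_mem_span {u v u' v' : ι → F} (h : TSL Q u v) (h' : TSL Q u' v')
    (hu' : u' ∈ Submodule.span F ({u, v} : Set (ι → F)))
    (hv' : v' ∈ Submodule.span F ({u, v} : Set (ι → F))) :
    XL Q u' v' h'.hu h'.hv h'.huv = XL Q u v h.hu h.hv h.huv := by
  obtain ⟨a, b, hab⟩ := Submodule.mem_span_pair.1 hu'
  obtain ⟨c, d, hcd⟩ := Submodule.mem_span_pair.1 hv'
  have hdet : a * d - b * c ≠ 0 := by
    apply h.det_ne_zero
    rw [hab, hcd]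
    exact h'.ind
  ext g
  rw [mem_XL, mem_XL]
  constructor
  · rintro ⟨t, ht⟩
    refine ⟨t * (a * d - b * c), fun x => ?_⟩
    rw [ht, ← hab, ← hcd, siegF_lin]
  · rintro ⟨t, ht⟩
    refine ⟨t / (a * d - b * c), fun x => ?_⟩
    rw [ht, ← hab, ← hcd, siegF_lin, div_mul_cancel₀ _ hdet]

open Classical in
/-- The long root group of a totally singular line. -/
noncomputable def XS (L : Submodule F (ι → F)) : Subgroup ↥(Cfsg.Omega F ⇑Q) :=
  if h : IsLine Q L then XL Q h.choose h.choose_spec.choose h.choose_spec.choose_spec.1.hu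
    h.choose_spec.choose_spec.1.hv h.choose_spec.choose_spec.1.huv else ⊥

theorem XL_eq_of_span_eq {u v u₀ v₀ : ι → F} (h : TSL Q u v) (h₀ : TSL Q u₀ v₀)
    (hs : Submodule.span F ({u, v} : Set (ι → F)) = Submodule.span F ({u₀, v₀} : Set (ι → F))) :
    XL Q u₀ v₀ h₀.hu h₀.hv h₀.huv = XL Q u v h.hu h.hv h.huv := by
  apply XL_of_mem_span Q h h₀
  · rw [hs]; exact Submodule.subset_span (by simp)
  · rw [hs]; exact Submodule.subset_span (by simp)

theorem XS_span {u v : ι → F} (h : TSL Q u v) :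
    XS Q (Submodule.span F ({u, v} : Set (ι → F))) = XL Q u v h.hu h.hv h.huv := by
  unfold XS
  rw [dif_pos (h.isLine Q)]
  have hs := (h.isLine Q).choose_spec.choose_spec
  exact XL_eq_of_span_eq Q h hs.1 hs.2

theorem mem_XS_span {u v : ι → F} (h : TSL Q u v) {g : ↥(Cfsg.Omega F ⇑Q)} :
    g ∈ XS Q (Submodule.span F ({u, v} : Set (ι → F))) ↔
      ∃ c : F, ∀ x, act Q g x = siegF Q u v c x := by
  rw [XS_span Q h, mem_XL]

theorem act_sub_mem_of_mem_XS {L : Submodule F (ι → F)} (hL : IsLine Q L)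
    {g : ↥(Cfsg.Omega F ⇑Q)} (hg : g ∈ XS Q L) (x : ι → F) : act Q g x - x ∈ L := by
  obtain ⟨u, v, h, rfl⟩ := hL
  obtain ⟨c, hc⟩ := (mem_XS_span Q h).1 hg
  rw [hc]
  unfold siegF
  rw [add_sub_cancel_left]
  apply Submodule.smul_mem
  apply Submodule.sub_mem
  · exact Submodule.smul_mem _ _ (Submodule.subset_span (by simp))
  · exact Submodule.smul_mem _ _ (Submodule.subset_span (by simp))

theorem XS_le_RU {L : Submodule F (ι → F)} (hL : IsLine Q L) {u : ι → F} (hu : u ∈ L)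
    (hu0 : u ≠ 0) : XS Q L ≤ RU Q u (hL.ts Q u hu) := by
  obtain ⟨v, h, rfl⟩ := hL.exists_basis_of_mem Q hu hu0
  rw [XS_span Q h]
  exact XL_le_RU Q h.hu h.hv h.huv

/-- Conjugation of Siegel elements. -/
theorem conj_act_siegF (k g : ↥(Cfsg.Omega F ⇑Q)) {u v : ι → F} (hv : Q v = 0) {c : F}
    (hg : ∀ x, act Q g x = siegF Q u v c x) (x : ι → F) :
    act Q (k * g * k⁻¹) x = siegF Q (act Q k u) (act Q k v) c x := by
  have h1 : ∀ x, act Q g x = egen Q u (c • v) x := fun x => by rw [hg, egen_sing Q hv]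
  rw [conj_act_egen Q k g h1, map_smul, egen_sing Q (by rw [Q_act, hv])]

theorem mem_mp_conj {G : Type*} [Group G] {k x : G} {X : Subgroup G} :
    x ∈ mp (MulAut.conj k) X ↔ k⁻¹ * x * k ∈ X := by
  rw [mem_mp]
  simp [MulAut.conj_symm_apply]

/-- Conjugation of long root groups. -/
theorem XS_conj (k : ↥(Cfsg.Omega F ⇑Q)) {L : Submodule F (ι → F)} (hL : IsLine Q L) :
    mp (MulAut.conj k) (XS Q L) =
      XS Q (L.map ((act Q k : (ι → F) ≃ₗ[F] (ι → F)) : (ι → F) →ₗ[F] (ι → F))) := by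
  obtain ⟨u, v, h, rfl⟩ := hL
  have h' : TSL Q (act Q k u) (act Q k v) := h.map Q (act Q k) (Q_act Q k)
  have e : (Submodule.span F ({u, v} : Set (ι → F))).map
      ((act Q k : (ι → F) ≃ₗ[F] (ι → F)) : (ι → F) →ₗ[F] (ι → F)) =
      Submodule.span F ({act Q k u, act Q k v} : Set (ι → F)) := by
    rw [Submodule.map_span, Set.image_pair]
    rfl
  rw [e]
  ext x
  rw [mem_mp_conj, mem_XS_span Q h, mem_XS_span Q h']
  constructor
  · rintro ⟨c, hc⟩
    refine ⟨c, fun y => ?_⟩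
    have := conj_act_siegF Q k _ h.hv hc y
    have e2 : k * (k⁻¹ * x * k) * k⁻¹ = x := by group
    rwa [e2] at this
  · rintro ⟨c, hc⟩
    refine ⟨c, fun y => ?_⟩
    have := conj_act_siegF Q k⁻¹ _ h'.hv hc y
    rwa [act_inv_act, act_inv_act, inv_inv] at this

/-- The centre of a Sylow `p`-subgroup of `Ω` is the root group of a totally singular line. -/
theorem sylow_center (p : ℕ) [Fact p.Prime] [CharP F p] (hQ : (polarBilin Q).Nondegenerate)
    (hn : 7 ≤ Fintype.card ι) (U : Sylow p ↥(Cfsg.Omega F ⇑Q)) :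
    ∃ L, IsLine Q L ∧ ZC (U : Subgroup ↥(Cfsg.Omega F ⇑Q)) = XS Q L := by
  obtain ⟨u, hu0, hu, hUu⟩ := exists_fixed_singular Q p (by omega) U U.isPGroup'
  obtain ⟨f, hf, huf⟩ := exists_sing_partner Q hQ hu0 hu
  obtain ⟨w, hw0, hw, huw, hfw, hUw⟩ := exists_fixed_singular_bar Q p hQ (by omega) hu hf huf U
    U.isPGroup' hUu
  have h : TSL Q u w := by
    refine ⟨hu, hw, huw, fun a b hab => ?_⟩
    have h1 : polar Q f (a • u + b • w) = 0 := by rw [hab]; simp
    rw [polar_add_right, polar_smul_right, polar_smul_right, polar_comm Q f u, huf, hfw] at h1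
    have ha : a = 0 := by simpa using h1
    subst ha
    rw [zero_smul, zero_add] at hab
    exact ⟨rfl, (smul_eq_zero.1 hab).resolve_right hw0⟩
  refine ⟨_, h.isLine Q, ?_⟩
  rw [XS_span Q h]
  exact ZC_eq_XL Q p hQ hn U hu0 hu hf huf hw0 hw huw hfw hUu hUw

/-- Every totally singular line gives the centre of a Sylow `p`-subgroup. -/
theorem line_center (p : ℕ) [Fact p.Prime] [CharP F p] (hQ : (polarBilin Q).Nondegenerate)
    (hn : 7 ≤ Fintype.card ι) {L : Submodule F (ι → F)} (hL : IsLine Q L) :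
    ∃ U : Sylow p ↥(Cfsg.Omega F ⇑Q), ZC (U : Subgroup ↥(Cfsg.Omega F ⇑Q)) = XS Q L := by
  obtain ⟨U₀⟩ : Nonempty (Sylow p ↥(Cfsg.Omega F ⇑Q)) := Sylow.nonempty
  obtain ⟨L₀, hL₀, hU₀⟩ := sylow_center Q p hQ hn U₀
  have hfr : ∀ K, IsLine Q K → finrank F K = 2 := by
    rintro K ⟨u, v, h, rfl⟩
    exact h.finrank Q
  obtain ⟨g, hg, hgL⟩ := omega_trans_ts Q hQ (Or.inr (by omega)) (k := 2) (by omega)
    (hfr L₀ hL₀) (hfr L hL) (hL₀.ts Q) (hL.ts Q)
  refine ⟨U₀.mapSurjective (f := (MulAut.conj (⟨g, hg⟩ : ↥(Cfsg.Omega F ⇑Q))).toMonoidHom)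
    (show Function.Surjective (MulAut.conj (⟨g, hg⟩ : ↥(Cfsg.Omega F ⇑Q))).toMonoidHom from
      (MulAut.conj (⟨g, hg⟩ : ↥(Cfsg.Omega F ⇑Q))).surjective), ?_⟩
  rw [Sylow.coe_mapSurjective]
  have := ZC_mp (MulAut.conj (⟨g, hg⟩ : ↥(Cfsg.Omega F ⇑Q))) (U₀ : Subgroup ↥(Cfsg.Omega F ⇑Q))
  unfold mp at this
  rw [this, hU₀]
  have h2 := XS_conj Q ⟨g, hg⟩ hL₀
  unfold mp at h2
  rw [h2]
  congr 1

/-- The root subgroups of `Ω`. -/
theorem rootSub_omega (p : ℕ) [Fact p.Prime] [CharP F p] (hQ : (polarBilin Q).Nondegenerate)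
    (hn : 7 ≤ Fintype.card ι) :
    rootSub p ↥(Cfsg.Omega F ⇑Q) = {X | ∃ L, IsLine Q L ∧ X = XS Q L} := by
  ext X
  constructor
  · rintro ⟨U, rfl⟩
    exact sylow_center Q p hQ hn U
  · rintro ⟨L, hL, rfl⟩
    obtain ⟨U, hU⟩ := line_center Q p hQ hn hL
    exact ⟨U, hU.symm⟩

end matrix

end Cfsg.Agent.Lib.Helper25.AutO
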