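import Cfsg.Agent.Lib.Helper25.AutO10

set_option autoImplicit false
set_option linter.unusedSectionVars false
set_option linter.unusedVariables false
set_option linter.unusedSimpArgs false

/-!
# Automorphisms of `PΩ(Q)`, part 11: commuting root groups
-/

namespace Cfsg.Agent.Lib.Helper25.AutO

open Module QuadraticMap Matrix Cfsg.Agent.Lib.Helper25.CD Cfsg.Agent.Lib.Helper25.Siegel
  Cfsg.Agent.Lib.Helper5.NSMax Cfsg.Agent.Lib.Helper5.TSMax Cfsg.Agent.Lib.Helper25.PS
  Cfsg.Agent.Lib.Helper25.Fam Cfsg.Agent.Lib.Helper25.MaxTS Cfsg.Agent.Lib.Helper15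

section general

variable {F : Type*} [Field F] {V : Type*} [AddCommGroup V] [Module F V] (Q : QuadraticForm F V)

/-- A vector outside a subspace is detected by a vector orthogonal to the subspace. -/
theorem exists_dual [FiniteDimensional F V] (hQ : (polarBilin Q).Nondegenerate)
    (S : Submodule F V) {a : V} (ha : a ∉ S) : ∃ z ∈ MaxTS.perp Q S, polar Q a z = 1 := by
  by_contra hcon
  push Not at hcon
  apply ha
  rw [← MaxTS.perp_perp hQ S, MaxTS.mem_perp]
  intro z hz
  by_contra hne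
  have hne' : polar Q a z ≠ 0 := by rwa [polar_comm]
  apply hcon ((polar Q a z)⁻¹ • z) (Submodule.smul_mem _ _ hz)
  rw [polar_smul_right, smul_eq_mul, inv_mul_cancel₀ hne']

theorem TSL.exists_dual_left [FiniteDimensional F V] (hQ : (polarBilin Q).Nondegenerate)
    {u v : V} (h : TSL Q u v) : ∃ z, polar Q u z = 1 ∧ polar Q v z = 0 := by
  obtain ⟨z, hz, hz1⟩ := exists_dual Q hQ (Submodule.span F {v}) ((h.symm Q).not_mem Q)
  exact ⟨z, hz1, MaxTS.mem_perp_span.1 hz⟩

theorem TSL.exists_dual_right [FiniteDimensional F V] (hQ : (polarBilin Q).Nondegenerate)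
    {u v : V} (h : TSL Q u v) : ∃ z, polar Q u z = 0 ∧ polar Q v z = 1 := by
  obtain ⟨z, h1, h2⟩ := (h.symm Q).exists_dual_left Q hQ
  exact ⟨z, h2, h1⟩

theorem siegF_image_right [FiniteDimensional F V] (hQ : (polarBilin Q).Nondegenerate)
    {u v : V} (h : TSL Q u v) {c : F} (hc : c ≠ 0) : ∃ z, siegF Q u v c z - z = v := by
  obtain ⟨z, h1, h2⟩ := h.exists_dual_left Q hQ
  refine ⟨c⁻¹ • z, ?_⟩
  unfold siegF
  rw [polar_smul_right, polar_smul_right, h1, h2, add_sub_cancel_left, smul_zero, zero_smul,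
    sub_zero, smul_smul, smul_eq_mul, mul_one, mul_inv_cancel₀ hc, one_smul]

theorem siegF_image_left [FiniteDimensional F V] (hQ : (polarBilin Q).Nondegenerate)
    {u v : V} (h : TSL Q u v) {c : F} (hc : c ≠ 0) : ∃ z, siegF Q u v c z - z = u := by
  obtain ⟨z, h1, h2⟩ := h.exists_dual_right Q hQ
  refine ⟨(-c⁻¹) • z, ?_⟩
  unfold siegF
  rw [polar_smul_right, polar_smul_right, h1, h2, add_sub_cancel_left, smul_zero, zero_smul,
    zero_sub, smul_neg, smul_smul, smul_eq_mul, mul_one, mul_neg, mul_inv_cancel₀ hc]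
  simp

theorem span_pair_le_perp {u v u' v' : V} (h1 : polar Q u' u = 0) (h2 : polar Q v' u = 0)
    (h3 : polar Q u' v = 0) (h4 : polar Q v' v = 0) :
    Submodule.span F ({u, v} : Set V) ≤ MaxTS.perp Q (Submodule.span F ({u', v'} : Set V)) := by
  intro a ha
  obtain ⟨α, β, rfl⟩ := Submodule.mem_span_pair.1 ha
  rw [MaxTS.mem_perp]
  intro b hb
  obtain ⟨γ, δ, rfl⟩ := Submodule.mem_span_pair.1 hb
  simp only [polar_add_left, polar_add_right, polar_smul_left, polar_smul_right, h1, h2, h3, h4]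
  simp

theorem siegF_comm_perp {u v u' v' : V} (h1 : polar Q u' u = 0) (h2 : polar Q v' u = 0)
    (h3 : polar Q u' v = 0) (h4 : polar Q v' v = 0) (c c' : F) (z : V) :
    siegF Q u v c (siegF Q u' v' c' z) = siegF Q u' v' c' (siegF Q u v c z) := by
  unfold siegF
  simp only [polar_add_right, polar_smul_right, polar_sub_right, smul_eq_mul, h1, h2, h3, h4,
    polar_comm Q u u', polar_comm Q u v', polar_comm Q v u', polar_comm Q v v']
  module

theorem siegF_eq_self_iff {u v : V} (h : TSL Q u v) {c : F} (hc : c ≠ 0) (x : V) :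
    siegF Q u v c x = x ↔ polar Q u x = 0 ∧ polar Q v x = 0 := by
  unfold siegF
  constructor
  · intro hx
    have h1 : c • (polar Q u x • v - polar Q v x • u) = 0 := by
      have := congrArg (fun t => t - x) hx
      simpa using this
    have h2 : polar Q u x • v - polar Q v x • u = 0 := (smul_eq_zero.1 h1).resolve_left hc
    have h3 := h.ind (-(polar Q v x)) (polar Q u x) (by rw [← h2]; module)
    exact ⟨h3.2, by simpa using h3.1⟩
  · rintro ⟨h1, h2⟩
    rw [h1, h2]
    simp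

end general

section matrix

variable {ι : Type} [Fintype ι] [DecidableEq ι] {F : Type*} [Field F] [Fintype F]
  (Q : QuadraticForm F (ι → F))

/-- The Siegel element `x_{u,v}(c)` of `Ω`. -/
noncomputable def SG (hQ : (polarBilin Q).Nondegenerate) (hn : 7 ≤ Fintype.card ι)
    {u v : ι → F} (h : TSL Q u v) (c : F) : ↥(Cfsg.Omega F ⇑Q) :=
  EG Q hQ hn (h.ne_zero_left Q) h.hu (y := c • v) (by rw [polar_smul_right, h.huv, smul_zero])

theorem act_SG (hQ : (polarBilin Q).Nondegenerate) (hn : 7 ≤ Fintype.card ι)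
    {u v : ι → F} (h : TSL Q u v) (c : F) (x : ι → F) :
    act Q (SG Q hQ hn h c) x = siegF Q u v c x := by
  unfold SG
  rw [act_EG, egen_sing Q h.hv]

theorem SG_mem (hQ : (polarBilin Q).Nondegenerate) (hn : 7 ≤ Fintype.card ι)
    {u v : ι → F} (h : TSL Q u v) (c : F) :
    SG Q hQ hn h c ∈ XS Q (Submodule.span F ({u, v} : Set (ι → F))) :=
  (mem_XS_span Q h).2 ⟨c, act_SG Q hQ hn h c⟩

theorem RU_pow_p (p : ℕ) [Fact p.Prime] [CharP F p] {u : ι → F} (hu : Q u = 0)
    {g : ↥(Cfsg.Omega F ⇑Q)} (hg : g ∈ RU Q u hu) : g ^ p = 1 := by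
  obtain ⟨y, hy, hg⟩ := hg
  apply act_ext
  intro x
  rw [act_pow_egen Q hu hy hg, act_one]
  have : (p • y : ι → F) = 0 := by
    rw [← Nat.cast_smul_eq_nsmul F, CharP.cast_eq_zero F p, zero_smul]
  rw [this, egen_zero]

theorem XS_pow_p (p : ℕ) [Fact p.Prime] [CharP F p] {L : Submodule F (ι → F)}
    (hL : IsLine Q L) {g : ↥(Cfsg.Omega F ⇑Q)} (hg : g ∈ XS Q L) : g ^ p = 1 := by
  obtain ⟨u, v, h, rfl⟩ := hL
  exact RU_pow_p Q p h.hu (XS_le_RU Q (h.isLine Q) (Submodule.subset_span (by simp))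
    (h.ne_zero_left Q) hg)

/-- Distinct lines have distinct root groups. -/
theorem XS_injective (hQ : (polarBilin Q).Nondegenerate) (hn : 7 ≤ Fintype.card ι)
    {L K : Submodule F (ι → F)} (hL : IsLine Q L) (hK : IsLine Q K) (h : XS Q L = XS Q K) :
    L = K := by
  apply hL.eq_of_le Q hK
  obtain ⟨u, v, huv, rfl⟩ := hL
  have hg : SG Q hQ hn huv 1 ∈ XS Q K := h ▸ SG_mem Q hQ hn huv 1
  rw [Submodule.span_le]
  intro x hx
  rcases hx with rfl | rfl
  · obtain ⟨z, hz⟩ := siegF_image_left Q hQ huv (one_ne_zero (α := F))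
    rw [← hz, ← act_SG Q hQ hn huv]
    exact act_sub_mem_of_mem_XS Q hK hg z
  · obtain ⟨z, hz⟩ := siegF_image_right Q hQ huv (one_ne_zero (α := F))
    rw [← hz, ← act_SG Q hQ hn huv]
    exact act_sub_mem_of_mem_XS Q hK hg z

/-- Commuting nonidentity root elements: the lines are perpendicular or meet. -/
theorem perp_or_meet_of_comm (hQ : (polarBilin Q).Nondegenerate)
    {L K : Submodule F (ι → F)} (hL : IsLine Q L) (hK : IsLine Q K)
    {x y : ↥(Cfsg.Omega F ⇑Q)} (hx : x ∈ XS Q L) (hy : y ∈ XS Q K) (hx1 : x ≠ 1) (hy1 : y ≠ 1)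
    (hxy : x * y = y * x) : L ≤ MaxTS.perp Q K ∨ L ⊓ K ≠ ⊥ := by
  by_cases hm : L ⊓ K = ⊥
  swap
  · exact Or.inr hm
  left
  obtain ⟨u, v, huv, rfl⟩ := hL
  have hK' := hK
  obtain ⟨u', v', huv', rfl⟩ := hK
  obtain ⟨c, hc⟩ := (mem_XS_span Q huv).1 hx
  obtain ⟨c', hc'⟩ := (mem_XS_span Q huv').1 hy
  have hc0 : c ≠ 0 := by
    rintro rfl
    apply hx1
    apply act_ext
    intro z
    rw [hc, siegF_zero, act_one]
  have hc0' : c' ≠ 0 := by
    rintro rfl
    apply hy1
    apply act_ext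
    intro z
    rw [hc', siegF_zero, act_one]
  have hconj : y * x * y⁻¹ = x := by rw [← hxy, mul_inv_cancel_right]
  have h1 : ∀ z, siegF Q (act Q y u) (act Q y v) c z = siegF Q u v c z := by
    intro z
    rw [← conj_act_siegF Q y x huv.hv hc, hconj, hc]
  have huv2 : TSL Q (act Q y u) (act Q y v) := huv.map Q (act Q y) (Q_act Q y)
  have hmem : ∀ z, siegF Q u v c z - z ∈ Submodule.span F ({u, v} : Set (ι → F)) := by
    intro z
    rw [← hc]
    exact act_sub_mem_of_mem_XS Q (huv.isLine Q) hx z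
  have hu1 : act Q y u ∈ Submodule.span F ({u, v} : Set (ι → F)) := by
    obtain ⟨z, hz⟩ := siegF_image_left Q hQ huv2 hc0
    rw [← hz, h1]
    exact hmem z
  have hv1 : act Q y v ∈ Submodule.span F ({u, v} : Set (ι → F)) := by
    obtain ⟨z, hz⟩ := siegF_image_right Q hQ huv2 hc0
    rw [← hz, h1]
    exact hmem z
  have hfix : ∀ a ∈ Submodule.span F ({u, v} : Set (ι → F)),
      act Q y a ∈ Submodule.span F ({u, v} : Set (ι → F)) → act Q y a = a := by
    intro a ha ha'
    have h2 : act Q y a - a ∈ Submodule.span F ({u, v} : Set (ι → F)) ⊓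
        Submodule.span F ({u', v'} : Set (ι → F)) :=
      ⟨Submodule.sub_mem _ ha' ha, act_sub_mem_of_mem_XS Q hK' hy a⟩
    rw [hm, Submodule.mem_bot] at h2
    exact sub_eq_zero.1 h2
  have hu2 := hfix u (Submodule.subset_span (by simp)) hu1
  have hv2 := hfix v (Submodule.subset_span (by simp)) hv1
  rw [hc', siegF_eq_self_iff Q huv' hc0'] at hu2 hv2
  exact span_pair_le_perp Q hu2.1 hu2.2 hv2.1 hv2.2

/-- Root groups of perpendicular lines commute. -/
theorem comm_of_perp {L K : Submodule F (ι → F)} (hL : IsLine Q L) (hK : IsLine Q K)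
    (h : L ≤ MaxTS.perp Q K) : Comm (XS Q L) (XS Q K) := by
  obtain ⟨u, v, huv, rfl⟩ := hL
  obtain ⟨u', v', huv', rfl⟩ := hK
  intro x hx y hy
  obtain ⟨c, hc⟩ := (mem_XS_span Q huv).1 hx
  obtain ⟨c', hc'⟩ := (mem_XS_span Q huv').1 hy
  have hu := MaxTS.mem_perp.1 (h (Submodule.subset_span (by simp : u ∈ ({u, v} : Set (ι → F)))))
  have hv := MaxTS.mem_perp.1 (h (Submodule.subset_span (by simp : v ∈ ({u, v} : Set (ι → F)))))
  have hu' : u' ∈ Submodule.span F ({u', v'} : Set (ι → F)) := Submodule.subset_span (by simp)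
  have hv' : v' ∈ Submodule.span F ({u', v'} : Set (ι → F)) := Submodule.subset_span (by simp)
  apply act_ext
  intro z
  rw [act_mul, act_mul, hc, hc', hc, hc']
  exact siegF_comm_perp Q (hu u' hu') (hu v' hv') (hv u' hu') (hv v' hv') c c' z

/-- Root groups of meeting lines commute. -/
theorem comm_of_meet {L K : Submodule F (ι → F)} (hL : IsLine Q L) (hK : IsLine Q K)
    (h : L ⊓ K ≠ ⊥) : Comm (XS Q L) (XS Q K) := by
  obtain ⟨a, ha, ha0⟩ := (Submodule.ne_bot_iff _).1 h
  intro x hx y hy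
  exact RU_comm Q (hL.ts Q a ha.1) (XS_le_RU Q hL ha.1 ha0 hx) (XS_le_RU Q hK ha.2 ha0 hy)

end matrix

end Cfsg.Agent.Lib.Helper25.AutO
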