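import Cfsg.Agent.Lib.Helper25.AutO11

set_option autoImplicit false
set_option linter.unusedSectionVars false
set_option linter.unusedVariables false
set_option linter.unusedSimpArgs false

/-!
# Automorphisms of `PΩ(Q)`, part 12: products of commuting root elements
-/

namespace Cfsg.Agent.Lib.Helper25.AutO

open Module QuadraticMap Matrix Cfsg.Agent.Lib.Helper25.CD Cfsg.Agent.Lib.Helper25.Siegel
  Cfsg.Agent.Lib.Helper5.NSMax Cfsg.Agent.Lib.Helper5.TSMax Cfsg.Agent.Lib.Helper25.PS
  Cfsg.Agent.Lib.Helper25.Fam Cfsg.Agent.Lib.Helper25.MaxTS Cfsg.Agent.Lib.Helper15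

section general

variable {F : Type*} [Field F] {V : Type*} [AddCommGroup V] [Module F V] (Q : QuadraticForm F V)

/-- A vector dual to the first of four independent vectors. -/
theorem exists_dual4 [FiniteDimensional F V] (hQ : (polarBilin Q).Nondegenerate)
    {a b c d : V} (h1 : TSL Q a b) (h2 : TSL Q c d)
    (hm : Submodule.span F ({a, b} : Set V) ⊓ Submodule.span F ({c, d} : Set V) = ⊥) :
    ∃ z, polar Q a z = 1 ∧ polar Q b z = 0 ∧ polar Q c z = 0 ∧ polar Q d z = 0 := by
  have ha : a ∉ Submodule.span F {b} ⊔ Submodule.span F ({c, d} : Set V) := by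
    intro h
    obtain ⟨y, hy, k, hk, hyk⟩ := Submodule.mem_sup.1 h
    obtain ⟨β, rfl⟩ := Submodule.mem_span_singleton.1 hy
    have h3 : k ∈ Submodule.span F ({a, b} : Set V) ⊓ Submodule.span F ({c, d} : Set V) := by
      refine ⟨?_, hk⟩
      have : k = (1 : F) • a + (-β) • b := by
        rw [← hyk]; module
      rw [this]
      exact Submodule.add_mem _ (Submodule.smul_mem _ _ (Submodule.subset_span (by simp)))
        (Submodule.smul_mem _ _ (Submodule.subset_span (by simp)))
    rw [hm, Submodule.mem_bot] at h3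
    rw [h3, add_zero] at hyk
    have := h1.ind 1 (-β) (by rw [← hyk]; module)
    exact one_ne_zero this.1
  obtain ⟨z, hz, hz1⟩ := exists_dual Q hQ _ ha
  rw [MaxTS.mem_perp] at hz
  refine ⟨z, hz1, hz b ?_, hz c ?_, hz d ?_⟩
  · exact Submodule.mem_sup_left (Submodule.subset_span (by simp))
  · exact Submodule.mem_sup_right (Submodule.subset_span (by simp))
  · exact Submodule.mem_sup_right (Submodule.subset_span (by simp))

theorem egen_sub_self (u y x : V) :
    egen Q u y x - x = polar Q u x • y - (polar Q y x + Q y * polar Q u x) • u := by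
  unfold egen
  module

end general

section matrix

variable {ι : Type} [Fintype ι] [DecidableEq ι] {F : Type*} [Field F] [Fintype F]
  (Q : QuadraticForm F (ι → F))

/-- Two meeting lines have bases with a common first vector. -/
theorem exists_common_basis {L K : Submodule F (ι → F)} (hL : IsLine Q L) (hK : IsLine Q K)
    (h : L ⊓ K ≠ ⊥) : ∃ a v w, TSL Q a v ∧ TSL Q a w ∧
      L = Submodule.span F ({a, v} : Set (ι → F)) ∧ K = Submodule.span F ({a, w} : Set (ι → F)) := by
  obtain ⟨a, ha, ha0⟩ := (Submodule.ne_bot_iff _).1 h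
  obtain ⟨v, hv, hLv⟩ := hL.exists_basis_of_mem Q ha.1 ha0
  obtain ⟨w, hw, hKw⟩ := hK.exists_basis_of_mem Q ha.2 ha0
  exact ⟨a, v, w, hv, hw, hLv, hKw⟩

theorem perp_iff_of_common {a v w : ι → F} (hv : TSL Q a v) (hw : TSL Q a w) :
    Submodule.span F ({a, v} : Set (ι → F)) ≤ MaxTS.perp Q (Submodule.span F ({a, w} : Set (ι → F)))
      ↔ polar Q v w = 0 := by
  constructor
  · intro h
    have := MaxTS.mem_perp.1 (h (Submodule.subset_span (by simp : v ∈ ({a, v} : Set (ι → F))))) w
      (Submodule.subset_span (by simp))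
    rw [polar_comm]; exact this
  · intro h
    apply span_pair_le_perp Q (pself Q hv.hu) (by rw [polar_comm]; exact hw.huv) hv.huv
    rw [polar_comm]; exact h

/-- In a totally singular plane, products of root elements are root elements. -/
theorem root_of_meet_perp {L K : Submodule F (ι → F)} (hL : IsLine Q L) (hK : IsLine Q K)
    (hm : L ⊓ K ≠ ⊥) (hp : L ≤ MaxTS.perp Q K) {x y : ↥(Cfsg.Omega F ⇑Q)} (hx : x ∈ XS Q L)
    (hy : y ∈ XS Q K) (hxy : x * y ≠ 1) : ∃ J, IsLine Q J ∧ x * y ∈ XS Q J := by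
  obtain ⟨a, v, w, hv, hw, rfl, rfl⟩ := exists_common_basis Q hL hK hm
  have hvw : polar Q v w = 0 := (perp_iff_of_common Q hv hw).1 hp
  obtain ⟨c, hc⟩ := (mem_XS_span Q hv).1 hx
  obtain ⟨d, hd⟩ := (mem_XS_span Q hw).1 hy
  obtain ⟨s, hs⟩ : ∃ s, s = c • v + d • w := ⟨_, rfl⟩
  have hQs : Q s = 0 := by
    rw [hs, MaxTS.Q_add, QuadraticMap.map_smul, QuadraticMap.map_smul, hv.hv, hw.hv,
      polar_smul_left, polar_smul_right, hvw]
    simp
  have has : polar Q a s = 0 := by
    rw [hs, polar_add_right, polar_smul_right, polar_smul_right, hv.huv, hw.huv]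
    simp
  have hact : ∀ z, act Q (x * y) z = egen Q a s z := by
    intro z
    rw [act_mul, hd, hc, ← egen_sing Q hv.hv, ← egen_sing Q hw.hv,
      egen_add Q hv.hu (by rw [polar_smul_right, hv.huv, smul_zero])
        (by rw [polar_smul_right, hw.huv, smul_zero]), hs]
  have hs' : s ∉ Submodule.span F {a} := by
    intro h
    obtain ⟨e, he⟩ := Submodule.mem_span_singleton.1 h
    apply hxy
    apply act_ext
    intro z
    rw [hact, ← he, egen_smul_self Q hv.hu, act_one]
  have h3 : TSL Q a s := TSL.mk' Q (hv.ne_zero_left Q) hv.hu hQs has hs'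
  refine ⟨_, h3.isLine Q, (mem_XS_span Q h3).2 ⟨1, fun z => ?_⟩⟩
  rw [hact, ← egen_sing Q hQs, one_smul]

/-- Two meeting, non-perpendicular lines: some product of root elements is not a root
element. -/
theorem nonroot_of_meet_not_perp (hQ : (polarBilin Q).Nondegenerate) (hn : 7 ≤ Fintype.card ι)
    {L K : Submodule F (ι → F)} (hL : IsLine Q L) (hK : IsLine Q K)
    (hm : L ⊓ K ≠ ⊥) (hp : ¬ L ≤ MaxTS.perp Q K) :
    ∃ x ∈ XS Q L, ∃ y ∈ XS Q K, ∀ J, IsLine Q J → x * y ∉ XS Q J := by
  obtain ⟨a, v, w, hv, hw, rfl, rfl⟩ := exists_common_basis Q hL hK hm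
  have hvw : polar Q v w ≠ 0 := fun h => hp ((perp_iff_of_common Q hv hw).2 h)
  refine ⟨SG Q hQ hn hv 1, SG_mem Q hQ hn hv 1, SG Q hQ hn hw 1, SG_mem Q hQ hn hw 1, ?_⟩
  intro J hJ hxy
  obtain ⟨f, hf, haf⟩ := exists_sing_partner Q hQ (hv.ne_zero_left Q) hv.hu
  have h1 := act_sub_mem_of_mem_XS Q hJ hxy f
  have hact : act Q (SG Q hQ hn hv 1 * SG Q hQ hn hw 1) f = egen Q a (v + w) f := by
    rw [act_mul, act_SG, act_SG, ← egen_sing Q hv.hv, ← egen_sing Q hw.hv, one_smul, one_smul,
      egen_add Q hv.hu hv.huv hw.huv]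
  rw [hact, egen_sub_self, haf, one_smul, mul_one] at h1
  have h2 := hJ.ts Q _ h1
  have h3 : polar Q (v + w) a = 0 := by
    rw [polar_add_left, polar_comm Q v a, polar_comm Q w a, hv.huv, hw.huv, add_zero]
  rw [sub_eq_add_neg, ← neg_smul, MaxTS.Q_add_smul, hv.hu, mul_zero, add_zero, h3, mul_zero,
    add_zero, MaxTS.Q_add, hv.hv, hw.hv, zero_add, zero_add] at h2
  exact hvw h2

/-- Two disjoint perpendicular lines: some product of root elements is not a root element. -/
theorem nonroot_of_perp_not_meet (hQ : (polarBilin Q).Nondegenerate) (hn : 7 ≤ Fintype.card ι)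
    {L K : Submodule F (ι → F)} (hL : IsLine Q L) (hK : IsLine Q K)
    (hm : L ⊓ K = ⊥) (hp : L ≤ MaxTS.perp Q K) :
    ∃ x ∈ XS Q L, ∃ y ∈ XS Q K, ∀ J, IsLine Q J → x * y ∉ XS Q J := by
  obtain ⟨a, b, hab, rfl⟩ := hL
  obtain ⟨c, d, hcd, rfl⟩ := hK
  refine ⟨SG Q hQ hn hab 1, SG_mem Q hQ hn hab 1, SG Q hQ hn hcd 1, SG_mem Q hQ hn hcd 1, ?_⟩
  intro J hJ hxy
  have hpa := MaxTS.mem_perp.1 (hp (Submodule.subset_span (by simp : a ∈ ({a, b} : Set (ι → F)))))
  have hpb := MaxTS.mem_perp.1 (hp (Submodule.subset_span (by simp : b ∈ ({a, b} : Set (ι → F)))))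
  have hc' : c ∈ Submodule.span F ({c, d} : Set (ι → F)) := Submodule.subset_span (by simp)
  have hd' : d ∈ Submodule.span F ({c, d} : Set (ι → F)) := Submodule.subset_span (by simp)
  have hact : ∀ z, act Q (SG Q hQ hn hab 1 * SG Q hQ hn hcd 1) z - z =
      polar Q a z • b - polar Q b z • a + (polar Q c z • d - polar Q d z • c) := by
    intro z
    rw [act_mul, act_SG, act_SG]
    unfold siegF
    simp only [polar_add_right, polar_smul_right, polar_sub_right, smul_eq_mul,
      polar_comm Q a c, polar_comm Q a d, polar_comm Q b c, polar_comm Q b d,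
      hpa c hc', hpa d hd', hpb c hc', hpb d hd']
    module
  have hmem := fun z => act_sub_mem_of_mem_XS Q hJ hxy z
  -- `b ∈ J`
  have hbJ : b ∈ J := by
    obtain ⟨z, h1, h2, h3, h4⟩ := exists_dual4 Q hQ hab hcd hm
    have := hmem z
    rw [hact, h1, h2, h3, h4] at this
    simpa using this
  have haJ : a ∈ J := by
    obtain ⟨z, h1, h2, h3, h4⟩ := exists_dual4 Q hQ (hab.symm Q) hcd (by rw [Set.pair_comm]; exact hm)
    have := hmem z
    rw [hact, h1, h2, h3, h4] at this
    have h5 : -a ∈ J := by simpa using this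
    simpa using J.neg_mem h5
  have hdJ : d ∈ J := by
    obtain ⟨z, h1, h2, h3, h4⟩ := exists_dual4 Q hQ hcd hab (by rw [inf_comm]; exact hm)
    have := hmem z
    rw [hact, h1, h2, h3, h4] at this
    simpa using this
  have hLJ : Submodule.span F ({a, b} : Set (ι → F)) = J := by
    apply (hab.isLine Q).eq_of_le Q hJ
    rw [Submodule.span_le]
    intro x hx
    rcases hx with rfl | rfl
    · exact haJ
    · exact hbJ
  have h6 : d ∈ Submodule.span F ({a, b} : Set (ι → F)) ⊓ Submodule.span F ({c, d} : Set (ι → F)) :=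
    ⟨hLJ ▸ hdJ, hd'⟩
  rw [hm, Submodule.mem_bot] at h6
  exact hcd.ne_zero_right Q h6

end matrix

end Cfsg.Agent.Lib.Helper25.AutO
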