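import Cfsg.Agent.Lib.Helper25.AutO12

set_option autoImplicit false
set_option linter.unusedSectionVars false
set_option linter.unusedVariables false
set_option linter.unusedSimpArgs false

/-!
# Automorphisms of `PΩ(Q)`, part 13: the unipotent radical of a line stabiliser
-/

namespace Cfsg.Agent.Lib.Helper25.AutO

open Module QuadraticMap Matrix Cfsg.Agent.Lib.Helper25.CD Cfsg.Agent.Lib.Helper25.Siegel
  Cfsg.Agent.Lib.Helper5.NSMax Cfsg.Agent.Lib.Helper5.TSMax Cfsg.Agent.Lib.Helper25.PS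
  Cfsg.Agent.Lib.Helper25.Fam Cfsg.Agent.Lib.Helper25.MaxTS Cfsg.Agent.Lib.Helper15

section general

variable {F : Type*} [Field F] {V : Type*} [AddCommGroup V] [Module F V] (Q : QuadraticForm F V)

/-- Every vector is a sum of three singular vectors, given a hyperbolic pair. -/
theorem exists_three_singular {e f : V} (he : Q e = 0) (hf : Q f = 0) (hef : polar Q e f = 1)
    (S : Submodule F V) (heS : e ∈ S) (hfS : f ∈ S) {z : V} (hz : z ∈ S) :
    ∃ s₁ ∈ S, ∃ s₂ ∈ S, ∃ s₃ ∈ S, Q s₁ = 0 ∧ Q s₂ = 0 ∧ Q s₃ = 0 ∧ z = s₁ + s₂ + s₃ := by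
  obtain ⟨z₀, hz₀⟩ : ∃ z₀, z₀ = z - polar Q z f • e - polar Q z e • f := ⟨_, rfl⟩
  have hz₀S : z₀ ∈ S := by
    rw [hz₀]
    exact S.sub_mem (S.sub_mem hz (S.smul_mem _ heS)) (S.smul_mem _ hfS)
  have h1 : polar Q z₀ e = 0 := by
    rw [hz₀, polar_sub_left, polar_sub_left, polar_smul_left, polar_smul_left, pself Q he,
      polar_comm Q f e, hef]
    simp
  have h2 : polar Q z₀ f = 0 := by
    rw [hz₀, polar_sub_left, polar_sub_left, polar_smul_left, polar_smul_left, pself Q hf, hef]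
    simp
  refine ⟨z₀ + (e - Q z₀ • f), S.add_mem hz₀S (S.sub_mem heS (S.smul_mem _ hfS)),
    (polar Q z f - 1) • e, S.smul_mem _ heS, (polar Q z e + Q z₀) • f, S.smul_mem _ hfS, ?_, ?_, ?_,
    ?_⟩
  · rw [MaxTS.Q_add, polar_sub_right, polar_smul_right, h1, h2, sub_eq_add_neg, ← neg_smul,
      MaxTS.Q_add_smul, he, hf, hef]
    simp
  · rw [QuadraticMap.map_smul, he, smul_zero]
  · rw [QuadraticMap.map_smul, hf, smul_zero]
  · rw [hz₀]
    module

/-- The commutator of two generalised Siegel maps with perpendicular centres. -/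
theorem egen_egen_sub {a b z z' : V} (hab : polar Q a b = 0) (haz' : polar Q a z' = 0)
    (hbz : polar Q b z = 0) (x : V) :
    egen Q a z (egen Q b z' x) - egen Q b z' (egen Q a z x) =
      polar Q z z' • (polar Q a x • b - polar Q b x • a) := by
  unfold egen
  simp only [polar_add_right, polar_smul_right, polar_sub_right, smul_eq_mul, hab, haz', hbz,
    polar_comm Q b a, polar_comm Q z' a, polar_comm Q z b, polar_comm Q z' z]
  module

theorem siegF_of_perp {u v x : V} (h1 : polar Q u x = 0) (h2 : polar Q v x = 0) (c : F) :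
    siegF Q u v c x = x := by
  unfold siegF
  rw [h1, h2]
  simp

end general

section matrix

variable {ι : Type} [Fintype ι] [DecidableEq ι] {F : Type*} [Field F] [Fintype F]
  (Q : QuadraticForm F (ι → F))

/-- The elements of `Ω` acting trivially on `L` and on `L^⊥/L`. -/
def trivL (L : Submodule F (ι → F)) : Subgroup ↥(Cfsg.Omega F ⇑Q) where
  carrier := {g | (∀ a ∈ L, act Q g a = a) ∧ ∀ z ∈ MaxTS.perp Q L, act Q g z - z ∈ L}
  one_mem' := ⟨fun a _ => act_one Q a, fun z _ => by rw [act_one, sub_self]; exact L.zero_mem⟩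
  mul_mem' := by
    rintro g h ⟨hg1, hg2⟩ ⟨hh1, hh2⟩
    refine ⟨fun a ha => by rw [act_mul, hh1 a ha, hg1 a ha], fun z hz => ?_⟩
    have h1 := hh2 z hz
    have h2 : act Q (g * h) z - z = (act Q g z - z) + (act Q h z - z) := by
      have h3 : act Q h z = z + (act Q h z - z) := by abel
      rw [act_mul]
      nth_rw 1 [h3]
      rw [map_add, hg1 _ h1]
      abel
    rw [h2]
    exact L.add_mem (hg2 z hz) h1
  inv_mem' := by
    rintro g ⟨hg1, hg2⟩
    have hi : ∀ a ∈ L, act Q g⁻¹ a = a := by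
      intro a ha
      have := act_inv_act Q g a
      rwa [hg1 a ha] at this
    refine ⟨hi, fun z hz => ?_⟩
    have h1 := hg2 z hz
    have h2 : act Q g⁻¹ z - z = -(act Q g z - z) := by
      have h3 : act Q g⁻¹ (act Q g z - z) = act Q g z - z := hi _ h1
      rw [map_sub, act_inv_act] at h3
      rw [← h3]
      abel
    rw [h2]
    exact L.neg_mem h1

theorem mem_trivL {L : Submodule F (ι → F)} {g : ↥(Cfsg.Omega F ⇑Q)} :
    g ∈ trivL Q L ↔ (∀ a ∈ L, act Q g a = a) ∧ ∀ z ∈ MaxTS.perp Q L, act Q g z - z ∈ L :=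
  Iff.rfl

/-- The root elements of the lines meeting `L` and perpendicular to it. -/
def adjSet (L : Submodule F (ι → F)) : Set ↥(Cfsg.Omega F ⇑Q) :=
  {g | ∃ J, IsLine Q J ∧ L ⊓ J ≠ ⊥ ∧ L ≤ MaxTS.perp Q J ∧ g ∈ XS Q J}

/-- The subgroup generated by the root groups of the lines meeting `L` and perpendicular to
it. -/
def TO (L : Submodule F (ι → F)) : Subgroup ↥(Cfsg.Omega F ⇑Q) := Subgroup.closure (adjSet Q L)

theorem XS_le_trivL {L J : Submodule F (ι → F)} (hL : IsLine Q L) (hJ : IsLine Q J)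
    (hm : L ⊓ J ≠ ⊥) (hp : L ≤ MaxTS.perp Q J) : XS Q J ≤ trivL Q L := by
  obtain ⟨a, v, w, hv, hw, rfl, rfl⟩ := exists_common_basis Q hL hJ hm
  intro g hg
  obtain ⟨c, hc⟩ := (mem_XS_span Q hw).1 hg
  have haL : a ∈ Submodule.span F ({a, v} : Set (ι → F)) := Submodule.subset_span (by simp)
  refine ⟨fun x hx => ?_, fun z hz => ?_⟩
  · rw [hc]
    apply siegF_of_perp
    · exact (hv.ts Q).polar_eq_zero haL hx
    · exact MaxTS.mem_perp.1 (hp hx) w (Submodule.subset_span (by simp))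
  · rw [hc]
    unfold siegF
    rw [MaxTS.mem_perp.1 hz a haL, zero_smul, zero_sub, add_sub_cancel_left]
    exact Submodule.smul_mem _ _ (Submodule.neg_mem _ (Submodule.smul_mem _ _ haL))

theorem TO_le_trivL {L : Submodule F (ι → F)} (hL : IsLine Q L) : TO Q L ≤ trivL Q L := by
  unfold TO
  rw [Subgroup.closure_le]
  rintro g ⟨J, hJ, hm, hp, hg⟩
  exact XS_le_trivL Q hL hJ hm hp hg

theorem EG_mul (hQ : (polarBilin Q).Nondegenerate) (hn : 7 ≤ Fintype.card ι)
    {u y y' : ι → F} (hu0 : u ≠ 0) (hu : Q u = 0) (huy : polar Q u y = 0)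
    (huy' : polar Q u y' = 0) :
    EG Q hQ hn hu0 hu huy * EG Q hQ hn hu0 hu huy' =
      EG Q hQ hn hu0 hu (y := y + y') (by rw [polar_add_right, huy, huy', add_zero]) := by
  apply act_ext
  intro x
  rw [act_mul, act_EG, act_EG, act_EG, egen_add Q hu huy huy']

theorem EG_congr (hQ : (polarBilin Q).Nondegenerate) (hn : 7 ≤ Fintype.card ι)
    {u y y' : ι → F} (hu0 : u ≠ 0) (hu : Q u = 0) (huy : polar Q u y = 0) (h : y = y') :
    EG Q hQ hn hu0 hu huy = EG Q hQ hn hu0 hu (y := y') (h ▸ huy) := by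
  subst h
  rfl

/-- `E(a, s) ∈ T(L)` for singular `s ∈ L^⊥`. -/
theorem EG_mem_TO_of_singular (hQ : (polarBilin Q).Nondegenerate) (hn : 7 ≤ Fintype.card ι)
    {L : Submodule F (ι → F)} (hL : IsLine Q L) {a s : ι → F} (ha : a ∈ L) (ha0 : a ≠ 0)
    (hs : s ∈ MaxTS.perp Q L) (hQs : Q s = 0) :
    EG Q hQ hn ha0 (hL.ts Q a ha) (MaxTS.mem_perp.1 hs a ha) ∈ TO Q L := by
  have hQa := hL.ts Q a ha
  have has := MaxTS.mem_perp.1 hs a ha
  by_cases hsa : s ∈ Submodule.span F {a}
  · obtain ⟨c, hc⟩ := Submodule.mem_span_singleton.1 hsa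
    have : EG Q hQ hn ha0 hQa has = 1 := by
      apply act_ext
      intro x
      rw [act_EG, ← hc, egen_smul_self Q hQa, act_one]
    rw [this]
    exact one_mem _
  · have h3 : TSL Q a s := TSL.mk' Q ha0 hQa hQs has hsa
    apply Subgroup.subset_closure
    refine ⟨_, h3.isLine Q, ?_, ?_, (mem_XS_span Q h3).2 ⟨1, fun x => ?_⟩⟩
    · intro h0
      have : a ∈ L ⊓ Submodule.span F ({a, s} : Set (ι → F)) :=
        ⟨ha, Submodule.subset_span (by simp)⟩
      rw [h0, Submodule.mem_bot] at this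
      exact ha0 this
    · intro x hx
      rw [MaxTS.mem_perp]
      intro j hj
      obtain ⟨α, β, rfl⟩ := Submodule.mem_span_pair.1 hj
      have hsx : polar Q s x = 0 := by
        rw [polar_comm]; exact MaxTS.mem_perp.1 hs x hx
      rw [polar_add_left, polar_smul_left, polar_smul_left,
        (hL.ts Q).polar_eq_zero ha hx, hsx]
      simp
    · rw [act_EG, ← egen_sing Q hQs, one_smul]

end matrix

end Cfsg.Agent.Lib.Helper25.AutO
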