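import Cfsg.Agent.Lib.Helper25.AutO13

set_option autoImplicit false
set_option linter.unusedSectionVars false
set_option linter.unusedVariables false
set_option linter.unusedSimpArgs false

/-!
# Automorphisms of `PΩ(Q)`, part 14: separating the two kinds of non-adjacent commuting lines
-/

namespace Cfsg.Agent.Lib.Helper25.AutO

open Module QuadraticMap Matrix Cfsg.Agent.Lib.Helper25.CD Cfsg.Agent.Lib.Helper25.Siegel
  Cfsg.Agent.Lib.Helper5.NSMax Cfsg.Agent.Lib.Helper5.TSMax Cfsg.Agent.Lib.Helper25.PS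
  Cfsg.Agent.Lib.Helper25.Fam Cfsg.Agent.Lib.Helper25.MaxTS Cfsg.Agent.Lib.Helper15

section general

variable {F : Type*} [Field F] {V : Type*} [AddCommGroup V] [Module F V] (Q : QuadraticForm F V)

theorem mem_perp_span_pair {u v x : V} :
    x ∈ MaxTS.perp Q (Submodule.span F ({u, v} : Set V)) ↔ polar Q u x = 0 ∧ polar Q v x = 0 := by
  rw [MaxTS.mem_perp]
  constructor
  · intro h
    exact ⟨h u (Submodule.subset_span (by simp)), h v (Submodule.subset_span (by simp))⟩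
  · rintro ⟨h1, h2⟩ l hl
    obtain ⟨α, β, rfl⟩ := Submodule.mem_span_pair.1 hl
    rw [polar_add_left, polar_smul_left, polar_smul_left, h1, h2]
    simp

end general

section matrix

variable {ι : Type} [Fintype ι] [DecidableEq ι] {F : Type*} [Field F] [Fintype F]
  (Q : QuadraticForm F (ι → F))

/-- `E(a, z) ∈ T(L)` for all `z ∈ L^⊥`. -/
theorem EG_mem_TO (hQ : (polarBilin Q).Nondegenerate) (hn : 7 ≤ Fintype.card ι)
    {L : Submodule F (ι → F)} (hL : IsLine Q L) {a z : ι → F} (ha : a ∈ L) (ha0 : a ≠ 0)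
    (hz : z ∈ MaxTS.perp Q L) :
    EG Q hQ hn ha0 (hL.ts Q a ha) (MaxTS.mem_perp.1 hz a ha) ∈ TO Q L := by
  have hL' := hL
  obtain ⟨u, v, huv, hLuv⟩ := hL'
  obtain ⟨e, f, he, hf, hef, hue, hve, huf, hvf⟩ :=
    OGeom.exists_hyp_perp Q hQ (by rw [finrank_fun]; exact hn) huv.hu huv.hv huv.huv
  have heS : e ∈ MaxTS.perp Q L := by
    rw [hLuv, mem_perp_span_pair]; exact ⟨hue, hve⟩
  have hfS : f ∈ MaxTS.perp Q L := by
    rw [hLuv, mem_perp_span_pair]; exact ⟨huf, hvf⟩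
  obtain ⟨s₁, hs₁, s₂, hs₂, s₃, hs₃, hQ₁, hQ₂, hQ₃, hsum⟩ :=
    exists_three_singular Q he hf hef (MaxTS.perp Q L) heS hfS hz
  have hQa := hL.ts Q a ha
  have h1 := EG_mem_TO_of_singular Q hQ hn hL ha ha0 hs₁ hQ₁
  have h2 := EG_mem_TO_of_singular Q hQ hn hL ha ha0 hs₂ hQ₂
  have h3 := EG_mem_TO_of_singular Q hQ hn hL ha ha0 hs₃ hQ₃
  have e1 : EG Q hQ hn ha0 hQa (MaxTS.mem_perp.1 hz a ha) =
      EG Q hQ hn ha0 hQa (MaxTS.mem_perp.1 hs₁ a ha) * EG Q hQ hn ha0 hQa (MaxTS.mem_perp.1 hs₂ a ha)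
        * EG Q hQ hn ha0 hQa (MaxTS.mem_perp.1 hs₃ a ha) := by
    apply act_ext
    intro x
    rw [act_mul, act_mul, act_EG, act_EG, act_EG, act_EG,
      egen_add Q hQa (MaxTS.mem_perp.1 hs₂ a ha) (MaxTS.mem_perp.1 hs₃ a ha),
      egen_add Q hQa (MaxTS.mem_perp.1 hs₁ a ha)
        (by rw [polar_add_right, MaxTS.mem_perp.1 hs₂ a ha, MaxTS.mem_perp.1 hs₃ a ha, add_zero]),
      hsum, add_assoc]
  rw [e1]
  exact mul_mem (mul_mem h1 h2) h3

/-- For two non-perpendicular lines through `a`: an element acting trivially on `L`, `L^⊥/L`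
and centralising `X_K` lies in `R_a`. -/
theorem mem_RU_of_trivL_centralizes (hQ : (polarBilin Q).Nondegenerate)
    (hn : 7 ≤ Fintype.card ι) {a v w : ι → F} (hv : TSL Q a v) (hw : TSL Q a w)
    (hvw : polar Q v w ≠ 0) {g : ↥(Cfsg.Omega F ⇑Q)}
    (hg : g ∈ trivL Q (Submodule.span F ({a, v} : Set (ι → F))))
    (hc : ∀ y ∈ XS Q (Submodule.span F ({a, w} : Set (ι → F))), g * y = y * g) :
    g ∈ RU Q a hv.hu := by
  have ha0 := hv.ne_zero_left Q
  have haL : a ∈ Submodule.span F ({a, v} : Set (ι → F)) := Submodule.subset_span (by simp)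
  have hvL : v ∈ Submodule.span F ({a, v} : Set (ι → F)) := Submodule.subset_span (by simp)
  have hga : act Q g a = a := hg.1 a haL
  have hgv : act Q g v = v := hg.1 v hvL
  obtain ⟨f, hf, haf⟩ := exists_sing_partner Q hQ ha0 hv.hu
  -- `g w = w + γ a`
  obtain ⟨γ, hγ⟩ : ∃ γ : F, act Q g w = w + γ • a := by
    have h1 := hc _ (SG_mem Q hQ hn hw 1)
    have h2 : g * SG Q hQ hn hw 1 * g⁻¹ = SG Q hQ hn hw 1 := by
      rw [h1, mul_inv_cancel_right]
    have h3 : ∀ x, act Q (SG Q hQ hn hw 1) x = egen Q a w x := by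
      intro x
      rw [act_SG, ← egen_sing Q hw.hv, one_smul]
    have h4 := conj_act_egen Q g _ h3 f
    rw [h2, h3, hga] at h4
    have h5 := sub_mem_of_egen_eq Q haf h4.symm
    obtain ⟨c, hc'⟩ := Submodule.mem_span_singleton.1 h5
    refine ⟨c, ?_⟩
    rw [hc']; abel
  apply mem_RU_of_trivial Q hQ ha0 hv.hu g hga
  intro z hz
  obtain ⟨t, ht⟩ : ∃ t, t = polar Q v z / polar Q v w := ⟨_, rfl⟩
  obtain ⟨z', hz'⟩ : ∃ z', z' = z - t • w := ⟨_, rfl⟩
  have hz'L : z' ∈ MaxTS.perp Q (Submodule.span F ({a, v} : Set (ι → F))) := by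
    rw [mem_perp_span_pair, hz', polar_sub_right, polar_sub_right, polar_smul_right,
      polar_smul_right, hz, hw.huv, ht]
    refine ⟨by simp, ?_⟩
    rw [smul_eq_mul, div_mul_cancel₀ _ hvw, sub_self]
  obtain ⟨α, β, hαβ⟩ := Submodule.mem_span_pair.1 (hg.2 z' hz'L)
  have hgz' : act Q g z' = z' + α • a + β • v := by
    have : act Q g z' = z' + (act Q g z' - z') := by abel
    rw [this, ← hαβ]; abel
  have hz'a : polar Q a z' = 0 := ((mem_perp_span_pair Q).1 hz'L).1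
  have hz'v : polar Q v z' = 0 := ((mem_perp_span_pair Q).1 hz'L).2
  have hβ : β = 0 := by
    have h1 := polar_act Q g z' w
    rw [hgz', hγ] at h1
    simp only [polar_add_left, polar_add_right, polar_smul_left, polar_smul_right, smul_eq_mul,
      polar_comm Q z' a, hz'a, pself Q hv.hu, hw.huv, polar_comm Q v a, hv.huv] at h1
    have h2 : β * polar Q v w = 0 := by linear_combination h1
    exact (mul_eq_zero.1 h2).resolve_right hvw
  refine ⟨α + t * γ, ?_⟩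
  have hz2 : z = z' + t • w := by rw [hz']; abel
  rw [hz2, map_add, map_smul, hgz', hγ, hβ]
  module

/-- `E(c, z)` centralises `X_K` when `c ∈ L ⊥ K` and `z ⊥ K`. -/
theorem EG_centralizes (hQ : (polarBilin Q).Nondegenerate) (hn : 7 ≤ Fintype.card ι)
    {L K : Submodule F (ι → F)} (hL : IsLine Q L) (hK : IsLine Q K)
    (hp : L ≤ MaxTS.perp Q K) {c z : ι → F} (hc : c ∈ L) (hc0 : c ≠ 0)
    (hz : z ∈ MaxTS.perp Q L) (hzK : z ∈ MaxTS.perp Q K) :
    ∀ y ∈ XS Q K, EG Q hQ hn hc0 (hL.ts Q c hc) (MaxTS.mem_perp.1 hz c hc) * y =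
        y * EG Q hQ hn hc0 (hL.ts Q c hc) (MaxTS.mem_perp.1 hz c hc) := by
  intro y hy
  obtain ⟨k, k', hkk', rfl⟩ := hK
  obtain ⟨t, ht⟩ := (mem_XS_span Q hkk').1 hy
  have hfix : ∀ x ∈ Submodule.span F ({k, k'} : Set (ι → F)),
      act Q (EG Q hQ hn hc0 (hL.ts Q c hc) (MaxTS.mem_perp.1 hz c hc)) x = x := by
    intro x hx
    rw [act_EG]
    apply egen_fix
    · rw [polar_comm]; exact MaxTS.mem_perp.1 (hp hc) x hx
    · rw [polar_comm]; exact MaxTS.mem_perp.1 hzK x hx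
  have h2 : EG Q hQ hn hc0 (hL.ts Q c hc) (MaxTS.mem_perp.1 hz c hc) * y *
      (EG Q hQ hn hc0 (hL.ts Q c hc) (MaxTS.mem_perp.1 hz c hc))⁻¹ = y := by
    apply act_ext
    intro x
    rw [conj_act_siegF Q _ y hkk'.hv ht, hfix k (Submodule.subset_span (by simp)),
      hfix k' (Submodule.subset_span (by simp)), ht]
  calc _ = EG Q hQ hn hc0 (hL.ts Q c hc) (MaxTS.mem_perp.1 hz c hc) * y *
        (EG Q hQ hn hc0 (hL.ts Q c hc) (MaxTS.mem_perp.1 hz c hc))⁻¹ *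
        EG Q hQ hn hc0 (hL.ts Q c hc) (MaxTS.mem_perp.1 hz c hc) := by group
    _ = _ := by rw [h2]

/-- Two disjoint perpendicular lines whose span is not a maximal totally singular subspace:
two non-commuting elements of `T(L)` centralising `X_K`. -/
theorem exists_noncomm_of_perp_not_meet (p : ℕ) [Fact p.Prime] [CharP F p]
    (hQ : (polarBilin Q).Nondegenerate) (hn : 7 ≤ Fintype.card ι)
    {L K : Submodule F (ι → F)} (hL : IsLine Q L) (hK : IsLine Q K)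
    (hp : L ≤ MaxTS.perp Q K) (hD : ¬ MaxTS.perp Q (L ⊔ K) ≤ L ⊔ K) :
    ∃ g ∈ TO Q L, ∃ g' ∈ TO Q L, (∀ y ∈ XS Q K, g * y = y * g) ∧
      (∀ y ∈ XS Q K, g' * y = y * g') ∧ g' ^ p = 1 ∧ g * g' ≠ g' * g := by
  obtain ⟨z, hz, hzA⟩ := SetLike.not_le_iff_exists.1 hD
  obtain ⟨z', hz', hzz'⟩ : ∃ z' ∈ MaxTS.perp Q (L ⊔ K), polar Q z' z ≠ 0 := by
    by_contra hcon
    push Not at hcon
    apply hzA
    rw [← MaxTS.perp_perp hQ (L ⊔ K), MaxTS.mem_perp]
    exact hcon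
  have hzL : z ∈ MaxTS.perp Q L := MaxTS.perp_anti le_sup_left hz
  have hz'L : z' ∈ MaxTS.perp Q L := MaxTS.perp_anti le_sup_left hz'
  have hzK : z ∈ MaxTS.perp Q K := MaxTS.perp_anti le_sup_right hz
  have hz'K : z' ∈ MaxTS.perp Q K := MaxTS.perp_anti le_sup_right hz'
  have hL' := hL
  obtain ⟨a, b, hab, hLab⟩ := hL'
  have haL : a ∈ L := hLab ▸ Submodule.subset_span (by simp)
  have hbL : b ∈ L := hLab ▸ Submodule.subset_span (by simp)
  have ha0 := hab.ne_zero_left Q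
  have hb0 := hab.ne_zero_right Q
  refine ⟨_, EG_mem_TO Q hQ hn hL haL ha0 hzL, _, EG_mem_TO Q hQ hn hL hbL hb0 hz'L,
    EG_centralizes Q hQ hn hL hK hp haL ha0 hzL hzK, EG_centralizes Q hQ hn hL hK hp hbL hb0 hz'L hz'K,
    ?_, ?_⟩
  · exact RU_pow_p Q p (hL.ts Q b hbL) (EG_mem_RU Q hQ hn hb0 (hL.ts Q b hbL) _)
  · intro hcomm
    obtain ⟨x, hx1, hx2⟩ := hab.exists_dual_left Q hQ
    have h1 := congrArg (fun t => act Q t x) hcomm
    simp only [act_mul, act_EG] at h1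
    have h2 := egen_egen_sub Q hab.huv (MaxTS.mem_perp.1 hz'L a haL)
      (MaxTS.mem_perp.1 hzL b hbL) (z := z) (z' := z') x
    rw [h1, sub_self, hx1, hx2, zero_smul, sub_zero, one_smul] at h2
    have h3 := (smul_eq_zero.1 h2.symm).resolve_right hb0
    apply hzz'
    rw [polar_comm]; exact h3

end matrix

end Cfsg.Agent.Lib.Helper25.AutO
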