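import Cfsg.Agent.Lib.Helper25.AutO14

set_option autoImplicit false
set_option linter.unusedSectionVars false
set_option linter.unusedVariables false
set_option linter.unusedSimpArgs false

/-!
# Automorphisms of `PΩ(Q)`, part 15: `R_u` is generated by the root groups of the lines on `u`
-/

namespace Cfsg.Agent.Lib.Helper25.AutO

open Module QuadraticMap Matrix Cfsg.Agent.Lib.Helper25.CD Cfsg.Agent.Lib.Helper25.Siegel
  Cfsg.Agent.Lib.Helper5.NSMax Cfsg.Agent.Lib.Helper5.TSMax Cfsg.Agent.Lib.Helper25.PS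
  Cfsg.Agent.Lib.Helper25.Fam Cfsg.Agent.Lib.Helper25.MaxTS Cfsg.Agent.Lib.Helper15

section matrix

variable {ι : Type} [Fintype ι] [DecidableEq ι] {F : Type*} [Field F] [Fintype F]
  (Q : QuadraticForm F (ι → F))

/-- The root elements of the lines through `u`. -/
def pencilSet (u : ι → F) : Set ↥(Cfsg.Omega F ⇑Q) :=
  {g | ∃ J, IsLine Q J ∧ u ∈ J ∧ g ∈ XS Q J}

theorem EG_mem_pencil (hQ : (polarBilin Q).Nondegenerate) (hn : 7 ≤ Fintype.card ι)
    {u s : ι → F} (hu0 : u ≠ 0) (hu : Q u = 0) (hus : polar Q u s = 0) (hs : Q s = 0) :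
    EG Q hQ hn hu0 hu hus ∈ Subgroup.closure (pencilSet Q u) := by
  by_cases hsu : s ∈ Submodule.span F {u}
  · obtain ⟨c, hc⟩ := Submodule.mem_span_singleton.1 hsu
    have : EG Q hQ hn hu0 hu hus = 1 := by
      apply act_ext
      intro x
      rw [act_EG, ← hc, egen_smul_self Q hu, act_one]
    rw [this]
    exact one_mem _
  · have h3 : TSL Q u s := TSL.mk' Q hu0 hu hs hus hsu
    apply Subgroup.subset_closure
    refine ⟨_, h3.isLine Q, Submodule.subset_span (by simp), (mem_XS_span Q h3).2 ⟨1, fun x => ?_⟩⟩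
    rw [act_EG, ← egen_sing Q hs, one_smul]

/-- `R_u` is generated by the root groups of the lines through `u`. -/
theorem RU_eq_closure (hQ : (polarBilin Q).Nondegenerate) (hn : 7 ≤ Fintype.card ι)
    {u : ι → F} (hu0 : u ≠ 0) (hu : Q u = 0) :
    RU Q u hu = Subgroup.closure (pencilSet Q u) := by
  apply le_antisymm
  · rintro g ⟨y, hy, hg⟩
    obtain ⟨e, f, he, hf, hef, hue, -, huf, -⟩ :=
      OGeom.exists_hyp_perp Q hQ (by rw [finrank_fun]; exact hn) hu hu (pself Q hu)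
    have hS : ∀ x, x ∈ MaxTS.perp Q (Submodule.span F {u}) ↔ polar Q u x = 0 :=
      fun x => MaxTS.mem_perp_span
    obtain ⟨s₁, hs₁, s₂, hs₂, s₃, hs₃, hQ₁, hQ₂, hQ₃, hsum⟩ :=
      exists_three_singular Q he hf hef (MaxTS.perp Q (Submodule.span F {u})) ((hS e).2 hue)
        ((hS f).2 huf) ((hS y).2 hy)
    rw [hS] at hs₁ hs₂ hs₃
    have e1 : g = EG Q hQ hn hu0 hu hs₁ * EG Q hQ hn hu0 hu hs₂ * EG Q hQ hn hu0 hu hs₃ := by
      apply act_ext
      intro x
      rw [act_mul, act_mul, act_EG, act_EG, act_EG, hg, egen_add Q hu hs₂ hs₃,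
        egen_add Q hu hs₁ (by rw [polar_add_right, hs₂, hs₃, add_zero]), hsum, add_assoc]
    rw [e1]
    exact mul_mem (mul_mem (EG_mem_pencil Q hQ hn hu0 hu hs₁ hQ₁)
      (EG_mem_pencil Q hQ hn hu0 hu hs₂ hQ₂)) (EG_mem_pencil Q hQ hn hu0 hu hs₃ hQ₃)
  · rw [Subgroup.closure_le]
    rintro g ⟨J, hJ, huJ, hg⟩
    exact XS_le_RU Q hJ huJ hu0 hg

/-- A line meeting two non-perpendicular lines through `a` passes through `a`. -/
theorem mem_of_meets_both {a v w : ι → F} (hv : TSL Q a v) (hw : TSL Q a w)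
    (hvw : polar Q v w ≠ 0) {J : Submodule F (ι → F)} (hJ : IsLine Q J)
    (h1 : J ⊓ Submodule.span F ({a, v} : Set (ι → F)) ≠ ⊥)
    (h2 : J ⊓ Submodule.span F ({a, w} : Set (ι → F)) ≠ ⊥) : a ∈ J := by
  obtain ⟨x, hx, hx0⟩ := (Submodule.ne_bot_iff _).1 h1
  obtain ⟨x', hx', hx0'⟩ := (Submodule.ne_bot_iff _).1 h2
  obtain ⟨α, β, hαβ⟩ := Submodule.mem_span_pair.1 hx.2
  obtain ⟨γ, δ, hγδ⟩ := Submodule.mem_span_pair.1 hx'.2
  have h3 : polar Q x x' = 0 := (hJ.ts Q).polar_eq_zero hx.1 hx'.1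
  rw [← hαβ, ← hγδ] at h3
  simp only [polar_add_left, polar_add_right, polar_smul_left, polar_smul_right, smul_eq_mul,
    pself Q hv.hu, hw.huv, polar_comm Q v a, hv.huv] at h3
  have h4 : β * δ * polar Q v w = 0 := by linear_combination h3
  rcases mul_eq_zero.1 ((mul_eq_zero.1 h4).resolve_right hvw) with hβ | hδ
  · rw [hβ, zero_smul, add_zero] at hαβ
    have hα : α ≠ 0 := by
      rintro rfl
      rw [zero_smul] at hαβ
      exact hx0 hαβ.symm
    have : a = α⁻¹ • x := by rw [← hαβ, smul_smul, inv_mul_cancel₀ hα, one_smul]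
    rw [this]
    exact J.smul_mem _ hx.1
  · rw [hδ, zero_smul, add_zero] at hγδ
    have hγ : γ ≠ 0 := by
      rintro rfl
      rw [zero_smul] at hγδ
      exact hx0' hγδ.symm
    have : a = γ⁻¹ • x' := by rw [← hγδ, smul_smul, inv_mul_cancel₀ hγ, one_smul]
    rw [this]
    exact J.smul_mem _ hx'.1

/-- Through every singular point there are two non-perpendicular totally singular lines. -/
theorem exists_nonperp_lines (hQ : (polarBilin Q).Nondegenerate) (hn : 7 ≤ Fintype.card ι)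
    {u : ι → F} (hu0 : u ≠ 0) (hu : Q u = 0) :
    ∃ v w, TSL Q u v ∧ TSL Q u w ∧ polar Q v w ≠ 0 := by
  obtain ⟨e, f, he, hf, hef, hue, -, huf, -⟩ :=
    OGeom.exists_hyp_perp Q hQ (by rw [finrank_fun]; exact hn) hu hu (pself Q hu)
  refine ⟨e, f, ⟨hu, he, hue, fun a b hab => ?_⟩, ⟨hu, hf, huf, fun a b hab => ?_⟩, ?_⟩
  · have h1 : polar Q f (a • u + b • e) = 0 := by rw [hab]; simp
    rw [polar_add_right, polar_smul_right, polar_smul_right, polar_comm Q f u, huf,
      polar_comm Q f e, hef] at h1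
    have hb : b = 0 := by simpa using h1
    subst hb
    rw [zero_smul, add_zero] at hab
    exact ⟨(smul_eq_zero.1 hab).resolve_right hu0, rfl⟩
  · have h1 : polar Q e (a • u + b • f) = 0 := by rw [hab]; simp
    rw [polar_add_right, polar_smul_right, polar_smul_right, polar_comm Q e u, hue, hef] at h1
    have hb : b = 0 := by simpa using h1
    subst hb
    rw [zero_smul, add_zero] at hab
    exact ⟨(smul_eq_zero.1 hab).resolve_right hu0, rfl⟩
  · rw [hef]; exact one_ne_zero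

end matrix

end Cfsg.Agent.Lib.Helper25.AutO
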