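import Cfsg.Agent.Lib.Helper25.AutO15
import Cfsg.Agent.Lib.Helper5.OmegaCenter

set_option autoImplicit false
set_option linter.unusedSectionVars false
set_option linter.unusedVariables false
set_option linter.unusedSimpArgs false

/-!
# Automorphisms of `PΩ(Q)`, part 16: the root subgroups of `PΩ`
-/

namespace Cfsg.Agent.Lib.Helper25.AutO

open Module QuadraticMap Matrix Cfsg.Agent.Lib.Helper25.CD Cfsg.Agent.Lib.Helper25.Siegel
  Cfsg.Agent.Lib.Helper5.NSMax Cfsg.Agent.Lib.Helper5.TSMax Cfsg.Agent.Lib.Helper25.PS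
  Cfsg.Agent.Lib.Helper25.Fam Cfsg.Agent.Lib.Helper25.MaxTS Cfsg.Agent.Lib.Helper15

section matrix

variable {ι : Type} [Fintype ι] [DecidableEq ι] {F : Type*} [Field F] [Fintype F]
  (Q : QuadraticForm F (ι → F))

/-- The centre of `Ω` has no nontrivial `p`-elements. -/
theorem centerP'_omega (p : ℕ) [Fact p.Prime] [CharP F p] (hQ : (polarBilin Q).Nondegenerate)
    (hn : 7 ≤ Fintype.card ι) : CenterP' p ↥(Cfsg.Omega F ⇑Q) := by
  intro z hz k hk
  have hz' : z.1 ∈ Cfsg.Agent.Lib.Helper5.OmegaCenter.CZ Q := ⟨z, hz, rfl⟩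
  have h1 := Cfsg.Agent.Lib.Helper5.OmegaCenter.center_pm_one Q hQ (Or.inr (by omega)) (by omega) hz'
  have key : ((z.1 : GL ι F) : Matrix ι ι F) = 1 := by
    rcases h1 with h1 | h1
    · exact h1
    · have h2 : (((z ^ (p ^ k) : ↥(Cfsg.Omega F ⇑Q)).1 : GL ι F) : Matrix ι ι F) = 1 := by
        rw [hk]; rfl
      have h3 : (((z ^ (p ^ k) : ↥(Cfsg.Omega F ⇑Q)).1 : GL ι F) : Matrix ι ι F) =
          ((z.1 : GL ι F) : Matrix ι ι F) ^ (p ^ k) := by
        simp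
      rw [h3, h1] at h2
      rcases (Fact.out : p.Prime).eq_two_or_odd' with h2' | hodd
      · subst h2'
        rw [h1]
        ext i j
        simp only [Matrix.neg_apply]
        exact CharTwo.neg_eq _
      · rw [(hodd.pow).neg_one_pow] at h2
        rw [h1, h2]
  apply Subtype.ext
  apply Subtype.ext
  apply Units.ext
  exact key

/-- The image of a root group in `PΩ`. -/
noncomputable abbrev XB (L : Submodule F (ι → F)) : Subgroup (Cfsg.POmega F ⇑Q) :=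
  (XS Q L).map (prZ ↥(Cfsg.Omega F ⇑Q))

/-- The image of `R_u` in `PΩ`. -/
noncomputable abbrev RB (u : ι → F) (hu : Q u = 0) : Subgroup (Cfsg.POmega F ⇑Q) :=
  (RU Q u hu).map (prZ ↥(Cfsg.Omega F ⇑Q))

theorem XS_pow_p' (p : ℕ) [Fact p.Prime] [CharP F p] {L : Submodule F (ι → F)}
    (hL : IsLine Q L) {g : ↥(Cfsg.Omega F ⇑Q)} (hg : g ∈ XS Q L) : g ^ (p ^ 1) = 1 := by
  rw [pow_one]; exact XS_pow_p Q p hL hg

/-- The root subgroups of `PΩ` are the images of the `X_L`. -/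
theorem rootSub_pomega (p : ℕ) [Fact p.Prime] [CharP F p] (hQ : (polarBilin Q).Nondegenerate) (hn : 7 ≤ Fintype.card ι) :
    rootSub p (Cfsg.POmega F ⇑Q) = {X | ∃ L, IsLine Q L ∧ X = XB Q L} := by
  rw [rootSub_quot p (centerP'_omega Q p hQ hn), rootSub_omega Q p hQ hn]
  ext X
  constructor
  · rintro ⟨_, ⟨L, hL, rfl⟩, rfl⟩
    exact ⟨L, hL, rfl⟩
  · rintro ⟨L, hL, rfl⟩
    exact ⟨_, ⟨L, hL, rfl⟩, rfl⟩

theorem XS_le_of_XB_le (p : ℕ) [Fact p.Prime] [CharP F p] (hQ : (polarBilin Q).Nondegenerate) (hn : 7 ≤ Fintype.card ι)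
    {L K : Submodule F (ι → F)} (hL : IsLine Q L) (hK : IsLine Q K) (h : XB Q L ≤ XB Q K) :
    XS Q L ≤ XS Q K := by
  intro x hx
  obtain ⟨y, hy, hyx⟩ := h (Subgroup.mem_map_of_mem _ hx)
  have := eq_of_prZ_eq p (centerP'_omega Q p hQ hn) (XS_pow_p' Q p hK hy) (XS_pow_p' Q p hL hx) hyx
  rw [← this]
  exact hy

theorem XB_injective (p : ℕ) [Fact p.Prime] [CharP F p] (hQ : (polarBilin Q).Nondegenerate) (hn : 7 ≤ Fintype.card ι)
    {L K : Submodule F (ι → F)} (hL : IsLine Q L) (hK : IsLine Q K) (h : XB Q L = XB Q K) :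
    L = K := by
  apply XS_injective Q hQ hn hL hK
  exact le_antisymm (XS_le_of_XB_le Q p hQ hn hL hK h.le) (XS_le_of_XB_le Q p hQ hn hK hL h.ge)

theorem Comm_XB_iff (p : ℕ) [Fact p.Prime] [CharP F p] (hQ : (polarBilin Q).Nondegenerate) (hn : 7 ≤ Fintype.card ι)
    {L K : Submodule F (ι → F)} (hL : IsLine Q L) (hK : IsLine Q K) :
    Comm (XB Q L) (XB Q K) ↔ Comm (XS Q L) (XS Q K) := by
  constructor
  · intro h x hx y hy
    exact comm_of_prZ_comm p (centerP'_omega Q p hQ hn) (XS_pow_p' Q p hK hy)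
      (h _ (Subgroup.mem_map_of_mem _ hx) _ (Subgroup.mem_map_of_mem _ hy))
  · rintro h _ ⟨x, hx, rfl⟩ _ ⟨y, hy, rfl⟩
    rw [← map_mul, ← map_mul, h x hx y hy]

theorem SG_ne_one (hQ : (polarBilin Q).Nondegenerate) (hn : 7 ≤ Fintype.card ι)
    {u v : ι → F} (h : TSL Q u v) : SG Q hQ hn h 1 ≠ 1 := by
  intro h1
  obtain ⟨z, hz⟩ := siegF_image_right Q hQ h (one_ne_zero (α := F))
  rw [← act_SG Q hQ hn h, h1, act_one, sub_self] at hz
  exact h.ne_zero_right Q hz.symm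

/-- Commuting root groups: the lines are perpendicular or meet. -/
theorem perp_or_meet_of_Comm (hQ : (polarBilin Q).Nondegenerate) (hn : 7 ≤ Fintype.card ι)
    {L K : Submodule F (ι → F)} (hL : IsLine Q L) (hK : IsLine Q K)
    (h : Comm (XS Q L) (XS Q K)) : L ≤ MaxTS.perp Q K ∨ L ⊓ K ≠ ⊥ := by
  have hL' := hL
  have hK' := hK
  obtain ⟨u, v, huv, rfl⟩ := hL'
  obtain ⟨u', v', huv', rfl⟩ := hK'
  exact perp_or_meet_of_comm Q hQ hL hK (SG_mem Q hQ hn huv 1) (SG_mem Q hQ hn huv' 1)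
    (SG_ne_one Q hQ hn huv) (SG_ne_one Q hQ hn huv') (h _ (SG_mem Q hQ hn huv 1) _
      (SG_mem Q hQ hn huv' 1))

theorem mul_pow_p_eq_one (p : ℕ) [Fact p.Prime] [CharP F p] {L K : Submodule F (ι → F)} (hL : IsLine Q L) (hK : IsLine Q K)
    (h : Comm (XS Q L) (XS Q K)) {x y : ↥(Cfsg.Omega F ⇑Q)} (hx : x ∈ XS Q L) (hy : y ∈ XS Q K) :
    (x * y) ^ (p ^ 1) = 1 := by
  rw [pow_one, (show Commute x y from h x hx y hy).mul_pow, XS_pow_p Q p hL hx, XS_pow_p Q p hK hy,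
    one_mul]

/-- A product of commuting root elements which is not a root element in `Ω` gives a non-root
element of `PΩ`. -/
theorem not_Adj_of_nonroot (p : ℕ) [Fact p.Prime] [CharP F p] (hQ : (polarBilin Q).Nondegenerate) (hn : 7 ≤ Fintype.card ι)
    {L K : Submodule F (ι → F)} (hL : IsLine Q L) (hK : IsLine Q K)
    (hc : Comm (XS Q L) (XS Q K))
    (h : ∃ x ∈ XS Q L, ∃ y ∈ XS Q K, ∀ J, IsLine Q J → x * y ∉ XS Q J) :
    ¬ Adj (rootSub p (Cfsg.POmega F ⇑Q)) (XB Q L) (XB Q K) := by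
  rintro ⟨-, -, h3⟩
  obtain ⟨x, hx, y, hy, hxy⟩ := h
  have hpow := mul_pow_p_eq_one Q p hL hK hc hx hy
  have hne : x * y ≠ 1 := by
    intro h1
    apply hxy L hL
    rw [h1]
    exact one_mem _
  have hZ := centerP'_omega Q p hQ hn
  have h4 := ne_one_of_prZ p hZ hpow hne
  rw [map_mul] at h4
  obtain ⟨Z, hZ', hmem⟩ := h3 _ (Subgroup.mem_map_of_mem _ hx) _ (Subgroup.mem_map_of_mem _ hy) h4
  rw [rootSub_pomega Q p hQ hn] at hZ'
  obtain ⟨J, hJ, rfl⟩ := hZ'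
  obtain ⟨j, hj, hjxy⟩ := hmem
  rw [← map_mul] at hjxy
  have := eq_of_prZ_eq p hZ (XS_pow_p' Q p hJ hj) hpow hjxy
  apply hxy J hJ
  rw [← this]
  exact hj

/-- Adjacency of root subgroups of `PΩ`: the lines span a totally singular plane. -/
theorem Adj_XB_iff (p : ℕ) [Fact p.Prime] [CharP F p] (hQ : (polarBilin Q).Nondegenerate) (hn : 7 ≤ Fintype.card ι)
    {L K : Submodule F (ι → F)} (hL : IsLine Q L) (hK : IsLine Q K) :
    Adj (rootSub p (Cfsg.POmega F ⇑Q)) (XB Q L) (XB Q K) ↔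
      L ≠ K ∧ L ⊓ K ≠ ⊥ ∧ L ≤ MaxTS.perp Q K := by
  constructor
  · intro h
    have hLK : L ≠ K := by
      rintro rfl
      exact h.1 rfl
    have hc := (Comm_XB_iff Q p hQ hn hL hK).1 h.2.1
    refine ⟨hLK, ?_⟩
    by_cases hm : L ⊓ K = ⊥
    · exfalso
      have hp : L ≤ MaxTS.perp Q K := (perp_or_meet_of_Comm Q hQ hn hL hK hc).resolve_right
        (not_not.2 hm)
      exact not_Adj_of_nonroot Q p hQ hn hL hK hc (nonroot_of_perp_not_meet Q hQ hn hL hK hm hp) h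
    · refine ⟨hm, ?_⟩
      by_contra hp
      exact not_Adj_of_nonroot Q p hQ hn hL hK hc (nonroot_of_meet_not_perp Q hQ hn hL hK hm hp) h
  · rintro ⟨hLK, hm, hp⟩
    refine ⟨fun h => hLK (XB_injective Q p hQ hn hL hK h),
      (Comm_XB_iff Q p hQ hn hL hK).2 (comm_of_meet Q hL hK hm), ?_⟩
    rintro _ ⟨x, hx, rfl⟩ _ ⟨y, hy, rfl⟩ hxy
    have hne : x * y ≠ 1 := by
      intro h1
      apply hxy
      rw [← map_mul, h1, map_one]
    obtain ⟨J, hJ, hmem⟩ := root_of_meet_perp Q hL hK hm hp hx hy hne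
    refine ⟨XB Q J, ?_, ?_⟩
    · rw [rootSub_pomega Q p hQ hn]
      exact ⟨J, hJ, rfl⟩
    · rw [← map_mul]
      exact Subgroup.mem_map_of_mem _ hmem

end matrix

end Cfsg.Agent.Lib.Helper25.AutO
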