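import Cfsg.Agent.Lib.Helper25.AutO16

set_option autoImplicit false
set_option linter.unusedSectionVars false
set_option linter.unusedVariables false
set_option linter.unusedSimpArgs false

/-!
# Automorphisms of `PΩ(Q)`, part 17: every automorphism of `PΩ` permutes the groups `R̄_u`
-/

namespace Cfsg.Agent.Lib.Helper25.AutO

open Module QuadraticMap Matrix Cfsg.Agent.Lib.Helper25.CD Cfsg.Agent.Lib.Helper25.Siegel
  Cfsg.Agent.Lib.Helper5.NSMax Cfsg.Agent.Lib.Helper5.TSMax Cfsg.Agent.Lib.Helper25.PS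
  Cfsg.Agent.Lib.Helper25.Fam Cfsg.Agent.Lib.Helper25.MaxTS Cfsg.Agent.Lib.Helper15

section matrix

variable {ι : Type} [Fintype ι] [DecidableEq ι] {F : Type*} [Field F] [Fintype F]
  (Q : QuadraticForm F (ι → F))

/-- The hypothesis excluding the `D₄` configuration: two disjoint perpendicular lines never span
a maximal totally singular subspace. -/
def NoD4 : Prop :=
  ∀ L K : Submodule F (ι → F), IsLine Q L → IsLine Q K → L ⊓ K = ⊥ → L ≤ MaxTS.perp Q K →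
    ¬ MaxTS.perp Q (L ⊔ K) ≤ L ⊔ K

theorem meet_perp_iff {L J : Submodule F (ι → F)} (hL : IsLine Q L) (hJ : IsLine Q J) :
    (J = L ∨ (L ≠ J ∧ L ⊓ J ≠ ⊥ ∧ L ≤ MaxTS.perp Q J)) ↔ (L ⊓ J ≠ ⊥ ∧ L ≤ MaxTS.perp Q J) := by
  constructor
  · rintro (rfl | ⟨-, h1, h2⟩)
    · refine ⟨?_, (hJ.ts Q).le_perp⟩
      rw [inf_idem]
      exact hJ.ne_bot Q
    · exact ⟨h1, h2⟩
  · rintro ⟨h1, h2⟩
    by_cases h : J = L
    · exact Or.inl h
    · exact Or.inr ⟨fun h' => h h'.symm, h1, h2⟩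

/-- The subgroup `T(X̄_L)` of `PΩ`. -/
theorem TT_XB (p : ℕ) [Fact p.Prime] [CharP F p] (hQ : (polarBilin Q).Nondegenerate)
    (hn : 7 ≤ Fintype.card ι) {L : Submodule F (ι → F)} (hL : IsLine Q L) :
    TT (rootSub p (Cfsg.POmega F ⇑Q)) (XB Q L) = (TO Q L).map (prZ ↥(Cfsg.Omega F ⇑Q)) := by
  unfold TT TO
  rw [MonoidHom.map_closure]
  congr 1
  ext g
  constructor
  · rintro ⟨Y, hY, hXY, hg⟩
    rw [rootSub_pomega Q p hQ hn] at hY
    obtain ⟨J, hJ, rfl⟩ := hY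
    obtain ⟨g₀, hg₀, rfl⟩ := hg
    have h1 : J = L ∨ (L ≠ J ∧ L ⊓ J ≠ ⊥ ∧ L ≤ MaxTS.perp Q J) := by
      rcases hXY with h | h
      · exact Or.inl (XB_injective Q p hQ hn hJ hL h)
      · exact Or.inr ((Adj_XB_iff Q p hQ hn hL hJ).1 h)
    rw [meet_perp_iff Q hL hJ] at h1
    exact ⟨g₀, ⟨J, hJ, h1.1, h1.2, hg₀⟩, rfl⟩
  · rintro ⟨g₀, ⟨J, hJ, h1, h2, hg₀⟩, rfl⟩
    refine ⟨XB Q J, ?_, ?_, Subgroup.mem_map_of_mem _ hg₀⟩
    · rw [rootSub_pomega Q p hQ hn]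
      exact ⟨J, hJ, rfl⟩
    · rcases (meet_perp_iff Q hL hJ).2 ⟨h1, h2⟩ with h | h
      · left; rw [h]
      · right; exact (Adj_XB_iff Q p hQ hn hL hJ).2 h

/-- Centralising `X̄_K` in `PΩ` means centralising `X_K` in `Ω`. -/
theorem centralizes_of_prZ (p : ℕ) [Fact p.Prime] [CharP F p] (hQ : (polarBilin Q).Nondegenerate)
    (hn : 7 ≤ Fintype.card ι) {K : Submodule F (ι → F)} (hK : IsLine Q K)
    {g : ↥(Cfsg.Omega F ⇑Q)}
    (h : ∀ y ∈ XB Q K, prZ ↥(Cfsg.Omega F ⇑Q) g * y = y * prZ ↥(Cfsg.Omega F ⇑Q) g) :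
    ∀ y ∈ XS Q K, g * y = y * g := by
  intro y hy
  exact comm_of_prZ_comm p (centerP'_omega Q p hQ hn) (XS_pow_p' Q p hK hy)
    (h _ (Subgroup.mem_map_of_mem _ hy))

/-- The relation `AA` on root subgroups of `PΩ`: the lines meet and are not perpendicular. -/
theorem AA_XB_iff (p : ℕ) [Fact p.Prime] [CharP F p] (hQ : (polarBilin Q).Nondegenerate)
    (hn : 7 ≤ Fintype.card ι) (hD : NoD4 Q) {L K : Submodule F (ι → F)} (hL : IsLine Q L)
    (hK : IsLine Q K) :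
    AA (rootSub p (Cfsg.POmega F ⇑Q)) (XB Q L) (XB Q K) ↔
      L ⊓ K ≠ ⊥ ∧ ¬ L ≤ MaxTS.perp Q K := by
  have hZ := centerP'_omega Q p hQ hn
  constructor
  · rintro ⟨h1, h2, h3, h4⟩
    have hLK : L ≠ K := by
      rintro rfl
      exact h1 rfl
    have hc := (Comm_XB_iff Q p hQ hn hL hK).1 h2
    by_cases hm : L ⊓ K = ⊥
    · exfalso
      have hp : L ≤ MaxTS.perp Q K := (perp_or_meet_of_Comm Q hQ hn hL hK hc).resolve_right
        (not_not.2 hm)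
      obtain ⟨g, hg, g', hg', hgc, hgc', hpow, hne⟩ :=
        exists_noncomm_of_perp_not_meet Q p hQ hn hL hK hp (hD L K hL hK hm hp)
      rw [TT_XB Q p hQ hn hL] at h4
      have h5 := h4 _ (Subgroup.mem_map_of_mem _ hg) _ (Subgroup.mem_map_of_mem _ hg')
        (by
          rintro _ ⟨y, hy, rfl⟩
          rw [← map_mul, ← map_mul, hgc y hy])
        (by
          rintro _ ⟨y, hy, rfl⟩
          rw [← map_mul, ← map_mul, hgc' y hy])
      exact hne (comm_of_prZ_comm p hZ (k := 1) (by rw [pow_one]; exact hpow) h5)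
    · refine ⟨hm, fun hp => ?_⟩
      exact h3 ((Adj_XB_iff Q p hQ hn hL hK).2 ⟨hLK, hm, hp⟩)
  · rintro ⟨hm, hp⟩
    have hLK : L ≠ K := by
      rintro rfl
      exact hp (hL.ts Q).le_perp
    refine ⟨fun h => hLK (XB_injective Q p hQ hn hL hK h),
      (Comm_XB_iff Q p hQ hn hL hK).2 (comm_of_meet Q hL hK hm),
      fun h => hp ((Adj_XB_iff Q p hQ hn hL hK).1 h).2.2, ?_⟩
    rw [TT_XB Q p hQ hn hL]
    obtain ⟨a, v, w, hv, hw, rfl, rfl⟩ := exists_common_basis Q hL hK hm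
    have hvw : polar Q v w ≠ 0 := fun h => hp ((perp_iff_of_common Q hv hw).2 h)
    rintro _ ⟨g, hg, rfl⟩ _ ⟨g', hg', rfl⟩ hc hc'
    have h1 := mem_RU_of_trivL_centralizes Q hQ hn hv hw hvw (TO_le_trivL Q hL hg)
      (centralizes_of_prZ Q p hQ hn hK hc)
    have h2 := mem_RU_of_trivL_centralizes Q hQ hn hv hw hvw (TO_le_trivL Q hL hg')
      (centralizes_of_prZ Q p hQ hn hK hc')
    rw [← map_mul, ← map_mul, RU_comm Q hv.hu h1 h2]

/-- The relation `Mt` on root subgroups of `PΩ`: the lines meet. -/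
theorem Mt_XB_iff (p : ℕ) [Fact p.Prime] [CharP F p] (hQ : (polarBilin Q).Nondegenerate)
    (hn : 7 ≤ Fintype.card ι) (hD : NoD4 Q) {J L : Submodule F (ι → F)} (hJ : IsLine Q J)
    (hL : IsLine Q L) :
    Mt (rootSub p (Cfsg.POmega F ⇑Q)) (XB Q J) (XB Q L) ↔ J ⊓ L ≠ ⊥ := by
  unfold Mt
  rw [Adj_XB_iff Q p hQ hn hJ hL, AA_XB_iff Q p hQ hn hD hJ hL]
  constructor
  · rintro (h | h | h)
    · have := XB_injective Q p hQ hn hJ hL h
      rw [this, inf_idem]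
      exact hL.ne_bot Q
    · exact h.2.1
    · exact h.1
  · intro hm
    by_cases hp : J ≤ MaxTS.perp Q L
    · by_cases hJL : J = L
      · left; rw [hJL]
      · right; left; exact ⟨hJL, hm, hp⟩
    · right; right; exact ⟨hm, hp⟩

/-- The point subgroup attached to two non-perpendicular lines through `a` is `R̄_a`. -/
theorem Pt_XB (p : ℕ) [Fact p.Prime] [CharP F p] (hQ : (polarBilin Q).Nondegenerate)
    (hn : 7 ≤ Fintype.card ι) (hD : NoD4 Q) {a v w : ι → F} (hv : TSL Q a v) (hw : TSL Q a w)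
    (hvw : polar Q v w ≠ 0) :
    Pt (rootSub p (Cfsg.POmega F ⇑Q)) (XB Q (Submodule.span F ({a, v} : Set (ι → F))))
      (XB Q (Submodule.span F ({a, w} : Set (ι → F)))) = RB Q a hv.hu := by
  unfold Pt RB
  rw [RU_eq_closure Q hQ hn (hv.ne_zero_left Q) hv.hu, MonoidHom.map_closure]
  congr 1
  ext g
  constructor
  · rintro ⟨Z, hZ, h1, h2, hg⟩
    rw [rootSub_pomega Q p hQ hn] at hZ
    obtain ⟨J, hJ, rfl⟩ := hZ
    rw [Mt_XB_iff Q p hQ hn hD hJ (hv.isLine Q)] at h1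
    rw [Mt_XB_iff Q p hQ hn hD hJ (hw.isLine Q)] at h2
    obtain ⟨g₀, hg₀, rfl⟩ := hg
    exact ⟨g₀, ⟨J, hJ, mem_of_meets_both Q hv hw hvw hJ h1 h2, hg₀⟩, rfl⟩
  · rintro ⟨g₀, ⟨J, hJ, haJ, hg₀⟩, rfl⟩
    have ha0 := hv.ne_zero_left Q
    refine ⟨XB Q J, ?_, ?_, ?_, Subgroup.mem_map_of_mem _ hg₀⟩
    · rw [rootSub_pomega Q p hQ hn]
      exact ⟨J, hJ, rfl⟩
    · rw [Mt_XB_iff Q p hQ hn hD hJ (hv.isLine Q)]
      intro h0
      have : a ∈ J ⊓ Submodule.span F ({a, v} : Set (ι → F)) :=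
        ⟨haJ, Submodule.subset_span (by simp)⟩
      rw [h0, Submodule.mem_bot] at this
      exact ha0 this
    · rw [Mt_XB_iff Q p hQ hn hD hJ (hw.isLine Q)]
      intro h0
      have : a ∈ J ⊓ Submodule.span F ({a, w} : Set (ι → F)) :=
        ⟨haJ, Submodule.subset_span (by simp)⟩
      rw [h0, Submodule.mem_bot] at this
      exact ha0 this

/-- The point subgroups of `PΩ` are the groups `R̄_u`. -/
theorem Pts_pomega (p : ℕ) [Fact p.Prime] [CharP F p] (hQ : (polarBilin Q).Nondegenerate)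
    (hn : 7 ≤ Fintype.card ι) (hD : NoD4 Q) :
    Pts (rootSub p (Cfsg.POmega F ⇑Q)) =
      {P | ∃ (u : ι → F) (hu : Q u = 0), u ≠ 0 ∧ P = RB Q u hu} := by
  ext P
  constructor
  · rintro ⟨X, hX, Y, hY, hXY, rfl⟩
    rw [rootSub_pomega Q p hQ hn] at hX hY
    obtain ⟨L, hL, rfl⟩ := hX
    obtain ⟨K, hK, rfl⟩ := hY
    rw [AA_XB_iff Q p hQ hn hD hL hK] at hXY
    obtain ⟨a, v, w, hv, hw, rfl, rfl⟩ := exists_common_basis Q hL hK hXY.1
    have hvw : polar Q v w ≠ 0 := fun h => hXY.2 ((perp_iff_of_common Q hv hw).2 h)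
    exact ⟨a, hv.hu, hv.ne_zero_left Q, Pt_XB Q p hQ hn hD hv hw hvw⟩
  · rintro ⟨u, hu, hu0, rfl⟩
    obtain ⟨v, w, hv, hw, hvw⟩ := exists_nonperp_lines Q hQ hn hu0 hu
    refine ⟨XB Q (Submodule.span F ({u, v} : Set (ι → F))), ?_,
      XB Q (Submodule.span F ({u, w} : Set (ι → F))), ?_, ?_, (Pt_XB Q p hQ hn hD hv hw hvw).symm⟩
    · rw [rootSub_pomega Q p hQ hn]
      exact ⟨_, hv.isLine Q, rfl⟩
    · rw [rootSub_pomega Q p hQ hn]
      exact ⟨_, hw.isLine Q, rfl⟩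
    · rw [AA_XB_iff Q p hQ hn hD (hv.isLine Q) (hw.isLine Q)]
      refine ⟨?_, fun h => hvw ((perp_iff_of_common Q hv hw).1 h)⟩
      intro h0
      have : u ∈ Submodule.span F ({u, v} : Set (ι → F)) ⊓
          Submodule.span F ({u, w} : Set (ι → F)) :=
        ⟨Submodule.subset_span (by simp), Submodule.subset_span (by simp)⟩
      rw [h0, Submodule.mem_bot] at this
      exact hu0 this

/-- **Part (I).** Every automorphism of `PΩ(Q)` permutes the subgroups `R̄_u`. -/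
theorem aut_permutes_RB (p : ℕ) [Fact p.Prime] [CharP F p] (hQ : (polarBilin Q).Nondegenerate)
    (hn : 7 ≤ Fintype.card ι) (hD : NoD4 Q) (β : Cfsg.POmega F ⇑Q ≃* Cfsg.POmega F ⇑Q)
    (u : ι → F) (hu0 : u ≠ 0) (hu : Q u = 0) :
    ∃ (u' : ι → F) (hu' : Q u' = 0), u' ≠ 0 ∧
      (RB Q u hu).map β.toMonoidHom = RB Q u' hu' := by
  have h1 : RB Q u hu ∈ Pts (rootSub p (Cfsg.POmega F ⇑Q)) := by
    rw [Pts_pomega Q p hQ hn hD]
    exact ⟨u, hu, hu0, rfl⟩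
  have h2 := Pts_mp (rootSub_autInv p) h1 β
  rw [Pts_pomega Q p hQ hn hD] at h2
  obtain ⟨u', hu', hu0', h3⟩ := h2
  exact ⟨u', hu', hu0', h3⟩

end matrix

end Cfsg.Agent.Lib.Helper25.AutO
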