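import Cfsg.Agent.Lib.Helper25.AutO3

set_option autoImplicit false
set_option linter.unusedSectionVars false
set_option linter.unusedVariables false
set_option linter.unusedSimpArgs false

/-!
# Automorphisms of `PΩ(Q)`, part 4: `p`-subgroups fix singular vectors
-/

namespace Cfsg.Agent.Lib.Helper25.AutO

open Module QuadraticMap Matrix Cfsg.Agent.Lib.Helper25.CD Cfsg.Agent.Lib.Helper25.Siegel
  Cfsg.Agent.Lib.Helper5.NSMax Cfsg.Agent.Lib.Helper5.TSMax Cfsg.Agent.Lib.Helper25.PS
  Cfsg.Agent.Lib.Helper25.Fam Cfsg.Agent.Lib.Helper25.MaxTS Cfsg.Agent.Lib.Helper15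

/-- Chevalley–Warning: the number of singular vectors of a quadratic space of dimension at least
three over a finite field is divisible by the characteristic. -/
theorem char_dvd_card_singular {F V : Type*} [Field F] [Fintype F] [AddCommGroup V] [Module F V]
    [FiniteDimensional F V] (p : ℕ) [CharP F p] (Q : QuadraticForm F V) (h3 : 3 ≤ finrank F V) :
    p ∣ Nat.card {v : V // Q v = 0} := by
  classical
  obtain ⟨β, hβ⟩ := LinearMap.BilinMap.toQuadraticMap_surjective Q
  set n := finrank F V with hn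
  let b : Basis (Fin n) F V := Module.finBasis F V
  let P : MvPolynomial (Fin n) F :=
    ∑ i, ∑ j, MvPolynomial.C (β (b i) (b j)) * MvPolynomial.X i * MvPolynomial.X j
  have hev : ∀ x : Fin n → F, MvPolynomial.eval x P = Q (∑ i, x i • b i) := by
    intro x
    rw [← hβ, LinearMap.BilinMap.toQuadraticMap_apply]
    simp only [P, map_sum, map_mul, MvPolynomial.eval_C, MvPolynomial.eval_X, LinearMap.sum_apply,
      map_smul, LinearMap.smul_apply, smul_eq_mul]
    rw [Finset.sum_comm]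
    refine Finset.sum_congr rfl fun i _ => ?_
    rw [Finset.mul_sum]
    refine Finset.sum_congr rfl fun j _ => ?_
    ring
  have hdeg : P.totalDegree < Fintype.card (Fin n) := by
    rw [Fintype.card_fin]
    refine lt_of_le_of_lt ?_ (show 2 < n from h3)
    refine (MvPolynomial.totalDegree_finsetSum _ _).trans ?_
    refine Finset.sup_le fun i _ => ?_
    refine (MvPolynomial.totalDegree_finsetSum _ _).trans ?_
    refine Finset.sup_le fun j _ => ?_
    refine (MvPolynomial.totalDegree_mul _ _).trans ?_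
    have h1 := MvPolynomial.totalDegree_mul (MvPolynomial.C (β (b i) (b j)))
      (MvPolynomial.X i : MvPolynomial (Fin n) F)
    rw [MvPolynomial.totalDegree_C, MvPolynomial.totalDegree_X, zero_add] at h1
    rw [MvPolynomial.totalDegree_X]
    omega
  have hdvd := char_dvd_card_solutions p hdeg
  have e : {x : Fin n → F // MvPolynomial.eval x P = 0} ≃ {v : V // Q v = 0} :=
    Equiv.subtypeEquiv (b.equivFun.symm.toEquiv) (fun x => by
      rw [hev]
      show Q (∑ i, x i • b i) = 0 ↔ Q (b.equivFun.symm x) = 0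
      rw [Basis.equivFun_symm_apply])
  rw [← Nat.card_congr e, Nat.card_eq_fintype_card]
  exact hdvd

section matrix

variable {ι : Type} [Fintype ι] [DecidableEq ι] {F : Type*} [Field F] [Fintype F]
  (Q : QuadraticForm F (ι → F))

/-- The number of singular vectors in a submodule of dimension at least three is divisible by the
characteristic. -/
theorem char_dvd_card_singular_sub (p : ℕ) [CharP F p] (S : Submodule F (ι → F))
    (h3 : 3 ≤ finrank F S) : p ∣ Nat.card {v : ι → F // v ∈ S ∧ Q v = 0} := by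
  have h1 := char_dvd_card_singular p (Q.comp S.subtype) h3
  have e : {v : ↥S // (Q.comp S.subtype) v = 0} ≃ {v : ι → F // v ∈ S ∧ Q v = 0} :=
    { toFun := fun v => ⟨v.1.1, v.1.2, v.2⟩
      invFun := fun v => ⟨⟨v.1, v.2.1⟩, v.2.2⟩
      left_inv := fun v => rfl
      right_inv := fun v => rfl }
  rwa [Nat.card_congr e] at h1

/-- A `p`-subgroup of `Ω` fixes a nonzero singular vector. -/
theorem exists_fixed_singular (p : ℕ) [Fact p.Prime] [CharP F p] (hn : 3 ≤ Fintype.card ι)
    (U : Subgroup ↥(Cfsg.Omega F ⇑Q)) (hU : IsPGroup p U) :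
    ∃ u : ι → F, u ≠ 0 ∧ Q u = 0 ∧ ∀ g ∈ U, act Q g u = u := by
  letI : MulAction ↥U {v : ι → F // Q v = 0} :=
    { smul := fun g v => ⟨act Q g.1 v.1, by rw [Q_act]; exact v.2⟩
      one_smul := fun v => Subtype.ext (act_one Q v.1)
      mul_smul := fun g h v => Subtype.ext (act_mul Q g.1 h.1 v.1) }
  have hcard : p ∣ Nat.card {v : ι → F // Q v = 0} :=
    char_dvd_card_singular p Q (by rw [finrank_fun]; exact hn)
  have h0 : (⟨0, by simp⟩ : {v : ι → F // Q v = 0}) ∈ MulAction.fixedPoints ↥U _ := by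
    intro g
    apply Subtype.ext
    show act Q g.1 0 = 0
    rw [map_zero]
  obtain ⟨b, hb, hne⟩ := hU.exists_fixed_point_of_prime_dvd_card_of_fixed_point _ hcard h0
  refine ⟨b.1, fun h => hne (Subtype.ext h.symm), b.2, fun g hg => ?_⟩
  exact congrArg Subtype.val (hb ⟨g, hg⟩)

/-- The induced action on `⟨u, f⟩^⊥` of an isometry fixing `u`. -/
noncomputable def bar (f : ι → F) (u : ι → F) (g : ↥(Cfsg.Omega F ⇑Q)) (w : ι → F) : ι → F :=
  act Q g w - polar Q f (act Q g w) • u

theorem bar_mem {u f : ι → F} (hu : Q u = 0) (hf : Q f = 0) (huf : polar Q u f = 1)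
    {g : ↥(Cfsg.Omega F ⇑Q)} (hgu : act Q g u = u) {w : ι → F}
    (hw : w ∈ perpPair Q ⊤ u f) : bar Q f u g w ∈ perpPair Q ⊤ u f := by
  rw [mem_perpPair] at hw ⊢
  refine ⟨Submodule.mem_top, ?_, ?_⟩
  · unfold bar
    rw [polar_sub_right, polar_smul_right, pself Q hu, smul_zero, sub_zero]
    have := polar_act Q g u w
    rw [hgu] at this
    rw [this, hw.2.1]
  · unfold bar
    rw [polar_sub_right, polar_smul_right, polar_comm Q f u, huf]
    simp

theorem Q_bar {u f : ι → F} (hu : Q u = 0)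
    {g : ↥(Cfsg.Omega F ⇑Q)} (hgu : act Q g u = u) {w : ι → F}
    (hw : polar Q u w = 0) : Q (bar Q f u g w) = Q w := by
  unfold bar
  have h1 : polar Q u (act Q g w) = 0 := by
    have := polar_act Q g u w
    rw [hgu] at this
    rw [this, hw]
  rw [sub_eq_add_neg, ← neg_smul, Q_add_smul, hu, polar_comm Q _ u, h1, Q_act]
  ring

theorem bar_mul {u f : ι → F} (huf : polar Q u f = 1) {g h : ↥(Cfsg.Omega F ⇑Q)}
    (hgu : act Q g u = u) (w : ι → F) :
    bar Q f u (g * h) w = bar Q f u g (bar Q f u h w) := by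
  unfold bar
  rw [act_mul, map_sub, map_smul, hgu, polar_sub_right, polar_smul_right, polar_comm Q f u, huf]
  module

theorem bar_one {u f : ι → F} {w : ι → F} (hw : polar Q f w = 0) : bar Q f u 1 w = w := by
  unfold bar
  rw [act_one, hw, zero_smul, sub_zero]

/-- A `p`-subgroup of the stabiliser of `u` fixes a nonzero singular vector of `⟨u, f⟩^⊥` modulo
`u`. -/
theorem exists_fixed_singular_bar (p : ℕ) [Fact p.Prime] [CharP F p]
    (hQ : (polarBilin Q).Nondegenerate) (hn : 5 ≤ Fintype.card ι)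
    {u f : ι → F} (hu : Q u = 0) (hf : Q f = 0) (huf : polar Q u f = 1)
    (U : Subgroup ↥(Cfsg.Omega F ⇑Q)) (hU : IsPGroup p U) (hUu : ∀ g ∈ U, act Q g u = u) :
    ∃ w : ι → F, w ≠ 0 ∧ Q w = 0 ∧ polar Q u w = 0 ∧ polar Q f w = 0 ∧
      ∀ g ∈ U, ∃ c : F, act Q g w = w + c • u := by
  obtain ⟨W, hWdef⟩ : ∃ W, W = perpPair Q ⊤ u f := ⟨_, rfl⟩
  have hfr : finrank F W + 2 = Fintype.card ι := by
    have := perpPair_finrank Q ⊤ (e := u) (f := f) Submodule.mem_top Submodule.mem_top hu hf huf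
    rw [finrank_top, finrank_fun] at this
    rw [hWdef]
    exact this
  have hW : ∀ v, v ∈ W ↔ polar Q u v = 0 ∧ polar Q f v = 0 := by
    intro v
    rw [hWdef, mem_perpPair]
    constructor
    · intro h; exact h.2
    · intro h; exact ⟨Submodule.mem_top, h⟩
  have hbarW : ∀ g ∈ U, ∀ v ∈ W, bar Q f u g v ∈ W := by
    intro g hg v hv
    have h1 : v ∈ perpPair Q ⊤ u f := hWdef ▸ hv
    have h2 := bar_mem Q hu hf huf (hUu g hg) h1
    exact hWdef ▸ h2
  letI : MulAction ↥U {v : ι → F // v ∈ W ∧ Q v = 0} :=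
    { smul := fun g v => ⟨bar Q f u g.1 v.1, hbarW g.1 g.2 v.1 v.2.1, by
        rw [Q_bar Q hu (hUu g.1 g.2) ((hW v.1).1 v.2.1).1]
        exact v.2.2⟩
      one_smul := fun v => Subtype.ext (by
        show bar Q f u (1 : ↥(Cfsg.Omega F ⇑Q)) v.1 = v.1
        exact bar_one Q ((hW v.1).1 v.2.1).2)
      mul_smul := fun g h v => Subtype.ext (by
        show bar Q f u (g.1 * h.1) v.1 = bar Q f u g.1 (bar Q f u h.1 v.1)
        exact bar_mul Q huf (hUu g.1 g.2) v.1) }
  have hcard : p ∣ Nat.card {v : ι → F // v ∈ W ∧ Q v = 0} :=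
    char_dvd_card_singular_sub Q p W (by omega)
  have h0 : (⟨0, W.zero_mem, by simp⟩ : {v : ι → F // v ∈ W ∧ Q v = 0}) ∈
      MulAction.fixedPoints ↥U _ := by
    intro g
    apply Subtype.ext
    show bar Q f u g.1 0 = 0
    unfold bar
    rw [map_zero]
    simp
  obtain ⟨b, hb, hne⟩ := hU.exists_fixed_point_of_prime_dvd_card_of_fixed_point _ hcard h0
  have hbW := (hW b.1).1 b.2.1
  refine ⟨b.1, fun h => hne (Subtype.ext h.symm), b.2.2, hbW.1, hbW.2, fun g hg => ?_⟩
  have h1 : bar Q f u g b.1 = b.1 := congrArg Subtype.val (hb ⟨g, hg⟩)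
  unfold bar at h1
  refine ⟨polar Q f (act Q g b.1), ?_⟩
  obtain ⟨c, hc⟩ : ∃ c, c = polar Q f (act Q g b.1) := ⟨_, rfl⟩
  rw [← hc] at h1 ⊢
  exact sub_eq_iff_eq_add.1 h1

end matrix

end Cfsg.Agent.Lib.Helper25.AutO
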