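import Cfsg.Agent.Lib.Helper25.AutO4

set_option autoImplicit false
set_option linter.unusedSectionVars false
set_option linter.unusedVariables false
set_option linter.unusedSimpArgs false

/-!
# Automorphisms of `PΩ(Q)`, part 5: `R_u` lies in every Sylow `p`-subgroup fixing `u`
-/

namespace Cfsg.Agent.Lib.Helper25.AutO

open Module QuadraticMap Matrix Cfsg.Agent.Lib.Helper25.CD Cfsg.Agent.Lib.Helper25.Siegel
  Cfsg.Agent.Lib.Helper5.NSMax Cfsg.Agent.Lib.Helper5.TSMax Cfsg.Agent.Lib.Helper25.PS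
  Cfsg.Agent.Lib.Helper25.Fam Cfsg.Agent.Lib.Helper25.MaxTS Cfsg.Agent.Lib.Helper15

/-- A `p`-subgroup normalised by a Sylow `p`-subgroup is contained in it. -/
theorem le_sylow_of_le_normalizer {G : Type*} [Group G] {p : ℕ} [Fact p.Prime] (P : Sylow p G)
    (N : Subgroup G) (hN : IsPGroup p N) (h : (P : Subgroup G) ≤ Subgroup.normalizer N) :
    N ≤ (P : Subgroup G) := by
  have h1 := P.is_maximal' (P.isPGroup'.to_sup_of_normal_right' hN h) le_sup_left
  exact h1 ▸ le_sup_right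

/-- The centre of a subgroup, as a subgroup of the ambient group. -/
def ZC {G : Type*} [Group G] (U : Subgroup G) : Subgroup G := U ⊓ Subgroup.centralizer (U : Set G)

theorem mem_ZC {G : Type*} [Group G] {U : Subgroup G} {z : G} :
    z ∈ ZC U ↔ z ∈ U ∧ ∀ g ∈ U, g * z = z * g := by
  unfold ZC
  rw [Subgroup.mem_inf, Subgroup.mem_centralizer_iff]
  rfl

section matrix

variable {ι : Type} [Fintype ι] [DecidableEq ι] {F : Type*} [Field F] [Fintype F]
  (Q : QuadraticForm F (ι → F))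

theorem RU_congr {u u' : ι → F} (h : u = u') (hu : Q u = 0) (hu' : Q u' = 0) :
    RU Q u hu = RU Q u' hu' := by
  subst h
  rfl

theorem act_pow_egen {u y : ι → F} (hu : Q u = 0) (huy : polar Q u y = 0)
    {g : ↥(Cfsg.Omega F ⇑Q)} (hg : ∀ x, act Q g x = egen Q u y x) (k : ℕ) (x : ι → F) :
    act Q (g ^ k) x = egen Q u (k • y) x := by
  induction k generalizing x with
  | zero => rw [pow_zero, act_one, zero_smul, egen_zero]
  | succ k ih =>
    have hk : polar Q u (k • y) = 0 := by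
      rw [← Nat.cast_smul_eq_nsmul F, polar_smul_right, huy, smul_zero]
    rw [pow_succ, act_mul, hg, ih, egen_add Q hu hk huy, succ_nsmul]

theorem RU_isPGroup (p : ℕ) [Fact p.Prime] [CharP F p] {u : ι → F} (hu : Q u = 0) :
    IsPGroup p (RU Q u hu) := by
  rintro ⟨g, y, hy, hg⟩
  refine ⟨1, ?_⟩
  apply Subtype.ext
  apply act_ext
  intro x
  rw [pow_one]
  show act Q (g ^ p) x = act Q 1 x
  rw [act_pow_egen Q hu hy hg, act_one]
  have : (p • y : ι → F) = 0 := by
    rw [← Nat.cast_smul_eq_nsmul F, CharP.cast_eq_zero F p, zero_smul]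
  rw [this, egen_zero]

/-- A Sylow `p`-subgroup fixing the singular vector `u` contains `R_u`. -/
theorem RU_le_sylow (p : ℕ) [Fact p.Prime] [CharP F p] (U : Sylow p ↥(Cfsg.Omega F ⇑Q))
    {u : ι → F} (hu : Q u = 0) (hUu : ∀ g ∈ (U : Subgroup ↥(Cfsg.Omega F ⇑Q)), act Q g u = u) :
    RU Q u hu ≤ (U : Subgroup ↥(Cfsg.Omega F ⇑Q)) := by
  apply le_sylow_of_le_normalizer U _ (RU_isPGroup Q p hu)
  intro k hk
  rw [Subgroup.mem_normalizer_iff]
  have hku := hUu k hk
  have hkiu : act Q k⁻¹ u = u := by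
    have := act_inv_act Q k u
    rw [hku] at this
    exact this
  intro g
  constructor
  · intro hg
    have := conj_mem_RU Q k hu hg
    rwa [RU_congr Q hku _ hu] at this
  · intro hg
    have := conj_mem_RU Q k⁻¹ hu hg
    rw [RU_congr Q hkiu _ hu] at this
    have e : k⁻¹ * (k * g * k⁻¹) * k⁻¹⁻¹ = g := by group
    rwa [e] at this

/-- The centre of a Sylow `p`-subgroup fixing `u` lies in `R_u`. -/
theorem ZC_le_RU (p : ℕ) [Fact p.Prime] [CharP F p] (hQ : (polarBilin Q).Nondegenerate)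
    (hn : 7 ≤ Fintype.card ι) (U : Sylow p ↥(Cfsg.Omega F ⇑Q))
    {u : ι → F} (hu0 : u ≠ 0) (hu : Q u = 0)
    (hUu : ∀ g ∈ (U : Subgroup ↥(Cfsg.Omega F ⇑Q)), act Q g u = u) :
    ZC (U : Subgroup ↥(Cfsg.Omega F ⇑Q)) ≤ RU Q u hu := by
  intro z hz
  rw [mem_ZC] at hz
  apply mem_RU_of_centralizes Q hQ hn hu0 hu z (hUu z hz.1)
  intro g hg
  exact (hz.2 g (RU_le_sylow Q p U hu hUu hg)).symm

end matrix

end Cfsg.Agent.Lib.Helper25.AutO
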