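import Cfsg.Agent.Lib.Helper25.AutO5

set_option autoImplicit false
set_option linter.unusedSectionVars false
set_option linter.unusedVariables false
set_option linter.unusedSimpArgs false

/-!
# Automorphisms of `PΩ(Q)`, part 6: the centre of a Sylow `p`-subgroup is a long root group
-/

namespace Cfsg.Agent.Lib.Helper25.AutO

open Module QuadraticMap Matrix Cfsg.Agent.Lib.Helper25.CD Cfsg.Agent.Lib.Helper25.Siegel
  Cfsg.Agent.Lib.Helper5.NSMax Cfsg.Agent.Lib.Helper5.TSMax Cfsg.Agent.Lib.Helper25.PS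
  Cfsg.Agent.Lib.Helper25.Fam Cfsg.Agent.Lib.Helper25.MaxTS Cfsg.Agent.Lib.Helper15

section general

variable {F : Type*} [Field F] {V : Type*} [AddCommGroup V] [Module F V] (Q : QuadraticForm F V)

/-- On `u^⊥`, the map `egen (w + d u) y` agrees with `egen w y` modulo `u`. -/
theorem egen_add_smul_left {u y : V} (w : V) (d : F) {v : V}
    (huv : polar Q u v = 0) :
    ∃ c : F, egen Q (w + d • u) y v = egen Q w y v + c • u := by
  unfold egen
  simp only [polar_add_left, polar_smul_left, huv, smul_eq_mul, mul_zero, add_zero]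
  refine ⟨-(polar Q y v) * d - Q y * polar Q w v * d, ?_⟩
  module

theorem polar_egen_perp {u w y v : V} (huw : polar Q u w = 0) (huy : polar Q u y = 0)
    (huv : polar Q u v = 0) : polar Q u (egen Q w y v) = 0 := by
  unfold egen
  simp only [polar_add_right, polar_smul_right, polar_sub_right, smul_eq_mul, huy, huw, huv]
  ring

theorem egen_perp_fix {u w y : V} (huw : polar Q u w = 0) (huy : polar Q u y = 0) :
    egen Q w y u = u := by
  apply egen_fix
  · rw [polar_comm]; exact huw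
  · rw [polar_comm]; exact huy

theorem siegF_add_smul {u w : V} (hu : Q u = 0) (d c : F) (x : V) :
    siegF Q u (w + d • u) c x = siegF Q u w c x := by
  unfold siegF
  simp only [polar_add_left, polar_smul_left, smul_eq_mul]
  module

end general

section matrix

variable {ι : Type} [Fintype ι] [DecidableEq ι] {F : Type*} [Field F] [Fintype F]
  (Q : QuadraticForm F (ι → F))

/-- The `p`-group `K₂` of elements acting on `u^⊥/u` as a generalised Siegel map centred
at `w`. -/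
def K2 (u w : ι → F) (hu : Q u = 0) (hw : Q w = 0) (huw : polar Q u w = 0) :
    Subgroup ↥(Cfsg.Omega F ⇑Q) where
  carrier := {g | act Q g u = u ∧ ∃ y, polar Q u y = 0 ∧ polar Q w y = 0 ∧
    ∀ v, polar Q u v = 0 → ∃ c : F, act Q g v = egen Q w y v + c • u}
  one_mem' := ⟨act_one Q u, 0, by simp, by simp, fun v _ => ⟨0, by
    rw [act_one, egen_zero, zero_smul, add_zero]⟩⟩
  mul_mem' := by
    rintro a b ⟨hau, y, hy, hwy, ha⟩ ⟨hbu, y', hy', hwy', hb⟩
    refine ⟨by rw [act_mul, hbu, hau], y + y', by rw [polar_add_right, hy, hy', add_zero],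
      by rw [polar_add_right, hwy, hwy', add_zero], fun v hv => ?_⟩
    obtain ⟨c', hc'⟩ := hb v hv
    obtain ⟨c, hc⟩ := ha (egen Q w y' v) (polar_egen_perp Q huw hy' hv)
    refine ⟨c + c', ?_⟩
    rw [act_mul, hc', map_add, map_smul, hau, hc, egen_add Q hw hwy hwy']
    module
  inv_mem' := by
    rintro a ⟨hau, y, hy, hwy, ha⟩
    have hau' : act Q a⁻¹ u = u := by
      have := act_inv_act Q a u
      rwa [hau] at this
    refine ⟨hau', -y, by rw [polar_neg_right, hy, neg_zero],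
      by rw [polar_neg_right, hwy, neg_zero], fun v hv => ?_⟩
    have hwy' : polar Q w (-y) = 0 := by rw [polar_neg_right, hwy, neg_zero]
    have hy' : polar Q u (-y) = 0 := by rw [polar_neg_right, hy, neg_zero]
    obtain ⟨c, hc⟩ := ha (egen Q w (-y) v) (polar_egen_perp Q huw hy' hv)
    rw [egen_neg Q hw hwy] at hc
    refine ⟨-c, ?_⟩
    have h1 : act Q a⁻¹ (act Q a (egen Q w (-y) v)) = act Q a⁻¹ (v + c • u) := by rw [hc]
    rw [act_inv_act, map_add, map_smul, hau'] at h1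
    rw [h1]
    module

theorem mem_K2 {u w : ι → F} {hu : Q u = 0} {hw : Q w = 0} {huw : polar Q u w = 0}
    {g : ↥(Cfsg.Omega F ⇑Q)} :
    g ∈ K2 Q u w hu hw huw ↔ act Q g u = u ∧ ∃ y, polar Q u y = 0 ∧ polar Q w y = 0 ∧
      ∀ v, polar Q u v = 0 → ∃ c : F, act Q g v = egen Q w y v + c • u := Iff.rfl

theorem K2_pow {u w : ι → F} (hu : Q u = 0) (hw : Q w = 0) (huw : polar Q u w = 0)
    {g : ↥(Cfsg.Omega F ⇑Q)} (hgu : act Q g u = u) {y : ι → F} (hy : polar Q u y = 0)
    (hwy : polar Q w y = 0)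
    (hg : ∀ v, polar Q u v = 0 → ∃ c : F, act Q g v = egen Q w y v + c • u) (k : ℕ) :
    act Q (g ^ k) u = u ∧
      ∀ v, polar Q u v = 0 → ∃ c : F, act Q (g ^ k) v = egen Q w (k • y) v + c • u := by
  induction k with
  | zero =>
    refine ⟨by rw [pow_zero, act_one], fun v _ => ⟨0, ?_⟩⟩
    rw [pow_zero, act_one, zero_smul, egen_zero, zero_smul, add_zero]
  | succ k ih =>
    refine ⟨by rw [pow_succ, act_mul, hgu, ih.1], fun v hv => ?_⟩
    obtain ⟨c', hc'⟩ := hg v hv
    have hky : polar Q u (k • y) = 0 := by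
      rw [← Nat.cast_smul_eq_nsmul F, polar_smul_right, hy, smul_zero]
    have hwky : polar Q w (k • y) = 0 := by
      rw [← Nat.cast_smul_eq_nsmul F, polar_smul_right, hwy, smul_zero]
    obtain ⟨c, hc⟩ := ih.2 (egen Q w y v) (polar_egen_perp Q huw hy hv)
    refine ⟨c + c', ?_⟩
    rw [pow_succ, act_mul, hc', map_add, map_smul, ih.1, hc, egen_add Q hw hwky hwy, succ_nsmul]
    module

theorem K2_isPGroup (p : ℕ) [Fact p.Prime] [CharP F p] (hQ : (polarBilin Q).Nondegenerate)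
    {u w : ι → F} (hu0 : u ≠ 0) (hu : Q u = 0) (hw : Q w = 0)
    (huw : polar Q u w = 0) : IsPGroup p (K2 Q u w hu hw huw) := by
  intro g
  obtain ⟨hgu, y, hy, hwy, hg⟩ := g.2
  have h1 := K2_pow Q hu hw huw hgu hy hwy hg p
  have hp0 : (p • y : ι → F) = 0 := by
    rw [← Nat.cast_smul_eq_nsmul F, CharP.cast_eq_zero F p, zero_smul]
  rw [hp0] at h1
  have h2 : g.1 ^ p ∈ RU Q u hu := by
    apply mem_RU_of_trivial Q hQ hu0 hu _ h1.1
    intro v hv
    obtain ⟨c, hc⟩ := h1.2 v hv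
    rw [egen_zero] at hc
    exact ⟨c, hc⟩
  obtain ⟨k, hk⟩ := RU_isPGroup Q p hu ⟨g.1 ^ p, h2⟩
  refine ⟨k + 1, ?_⟩
  apply Subtype.ext
  have h3 : (g.1 ^ p) ^ p ^ k = 1 := by
    have := congrArg Subtype.val hk
    simpa using this
  rw [← pow_mul, ← pow_succ'] at h3
  simpa using h3

theorem EG_mem_K2 (hQ : (polarBilin Q).Nondegenerate) (hn : 7 ≤ Fintype.card ι)
    {u w y : ι → F} (hu : Q u = 0) (hw0 : w ≠ 0) (hw : Q w = 0) (huw : polar Q u w = 0)
    (hy : polar Q u y = 0) (hwy : polar Q w y = 0) :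
    EG Q hQ hn hw0 hw hwy ∈ K2 Q u w hu hw huw := by
  refine ⟨?_, y, hy, hwy, fun v _ => ⟨0, ?_⟩⟩
  · rw [act_EG, egen_perp_fix Q huw hy]
  · rw [act_EG, zero_smul, add_zero]

/-- A Sylow `p`-subgroup fixing `u` and fixing `w` modulo `u` contains `K₂`. -/
theorem K2_le_sylow (p : ℕ) [Fact p.Prime] [CharP F p] (hQ : (polarBilin Q).Nondegenerate)
    (U : Sylow p ↥(Cfsg.Omega F ⇑Q))
    {u w : ι → F} (hu0 : u ≠ 0) (hu : Q u = 0) (hw : Q w = 0) (huw : polar Q u w = 0)
    (hUu : ∀ g ∈ (U : Subgroup ↥(Cfsg.Omega F ⇑Q)), act Q g u = u)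
    (hUw : ∀ g ∈ (U : Subgroup ↥(Cfsg.Omega F ⇑Q)), ∃ c : F, act Q g w = w + c • u) :
    K2 Q u w hu hw huw ≤ (U : Subgroup ↥(Cfsg.Omega F ⇑Q)) := by
  apply le_sylow_of_le_normalizer U _ (K2_isPGroup Q p hQ hu0 hu hw huw)
  have key : ∀ k ∈ (U : Subgroup ↥(Cfsg.Omega F ⇑Q)), ∀ g ∈ K2 Q u w hu hw huw,
      k * g * k⁻¹ ∈ K2 Q u w hu hw huw := by
    rintro k hk g ⟨hgu, y, hy, hwy, hg⟩
    have hku := hUu k hk
    have hkiu : act Q k⁻¹ u = u := by
      have := act_inv_act Q k u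
      rwa [hku] at this
    obtain ⟨d, hd⟩ := hUw k hk
    obtain ⟨d', hd'⟩ := hUw k⁻¹ (inv_mem hk)
    have hy1 : polar Q u (act Q k y) = 0 := by
      have := polar_act Q k u y
      rw [hku] at this
      rw [this, hy]
    have hy2 : polar Q w (act Q k y) = 0 := by
      rw [polar_comm, ← polar_act Q k⁻¹ (act Q k y) w, act_inv_act, hd', polar_add_right,
        polar_smul_right, polar_comm Q y w, hwy, polar_comm Q y u, hy]
      simp
    refine ⟨by rw [act_mul, act_mul, hkiu, hgu, hku], act Q k y, hy1, hy2, fun v hv => ?_⟩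
    have hv' : polar Q u (act Q k⁻¹ v) = 0 := by
      rw [← polar_act Q k u (act Q k⁻¹ v), act_act_inv, hku, hv]
    obtain ⟨c, hc⟩ := hg _ hv'
    obtain ⟨c', hc'⟩ := egen_add_smul_left Q (u := u) (y := act Q k y) w d hv
    refine ⟨c' + c, ?_⟩
    rw [act_mul, act_mul, hc, map_add, map_smul, hku, egen_conj Q (Q_act Q k), act_act_inv, hd,
      hc']
    module
  intro k hk
  rw [Subgroup.mem_normalizer_iff]
  intro g
  constructor
  · exact key k hk g
  · intro hg
    have := key k⁻¹ (inv_mem hk) _ hg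
    have e : k⁻¹ * (k * g * k⁻¹) * k⁻¹⁻¹ = g := by group
    rwa [e] at this

/-- The long root group `X_{u,w}` is central in a Sylow `p`-subgroup fixing `u` and fixing `w`
modulo `u`. -/
theorem XL_le_ZC (p : ℕ) [Fact p.Prime] [CharP F p]
    (U : Sylow p ↥(Cfsg.Omega F ⇑Q))
    {u w : ι → F} (hu : Q u = 0) (hw : Q w = 0) (huw : polar Q u w = 0)
    (hUu : ∀ g ∈ (U : Subgroup ↥(Cfsg.Omega F ⇑Q)), act Q g u = u)
    (hUw : ∀ g ∈ (U : Subgroup ↥(Cfsg.Omega F ⇑Q)), ∃ c : F, act Q g w = w + c • u) :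
    XL Q u w hu hw huw ≤ ZC (U : Subgroup ↥(Cfsg.Omega F ⇑Q)) := by
  intro z hz
  rw [mem_ZC]
  refine ⟨RU_le_sylow Q p U hu hUu (XL_le_RU Q hu hw huw hz), fun g hg => ?_⟩
  obtain ⟨c, hc⟩ := hz
  obtain ⟨d, hd⟩ := hUw g hg
  have h1 : ∀ x, act Q z x = egen Q u (c • w) x := fun x => by rw [hc, egen_sing Q hw]
  have h2 : g * z * g⁻¹ = z := by
    apply act_ext
    intro x
    rw [conj_act_egen Q g z h1, hUu g hg, map_smul, hd, smul_add, smul_smul,
      egen_add_smul Q hu (by rw [polar_smul_right, huw, smul_zero]), h1]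
  calc g * z = g * z * g⁻¹ * g := by group
    _ = z * g := by rw [h2]

/-- The centre of a Sylow `p`-subgroup is a long root group. -/
theorem ZC_eq_XL (p : ℕ) [Fact p.Prime] [CharP F p] (hQ : (polarBilin Q).Nondegenerate)
    (hn : 7 ≤ Fintype.card ι) (U : Sylow p ↥(Cfsg.Omega F ⇑Q))
    {u f w : ι → F} (hu0 : u ≠ 0) (hu : Q u = 0) (hf : Q f = 0) (huf : polar Q u f = 1)
    (hw0 : w ≠ 0) (hw : Q w = 0) (huw : polar Q u w = 0) (hfw : polar Q f w = 0)
    (hUu : ∀ g ∈ (U : Subgroup ↥(Cfsg.Omega F ⇑Q)), act Q g u = u)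
    (hUw : ∀ g ∈ (U : Subgroup ↥(Cfsg.Omega F ⇑Q)), ∃ c : F, act Q g w = w + c • u) :
    ZC (U : Subgroup ↥(Cfsg.Omega F ⇑Q)) = XL Q u w hu hw huw := by
  apply le_antisymm _ (XL_le_ZC Q p U hu hw huw hUu hUw)
  intro z hz
  obtain ⟨yz, hyz, hzy⟩ := ZC_le_RU Q p hQ hn U hu0 hu hUu hz
  rw [mem_ZC] at hz
  -- the vector `yz` is fixed modulo `u` by all of `U`
  have hfix : ∀ g ∈ (U : Subgroup ↥(Cfsg.Omega F ⇑Q)),
      act Q g yz - yz ∈ Submodule.span F {u} := by
    intro g hg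
    have h2 : g * z * g⁻¹ = z := by
      rw [hz.2 g hg, mul_inv_cancel_right]
    have h3 := conj_act_egen Q g z hzy f
    rw [h2, hzy, hUu g hg] at h3
    exact sub_mem_of_egen_eq Q huf h3.symm
  have hK := K2_le_sylow Q p hQ U hu0 hu hw huw hUu hUw
  have key : ∀ y, polar Q u y = 0 → polar Q w y = 0 →
      ∃ c : F, c • u = polar Q w yz • y - (polar Q y yz + Q y * polar Q w yz) • w := by
    intro y hy hwy
    have h1 := hfix _ (hK (EG_mem_K2 Q hQ hn hu hw0 hw huw hy hwy))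
    rw [act_EG] at h1
    obtain ⟨c, hc⟩ := Submodule.mem_span_singleton.1 h1
    refine ⟨c, ?_⟩
    rw [hc]
    unfold egen
    module
  obtain ⟨w₁, w₁', hw₁, hw₁', hww', huw₁, hww₁, huw₁', hww₁'⟩ :=
    OGeom.exists_hyp_perp Q hQ (by rw [finrank_fun]; exact hn) hu hw huw
  have hwyz : polar Q w yz = 0 := by
    obtain ⟨c, hc⟩ := key w₁ huw₁ hww₁
    have h1 := congrArg (polar Q w₁') hc
    rw [polar_smul_right, polar_sub_right, polar_smul_right, polar_smul_right,
      polar_comm Q w₁' u, huw₁', polar_comm Q w₁' w, hww₁', polar_comm Q w₁' w₁, hww'] at h1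
    simpa using h1.symm
  have hall : ∀ y, polar Q u y = 0 → polar Q w y = 0 → polar Q y yz = 0 := by
    intro y hy hwy
    obtain ⟨c, hc⟩ := key y hy hwy
    rw [hwyz, zero_smul, mul_zero, add_zero, zero_sub] at hc
    have h1 := congrArg (polar Q f) hc
    rw [polar_smul_right, polar_neg_right, polar_smul_right, polar_comm Q f u, huf, hfw] at h1
    have hc0 : c = 0 := by simpa using h1
    rw [hc0, zero_smul] at hc
    have h2 : polar Q y yz • w = 0 := by
      have := congrArg Neg.neg hc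
      simpa using this.symm
    exact (smul_eq_zero.1 h2).resolve_right hw0
  have hmem : yz ∈ Submodule.span F ({u, w} : Set (ι → F)) := by
    rw [← perp_perp hQ (Submodule.span F ({u, w} : Set (ι → F))), MaxTS.mem_perp]
    intro y hy
    rw [MaxTS.mem_perp] at hy
    apply hall y
    · exact hy u (Submodule.subset_span (by simp))
    · exact hy w (Submodule.subset_span (by simp))
  obtain ⟨a, b, hab⟩ := Submodule.mem_span_pair.1 hmem
  refine ⟨b, fun x => ?_⟩
  rw [hzy, ← hab, add_comm, egen_add_smul Q hu (by rw [polar_smul_right, huw, smul_zero]),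
    egen_sing Q hw]

end matrix

end Cfsg.Agent.Lib.Helper25.AutO
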