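import Cfsg.Agent.Lib.Helper25.AutO6

set_option autoImplicit false
set_option linter.unusedSectionVars false
set_option linter.unusedVariables false
set_option linter.unusedSimpArgs false

/-!
# Automorphisms of `PΩ(Q)`, part 7: the abstract skeleton

Group-theoretic predicates on the set of centres of Sylow `p`-subgroups, invariant under all
automorphisms, that will recover the groups `R_u`.
-/

namespace Cfsg.Agent.Lib.Helper25.AutO

section abstract

variable {G : Type*} [Group G]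

/-- The image of a subgroup under an automorphism. -/
abbrev mp (e : G ≃* G) (X : Subgroup G) : Subgroup G := X.map e.toMonoidHom

theorem mem_mp {e : G ≃* G} {X : Subgroup G} {x : G} : x ∈ mp e X ↔ e.symm x ∈ X :=
  Subgroup.mem_map_equiv

theorem apply_mem_mp {e : G ≃* G} {X : Subgroup G} {x : G} : e x ∈ mp e X ↔ x ∈ X := by
  rw [mem_mp, MulEquiv.symm_apply_apply]

theorem mp_symm_mp (e : G ≃* G) (X : Subgroup G) : mp e.symm (mp e X) = X := by
  ext x
  rw [mem_mp, mem_mp, MulEquiv.symm_symm, MulEquiv.symm_apply_apply]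

theorem mp_mp_symm (e : G ≃* G) (X : Subgroup G) : mp e (mp e.symm X) = X := by
  ext x
  rw [mem_mp, mem_mp, MulEquiv.symm_symm, MulEquiv.apply_symm_apply]

theorem mp_injective (e : G ≃* G) : Function.Injective (mp e) := by
  intro X Y h
  have := congrArg (mp e.symm) h
  rwa [mp_symm_mp, mp_symm_mp] at this

theorem ZC_mp (e : G ≃* G) (U : Subgroup G) : ZC (mp e U) = mp e (ZC U) := by
  ext x
  rw [mem_mp, mem_ZC, mem_ZC, mem_mp]
  constructor
  · rintro ⟨h1, h2⟩
    refine ⟨h1, fun g hg => ?_⟩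
    have := h2 (e g) (apply_mem_mp.2 hg)
    have h3 := congrArg e.symm this
    rwa [map_mul, map_mul, MulEquiv.symm_apply_apply] at h3
  · rintro ⟨h1, h2⟩
    refine ⟨h1, fun g hg => ?_⟩
    have := h2 (e.symm g) (mem_mp.1 hg)
    have h3 := congrArg e this
    rwa [map_mul, map_mul, MulEquiv.apply_symm_apply, MulEquiv.apply_symm_apply] at h3

/-- The centres of the Sylow `p`-subgroups. -/
def rootSub (p : ℕ) (G : Type*) [Group G] : Set (Subgroup G) :=
  {X | ∃ U : Sylow p G, X = ZC (U : Subgroup G)}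

theorem rootSub_mp (p : ℕ) [Fact p.Prime] [Finite G] (e : G ≃* G) {X : Subgroup G}
    (hX : X ∈ rootSub p G) : mp e X ∈ rootSub p G := by
  obtain ⟨U, rfl⟩ := hX
  refine ⟨U.mapSurjective (f := e.toMonoidHom)
    (show Function.Surjective e.toMonoidHom from e.surjective), ?_⟩
  rw [Sylow.coe_mapSurjective, ← ZC_mp]

/-- A set of subgroups stable under all automorphisms. -/
def AutInv (R : Set (Subgroup G)) : Prop := ∀ e : G ≃* G, ∀ X ∈ R, mp e X ∈ R

theorem rootSub_autInv (p : ℕ) [Fact p.Prime] [Finite G] : AutInv (rootSub p G) :=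
  fun e _ hX => rootSub_mp p e hX

/-- Elementwise commuting subgroups. -/
def Comm (X Y : Subgroup G) : Prop := ∀ x ∈ X, ∀ y ∈ Y, x * y = y * x

theorem Comm.img {X Y : Subgroup G} (h : Comm X Y) (e : G ≃* G) : Comm (mp e X) (mp e Y) := by
  intro x hx y hy
  have := h _ (mem_mp.1 hx) _ (mem_mp.1 hy)
  have h3 := congrArg e this
  rwa [map_mul, map_mul, MulEquiv.apply_symm_apply, MulEquiv.apply_symm_apply] at h3

/-- Adjacent root subgroups: distinct, commuting, and all nonidentity products are root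
elements. -/
def Adj (R : Set (Subgroup G)) (X Y : Subgroup G) : Prop :=
  X ≠ Y ∧ Comm X Y ∧ ∀ x ∈ X, ∀ y ∈ Y, x * y ≠ 1 → ∃ Z ∈ R, x * y ∈ Z

theorem Adj.img {R : Set (Subgroup G)} (hR : AutInv R) {X Y : Subgroup G} (h : Adj R X Y)
    (e : G ≃* G) : Adj R (mp e X) (mp e Y) := by
  refine ⟨fun h' => h.1 (mp_injective e h'), h.2.1.img e, fun x hx y hy hxy => ?_⟩
  have h1 : e.symm x * e.symm y ≠ 1 := by
    intro h'
    apply hxy
    have := congrArg e h'
    rwa [map_mul, MulEquiv.apply_symm_apply, MulEquiv.apply_symm_apply, map_one] at this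
  obtain ⟨Z, hZ, hxyZ⟩ := h.2.2 _ (mem_mp.1 hx) _ (mem_mp.1 hy) h1
  refine ⟨mp e Z, hR e Z hZ, ?_⟩
  rw [mem_mp, map_mul]
  exact hxyZ

theorem Adj_mp_iff {R : Set (Subgroup G)} (hR : AutInv R) {X Y : Subgroup G} (e : G ≃* G) :
    Adj R (mp e X) (mp e Y) ↔ Adj R X Y := by
  constructor
  · intro h
    have := h.img hR e.symm
    rwa [mp_symm_mp, mp_symm_mp] at this
  · intro h
    exact h.img hR e

/-- The subgroup generated by the root subgroups equal or adjacent to `X`. -/
def TT (R : Set (Subgroup G)) (X : Subgroup G) : Subgroup G :=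
  Subgroup.closure {g | ∃ Y ∈ R, (Y = X ∨ Adj R X Y) ∧ g ∈ Y}

theorem TT_mp_le {R : Set (Subgroup G)} (hR : AutInv R) (X : Subgroup G) (e : G ≃* G) :
    mp e (TT R X) ≤ TT R (mp e X) := by
  unfold TT mp
  rw [MonoidHom.map_closure, Subgroup.closure_le]
  rintro _ ⟨g, ⟨Y, hY, hXY, hg⟩, rfl⟩
  apply Subgroup.subset_closure
  refine ⟨mp e Y, hR e Y hY, ?_, apply_mem_mp.2 hg⟩
  rcases hXY with h | h
  · left; rw [h]
  · right; exact h.img hR e

theorem TT_mp {R : Set (Subgroup G)} (hR : AutInv R) (X : Subgroup G) (e : G ≃* G) :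
    mp e (TT R X) = TT R (mp e X) := by
  apply le_antisymm (TT_mp_le hR X e)
  have := TT_mp_le hR (mp e X) e.symm
  rw [mp_symm_mp] at this
  intro x hx
  rw [mem_mp]
  apply this
  rw [mem_mp, MulEquiv.symm_symm, MulEquiv.apply_symm_apply]
  exact hx

/-- The relation that will characterise pairs of lines meeting in a point and not
perpendicular. -/
def AA (R : Set (Subgroup G)) (X Y : Subgroup G) : Prop :=
  X ≠ Y ∧ Comm X Y ∧ ¬ Adj R X Y ∧
    ∀ g ∈ TT R X, ∀ g' ∈ TT R X, (∀ y ∈ Y, g * y = y * g) → (∀ y ∈ Y, g' * y = y * g') →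
      g * g' = g' * g

theorem AA.img {R : Set (Subgroup G)} (hR : AutInv R) {X Y : Subgroup G} (h : AA R X Y)
    (e : G ≃* G) : AA R (mp e X) (mp e Y) := by
  refine ⟨fun h' => h.1 (mp_injective e h'), h.2.1.img e, fun h' => h.2.2.1 ((Adj_mp_iff hR e).1 h'),
    fun g hg g' hg' hc hc' => ?_⟩
  rw [← TT_mp hR X e] at hg hg'
  have h1 : ∀ g : G, (∀ y ∈ mp e Y, g * y = y * g) → ∀ y ∈ Y, e.symm g * y = y * e.symm g := by
    intro g hc y hy
    have := hc (e y) (apply_mem_mp.2 hy)
    have h3 := congrArg e.symm this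
    rwa [map_mul, map_mul, MulEquiv.symm_apply_apply] at h3
  have := h.2.2.2 _ (mem_mp.1 hg) _ (mem_mp.1 hg') (h1 g hc) (h1 g' hc')
  have h3 := congrArg e this
  rwa [map_mul, map_mul, MulEquiv.apply_symm_apply, MulEquiv.apply_symm_apply] at h3

theorem AA_mp_iff {R : Set (Subgroup G)} (hR : AutInv R) {X Y : Subgroup G} (e : G ≃* G) :
    AA R (mp e X) (mp e Y) ↔ AA R X Y := by
  constructor
  · intro h
    have := h.img hR e.symm
    rwa [mp_symm_mp, mp_symm_mp] at this
  · intro h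
    exact h.img hR e

/-- The relation that will characterise intersecting lines. -/
def Mt (R : Set (Subgroup G)) (X Y : Subgroup G) : Prop := X = Y ∨ Adj R X Y ∨ AA R X Y

theorem Mt.img {R : Set (Subgroup G)} (hR : AutInv R) {X Y : Subgroup G} (h : Mt R X Y)
    (e : G ≃* G) : Mt R (mp e X) (mp e Y) := by
  rcases h with h | h | h
  · left; rw [h]
  · right; left; exact h.img hR e
  · right; right; exact h.img hR e

/-- The subgroup generated by the root subgroups meeting both `X` and `Y`. -/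
def Pt (R : Set (Subgroup G)) (X Y : Subgroup G) : Subgroup G :=
  Subgroup.closure {g | ∃ Z ∈ R, Mt R Z X ∧ Mt R Z Y ∧ g ∈ Z}

theorem Pt_mp_le {R : Set (Subgroup G)} (hR : AutInv R) (X Y : Subgroup G) (e : G ≃* G) :
    mp e (Pt R X Y) ≤ Pt R (mp e X) (mp e Y) := by
  unfold Pt mp
  rw [MonoidHom.map_closure, Subgroup.closure_le]
  rintro _ ⟨g, ⟨Z, hZ, hZX, hZY, hg⟩, rfl⟩
  apply Subgroup.subset_closure
  exact ⟨mp e Z, hR e Z hZ, hZX.img hR e, hZY.img hR e, apply_mem_mp.2 hg⟩

theorem Pt_mp {R : Set (Subgroup G)} (hR : AutInv R) (X Y : Subgroup G) (e : G ≃* G) :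
    mp e (Pt R X Y) = Pt R (mp e X) (mp e Y) := by
  apply le_antisymm (Pt_mp_le hR X Y e)
  have := Pt_mp_le hR (mp e X) (mp e Y) e.symm
  rw [mp_symm_mp, mp_symm_mp] at this
  intro x hx
  rw [mem_mp]
  apply this
  rw [mem_mp, MulEquiv.symm_symm, MulEquiv.apply_symm_apply]
  exact hx

/-- The "point subgroups". -/
def Pts (R : Set (Subgroup G)) : Set (Subgroup G) :=
  {P | ∃ X ∈ R, ∃ Y ∈ R, AA R X Y ∧ P = Pt R X Y}

/-- The point subgroups are permuted by every automorphism. -/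
theorem Pts_mp {R : Set (Subgroup G)} (hR : AutInv R) {P : Subgroup G} (hP : P ∈ Pts R)
    (e : G ≃* G) : mp e P ∈ Pts R := by
  obtain ⟨X, hX, Y, hY, hXY, rfl⟩ := hP
  exact ⟨mp e X, hR e X hX, mp e Y, hR e Y hY, hXY.img hR e, Pt_mp hR X Y e⟩

end abstract

end Cfsg.Agent.Lib.Helper25.AutO
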