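import Cfsg.Agent.Lib.Helper25.AutO7

set_option autoImplicit false
set_option linter.unusedSectionVars false
set_option linter.unusedVariables false
set_option linter.unusedSimpArgs false

/-!
# Automorphisms of `PΩ(Q)`, part 8: `p`-elements in a quotient by a central `p'`-subgroup
-/

namespace Cfsg.Agent.Lib.Helper25.AutO

section quot

variable {G : Type*} [Group G] (p : ℕ)

/-- The centre has no nontrivial `p`-elements. -/
def CenterP' (p : ℕ) (G : Type*) [Group G] : Prop :=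
  ∀ z ∈ Subgroup.center G, ∀ k : ℕ, z ^ (p ^ k) = 1 → z = 1

/-- The projection to the central quotient. -/
abbrev prZ (G : Type*) [Group G] : G →* G ⧸ Subgroup.center G :=
  QuotientGroup.mk' (Subgroup.center G)

theorem prZ_surjective : Function.Surjective (prZ G) := QuotientGroup.mk'_surjective _

theorem prZ_eq_iff {x y : G} : prZ G x = prZ G y ↔ x⁻¹ * y ∈ Subgroup.center G :=
  QuotientGroup.eq

/-- `p`-elements commuting modulo the centre commute. -/
theorem comm_of_prZ_comm (hZ : CenterP' p G) {x y : G} {k : ℕ} (hy : y ^ (p ^ k) = 1)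
    (h : prZ G x * prZ G y = prZ G y * prZ G x) : x * y = y * x := by
  rw [← map_mul, ← map_mul, prZ_eq_iff] at h
  obtain ⟨ζ, hζ⟩ : ∃ ζ, ζ = (x * y)⁻¹ * (y * x) := ⟨_, rfl⟩
  rw [← hζ] at h
  have hc : Commute y ζ := Subgroup.mem_center_iff.1 h y
  have h1 : x⁻¹ * y * x = y * ζ := by rw [hζ]; group
  have h2 : (x⁻¹ * y * x) ^ (p ^ k) = 1 := by
    have : x⁻¹ * y * x = x⁻¹ * y * x⁻¹⁻¹ := by rw [inv_inv]
    rw [this, conj_pow, hy]
    group
  rw [h1, hc.mul_pow, hy, one_mul] at h2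
  have h3 := hZ ζ h k h2
  rw [h3] at hζ
  have : x * y * 1 = x * y * ((x * y)⁻¹ * (y * x)) := by rw [← hζ]
  rw [mul_one, mul_inv_cancel_left] at this
  exact this

/-- The projection to the central quotient is injective on `p`-elements. -/
theorem eq_of_prZ_eq (hZ : CenterP' p G) {x y : G} {k l : ℕ} (hx : x ^ (p ^ k) = 1)
    (hy : y ^ (p ^ l) = 1) (h : prZ G x = prZ G y) : x = y := by
  rw [prZ_eq_iff] at h
  obtain ⟨ζ, hζ⟩ : ∃ ζ, ζ = x⁻¹ * y := ⟨_, rfl⟩
  rw [← hζ] at h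
  have hc : Commute x ζ := Subgroup.mem_center_iff.1 h x
  have h1 : y = x * ζ := by rw [hζ]; group
  have hx' : x ^ (p ^ (k + l)) = 1 := by rw [pow_add, pow_mul, hx, one_pow]
  have hy' : y ^ (p ^ (k + l)) = 1 := by rw [pow_add, mul_comm, pow_mul, hy, one_pow]
  rw [h1, hc.mul_pow, hx', one_mul] at hy'
  have h3 := hZ ζ h _ hy'
  rw [h1, h3, mul_one]

theorem ne_one_of_prZ (hZ : CenterP' p G) {x : G} {k : ℕ} (hx : x ^ (p ^ k) = 1)
    (h : x ≠ 1) : prZ G x ≠ 1 := by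
  intro h'
  apply h
  apply eq_of_prZ_eq p hZ hx (l := 0) (by simp)
  rw [h', map_one]

/-- The centre of the image of a `p`-subgroup. -/
theorem ZC_map_prZ (hZ : CenterP' p G) {U : Subgroup G} (hU : IsPGroup p U) :
    ZC (U.map (prZ G)) = (ZC U).map (prZ G) := by
  ext x
  rw [mem_ZC, Subgroup.mem_map, Subgroup.mem_map]
  constructor
  · rintro ⟨⟨x₀, hx₀, rfl⟩, h2⟩
    refine ⟨x₀, ?_, rfl⟩
    rw [mem_ZC]
    refine ⟨hx₀, fun g hg => ?_⟩
    obtain ⟨k, hk⟩ := hU ⟨x₀, hx₀⟩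
    have hk' : x₀ ^ (p ^ k) = 1 := by
      have := congrArg Subtype.val hk
      simpa using this
    exact comm_of_prZ_comm p hZ hk' (h2 _ (Subgroup.mem_map_of_mem _ hg))
  · rintro ⟨x₀, hx₀, rfl⟩
    rw [mem_ZC] at hx₀
    refine ⟨⟨x₀, hx₀.1, rfl⟩, ?_⟩
    rintro _ ⟨g, hg, rfl⟩
    rw [← map_mul, ← map_mul, hx₀.2 g hg]

/-- The root subgroups of the central quotient are the images of the root subgroups. -/
theorem rootSub_quot [Fact p.Prime] [Finite G] (hZ : CenterP' p G) :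
    rootSub p (G ⧸ Subgroup.center G) = (fun X => X.map (prZ G)) '' rootSub p G := by
  ext X
  constructor
  · rintro ⟨U', rfl⟩
    obtain ⟨U, rfl⟩ := Sylow.mapSurjective_surjective (prZ_surjective (G := G)) p U'
    refine ⟨ZC (U : Subgroup G), ⟨U, rfl⟩, ?_⟩
    show (ZC (U : Subgroup G)).map (prZ G) = _
    rw [Sylow.coe_mapSurjective, ZC_map_prZ p hZ U.isPGroup']
  · rintro ⟨X₀, ⟨U, rfl⟩, rfl⟩
    refine ⟨U.mapSurjective (prZ_surjective (G := G)), ?_⟩
    show (ZC (U : Subgroup G)).map (prZ G) = _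
    rw [Sylow.coe_mapSurjective, ZC_map_prZ p hZ U.isPGroup']

end quot

end Cfsg.Agent.Lib.Helper25.AutO
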