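import Cfsg.Agent.Lib.Helper25.AutO8

set_option autoImplicit false
set_option linter.unusedSectionVars false
set_option linter.unusedVariables false
set_option linter.unusedSimpArgs false

/-!
# Automorphisms of `PΩ(Q)`, part 9: totally singular lines and their root groups
-/

namespace Cfsg.Agent.Lib.Helper25.AutO

open Module QuadraticMap Matrix Cfsg.Agent.Lib.Helper25.CD Cfsg.Agent.Lib.Helper25.Siegel
  Cfsg.Agent.Lib.Helper5.NSMax Cfsg.Agent.Lib.Helper5.TSMax Cfsg.Agent.Lib.Helper25.PS
  Cfsg.Agent.Lib.Helper25.Fam Cfsg.Agent.Lib.Helper25.MaxTS Cfsg.Agent.Lib.Helper15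

section general

variable {F : Type*} [Field F] {V : Type*} [AddCommGroup V] [Module F V] (Q : QuadraticForm F V)

/-- The Siegel map depends only on the bivector `u ∧ v`. -/
theorem siegF_lin (u v : V) (a b c d t : F) (x : V) :
    siegF Q (a • u + b • v) (c • u + d • v) t x = siegF Q u v (t * (a * d - b * c)) x := by
  unfold siegF
  simp only [polar_add_left, polar_smul_left, smul_eq_mul]
  module

/-- `u, v` is a basis of a totally singular line. -/
structure TSL (u v : V) : Prop where
  hu : Q u = 0
  hv : Q v = 0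
  huv : polar Q u v = 0
  ind : ∀ a b : F, a • u + b • v = 0 → a = 0 ∧ b = 0

theorem TSL.ne_zero_left {u v : V} (h : TSL Q u v) : u ≠ 0 := by
  intro h0
  have := h.ind 1 0 (by rw [h0]; simp)
  exact one_ne_zero this.1

theorem TSL.ne_zero_right {u v : V} (h : TSL Q u v) : v ≠ 0 := by
  intro h0
  have := h.ind 0 1 (by rw [h0]; simp)
  exact one_ne_zero this.2

theorem TSL.symm {u v : V} (h : TSL Q u v) : TSL Q v u :=
  ⟨h.hv, h.hu, by rw [polar_comm]; exact h.huv, fun a b hab => by
    have := h.ind b a (by rw [add_comm]; exact hab)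
    exact ⟨this.2, this.1⟩⟩

theorem TSL.ts {u v : V} (h : TSL Q u v) : TS Q (Submodule.span F ({u, v} : Set V)) :=
  OGeom.ts_span_pair Q h.hu h.hv h.huv

theorem TSL.mk' {u v : V} (hu0 : u ≠ 0) (hu : Q u = 0) (hv : Q v = 0) (huv : polar Q u v = 0)
    (hv' : v ∉ Submodule.span F {u}) : TSL Q u v := by
  refine ⟨hu, hv, huv, fun a b hab => ?_⟩
  by_cases hb : b = 0
  · subst hb
    rw [zero_smul, add_zero] at hab
    exact ⟨(smul_eq_zero.1 hab).resolve_right hu0, rfl⟩
  · exfalso
    apply hv'
    rw [Submodule.mem_span_singleton]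
    refine ⟨-(b⁻¹ * a), ?_⟩
    have h1 : b • v = -(a • u) := by
      rw [eq_neg_iff_add_eq_zero, add_comm]; exact hab
    have h2 : v = b⁻¹ • (b • v) := by rw [smul_smul, inv_mul_cancel₀ hb, one_smul]
    rw [h2, h1]
    module

theorem TSL.not_mem {u v : V} (h : TSL Q u v) : v ∉ Submodule.span F {u} := by
  intro hv
  obtain ⟨c, hc⟩ := Submodule.mem_span_singleton.1 hv
  have := h.ind c (-1) (by rw [hc]; module)
  have h2 := this.2
  simp at h2

/-- A second basis of the same line. -/
theorem TSL.det_ne_zero {u v : V} (h : TSL Q u v) {a b c d : F}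
    (h' : ∀ s t : F, s • (a • u + b • v) + t • (c • u + d • v) = 0 → s = 0 ∧ t = 0) :
    a * d - b * c ≠ 0 := by
  intro hdet
  have h1 := h' d (-b) (by
    have : d • (a • u + b • v) + -b • (c • u + d • v) = (a * d - b * c) • u := by module
    rw [this, hdet, zero_smul])
  have h2 := h' (-c) a (by
    have : -c • (a • u + b • v) + a • (c • u + d • v) = (a * d - b * c) • v := by module
    rw [this, hdet, zero_smul])
  have hd : d = 0 := h1.1
  have hb : b = 0 := by simpa using h1.2
  have ha : a = 0 := h2.2
  have h3 := h' 1 0 (by rw [ha, hb]; simp)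
  exact one_ne_zero h3.1

theorem TSL.span_eq {u v u' v' : V} (h : TSL Q u v) (h' : TSL Q u' v')
    (hu' : u' ∈ Submodule.span F ({u, v} : Set V)) (hv' : v' ∈ Submodule.span F ({u, v} : Set V)) :
    Submodule.span F ({u', v'} : Set V) = Submodule.span F ({u, v} : Set V) := by
  apply le_antisymm
  · rw [Submodule.span_le]
    intro x hx
    rcases hx with rfl | rfl
    · exact hu'
    · exact hv'
  · obtain ⟨a, b, hab⟩ := Submodule.mem_span_pair.1 hu'
    obtain ⟨c, d, hcd⟩ := Submodule.mem_span_pair.1 hv'
    have hdet : a * d - b * c ≠ 0 := by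
      apply h.det_ne_zero
      rw [hab, hcd]
      exact h'.ind
    rw [Submodule.span_le]
    intro x hx
    rcases hx with rfl | rfl
    · rw [SetLike.mem_coe, Submodule.mem_span_pair]
      refine ⟨d / (a * d - b * c), -b / (a * d - b * c), ?_⟩
      rw [← hab, ← hcd]
      have : (d / (a * d - b * c)) • (a • x + b • v) + (-b / (a * d - b * c)) • (c • x + d • v) =
          ((a * d - b * c) / (a * d - b * c)) • x := by
        match_scalars <;> field_simp <;> ring
      rw [this, div_self hdet, one_smul]
    · rw [SetLike.mem_coe, Submodule.mem_span_pair]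
      refine ⟨-c / (a * d - b * c), a / (a * d - b * c), ?_⟩
      rw [← hab, ← hcd]
      have : (-c / (a * d - b * c)) • (a • u + b • x) + (a / (a * d - b * c)) • (c • u + d • x) =
          ((a * d - b * c) / (a * d - b * c)) • x := by
        match_scalars <;> field_simp <;> ring
      rw [this, div_self hdet, one_smul]

/-- Totally singular lines. -/
def IsLine (L : Submodule F V) : Prop :=
  ∃ u v, TSL Q u v ∧ L = Submodule.span F ({u, v} : Set V)

theorem TSL.isLine {u v : V} (h : TSL Q u v) : IsLine Q (Submodule.span F ({u, v} : Set V)) :=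
  ⟨u, v, h, rfl⟩

theorem IsLine.ts {L : Submodule F V} (hL : IsLine Q L) : TS Q L := by
  obtain ⟨u, v, h, rfl⟩ := hL
  exact h.ts Q

theorem IsLine.ne_bot {L : Submodule F V} (hL : IsLine Q L) : L ≠ ⊥ := by
  obtain ⟨u, v, h, rfl⟩ := hL
  intro h0
  have : u ∈ (⊥ : Submodule F V) := h0 ▸ Submodule.subset_span (by simp)
  exact h.ne_zero_left Q ((Submodule.mem_bot F).1 this)

/-- Any nonzero vector of a line extends to a basis. -/
theorem IsLine.exists_basis_of_mem {L : Submodule F V} (hL : IsLine Q L) {a : V} (ha : a ∈ L)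
    (ha0 : a ≠ 0) : ∃ v, TSL Q a v ∧ L = Submodule.span F ({a, v} : Set V) := by
  obtain ⟨u, v, h, rfl⟩ := hL
  obtain ⟨α, β, hab⟩ := Submodule.mem_span_pair.1 ha
  have hQa : Q a = 0 := h.ts Q a ha
  by_cases hα : α = 0
  · -- `a = β v`, take `u`
    subst hα
    rw [zero_smul, zero_add] at hab
    have hβ : β ≠ 0 := by
      rintro rfl
      rw [zero_smul] at hab
      exact ha0 hab.symm
    have h1 : TSL Q a u := by
      refine ⟨hQa, h.hu, ?_, fun s t hst => ?_⟩
      · rw [← hab, polar_smul_left, polar_comm, h.huv, smul_zero]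
      · rw [← hab, smul_smul] at hst
        have := h.ind t (s * β) (by rw [add_comm]; exact hst)
        refine ⟨?_, this.1⟩
        rcases mul_eq_zero.1 this.2 with h' | h'
        · exact h'
        · exact absurd h' hβ
    exact ⟨u, h1, (h.span_eq Q h1 ha (Submodule.subset_span (by simp))).symm⟩
  · have h1 : TSL Q a v := by
      refine ⟨hQa, h.hv, ?_, fun s t hst => ?_⟩
      · rw [← hab, polar_add_left, polar_smul_left, polar_smul_left, h.huv,
          Cfsg.Agent.Lib.Helper5.TSMax.pself Q h.hv]
        simp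
      · rw [← hab] at hst
        have := h.ind (s * α) (s * β + t) (by
          rw [← hst]; module)
        have hs : s = 0 := by
          rcases mul_eq_zero.1 this.1 with h' | h'
          · exact h'
          · exact absurd h' hα
        refine ⟨hs, ?_⟩
        have h2 := this.2
        rw [hs] at h2
        simpa using h2
    exact ⟨v, h1, (h.span_eq Q h1 ha (Submodule.subset_span (by simp))).symm⟩

/-- A line contained in a line equals it. -/
theorem IsLine.eq_of_le {L K : Submodule F V} (hL : IsLine Q L) (hK : IsLine Q K) (h : L ≤ K) :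
    L = K := by
  obtain ⟨u, v, h1, rfl⟩ := hL
  obtain ⟨u', v', h2, rfl⟩ := hK
  exact h2.span_eq Q h1 (h (Submodule.subset_span (by simp))) (h (Submodule.subset_span (by simp)))

end general

end Cfsg.Agent.Lib.Helper25.AutO
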