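import Mathlib

set_option autoImplicit false
set_option linter.unusedSectionVars false
set_option linter.unusedVariables false
set_option linter.unusedSimpArgs false

/-!
# Automorphisms of odd order of the dihedral group of order eight are trivial
-/

namespace Cfsg.Agent.Lib.Helper25.AutOut

open DihedralGroup

section d8

theorem zmod4_cases (i : ZMod 4) (h : i + i ≠ 0) : i = 1 ∨ i = 3 := by
  revert i
  decide

theorem zmod4_odd_mul (c i : ZMod 4) (h : (2 * c + 1) * i = 0) : i = 0 := by
  revert c i
  decide

theorem d8_r_one_image (α : MulAut (DihedralGroup 4)) : α (r 1) = r 1 ∨ α (r 1) = r 3 := by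
  have ho : orderOf (α (r 1)) = 4 := by
    rw [MulEquiv.orderOf_eq]
    exact orderOf_r_one
  cases hα : α (r 1) with
  | r i =>
    have h2 : (r i : DihedralGroup 4) ^ 2 ≠ 1 := by
      intro h
      have := orderOf_dvd_of_pow_eq_one h
      rw [← hα, ho] at this
      omega
    have h3 : i + i ≠ 0 := by
      intro h
      apply h2
      rw [pow_two, r_mul_r, h, r_zero]
    rcases zmod4_cases i h3 with rfl | rfl
    · exact Or.inl rfl
    · exact Or.inr rfl
  | sr i =>
    exfalso
    rw [hα, orderOf_sr] at ho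
    omega

theorem d8_sq_fix_r_one (α : MulAut (DihedralGroup 4)) : (α * α) (r 1) = r 1 := by
  rw [MulAut.mul_apply]
  rcases d8_r_one_image α with h | h
  · rw [h, h]
  · rw [h]
    have e : (r 3 : DihedralGroup 4) = (r 1) ^ 3 := by
      rw [r_one_pow]
      rfl
    rw [e, map_pow, h, e, ← pow_mul, r_one_pow]
    rfl

theorem pow_fix {G : Type*} [Group G] (β : MulAut G) (x : G) (h : β x = x) (n : ℕ) :
    (β ^ n) x = x := by
  induction n with
  | zero => rfl
  | succ n ih => rw [pow_succ, MulAut.mul_apply, h, ih]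

/-- An automorphism of odd order of the dihedral group of order eight is trivial. -/
theorem d8_odd_aut_trivial (α : MulAut (DihedralGroup 4)) {n : ℕ} (hn : Odd n)
    (hα : α ^ n = 1) : α = 1 := by
  obtain ⟨t, rfl⟩ := hn
  have hα2 : α = (α * α) ^ (t + 1) := by
    have h1 : (α * α) ^ (t + 1) = α ^ (2 * t + 1) * α := by
      rw [← pow_two, ← pow_mul, ← pow_succ]
      congr 1
    rw [h1, hα, one_mul]
  have hr1 : α (r 1) = r 1 := by
    rw [hα2]
    exact pow_fix _ _ (d8_sq_fix_r_one α) _
  have hr : ∀ i : ZMod 4, α (r i) = r i := by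
    intro i
    have e : (r i : DihedralGroup 4) = (r 1) ^ i.val := by
      rw [r_one_pow, ZMod.natCast_zmod_val]
    rw [e, map_pow, hr1]
  obtain ⟨i, hi⟩ : ∃ i : ZMod 4, α (sr 0) = sr i := by
    cases h : α (sr 0) with
    | r j =>
      exfalso
      rw [← hr j] at h
      have := α.injective h
      cases this
    | sr i => exact ⟨i, rfl⟩
  have hsr : ∀ j : ZMod 4, α (sr j) = sr (i + j) := by
    intro j
    have e : (sr j : DihedralGroup 4) = sr 0 * r j := by rw [sr_mul_r, zero_add]
    rw [e, map_mul, hi, hr, sr_mul_r]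
  have hpow : ∀ n : ℕ, (α ^ n) (sr 0) = sr ((n : ZMod 4) * i) := by
    intro n
    induction n with
    | zero => simp
    | succ n ih =>
      rw [pow_succ', MulAut.mul_apply, ih, hsr]
      congr 1
      push_cast
      ring
  have h0 : ((2 * t + 1 : ℕ) : ZMod 4) * i = 0 := by
    have h1 := hpow (2 * t + 1)
    rw [hα] at h1
    have h2 : (sr 0 : DihedralGroup 4) = sr (((2 * t + 1 : ℕ) : ZMod 4) * i) := h1
    injection h2 with h3
    exact h3.symm
  have hi0 : i = 0 := by
    apply zmod4_odd_mul (t : ZMod 4) i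
    rw [← h0]
    push_cast
    ring
  apply MulEquiv.ext
  intro x
  cases x with
  | r j => exact hr j
  | sr j => rw [hsr, hi0, zero_add]; rfl

/-- Transport to any group isomorphic to the dihedral group of order eight. -/
theorem odd_aut_trivial_of_d8 {N : Type*} [Group N] (e : N ≃* DihedralGroup 4) (α : MulAut N)
    {n : ℕ} (hn : Odd n) (hα : α ^ n = 1) : α = 1 := by
  have h1 : (MulAut.congr e α) ^ n = 1 := by
    rw [← map_pow, hα, map_one]
  have h2 := d8_odd_aut_trivial _ hn h1
  exact (MulAut.congr e).injective (by rw [h2, map_one])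

end d8

section abstract

variable {G : Type*} [Group G]

/-- An element of odd order normalising a subgroup isomorphic to the dihedral group of order
eight centralises it. -/
theorem commute_of_d8_normal (N : Subgroup G) [N.Normal] (e : ↥N ≃* DihedralGroup 4) (c : G)
    {n : ℕ} (hn : Odd n) (hc : c ^ n = 1) (x : G) (hx : x ∈ N) : Commute c x := by
  have h1 : (MulAut.conjNormal c : MulAut ↥N) ^ n = 1 := by
    rw [← map_pow, hc, map_one]
  have h2 := odd_aut_trivial_of_d8 e _ hn h1
  have h3 : (MulAut.conjNormal c : MulAut ↥N) ⟨x, hx⟩ = ⟨x, hx⟩ := by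
    rw [h2]
    rfl
  have h4 : c * x * c⁻¹ = x := by
    have := congrArg Subtype.val h3
    rwa [MulAut.conjNormal_apply] at this
  show c * x = x * c
  calc c * x = (c * x * c⁻¹) * c := by group
    _ = x * c := by rw [h4]

/-- A finite group which is the internal direct product of a normal subgroup and a cyclic
subgroup centralising it. -/
theorem nonempty_mulEquiv_prod_of_complement [Finite G] (N : Subgroup G) {D : Type*} [Group D]
    (e : ↥N ≃* D) (c : G) (f : ℕ) (hc : orderOf c = f)
    (hcomm : ∀ x ∈ N, Commute c x)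
    (hdisj : Disjoint N (Subgroup.zpowers c))
    (hcard : Nat.card G = Nat.card ↥N * f) :
    Nonempty (G ≃* D × Multiplicative (ZMod f)) := by
  have comm : ∀ (m : ↥N) (n : ↥(Subgroup.zpowers c)),
      Commute (N.subtype m) ((Subgroup.zpowers c).subtype n) := by
    rintro ⟨m, hm⟩ ⟨n, hn⟩
    obtain ⟨j, rfl⟩ := Subgroup.mem_zpowers_iff.1 hn
    exact ((hcomm m hm).zpow_left j).symm
  let ψ := MonoidHom.noncommCoprod N.subtype (Subgroup.zpowers c).subtype comm
  have hinj : Function.Injective ψ := by
    rw [MonoidHom.noncommCoprod_injective]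
    refine ⟨Subtype.val_injective, Subtype.val_injective, ?_⟩
    rw [Subgroup.range_subtype, Subgroup.range_subtype]
    exact hdisj
  have hcard' : Nat.card (↥N × ↥(Subgroup.zpowers c)) = Nat.card G := by
    rw [Nat.card_prod, Nat.card_zpowers, hc, hcard]
  have hbij : Function.Bijective ψ :=
    (Nat.bijective_iff_injective_and_card ψ).2 ⟨hinj, hcard'⟩
  have e0 : (↥N × ↥(Subgroup.zpowers c)) ≃* G := MulEquiv.ofBijective ψ hbij
  have hb : Nat.card ↥(Subgroup.zpowers c) = Nat.card (Multiplicative (ZMod f)) := by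
    rw [Nat.card_zpowers, hc]
    show f = Nat.card (ZMod f)
    rw [Nat.card_zmod]
  have e2 : ↥(Subgroup.zpowers c) ≃* Multiplicative (ZMod f) := mulEquivOfCyclicCardEq hb
  exact ⟨e0.symm.trans (MulEquiv.prodCongr e e2)⟩

end abstract

end Cfsg.Agent.Lib.Helper25.AutOut
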