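import Cfsg.Agent.Lib.Helper25.AutOut9
import Cfsg.Agent.Lib.Helper25.AutOut10

set_option autoImplicit false
set_option linter.unusedSectionVars false
set_option linter.unusedVariables false
set_option linter.unusedSimpArgs false

/-!
# `Out(PΩ(Q))` from a Frobenius automorphism whose `f`-th power is a reflection (odd `q`)
-/

namespace Cfsg.Agent.Lib.Helper25.AutOut

open Module QuadraticMap Matrix Cfsg.Agent.Lib.Helper25.CD Cfsg.Agent.Lib.Helper25.Spin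
  Cfsg.Agent.Lib.Helper25.PSim Cfsg.Agent.Lib.Helper25.PAut Cfsg.Agent.Lib.Helper25.PS
  Cfsg.Agent.Lib.Helper25.Siegel Cfsg.Agent.Lib.Helper25.MaxTS Cfsg.Agent.Lib.Helper25.Fam
  Cfsg.Agent.Lib.Helper25.GraphSplit

universe u

section generic

variable {ι : Type} [Fintype ι] [DecidableEq ι] {F : Type u} [Field F] [Fintype F]
  (Q : QuadraticForm F (ι → F)) (u₀ : ι → F) (hu₀ : Q u₀ = 1)
  (h2 : (2 : F) ≠ 0) (hQ : (polarBilin Q).Nondegenerate) {m : ℕ}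
  (hcard : Fintype.card ι = 2 * m) (hn : 7 ≤ Fintype.card ι)
  (hAll : ∀ β : MulAut (Cfsg.POmega F ⇑Q), IsPairAut (⇑Q) β)
  (hσ : ∀ σ : F ≃+* F, ∃ g : GL ι F, Cfsg.IsSemisimilarityPair (⇑Q) g σ)
  {f : ℕ} (hf : 1 ≤ f) (hRA : Nat.card (RingAut F) = f)
  (φ : RingAut F) (β : MulAut (Cfsg.POmega F ⇑Q)) (hoφ : orderOf φ = f)
  (hβ : ∃ g : GL ι F, Cfsg.IsSemisimilarityPair (⇑Q) g φ ∧
    Cfsg.IsInducedBySemilinearPOmega (⇑Q) g φ β)
  (w : ι → F) (hw : Q w ≠ 0) (hβf : β ^ f = conjTHom (⇑Q) (reflM Q w))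

include hβ in
theorem outField_frob :
    outField Q hQ hn hAll (QuotientGroup.mk β) = φ := by
  obtain ⟨g, hp, hi⟩ := hβ
  rw [outField_mk]
  exact fieldHom_eq Q hQ hn hAll hp hi

include hβf in
theorem frob_pow_two_mul : β ^ (2 * f) = 1 := by
  rw [mul_comm, pow_mul, hβf, pow_two, ← map_mul, reflM_mul_self, map_one]

include hn hw hβf in
theorem frob_pow_not_mem_proper :
    β ^ f ∉ properAut Q u₀ hu₀ h2 hQ hcard := by
  rw [hβf]
  exact conjT_refl_not_mem_proper Q u₀ hu₀ h2 hQ hcard hn hw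

include hn hw hβf in
theorem mk_frob_pow_not_mem :
    (QuotientGroup.mk (β ^ f) : Cfsg.Out (Cfsg.POmega F ⇑Q)) ∉
      (properAut Q u₀ hu₀ h2 hQ hcard).map
        (QuotientGroup.mk' (Cfsg.Inn (Cfsg.POmega F ⇑Q))) := by
  rintro ⟨n, hn', hnβ⟩
  apply frob_pow_not_mem_proper Q u₀ hu₀ h2 hQ hcard hn β w hw hβf
  have h1 : n⁻¹ * β ^ f ∈ Cfsg.Inn (Cfsg.POmega F ⇑Q) := QuotientGroup.eq.1 hnβ
  have h3 := Subgroup.mul_mem _ hn' (inn_le_properAut Q u₀ hu₀ h2 hQ hcard h1)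
  rwa [mul_inv_cancel_left] at h3

include hu₀ h2 hQ hcard hn hAll hσ hf hRA hoφ hβ hw hβf in
/-- The case `[PGO : Inn] = 4`: `Out ≅ C₂ × C_{2f}`. -/
theorem out_case_four
    (hidx : (Cfsg.Inn (Cfsg.POmega F ⇑Q)).relIndex (Cfsg.pgoAut F ⇑Q) = 4) :
    Nonempty (Cfsg.Out (Cfsg.POmega F ⇑Q) ≃* Multiplicative (ZMod 2 × ZMod (2 * f))) := by
  have hcardOut : Nat.card (Cfsg.Out (Cfsg.POmega F ⇑Q)) = 2 * (2 * f) := by
    rw [card_out Q hQ hn hAll hσ, hidx, hRA]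
    ring
  -- the diagonal part
  set Z := (properAut Q u₀ hu₀ h2 hQ hcard).map
    (QuotientGroup.mk' (Cfsg.Inn (Cfsg.POmega F ⇑Q))) with hZdef
  have hZcard : Nat.card Z = 2 := by
    rw [hZdef, ← Subgroup.relIndex_ker, QuotientGroup.ker_mk']
    have h1 := Subgroup.relIndex_mul_relIndex _ _ _ (inn_le_properAut Q u₀ hu₀ h2 hQ hcard)
      (properAut_le_pgoAut Q u₀ hu₀ h2 hQ hcard)
    rw [relIndex_proper_pgo Q u₀ hu₀ h2 hQ hcard hn, hidx] at h1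
    omega
  haveI : (properAut Q u₀ hu₀ h2 hQ hcard).Normal := properAut_normal Q u₀ hu₀ h2 hQ hcard hAll
  haveI : Z.Normal := by
    rw [hZdef]
    exact Subgroup.Normal.map inferInstance _ (QuotientGroup.mk'_surjective _)
  haveI : Finite ↥Z := Nat.finite_of_card_ne_zero (by rw [hZcard]; norm_num)
  obtain ⟨x, hx1⟩ : ∃ x : ↥Z, x ≠ 1 := by
    haveI : Nontrivial ↥Z := by
      rw [← Finite.one_lt_card_iff_nontrivial, hZcard]
      norm_num
    exact exists_ne 1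
  have hx1' : x.1 ≠ 1 := fun h => hx1 (Subtype.ext h)
  have hZker : Z ≤ (outField Q hQ hn hAll).ker := by
    rw [outField_ker, hZdef]
    exact Subgroup.map_mono (properAut_le_pgoAut Q u₀ hu₀ h2 hQ hcard)
  obtain ⟨y, hydef⟩ : ∃ y : Cfsg.Out (Cfsg.POmega F ⇑Q), y = QuotientGroup.mk β := ⟨_, rfl⟩
  have hπy : outField Q hQ hn hAll y = φ := by
    rw [hydef]
    exact outField_frob Q hQ hn hAll φ β hβ
  have hyfZ : y ^ f ∉ Z := by
    rw [hydef, ← QuotientGroup.mk_pow]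
    exact mk_frob_pow_not_mem Q u₀ hu₀ h2 hQ hcard hn β w hw hβf
  have hyf : y ^ f ≠ 1 := by
    intro h
    apply hyfZ
    rw [h]
    exact one_mem _
  have hy2 : y ^ (2 * f) = 1 := by
    rw [hydef, ← QuotientGroup.mk_pow, frob_pow_two_mul Q β w hβf]
    rfl
  have hord := orderOf_eq_two_mul (outField Q hQ hn hAll) y hf
    (by rw [hπy]; exact hoφ) hyf hy2
  haveI : Finite (Cfsg.Out (Cfsg.POmega F ⇑Q)) := inferInstance
  apply nonempty_mulEquiv_prod_zmod x.1 y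
    (commute_of_card_two Z hZcard x.2 hx1' y).symm 2 (2 * f)
    (orderOf_eq_two_of_card_two Z hZcard x.2 hx1') hord _ hcardOut
  rw [Subgroup.disjoint_def]
  intro z hzx hzy
  have hzZ : z ∈ Z := by
    obtain ⟨i, rfl⟩ := Subgroup.mem_zpowers_iff.1 hzx
    exact Subgroup.zpow_mem _ x.2 i
  obtain ⟨j, rfl⟩ := Subgroup.mem_zpowers_iff.1 hzy
  have h1 : φ ^ j = 1 := by
    have := hZker hzZ
    rwa [MonoidHom.mem_ker, map_zpow, hπy] at this
  have h3 : (f : ℤ) ∣ j := by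
    rw [← hoφ]
    exact orderOf_dvd_iff_zpow_eq_one.2 h1
  obtain ⟨t, rfl⟩ := h3
  rw [_root_.zpow_mul, zpow_natCast] at hzZ ⊢
  have hsq : (y ^ f) ^ (2 : ℤ) = 1 := by
    rw [zpow_ofNat, ← pow_mul, mul_comm, hy2]
  rcases Int.emod_two_eq_zero_or_one t with ht | ht
  · obtain ⟨s, rfl⟩ : ∃ s, t = 2 * s := ⟨t / 2, by omega⟩
    rw [_root_.zpow_mul, hsq, _root_.one_zpow]
  · exfalso
    obtain ⟨s, rfl⟩ : ∃ s, t = 2 * s + 1 := ⟨t / 2, by omega⟩
    rw [_root_.zpow_add, _root_.zpow_mul, hsq, _root_.one_zpow, one_mul, zpow_one] at hzZ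
    exact hyfZ hzZ

include hu₀ h2 hQ hcard hn hAll hσ hf hRA hoφ hβ hw hβf in
/-- The case `[PGO : Inn] = 8` with `PGO/Inn` dihedral and `f` odd: `Out ≅ D₈ × C_f`. -/
theorem out_case_eight
    (hidx : (Cfsg.Inn (Cfsg.POmega F ⇑Q)).relIndex (Cfsg.pgoAut F ⇑Q) = 8) (hfodd : Odd f)
    (hD8 : ∃ ψ : ↥(Cfsg.pgoAut F ⇑Q) →* DihedralGroup 4, Function.Surjective ψ ∧
      ψ.ker = (Cfsg.Inn (Cfsg.POmega F ⇑Q)).subgroupOf (Cfsg.pgoAut F ⇑Q)) :
    Nonempty (Cfsg.Out (Cfsg.POmega F ⇑Q) ≃* DihedralGroup 4 × Multiplicative (ZMod f)) := by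
  set N := (Cfsg.pgoAut F ⇑Q).map (QuotientGroup.mk' (Cfsg.Inn (Cfsg.POmega F ⇑Q))) with hNdef
  have hNcard : Nat.card N = 8 := by rw [hNdef, card_pgo_image, hidx]
  have hNker : N = (outField Q hQ hn hAll).ker := (outField_ker Q hQ hn hAll).symm
  haveI : N.Normal := by rw [hNker]; infer_instance
  have hcardOut : Nat.card (Cfsg.Out (Cfsg.POmega F ⇑Q)) = Nat.card ↥N * f := by
    rw [card_out Q hQ hn hAll hσ, hidx, hRA, hNcard]
  -- the isomorphism `N ≅ D₈`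
  obtain ⟨ψ, hψs, hψk⟩ := hD8
  let ρ : ↥(Cfsg.pgoAut F ⇑Q) →* ↥N :=
    (QuotientGroup.mk' (Cfsg.Inn (Cfsg.POmega F ⇑Q))).subgroupMap (Cfsg.pgoAut F ⇑Q)
  have hρs : Function.Surjective ρ := MonoidHom.subgroupMap_surjective _ _
  have hρk : ρ.ker = ψ.ker := by
    rw [hψk]
    ext x
    rw [MonoidHom.mem_ker, Subgroup.mem_subgroupOf, Subtype.ext_iff]
    show (QuotientGroup.mk' (Cfsg.Inn (Cfsg.POmega F ⇑Q))) x.1 = 1 ↔ _
    rw [QuotientGroup.mk'_apply, QuotientGroup.eq_one_iff]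
  have e : ↥N ≃* DihedralGroup 4 :=
    (QuotientGroup.quotientKerEquivOfSurjective ρ hρs).symm.trans
      ((QuotientGroup.quotientMulEquivOfEq hρk).trans
        (QuotientGroup.quotientKerEquivOfSurjective ψ hψs))
  -- the complement
  obtain ⟨y, hydef⟩ : ∃ y : Cfsg.Out (Cfsg.POmega F ⇑Q), y = QuotientGroup.mk β := ⟨_, rfl⟩
  have hπy : outField Q hQ hn hAll y = φ := by
    rw [hydef]
    exact outField_frob Q hQ hn hAll φ β hβ
  have hy2 : y ^ (2 * f) = 1 := by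
    rw [hydef, ← QuotientGroup.mk_pow, frob_pow_two_mul Q β w hβf]
    rfl
  have hcf : (y ^ 2) ^ f = 1 := by rw [← pow_mul, hy2]
  have hoφ2 : orderOf (φ ^ 2) = f := by
    rw [← hoφ]
    apply Nat.Coprime.orderOf_pow
    rw [hoφ]
    exact Nat.coprime_two_right.2 hfodd
  have hoc : orderOf (y ^ 2) = f := by
    apply Nat.dvd_antisymm (orderOf_dvd_of_pow_eq_one hcf)
    have := orderOf_map_dvd (outField Q hQ hn hAll) (y ^ 2)
    rwa [map_pow, hπy, hoφ2] at this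
  haveI : Finite (Cfsg.Out (Cfsg.POmega F ⇑Q)) := inferInstance
  apply nonempty_mulEquiv_prod_of_complement N e (y ^ 2) f hoc
    (fun x hx => commute_of_d8_normal N e (y ^ 2) hfodd hcf x hx) _ hcardOut
  rw [Subgroup.disjoint_def]
  intro z hzN hzc
  obtain ⟨j, rfl⟩ := Subgroup.mem_zpowers_iff.1 hzc
  have h1 : (φ ^ 2) ^ j = 1 := by
    rw [hNker, MonoidHom.mem_ker, map_zpow, map_pow, hπy] at hzN
    exact hzN
  have h3 : (f : ℤ) ∣ j := by
    rw [← hoφ2]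
    exact orderOf_dvd_iff_zpow_eq_one.2 h1
  obtain ⟨t, rfl⟩ := h3
  rw [_root_.zpow_mul, zpow_natCast, hcf, _root_.one_zpow]

end generic

end Cfsg.Agent.Lib.Helper25.AutOut
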