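import Cfsg.Agent.Lib.Helper25.AutOut11

set_option autoImplicit false
set_option linter.unusedSectionVars false
set_option linter.unusedVariables false
set_option linter.unusedSimpArgs false

/-!
# `Out(PΩ⁻_{2m}(q))` for `q` odd
-/

namespace Cfsg.Agent.Lib.Helper25.AutOut

open Module QuadraticMap Matrix Cfsg.Agent.Lib.Helper25.CD Cfsg.Agent.Lib.Helper25.Spin
  Cfsg.Agent.Lib.Helper25.PSim Cfsg.Agent.Lib.Helper25.PAut Cfsg.Agent.Lib.Helper25.PS
  Cfsg.Agent.Lib.Helper25.Siegel Cfsg.Agent.Lib.Helper25.MaxTS Cfsg.Agent.Lib.Helper25.Fam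
  Cfsg.Agent.Lib.Helper25.GraphSplit Cfsg.Agent.Lib.Helper14 Cfsg.Agent.Lib.Helper14.OrthMinus
  Cfsg.Agent.Lib.Helper14.QuadExt

universe u

theorem pow_mod_four_eq_three_iff {q : ℕ} (hq : Odd q) (m : ℕ) :
    q ^ m % 4 = 3 ↔ q % 4 = 3 ∧ Odd m := by
  rcases Nat.even_or_odd m with ⟨i, hi⟩ | ⟨i, hi⟩
  · subst hi
    rw [pow_mod_four_even hq]
    constructor
    · intro h; omega
    · rintro ⟨-, ⟨j, hj⟩⟩; omega
  · subst hi
    rw [pow_mod_four_odd hq]
    constructor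
    · intro h; exact ⟨h, ⟨i, rfl⟩⟩
    · rintro ⟨h, -⟩; exact h

section minusOdd

variable {F : Type u} [Field F] [Fintype F] (p : ℕ) [Fact p.Prime] [CharP F p] {a b : F} {k : ℕ}

/-- `PGO/Inn` is dihedral of order eight for the minus-type form when `-1 ∈ Ω`. -/
theorem exists_hom_minus_D8 (hodd : Odd (Fintype.card F)) (hk : 3 ≤ k) (hab : Aniso a b)
    (hE : ¬ Even ((k + 1) * (Fintype.card F - 1) / 2)) :
    ∃ ψ : ↥(Cfsg.pgoAut F (Cfsg.quadFormMinus k F a b)) →* DihedralGroup 4,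
      Function.Surjective ψ ∧
      ψ.ker = (Cfsg.Inn (Cfsg.POmega F (Cfsg.quadFormMinus k F a b))).subgroupOf
        (Cfsg.pgoAut F (Cfsg.quadFormMinus k F a b)) := by
  have h2 := two_ne_zero_of_odd_card hodd
  have hD : a ^ 2 - 4 * b ≠ 0 := disc_ne_zero hab
  obtain ⟨ν, hν⟩ := FiniteField.exists_nonsquare (F := F) (ringChar_ne_two h2)
  have hodd' : Fintype.card F % 2 = 1 := Nat.odd_iff.1 hodd
  obtain ⟨x, y, hxy⟩ := binary_universal a b hodd' h2 hD ν
  have hA : ∀ v, Cfsg.quadFormMinus k F a b (Matrix.mulVec (minusSimMatrix k a b x y) v) =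
      ν * Cfsg.quadFormMinus k F a b v := by
    intro v
    have := minus_sim k a b x y v
    rw [hxy] at this
    exact this
  have hc1 := card_idx k
  have hc2 : 7 ≤ Fintype.card ((Fin k ⊕ Fin k) ⊕ Fin 2) := by rw [hc1]; omega
  have hS := neg_one_mem_omega_minus (F := F) (q := Fintype.card F) rfl hodd k a b hab
  exact exists_hom_pgo_inn_D8' (qfOf (isQF_minus (F := F) (n := k) hD)) h2
    (qfOf_nondeg _) hc1 hc2 (minusSimMatrix k a b x y) ν hν hA
    (hS.2 ((pow_mod_four_iff hodd (k + 1)).2 hE))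

/-- `Out(PΩ⁻_{2k+2}(q))`, `q` odd. -/
theorem out_minus_odd (hodd : Odd (Fintype.card F)) (hab : Aniso a b) (hk : 3 ≤ k) {f : ℕ}
    (hf : 1 ≤ f) (hF : Fintype.card F = p ^ f) :
    (Even ((k + 1) * (Fintype.card F - 1) / 2) →
      Nonempty (Cfsg.Out (Cfsg.POmega F (Cfsg.quadFormMinus k F a b)) ≃*
        Multiplicative (ZMod 2 × ZMod (2 * f)))) ∧
    (¬ Even ((k + 1) * (Fintype.card F - 1) / 2) →
      Nonempty (Cfsg.Out (Cfsg.POmega F (Cfsg.quadFormMinus k F a b)) ≃*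
        DihedralGroup 4 × Multiplicative (ZMod f))) := by
  have h2 := two_ne_zero_of_odd_card hodd
  have hD : a ^ 2 - 4 * b ≠ 0 := disc_ne_zero hab
  have hc1 := card_idx k
  have hc2 : 7 ≤ Fintype.card ((Fin k ⊕ Fin k) ⊕ Fin 2) := by rw [hc1]; omega
  have hidx := relIndex_minus_odd (F := F) hodd hk hab
  have hD8 := exists_hom_minus_D8 (F := F) hodd hk hab
  obtain ⟨Q, hQdef⟩ : ∃ Q : QuadraticForm F (Idx k → F),
      Q = qfOf (isQF_minus (F := F) (n := k) hD) := ⟨_, rfl⟩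
  have hQc : ⇑Q = Cfsg.quadFormMinus k F a b := by rw [hQdef]; rfl
  have hQ : (polarBilin Q).Nondegenerate := by rw [hQdef]; exact qfOf_nondeg _
  have hAll : ∀ β : MulAut (Cfsg.POmega F ⇑Q), IsPairAut (⇑Q) β := by
    rw [hQdef]
    exact hAll_of_noD4 (qfOf (isQF_minus (F := F) (n := k) hD)) (qfOf_nondeg _) hc2
      (Cfsg.Agent.Lib.Helper25.AutO.noD4_minus hk hab hD)
  have hσ : ∀ σ : F ≃+* F, ∃ g : GL (Idx k) F, Cfsg.IsSemisimilarityPair (⇑Q) g σ := by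
    rw [hQc]
    exact fun σ => minus_semisim hab σ
  have hfrob : ∃ (φ : RingAut F) (β : MulAut (Cfsg.POmega F ⇑Q)), orderOf φ = f ∧
      (∃ g : GL (Idx k) F, Cfsg.IsSemisimilarityPair (⇑Q) g φ ∧
        Cfsg.IsInducedBySemilinearPOmega (⇑Q) g φ β) ∧
      β ^ f = conjTHom (⇑Q) (reflM Q (wVec a k)) := by
    rw [hQdef]
    exact exists_frob_aut p (k := k) hab hD hf hF
  have hw : Q (wVec a k) ≠ 0 := by
    rw [hQdef, coe_qfOf, Q_wVec]
    exact neg_ne_zero.2 hD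
  have hidx' : (Cfsg.Inn (Cfsg.POmega F ⇑Q)).relIndex (Cfsg.pgoAut F ⇑Q) =
      if Even ((k + 1) * (Fintype.card F - 1) / 2) then 4 else 8 := by
    rw [hQdef]
    exact hidx
  have hD8' : ¬ Even ((k + 1) * (Fintype.card F - 1) / 2) →
      ∃ ψ : ↥(Cfsg.pgoAut F ⇑Q) →* DihedralGroup 4, Function.Surjective ψ ∧
        ψ.ker = (Cfsg.Inn (Cfsg.POmega F ⇑Q)).subgroupOf (Cfsg.pgoAut F ⇑Q) := by
    rw [hQdef]
    exact hD8
  suffices h : (Even ((k + 1) * (Fintype.card F - 1) / 2) →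
      Nonempty (Cfsg.Out (Cfsg.POmega F ⇑Q) ≃* Multiplicative (ZMod 2 × ZMod (2 * f)))) ∧
    (¬ Even ((k + 1) * (Fintype.card F - 1) / 2) →
      Nonempty (Cfsg.Out (Cfsg.POmega F ⇑Q) ≃* DihedralGroup 4 × Multiplicative (ZMod f))) by
    rw [hQdef] at h
    exact h
  have hfin : 2 ≤ finrank F (Idx k → F) := by
    rw [Module.finrank_fintype_fun_eq_card]
    exact le_trans (by norm_num) hc2
  obtain ⟨u₀, hu₀⟩ := exists_rep Q hQ hfin 1
  obtain ⟨φ, β, hoφ, hβ, hβf⟩ := hfrob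
  have hRA := Cfsg.Agent.Lib.Helper18.PSL2Aut.ringAut_card p hF
  constructor
  · intro hE
    rw [if_pos hE] at hidx'
    exact out_case_four Q u₀ hu₀ h2 hQ hc1 hc2 hAll hσ hf hRA φ β hoφ hβ (wVec a k) hw hβf hidx'
  · intro hE
    rw [if_neg hE] at hidx'
    have hfodd : Odd f := by
      have h1 := (pow_mod_four_iff hodd (k + 1)).2 hE
      rw [hF, ← pow_mul] at h1
      by_contra hne
      rw [Nat.not_odd_iff_even] at hne
      obtain ⟨t, rfl⟩ := hne
      have hpodd : Odd p := by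
        rw [hF] at hodd
        exact (Nat.odd_pow_iff (by omega)).1 hodd
      have e : (t + t) * (k + 1) = t * (k + 1) + t * (k + 1) := by ring
      rw [e, pow_mod_four_even hpodd] at h1
      omega
    exact out_case_eight Q u₀ hu₀ h2 hQ hc1 hc2 hAll hσ hf hRA φ β hoφ hβ (wVec a k) hw hβf hidx'
      hfodd (hD8' hE)

end minusOdd

end Cfsg.Agent.Lib.Helper25.AutOut
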