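import Cfsg.Agent.Lib.Helper25.AutOut10

set_option autoImplicit false
set_option linter.unusedSectionVars false
set_option linter.unusedVariables false
set_option linter.unusedSimpArgs false

/-!
# Splitting a cyclic complement off a normal four-group or dihedral group of order eight

`G` finite, `N ⊴ G`, `y` of order `f` with `⟨y⟩ ∩ N = 1` and `|G| = |N| f`.
* `N` a four-group, `f` odd, `y` centralises a non-identity element of `N`: `G ≅ N × C_f`.
* `N` dihedral of order eight, `y` centralises a non-central involution of `N`: `G ≅ N × C_f`.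
-/

namespace Cfsg.Agent.Lib.Helper25.AutOut

open DihedralGroup

section klein

theorem klein_cases : ∀ a b c : Multiplicative (ZMod 2 × ZMod 2), a ≠ 1 → b ≠ 1 → b ≠ a → c ≠ 1 →
    c ≠ a → (c = b ∨ c = a * b) := by decide

theorem klein_sq : ∀ a : Multiplicative (ZMod 2 × ZMod 2), a * a = 1 := by decide

variable {G : Type*} [Group G]

theorem conj_eq_of_commute {c x : G} (h : Commute c x) : c * x * c⁻¹ = x := by
  rw [h.eq, mul_inv_cancel_right]

theorem commute_of_conj_eq {c x : G} (h : c * x * c⁻¹ = x) : Commute c x := by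
  show c * x = x * c
  calc c * x = (c * x * c⁻¹) * c := by group
    _ = x * c := by rw [h]

/-- An element of odd order normalising a four-group and centralising one of its involutions
centralises it. -/
theorem commute_of_klein_normal (N : Subgroup G) [N.Normal]
    (e : ↥N ≃* Multiplicative (ZMod 2 × ZMod 2)) (c : G) {n : ℕ} (hn : Odd n) (hc : c ^ n = 1)
    {x : G} (hxN : x ∈ N) (hx1 : x ≠ 1) (hcx : Commute c x) (y : G) (hy : y ∈ N) :
    Commute c y := by
  -- it suffices that `c ^ 2` commutes with `y`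
  suffices h2 : Commute (c ^ 2) y by
    obtain ⟨t, rfl⟩ := hn
    have e1 : c = (c ^ 2) ^ (t + 1) := by
      rw [← pow_mul]
      have : 2 * (t + 1) = (2 * t + 1) + 1 := by ring
      rw [this, pow_succ, hc, one_mul]
    rw [e1]
    exact h2.pow_left _
  have hyc : c * y * c⁻¹ ∈ N := Subgroup.Normal.conj_mem inferInstance y hy c
  have hsq : ∀ z : G, z ∈ N → z * z = 1 := by
    intro z hz
    have h1 := klein_sq (e ⟨z, hz⟩)
    rw [← map_mul] at h1
    have h3 : (⟨z, hz⟩ * ⟨z, hz⟩ : ↥N) = 1 := e.injective (by rw [h1, map_one])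
    exact congrArg Subtype.val h3
  by_cases hy1 : y = 1
  · rw [hy1]; exact Commute.one_right _
  by_cases hyx : y = x
  · rw [hyx]; exact hcx.pow_left 2
  have hxconj : c * x * c⁻¹ = x := conj_eq_of_commute hcx
  -- the conjugate of `y` is `y` or `x y`
  have hy'1 : c * y * c⁻¹ ≠ 1 := by
    intro h
    apply hy1
    calc y = c⁻¹ * (c * y * c⁻¹) * c := by group
      _ = 1 := by rw [h]; group
  have hy'x : c * y * c⁻¹ ≠ x := by
    intro h
    apply hyx
    calc y = c⁻¹ * (c * y * c⁻¹) * c := by group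
      _ = c⁻¹ * (c * x * c⁻¹) * c := by rw [h, hxconj]
      _ = x := by group
  have hcases := klein_cases (e ⟨x, hxN⟩) (e ⟨y, hy⟩) (e ⟨c * y * c⁻¹, hyc⟩)
    (fun h => hx1 (congrArg Subtype.val (e.injective (h.trans (map_one e).symm))))
    (fun h => hy1 (congrArg Subtype.val (e.injective (h.trans (map_one e).symm))))
    (fun h => hyx (congrArg Subtype.val (e.injective h)))
    (fun h => hy'1 (congrArg Subtype.val (e.injective (h.trans (map_one e).symm))))
    (fun h => hy'x (congrArg Subtype.val (e.injective h)))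
  have hconj : c * y * c⁻¹ = y ∨ c * y * c⁻¹ = x * y := by
    rcases hcases with h | h
    · left
      exact congrArg Subtype.val (e.injective h)
    · right
      rw [← map_mul] at h
      exact congrArg Subtype.val (e.injective h)
  apply commute_of_conj_eq
  have e2 : c ^ 2 * y * (c ^ 2)⁻¹ = c * (c * y * c⁻¹) * c⁻¹ := by
    rw [pow_two, mul_inv_rev]
    group
  rw [e2]
  rcases hconj with h | h
  · rw [h, h]
  · rw [h]
    have e3 : c * (x * y) * c⁻¹ = (c * x * c⁻¹) * (c * y * c⁻¹) := by group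
    rw [e3, hxconj, h, ← mul_assoc, hsq x hxN, one_mul]

/-- `G ≅ (C₂ × C₂) × C_f`. -/
theorem nonempty_mulEquiv_klein_prod [Finite G] (N : Subgroup G) [N.Normal]
    (e : ↥N ≃* Multiplicative (ZMod 2 × ZMod 2)) (y : G) (f : ℕ) (hfodd : Odd f)
    (hy : orderOf y = f) (hdisj : Disjoint N (Subgroup.zpowers y))
    (hcard : Nat.card G = Nat.card ↥N * f) {x : G} (hxN : x ∈ N) (hx1 : x ≠ 1)
    (hyx : Commute y x) :
    Nonempty (G ≃* Multiplicative (ZMod 2 × ZMod 2 × ZMod f)) := by
  have hyf : y ^ f = 1 := by rw [← hy]; exact pow_orderOf_eq_one y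
  obtain ⟨e0⟩ := nonempty_mulEquiv_prod_of_complement N e y f hy
    (fun z hz => commute_of_klein_normal N e y hfodd hyf hxN hx1 hyx z hz) hdisj hcard
  have e1 : Multiplicative (ZMod 2 × ZMod 2) × Multiplicative (ZMod f) ≃*
      Multiplicative ((ZMod 2 × ZMod 2) × ZMod f) := (MulEquiv.prodMultiplicative _ _).symm
  have e2 : Multiplicative ((ZMod 2 × ZMod 2) × ZMod f) ≃*
      Multiplicative (ZMod 2 × ZMod 2 × ZMod f) :=
    AddEquiv.toMultiplicative AddEquiv.prodAssoc
  exact ⟨(e0.trans e1).trans e2⟩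

end klein

section d8

/-- an automorphism of `D₈` is determined by its values at `r 1` and one `sr i` -/
theorem d8_aut_ext (α β : MulAut (DihedralGroup 4)) (i : ZMod 4) (h1 : α (r 1) = β (r 1))
    (h2 : α (sr i) = β (sr i)) : α = β := by
  have hr : ∀ j : ZMod 4, α (r j) = β (r j) := by
    intro j
    have e : (r j : DihedralGroup 4) = (r 1) ^ j.val := by
      rw [r_one_pow, ZMod.natCast_zmod_val]
    rw [e, map_pow, map_pow, h1]
  apply MulEquiv.ext
  intro x
  cases x with
  | r j => exact hr j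
  | sr j =>
    have e : (sr j : DihedralGroup 4) = sr i * r (j - i) := by
      rw [sr_mul_r]
      congr 1
      ring
    rw [e, map_mul, map_mul, h2, hr]

/-- an automorphism of `D₈` fixing a non-central involution is trivial or conjugation by it -/
theorem d8_aut_fix_sr (α : MulAut (DihedralGroup 4)) (i : ZMod 4) (h : α (sr i) = sr i) :
    α = 1 ∨ α = MulAut.conj (sr i) := by
  rcases d8_r_one_image α with h1 | h1
  · left
    exact d8_aut_ext α 1 i h1 h
  · right
    apply d8_aut_ext α _ i
    · rw [h1, MulAut.conj_apply, sr_mul_r, inv_sr, sr_mul_sr]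
      congr 1
      ring_nf
      rfl
    · rw [h, MulAut.conj_apply, mul_inv_cancel_right]

/-- the non-central involutions of `D₈` are the reflections -/
theorem d8_noncentral (x : DihedralGroup 4) (hnc : ∃ y, x * y ≠ y * x) (hx2 : x * x = 1) :
    ∃ i, x = sr i := by
  cases x with
  | r j =>
    exfalso
    obtain ⟨y, hy⟩ := hnc
    have hj : j + j = 0 := by
      rw [r_mul_r] at hx2
      have : (r (j + j) : DihedralGroup 4) = r 0 := hx2
      injection this
    cases y with
    | r k => exact hy (by rw [r_mul_r, r_mul_r, add_comm])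
    | sr k =>
      apply hy
      rw [r_mul_sr, sr_mul_r]
      congr 1
      have : -j = j := by
        have := eq_neg_of_add_eq_zero_left hj
        exact this.symm
      rw [sub_eq_add_neg, this]
  | sr i => exact ⟨i, rfl⟩

variable {G : Type*} [Group G]

/-- transport to a group isomorphic to `D₈` -/
theorem aut_fix_of_d8 {N : Type*} [Group N] (e : N ≃* DihedralGroup 4) (α : MulAut N) (s : N)
    (hs2 : s * s = 1) (hnc : ∃ y, s * y ≠ y * s) (h : α s = s) : α = 1 ∨ α = MulAut.conj s := by
  have hnc' : ∃ y, e s * y ≠ y * e s := by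
    obtain ⟨y, hy⟩ := hnc
    refine ⟨e y, fun h' => hy ?_⟩
    rw [← map_mul, ← map_mul] at h'
    exact e.injective h'
  obtain ⟨i, hi⟩ := d8_noncentral (e s) hnc' (by rw [← map_mul, hs2, map_one])
  have h1 : (MulAut.congr e α) (sr i) = sr i := by
    rw [← hi]
    show e (α (e.symm (e s))) = e s
    rw [MulEquiv.symm_apply_apply, h]
  rcases d8_aut_fix_sr _ i h1 with h2 | h2
  · left
    exact (MulAut.congr e).injective (by rw [h2, map_one])
  · right
    apply (MulAut.congr e).injective
    rw [h2, ← hi]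
    apply MulEquiv.ext
    intro x
    show _ = e ((MulAut.conj s) (e.symm x))
    rw [MulAut.conj_apply, MulAut.conj_apply, map_mul, map_mul, map_inv,
      MulEquiv.apply_symm_apply]

/-- `G ≅ D₈ × C_f`. -/
theorem nonempty_mulEquiv_d8_prod [Finite G] (N : Subgroup G) [N.Normal]
    (e : ↥N ≃* DihedralGroup 4) (y : G) (f : ℕ) (hy : orderOf y = f)
    (hdisj : Disjoint N (Subgroup.zpowers y)) (hcard : Nat.card G = Nat.card ↥N * f)
    {s : G} (hsN : s ∈ N) (hs2 : s * s = 1) (hnc : ∃ n ∈ N, s * n ≠ n * s)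
    (hys : Commute y s) :
    Nonempty (G ≃* DihedralGroup 4 × Multiplicative (ZMod f)) := by
  have hyf : y ^ f = 1 := by rw [← hy]; exact pow_orderOf_eq_one y
  have hα := aut_fix_of_d8 e (MulAut.conjNormal y : MulAut ↥N) ⟨s, hsN⟩
    (Subtype.ext hs2)
    (by
      obtain ⟨n, hn, hsn⟩ := hnc
      exact ⟨⟨n, hn⟩, fun h => hsn (congrArg Subtype.val h)⟩)
    (by
      apply Subtype.ext
      rw [MulAut.conjNormal_apply]
      exact conj_eq_of_commute hys)
  have hαf : (MulAut.conjNormal y : MulAut ↥N) ^ f = 1 := by rw [← map_pow, hyf, map_one]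
  -- the case where `y` centralises `N`
  have case1 : (MulAut.conjNormal y : MulAut ↥N) = 1 →
      Nonempty (G ≃* DihedralGroup 4 × Multiplicative (ZMod f)) := by
    intro h1
    apply nonempty_mulEquiv_prod_of_complement N e y f hy _ hdisj hcard
    intro x hx
    apply commute_of_conj_eq
    have h3 : (MulAut.conjNormal y : MulAut ↥N) ⟨x, hx⟩ = ⟨x, hx⟩ := by rw [h1]; rfl
    have := congrArg Subtype.val h3
    rwa [MulAut.conjNormal_apply] at this
  rcases hα with h1 | h1
  · exact case1 h1
  rcases Nat.even_or_odd f with hfe | hfo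
  swap
  · exact case1 (odd_aut_trivial_of_d8 e _ hfo hαf)
  -- `f` even: the complement is generated by `y s`
  obtain ⟨k, hk⟩ := hfe
  have hsf : s ^ f = 1 := by
    rw [hk, ← two_mul, pow_mul, pow_two, hs2, one_pow]
  have hcomm : ∀ x ∈ N, Commute (y * s) x := by
    intro x hx
    apply commute_of_conj_eq
    have h3 : (MulAut.conjNormal y : MulAut ↥N) ⟨s * x * s⁻¹, N.mul_mem (N.mul_mem hsN hx)
        (N.inv_mem hsN)⟩ = (MulAut.conj (⟨s, hsN⟩ : ↥N)) ⟨s * x * s⁻¹, N.mul_mem (N.mul_mem hsN hx)
        (N.inv_mem hsN)⟩ := by rw [h1]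
    have h4 := congrArg Subtype.val h3
    rw [MulAut.conjNormal_apply, MulAut.conj_apply] at h4
    have h5 : y * (s * x * s⁻¹) * y⁻¹ = s * (s * x * s⁻¹) * s⁻¹ := h4
    have hs' : s⁻¹ = s := inv_eq_of_mul_eq_one_left hs2
    calc y * s * x * (y * s)⁻¹ = y * (s * x * s⁻¹) * y⁻¹ := by group
      _ = s * (s * x * s⁻¹) * s⁻¹ := h5
      _ = (s * s) * x * (s * s)⁻¹ := by group
      _ = x := by rw [hs2]; group
  have hpowz : ∀ j : ℤ, (y * s) ^ j = y ^ j * s ^ j := fun j => hys.mul_zpow j
  have hkey : ∀ j : ℤ, (y * s) ^ j ∈ N → (y * s) ^ j = 1 := by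
    intro j hj
    have h6 : y ^ j ∈ N := by
      have : y ^ j = (y * s) ^ j * (s ^ j)⁻¹ := by rw [hpowz]; group
      rw [this]
      exact N.mul_mem hj (N.inv_mem (N.zpow_mem hsN j))
    have h7 : y ^ j = 1 := by
      have := Subgroup.disjoint_def.1 hdisj h6 (Subgroup.zpow_mem_zpowers y j)
      exact this
    have h8 : (f : ℤ) ∣ j := by
      rw [← hy]
      exact orderOf_dvd_iff_zpow_eq_one.2 h7
    obtain ⟨t, rfl⟩ := h8
    rw [hpowz, zpow_mul, zpow_mul, zpow_natCast, zpow_natCast, hyf, hsf, one_zpow, one_mul]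
  have hoc : orderOf (y * s) = f := by
    apply Nat.dvd_antisymm
    · apply orderOf_dvd_of_pow_eq_one
      rw [hys.mul_pow, hyf, hsf, one_mul]
    · have h9 : (y * s) ^ (orderOf (y * s)) = 1 := pow_orderOf_eq_one _
      rw [hys.mul_pow] at h9
      have h10 : y ^ orderOf (y * s) ∈ N := by
        have : y ^ orderOf (y * s) = (s ^ orderOf (y * s))⁻¹ := eq_inv_of_mul_eq_one_left h9
        rw [this]
        exact N.inv_mem (N.pow_mem hsN _)
      have h11 : y ^ orderOf (y * s) = 1 :=
        Subgroup.disjoint_def.1 hdisj h10 (Subgroup.npow_mem_zpowers y _)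
      rw [← hy]
      exact orderOf_dvd_of_pow_eq_one h11
  apply nonempty_mulEquiv_prod_of_complement N e (y * s) f hoc hcomm _ hcard
  rw [Subgroup.disjoint_def]
  intro z hzN hzc
  obtain ⟨j, rfl⟩ := Subgroup.mem_zpowers_iff.1 hzc
  exact hkey j hzN

end d8

end Cfsg.Agent.Lib.Helper25.AutOut
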