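import Cfsg.Agent.Lib.Helper25.AutOut11
import Cfsg.Agent.Lib.Helper25.AutOut13

set_option autoImplicit false
set_option linter.unusedSectionVars false
set_option linter.unusedVariables false
set_option linter.unusedSimpArgs false

/-!
# `Out(PΩ(Q))` when the standard field automorphisms fix a reflection (odd `q`, even dimension)

If the form has coefficients in the prime field, the standard field automorphisms commute with the
reflection in a vector with coordinates in the prime field.  This gives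
`Out ≅ C₂ × C₂ × C_f` when `-1 ∉ Ω` (then `f` is odd in the applications) and `Out ≅ D₈ × C_f`
when `-1 ∈ Ω`.
-/

namespace Cfsg.Agent.Lib.Helper25.AutOut

open Module QuadraticMap Matrix Cfsg.Agent.Lib.Helper25.CD Cfsg.Agent.Lib.Helper25.Spin
  Cfsg.Agent.Lib.Helper25.PSim Cfsg.Agent.Lib.Helper25.PAut Cfsg.Agent.Lib.Helper25.PS
  Cfsg.Agent.Lib.Helper25.Siegel Cfsg.Agent.Lib.Helper25.MaxTS Cfsg.Agent.Lib.Helper25.Fam
  Cfsg.Agent.Lib.Helper25.GraphSplit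

universe u

section reflconj

variable {ι : Type} [Fintype ι] [DecidableEq ι] {F : Type u} [Field F] [Fintype F]
  (Q : QuadraticForm F (ι → F))

theorem polar_semiMap' {g : GL ι F} {σ : F ≃+* F} {c : Fˣ}
    (hc : ∀ v, Q (semiMap g σ v) = (c : F) * σ (Q v)) (x y : ι → F) :
    polar Q (semiMap g σ x) (semiMap g σ y) = (c : F) * σ (polar Q x y) := by
  unfold polar
  rw [← semiMap_add, hc, hc, hc, map_sub, map_sub]
  ring

/-- conjugating a reflection by a semisimilarity -/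
theorem semi_conj_refl {g : GL ι F} {σ : F ≃+* F} (h : Cfsg.IsSemisimilarityPair (⇑Q) g σ)
    (w : ι → F) :
    g * sigmaGL σ (reflM Q w).1 * g⁻¹ = (reflM Q (semiMap g σ w)).1 := by
  obtain ⟨c, hc⟩ := pair_apply (⇑Q) h
  apply Units.ext
  apply Cfsg.Agent.Lib.Helper25.PSim.matrix_eq_of_mulVec
  intro y
  obtain ⟨x, rfl⟩ := semiMap_surjective g σ y
  rw [semiMap_conj, reflM_coe, reflM_coe, reflectionMatrix_mulVec, reflectionMatrix_mulVec,
    reflE_apply, reflE_apply, sub_eq_add_neg, ← neg_smul, semiMap_add, semiMap_smul,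
    polar_semiMap' Q hc, hc, map_neg, map_mul, map_inv₀, neg_smul, ← sub_eq_add_neg]
  congr 2
  have hc0 : (c : F) ≠ 0 := c.ne_zero
  by_cases hw : Q w = 0
  · rw [hw, map_zero]
    simp
  · have : σ (Q w) ≠ 0 := fun h0 => hw (by simpa using h0)
    field_simp

end reflconj

section std

variable {ι : Type} [Fintype ι] [DecidableEq ι] {F : Type u} [Field F] [Fintype F]
  (Q : QuadraticForm F (ι → F)) (hstd : ∀ σ : F ≃+* F, Cfsg.IsSemisimilarityPair (⇑Q) 1 σ)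

theorem semiMap_one (σ : F ≃+* F) (w : ι → F) : semiMap (1 : GL ι F) σ w = fun i => σ (w i) := by
  unfold semiMap
  rw [Units.val_one, Matrix.one_mulVec]

/-- the standard field automorphisms commute with the reflection in a vector over the prime
field -/
theorem stdField_comm_refl (σ : F ≃+* F) {w : ι → F} (hw : ∀ i, σ (w i) = w i) :
    stdField (⇑Q) hstd σ * conjTHom (⇑Q) (reflM Q w) =
      conjTHom (⇑Q) (reflM Q w) * stdField (⇑Q) hstd σ := by
  rw [← theta_incl]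
  have h1 := semiAut_mul_theta (⇑Q) (hstd σ) (incl (⇑Q) (reflM Q w))
  have h2 : (⟨(1 : GL ι F) * sigmaGL σ (incl (⇑Q) (reflM Q w)).1 * (1 : GL ι F)⁻¹,
      semi_conj_mem_sim (⇑Q) (hstd σ) (incl (⇑Q) (reflM Q w)).2⟩ :
      ↥(Cfsg.Geo.quadSimilarityGroup (F := F) ⇑Q)) = incl (⇑Q) (reflM Q w) := by
    apply Subtype.ext
    show (1 : GL ι F) * sigmaGL σ (reflM Q w).1 * (1 : GL ι F)⁻¹ = (reflM Q w).1
    rw [semi_conj_refl Q (hstd σ), semiMap_one]
    congr 2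
    funext i
    exact hw i
  rw [h2] at h1
  exact h1

end std

section generic

variable {ι : Type} [Fintype ι] [DecidableEq ι] {F : Type u} [Field F] [Fintype F]
  (Q : QuadraticForm F (ι → F)) (u₀ : ι → F) (hu₀ : Q u₀ = 1)
  (h2 : (2 : F) ≠ 0) (hQ : (polarBilin Q).Nondegenerate) {m : ℕ}
  (hcard : Fintype.card ι = 2 * m) (hn : 7 ≤ Fintype.card ι)

include hu₀ h2 hQ hn in
/-- reflections do not commute modulo `Inn` with similarities of non-square multiplier, when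
`-1 ∈ Ω` -/
theorem comm_refl_not_mem_inn
    (hneg : ∃ g : ↥(Cfsg.isometryGroup F ⇑Q), g ∈ Cfsg.Omega F ⇑Q ∧
        ((g : GL ι F) : Matrix ι ι F) = -1)
    (d : ↥(Cfsg.Geo.quadSimilarityGroup (F := F) ⇑Q))
    (hd : ¬ IsSquare (mult Q u₀ hu₀ d : F)) {w : ι → F} (hw : Q w ≠ 0) :
    theta (⇑Q) d * conjTHom (⇑Q) (reflM Q w) * (theta (⇑Q) d)⁻¹ *
      (conjTHom (⇑Q) (reflM Q w))⁻¹ ∉ Cfsg.Inn (Cfsg.POmega F ⇑Q) := by
  intro hmem
  have hinv : (reflM Q w)⁻¹ = reflM Q w := inv_eq_of_mul_eq_one_left (reflM_mul_self Q w)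
  have e1 : theta (⇑Q) d * conjTHom (⇑Q) (reflM Q w) * (theta (⇑Q) d)⁻¹ *
      (conjTHom (⇑Q) (reflM Q w))⁻¹ =
      theta (⇑Q) (incl (⇑Q) (reflM Q ((d.1 : Matrix ι ι F) *ᵥ w) * reflM Q w)) := by
    rw [← theta_incl, ← map_inv, ← map_inv, ← map_mul, ← map_mul, ← map_mul,
      conj_refl Q u₀ hu₀, ← map_inv, hinv, ← map_mul]
  rw [e1] at hmem
  have h3 := mem_omega_of_theta_mem_inn Q u₀ hu₀ hQ hn hneg _ hmem
  have e : reflM Q ((d.1 : Matrix ι ι F) *ᵥ w) * reflM Q w =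
      wordG Q [(d.1 : Matrix ι ι F) *ᵥ w, w] := by
    rw [wordG_cons, wordG_singleton]
  have hQd : Q ((d.1 : Matrix ι ι F) *ᵥ w) = (mult Q u₀ hu₀ d : F) * Q w := Q_sim Q u₀ hu₀ d w
  have hμ0 : (mult Q u₀ hu₀ d : F) ≠ 0 := Units.ne_zero _
  rw [e, mem_omega_iff Q h2 hQ] at h3
  · apply hd
    obtain ⟨r, hr⟩ := h3.2
    rw [normProd_cons, normProd_cons, normProd_nil, mul_one, hQd] at hr
    refine ⟨r / Q w, ?_⟩
    field_simp
    linear_combination hr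
  · intro x hx
    simp only [List.mem_cons, List.not_mem_nil, or_false] at hx
    rcases hx with rfl | rfl
    · rw [hQd]
      exact mul_ne_zero hμ0 hw
    · exact hw

end generic

section main

variable {ι : Type} [Fintype ι] [DecidableEq ι] {F : Type u} [Field F] [Fintype F]
  (Q : QuadraticForm F (ι → F))
  (h2 : (2 : F) ≠ 0) (hQ : (polarBilin Q).Nondegenerate) {m : ℕ}
  (hcard : Fintype.card ι = 2 * m) (hn : 7 ≤ Fintype.card ι)
  (hAll : ∀ β : MulAut (Cfsg.POmega F ⇑Q), IsPairAut (⇑Q) β)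
  (hstd : ∀ σ : F ≃+* F, Cfsg.IsSemisimilarityPair (⇑Q) 1 σ)
  {f : ℕ} (hcyc : IsCyclic (RingAut F)) (hRA : Nat.card (RingAut F) = f)
  (A : Matrix ι ι F) (ν : F) (hν : ¬ IsSquare ν) (hA : ∀ v, Q (A *ᵥ v) = ν * Q v)
  (w : ι → F) (hw : Q w ≠ 0) (hwfix : ∀ (σ : F ≃+* F) (i : ι), σ (w i) = w i)

omit [Fintype F] in
/-- the image of `PGO` in `Out` from a homomorphism with kernel `Inn` -/
theorem nonempty_equiv_pgo_image {D : Type*} [Group D]
    (hD : ∃ ψ : ↥(Cfsg.pgoAut F ⇑Q) →* D, Function.Surjective ψ ∧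
      ψ.ker = (Cfsg.Inn (Cfsg.POmega F ⇑Q)).subgroupOf (Cfsg.pgoAut F ⇑Q)) :
    Nonempty (↥((Cfsg.pgoAut F ⇑Q).map (QuotientGroup.mk' (Cfsg.Inn (Cfsg.POmega F ⇑Q)))) ≃* D) := by
  obtain ⟨ψ, hψs, hψk⟩ := hD
  let ρ : ↥(Cfsg.pgoAut F ⇑Q) →*
      ↥((Cfsg.pgoAut F ⇑Q).map (QuotientGroup.mk' (Cfsg.Inn (Cfsg.POmega F ⇑Q)))) :=
    (QuotientGroup.mk' (Cfsg.Inn (Cfsg.POmega F ⇑Q))).subgroupMap (Cfsg.pgoAut F ⇑Q)
  have hρs : Function.Surjective ρ := MonoidHom.subgroupMap_surjective _ _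
  have hρk : ρ.ker = ψ.ker := by
    rw [hψk]
    ext x
    rw [MonoidHom.mem_ker, Subgroup.mem_subgroupOf, Subtype.ext_iff]
    show (QuotientGroup.mk' (Cfsg.Inn (Cfsg.POmega F ⇑Q))) x.1 = 1 ↔ _
    rw [QuotientGroup.mk'_apply, QuotientGroup.eq_one_iff]
  exact ⟨(QuotientGroup.quotientKerEquivOfSurjective ρ hρs).symm.trans
      ((QuotientGroup.quotientMulEquivOfEq hρk).trans
        (QuotientGroup.quotientKerEquivOfSurjective ψ hψs))⟩

include h2 hQ hcard hn hAll hstd hcyc hRA hν hA hw hwfix in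
/-- `Out(PΩ(Q)) ≅ C₂ × C₂ × C_f` if `-1 ∉ Ω` and `f` is odd; `Out(PΩ(Q)) ≅ D₈ × C_f` if
`-1 ∈ Ω`. -/
theorem out_even_split :
    ((¬ ∃ g : ↥(Cfsg.isometryGroup F ⇑Q), g ∈ Cfsg.Omega F ⇑Q ∧
        ((g : GL ι F) : Matrix ι ι F) = -1) → Odd f →
      Nonempty (Cfsg.Out (Cfsg.POmega F ⇑Q) ≃* Multiplicative (ZMod 2 × ZMod 2 × ZMod f))) ∧
    ((∃ g : ↥(Cfsg.isometryGroup F ⇑Q), g ∈ Cfsg.Omega F ⇑Q ∧
        ((g : GL ι F) : Matrix ι ι F) = -1) →
      Nonempty (Cfsg.Out (Cfsg.POmega F ⇑Q) ≃* DihedralGroup 4 × Multiplicative (ZMod f))) := by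
  have hσ : ∀ σ : F ≃+* F, ∃ g : GL ι F, Cfsg.IsSemisimilarityPair (⇑Q) g σ :=
    fun σ => ⟨1, hstd σ⟩
  have hfin : 2 ≤ finrank F (ι → F) := by
    rw [Module.finrank_fintype_fun_eq_card]
    omega
  obtain ⟨u₀, hu₀⟩ := exists_rep Q hQ hfin 1
  obtain ⟨σ₀, hσ₀⟩ := hcyc.exists_generator
  have hoσ : orderOf σ₀ = f := by
    rw [← hRA]
    exact orderOf_eq_card_of_forall_mem_zpowers hσ₀
  set N := (Cfsg.pgoAut F ⇑Q).map (QuotientGroup.mk' (Cfsg.Inn (Cfsg.POmega F ⇑Q))) with hNdef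
  have hNker : N = (outField Q hQ hn hAll).ker := (outField_ker Q hQ hn hAll).symm
  haveI : N.Normal := by rw [hNker]; infer_instance
  have hcardOut : Nat.card (Cfsg.Out (Cfsg.POmega F ⇑Q)) = Nat.card ↥N * f := by
    rw [card_out Q hQ hn hAll hσ, hRA, hNdef, card_pgo_image]
  haveI : Finite (Cfsg.Out (Cfsg.POmega F ⇑Q)) := inferInstance
  -- the complement
  obtain ⟨y, hydef⟩ : ∃ y, y = outStd Q hstd σ₀ := ⟨_, rfl⟩
  have hoy : orderOf y = f := by
    rw [hydef, orderOf_injective _ (outStd_injective Q hQ hn hAll hstd), hoσ]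
  have hdisj : Disjoint N (Subgroup.zpowers y) := by
    rw [Subgroup.disjoint_def]
    intro z hzN hzy
    obtain ⟨j, rfl⟩ := Subgroup.mem_zpowers_iff.1 hzy
    rw [hydef, ← map_zpow] at hzN ⊢
    rw [hNker, MonoidHom.mem_ker, outField_outStd] at hzN
    rw [hzN, map_one]
  -- the reflection
  obtain ⟨s, hsdef⟩ : ∃ s : Cfsg.Out (Cfsg.POmega F ⇑Q),
      s = QuotientGroup.mk (conjTHom (⇑Q) (reflM Q w)) := ⟨_, rfl⟩
  have hrP : conjTHom (⇑Q) (reflM Q w) ∈ Cfsg.pgoAut F ⇑Q := by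
    rw [← theta_incl, pgoAut_eq]
    exact ⟨_, rfl⟩
  have hsN : s ∈ N := by
    rw [hsdef, hNdef]
    exact ⟨_, hrP, rfl⟩
  have hs2 : s * s = 1 := by
    rw [hsdef, ← QuotientGroup.mk_mul, ← map_mul, reflM_mul_self, map_one]
    rfl
  have hys : Commute y s := by
    show y * s = s * y
    rw [hydef, hsdef]
    show (QuotientGroup.mk (stdField (⇑Q) hstd σ₀) : Cfsg.Out (Cfsg.POmega F ⇑Q)) *
      QuotientGroup.mk (conjTHom (⇑Q) (reflM Q w)) = QuotientGroup.mk (conjTHom (⇑Q) (reflM Q w)) *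
      QuotientGroup.mk (stdField (⇑Q) hstd σ₀)
    rw [← QuotientGroup.mk_mul, ← QuotientGroup.mk_mul, stdField_comm_refl Q hstd σ₀ (hwfix σ₀)]
  constructor
  · intro hneg hfodd
    obtain ⟨e⟩ := nonempty_equiv_pgo_image Q
      (exists_hom_pgo_inn_klein Q h2 hQ hcard hn A ν hν hA hneg)
    have hs1 : s ≠ 1 := by
      intro h
      rw [hsdef, QuotientGroup.eq_one_iff] at h
      exact conjT_refl_not_mem_proper Q u₀ hu₀ h2 hQ hcard hn hw
        (inn_le_properAut Q u₀ hu₀ h2 hQ hcard h)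
    exact nonempty_mulEquiv_klein_prod N e y f hfodd hoy hdisj hcardOut hsN hs1 hys
  · intro hneg
    obtain ⟨e⟩ := nonempty_equiv_pgo_image Q
      (exists_hom_pgo_inn_D8' Q h2 hQ hcard hn A ν hν hA hneg)
    obtain ⟨u₁, hu₁, d, hd⟩ := exists_data Q h2 hQ (by omega) A ν hν hA
    have hnc : ∃ n ∈ N, s * n ≠ n * s := by
      refine ⟨QuotientGroup.mk (theta (⇑Q) d), ⟨_, by rw [pgoAut_eq]; exact ⟨d, rfl⟩, rfl⟩, ?_⟩
      intro hcomm
      apply comm_refl_not_mem_inn Q u₁ hu₁ h2 hQ hn hneg d (by rw [hd]; exact hν) hw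
      rw [← QuotientGroup.eq_one_iff]
      rw [hsdef] at hcomm
      have h5 : (QuotientGroup.mk (theta (⇑Q) d) : Cfsg.Out (Cfsg.POmega F ⇑Q)) *
          QuotientGroup.mk (conjTHom (⇑Q) (reflM Q w)) *
          (QuotientGroup.mk (theta (⇑Q) d))⁻¹ *
          (QuotientGroup.mk (conjTHom (⇑Q) (reflM Q w)))⁻¹ = 1 := by
        rw [← hcomm]
        group
      exact h5
    exact nonempty_mulEquiv_d8_prod N e y f hoy hdisj hcardOut hsN hs2 hnc hys

end main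

end Cfsg.Agent.Lib.Helper25.AutOut
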