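import Mathlib

set_option autoImplicit false
set_option linter.unusedSectionVars false
set_option linter.unusedVariables false
set_option linter.unusedSimpArgs false

/-!
# Recognising `S₄ × R`

A finite group `G` of order `24 f` with homomorphisms `π₁ : G → S₃`, `π₂ : G → R` (`π₂` onto,
`|R| = f`), whose common kernel `V` has order at most four, such that an element of `ker π₂` of
order three modulo `V` does not centralise `V`, is isomorphic to `S₄ × R`: it acts faithfully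
modulo `ker π₂ ∩ ...` on the four conjugates of a subgroup of order three.
-/

namespace Cfsg.Agent.Lib.Helper25.AutOut

section s3

theorem s3_cases : ∀ a b : Equiv.Perm (Fin 3), a ≠ 1 → a ^ 3 = 1 → b ≠ 1 → b ^ 3 = 1 →
    b = a ∨ b = a⁻¹ := by decide

theorem s3_comm1 : ∀ c σ : Equiv.Perm (Fin 3), c ≠ 1 → c ^ 3 = 1 → σ ≠ 1 → σ ^ 3 ≠ 1 →
    c * σ * c⁻¹ * σ⁻¹ ≠ 1 := by decide

set_option maxRecDepth 4000 in
theorem s3_comm2 : ∀ c σ : Equiv.Perm (Fin 3), c ≠ 1 → c ^ 3 = 1 →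
    (c * σ * c⁻¹ * σ⁻¹) ^ 3 = 1 := by decide

theorem s3_conj : ∀ c g : Equiv.Perm (Fin 3), c ≠ 1 → c ^ 3 = 1 →
    g * c * g⁻¹ = c ∨ g * c * g⁻¹ = c⁻¹ := by decide

theorem s3_sq : ∀ c : Equiv.Perm (Fin 3), c ^ 3 = 1 → c = c⁻¹ → c = 1 := by decide

end s3

section abstract

open scoped Pointwise

variable {G : Type*} [Group G]

/-- a fixed-point-free automorphism of a finite normal subgroup: `w ↦ [w, z]` is onto -/
theorem exists_comm_eq [Finite G] (V : Subgroup G) [V.Normal] (z : G)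
    (hz : ∀ w ∈ V, z * w = w * z → w = 1) (v' : G) (hv' : v' ∈ V) :
    ∃ w ∈ V, w * z * w⁻¹ * z⁻¹ = v' := by
  have hmem : ∀ w : ↥V, (w : G) * z * (w : G)⁻¹ * z⁻¹ ∈ V := by
    intro w
    have h1 : z * (w : G)⁻¹ * z⁻¹ ∈ V := Subgroup.Normal.conj_mem inferInstance _ (V.inv_mem w.2) z
    have : (w : G) * z * (w : G)⁻¹ * z⁻¹ = (w : G) * (z * (w : G)⁻¹ * z⁻¹) := by group
    rw [this]
    exact V.mul_mem w.2 h1
  let κ : ↥V → ↥V := fun w => ⟨(w : G) * z * (w : G)⁻¹ * z⁻¹, hmem w⟩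
  have hinj : Function.Injective κ := by
    intro w w' h
    have h1 : (w : G) * z * (w : G)⁻¹ * z⁻¹ = (w' : G) * z * (w' : G)⁻¹ * z⁻¹ :=
      congrArg Subtype.val h
    have h2 : (w : G) * z * (w : G)⁻¹ = (w' : G) * z * (w' : G)⁻¹ := mul_right_cancel h1
    have h3 : z * ((w' : G)⁻¹ * (w : G)) = ((w' : G)⁻¹ * (w : G)) * z := by
      calc z * ((w' : G)⁻¹ * (w : G))
          = (w' : G)⁻¹ * ((w' : G) * z * (w' : G)⁻¹) * (w : G) := by group
        _ = (w' : G)⁻¹ * ((w : G) * z * (w : G)⁻¹) * (w : G) := by rw [h2]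
        _ = ((w' : G)⁻¹ * (w : G)) * z := by group
    have h4 := hz _ (V.mul_mem (V.inv_mem w'.2) w.2) h3
    apply Subtype.ext
    calc (w : G) = (w' : G) * ((w' : G)⁻¹ * (w : G)) := by group
      _ = (w' : G) := by rw [h4, mul_one]
  obtain ⟨w, hw⟩ := (Finite.injective_iff_surjective.1 hinj) ⟨v', hv'⟩
  exact ⟨w.1, w.2, congrArg Subtype.val hw⟩

/-- an element acting with order three on a group of order four without fixing everything has no
non-trivial fixed point -/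
theorem fixed_eq_one_of_card_four [Finite G] (V : Subgroup G) [V.Normal] (hV : Nat.card ↥V = 4)
    (u : G) (hu3 : ∀ x ∈ V, u ^ 3 * x = x * u ^ 3) {v : G} (hv : v ∈ V) (huv : u * v ≠ v * u)
    (w : G) (hw : w ∈ V) (huw : u * w = w * u) : w = 1 := by
  classical
  by_contra hw1
  haveI : Fintype ↥V := Fintype.ofFinite _
  have hcj : ∀ x : G, x ∈ V → u * x * u⁻¹ ∈ V :=
    fun x hx => Subgroup.Normal.conj_mem inferInstance x hx u
  -- the conjugation map
  obtain ⟨φ, hφ⟩ : ∃ φ : G → G, ∀ x, φ x = u * x * u⁻¹ := ⟨fun x => u * x * u⁻¹, fun _ => rfl⟩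
  have hφinj : ∀ x y, φ x = φ y → x = y := by
    intro x y h
    rw [hφ, hφ] at h
    exact mul_left_cancel (mul_right_cancel h)
  have hφ1 : φ 1 = 1 := by rw [hφ]; group
  have hφw : φ w = w := by rw [hφ, huw, mul_inv_cancel_right]
  have hφv : φ v ≠ v := by
    intro h
    apply huv
    rw [hφ] at h
    calc u * v = (u * v * u⁻¹) * u := by group
      _ = v * u := by rw [h]
  have hφ3 : φ (φ (φ v)) = v := by
    rw [hφ, hφ, hφ]
    have h1 := hu3 v hv
    have e3 : u ^ 3 = u * u * u := by rw [pow_succ, pow_two]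
    rw [e3] at h1
    calc u * (u * (u * v * u⁻¹) * u⁻¹) * u⁻¹ = (u * u * u * v) * (u * u * u)⁻¹ := by group
      _ = v := by rw [h1, mul_inv_cancel_right]
  have hV' : ∀ x, x ∈ V → φ x ∈ V := fun x hx => by rw [hφ]; exact hcj x hx
  -- five distinct elements
  have d1 : φ v ≠ φ (φ v) := fun h => hφv (hφinj _ _ h).symm
  have d2 : v ≠ φ (φ v) := by
    intro h
    apply hφv
    have : φ v = φ (φ (φ v)) := congrArg φ h
    rw [hφ3] at this
    exact this
  have d3 : w ≠ v := by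
    intro h
    apply hφv
    rw [← h, hφw]
  have d4 : w ≠ φ v := by
    intro h
    apply d3
    apply hφinj
    rw [hφw, h]
  have d5 : w ≠ φ (φ v) := by
    intro h
    apply d4
    apply hφinj
    rw [hφw, h]
  have d6 : (1 : G) ≠ v := by
    intro h
    apply hφv
    rw [← h, hφ1]
  have d7 : (1 : G) ≠ φ v := by
    intro h
    apply d6
    apply hφinj
    rw [hφ1, h]
  have d8 : (1 : G) ≠ φ (φ v) := by
    intro h
    apply d7
    apply hφinj
    rw [hφ1, h]
  have d9 : (1 : G) ≠ w := fun h => hw1 h.symm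
  let S : Finset ↥V := {(1 : ↥V), ⟨w, hw⟩, ⟨v, hv⟩, ⟨φ v, hV' v hv⟩, ⟨φ (φ v), hV' _ (hV' v hv)⟩}
  have hS : S.card = 5 := by
    have ne : ∀ {a b : G} (ha : a ∈ V) (hb : b ∈ V), a ≠ b → (⟨a, ha⟩ : ↥V) ≠ ⟨b, hb⟩ :=
      fun ha hb h h' => h (congrArg Subtype.val h')
    rw [Finset.card_insert_of_notMem, Finset.card_insert_of_notMem, Finset.card_insert_of_notMem,
      Finset.card_insert_of_notMem, Finset.card_singleton]
    · simp only [Finset.mem_singleton]
      exact ne _ _ d1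
    · simp only [Finset.mem_insert, Finset.mem_singleton, not_or]
      exact ⟨ne _ _ (fun h => hφv h.symm), ne _ _ d2⟩
    · simp only [Finset.mem_insert, Finset.mem_singleton, not_or]
      exact ⟨ne _ _ d3, ne _ _ d4, ne _ _ d5⟩
    · simp only [Finset.mem_insert, Finset.mem_singleton, not_or]
      exact ⟨ne V.one_mem _ d9, ne V.one_mem _ d6, ne V.one_mem _ d7, ne V.one_mem _ d8⟩
  have h5 : S.card ≤ Fintype.card ↥V := Finset.card_le_univ S
  rw [hS, ← Nat.card_eq_fintype_card, hV] at h5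
  omega


/-- the normaliser of `⟨u⟩` for an element `u` of order three, explicitly -/
def invNormalizer (u : G) : Subgroup G where
  carrier := {g | g * u * g⁻¹ = u ∨ g * u * g⁻¹ = u⁻¹}
  one_mem' := Or.inl (by group)
  mul_mem' := by
    intro a b ha hb
    have e : a * b * u * (a * b)⁻¹ = a * (b * u * b⁻¹) * a⁻¹ := by group
    show a * b * u * (a * b)⁻¹ = u ∨ a * b * u * (a * b)⁻¹ = u⁻¹
    rw [e]
    have einv : a * u⁻¹ * a⁻¹ = (a * u * a⁻¹)⁻¹ := by group
    rcases hb with hb | hb <;> rcases ha with ha | ha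
    · left; rw [hb, ha]
    · right; rw [hb, ha]
    · right; rw [hb, einv, ha]
    · left; rw [hb, einv, ha, inv_inv]
  inv_mem' := by
    intro a ha
    show a⁻¹ * u * a⁻¹⁻¹ = u ∨ a⁻¹ * u * a⁻¹⁻¹ = u⁻¹
    rcases ha with ha | ha
    · left
      calc a⁻¹ * u * a⁻¹⁻¹ = a⁻¹ * (a * u * a⁻¹) * a := by rw [ha, inv_inv]
        _ = u := by group
    · right
      have h1 : a * u⁻¹ * a⁻¹ = u := by
        have : a * u⁻¹ * a⁻¹ = (a * u * a⁻¹)⁻¹ := by group
        rw [this, ha, inv_inv]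
      calc a⁻¹ * u * a⁻¹⁻¹ = a⁻¹ * (a * u⁻¹ * a⁻¹) * a := by rw [h1, inv_inv]
        _ = u⁻¹ := by group

theorem mem_invNormalizer {u g : G} :
    g ∈ invNormalizer u ↔ g * u * g⁻¹ = u ∨ g * u * g⁻¹ = u⁻¹ := Iff.rfl

/-- **Recognition of `S₄ × R`.** -/
theorem nonempty_mulEquiv_s4_prod [Finite G] {R : Type*} [Group R] (f : ℕ) (hf : 0 < f)
    (π1 : G →* Equiv.Perm (Fin 3)) (π2 : G →* R) (hπ2 : Function.Surjective π2)
    (hR : Nat.card R = f) (hcard : Nat.card G = 24 * f)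
    (hV : Nat.card ↥(π1.ker ⊓ π2.ker) ≤ 4)
    (t v : G) (ht2 : t ∈ π2.ker) (ht1 : π1 t ≠ 1) (ht3 : π1 t ^ 3 = 1)
    (hv1 : v ∈ π1.ker) (hv2 : v ∈ π2.ker) (htv : t * v ≠ v * t) :
    Nonempty (G ≃* Equiv.Perm (Fin 4) × R) := by
  haveI : Finite R := Nat.finite_of_card_ne_zero (by rw [hR]; exact hf.ne')
  haveI : Fact (Nat.Prime 3) := ⟨Nat.prime_three⟩
  haveI : Fact (Nat.Prime 2) := ⟨Nat.prime_two⟩
  set V : Subgroup G := π1.ker ⊓ π2.ker with hVdef
  have hmemV : ∀ x, x ∈ V ↔ π1 x = 1 ∧ π2 x = 1 := by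
    intro x
    rw [hVdef, Subgroup.mem_inf, MonoidHom.mem_ker, MonoidHom.mem_ker]
  haveI hVn : V.Normal := by rw [hVdef]; infer_instance
  have hvV : v ∈ V := (hmemV v).2 ⟨hv1, hv2⟩
  -- the product homomorphism is onto and `|V| = 4`
  have hkerP : (π1.prod π2).ker = V := MonoidHom.ker_prod π1 π2
  have hcardT : Nat.card (Equiv.Perm (Fin 3) × R) = 6 * f := by
    rw [Nat.card_prod, Nat.card_perm, hR, Nat.card_fin]
    rfl
  have h1 := Subgroup.card_mul_index (π1.prod π2).ker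
  rw [Subgroup.index_ker, hkerP, hcard] at h1
  have hle : Nat.card ↥(π1.prod π2).range ≤ 6 * f := by
    rw [← hcardT]
    exact Subgroup.card_le_card_group _
  have hV4 : Nat.card ↥V = 4 := by
    have hpos : 0 < Nat.card ↥(π1.prod π2).range := Nat.card_pos
    by_contra hne
    have hlt : Nat.card ↥V ≤ 3 := by omega
    have : Nat.card ↥V * Nat.card ↥(π1.prod π2).range ≤ 3 * (6 * f) :=
      Nat.mul_le_mul hlt hle
    omega
  have hrange : Nat.card ↥(π1.prod π2).range = 6 * f := by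
    rw [hV4] at h1
    omega
  have hsurjP : Function.Surjective (π1.prod π2) := by
    rw [← MonoidHom.range_eq_top]
    apply (Subgroup.card_eq_iff_eq_top _).1
    rw [hrange, hcardT]
  -- `|ker π₂| = 24`
  have hN24 : Nat.card ↥π2.ker = 24 := by
    have h3 := Subgroup.card_mul_index π2.ker
    rw [Subgroup.index_ker, MonoidHom.range_eq_top.2 hπ2, Subgroup.card_top, hR, hcard] at h3
    exact Nat.eq_of_mul_eq_mul_right hf h3
  -- `V` is commutative
  have hVcomm : ∀ a ∈ V, ∀ b ∈ V, a * b = b * a := by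
    intro a ha b hb
    have hc := IsPGroup.isMulCommutative_of_card_eq_prime_sq (p := 2) (G := ↥V) (by rw [hV4]; rfl)
    have := hc.is_comm.comm (⟨a, ha⟩ : ↥V) ⟨b, hb⟩
    exact congrArg Subtype.val this
  -- an element of order three
  obtain ⟨u', hu'⟩ := exists_prime_orderOf_dvd_card' (G := ↥π2.ker) 3 (by rw [hN24]; norm_num)
  obtain ⟨u, hudef⟩ : ∃ u : G, u = u'.1 := ⟨_, rfl⟩
  have hu2 : π2 u = 1 := by rw [hudef]; exact u'.2
  have hou : orderOf u = 3 := by rw [hudef, Subgroup.orderOf_coe, hu']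
  have hu3 : u ^ 3 = 1 := by rw [← hou]; exact pow_orderOf_eq_one u
  obtain ⟨c, hcdef⟩ : ∃ c, c = π1 u := ⟨_, rfl⟩
  have hc3 : c ^ 3 = 1 := by rw [hcdef, ← map_pow, hu3, map_one]
  have hc1 : c ≠ 1 := by
    intro h
    have huV : u ∈ V := (hmemV u).2 ⟨by rw [← hcdef, h], hu2⟩
    have h4 : orderOf (⟨u, huV⟩ : ↥V) ∣ Nat.card ↥V := orderOf_dvd_natCard _
    rw [← Subgroup.orderOf_coe, hou, hV4] at h4
    omega
  -- `u` does not commute with `v`
  have huv : u * v ≠ v * u := by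
    intro hcomm
    apply htv
    have hcomm' : u⁻¹ * v = v * u⁻¹ := by
      calc u⁻¹ * v = u⁻¹ * (v * u) * u⁻¹ := by group
        _ = u⁻¹ * (u * v) * u⁻¹ := by rw [hcomm]
        _ = v * u⁻¹ := by group
    rcases s3_cases (π1 t) c ht1 ht3 hc1 hc3 with h | h
    · have hv0 : u⁻¹ * t ∈ V := by
        rw [hmemV, map_mul, map_mul, map_inv, map_inv, ← hcdef, h, hu2,
          (MonoidHom.mem_ker).1 ht2]
        constructor <;> group
      have e : t = u * (u⁻¹ * t) := by group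
      rw [e, mul_assoc, hVcomm _ hv0 _ hvV, ← mul_assoc, hcomm, mul_assoc]
    · have hv0 : u * t ∈ V := by
        rw [hmemV, map_mul, map_mul, ← hcdef, h, hu2, (MonoidHom.mem_ker).1 ht2]
        constructor <;> group
      have e : t = u⁻¹ * (u * t) := by group
      rw [e, mul_assoc, hVcomm _ hv0 _ hvV, ← mul_assoc, hcomm', mul_assoc]
  -- no fixed points
  have hfix : ∀ w ∈ V, u * w = w * u → w = 1 := by
    intro w hw huw
    apply fixed_eq_one_of_card_four V hV4 u _ hvV huv w hw huw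
    intro x _
    rw [hu3, one_mul, mul_one]
  have hfix' : ∀ w ∈ V, u⁻¹ * w = w * u⁻¹ → w = 1 := by
    intro w hw huw
    apply hfix w hw
    calc u * w = u * (w * u⁻¹) * u := by group
      _ = u * (u⁻¹ * w) * u := by rw [huw]
      _ = w * u := by group
  -- the normaliser
  set H := invNormalizer u with hHdef
  have hVH : ∀ w, w ∈ V → w ∈ H → w = 1 := by
    intro w hwV hwH
    rcases hwH with h | h
    · apply hfix w hwV
      have : w * u = u * w := by
        calc w * u = (w * u * w⁻¹) * w := by group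
          _ = u * w := by rw [h]
      exact this.symm
    · exfalso
      have h5 := congrArg π1 h
      rw [map_mul, map_mul, map_inv, map_inv, ((hmemV w).1 hwV).1, ← hcdef] at h5
      apply hc1
      apply s3_sq c hc3
      simpa using h5
  have hdisj : Disjoint V H := by
    rw [Subgroup.disjoint_def]
    exact fun hx hy => hVH _ hx hy
  have hmul : (V : Set G) * (H : Set G) = Set.univ := by
    rw [Set.eq_univ_iff_forall]
    intro g
    rw [Set.mem_mul]
    have hπ1' : π1 (g * u * g⁻¹) = c ∨ π1 (g * u * g⁻¹) = c⁻¹ := by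
      rw [map_mul, map_mul, map_inv, ← hcdef]
      exact s3_conj c (π1 g) hc1 hc3
    have hπ2' : π2 (g * u * g⁻¹) = 1 := by
      rw [map_mul, map_mul, map_inv, hu2, mul_one, mul_inv_cancel]
    rcases hπ1' with h | h
    · have hv' : g * u * g⁻¹ * u⁻¹ ∈ V := by
        rw [hmemV]
        constructor
        · rw [map_mul π1 (g * u * g⁻¹) u⁻¹, h, map_inv, ← hcdef, mul_inv_cancel]
        · rw [map_mul π2 (g * u * g⁻¹) u⁻¹, hπ2', map_inv, hu2, inv_one, mul_one]
      obtain ⟨w, hwV, hw⟩ := exists_comm_eq V u hfix _ hv'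
      refine ⟨w, hwV, w⁻¹ * g, ?_, by group⟩
      left
      have h6 : w * u * w⁻¹ = g * u * g⁻¹ := mul_right_cancel hw
      calc w⁻¹ * g * u * (w⁻¹ * g)⁻¹ = w⁻¹ * (g * u * g⁻¹) * w := by group
        _ = w⁻¹ * (w * u * w⁻¹) * w := by rw [h6]
        _ = u := by group
    · have hv' : g * u * g⁻¹ * u⁻¹⁻¹ ∈ V := by
        rw [hmemV]
        constructor
        · rw [map_mul π1 (g * u * g⁻¹) u⁻¹⁻¹, h, map_inv, map_inv, ← hcdef, inv_inv,
            inv_mul_cancel]
        · rw [map_mul π2 (g * u * g⁻¹) u⁻¹⁻¹, hπ2', map_inv, map_inv, hu2, inv_one, inv_one,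
            mul_one]
      obtain ⟨w, hwV, hw⟩ := exists_comm_eq V u⁻¹ hfix' _ hv'
      refine ⟨w, hwV, w⁻¹ * g, ?_, by group⟩
      right
      have h6 : w * u⁻¹ * w⁻¹ = g * u * g⁻¹ := mul_right_cancel hw
      calc w⁻¹ * g * u * (w⁻¹ * g)⁻¹ = w⁻¹ * (g * u * g⁻¹) * w := by group
        _ = w⁻¹ * (w * u⁻¹ * w⁻¹) * w := by rw [h6]
        _ = u⁻¹ := by group
  have hidx : H.index = 4 := by
    rw [(Subgroup.isComplement'_of_disjoint_and_mul_eq_univ hdisj hmul).index_eq_card, hV4]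
  have hidx' : Nat.card (G ⧸ H) = 4 := hidx
  -- the action on the cosets of `H`
  obtain ⟨Ψ, hΨ⟩ : ∃ Ψ : G →* Equiv.Perm (G ⧸ H) × R,
      Ψ = (MulAction.toPermHom G (G ⧸ H)).prod π2 := ⟨_, rfl⟩
  have hker : ∀ k, Ψ k = 1 → π2 k = 1 ∧ ∀ a : G, a⁻¹ * k * a ∈ H := by
    intro k hk
    rw [hΨ, MonoidHom.prod_apply, Prod.mk_eq_one] at hk
    refine ⟨hk.2, fun a => ?_⟩
    have h7 : (MulAction.toPermHom G (G ⧸ H) k) (a : G ⧸ H) = (a : G ⧸ H) := by
      rw [hk.1]; rfl
    have h8 : ((k * a : G) : G ⧸ H) = (a : G ⧸ H) := h7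
    have h9 := QuotientGroup.eq.1 h8.symm
    rwa [← mul_assoc] at h9
  -- elements of the kernel centralise `V`
  have hkV : ∀ k, Ψ k = 1 → ∀ w ∈ V, w * k = k * w := by
    intro k hk w hw
    obtain ⟨-, hkH⟩ := hker k hk
    have h10 : w * k * w⁻¹ * k⁻¹ ∈ H := by
      have ha := hkH w⁻¹
      have hb := hkH 1
      rw [inv_inv] at ha
      rw [inv_one, one_mul, mul_one] at hb
      exact H.mul_mem ha (H.inv_mem hb)
    have h11 : w * k * w⁻¹ * k⁻¹ ∈ V := by
      have : w * k * w⁻¹ * k⁻¹ = w * (k * w⁻¹ * k⁻¹) := by group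
      rw [this]
      exact V.mul_mem hw (Subgroup.Normal.conj_mem inferInstance _ (V.inv_mem hw) k)
    have h12 := hVH _ h11 h10
    calc w * k = (w * k * w⁻¹ * k⁻¹) * k * w := by group
      _ = k * w := by rw [h12, one_mul]
  -- no element of the kernel maps to an element of order three
  have hA : ∀ k, Ψ k = 1 → π1 k = c → False := by
    intro k hk hkc
    apply huv
    have hv0 : u⁻¹ * k ∈ V := by
      rw [hmemV, map_mul, map_mul, map_inv, map_inv, hkc, ← hcdef, hu2, (hker k hk).1]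
      constructor <;> group
    have e : u = k * (u⁻¹ * k)⁻¹ := by group
    have h13 : (u⁻¹ * k)⁻¹ * v = v * (u⁻¹ * k)⁻¹ := hVcomm _ (V.inv_mem hv0) _ hvV
    calc u * v = k * ((u⁻¹ * k)⁻¹ * v) := by rw [← mul_assoc, ← e]
      _ = k * (v * (u⁻¹ * k)⁻¹) := by rw [h13]
      _ = (k * v) * (u⁻¹ * k)⁻¹ := by rw [mul_assoc]
      _ = (v * k) * (u⁻¹ * k)⁻¹ := by rw [hkV k hk v hvV]
      _ = v * u := by rw [mul_assoc, ← e]
  have hA' : ∀ k, Ψ k = 1 → π1 k ≠ 1 → π1 k ^ 3 = 1 → False := by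
    intro k hk hk1 hk3
    rcases s3_cases c (π1 k) hc1 hc3 hk1 hk3 with h | h
    · exact hA k hk h
    · apply hA k⁻¹ (by rw [map_inv, hk, inv_one])
      rw [map_inv, h, inv_inv]
  have hB : ∀ k, Ψ k = 1 → π1 k = 1 := by
    intro k hk
    by_contra hk1
    by_cases hk3 : π1 k ^ 3 = 1
    · exact hA' k hk hk1 hk3
    · apply hA' (u * k * u⁻¹ * k⁻¹)
      · rw [map_mul, map_mul, map_mul, map_inv, map_inv, hk]
        group
      · rw [map_mul, map_mul, map_mul, map_inv, map_inv, ← hcdef]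
        exact s3_comm1 c (π1 k) hc1 hc3 hk1 hk3
      · rw [map_mul, map_mul, map_mul, map_inv, map_inv, ← hcdef]
        exact s3_comm2 c (π1 k) hc1 hc3
  have hinj : Function.Injective Ψ := by
    rw [injective_iff_map_eq_one]
    intro k hk
    obtain ⟨hk2, hkH⟩ := hker k hk
    apply hVH k ((hmemV k).2 ⟨hB k hk, hk2⟩)
    have := hkH 1
    rwa [inv_one, one_mul, mul_one] at this
  haveI : Finite (G ⧸ H) := inferInstance
  have hcardΨ : Nat.card G = Nat.card (Equiv.Perm (G ⧸ H) × R) := by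
    rw [Nat.card_prod, Nat.card_perm, hidx', hR, hcard]
    rfl
  have hbij : Function.Bijective Ψ :=
    (Nat.bijective_iff_injective_and_card Ψ).2 ⟨hinj, hcardΨ⟩
  exact ⟨(MulEquiv.ofBijective Ψ hbij).trans
    (MulEquiv.prodCongr (Finite.equivFinOfCardEq hidx').permCongrHom (MulEquiv.refl R))⟩

end abstract

end Cfsg.Agent.Lib.Helper25.AutOut
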