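import Cfsg.Agent.Lib.Helper25.AutOut2

set_option autoImplicit false
set_option linter.unusedSectionVars false
set_option linter.unusedVariables false
set_option linter.unusedSimpArgs false

/-!
# The outer automorphism group of `PΩ(Q)`: standard field automorphisms and the odd case
-/

namespace Cfsg.Agent.Lib.Helper25.AutOut

open Module QuadraticMap Matrix Cfsg.Agent.Lib.Helper25.CD Cfsg.Agent.Lib.Helper25.Spin
  Cfsg.Agent.Lib.Helper25.PSim Cfsg.Agent.Lib.Helper25.PAut Cfsg.Agent.Lib.Helper25.PS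
  Cfsg.Agent.Lib.Helper25.Siegel Cfsg.Agent.Lib.Helper25.MaxTS Cfsg.Agent.Lib.Helper25.Fam
  Cfsg.Agent.Lib.Helper25.GraphSplit

universe u

section abstract

variable {G : Type*} [Group G]

/-- A finite group which is the internal direct product of two cyclic subgroups. -/
theorem nonempty_mulEquiv_prod_zmod [Finite G] (x y : G) (hxy : Commute x y) (a b : ℕ)
    (hx : orderOf x = a) (hy : orderOf y = b)
    (hdisj : Disjoint (Subgroup.zpowers x) (Subgroup.zpowers y))
    (hcard : Nat.card G = a * b) : Nonempty (G ≃* Multiplicative (ZMod a × ZMod b)) := by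
  have comm : ∀ (m : ↥(Subgroup.zpowers x)) (n : ↥(Subgroup.zpowers y)),
      Commute ((Subgroup.zpowers x).subtype m) ((Subgroup.zpowers y).subtype n) := by
    rintro ⟨m, hm⟩ ⟨n, hn⟩
    obtain ⟨i, rfl⟩ := Subgroup.mem_zpowers_iff.1 hm
    obtain ⟨j, rfl⟩ := Subgroup.mem_zpowers_iff.1 hn
    exact (hxy.zpow_left i).zpow_right j
  let ψ := MonoidHom.noncommCoprod (Subgroup.zpowers x).subtype (Subgroup.zpowers y).subtype comm
  have hinj : Function.Injective ψ := by
    rw [MonoidHom.noncommCoprod_injective]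
    refine ⟨Subtype.val_injective, Subtype.val_injective, ?_⟩
    rw [Subgroup.range_subtype, Subgroup.range_subtype]
    exact hdisj
  have hcard' : Nat.card (↥(Subgroup.zpowers x) × ↥(Subgroup.zpowers y)) = Nat.card G := by
    rw [Nat.card_prod, Nat.card_zpowers, Nat.card_zpowers, hx, hy, hcard]
  have hbij : Function.Bijective ψ :=
    (Nat.bijective_iff_injective_and_card ψ).2 ⟨hinj, hcard'⟩
  have e0 : (↥(Subgroup.zpowers x) × ↥(Subgroup.zpowers y)) ≃* G := MulEquiv.ofBijective ψ hbij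
  have ha : Nat.card ↥(Subgroup.zpowers x) = Nat.card (Multiplicative (ZMod a)) := by
    rw [Nat.card_zpowers, hx]
    show a = Nat.card (ZMod a)
    rw [Nat.card_zmod]
  have hb : Nat.card ↥(Subgroup.zpowers y) = Nat.card (Multiplicative (ZMod b)) := by
    rw [Nat.card_zpowers, hy]
    show b = Nat.card (ZMod b)
    rw [Nat.card_zmod]
  have e1 : ↥(Subgroup.zpowers x) ≃* Multiplicative (ZMod a) := mulEquivOfCyclicCardEq ha
  have e2 : ↥(Subgroup.zpowers y) ≃* Multiplicative (ZMod b) := mulEquivOfCyclicCardEq hb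
  exact ⟨e0.symm.trans ((MulEquiv.prodCongr e1 e2).trans (MulEquiv.prodMultiplicative _ _).symm)⟩

/-- A non-identity element of a normal subgroup of order two is central. -/
theorem commute_of_card_two (N : Subgroup G) [N.Normal] (hN : Nat.card N = 2) {x : G}
    (hx : x ∈ N) (hx1 : x ≠ 1) (z : G) : Commute z x := by
  obtain ⟨b, -, hb⟩ := (Nat.card_eq_two_iff' (1 : ↥N)).1 hN
  have h1 : (⟨x, hx⟩ : ↥N) = b := hb _ (fun h => hx1 (congrArg Subtype.val h))
  have hz : z * x * z⁻¹ ∈ N := Subgroup.Normal.conj_mem inferInstance x hx z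
  have h2 : (⟨z * x * z⁻¹, hz⟩ : ↥N) = b := by
    apply hb
    intro h
    have h3 : z * x * z⁻¹ = 1 := congrArg Subtype.val h
    apply hx1
    calc x = z⁻¹ * (z * x * z⁻¹) * z := by group
      _ = 1 := by rw [h3]; group
  have h4 : z * x * z⁻¹ = x := by
    have := h2.trans h1.symm
    exact congrArg Subtype.val this
  show z * x = x * z
  calc z * x = (z * x * z⁻¹) * z := by group
    _ = x * z := by rw [h4]

theorem orderOf_eq_two_of_card_two (N : Subgroup G) (hN : Nat.card N = 2) {x : G}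
    (hx : x ∈ N) (hx1 : x ≠ 1) : orderOf x = 2 := by
  haveI : Finite ↥N := Nat.finite_of_card_ne_zero (by rw [hN]; norm_num)
  have h1 : (⟨x, hx⟩ : ↥N) ^ Nat.card ↥N = 1 := pow_card_eq_one'
  rw [hN] at h1
  have h2 : x ^ 2 = 1 := congrArg Subtype.val h1
  exact orderOf_eq_prime h2 hx1

end abstract

section std

variable {ι : Type} [Fintype ι] [DecidableEq ι] {F : Type u} [Field F] [Fintype F]
  (Q : (ι → F) → F) (hstd : ∀ σ : F ≃+* F, Cfsg.IsSemisimilarityPair Q 1 σ)

/-- The standard field automorphisms of `PΩ(Q)` for a form with coefficients in the prime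
field. -/
noncomputable def stdField : RingAut F →* MulAut (Cfsg.POmega F Q) where
  toFun σ := semiAut Q (hstd σ)
  map_one' := by
    symm
    apply eq_semiAut_of_induced
    show Cfsg.IsInducedBySemilinearPOmega Q 1 (RingEquiv.refl F) 1
    rw [PSim.induced_iff Q 1 (Subgroup.one_mem _)]
    exact (map_one (theta Q)).symm
  map_mul' σ τ := by
    symm
    apply eq_semiAut_of_induced
    have h := induced_mul Q (hstd σ) (hstd τ) (semiAut_induced Q (hstd σ))
      (semiAut_induced Q (hstd τ))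
    have e : (1 : GL ι F) * sigmaGL σ 1 = 1 := by rw [map_one, mul_one]
    rw [e] at h
    exact h

theorem stdField_induced (σ : F ≃+* F) :
    Cfsg.IsInducedBySemilinearPOmega Q 1 σ (stdField Q hstd σ) :=
  semiAut_induced Q (hstd σ)

end std

section out

variable {ι : Type} [Fintype ι] [DecidableEq ι] {F : Type u} [Field F] [Fintype F]
  (Q : QuadraticForm F (ι → F)) (hQ : (polarBilin Q).Nondegenerate) (hn : 7 ≤ Fintype.card ι)
  (hAll : ∀ β : MulAut (Cfsg.POmega F ⇑Q), IsPairAut (⇑Q) β)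

include hQ hn hAll

omit hQ hn hAll in
theorem inn_le_pgoAut (h2' : True) : Cfsg.Inn (Cfsg.POmega F ⇑Q) ≤ Cfsg.pgoAut F ⇑Q := by
  rw [inn_eq', pgoAut_eq]
  rintro _ ⟨g, -, rfl⟩
  exact ⟨g, rfl⟩

/-- The field-automorphism homomorphism on `Out(PΩ)`. -/
noncomputable def outField : Cfsg.Out (Cfsg.POmega F ⇑Q) →* RingAut F :=
  QuotientGroup.lift _ (fieldHom Q hQ hn hAll) (by
    intro β hβ
    have h1 : β ∈ (fieldHom Q hQ hn hAll).ker := by
      rw [fieldHom_ker]
      exact inn_le_pgoAut Q trivial hβ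
    exact h1)

theorem outField_mk (β : MulAut (Cfsg.POmega F ⇑Q)) :
    outField Q hQ hn hAll (QuotientGroup.mk β) = fieldHom Q hQ hn hAll β := rfl

theorem outField_ker :
    (outField Q hQ hn hAll).ker =
      (Cfsg.pgoAut F ⇑Q).map (QuotientGroup.mk' (Cfsg.Inn (Cfsg.POmega F ⇑Q))) := by
  ext z
  induction z using QuotientGroup.induction_on with
  | H β =>
    rw [MonoidHom.mem_ker, outField_mk, ← MonoidHom.mem_ker, fieldHom_ker]
    constructor
    · intro h
      exact ⟨β, h, rfl⟩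
    · rintro ⟨γ, hγ, hγβ⟩
      have h1 : γ⁻¹ * β ∈ Cfsg.Inn (Cfsg.POmega F ⇑Q) := QuotientGroup.eq.1 hγβ
      have h2 := Subgroup.mul_mem _ hγ (inn_le_pgoAut Q trivial h1)
      rwa [mul_inv_cancel_left] at h2

omit hQ hn hAll in
theorem card_pgo_image :
    Nat.card ((Cfsg.pgoAut F ⇑Q).map (QuotientGroup.mk' (Cfsg.Inn (Cfsg.POmega F ⇑Q)))) =
      (Cfsg.Inn (Cfsg.POmega F ⇑Q)).relIndex (Cfsg.pgoAut F ⇑Q) := by
  rw [← Subgroup.relIndex_ker, QuotientGroup.ker_mk']

variable (hσ : ∀ σ : F ≃+* F, ∃ g : GL ι F, Cfsg.IsSemisimilarityPair (⇑Q) g σ)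

include hσ

theorem outField_surjective : Function.Surjective (outField Q hQ hn hAll) := by
  intro σ
  obtain ⟨β, hβ⟩ := fieldHom_surjective Q hQ hn hAll hσ σ
  exact ⟨QuotientGroup.mk β, hβ⟩

theorem card_out :
    Nat.card (Cfsg.Out (Cfsg.POmega F ⇑Q)) =
      (Cfsg.Inn (Cfsg.POmega F ⇑Q)).relIndex (Cfsg.pgoAut F ⇑Q) * Nat.card (RingAut F) := by
  have h1 := Subgroup.card_mul_index (outField Q hQ hn hAll).ker
  rw [Subgroup.index_ker, MonoidHom.range_eq_top.2 (outField_surjective Q hQ hn hAll hσ),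
    Subgroup.card_top, outField_ker, card_pgo_image] at h1
  exact h1.symm

end out

section outstd

variable {ι : Type} [Fintype ι] [DecidableEq ι] {F : Type u} [Field F] [Fintype F]
  (Q : QuadraticForm F (ι → F)) (hQ : (polarBilin Q).Nondegenerate) (hn : 7 ≤ Fintype.card ι)
  (hAll : ∀ β : MulAut (Cfsg.POmega F ⇑Q), IsPairAut (⇑Q) β)
  (hstd : ∀ σ : F ≃+* F, Cfsg.IsSemisimilarityPair (⇑Q) 1 σ)

include hQ hn hAll hstd

omit hQ hn hAll in
/-- The standard field automorphisms in `Out`. -/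
noncomputable def outStd : RingAut F →* Cfsg.Out (Cfsg.POmega F ⇑Q) :=
  (QuotientGroup.mk' (Cfsg.Inn (Cfsg.POmega F ⇑Q))).comp (stdField (⇑Q) hstd)

theorem outField_outStd (σ : RingAut F) :
    outField Q hQ hn hAll (outStd Q hstd σ) = σ := by
  show outField Q hQ hn hAll (QuotientGroup.mk (stdField (⇑Q) hstd σ)) = σ
  rw [outField_mk]
  exact fieldHom_eq Q hQ hn hAll (hstd σ) (stdField_induced (⇑Q) hstd σ)

theorem outStd_injective : Function.Injective (outStd Q hstd) := by
  intro σ τ h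
  have := congrArg (outField Q hQ hn hAll) h
  rwa [outField_outStd, outField_outStd] at this

/-- If `[PGO : Inn] = 2`, then `Out(PΩ) ≅ C₂ × Aut(F)`. -/
theorem out_of_relIndex_two {f : ℕ} (hcyc : IsCyclic (RingAut F)) (hf : Nat.card (RingAut F) = f)
    (hidx : (Cfsg.Inn (Cfsg.POmega F ⇑Q)).relIndex (Cfsg.pgoAut F ⇑Q) = 2) :
    Nonempty (Cfsg.Out (Cfsg.POmega F ⇑Q) ≃* Multiplicative (ZMod 2 × ZMod f)) := by
  have hσ : ∀ σ : F ≃+* F, ∃ g : GL ι F, Cfsg.IsSemisimilarityPair (⇑Q) g σ :=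
    fun σ => ⟨1, hstd σ⟩
  obtain ⟨σ₀, hσ₀⟩ := hcyc.exists_generator
  have hoσ : orderOf σ₀ = f := by
    rw [← hf]
    exact orderOf_eq_card_of_forall_mem_zpowers hσ₀
  set N := (Cfsg.pgoAut F ⇑Q).map (QuotientGroup.mk' (Cfsg.Inn (Cfsg.POmega F ⇑Q))) with hNdef
  have hNcard : Nat.card N = 2 := by rw [hNdef, card_pgo_image, hidx]
  have hNker : N = (outField Q hQ hn hAll).ker := (outField_ker Q hQ hn hAll).symm
  haveI : N.Normal := by rw [hNker]; infer_instance
  haveI : Finite ↥N := Nat.finite_of_card_ne_zero (by rw [hNcard]; norm_num)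
  obtain ⟨x, hx1⟩ : ∃ x : ↥N, x ≠ 1 := by
    haveI : Nontrivial ↥N := by
      rw [← Finite.one_lt_card_iff_nontrivial, hNcard]
      norm_num
    exact exists_ne 1
  have hx1' : x.1 ≠ 1 := fun h => hx1 (Subtype.ext h)
  have hcard : Nat.card (Cfsg.Out (Cfsg.POmega F ⇑Q)) = 2 * f := by
    rw [card_out Q hQ hn hAll hσ, hidx, hf]
  haveI : Finite (Cfsg.Out (Cfsg.POmega F ⇑Q)) := inferInstance
  apply nonempty_mulEquiv_prod_zmod x.1 (outStd Q hstd σ₀)
    (commute_of_card_two N hNcard x.2 hx1' _).symm 2 f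
    (orderOf_eq_two_of_card_two N hNcard x.2 hx1')
    (by rw [orderOf_injective _ (outStd_injective Q hQ hn hAll hstd), hoσ]) _ hcard
  rw [Subgroup.disjoint_def]
  intro z hzx hzy
  have hzN : z ∈ N := by
    obtain ⟨i, rfl⟩ := Subgroup.mem_zpowers_iff.1 hzx
    exact Subgroup.zpow_mem _ x.2 i
  obtain ⟨j, rfl⟩ := Subgroup.mem_zpowers_iff.1 hzy
  rw [← map_zpow] at hzN ⊢
  rw [hNker, MonoidHom.mem_ker, outField_outStd] at hzN
  rw [hzN, map_one]

end outstd

end Cfsg.Agent.Lib.Helper25.AutOut
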