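import Cfsg.Agent.Lib.Helper25.AutOut3
import Cfsg.Agent.Lib.Helper25.POmegaSimForms
import Cfsg.Agent.Lib.Helper25.SpinMinus
import Cfsg.Agent.Lib.Helper25.CDClifford
import Cfsg.Agent.Lib.Helper15.QuadType

set_option autoImplicit false
set_option linter.unusedSectionVars false
set_option linter.unusedVariables false
set_option linter.unusedSimpArgs false

/-!
# The order of `Aut(PΩ⁻(q))`
-/

namespace Cfsg.Agent.Lib.Helper25.AutOut

open Module QuadraticMap Matrix Cfsg.Agent.Lib.Helper25.CD Cfsg.Agent.Lib.Helper25.Spin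
  Cfsg.Agent.Lib.Helper25.PSim Cfsg.Agent.Lib.Helper25.PAut Cfsg.Agent.Lib.Helper25.PS
  Cfsg.Agent.Lib.Helper25.Siegel Cfsg.Agent.Lib.Helper25.MaxTS Cfsg.Agent.Lib.Helper25.Fam
  Cfsg.Agent.Lib.Helper25.GraphSplit Cfsg.Agent.Lib.Helper14 Cfsg.Agent.Lib.Helper14.OrthMinus
  Cfsg.Agent.Lib.Helper14.QuadExt

universe u

section char2

variable {ι : Type} [Fintype ι] [DecidableEq ι] {F : Type u} [Field F] [Fintype F] [CharP F 2]
  (Q : QuadraticForm F (ι → F))

/-- In characteristic two every similarity is a scalar multiple of an isometry. -/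
theorem pgoAut_eq_range_char2 (hQ : (polarBilin Q).Nondegenerate) (hn : 7 ≤ Fintype.card ι) :
    Cfsg.pgoAut F ⇑Q = (conjTHom ⇑Q).range := by
  have hfin : 2 ≤ finrank F (ι → F) := by
    rw [Module.finrank_fintype_fun_eq_card]
    omega
  obtain ⟨u₀, hu₀⟩ := exists_rep Q hQ hfin 1
  rw [pgoAut_eq]
  apply le_antisymm
  · rintro _ ⟨g, rfl⟩
    obtain ⟨c, hc⟩ := Cfsg.Agent.Lib.Helper25.CD.exists_sqrt (mult Q u₀ hu₀ g : F)
    have hc2 : (mult Q u₀ hu₀ g : F) = c ^ 2 := by rw [pow_two, hc]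
    obtain ⟨s, hs⟩ := exists_iso_of_sq Q u₀ hu₀ g c hc2
    have hc0 : c ≠ 0 := by
      rintro rfl
      have := Units.ne_zero (mult Q u₀ hu₀ g)
      rw [hc2] at this
      simp at this
    refine ⟨s, ?_⟩
    rw [← theta_incl]
    exact (rel_theta Q g s c hc0 hs).symm
  · rintro _ ⟨s, rfl⟩
    exact ⟨incl ⇑Q s, theta_incl ⇑Q s⟩

/-- In characteristic two `Inn(PΩ)` has index two in the image of the conformal group. -/
theorem relIndex_inn_pgo_char2 (hQ : (polarBilin Q).Nondegenerate) (hn : 7 ≤ Fintype.card ι) :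
    (Cfsg.Inn (Cfsg.POmega F ⇑Q)).relIndex (Cfsg.pgoAut F ⇑Q) = 2 := by
  rw [pgoAut_eq_range_char2 Q hQ hn, inn_eq, MonoidHom.range_eq_map]
  haveI : Nonempty ι := by
    rw [← Fintype.card_pos_iff]
    omega
  have hidx : (Cfsg.Omega F ⇑Q).relIndex ⊤ = 2 := by
    rw [Subgroup.relIndex_top_right]
    exact omega_index_two Q hQ (Or.inr (by omega))
  have hfin : 2 ≤ finrank F (ι → F) := by
    rw [Module.finrank_fintype_fun_eq_card]
    omega
  obtain ⟨u, hu⟩ := exists_rep Q hQ hfin 1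
  apply relIndex_map_eq_two (conjTHom ⇑Q) hidx le_top
  intro k _ hΦ
  obtain ⟨c, hc⟩ := scalar_of_conjT_eq_one Q hQ hn k hΦ
  have hc2 : (c - 1) * (c - 1) = 0 := by
    have h1 := Q_toOG Q k u
    rw [hc, QuadraticMap.map_smul, hu, smul_eq_mul, mul_one] at h1
    have h2 : (2 : F) = 0 := CharTwo.two_eq_zero
    linear_combination h1 + (1 - c) * h2
  have hc1 : c = 1 := by
    rcases mul_eq_zero.1 hc2 with h | h <;> linear_combination h
  have : k = 1 := by
    apply toOG_injective Q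
    ext1 x
    rw [hc, hc1, one_smul, map_one]
    rfl
  rw [this]
  exact one_mem _

end char2

section minus

variable {F : Type u} [Field F] [Fintype F] {k : ℕ} {a b : F}

theorem card_idx (k : ℕ) : Fintype.card ((Fin k ⊕ Fin k) ⊕ Fin 2) = 2 * (k + 1) := by
  simp only [Fintype.card_sum, Fintype.card_fin]; ring

/-- Every field automorphism extends to a semisimilarity of the minus-type form. -/
theorem minus_semisim (hab : Aniso a b) (σ : F ≃+* F) :
    ∃ g : GL ((Fin k ⊕ Fin k) ⊕ Fin 2) F,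
      Cfsg.IsSemisimilarityPair (Cfsg.quadFormMinus k F a b) g σ := by
  have hab' : Aniso (σ a) (σ b) := by
    intro z₁ z₂ h
    have h1 := hab (σ.symm z₁) (σ.symm z₂) (by
      apply σ.injective
      rw [map_add, map_add, map_mul, map_mul, map_mul, map_pow, map_pow,
        RingEquiv.apply_symm_apply, RingEquiv.apply_symm_apply, map_zero]
      exact h)
    constructor
    · have := congrArg σ h1.1
      rwa [RingEquiv.apply_symm_apply, map_zero] at this
    · have := congrArg σ h1.2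
      rwa [RingEquiv.apply_symm_apply, map_zero] at this
  have hD' : (σ a) ^ 2 - 4 * σ b ≠ 0 := disc_ne_zero hab'
  have hdim : finrank F ((Fin k ⊕ Fin k) ⊕ Fin 2 → F) = 2 * (k + 1) := by
    rw [Module.finrank_fintype_fun_eq_card, card_idx]
  obtain ⟨bs, hbs⟩ := Cfsg.Agent.Lib.Helper15.QuadType.univ_minus
    (qfOf (isQF_minus (n := k) hD')) (qfOf_nondeg _) k hdim
    (Cfsg.Agent.Lib.Helper15.QuadType.hasType_minus hab' k) hab
  refine ⟨toLE.symm bs.equivFun, 1, fun v => ?_⟩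
  have h1 : ((toLE.symm bs.equivFun : GL ((Fin k ⊕ Fin k) ⊕ Fin 2) F) :
      Matrix ((Fin k ⊕ Fin k) ⊕ Fin 2) ((Fin k ⊕ Fin k) ⊕ Fin 2) F) *ᵥ (fun i => σ (v i)) =
      bs.equivFun (fun i => σ (v i)) := by
    rw [← toLE_apply, MulEquiv.apply_symm_apply]
  rw [h1, hbs, Units.val_one, one_mul, coe_qfOf]
  unfold Cfsg.quadFormMinus
  simp only [map_add, map_mul, map_pow, map_sum]

theorem pow_mod_four_iff {q : ℕ} (hq : Odd q) (m : ℕ) :
    q ^ m % 4 = 3 ↔ ¬ Even (m * (q - 1) / 2) := by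
  obtain ⟨j, rfl⟩ := hq
  have e : m * (2 * j + 1 - 1) / 2 = m * j := by
    rw [Nat.add_sub_cancel, mul_left_comm, Nat.mul_div_cancel_left _ (by norm_num : 0 < 2)]
  rw [e, Nat.even_mul, not_or, Nat.not_even_iff_odd, Nat.not_even_iff_odd]
  rcases Nat.even_or_odd m with ⟨i, hi⟩ | ⟨i, hi⟩
  · subst hi
    rw [pow_mod_four_even ⟨j, rfl⟩]
    constructor
    · intro h; omega
    · rintro ⟨⟨i', hi'⟩, -⟩; omega
  · subst hi
    rw [pow_mod_four_odd ⟨j, rfl⟩]
    constructor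
    · intro h
      refine ⟨⟨i, rfl⟩, ?_⟩
      rw [Nat.odd_iff]
      omega
    · rintro ⟨-, hj⟩
      rw [Nat.odd_iff] at hj
      omega

/-- `[PGO : Inn]` for the minus-type form, odd characteristic. -/
theorem relIndex_minus_odd (hodd : Odd (Fintype.card F)) (hk : 3 ≤ k) (hab : Aniso a b) :
    (Cfsg.Inn (Cfsg.POmega F (Cfsg.quadFormMinus k F a b))).relIndex
        (Cfsg.pgoAut F (Cfsg.quadFormMinus k F a b)) =
      if Even ((k + 1) * (Fintype.card F - 1) / 2) then 4 else 8 := by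
  have h2 := two_ne_zero_of_odd_card hodd
  have hD : a ^ 2 - 4 * b ≠ 0 := disc_ne_zero hab
  obtain ⟨ν, hν⟩ := FiniteField.exists_nonsquare (F := F) (ringChar_ne_two h2)
  have hodd' : Fintype.card F % 2 = 1 := Nat.odd_iff.1 hodd
  obtain ⟨x, y, hxy⟩ := binary_universal a b hodd' h2 hD ν
  have hA : ∀ v, Cfsg.quadFormMinus k F a b (Matrix.mulVec (minusSimMatrix k a b x y) v) =
      ν * Cfsg.quadFormMinus k F a b v := by
    intro v
    have := minus_sim k a b x y v
    rw [hxy] at this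
    exact this
  have hc1 := card_idx k
  have hc2 : 7 ≤ Fintype.card ((Fin k ⊕ Fin k) ⊕ Fin 2) := by rw [hc1]; omega
  obtain ⟨u₀, hu₀, d, hd⟩ := exists_data (qfOf (isQF_minus (F := F) (n := k) hD)) h2
    (qfOf_nondeg _) (by omega) (minusSimMatrix k a b x y) ν hν hA
  obtain ⟨k1, k2⟩ := relIndex_inn_pgo (qfOf (isQF_minus (F := F) (n := k) hD)) u₀ hu₀ h2
    (qfOf_nondeg _) hc1 hc2 d (by rw [hd]; exact hν)
  have hS := neg_one_mem_omega_minus (F := F) (q := Fintype.card F) rfl hodd k a b hab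
  by_cases hc : Even ((k + 1) * (Fintype.card F - 1) / 2)
  · rw [if_pos hc]
    apply k2
    intro hex
    exact ((pow_mod_four_iff hodd (k + 1)).1 (hS.1 hex)) hc
  · rw [if_neg hc]
    apply k1
    exact hS.2 ((pow_mod_four_iff hodd (k + 1)).2 hc)

/-- The order of `Aut(PΩ⁻)`. -/
theorem card_aut_minus (hk : 3 ≤ k) (hab : Aniso a b) :
    Nat.card (MulAut (Cfsg.POmega F (Cfsg.quadFormMinus k F a b))) =
      (Cfsg.Inn (Cfsg.POmega F (Cfsg.quadFormMinus k F a b))).relIndex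
        (Cfsg.pgoAut F (Cfsg.quadFormMinus k F a b)) * Nat.card (RingAut F) *
        Nat.card (Cfsg.POmega F (Cfsg.quadFormMinus k F a b)) := by
  have hD : a ^ 2 - 4 * b ≠ 0 := disc_ne_zero hab
  have hc2 : 7 ≤ Fintype.card ((Fin k ⊕ Fin k) ⊕ Fin 2) := by rw [card_idx]; omega
  exact card_aut' (qfOf (isQF_minus (F := F) (n := k) hD)) (qfOf_nondeg _) hc2
    (hAll_of_noD4 _ (qfOf_nondeg _) hc2 (Cfsg.Agent.Lib.Helper25.AutO.noD4_minus hk hab hD))
    (fun σ => minus_semisim hab σ) (inn_le_pgoAut _ trivial)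

end minus

end Cfsg.Agent.Lib.Helper25.AutOut
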