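import Cfsg.Agent.Lib.Helper25.AutOut4

set_option autoImplicit false
set_option linter.unusedSectionVars false
set_option linter.unusedVariables false
set_option linter.unusedSimpArgs false

/-!
# Powers of semisimilarities, the Frobenius automorphism, and semilinear maps as matrices
-/

namespace Cfsg.Agent.Lib.Helper25.AutOut

open Module QuadraticMap Matrix Cfsg.Agent.Lib.Helper25.CD Cfsg.Agent.Lib.Helper25.Spin
  Cfsg.Agent.Lib.Helper25.PSim Cfsg.Agent.Lib.Helper25.PAut Cfsg.Agent.Lib.Helper25.PS
  Cfsg.Agent.Lib.Helper25.Siegel Cfsg.Agent.Lib.Helper25.MaxTS Cfsg.Agent.Lib.Helper25.Fam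
  Cfsg.Agent.Lib.Helper25.GraphSplit

universe u

section pairpow

variable {ι : Type} [Fintype ι] [DecidableEq ι] {F : Type u} [Field F] [Fintype F]
  (Q : (ι → F) → F)

theorem semiMap_one_refl (v : ι → F) : semiMap (1 : GL ι F) (RingEquiv.refl F) v = v := by
  unfold semiMap
  rw [Units.val_one, Matrix.one_mulVec]
  rfl

theorem semiMap_refl (g : GL ι F) (v : ι → F) :
    semiMap g (RingEquiv.refl F) v = (g : Matrix ι ι F) *ᵥ v := rfl

/-- Powers of the automorphism induced by a semisimilarity. -/
theorem exists_pair_pow {g : GL ι F} {σ : RingAut F} (h : Cfsg.IsSemisimilarityPair Q g σ)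
    (n : ℕ) :
    ∃ gn : GL ι F, Cfsg.IsSemisimilarityPair Q gn (σ ^ n) ∧
      Cfsg.IsInducedBySemilinearPOmega Q gn (σ ^ n) ((semiAut Q h) ^ n) ∧
      ∀ v, semiMap gn (σ ^ n) v = (semiMap g σ)^[n] v := by
  induction n with
  | zero =>
    refine ⟨1, ?_, ?_, ?_⟩
    · rw [pow_zero]
      exact pair_of_sim Q (Subgroup.one_mem _)
    · rw [pow_zero, pow_zero]
      show Cfsg.IsInducedBySemilinearPOmega Q 1 (RingEquiv.refl F) 1
      rw [PSim.induced_iff Q 1 (Subgroup.one_mem _)]
      exact (map_one (theta Q)).symm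
    · intro v
      rw [pow_zero]
      exact semiMap_one_refl v
  | succ n ih =>
    obtain ⟨gn, hp, hi, hm⟩ := ih
    refine ⟨g * sigmaGL σ gn, ?_, ?_, ?_⟩
    · rw [pow_succ']
      exact pair_mul Q h hp
    · rw [pow_succ', pow_succ']
      exact induced_mul Q h hp (semiAut_induced Q h) hi
    · intro v
      rw [pow_succ', Function.iterate_succ_apply', ← hm]
      exact semiMap_comp g gn σ (σ ^ n) v

end pairpow

section matrixOfSemi

variable {ι : Type} [Fintype ι] [DecidableEq ι] {F : Type u} [Field F] [Fintype F]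

/-- An injective semilinear map is given by a matrix. -/
theorem exists_gl_of_semilinear (σ : F ≃+* F) (Ψ : (ι → F) → (ι → F))
    (hadd : ∀ v w, Ψ (v + w) = Ψ v + Ψ w) (hsmul : ∀ (c : F) v, Ψ (c • v) = σ c • Ψ v)
    (hinj : Function.Injective Ψ) : ∃ g : GL ι F, ∀ v, semiMap g σ v = Ψ v := by
  let L : (ι → F) →ₗ[F] (ι → F) :=
    { toFun := fun v => Ψ (fun i => σ.symm (v i))
      map_add' := by
        intro v w
        rw [← hadd]
        congr 1
        funext i
        simp
      map_smul' := by
        intro c v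
        have : (fun i => σ.symm ((c • v) i)) = σ.symm c • (fun i => σ.symm (v i)) := by
          funext i
          simp
        rw [this, hsmul, RingEquiv.apply_symm_apply]
        rfl }
  have hL : Function.Injective L := by
    intro v w hvw
    have h1 := hinj hvw
    funext i
    exact σ.symm.injective (congrFun h1 i)
  refine ⟨toLE.symm (LinearEquiv.ofInjectiveEndo L hL), fun v => ?_⟩
  unfold semiMap
  rw [← toLE_apply, MulEquiv.apply_symm_apply]
  show Ψ (fun i => σ.symm (σ (v i))) = Ψ v
  congr 1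
  funext i
  simp

end matrixOfSemi

section frobenius

variable {F : Type u} [Field F] [Fintype F] (p : ℕ) [Fact p.Prime] [CharP F p]

/-- The Frobenius automorphism `x ↦ x ^ p` together with its order. -/
theorem exists_frobenius {f : ℕ} (hF : Fintype.card F = p ^ f) :
    ∃ φ : RingAut F, (∀ x, φ x = x ^ p) ∧ orderOf φ = f := by
  let _ : Algebra (ZMod p) F := ZMod.algebra F p
  have hfin : Module.finrank (ZMod p) F = f := by
    have h3 := Module.card_eq_pow_finrank (K := ZMod p) (V := F)
    rw [hF, ZMod.card] at h3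
    exact (Nat.pow_right_injective (Fact.out : p.Prime).two_le h3).symm
  let Φ : (F ≃ₐ[ZMod p] F) →* RingAut F :=
    { toFun := fun ψ => ψ.toRingEquiv
      map_one' := rfl
      map_mul' := fun _ _ => rfl }
  have hΦ : Function.Injective Φ := by
    intro ψ₁ ψ₂ h
    ext x
    exact RingEquiv.congr_fun h x
  refine ⟨Φ (FiniteField.frobeniusAlgEquivOfAlgebraic (ZMod p) F), ?_, ?_⟩
  · intro x
    show (FiniteField.frobeniusAlgEquivOfAlgebraic (ZMod p) F) x = x ^ p
    rw [FiniteField.coe_frobeniusAlgEquivOfAlgebraic, ZMod.card]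
  · rw [orderOf_injective Φ hΦ, FiniteField.orderOf_frobeniusAlgEquivOfAlgebraic, hfin]

theorem frobenius_pow_apply {φ : RingAut F} (hφ : ∀ x, φ x = x ^ p) (n : ℕ) (x : F) :
    (φ ^ n) x = x ^ (p ^ n) := by
  induction n generalizing x with
  | zero => simp
  | succ n ih =>
    rw [pow_succ', RingAut.mul_apply, ih, hφ, ← pow_mul, pow_succ']
    ring_nf

end frobenius

end Cfsg.Agent.Lib.Helper25.AutOut
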