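import Cfsg.Agent.Lib.Helper25.AutOut5
import Cfsg.Agent.Lib.Helper14.QuadExt

set_option autoImplicit false
set_option linter.unusedSectionVars false
set_option linter.unusedVariables false
set_option linter.unusedSimpArgs false

/-!
# The Frobenius semisimilarity of the minus-type form
-/

namespace Cfsg.Agent.Lib.Helper25.AutOut

open Module QuadraticMap Matrix Cfsg.Agent.Lib.Helper25.CD Cfsg.Agent.Lib.Helper25.Spin
  Cfsg.Agent.Lib.Helper25.PSim Cfsg.Agent.Lib.Helper25.PAut Cfsg.Agent.Lib.Helper25.PS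
  Cfsg.Agent.Lib.Helper25.Siegel Cfsg.Agent.Lib.Helper25.MaxTS Cfsg.Agent.Lib.Helper25.Fam
  Cfsg.Agent.Lib.Helper25.GraphSplit Cfsg.Agent.Lib.Helper14 Cfsg.Agent.Lib.Helper14.OrthMinus
  Cfsg.Agent.Lib.Helper14.QuadExt QuadraticAlgebra

universe u

section frobMap

variable {F : Type u} [Field F] (p : ℕ) [Fact p.Prime] [CharP F p] (a b : F) (k : ℕ)

/-- The binary part of a vector, as an element of the quadratic algebra. -/
def toK (v : Idx k → F) : QuadraticAlgebra F (-b) a := ⟨v (Sum.inr 0), v (Sum.inr 1)⟩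

theorem toK_add (v w : Idx k → F) : toK a b k (v + w) = toK a b k v + toK a b k w := by
  ext <;> simp [toK]

theorem toK_smul (c : F) (v : Idx k → F) :
    toK a b k (c • v) = c • toK a b k v := by
  ext <;> simp [toK]

theorem algebraMap_injective' :
    Function.Injective (algebraMap F (QuadraticAlgebra F (-b) a)) := by
  intro x y h
  have := congrArg QuadraticAlgebra.re h
  simpa using this

instance charP_K : CharP (QuadraticAlgebra F (-b) a) p :=
  charP_of_injective_algebraMap (algebraMap_injective' a b) p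

/-- The Frobenius-semilinear map of the minus-type space. -/
def frobMap (v : Idx k → F) : Idx k → F :=
  Sum.elim (fun j => v (Sum.inl j) ^ p) ![((toK a b k v) ^ p).re, ((toK a b k v) ^ p).im]

theorem frobMap_inl (v : Idx k → F) (j : Fin k ⊕ Fin k) :
    frobMap p a b k v (Sum.inl j) = v (Sum.inl j) ^ p := rfl

theorem toK_frobMap (v : Idx k → F) : toK a b k (frobMap p a b k v) = (toK a b k v) ^ p := by
  ext <;> simp [toK, frobMap]

theorem quadFormMinus_eq (v : Idx k → F) :
    Cfsg.quadFormMinus k F a b v =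
      (∑ i : Fin k, v (Sum.inl (Sum.inl i)) * v (Sum.inl (Sum.inr i))) +
        QuadraticAlgebra.norm (toK a b k v) := by
  unfold Cfsg.quadFormMinus toK
  rw [norm_mk]

theorem Q_frobMap (v : Idx k → F) :
    Cfsg.quadFormMinus k F a b (frobMap p a b k v) = (Cfsg.quadFormMinus k F a b v) ^ p := by
  rw [quadFormMinus_eq, quadFormMinus_eq, toK_frobMap, map_pow, add_pow_char, sum_pow_char]
  congr 1
  apply Finset.sum_congr rfl
  intro i _
  rw [frobMap_inl, frobMap_inl, mul_pow]

theorem frobMap_add (v w : Idx k → F) :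
    frobMap p a b k (v + w) = frobMap p a b k v + frobMap p a b k w := by
  funext i
  rcases i with j | j
  · show (v + w) (Sum.inl j) ^ p = v (Sum.inl j) ^ p + w (Sum.inl j) ^ p
    rw [Pi.add_apply, add_pow_char]
  · unfold frobMap
    rw [toK_add, add_pow_char]
    fin_cases j <;> simp

theorem frobMap_smul (c : F) (v : Idx k → F) :
    frobMap p a b k (c • v) = c ^ p • frobMap p a b k v := by
  funext i
  rcases i with j | j
  · show (c • v) (Sum.inl j) ^ p = c ^ p * v (Sum.inl j) ^ p
    rw [Pi.smul_apply, smul_eq_mul, mul_pow]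
  · unfold frobMap
    rw [toK_smul, smul_pow]
    fin_cases j <;> simp

theorem frobMap_iterate (n : ℕ) (v : Idx k → F) :
    (frobMap p a b k)^[n] v =
      Sum.elim (fun j => v (Sum.inl j) ^ (p ^ n))
        ![((toK a b k v) ^ (p ^ n)).re, ((toK a b k v) ^ (p ^ n)).im] := by
  induction n with
  | zero =>
    funext i
    rcases i with j | j
    · simp
    · fin_cases j <;> simp [toK]
  | succ n ih =>
    rw [Function.iterate_succ_apply', ih]
    have hK : toK a b k (Sum.elim (fun j => v (Sum.inl j) ^ (p ^ n))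
        ![((toK a b k v) ^ (p ^ n)).re, ((toK a b k v) ^ (p ^ n)).im]) =
        (toK a b k v) ^ (p ^ n) := by
      ext <;> simp [toK]
    funext i
    rcases i with j | j
    · show (v (Sum.inl j) ^ (p ^ n)) ^ p = v (Sum.inl j) ^ (p ^ (n + 1))
      rw [← pow_mul, pow_succ]
    · unfold frobMap
      rw [hK, ← pow_mul, ← pow_succ]
      fin_cases j <;> simp

end frobMap

section refl

variable {F : Type u} [Field F] [Fintype F] (p : ℕ) [Fact p.Prime] [CharP F p] {a b : F} (k : ℕ)

/-- The vector `2ω - a` of the binary part. -/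
def wVec (a : F) (k : ℕ) : Idx k → F := Sum.elim 0 ![-a, 2]

theorem Q_wVec : Cfsg.quadFormMinus k F a b (wVec a k) = -(a ^ 2 - 4 * b) := by
  unfold Cfsg.quadFormMinus wVec
  simp
  ring

theorem minusPolar_wVec (v : Idx k → F) :
    minusPolar k F a b (wVec a k) v = -(a ^ 2 - 4 * b) * v (Sum.inr 1) := by
  unfold minusPolar wVec
  simp
  ring

/-- The `f`-th iterate of the Frobenius map is the reflection in `2ω - a`. -/
theorem frobMap_iterate_card [Hab : Fact (∀ r : F, r ^ 2 ≠ -b + a * r)] {f : ℕ}
    (hF : Fintype.card F = p ^ f) (hD : a ^ 2 - 4 * b ≠ 0) (v : Idx k → F) :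
    (frobMap p a b k)^[f] v = reflE (qfOf (isQF_minus (n := k) hD)) (wVec a k) v := by
  rw [frobMap_iterate, ← hF, pow_card_eq_star, reflE_apply, polar_qfOf, coe_qfOf, Q_wVec,
    minusPolar_wVec]
  have hD' : -(a ^ 2 - 4 * b) ≠ 0 := neg_ne_zero.2 hD
  rw [inv_mul_cancel_left₀ hD']
  funext i
  rcases i with j | j
  · show v (Sum.inl j) ^ Fintype.card F = _
    rw [FiniteField.pow_card]
    simp [wVec]
  · fin_cases j
    · simp [wVec, toK]
      ring
    · simp [wVec, toK]
      ring

end refl

end Cfsg.Agent.Lib.Helper25.AutOut
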