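import Cfsg.Agent.Lib.Helper25.AutOut6

set_option autoImplicit false
set_option linter.unusedSectionVars false
set_option linter.unusedVariables false
set_option linter.unusedSimpArgs false

/-!
# The Frobenius automorphism of `PΩ⁻`: its `f`-th power is induced by a reflection
-/

namespace Cfsg.Agent.Lib.Helper25.AutOut

open Module QuadraticMap Matrix Cfsg.Agent.Lib.Helper25.CD Cfsg.Agent.Lib.Helper25.Spin
  Cfsg.Agent.Lib.Helper25.PSim Cfsg.Agent.Lib.Helper25.PAut Cfsg.Agent.Lib.Helper25.PS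
  Cfsg.Agent.Lib.Helper25.Siegel Cfsg.Agent.Lib.Helper25.MaxTS Cfsg.Agent.Lib.Helper25.Fam
  Cfsg.Agent.Lib.Helper25.GraphSplit Cfsg.Agent.Lib.Helper14 Cfsg.Agent.Lib.Helper14.OrthMinus
  Cfsg.Agent.Lib.Helper14.QuadExt QuadraticAlgebra

universe u

section frobAut

variable {F : Type u} [Field F] [Fintype F] (p : ℕ) [Fact p.Prime] [CharP F p] {a b : F} {k : ℕ}

theorem injective_of_iterate {α : Type*} (Ψ : α → α) {n : ℕ} (hn : 1 ≤ n)
    (h : Function.Injective Ψ^[n]) : Function.Injective Ψ := by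
  obtain ⟨m, rfl⟩ : ∃ m, n = m + 1 := ⟨n - 1, by omega⟩
  intro x y hxy
  apply h
  rw [Function.iterate_succ_apply, Function.iterate_succ_apply, hxy]

/-- The Frobenius automorphism of `PΩ⁻`: it lies over the Frobenius of `F`, and its `f`-th power
is induced by the reflection in `2ω - a`. -/
theorem exists_frob_aut (hab : Aniso a b) (hD : a ^ 2 - 4 * b ≠ 0) {f : ℕ} (hf : 1 ≤ f)
    (hF : Fintype.card F = p ^ f) :
    ∃ (φ : RingAut F) (β : MulAut (Cfsg.POmega F (Cfsg.quadFormMinus k F a b))),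
      orderOf φ = f ∧
      (∃ g : GL (Idx k) F, Cfsg.IsSemisimilarityPair (Cfsg.quadFormMinus k F a b) g φ ∧
        Cfsg.IsInducedBySemilinearPOmega (Cfsg.quadFormMinus k F a b) g φ β) ∧
      β ^ f = conjTHom (Cfsg.quadFormMinus k F a b)
        (reflM (qfOf (isQF_minus (n := k) hD)) (wVec a k)) := by
  haveI := fact_of_aniso hab
  obtain ⟨φ, hφ, hoφ⟩ := exists_frobenius p hF
  have hiter : ∀ v, (frobMap p a b k)^[f] v =
      reflE (qfOf (isQF_minus (n := k) hD)) (wVec a k) v := frobMap_iterate_card p k hF hD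
  have hinj : Function.Injective (frobMap p a b k) := by
    apply injective_of_iterate _ hf
    have : (frobMap p a b k)^[f] = ⇑(reflE (qfOf (isQF_minus (n := k) hD)) (wVec a k)) :=
      funext hiter
    rw [this]
    exact LinearEquiv.injective _
  obtain ⟨g, hg⟩ := exists_gl_of_semilinear φ (frobMap p a b k) (frobMap_add p a b k)
    (fun c v => by rw [frobMap_smul, hφ]) hinj
  have hpair : Cfsg.IsSemisimilarityPair (Cfsg.quadFormMinus k F a b) g φ := by
    refine ⟨1, fun v => ?_⟩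
    have := hg v
    unfold semiMap at this
    rw [this, Q_frobMap, hφ, Units.val_one, one_mul]
  refine ⟨φ, semiAut (Cfsg.quadFormMinus k F a b) hpair, hoφ,
    ⟨g, hpair, semiAut_induced _ hpair⟩, ?_⟩
  obtain ⟨gf, hpf, hif, hmf⟩ := exists_pair_pow (Cfsg.quadFormMinus k F a b) hpair f
  have hφf : φ ^ f = RingEquiv.refl F := by
    rw [← hoφ, pow_orderOf_eq_one]
    rfl
  rw [hφf] at hpf hif hmf
  have hfun : semiMap g φ = frobMap p a b k := funext hg
  rw [hfun] at hmf
  have hgf : toLE gf = reflE (qfOf (isQF_minus (n := k) hD)) (wVec a k) := by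
    ext1 v
    rw [toLE_apply, ← semiMap_refl, hmf, hiter]
  have hgf' : gf = ((reflM (qfOf (isQF_minus (n := k) hD)) (wVec a k) :
      ↥(Cfsg.isometryGroup F ⇑(qfOf (isQF_minus (n := k) hD)))) : GL (Idx k) F) := by
    show gf = toLE.symm (reflE (qfOf (isQF_minus (n := k) hD)) (wVec a k))
    rw [← hgf, MulEquiv.symm_apply_apply]
  rw [hgf'] at hif
  have hmem : ((reflM (qfOf (isQF_minus (n := k) hD)) (wVec a k) :
      ↥(Cfsg.isometryGroup F ⇑(qfOf (isQF_minus (n := k) hD)))) : GL (Idx k) F) ∈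
      Cfsg.Geo.quadSimilarityGroup (F := F) (Cfsg.quadFormMinus k F a b) :=
    iso_le_sim _ (reflM (qfOf (isQF_minus (n := k) hD)) (wVec a k)).2
  rw [PSim.induced_iff _ _ hmem] at hif
  rw [hif]
  exact theta_incl (Cfsg.quadFormMinus k F a b) (reflM (qfOf (isQF_minus (n := k) hD)) (wVec a k))

end frobAut

end Cfsg.Agent.Lib.Helper25.AutOut
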