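import Cfsg.Agent.Lib.Helper25.AutOut7
import Cfsg.Agent.Lib.Helper18.PSL2AutOut

set_option autoImplicit false
set_option linter.unusedSectionVars false
set_option linter.unusedVariables false
set_option linter.unusedSimpArgs false

/-!
# `Out(PΩ⁻_{2m}(q))` for `q` even
-/

namespace Cfsg.Agent.Lib.Helper25.AutOut

open Module QuadraticMap Matrix Cfsg.Agent.Lib.Helper25.CD Cfsg.Agent.Lib.Helper25.Spin
  Cfsg.Agent.Lib.Helper25.PSim Cfsg.Agent.Lib.Helper25.PAut Cfsg.Agent.Lib.Helper25.PS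
  Cfsg.Agent.Lib.Helper25.Siegel Cfsg.Agent.Lib.Helper25.MaxTS Cfsg.Agent.Lib.Helper25.Fam
  Cfsg.Agent.Lib.Helper25.GraphSplit Cfsg.Agent.Lib.Helper14 Cfsg.Agent.Lib.Helper14.OrthMinus
  Cfsg.Agent.Lib.Helper14.QuadExt QuadraticAlgebra

universe u

section char2

variable {ι : Type} [Fintype ι] [DecidableEq ι] {F : Type u} [Field F] [Fintype F] [CharP F 2]
  (Q : QuadraticForm F (ι → F))

/-- In characteristic two the isometry group acts faithfully on `PΩ`. -/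
theorem conjT_eq_one_char2 (hQ : (polarBilin Q).Nondegenerate) (hn : 7 ≤ Fintype.card ι)
    (k : ↥(Cfsg.isometryGroup F ⇑Q)) (hΦ : conjTHom ⇑Q k = 1) : k = 1 := by
  have hfin : 2 ≤ finrank F (ι → F) := by
    rw [Module.finrank_fintype_fun_eq_card]
    omega
  obtain ⟨u, hu⟩ := exists_rep Q hQ hfin 1
  obtain ⟨c, hc⟩ := scalar_of_conjT_eq_one Q hQ hn k hΦ
  have hc2 : (c - 1) * (c - 1) = 0 := by
    have h1 := Q_toOG Q k u
    rw [hc, QuadraticMap.map_smul, hu, smul_eq_mul, mul_one] at h1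
    have h2 : (2 : F) = 0 := CharTwo.two_eq_zero
    linear_combination h1 + (1 - c) * h2
  have hc1 : c = 1 := by
    rcases mul_eq_zero.1 hc2 with h | h <;> linear_combination h
  apply toOG_injective Q
  ext1 x
  rw [hc, hc1, one_smul, map_one]
  rfl

theorem conjT_mem_inn_char2 (hQ : (polarBilin Q).Nondegenerate) (hn : 7 ≤ Fintype.card ι)
    (r : ↥(Cfsg.isometryGroup F ⇑Q))
    (h : conjTHom ⇑Q r ∈ Cfsg.Inn (Cfsg.POmega F ⇑Q)) : r ∈ Cfsg.Omega F ⇑Q := by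
  rw [inn_eq] at h
  obtain ⟨s, hs, hsr⟩ := h
  have h1 : conjTHom ⇑Q (s⁻¹ * r) = 1 := by
    rw [map_mul, map_inv, hsr, inv_mul_cancel]
  have h2 := conjT_eq_one_char2 Q hQ hn _ h1
  have h3 : r = s := by
    have := congrArg (fun x => s * x) h2
    simpa using this
  rw [h3]
  exact hs

end char2

section abstract

variable {G : Type*} [Group G]

/-- An element whose `f`-th power is non-trivial and which maps onto an element of order `f` in
a group of order `2f` has order `2f`. -/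
theorem orderOf_eq_two_mul {H : Type*} [Group H] [Finite G] (π : G →* H) (y : G) {f : ℕ}
    (hf : 1 ≤ f) (hπ : orderOf (π y) = f) (hyf : y ^ f ≠ 1) (hy2 : y ^ (2 * f) = 1) :
    orderOf y = 2 * f := by
  have h1 : f ∣ orderOf y := by
    rw [← hπ]
    exact orderOf_map_dvd π y
  have h2 : orderOf y ∣ 2 * f := orderOf_dvd_of_pow_eq_one hy2
  obtain ⟨t, ht⟩ := h1
  have ht2 : t ∣ 2 := by
    rw [ht, mul_comm] at h2
    exact Nat.dvd_of_mul_dvd_mul_right (by omega) h2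
  have htne : t ≠ 1 := by
    rintro rfl
    rw [mul_one] at ht
    apply hyf
    rw [← ht]
    exact pow_orderOf_eq_one y
  have : t = 2 := by
    rcases (Nat.dvd_prime Nat.prime_two).1 ht2 with h | h
    · exact absurd h htne
    · exact h
  rw [ht, this, mul_comm]

end abstract

section minusEven

variable {F : Type u} [Field F] [Fintype F] [CharP F 2] {a b : F} {k : ℕ}

/-- `Out(PΩ⁻_{2k+2}(2^f))` is cyclic of order `2f`. -/
theorem out_minus_char2 (hab : Aniso a b) (hk : 3 ≤ k) {f : ℕ} (hf : 1 ≤ f)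
    (hF : Fintype.card F = 2 ^ f) :
    IsCyclic (Cfsg.Out (Cfsg.POmega F (Cfsg.quadFormMinus k F a b))) ∧
      Nat.card (Cfsg.Out (Cfsg.POmega F (Cfsg.quadFormMinus k F a b))) = 2 * f := by
  haveI : Fact (Nat.Prime 2) := ⟨Nat.prime_two⟩
  have hD : a ^ 2 - 4 * b ≠ 0 := disc_ne_zero hab
  have hc2 : 7 ≤ Fintype.card ((Fin k ⊕ Fin k) ⊕ Fin 2) := by rw [card_idx]; omega
  obtain ⟨Q, hQdef⟩ : ∃ Q : QuadraticForm F (Idx k → F), Q = qfOf (isQF_minus (F := F) (n := k) hD) :=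
    ⟨_, rfl⟩
  have hQc : ⇑Q = Cfsg.quadFormMinus k F a b := by rw [hQdef]; rfl
  have hQ : (polarBilin Q).Nondegenerate := by rw [hQdef]; exact qfOf_nondeg _
  have hAll : ∀ β : MulAut (Cfsg.POmega F ⇑Q), IsPairAut (⇑Q) β := by
    rw [hQdef]
    exact hAll_of_noD4 (qfOf (isQF_minus (F := F) (n := k) hD)) (qfOf_nondeg _) hc2
      (Cfsg.Agent.Lib.Helper25.AutO.noD4_minus hk hab hD)
  have hσ : ∀ σ : F ≃+* F, ∃ g : GL (Idx k) F, Cfsg.IsSemisimilarityPair (⇑Q) g σ := by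
    rw [hQc]
    exact fun σ => minus_semisim hab σ
  have hfrob : ∃ (φ : RingAut F) (β : MulAut (Cfsg.POmega F ⇑Q)), orderOf φ = f ∧
      (∃ g : GL (Idx k) F, Cfsg.IsSemisimilarityPair (⇑Q) g φ ∧
        Cfsg.IsInducedBySemilinearPOmega (⇑Q) g φ β) ∧
      β ^ f = conjTHom (⇑Q) (reflM Q (wVec a k)) := by
    rw [hQdef]
    exact exists_frob_aut 2 (k := k) hab hD hf hF
  have hw : Q (wVec a k) ≠ 0 := by
    rw [hQdef, coe_qfOf, Q_wVec]
    exact neg_ne_zero.2 hD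
  suffices h : IsCyclic (Cfsg.Out (Cfsg.POmega F ⇑Q)) ∧
      Nat.card (Cfsg.Out (Cfsg.POmega F ⇑Q)) = 2 * f by
    rw [hQdef] at h
    exact h
  have hcard : Nat.card (Cfsg.Out (Cfsg.POmega F ⇑Q)) = 2 * f := by
    have h1 := card_out Q hQ hc2 hAll hσ
    rw [relIndex_inn_pgo_char2 _ hQ hc2, Cfsg.Agent.Lib.Helper18.PSL2Aut.ringAut_card 2 hF] at h1
    exact h1
  refine ⟨?_, hcard⟩
  obtain ⟨φ, β, hoφ, ⟨g, hpair, hind⟩, hβf⟩ := hfrob
  obtain ⟨y, hydef⟩ : ∃ y : Cfsg.Out (Cfsg.POmega F ⇑Q), y = QuotientGroup.mk β := ⟨_, rfl⟩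
  have hπy : outField Q hQ hc2 hAll y = φ := by
    rw [hydef, outField_mk]
    exact fieldHom_eq _ hQ hc2 hAll hpair hind
  have hyf : y ^ f ≠ 1 := by
    intro h
    rw [hydef, ← QuotientGroup.mk_pow, QuotientGroup.eq_one_iff, hβf] at h
    have h2 := conjT_mem_inn_char2 Q hQ hc2 _ h
    exact reflM_not_mem_omega _ hQ (Or.inr (ne_of_gt (lt_of_lt_of_le (by norm_num) hc2))) hw h2
  have hy2 : y ^ (2 * f) = 1 := by
    rw [← hcard]
    exact pow_card_eq_one'
  have hord := orderOf_eq_two_mul (outField Q hQ hc2 hAll) y hf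
    (by rw [hπy]; exact hoφ) hyf hy2
  exact isCyclic_of_orderOf_eq_card y (by rw [hord, hcard])

end minusEven

end Cfsg.Agent.Lib.Helper25.AutOut
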