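import Cfsg.Agent.Lib.Helper25.AutOut8

set_option autoImplicit false
set_option linter.unusedSectionVars false
set_option linter.unusedVariables false
set_option linter.unusedSimpArgs false

/-!
# Conjugating similarities by semisimilarities; normality of the proper part
-/

namespace Cfsg.Agent.Lib.Helper25.AutOut

open Module QuadraticMap Matrix Cfsg.Agent.Lib.Helper25.CD Cfsg.Agent.Lib.Helper25.Spin
  Cfsg.Agent.Lib.Helper25.PSim Cfsg.Agent.Lib.Helper25.PAut Cfsg.Agent.Lib.Helper25.PS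
  Cfsg.Agent.Lib.Helper25.Siegel Cfsg.Agent.Lib.Helper25.MaxTS Cfsg.Agent.Lib.Helper25.Fam
  Cfsg.Agent.Lib.Helper25.GraphSplit

universe u

section conj

variable {ι : Type} [Fintype ι] [DecidableEq ι] {F : Type u} [Field F] [Fintype F]
  (Q : (ι → F) → F)

/-- The conjugate of a similarity by a semisimilarity is a similarity, with multiplier moved by
the field automorphism. -/
theorem semi_conj_sim {g : GL ι F} {σ : F ≃+* F} (h : Cfsg.IsSemisimilarityPair Q g σ)
    {d : GL ι F} {μ : Fˣ} (hd : ∀ v, Q ((d : Matrix ι ι F) *ᵥ v) = (μ : F) * Q v) (v : ι → F) :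
    Q (((g * sigmaGL σ d * g⁻¹ : GL ι F) : Matrix ι ι F) *ᵥ v) = σ μ * Q v := by
  obtain ⟨c, hc⟩ := pair_apply Q h
  obtain ⟨w, rfl⟩ := semiMap_surjective g σ v
  rw [semiMap_conj, hc, hc, hd, map_mul]
  ring

theorem semi_conj_mem_sim {g : GL ι F} {σ : F ≃+* F} (h : Cfsg.IsSemisimilarityPair Q g σ)
    {d : GL ι F} (hd : d ∈ Cfsg.Geo.quadSimilarityGroup (F := F) Q) :
    g * sigmaGL σ d * g⁻¹ ∈ Cfsg.Geo.quadSimilarityGroup (F := F) Q := by
  obtain ⟨μ, hμ⟩ := hd
  exact ⟨Units.map (σ : F →* F) μ, fun v => semi_conj_sim Q h hμ v⟩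

/-- The conjugation formula. -/
theorem semiAut_mul_theta {g : GL ι F} {σ : F ≃+* F} (h : Cfsg.IsSemisimilarityPair Q g σ)
    (d : ↥(Cfsg.Geo.quadSimilarityGroup (F := F) Q)) :
    semiAut Q h * theta Q d =
      theta Q ⟨g * sigmaGL σ d.1 * g⁻¹, semi_conj_mem_sim Q h d.2⟩ * semiAut Q h := by
  apply MulEquiv.ext
  intro t
  induction t using QuotientGroup.induction_on with
  | H s =>
    rw [MulAut.mul_apply, MulAut.mul_apply, theta_mk, semiAut_mk, semiAut_mk, theta_mk]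
    congr 1
    apply Subtype.ext
    apply Subtype.ext
    rw [semiOmega_val, char_val, char_val, semiOmega_val, map_mul, map_mul, map_inv]
    group

theorem det_sigmaGL (σ : F ≃+* F) (d : GL ι F) :
    ((sigmaGL σ d : GL ι F) : Matrix ι ι F).det = σ ((d : Matrix ι ι F).det) := by
  rw [sigmaGL_coe]
  exact ((σ : F →+* F).map_det _).symm

theorem det_semi_conj (g d : GL ι F) (σ : F ≃+* F) :
    ((g * sigmaGL σ d * g⁻¹ : GL ι F) : Matrix ι ι F).det = σ ((d : Matrix ι ι F).det) := by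
  rw [Units.val_mul, Units.val_mul, Matrix.det_mul, Matrix.det_mul, det_sigmaGL]
  have h1 : ((g : GL ι F) : Matrix ι ι F).det * ((g⁻¹ : GL ι F) : Matrix ι ι F).det = 1 := by
    rw [← Matrix.det_mul, ← Units.val_mul, mul_inv_cancel, Units.val_one, Matrix.det_one]
  calc ((g : GL ι F) : Matrix ι ι F).det * σ ((d : Matrix ι ι F).det) *
        ((g⁻¹ : GL ι F) : Matrix ι ι F).det
      = σ ((d : Matrix ι ι F).det) *
        (((g : GL ι F) : Matrix ι ι F).det * ((g⁻¹ : GL ι F) : Matrix ι ι F).det) := by ring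
    _ = _ := by rw [h1, mul_one]

end conj

section proper

variable {ι : Type} [Fintype ι] [DecidableEq ι] {F : Type u} [Field F] [Fintype F]
  (Q : QuadraticForm F (ι → F)) (u₀ : ι → F) (hu₀ : Q u₀ = 1)
  (h2 : (2 : F) ≠ 0) (hQ : (polarBilin Q).Nondegenerate) {m : ℕ}
  (hcard : Fintype.card ι = 2 * m)

/-- Properness is preserved under conjugation by a semisimilarity. -/
theorem isProper_semi_conj {g : GL ι F} {σ : F ≃+* F} (h : Cfsg.IsSemisimilarityPair (⇑Q) g σ)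
    (d : ↥(Cfsg.Geo.quadSimilarityGroup (F := F) ⇑Q)) (hd : IsProper Q u₀ hu₀ m d) :
    IsProper Q u₀ hu₀ m ⟨g * sigmaGL σ d.1 * g⁻¹, semi_conj_mem_sim (⇑Q) h d.2⟩ := by
  unfold IsProper at hd ⊢
  have hμ : ∀ v, Q ((d.1 : Matrix ι ι F) *ᵥ v) = (mult Q u₀ hu₀ d : F) * Q v :=
    fun v => Q_sim Q u₀ hu₀ d v
  have h1 : (mult Q u₀ hu₀ ⟨g * sigmaGL σ d.1 * g⁻¹, semi_conj_mem_sim (⇑Q) h d.2⟩ : F) =
      σ (mult Q u₀ hu₀ d : F) := by
    rw [mult_val, semi_conj_sim (⇑Q) h hμ, hu₀, mul_one]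
  rw [h1, det_semi_conj, hd, map_pow]

/-- The image of the proper similarities is normal in `Aut(PΩ)`. -/
theorem properAut_normal (hAll : ∀ β : MulAut (Cfsg.POmega F ⇑Q), IsPairAut (⇑Q) β) :
    (properAut Q u₀ hu₀ h2 hQ hcard).Normal := by
  constructor
  intro n hn α
  obtain ⟨g, σ, hp, hi⟩ := hAll α
  have hα : α = semiAut (⇑Q) hp := eq_semiAut_of_induced (⇑Q) hp hi
  obtain ⟨d, hd, rfl⟩ := hn
  rw [hα, semiAut_mul_theta, mul_inv_cancel_right]
  refine ⟨_, ?_, rfl⟩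
  rw [SetLike.mem_coe, mem_properSub_iff] at hd ⊢
  exact isProper_semi_conj Q u₀ hu₀ hp d hd

/-- A reflection does not induce a proper automorphism. -/
theorem conjT_refl_not_mem_proper (hn : 7 ≤ Fintype.card ι) {w : ι → F} (hw : Q w ≠ 0) :
    conjTHom (⇑Q) (reflM Q w) ∉ properAut Q u₀ hu₀ h2 hQ hcard := by
  rintro ⟨d, hd, hdr⟩
  rw [SetLike.mem_coe, mem_properSub_iff] at hd
  rw [← theta_incl] at hdr
  obtain ⟨c, hc0, hc⟩ := exists_scalar_of_theta_eq Q u₀ hu₀ hQ hn d (reflM Q w) hdr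
  have hmult := rel_mult Q u₀ hu₀ d (reflM Q w) c hc
  have hdet := rel_det Q d (reflM Q w) c hc
  unfold IsProper at hd
  rw [hd, hmult, reflM_coe, det_reflectionMatrix' Q hw, hcard, ← pow_mul] at hdet
  have h3 : (2 : F) * c ^ (2 * m) = 0 := by linear_combination hdet
  rcases mul_eq_zero.1 h3 with h | h
  · exact h2 h
  · exact hc0 (pow_eq_zero_iff (by omega) |>.1 h)

end proper

end Cfsg.Agent.Lib.Helper25.AutOut
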