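import Cfsg.Agent.Lib.Helper25.GFld22
import Cfsg.Agent.S0790

set_option autoImplicit false

/-!
# The number of classes into which the class of an involutory graph-field automorphism of
`PΩ⁺_{2m}(F)` splits
-/

namespace Cfsg.Agent.Lib.Helper25.GFld

open Module QuadraticMap Matrix Cfsg.Agent.Lib.Helper25.MaxTS Cfsg.Agent.Lib.Helper25.CD
  Cfsg.Agent.Lib.Helper25.GraphSplit Cfsg.Agent.Lib.Helper25.PSim Cfsg.Agent.Lib.Helper25.Spin
  Cfsg.Agent.Lib.Helper18.OrthFld Cfsg.Agent.Lib.Helper18.OrthPar Cfsg.Agent.Lib.Helper14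
  Cfsg.Agent.Lib.Helper14.OrthMinus Cfsg.Agent.Lib.Helper14.QuadExt
  Cfsg.Agent.Lib.Helper18.OrthIso Cfsg.Agent.Lib.Helper18.OrthMin
  Cfsg.Agent.Lib.Helper15.QuadType

universe u v

section abstract

variable {X : Type*} [Group X]

theorem splitClassCount_self (H : Subgroup X) (x : X) : Cfsg.splitClassCount H H x = 1 := by
  rw [Cfsg.Agent.Lib.Helper18.PSLnFld.splitClassCount_eq H H le_rfl
    (fun h hh k hk => H.mul_mem (H.mul_mem hh hk) (H.inv_mem hh)) x H]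
  · exact Subgroup.relIndex_self H
  · intro m
    constructor
    · intro hm
      exact ⟨m, hm, 1, (H ⊓ Subgroup.centralizer {x}).one_mem, by rw [mul_one]⟩
    · rintro ⟨k, hk, c, hc, rfl⟩
      exact H.mul_mem hk hc.1

end abstract

section char2

variable {F : Type u} [Field F] [Fintype F] (k : ℕ)

theorem gPlus_eq_inn_char2 (h2 : (2 : F) = 0) (hk : 3 ≤ k) :
    GPlus (F := F) k = Cfsg.Inn (Cfsg.POmega F ⇑(Qp (k + 1) F)) := by
  apply presAut_eq_inn_char2 (Qp (k + 1) F) k (LinearEquiv.refl F _) (fun _ => rfl)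
    (qfOf_nondeg _) h2
  right
  rw [card_plus_idx]
  omega

theorem split_char2 (h2 : (2 : F) = 0) (hk : 3 ≤ k)
    (x : MulAut (Cfsg.POmega F ⇑(Qp (k + 1) F))) :
    Cfsg.splitClassCount (GPlus (F := F) k) (Cfsg.Inn (Cfsg.POmega F ⇑(Qp (k + 1) F))) x = 1 := by
  rw [gPlus_eq_inn_char2 k h2 hk]
  exact splitClassCount_self _ x

end char2

section odd

variable {F₀ : Type v} {F : Type u} [Field F₀] [Field F] [Fintype F₀] [Fintype F] (k : ℕ)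

/-- `-1 ∈ Ω⁺_{2m}(F)` when `|F|` is an odd square -/
theorem neg_one_mem_omega_plus (h2 : (2 : F) ≠ 0)
    (hcard : Fintype.card F = Fintype.card F₀ ^ 2) :
    ∃ g : ↥(Cfsg.isometryGroup F ⇑(Qp (k + 1) F)), g ∈ Cfsg.Omega F ⇑(Qp (k + 1) F) ∧
      ((g : GL (Fin (k + 1) ⊕ Fin (k + 1)) F) :
        Matrix (Fin (k + 1) ⊕ Fin (k + 1)) (Fin (k + 1) ⊕ Fin (k + 1)) F) = -1 := by
  have hodd : Odd (Fintype.card F) := odd_card_of_two_ne_zero h2
  have hodd₀ : Odd (Fintype.card F₀) := by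
    rw [hcard] at hodd
    exact Nat.Odd.of_mul_right (by rwa [pow_two] at hodd)
  have hq : Fintype.card F % 4 = 1 := by
    rw [hcard]
    obtain ⟨j, hj⟩ := hodd₀
    rw [hj]
    have : (2 * j + 1) ^ 2 = 4 * (j * (j + 1)) + 1 := by ring
    omega
  have h1 : Fintype.card F ^ (k + 1) % 4 = 1 := by
    rw [Nat.pow_mod, hq, one_pow]
    rfl
  exact (Cfsg.Agent.S0790.result (F := F) rfl hodd (k + 1) (by omega)).2 h1

theorem relIndex_inn_gPlus (h2 : (2 : F) ≠ 0) (hk : 3 ≤ k)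
    (hneg : ∃ g : ↥(Cfsg.isometryGroup F ⇑(Qp (k + 1) F)), g ∈ Cfsg.Omega F ⇑(Qp (k + 1) F) ∧
      ((g : GL (Fin (k + 1) ⊕ Fin (k + 1)) F) :
        Matrix (Fin (k + 1) ⊕ Fin (k + 1)) (Fin (k + 1) ⊕ Fin (k + 1)) F) = -1) :
    (Cfsg.Inn (Cfsg.POmega F ⇑(Qp (k + 1) F))).relIndex (GPlus (F := F) k) = 4 := by
  have hQ : (polarBilin (Qp (k + 1) F)).Nondegenerate := qfOf_nondeg _
  have hn : 7 ≤ Fintype.card (Fin (k + 1) ⊕ Fin (k + 1)) := by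
    rw [card_plus_idx]
    omega
  have hfin : 2 ≤ finrank F (Fin (k + 1) ⊕ Fin (k + 1) → F) := by
    rw [Module.finrank_fintype_fun_eq_card]
    omega
  obtain ⟨u₀, hu₀⟩ := exists_rep (Qp (k + 1) F) hQ hfin 1
  obtain ⟨ν, hν⟩ := FiniteField.exists_nonsquare (F := F) (ringChar_ne_two h2)
  have hν0 : ν ≠ 0 := by
    rintro rfl
    exact hν ⟨0, by simp⟩
  obtain ⟨δ, hδ⟩ := exists_delta (k + 1) ν hν0
  obtain ⟨hmult, -, -⟩ := delta_facts (k + 1) u₀ hu₀ h2 ν hν0 δ hδ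
  have hG : GPlus (F := F) k =
      properAut (Qp (k + 1) F) u₀ hu₀ h2 (qfOf_nondeg _) (card_plus (k + 1)) := by
    have e1 := inndiag_plus_eq (F := F) k
    have e2 := inndiag_eq (k + 1) u₀ hu₀ h2
    exact e1.symm.trans e2
  rw [hG]
  exact (relIndex_inn_proper (Qp (k + 1) F) u₀ hu₀ h2 hQ (card_plus (k + 1)) hn δ
    (by rw [hmult]; exact hν)).1 hneg

/-- the class count for the standard involutory graph-field automorphism, odd characteristic -/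
theorem split_odd_std (hk : 3 ≤ k) (h2 : (2 : F) ≠ 0) (e : F₀ →+* F) (a₀ b₀ : F₀)
    (hab₀ : Aniso a₀ b₀) (ζ : F) (hζ : ζ ^ 2 + e a₀ * ζ + e b₀ = 0)
    (σ : RingAut F) (hσ : orderOf σ = 2) (he : ∀ x : F, σ x = x ↔ x ∈ Set.range e)
    (hσζ : σ ζ ≠ ζ) (hcard : Fintype.card F = Fintype.card F₀ ^ 2) :
    ((Odd (k + 1) ∧ Fintype.card F₀ % 4 = 1) →
      Cfsg.splitClassCount (GPlus (F := F) k) (Cfsg.Inn (Cfsg.POmega F ⇑(Qp (k + 1) F)))
        (stdGF k σ) = 4) ∧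
    (¬ (Odd (k + 1) ∧ Fintype.card F₀ % 4 = 1) →
      Cfsg.splitClassCount (GPlus (F := F) k) (Cfsg.Inn (Cfsg.POmega F ⇑(Qp (k + 1) F)))
        (stdGF k σ) = 2) := by
  have hD₀ := disc_ne_zero hab₀
  have hQp : (polarBilin (Qp (k + 1) F)).Nondegenerate := qfOf_nondeg _
  have h2₀ : (2 : F₀) ≠ 0 := by
    intro h
    apply h2
    have := congrArg e h
    rwa [map_ofNat, map_zero] at this
  have he' : ∀ b, σ (e b) = e b := fun b => (he _).2 ⟨b, rfl⟩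
  have hneg := neg_one_mem_omega_plus (F₀ := F₀) k h2 hcard
  have hidx := relIndex_inn_gPlus k h2 hk hneg
  -- the test element
  have hodd₀ := odd_card_of_two_ne_zero h2₀
  have hodd' : Fintype.card F₀ % 2 = 1 := Nat.odd_iff.1 hodd₀
  obtain ⟨ν, hν⟩ := FiniteField.exists_nonsquare (F := F₀) (ringChar_ne_two h2₀)
  have hν0 : ν ≠ 0 := by
    rintro rfl
    exact hν ⟨0, by simp⟩
  obtain ⟨x, y, hxy⟩ := binary_universal a₀ b₀ hodd' h2₀ hD₀ ν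
  obtain ⟨δ₀, hδ₀⟩ := exists_delta_minus k a₀ b₀ hD₀ x y (by rw [hxy]; exact hν0)
  obtain ⟨hmult, hprop⟩ := delta_minus_facts k a₀ b₀ hD₀ (v0 k) (Qm_v0 k a₀ b₀ hD₀) x y δ₀ hδ₀
  have hδp : δ₀ ∈ properSub (Qm k a₀ b₀ hD₀) (v0 k) (Qm_v0 k _ _ _) h2₀ (qfOf_nondeg _)
      (card_minus k) := by
    rw [mem_properSub_iff]
    exact hprop
  have hδns : ¬ IsSquare (mult (Qm k a₀ b₀ hD₀) (v0 k) (Qm_v0 k _ _ _) δ₀ : F₀) := by
    rw [hmult, hxy]
    exact hν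
  have hcrit := gfHom_delta_mem_inn_iff k e a₀ b₀ hab₀ ζ hζ hk h2 hneg σ hσ he hσζ hcard x y
    (by rw [hxy]; exact hν) δ₀ hδ₀
  have hδC : gfHom k e a₀ b₀ hab₀ ζ hζ δ₀ ∈
      GPlus (F := F) k ⊓ Subgroup.centralizer {stdGF k σ} := by
    rw [gfHom_mem_iff k e a₀ b₀ hab₀ ζ hζ hk σ he' hσζ, inndiagQ_eq_proper k a₀ b₀ hab₀ h2₀]
    exact ⟨δ₀, hδp, rfl⟩
  have hdich := cent_mem_inn_or k e a₀ b₀ hab₀ ζ hζ hk h2 h2₀ hcard σ hσ he hσζ δ₀ hδp hδns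
  have hKH : Cfsg.Inn (Cfsg.POmega F ⇑(Qp (k + 1) F)) ≤ GPlus (F := F) k :=
    inn_le_presAut (Qp (k + 1) F) k (LinearEquiv.refl F _) (fun _ => rfl) hQp
  obtain ⟨C, hCd⟩ : ∃ C, C = GPlus (F := F) k ⊓ Subgroup.centralizer {stdGF k σ} := ⟨_, rfl⟩
  rw [← hCd] at hδC hdich
  have hcount := Cfsg.Agent.Lib.Helper18.PSLnFld.splitClassCount_eq (GPlus (F := F) k)
    (Cfsg.Inn (Cfsg.POmega F ⇑(Qp (k + 1) F))) hKH
    (fun h _ k' hk' => (Cfsg.innNormal _).conj_mem k' hk' h) (stdGF k σ)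
    (Cfsg.Inn (Cfsg.POmega F ⇑(Qp (k + 1) F)) ⊔ C)
    (fun x => by rw [hCd]; exact mem_sup_iff (Qp (k + 1) F) _ x)
  rw [hcount]
  haveI : (Cfsg.Inn (Cfsg.POmega F ⇑(Qp (k + 1) F))).Normal := Cfsg.innNormal _
  constructor
  · intro hA
    have hin := hcrit.2 hA
    have hCle : C ≤ Cfsg.Inn (Cfsg.POmega F ⇑(Qp (k + 1) F)) := by
      intro c hc
      rcases hdich c hc with h | h
      · exact h
      · have := mul_mem h (inv_mem hin)
        rwa [mul_inv_cancel_right] at this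
    rw [sup_eq_left.2 hCle]
    exact hidx
  · intro hB
    have hnin : gfHom k e a₀ b₀ hab₀ ζ hζ δ₀ ∉ Cfsg.Inn (Cfsg.POmega F ⇑(Qp (k + 1) F)) :=
      fun h => hB (hcrit.1 h)
    have h1 : (Cfsg.Inn (Cfsg.POmega F ⇑(Qp (k + 1) F))).relIndex
        (Cfsg.Inn (Cfsg.POmega F ⇑(Qp (k + 1) F)) ⊔ C) = 2 := by
      rw [Subgroup.relIndex_sup_left]
      unfold Subgroup.relIndex
      rw [Subgroup.index_eq_two_iff]
      refine ⟨⟨_, hδC⟩, fun b => ?_⟩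
      rw [Subgroup.mem_subgroupOf, Subgroup.mem_subgroupOf]
      show Xor ((b : MulAut (Cfsg.POmega F ⇑(Qp (k + 1) F))) *
        gfHom k e a₀ b₀ hab₀ ζ hζ δ₀ ∈ _) ((b : MulAut (Cfsg.POmega F ⇑(Qp (k + 1) F))) ∈ _)
      by_cases hb : (b : MulAut (Cfsg.POmega F ⇑(Qp (k + 1) F))) ∈
          Cfsg.Inn (Cfsg.POmega F ⇑(Qp (k + 1) F))
      · refine Or.inr ⟨hb, fun h => hnin ?_⟩
        have := mul_mem (inv_mem hb) h
        rwa [inv_mul_cancel_left] at this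
      · rcases hdich b b.2 with h | h
        · exact absurd h hb
        · exact Or.inl ⟨h, hb⟩
    have h3 := Subgroup.relIndex_mul_relIndex (Cfsg.Inn (Cfsg.POmega F ⇑(Qp (k + 1) F)))
      (Cfsg.Inn (Cfsg.POmega F ⇑(Qp (k + 1) F)) ⊔ C) (GPlus (F := F) k) le_sup_left
      (sup_le hKH (by rw [hCd]; exact inf_le_left))
    rw [h1, hidx] at h3
    omega

end odd

end Cfsg.Agent.Lib.Helper25.GFld
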