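import Cfsg.Agent.Lib.Helper25.AutOut4
import Cfsg.Agent.Lib.Helper25.GFld23
import Cfsg.Agent.Lib.Helper18.OrthFldC
import Cfsg.Agent.Lib.Helper18.PSL2AutOut

set_option autoImplicit false
set_option linter.unusedSectionVars false
set_option linter.unusedVariables false
set_option linter.unusedSimpArgs false

/-!
# The order of `Aut(PΩ⁺_{2m}(q))` for `m ≥ 5`, and the order of the image of `PΓO⁺_{2m}(q)`
for `m ≥ 4`
-/

namespace Cfsg.Agent.Lib.Helper25.AutPlus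

open Module QuadraticMap Matrix Cfsg.Agent.Lib.Helper25.CD Cfsg.Agent.Lib.Helper25.Spin
  Cfsg.Agent.Lib.Helper25.PSim Cfsg.Agent.Lib.Helper25.PAut Cfsg.Agent.Lib.Helper25.PS
  Cfsg.Agent.Lib.Helper25.Siegel Cfsg.Agent.Lib.Helper25.MaxTS Cfsg.Agent.Lib.Helper25.Fam
  Cfsg.Agent.Lib.Helper25.GraphSplit Cfsg.Agent.Lib.Helper25.AutOut

universe u

section gamma

variable {ι : Type} [Fintype ι] [DecidableEq ι] {F : Type u} [Field F] [Fintype F]
  (Q : QuadraticForm F (ι → F))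

theorem mem_gamma_of_pair {β : MulAut (Cfsg.POmega F ⇑Q)} (h : IsPairAut (⇑Q) β) :
    β ∈ Cfsg.gammaPOmega F ⇑Q := by
  unfold Cfsg.gammaPOmega Cfsg.autSubgroupOf
  exact Subgroup.subset_closure h

theorem mem_gamma_iff {β : MulAut (Cfsg.POmega F ⇑Q)} :
    β ∈ Cfsg.gammaPOmega F ⇑Q ↔ IsPairAut (⇑Q) β :=
  ⟨isPairAut_of_mem_gamma (⇑Q), mem_gamma_of_pair Q⟩

theorem pgoAut_le_gamma : Cfsg.pgoAut F ⇑Q ≤ Cfsg.gammaPOmega F ⇑Q := by
  rw [pgoAut_eq]
  rintro _ ⟨g, rfl⟩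
  apply mem_gamma_of_pair
  exact ⟨g.1, RingEquiv.refl F, pair_of_sim (⇑Q) g.2,
    (PSim.induced_iff (⇑Q) g.1 g.2 (theta (⇑Q) g)).2 rfl⟩

/-- The field-automorphism homomorphism on the image of `PΓO`. -/
noncomputable def fieldHomG (hQ : (polarBilin Q).Nondegenerate) (hn : 7 ≤ Fintype.card ι) :
    ↥(Cfsg.gammaPOmega F ⇑Q) →* RingAut F where
  toFun β := (isPairAut_of_mem_gamma (⇑Q) β.2).choose_spec.choose
  map_one' := by
    have h1 := (isPairAut_of_mem_gamma (⇑Q) (1 : ↥(Cfsg.gammaPOmega F ⇑Q)).2).choose_spec.choose_spec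
    obtain ⟨g, σ, hp, hi⟩ := isPairAut_one (⇑Q)
    have hσ : σ = RingEquiv.refl F := sigma_eq_refl_of_induced_one Q hQ hn hp hi
    rw [sigma_unique Q hQ hn h1.1 h1.2 hp hi, hσ]
    rfl
  map_mul' β₁ β₂ := by
    have h := (isPairAut_of_mem_gamma (⇑Q) (β₁ * β₂).2).choose_spec.choose_spec
    have h1 := (isPairAut_of_mem_gamma (⇑Q) β₁.2).choose_spec.choose_spec
    have h2 := (isPairAut_of_mem_gamma (⇑Q) β₂.2).choose_spec.choose_spec
    rw [sigma_unique Q hQ hn h.1 h.2 (pair_mul (⇑Q) h1.1 h2.1)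
      (induced_mul (⇑Q) h1.1 h2.1 h1.2 h2.2)]
    rfl

theorem fieldHomG_eq (hQ : (polarBilin Q).Nondegenerate) (hn : 7 ≤ Fintype.card ι)
    {β : ↥(Cfsg.gammaPOmega F ⇑Q)} {g : GL ι F} {σ : F ≃+* F}
    (h : Cfsg.IsSemisimilarityPair (⇑Q) g σ)
    (i : Cfsg.IsInducedBySemilinearPOmega (⇑Q) g σ β.1) : fieldHomG Q hQ hn β = σ := by
  have h1 := (isPairAut_of_mem_gamma (⇑Q) β.2).choose_spec.choose_spec
  exact sigma_unique Q hQ hn h1.1 h1.2 h i

theorem fieldHomG_ker (hQ : (polarBilin Q).Nondegenerate) (hn : 7 ≤ Fintype.card ι) :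
    (fieldHomG Q hQ hn).ker = (Cfsg.pgoAut F ⇑Q).subgroupOf (Cfsg.gammaPOmega F ⇑Q) := by
  ext β
  rw [MonoidHom.mem_ker, Subgroup.mem_subgroupOf]
  constructor
  · intro h
    have h1 := (isPairAut_of_mem_gamma (⇑Q) β.2).choose_spec.choose_spec
    have h2 : (isPairAut_of_mem_gamma (⇑Q) β.2).choose_spec.choose = RingEquiv.refl F := h
    rw [h2] at h1
    unfold Cfsg.pgoAut Cfsg.autSubgroupOf
    apply Subgroup.subset_closure
    exact ⟨_, sim_of_pair (⇑Q) h1.1, h1.2⟩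
  · intro h
    rw [pgoAut_eq] at h
    obtain ⟨g, hg⟩ := h
    have hi : Cfsg.IsInducedBySemilinearPOmega (⇑Q) g.1 (RingEquiv.refl F) β.1 := by
      rw [← hg]
      exact (PSim.induced_iff (⇑Q) g.1 g.2 (theta (⇑Q) g)).2 rfl
    rw [fieldHomG_eq Q hQ hn (pair_of_sim (⇑Q) g.2) hi]
    rfl

theorem fieldHomG_surjective (hQ : (polarBilin Q).Nondegenerate) (hn : 7 ≤ Fintype.card ι)
    (hσ : ∀ σ : F ≃+* F, ∃ g : GL ι F, Cfsg.IsSemisimilarityPair (⇑Q) g σ) :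
    Function.Surjective (fieldHomG Q hQ hn) := by
  intro σ
  obtain ⟨g, hg⟩ := hσ σ
  refine ⟨⟨semiAut (⇑Q) hg, mem_gamma_of_pair Q ⟨g, σ, hg, semiAut_induced (⇑Q) hg⟩⟩, ?_⟩
  exact fieldHomG_eq Q hQ hn hg (semiAut_induced (⇑Q) hg)

/-- The order of the image of `PΓO`. -/
theorem card_gamma (hQ : (polarBilin Q).Nondegenerate) (hn : 7 ≤ Fintype.card ι)
    (hσ : ∀ σ : F ≃+* F, ∃ g : GL ι F, Cfsg.IsSemisimilarityPair (⇑Q) g σ) :
    Nat.card ↥(Cfsg.gammaPOmega F ⇑Q) = Nat.card ↥(Cfsg.pgoAut F ⇑Q) * Nat.card (RingAut F) := by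
  have h1 := Subgroup.card_mul_index (fieldHomG Q hQ hn).ker
  rw [Subgroup.index_ker, MonoidHom.range_eq_top.2 (fieldHomG_surjective Q hQ hn hσ),
    Subgroup.card_top, fieldHomG_ker] at h1
  rw [← h1]
  congr 1
  exact (Nat.card_congr (Subgroup.subgroupOfEquivOfLe (pgoAut_le_gamma Q)).toEquiv)

theorem card_gamma' (hQ : (polarBilin Q).Nondegenerate) (hn : 7 ≤ Fintype.card ι)
    (hσ : ∀ σ : F ≃+* F, ∃ g : GL ι F, Cfsg.IsSemisimilarityPair (⇑Q) g σ)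
    (hle : Cfsg.Inn (Cfsg.POmega F ⇑Q) ≤ Cfsg.pgoAut F ⇑Q) :
    Nat.card ↥(Cfsg.gammaPOmega F ⇑Q) =
      (Cfsg.Inn (Cfsg.POmega F ⇑Q)).relIndex (Cfsg.pgoAut F ⇑Q) * Nat.card (RingAut F) *
        Nat.card (Cfsg.POmega F ⇑Q) := by
  rw [card_gamma Q hQ hn hσ, card_of_relIndex hle, card_inn Q hQ hn]
  ring

end gamma

section plus

variable {F : Type u} [Field F] [Fintype F] {m : ℕ}

theorem card_idx_plus (m : ℕ) : Fintype.card (Fin m ⊕ Fin m) = 2 * m := by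
  simp only [Fintype.card_sum, Fintype.card_fin]; ring

/-- Every field automorphism extends to a semisimilarity of the plus-type form. -/
theorem plus_semisim (σ : F ≃+* F) :
    ∃ g : GL (Fin m ⊕ Fin m) F, Cfsg.IsSemisimilarityPair (⇑(Qp m F)) g σ :=
  ⟨1, Cfsg.Agent.Lib.Helper18.OrthFld.pair_one _ (Cfsg.Agent.Lib.Helper25.GFld.qfix_plus m σ)⟩

/-- `[PGO : Inn]` for the plus-type form, odd characteristic. -/
theorem relIndex_plus_odd (hodd : Odd (Fintype.card F)) (hm : 4 ≤ m) :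
    (Cfsg.Inn (Cfsg.POmega F ⇑(Qp m F))).relIndex (Cfsg.pgoAut F ⇑(Qp m F)) =
      if Even (m * (Fintype.card F - 1) / 2) then 8 else 4 := by
  have h2 := two_ne_zero_of_odd_card hodd
  have hQ : (polarBilin (Qp m F)).Nondegenerate := qfOf_nondeg _
  have hc1 := card_idx_plus m
  have hn : 7 ≤ Fintype.card (Fin m ⊕ Fin m) := by rw [hc1]; omega
  have hfin : 2 ≤ finrank F (Fin m ⊕ Fin m → F) := by
    rw [Module.finrank_fintype_fun_eq_card]
    omega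
  obtain ⟨u₀, hu₀⟩ := exists_rep (Qp m F) hQ hfin 1
  obtain ⟨ν, hν⟩ := FiniteField.exists_nonsquare (F := F) (ringChar_ne_two h2)
  have hν0 : ν ≠ 0 := by
    rintro rfl
    exact hν ⟨0, by simp⟩
  obtain ⟨δ, hδ⟩ := exists_delta m ν hν0
  obtain ⟨hmult, -, -⟩ := delta_facts m u₀ hu₀ h2 ν hν0 δ hδ
  obtain ⟨k1, k2⟩ := relIndex_inn_pgo (Qp m F) u₀ hu₀ h2 hQ hc1 hn δ (by rw [hmult]; exact hν)
  have hS := Cfsg.Agent.S0790.result (F := F) (q := Fintype.card F) rfl hodd m (by omega)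
  by_cases hc : Even (m * (Fintype.card F - 1) / 2)
  · rw [if_pos hc]
    apply k1
    apply hS.2
    have := (pow_mod_four_iff hodd m).not.2 (not_not.2 hc)
    have hoddp : Odd (Fintype.card F ^ m) := hodd.pow
    rw [Nat.odd_iff] at hoddp
    omega
  · rw [if_neg hc]
    apply k2
    intro hex
    have h1 := hS.1 hex
    have := (pow_mod_four_iff hodd m).2 hc
    omega

/-- `[PGO : Inn]` for the plus-type form. -/
theorem relIndex_plus (p f : ℕ) [Fact p.Prime] (hF : Fintype.card F = p ^ f) (hm : 4 ≤ m) :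
    (Cfsg.Inn (Cfsg.POmega F ⇑(Qp m F))).relIndex (Cfsg.pgoAut F ⇑(Qp m F)) =
      if p = 2 then 2 else (if Even (m * (p ^ f - 1) / 2) then 8 else 4) := by
  haveI : CharP F p := charP_of_card_eq_prime_pow hF
  have hc2 : 7 ≤ Fintype.card (Fin m ⊕ Fin m) := by rw [card_idx_plus]; omega
  by_cases hp : p = 2
  · rw [if_pos hp]
    subst hp
    exact relIndex_inn_pgo_char2 (Qp m F) (qfOf_nondeg _) hc2
  · rw [if_neg hp]
    have hoddp : Odd p := (Fact.out : p.Prime).odd_of_ne_two hp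
    have hoddF : Odd (Fintype.card F) := by rw [hF]; exact hoddp.pow
    have h1 := relIndex_plus_odd (F := F) hoddF hm
    rw [hF] at h1
    exact h1

/-- The order of the image of `PΓO⁺_{2m}(q)` in `Aut(PΩ⁺_{2m}(q))`, `m ≥ 4`. -/
theorem card_gamma_plus (p f : ℕ) [Fact p.Prime] (hF : Fintype.card F = p ^ f) (hm : 4 ≤ m) :
    Nat.card ↥(Cfsg.gammaPOmega F ⇑(Qp m F)) =
      (if p = 2 then 2 else (if Even (m * (p ^ f - 1) / 2) then 8 else 4)) * f *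
        Nat.card (Cfsg.POmega F ⇑(Qp m F)) := by
  have hc2 : 7 ≤ Fintype.card (Fin m ⊕ Fin m) := by rw [card_idx_plus]; omega
  haveI : CharP F p := charP_of_card_eq_prime_pow hF
  rw [card_gamma' (Qp m F) (qfOf_nondeg _) hc2 (fun σ => plus_semisim σ) (inn_le_pgoAut _ trivial),
    relIndex_plus p f hF hm, Cfsg.Agent.Lib.Helper18.PSL2Aut.ringAut_card p hF]

/-- The order of `Aut(PΩ⁺_{2m}(q))`, `m ≥ 5`. -/
theorem card_aut_plus (p f : ℕ) [Fact p.Prime] (hF : Fintype.card F = p ^ f) (hm : 5 ≤ m) :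
    Nat.card (MulAut (Cfsg.POmega F ⇑(Qp m F))) =
      (if p = 2 then 2 else (if Even (m * (p ^ f - 1) / 2) then 8 else 4)) * f *
        Nat.card (Cfsg.POmega F ⇑(Qp m F)) := by
  have hc2 : 7 ≤ Fintype.card (Fin m ⊕ Fin m) := by rw [card_idx_plus]; omega
  haveI : CharP F p := charP_of_card_eq_prime_pow hF
  rw [card_aut' (Qp m F) (qfOf_nondeg _) hc2
    (hAll_of_noD4 _ (qfOf_nondeg _) hc2 (Cfsg.Agent.Lib.Helper25.AutO.noD4_plus hm))
    (fun σ => plus_semisim σ) (inn_le_pgoAut _ trivial),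
    relIndex_plus p f hF (by omega), Cfsg.Agent.Lib.Helper18.PSL2Aut.ringAut_card p hF]

end plus

end Cfsg.Agent.Lib.Helper25.AutPlus
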