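import Cfsg.Agent.Lib.Helper25.AutPlus1
import Cfsg.Agent.Lib.Helper25.AutOut14
import Cfsg.Agent.Lib.Helper25.AutOut12

set_option autoImplicit false
set_option linter.unusedSectionVars false
set_option linter.unusedVariables false
set_option linter.unusedSimpArgs false

/-!
# `Out(PΩ⁺_{2m}(q))`, `q` odd, `m ≥ 5`
-/

namespace Cfsg.Agent.Lib.Helper25.AutPlus

open Module QuadraticMap Matrix Cfsg.Agent.Lib.Helper25.CD Cfsg.Agent.Lib.Helper25.Spin
  Cfsg.Agent.Lib.Helper25.PSim Cfsg.Agent.Lib.Helper25.PAut Cfsg.Agent.Lib.Helper25.PS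
  Cfsg.Agent.Lib.Helper25.Siegel Cfsg.Agent.Lib.Helper25.MaxTS Cfsg.Agent.Lib.Helper25.Fam
  Cfsg.Agent.Lib.Helper25.GraphSplit Cfsg.Agent.Lib.Helper25.AutOut

universe u

section plus

variable {F : Type u} [Field F] [Fintype F] {m : ℕ}

/-- the vector `e₁ + f₁` -/
def wPlus (F : Type u) [Field F] (m : ℕ) (i : Fin m) : Fin m ⊕ Fin m → F :=
  fun c => if c = Sum.inl i ∨ c = Sum.inr i then 1 else 0

theorem Q_wPlus (i : Fin m) : Cfsg.quadFormPlus m F (wPlus F m i) = 1 := by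
  unfold Cfsg.quadFormPlus wPlus
  rw [Finset.sum_eq_single i]
  · simp
  · intro j _ hj
    simp [hj]
  · intro h
    exact absurd (Finset.mem_univ i) h

theorem wPlus_fix (σ : F ≃+* F) (i : Fin m) (c : Fin m ⊕ Fin m) :
    σ (wPlus F m i c) = wPlus F m i c := by
  unfold wPlus
  split_ifs <;> simp

/-- `Out(PΩ⁺_{2m}(q))` for `q` odd, `m ≥ 5`. -/
theorem out_plus_odd (p f : ℕ) [Fact p.Prime] (hf : 1 ≤ f) (hF : Fintype.card F = p ^ f)
    (hp : p ≠ 2) (hm : 5 ≤ m) :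
    if p ^ f % 4 = 3 ∧ Odd m then
      Nonempty (Cfsg.Out (Cfsg.POmega F ⇑(Qp m F)) ≃*
        Multiplicative (ZMod 2 × ZMod 2 × ZMod f))
    else Nonempty (Cfsg.Out (Cfsg.POmega F ⇑(Qp m F)) ≃*
        DihedralGroup 4 × Multiplicative (ZMod f)) := by
  haveI : CharP F p := charP_of_card_eq_prime_pow hF
  have hoddp : Odd p := (Fact.out : p.Prime).odd_of_ne_two hp
  have hoddF : Odd (Fintype.card F) := by rw [hF]; exact hoddp.pow
  have h2 := two_ne_zero_of_odd_card hoddF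
  have hQ : (polarBilin (Qp m F)).Nondegenerate := qfOf_nondeg _
  have hc1 := card_idx_plus m
  have hn : 7 ≤ Fintype.card (Fin m ⊕ Fin m) := by rw [hc1]; omega
  have hAll := hAll_of_noD4 _ hQ hn (Cfsg.Agent.Lib.Helper25.AutO.noD4_plus hm)
  have hstd : ∀ σ : F ≃+* F,
      Cfsg.IsSemisimilarityPair (⇑(Qp m F)) (1 : GL (Fin m ⊕ Fin m) F) σ := fun σ =>
    Cfsg.Agent.Lib.Helper18.OrthFld.pair_one _ (Cfsg.Agent.Lib.Helper25.GFld.qfix_plus m σ)
  have hcyc : IsCyclic (RingAut F) := Cfsg.Agent.Lib.Helper18.PSL2Aut.ringAut_cyclic p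
  have hRA : Nat.card (RingAut F) = f := Cfsg.Agent.Lib.Helper18.PSL2Aut.ringAut_card p hF
  obtain ⟨ν, hν⟩ := FiniteField.exists_nonsquare (F := F) (ringChar_ne_two h2)
  have hw : Qp m F (wPlus F m ⟨0, by omega⟩) ≠ 0 := by
    rw [Qp_apply, Q_wPlus]
    exact one_ne_zero
  have hS := Cfsg.Agent.S0790.result (F := F) (q := Fintype.card F) rfl hoddF m (by omega)
  obtain ⟨k1, k2⟩ := out_even_split (Qp m F) h2 hQ hc1 hn hAll hstd hcyc hRA
    (Matrix.diagonal (Sum.elim (fun _ : Fin m => ν) (fun _ : Fin m => (1 : F)))) ν hν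
    (plus_sim m ν) (wPlus F m ⟨0, by omega⟩) hw (fun σ c => wPlus_fix σ _ c)
  have hq4 : Fintype.card F ^ m % 4 = 1 ∨ Fintype.card F ^ m % 4 = 3 := by
    have hoddp : Odd (Fintype.card F ^ m) := hoddF.pow
    rw [Nat.odd_iff] at hoddp
    omega
  by_cases hc : p ^ f % 4 = 3 ∧ Odd m
  · rw [if_pos hc]
    have h3 : Fintype.card F ^ m % 4 = 3 := by
      rw [hF]
      exact (pow_mod_four_eq_three_iff (by rw [← hF]; exact hoddF) m).2 hc
    have hneg : ¬ ∃ g : ↥(Cfsg.isometryGroup F ⇑(Qp m F)), g ∈ Cfsg.Omega F ⇑(Qp m F) ∧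
        ((g : GL (Fin m ⊕ Fin m) F) : Matrix (Fin m ⊕ Fin m) (Fin m ⊕ Fin m) F) = -1 := by
      intro hex
      have := hS.1 hex
      omega
    have hfodd : Odd f := by
      by_contra hne
      rw [Nat.not_odd_iff_even] at hne
      obtain ⟨t, rfl⟩ := hne
      have := pow_mod_four_even hoddp t
      omega
    exact k1 hneg hfodd
  · rw [if_neg hc]
    have h1 : Fintype.card F ^ m % 4 = 1 := by
      rcases hq4 with h | h
      · exact h
      · exfalso
        apply hc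
        rw [hF] at h
        exact (pow_mod_four_eq_three_iff (by rw [← hF]; exact hoddF) m).1 h
    exact k2 (hS.2 h1)

end plus

end Cfsg.Agent.Lib.Helper25.AutPlus
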