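import Mathlib
import Cfsg.Prelude.Def_Classical

set_option autoImplicit false

/-!
# B2A: root elements of the orthogonal group `O₅(F)` of `x₀² + x₁y₁ + x₂y₂` over an arbitrary field

Index set `I5 = Unit ⊕ (Fin 2 ⊕ Fin 2)`, `op` fixes `zz` and swaps `e_i ↔ f_i`.  The Eichler
transformation `Tf u w x = x + b(x,w) u - b(x,u) w - Q(w) b(x,u) u` (`Q u = 0`, `b(u,w) = 0`) and the
root elements `RG a b t = Tf (e_a) (t e_b)` (long for `b ≠ zz`, short for `b = zz`).
-/

namespace Cfsg.Agent.Lib.Helper25.B2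

open Matrix
open scoped commutatorElement

abbrev I5 : Type := Unit ⊕ (Fin 2 ⊕ Fin 2)

def zz : I5 := Sum.inl ()
def e1 : I5 := Sum.inr (Sum.inl 0)
def e2 : I5 := Sum.inr (Sum.inl 1)
def f1 : I5 := Sum.inr (Sum.inr 0)
def f2 : I5 := Sum.inr (Sum.inr 1)

/-- the opposite basis index -/
def op (a : I5) : I5 := Sum.map id Sum.swap a

theorem I5_forall {P : I5 → Prop} (h0 : P zz) (h1 : P e1) (h2 : P e2) (h3 : P f1) (h4 : P f2) :
    ∀ c, P c := by
  rintro (⟨⟩ | i | i)
  · exact h0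
  · fin_cases i
    · exact h1
    · exact h2
  · fin_cases i
    · exact h3
    · exact h4

@[simp] theorem op_op : ∀ a : I5, op (op a) = a := by decide
@[simp] theorem op_zz : op zz = zz := rfl
@[simp] theorem op_e1 : op e1 = f1 := rfl
@[simp] theorem op_e2 : op e2 = f2 := rfl
@[simp] theorem op_f1 : op f1 = e1 := rfl
@[simp] theorem op_f2 : op f2 = e2 := rfl

theorem op_ne_self : ∀ a : I5, a ≠ zz → op a ≠ a := by decide
theorem self_ne_op (a : I5) (h : a ≠ zz) : a ≠ op a := fun hh => op_ne_self a h hh.symm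
theorem op_ne_zz : ∀ a : I5, a ≠ zz → op a ≠ zz := by decide
theorem op_eq_zz : ∀ a : I5, op a = zz ↔ a = zz := by decide

theorem op_injective : Function.Injective op := fun a b h => by
  have := congrArg op h
  simpa using this

@[simp] theorem op_inj {a b : I5} : op a = op b ↔ a = b := op_injective.eq_iff

theorem op_eq_iff {a b : I5} : op a = b ↔ a = op b := by
  constructor
  · rintro rfl; simp
  · rintro rfl; simp

theorem sum_I5 {M : Type*} [AddCommMonoid M] (f : I5 → M) :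
    ∑ c, f c = f zz + f e1 + f e2 + f f1 + f f2 := by
  rw [Fintype.sum_sum_type, Fintype.sum_sum_type, Fin.sum_univ_two, Fin.sum_univ_two]
  simp only [Finset.univ_unique, Finset.sum_singleton]
  show f zz + (f e1 + f e2 + (f f1 + f f2)) = _
  abel

section field

variable {F : Type*} [Field F]

/-- the weight of a basis index in the polar form -/
def wt (c : I5) : F := if c = zz then 2 else 1

/-- the value of the quadratic form at a basis vector -/
def qz (c : I5) : F := if c = zz then 1 else 0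

@[simp] theorem wt_zz : (wt zz : F) = 2 := rfl
@[simp] theorem qz_zz : (qz zz : F) = 1 := rfl
theorem wt_ne {c : I5} (h : c ≠ zz) : (wt c : F) = 1 := if_neg h
theorem qz_ne {c : I5} (h : c ≠ zz) : (qz c : F) = 0 := if_neg h
@[simp] theorem wt_op (c : I5) : (wt (op c) : F) = wt c := by
  unfold wt; simp only [op_eq_zz]
@[simp] theorem qz_op (c : I5) : (qz (op c) : F) = qz c := by
  unfold qz; simp only [op_eq_zz]

theorem wt_qz (c : I5) : (wt c : F) * qz c = 2 * qz c := by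
  unfold wt qz; split_ifs <;> simp

/-- the quadratic form `x₀² + x₁y₁ + x₂y₂` -/
abbrev Q5 (F : Type*) [Field F] : (I5 → F) → F := Cfsg.quadFormOdd 2 F

/-- the isometry group of `Q5`, as a subgroup of `GL₅(F)` -/
abbrev O5 (F : Type*) [Field F] : Subgroup (GL I5 F) := Cfsg.isometryGroup F (Cfsg.quadFormOdd 2 F)

theorem mem_O5_iff (g : GL I5 F) : g ∈ O5 F ↔ ∀ u, Q5 F (g.val *ᵥ u) = Q5 F u :=
  ⟨fun h u => h u u, fun h u _ => h u⟩

theorem Q5_def (x : I5 → F) : Q5 F x = x zz ^ 2 + (x e1 * x f1 + x e2 * x f2) := by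
  show x zz ^ 2 + ∑ i : Fin 2, x (.inr (.inl i)) * x (.inr (.inr i)) = _
  rw [Fin.sum_univ_two]
  rfl

/-- the polar form of `Q5` -/
def bil (x y : I5 → F) : F := ∑ c, wt c * (x c * y (op c))

theorem bil_eq (x y : I5 → F) :
    bil x y = 2 * (x zz * y zz) + x e1 * y f1 + x e2 * y f2 + x f1 * y e1 + x f2 * y e2 := by
  unfold bil
  rw [sum_I5]
  have h1 : (wt e1 : F) = 1 := rfl
  have h2 : (wt e2 : F) = 1 := rfl
  have h3 : (wt f1 : F) = 1 := rfl
  have h4 : (wt f2 : F) = 1 := rfl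
  rw [h1, h2, h3, h4]
  simp

theorem Q5_add (x y : I5 → F) : Q5 F (x + y) = Q5 F x + Q5 F y + bil x y := by
  rw [bil_eq, Q5_def, Q5_def, Q5_def]
  simp only [Pi.add_apply]
  ring

theorem Q5_smul (t : F) (x : I5 → F) : Q5 F (t • x) = t ^ 2 * Q5 F x := by
  rw [Q5_def, Q5_def]
  simp only [Pi.smul_apply, smul_eq_mul]
  ring

theorem Q5_neg (x : I5 → F) : Q5 F (-x) = Q5 F x := by
  have := Q5_smul (-1 : F) x
  simpa using this

theorem Q5_zero : Q5 F (0 : I5 → F) = 0 := by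
  rw [Q5_def]; simp

theorem bil_comm (x y : I5 → F) : bil x y = bil y x := by
  rw [bil_eq, bil_eq]; ring

theorem bil_add_left (x y z : I5 → F) : bil (x + y) z = bil x z + bil y z := by
  rw [bil_eq, bil_eq, bil_eq]
  simp only [Pi.add_apply]
  ring

theorem bil_smul_left (t : F) (x z : I5 → F) : bil (t • x) z = t * bil x z := by
  rw [bil_eq, bil_eq]
  simp only [Pi.smul_apply, smul_eq_mul]
  ring

theorem bil_add_right (x y z : I5 → F) : bil x (y + z) = bil x y + bil x z := by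
  rw [bil_comm, bil_add_left, bil_comm y, bil_comm z]

theorem bil_smul_right (t : F) (x z : I5 → F) : bil x (t • z) = t * bil x z := by
  rw [bil_comm, bil_smul_left, bil_comm]

theorem bil_neg_right (x z : I5 → F) : bil x (-z) = - bil x z := by
  have := bil_smul_right (-1) x z
  simpa using this

theorem bil_neg_left (x z : I5 → F) : bil (-x) z = - bil x z := by
  rw [bil_comm, bil_neg_right, bil_comm]

theorem bil_sub_right (x y z : I5 → F) : bil x (y - z) = bil x y - bil x z := by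
  rw [sub_eq_add_neg, bil_add_right, bil_neg_right, sub_eq_add_neg]

theorem bil_sub_left (x y z : I5 → F) : bil (x - y) z = bil x z - bil y z := by
  rw [bil_comm, bil_sub_right, bil_comm x, bil_comm y]

theorem bil_zero_right (x : I5 → F) : bil x 0 = 0 := by
  rw [bil_eq]; simp

theorem bil_self (x : I5 → F) : bil x x = 2 * Q5 F x := by
  rw [bil_eq, Q5_def]; ring

/-- the standard basis vector -/
abbrev ev (c : I5) : I5 → F := Pi.single c 1

theorem bil_ev_right (x : I5 → F) : ∀ c : I5, bil x (ev c) = wt c * x (op c) := by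
  apply I5_forall <;> (rw [bil_eq]; simp [Pi.single_apply, zz, e1, e2, f1, f2, wt, op])

theorem bil_ev_left (x : I5 → F) (c : I5) : bil (ev c) x = wt c * x (op c) := by
  rw [bil_comm, bil_ev_right]

theorem Q5_ev : ∀ c : I5, Q5 F (ev c) = qz c := by
  apply I5_forall <;> (rw [Q5_def]; simp [Pi.single_apply, zz, e1, e2, f1, f2, qz])

theorem bil_of_O5 {g : GL I5 F} (hg : g ∈ O5 F) (x y : I5 → F) :
    bil (g.val *ᵥ x) (g.val *ᵥ y) = bil x y := by
  have h1 := (mem_O5_iff g).1 hg (x + y)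
  rw [Matrix.mulVec_add, Q5_add, Q5_add, (mem_O5_iff g).1 hg x, (mem_O5_iff g).1 hg y] at h1
  exact add_left_cancel h1

/-- the Eichler transformation -/
def Tf (u w x : I5 → F) : I5 → F := x + bil x w • u - bil x u • w - (Q5 F w * bil x u) • u

theorem Q5_lin (u w : I5 → F) (a b : F) :
    Q5 F (a • u + b • w) = a ^ 2 * Q5 F u + a * b * bil u w + b ^ 2 * Q5 F w := by
  rw [Q5_add, Q5_smul, Q5_smul, bil_smul_left, bil_smul_right]
  ring

theorem Tf_eq (u w x : I5 → F) :
    Tf u w x = x + ((bil x w - Q5 F w * bil x u) • u + (-bil x u) • w) := by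
  unfold Tf; module

theorem Q5_Tf {u w : I5 → F} (hu : Q5 F u = 0) (huw : bil u w = 0) (x : I5 → F) :
    Q5 F (Tf u w x) = Q5 F x := by
  rw [Tf_eq, Q5_add, Q5_lin, hu, huw, bil_add_right, bil_smul_right, bil_smul_right]
  ring

theorem bil_Tf_u {u w : I5 → F} (hu : Q5 F u = 0) (huw : bil u w = 0) (x : I5 → F) :
    bil (Tf u w x) u = bil x u := by
  rw [Tf_eq, bil_add_left, bil_add_left, bil_smul_left, bil_smul_left, bil_self, hu, bil_comm w u, huw]
  ring

theorem bil_Tf_w {u w : I5 → F} (huw : bil u w = 0) (x w' : I5 → F) :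
    bil (Tf u w x) w' = bil x w' + (bil x w - Q5 F w * bil x u) * bil u w' - bil x u * bil w w' := by
  rw [Tf_eq, bil_add_left, bil_add_left, bil_smul_left, bil_smul_left]
  ring

theorem Tf_Tf {u w w' : I5 → F} (hu : Q5 F u = 0) (huw : bil u w = 0) (huw' : bil u w' = 0)
    (x : I5 → F) : Tf u w (Tf u w' x) = Tf u (w + w') x := by
  have h1 : bil (Tf u w' x) u = bil x u := bil_Tf_u hu huw' x
  have h2 : bil (Tf u w' x) w = bil x w - bil x u * bil w' w := by
    rw [bil_Tf_w huw', huw]; ring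
  rw [Tf, h1, h2, Tf, Tf, Q5_add, bil_add_right, bil_comm w' w]
  module

theorem Tf_zero (u x : I5 → F) : Tf u 0 x = x := by
  unfold Tf
  rw [bil_zero_right, Q5_zero]
  simp

theorem Tf_conj {g : GL I5 F} (hg : g ∈ O5 F) (u w x : I5 → F) :
    g.val *ᵥ (Tf u w x) = Tf (g.val *ᵥ u) (g.val *ᵥ w) (g.val *ᵥ x) := by
  unfold Tf
  rw [bil_of_O5 hg, bil_of_O5 hg, (mem_O5_iff g).1 hg, Matrix.mulVec_sub, Matrix.mulVec_sub,
    Matrix.mulVec_add, Matrix.mulVec_smul, Matrix.mulVec_smul, Matrix.mulVec_smul]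

theorem Tf_smul_left (c : F) (u w x : I5 → F) : Tf (c • u) w x = Tf u (c • w) x := by
  unfold Tf
  rw [bil_smul_right, bil_smul_right, Q5_smul]
  module

/-- the matrix of the root element -/
def Rm (a b : I5) (t : F) : Matrix I5 I5 F :=
  1 + single a (op b) (t * wt b) - single b (op a) t - single a (op a) (t ^ 2 * qz b)

theorem Rm_mulVec (a b : I5) (ha : a ≠ zz) (t : F) (x : I5 → F) :
    Rm a b t *ᵥ x = Tf (ev a) (t • ev b) x := by
  unfold Rm Tf
  rw [Matrix.sub_mulVec, Matrix.sub_mulVec, Matrix.add_mulVec, Matrix.one_mulVec, single_mulVec_eq,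
    single_mulVec_eq, single_mulVec_eq, bil_smul_right, bil_ev_right, bil_ev_right, Q5_smul, Q5_ev,
    wt_ne ha]
  module

theorem Q5_ev_ne {a : I5} (ha : a ≠ zz) : Q5 F (ev a) = 0 := by rw [Q5_ev, qz_ne ha]

theorem bil_ev_smul_ev {a b : I5} (hab : a ≠ op b) (t : F) : bil (ev a : I5 → F) (t • ev b) = 0 := by
  rw [bil_smul_right, bil_ev_right]
  have : (ev a : I5 → F) (op b) = 0 := by simp [Pi.single_apply, hab.symm]
  rw [this]; ring

theorem Rm_mul (a b : I5) (ha : a ≠ zz) (hab : a ≠ op b) (t u : F) :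
    Rm a b t * Rm a b u = Rm a b (t + u) := by
  rw [Matrix.ext_iff_mulVec]
  intro x
  rw [← Matrix.mulVec_mulVec, Rm_mulVec a b ha, Rm_mulVec a b ha, Rm_mulVec a b ha,
    Tf_Tf (Q5_ev_ne ha) (bil_ev_smul_ev hab t) (bil_ev_smul_ev hab u), add_smul]

theorem Rm_zero (a b : I5) : Rm a b (0 : F) = 1 := by
  unfold Rm; simp

/-- the root element -/
def RG (a b : I5) (ha : a ≠ zz) (hab : a ≠ op b) (t : F) : GL I5 F where
  val := Rm a b t
  inv := Rm a b (-t)
  val_inv := by rw [Rm_mul a b ha hab, add_neg_cancel, Rm_zero]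
  inv_val := by rw [Rm_mul a b ha hab, neg_add_cancel, Rm_zero]

theorem RG_val (a b : I5) (ha : a ≠ zz) (hab : a ≠ op b) (t : F) :
    ((RG a b ha hab t : GL I5 F) : Matrix I5 I5 F) = Rm a b t := rfl

theorem RG_mulVec (a b : I5) (ha : a ≠ zz) (hab : a ≠ op b) (t : F) (x : I5 → F) :
    (RG a b ha hab t).val *ᵥ x = Tf (ev a) (t • ev b) x := Rm_mulVec a b ha t x

theorem RG_mulVec_apply (a b : I5) (ha : a ≠ zz) (hab : a ≠ op b) (t : F) (x : I5 → F) (c : I5) :
    ((RG a b ha hab t).val *ᵥ x) c =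
      x c + (t * wt b * x (op b) - t ^ 2 * qz b * x (op a)) * (if c = a then 1 else 0)
        - t * x (op a) * (if c = b then 1 else 0) := by
  rw [RG_mulVec, Tf, bil_smul_right, bil_ev_right, bil_ev_right, Q5_smul, Q5_ev, wt_ne ha]
  simp only [Pi.add_apply, Pi.sub_apply, Pi.smul_apply, smul_eq_mul, Pi.single_apply]
  ring

theorem RG_mem_O5 (a b : I5) (ha : a ≠ zz) (hab : a ≠ op b) (t : F) : RG a b ha hab t ∈ O5 F := by
  rw [mem_O5_iff]
  intro x
  rw [RG_mulVec, Q5_Tf (Q5_ev_ne ha) (bil_ev_smul_ev hab t)]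

theorem RG_zero (a b : I5) (ha : a ≠ zz) (hab : a ≠ op b) : RG a b ha hab (0 : F) = 1 :=
  Units.ext (Rm_zero a b)

theorem RG_add (a b : I5) (ha : a ≠ zz) (hab : a ≠ op b) (t u : F) :
    RG a b ha hab (t + u) = RG a b ha hab t * RG a b ha hab u :=
  Units.ext (Rm_mul a b ha hab t u).symm

theorem RG_inv (a b : I5) (ha : a ≠ zz) (hab : a ≠ op b) (t : F) :
    (RG a b ha hab t)⁻¹ = RG a b ha hab (-t) := by
  rw [inv_eq_iff_mul_eq_one, ← RG_add]
  simp [RG_zero]

theorem GL_ext_mulVec {g h : GL I5 F} (H : ∀ x : I5 → F, g.val *ᵥ x = h.val *ᵥ x) : g = h :=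
  Units.ext (Matrix.ext_iff_mulVec.2 H)

theorem val_mul_mulVec (g h : GL I5 F) (x : I5 → F) : (g * h).val *ᵥ x = g.val *ᵥ (h.val *ᵥ x) := by
  rw [Units.val_mul, Matrix.mulVec_mulVec]

/-- `Ω₅(F)` as a subgroup of `GL₅(F)` -/
def Om5 (F : Type*) [Field F] : Subgroup (GL I5 F) :=
  (Cfsg.Omega F (Cfsg.quadFormOdd 2 F)).map (O5 F).subtype

theorem comm_mem_Om5 {g h : GL I5 F} (hg : g ∈ O5 F) (hh : h ∈ O5 F) : g * h * g⁻¹ * h⁻¹ ∈ Om5 F := by
  refine ⟨⁅(⟨g, hg⟩ : ↥(O5 F)), (⟨h, hh⟩ : ↥(O5 F))⁆, ?_, rfl⟩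
  exact Subgroup.commutator_mem_commutator (Subgroup.mem_top _) (Subgroup.mem_top _)

theorem Om5_le_O5 : Om5 F ≤ O5 F := by
  rintro g ⟨x, _, rfl⟩
  exact x.2

/-- the subgroup generated by the root elements -/
def E0 (F : Type*) [Field F] : Subgroup (GL I5 F) :=
  Subgroup.closure {g | ∃ (a b : I5) (ha : a ≠ zz) (hab : a ≠ op b) (t : F), g = RG a b ha hab t}

theorem RG_mem_E0 (a b : I5) (ha : a ≠ zz) (hab : a ≠ op b) (t : F) : RG a b ha hab t ∈ E0 F :=
  Subgroup.subset_closure ⟨a, b, ha, hab, t, rfl⟩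

theorem E0_le_O5 : E0 F ≤ O5 F := by
  unfold E0
  rw [Subgroup.closure_le]
  rintro g ⟨a, b, ha, hab, t, rfl⟩
  exact RG_mem_O5 a b ha hab t

end field

end Cfsg.Agent.Lib.Helper25.B2
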