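import Cfsg.Agent.Lib.Helper25.B2A
import Cfsg.Prelude.Def_ChevB2

set_option autoImplicit false

/-!
# B2B: the 10-dimensional module `ker b / Sym₀` of `O₅(F)` and its coordinates

`P = Matrix I5 I5 F` with `g • M = g M gᵀ`, `b M = Σ_c wt c * M c c'`, `Sym₀` = symmetric matrices with
`M zz zz + Σ_i M e_i f_i = 0`. Coordinates `coordF : P → (Idx → F)` vanish on `Sym₀` and are dual to the
representatives `rep j`.  This gives a homomorphism `rho : O₅(F) → GL(Idx, F)`.
-/

namespace Cfsg.Agent.Lib.Helper25.B2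

open Matrix Cfsg Cfsg.Lie

abbrev Idx : Type := chevB2.Idx

/-- the (ordered) pair of basis indices attached to each root -/
def rootPairL : List (I5 × I5) :=
  [(f1, f2), (f1, zz), (f2, zz), (e2, f1), (e1, f2), (e2, zz), (e1, zz), (e1, e2)]

/-- the signs making the basis a Chevalley basis with the frozen structure constants -/
def epsL : List ℤ := [-1, -1, -1, 1, 1, 1, 1, 1]

def rootPair (r : ℕ) : I5 × I5 := rootPairL.getD r (e1, e1)
def ra (r : ℕ) : I5 := (rootPair r).1
def rb (r : ℕ) : I5 := (rootPair r).2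
def eps (r : ℕ) : ℤ := epsL.getD r 0

/-- the coordinate `i` of the matrix unit `E_{pq}` -/
def cz (i : Idx) (p q : I5) : ℤ :=
  match i with
  | Sum.inl i =>
    if i.val = 0 then
      (if p = zz ∧ q = zz then 1 else 0) + (if p = e1 ∧ q = f1 then 1 else 0) +
        (if p = e2 ∧ q = f2 then 1 else 0)
    else (if p = e1 ∧ q = f1 then 1 else 0) - (if p = f1 ∧ q = e1 then 1 else 0)
  | Sum.inr r => eps r.val * ((if p = ra r.val ∧ q = rb r.val then 1 else 0) -
      (if p = rb r.val ∧ q = ra r.val then 1 else 0))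

/-- sparse representatives of the basis of the module -/
def repS (j : Idx) : List (ℤ × I5 × I5) :=
  match j with
  | Sum.inl i => if i.val = 0 then [(1, e2, f2), (-1, f2, e2)] else [(1, e1, f1), (-1, e2, f2)]
  | Sum.inr r => [(eps r.val, ra r.val, rb r.val)]

/-- coordinates of a sparse matrix -/
def coordS (l : List (ℤ × I5 × I5)) (i : Idx) : ℤ := (l.map fun e => cz i e.2.1 e.2.2 * e.1).sum

section field

variable {F : Type*} [Field F]

/-- evaluation of a sparse matrix -/
def evS (l : List (ℤ × I5 × I5)) : Matrix I5 I5 F := (l.map fun e => single e.2.1 e.2.2 ((e.1 : ℤ) : F)).sum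

theorem evS_nil : (evS [] : Matrix I5 I5 F) = 0 := rfl

theorem evS_cons (e : ℤ × I5 × I5) (l : List (ℤ × I5 × I5)) :
    (evS (e :: l) : Matrix I5 I5 F) = single e.2.1 e.2.2 ((e.1 : ℤ) : F) + evS l := by
  unfold evS; simp

theorem evS_append (l l' : List (ℤ × I5 × I5)) :
    (evS (l ++ l') : Matrix I5 I5 F) = evS l + evS l' := by
  unfold evS; simp

/-- the basis representatives -/
def rep (j : Idx) : Matrix I5 I5 F := evS (repS j)

/-- the coordinates of a matrix -/
def coordF (M : Matrix I5 I5 F) (i : Idx) : F :=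
  match i with
  | Sum.inl i => if i.val = 0 then M zz zz + M e1 f1 + M e2 f2 else M e1 f1 - M f1 e1
  | Sum.inr r => ((eps r.val : ℤ) : F) * (M (ra r.val) (rb r.val) - M (rb r.val) (ra r.val))

theorem coordF_add (M N : Matrix I5 I5 F) (i : Idx) : coordF (M + N) i = coordF M i + coordF N i := by
  rcases i with i | r
  · unfold coordF
    simp only [Matrix.add_apply]
    split_ifs <;> ring
  · unfold coordF
    simp only [Matrix.add_apply]
    ring

theorem coordF_smul (t : F) (M : Matrix I5 I5 F) (i : Idx) : coordF (t • M) i = t * coordF M i := by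
  rcases i with i | r
  · unfold coordF
    simp only [Matrix.smul_apply, smul_eq_mul]
    split_ifs <;> ring
  · unfold coordF
    simp only [Matrix.smul_apply, smul_eq_mul]
    ring

/-- coordinates as a linear map -/
def coordL : Matrix I5 I5 F →ₗ[F] (Idx → F) where
  toFun M := coordF M
  map_add' M N := by funext i; exact coordF_add M N i
  map_smul' t M := by funext i; simp [coordF_smul]

theorem coordL_apply (M : Matrix I5 I5 F) (i : Idx) : coordL M i = coordF M i := rfl

theorem coordF_zero (i : Idx) : coordF (0 : Matrix I5 I5 F) i = 0 := by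
  have := congrFun (coordL (F := F)).map_zero i
  simpa [coordL_apply] using this

theorem coordF_sub (M N : Matrix I5 I5 F) (i : Idx) : coordF (M - N) i = coordF M i - coordF N i := by
  have := congrFun (coordL.map_sub M N) i
  simpa [coordL_apply] using this

theorem single_apply' (p q x y : I5) (c : F) :
    (single p q c : Matrix I5 I5 F) x y = if x = p ∧ y = q then c else 0 := by
  rw [single_apply]
  by_cases h : p = x ∧ q = y
  · rw [if_pos h, if_pos ⟨h.1.symm, h.2.symm⟩]
  · rw [if_neg h, if_neg (fun hh => h ⟨hh.1.symm, hh.2.symm⟩)]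

theorem coordF_single (p q : I5) (c : F) (i : Idx) :
    coordF (single p q c) i = ((cz i p q : ℤ) : F) * c := by
  rcases i with i | r
  · unfold coordF cz
    simp only [single_apply']
    by_cases hi : i.val = 0
    · simp only [hi, if_true]
      have : ∀ (P : Prop) [Decidable P], ((if P then (1 : ℤ) else 0 : ℤ) : F) * c = if P then c else 0 := by
        intro P _; split_ifs <;> simp
      simp only [eq_comm (a := zz), eq_comm (a := e1), eq_comm (a := e2), eq_comm (a := f1),
        eq_comm (a := f2)]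
      push_cast
      simp only [add_mul, ite_mul, one_mul, zero_mul]
    · simp only [hi, if_false]
      simp only [eq_comm (a := zz), eq_comm (a := e1), eq_comm (a := e2), eq_comm (a := f1),
        eq_comm (a := f2)]
      push_cast
      simp only [sub_mul, ite_mul, one_mul, zero_mul]
  · unfold coordF cz
    simp only [single_apply']
    simp only [eq_comm (a := ra r.val), eq_comm (a := rb r.val)]
    push_cast
    simp only [mul_assoc, sub_mul, ite_mul, one_mul, zero_mul]

theorem coordF_evS (l : List (ℤ × I5 × I5)) (i : Idx) :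
    coordF (evS l : Matrix I5 I5 F) i = ((coordS l i : ℤ) : F) := by
  induction l with
  | nil => simp [evS_nil, coordF_zero, coordS]
  | cons e l ih =>
    rw [evS_cons, coordF_add, ih, coordF_single]
    unfold coordS
    simp

theorem coordS_repS : ∀ i j : Idx, coordS (repS j) i = if i = j then 1 else 0 := by
  decide +kernel

theorem rootPair_ok : ∀ r : Fin chevB2.nroots, ra r.val ≠ zz ∧ ra r.val ≠ op (rb r.val) ∧ ra r.val ≠ rb r.val := by
  decide

theorem eps_sq : ∀ r : Fin chevB2.nroots, eps r.val * eps r.val = 1 := by decide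

theorem exists_root : ∀ a b : I5, a ≠ b → a ≠ op b →
    ∃ r : Fin chevB2.nroots, (ra r.val = a ∧ rb r.val = b) ∨ (ra r.val = b ∧ rb r.val = a) := by decide

theorem coordF_rep (i j : Idx) : coordF (rep j : Matrix I5 I5 F) i = if i = j then 1 else 0 := by
  unfold rep
  rw [coordF_evS, coordS_repS]
  split_ifs <;> simp

/-- the linear form `b M = Σ_c wt c * M c c'` -/
def bM (M : Matrix I5 I5 F) : F := ∑ c, wt c * M c (op c)

/-- the linear form `M zz zz + Σ_i M e_i f_i` -/
def tM (M : Matrix I5 I5 F) : F := M zz zz + M e1 f1 + M e2 f2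

/-- the submodule `Sym₀` -/
def IsS0 (M : Matrix I5 I5 F) : Prop := Mᵀ = M ∧ tM M = 0

/-- the action `g M gᵀ` -/
def act (g : Matrix I5 I5 F) (M : Matrix I5 I5 F) : Matrix I5 I5 F := g * M * gᵀ

theorem act_one (M : Matrix I5 I5 F) : act 1 M = M := by
  unfold act; simp

theorem act_mul (g h : Matrix I5 I5 F) (M : Matrix I5 I5 F) : act (g * h) M = act g (act h M) := by
  unfold act
  rw [Matrix.transpose_mul]
  simp only [Matrix.mul_assoc]

theorem act_add (g : Matrix I5 I5 F) (M N : Matrix I5 I5 F) : act g (M + N) = act g M + act g N := by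
  unfold act
  rw [Matrix.mul_add, Matrix.add_mul]

theorem act_sub (g : Matrix I5 I5 F) (M N : Matrix I5 I5 F) : act g (M - N) = act g M - act g N := by
  unfold act
  rw [Matrix.mul_sub, Matrix.sub_mul]

theorem act_smul (g : Matrix I5 I5 F) (t : F) (M : Matrix I5 I5 F) : act g (t • M) = t • act g M := by
  unfold act
  rw [Matrix.mul_smul, Matrix.smul_mul]

theorem act_sum {ι : Type*} (s : Finset ι) (g : Matrix I5 I5 F) (f : ι → Matrix I5 I5 F) :
    act g (∑ k ∈ s, f k) = ∑ k ∈ s, act g (f k) := by
  unfold act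
  rw [Matrix.mul_sum, Matrix.sum_mul]

theorem act_apply (g M : Matrix I5 I5 F) (x y : I5) :
    act g M x y = ∑ p, ∑ q, M p q * (g x p * g y q) := by
  unfold act
  rw [Matrix.mul_apply]
  simp only [Matrix.mul_apply, Matrix.transpose_apply, Finset.sum_mul]
  rw [Finset.sum_comm]
  apply Finset.sum_congr rfl; intro p _
  apply Finset.sum_congr rfl; intro q _
  ring

theorem act_transpose (g M : Matrix I5 I5 F) : (act g M)ᵀ = act g Mᵀ := by
  unfold act
  rw [Matrix.transpose_mul, Matrix.transpose_mul, Matrix.transpose_transpose, Matrix.mul_assoc]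

/-- column `p` of `g` -/
def colv (g : Matrix I5 I5 F) (p : I5) : I5 → F := fun x => g x p

theorem colv_eq (g : Matrix I5 I5 F) (p : I5) : colv g p = g *ᵥ ev p := by
  funext x
  simp [colv]

theorem bM_act_gen (g M : Matrix I5 I5 F) :
    bM (act g M) = ∑ p, ∑ q, M p q * bil (colv g p) (colv g q) := by
  unfold bM bil
  simp only [act_apply, Finset.mul_sum]
  rw [Finset.sum_comm]
  apply Finset.sum_congr rfl; intro p _
  rw [Finset.sum_comm]
  apply Finset.sum_congr rfl; intro q _
  apply Finset.sum_congr rfl; intro c _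
  unfold colv
  ring

theorem bil_colv_of_O5 {g : GL I5 F} (hg : g ∈ O5 F) (p q : I5) :
    bil (colv g.val p) (colv g.val q) = if q = op p then wt p else 0 := by
  rw [colv_eq, colv_eq, bil_of_O5 hg, bil_ev_left]
  simp [Pi.single_apply, eq_comm]

theorem Q5_colv_of_O5 {g : GL I5 F} (hg : g ∈ O5 F) (p : I5) : Q5 F (colv g.val p) = qz p := by
  rw [colv_eq, (mem_O5_iff g).1 hg, Q5_ev]

theorem bM_act {g : GL I5 F} (hg : g ∈ O5 F) (M : Matrix I5 I5 F) : bM (act g.val M) = bM M := by
  rw [bM_act_gen]
  unfold bM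
  apply Finset.sum_congr rfl; intro p _
  rw [Finset.sum_eq_single (op p)]
  · rw [bil_colv_of_O5 hg, if_pos rfl, mul_comm]
  · intro q _ hq
    rw [bil_colv_of_O5 hg, if_neg hq, mul_zero]
  · intro h; exact absurd (Finset.mem_univ _) h

/-- the non-symmetric bilinear form `u₀ v₀ + Σ_i u(e_i) v(f_i)` on columns -/
def betaF (u v : I5 → F) : F := u zz * v zz + u e1 * v f1 + u e2 * v f2

theorem betaF_self (u : I5 → F) : betaF u u = Q5 F u := by
  rw [Q5_def]; unfold betaF; ring

theorem betaF_add_swap (u v : I5 → F) : betaF u v + betaF v u = bil u v := by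
  rw [bil_eq]
  unfold betaF
  ring

theorem tM_act_gen (g M : Matrix I5 I5 F) :
    tM (act g M) = ∑ p, ∑ q, M p q * betaF (colv g p) (colv g q) := by
  unfold tM betaF colv
  simp only [act_apply, mul_add, Finset.sum_add_distrib]

theorem tM_act {g : GL I5 F} (hg : g ∈ O5 F) (M : Matrix I5 I5 F) (hM : Mᵀ = M) :
    tM (act g.val M) = tM M := by
  have h1 : tM M = tM (act 1 M) := by rw [act_one]
  rw [h1, tM_act_gen, tM_act_gen, ← sub_eq_zero, ← Finset.sum_sub_distrib]
  simp only [← Finset.sum_sub_distrib, ← mul_sub]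
  rw [← Finset.sum_product']
  have hsym : ∀ x y, M x y = M y x := fun x y => by
    have := congrFun (congrFun hM y) x
    rwa [Matrix.transpose_apply] at this
  have h1g : (1 : GL I5 F) ∈ O5 F := one_mem _
  apply Finset.sum_involution (fun a _ => (a.2, a.1))
  · rintro ⟨p, q⟩ _
    simp only
    rw [hsym q p, ← mul_add]
    have e1' := betaF_add_swap (colv g.val p) (colv g.val q)
    have e2' := betaF_add_swap (colv (1 : Matrix I5 I5 F) p) (colv (1 : Matrix I5 I5 F) q)
    have e3 := bil_colv_of_O5 hg p q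
    have e4 := bil_colv_of_O5 h1g p q
    rw [Units.val_one] at e4
    rw [e3] at e1'
    rw [e4] at e2'
    have : betaF (colv g.val p) (colv g.val q) - betaF (colv (1 : Matrix I5 I5 F) p) (colv 1 q) +
        (betaF (colv g.val q) (colv g.val p) - betaF (colv (1 : Matrix I5 I5 F) q) (colv 1 p)) = 0 := by
      linear_combination e1' - e2'
    rw [this, mul_zero]
  · rintro ⟨p, q⟩ _ hne heq
    simp only [Prod.mk.injEq] at heq
    obtain ⟨rfl, -⟩ := heq
    apply hne
    rw [betaF_self, betaF_self, Q5_colv_of_O5 hg]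
    have := Q5_colv_of_O5 h1g q
    rw [Units.val_one] at this
    rw [this, sub_self, mul_zero]
  · intro a _; exact Finset.mem_univ _
  · rintro ⟨p, q⟩ _; rfl

theorem IsS0_act {g : GL I5 F} (hg : g ∈ O5 F) {M : Matrix I5 I5 F} (hM : IsS0 M) :
    IsS0 (act g.val M) := by
  refine ⟨?_, ?_⟩
  · rw [act_transpose, hM.1]
  · rw [tM_act hg M hM.1, hM.2]

theorem coordF_root (M : Matrix I5 I5 F) (r : Fin chevB2.nroots) :
    coordF M (Sum.inr r) = ((eps r.val : ℤ) : F) * (M (ra r.val) (rb r.val) - M (rb r.val) (ra r.val)) := rfl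

theorem coordF_c0 (M : Matrix I5 I5 F) : coordF M (Sum.inl ⟨0, by decide⟩) = M zz zz + M e1 f1 + M e2 f2 := rfl

theorem coordF_c1 (M : Matrix I5 I5 F) : coordF M (Sum.inl ⟨1, by decide⟩) = M e1 f1 - M f1 e1 := rfl

theorem bM_eq (M : Matrix I5 I5 F) : bM M = 2 * M zz zz + M e1 f1 + M e2 f2 + M f1 e1 + M f2 e2 := by
  unfold bM
  rw [sum_I5]
  have h1 : (wt e1 : F) = 1 := rfl
  have h2 : (wt e2 : F) = 1 := rfl
  have h3 : (wt f1 : F) = 1 := rfl
  have h4 : (wt f2 : F) = 1 := rfl
  rw [h1, h2, h3, h4]
  simp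

theorem sym_apply {M : Matrix I5 I5 F} (hM : Mᵀ = M) (x y : I5) : M x y = M y x := by
  have := congrFun (congrFun hM y) x
  rwa [Matrix.transpose_apply] at this

theorem fin2_cases (i : Fin chevB2.rank) : i = ⟨0, by decide⟩ ∨ i = ⟨1, by decide⟩ := by
  have : i.val < 2 := i.isLt
  rcases i with ⟨v, hv⟩
  interval_cases v
  · left; rfl
  · right; rfl

/-- coordinates vanish on `Sym₀` -/
theorem coordF_of_IsS0 {M : Matrix I5 I5 F} (hM : IsS0 M) (i : Idx) : coordF M i = 0 := by
  have ht := hM.2
  unfold tM at ht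
  rcases i with i | r
  · rcases fin2_cases i with h | h
    · rw [h, coordF_c0, ht]
    · rw [h, coordF_c1, sym_apply hM.1 f1 e1, sub_self]
  · rw [coordF_root, sym_apply hM.1 (rb r.val) (ra r.val), sub_self, mul_zero]

theorem eps_ne_zero (r : Fin chevB2.nroots) : ((eps r.val : ℤ) : F) ≠ 0 := by
  intro h
  have h1 := eps_sq r
  have h2 : ((eps r.val * eps r.val : ℤ) : F) = 1 := by rw [h1]; simp
  rw [Int.cast_mul, h, zero_mul] at h2
  exact zero_ne_one h2

/-- a matrix in `ker b` all of whose coordinates vanish lies in `Sym₀` -/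
theorem IsS0_of_coordF {M : Matrix I5 I5 F} (hb : bM M = 0) (hc : ∀ i, coordF M i = 0) : IsS0 M := by
  have c0 := hc (Sum.inl ⟨0, by decide⟩)
  have c1 := hc (Sum.inl ⟨1, by decide⟩)
  rw [coordF_c0] at c0
  rw [coordF_c1] at c1
  rw [bM_eq] at hb
  have hopp : ∀ a, M a (op a) = M (op a) a := by
    apply I5_forall
    · rfl
    · show M e1 f1 = M f1 e1
      linear_combination c1
    · show M e2 f2 = M f2 e2
      linear_combination 2 * c0 - hb - c1
    · show M f1 e1 = M e1 f1
      linear_combination -c1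
    · show M f2 e2 = M e2 f2
      linear_combination hb - 2 * c0 + c1
  refine ⟨?_, ?_⟩
  · ext x y
    rw [Matrix.transpose_apply]
    by_cases hxy : y = x
    · rw [hxy]
    by_cases hxy' : y = op x
    · rw [hxy', hopp]
    obtain ⟨r, hr | hr⟩ := exists_root y x hxy hxy'
    · have := hc (Sum.inr r)
      rw [coordF_root, hr.1, hr.2] at this
      have h2 := (mul_eq_zero.1 this).resolve_left (eps_ne_zero r)
      exact sub_eq_zero.1 h2
    · have := hc (Sum.inr r)
      rw [coordF_root, hr.1, hr.2] at this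
      have h2 := (mul_eq_zero.1 this).resolve_left (eps_ne_zero r)
      exact (sub_eq_zero.1 h2).symm
  · exact c0

theorem bM_add (M N : Matrix I5 I5 F) : bM (M + N) = bM M + bM N := by
  unfold bM; simp [Finset.sum_add_distrib, mul_add]

theorem bM_sub (M N : Matrix I5 I5 F) : bM (M - N) = bM M - bM N := by
  unfold bM; simp [Finset.sum_sub_distrib, mul_sub]

theorem bM_smul (t : F) (M : Matrix I5 I5 F) : bM (t • M) = t * bM M := by
  unfold bM; rw [Finset.mul_sum]
  apply Finset.sum_congr rfl; intro c _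
  simp only [Matrix.smul_apply, smul_eq_mul]; ring

theorem bM_sum {ι : Type*} (s : Finset ι) (f : ι → Matrix I5 I5 F) : bM (∑ k ∈ s, f k) = ∑ k ∈ s, bM (f k) := by
  classical
  induction s using Finset.induction_on with
  | empty => simp [bM]
  | insert a s ha ih => rw [Finset.sum_insert ha, Finset.sum_insert ha, bM_add, ih]

theorem bM_single (p q : I5) (c : F) : bM (single p q c) = if q = op p then wt p * c else 0 := by
  unfold bM
  rw [Finset.sum_eq_single p]
  · split_ifs with h
    · rw [h, single_apply_same]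
    · rw [single_apply_of_ne _ _ _ _ _ (fun hh => h hh.2), mul_zero]
  · intro x _ hx
    rw [single_apply_of_ne _ _ _ _ _ (fun hh => hx hh.1.symm), mul_zero]
  · intro h; exact absurd (Finset.mem_univ _) h

/-- integer weights -/
def wtZ (c : I5) : ℤ := if c = zz then 2 else 1

theorem wtZ_cast (c : I5) : ((wtZ c : ℤ) : F) = wt c := by
  unfold wtZ wt; split_ifs <;> simp

/-- `b` of a sparse matrix -/
def bS (l : List (ℤ × I5 × I5)) : ℤ := (l.map fun e => if e.2.2 = op e.2.1 then wtZ e.2.1 * e.1 else 0).sum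

theorem bM_evS (l : List (ℤ × I5 × I5)) : bM (evS l : Matrix I5 I5 F) = ((bS l : ℤ) : F) := by
  induction l with
  | nil => simp [evS_nil, bM, bS]
  | cons e l ih =>
    rw [evS_cons, bM_add, ih, bM_single]
    unfold bS
    simp only [List.map_cons, List.sum_cons, Int.cast_add]
    split_ifs <;> simp [wtZ_cast]

theorem bS_repS : ∀ j : Idx, bS (repS j) = 0 := by decide

theorem bM_rep (j : Idx) : bM (rep j : Matrix I5 I5 F) = 0 := by
  unfold rep
  rw [bM_evS, bS_repS]; simp

theorem coordF_sum {ι : Type*} (s : Finset ι) (f : ι → Matrix I5 I5 F) (i : Idx) :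
    coordF (∑ k ∈ s, f k) i = ∑ k ∈ s, coordF (f k) i := by
  have := congrFun (map_sum (coordL (F := F)) f s) i
  simpa [coordL_apply] using this

/-- the fundamental decomposition: a matrix in `ker b` is its coordinate combination of the
representatives modulo `Sym₀` -/
theorem IsS0_sub_sum {M : Matrix I5 I5 F} (hb : bM M = 0) :
    IsS0 (M - ∑ k : Idx, coordF M k • rep k) := by
  apply IsS0_of_coordF
  · rw [bM_sub, hb, bM_sum]
    simp [bM_smul, bM_rep]
  · intro i
    rw [coordF_sub, coordF_sum]
    simp only [coordF_smul, coordF_rep]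
    simp

/-- the matrix of `g` on the module, in the coordinates -/
def Rmat (g : Matrix I5 I5 F) : Matrix Idx Idx F := Matrix.of fun i j => coordF (act g (rep j)) i

theorem Rmat_apply (g : Matrix I5 I5 F) (i j : Idx) : Rmat g i j = coordF (act g (rep j)) i := rfl

theorem Rmat_one : Rmat (1 : Matrix I5 I5 F) = 1 := by
  ext i j
  rw [Rmat_apply, act_one, coordF_rep, Matrix.one_apply]

theorem Rmat_mul {g h : GL I5 F} (hg : g ∈ O5 F) (hh : h ∈ O5 F) :
    Rmat (g.val * h.val) = Rmat g.val * Rmat h.val := by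
  ext i j
  rw [Rmat_apply, act_mul, Matrix.mul_apply]
  have hb : bM (act h.val (rep j)) = 0 := by rw [bM_act hh, bM_rep]
  have hS := IsS0_sub_sum hb
  have hS' := IsS0_act hg hS
  have h0 := coordF_of_IsS0 hS' i
  rw [act_sub, coordF_sub, sub_eq_zero] at h0
  rw [h0, act_sum, coordF_sum]
  apply Finset.sum_congr rfl
  intro k _
  rw [act_smul, coordF_smul, Rmat_apply, Rmat_apply, mul_comm]

/-- the representation of `O₅(F)` on the 10-dimensional module -/
noncomputable def rho : ↥(O5 F) →* GL Idx F :=
  MonoidHom.toHomUnits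
    { toFun := fun g => Rmat g.val.val
      map_one' := Rmat_one
      map_mul' := fun g h => Rmat_mul g.2 h.2 }

theorem rho_val (g : ↥(O5 F)) : ((rho g : GL Idx F) : Matrix Idx Idx F) = Rmat g.val.val := rfl

end field

end Cfsg.Agent.Lib.Helper25.B2
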