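import Cfsg.Agent.Lib.Helper25.B2B

set_option autoImplicit false

/-!
# B2C: the root elements of `O₅(F)` act on the 10-dimensional module by the Chevalley matrices `x_r(t)`

Sparse polynomial matrices `(c, k, p, q) ↦ c t^k E_{pq}` and a kernel-checked table comparison.
-/

namespace Cfsg.Agent.Lib.Helper25.B2

open Matrix Cfsg Cfsg.Lie

/-- sparse polynomial matrices -/
abbrev SP : Type := List (ℤ × ℕ × I5 × I5)

def mulE (e e' : ℤ × ℕ × I5 × I5) : SP :=
  if e.2.2.2 = e'.2.2.1 then [(e.1 * e'.1, e.2.1 + e'.2.1, e.2.2.1, e'.2.2.2)] else []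

def mulP (l l' : SP) : SP := l.flatMap fun e => l'.flatMap fun e' => mulE e e'

def trP (l : SP) : SP := l.map fun e => (e.1, e.2.1, e.2.2.2, e.2.2.1)

def qzZ (b : I5) : ℤ := if b = zz then 1 else 0

def oneS : SP := [(1, 0, zz, zz), (1, 0, e1, e1), (1, 0, e2, e2), (1, 0, f1, f1), (1, 0, f2, f2)]

/-- the sparse polynomial matrix of the root element `x_r(t)` -/
def gS (r : ℕ) : SP :=
  oneS ++ [(eps r * wtZ (rb r), 1, ra r, op (rb r)), (-eps r, 1, rb r, op (ra r)),
    (-qzZ (rb r), 2, ra r, op (ra r))]

def repP (j : Idx) : SP := (repS j).map fun e => (e.1, 0, e.2.1, e.2.2)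

def actS (r : ℕ) (j : Idx) : SP := mulP (mulP (gS r) (repP j)) (trP (gS r))

/-- the coefficient of `t^k` in the coordinate `i` -/
def coordP (l : SP) (i : Idx) (k : ℕ) : ℤ :=
  (l.map fun e => if e.2.1 = k then cz i e.2.2.1 e.2.2.2 * e.1 else 0).sum

/-- the polynomial coefficients (of `1, t, t²`) of the entries of the frozen `x_r(t)` -/
def xP (r : Fin chevB2.nroots) (row col : Idx) : ℤ × ℤ × ℤ :=
  match col with
  | Sum.inl i =>
    (match row with
     | Sum.inl i' => (if i' = i then 1 else 0, 0, 0)
     | Sum.inr u => (0, if u = r then - ((chevB2.cartanSR.getD i.val #[]).getD r.val 0) else 0, 0))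
  | Sum.inr s =>
    if s = r then (match row with | Sum.inr u => (if u = r then 1 else 0, 0, 0) | Sum.inl _ => (0, 0, 0))
    else if s.val = chevB2.negIdx.getD r.val 0 then
      (match row with
       | Sum.inl i => (0, (chevB2.coroot.getD r.val #[]).getD i.val 0, 0)
       | Sum.inr u => (if u = s then 1 else 0, 0, if u = s then 0 else if u = r then -1 else 0))
    else
      (match row with
       | Sum.inl _ => (0, 0, 0)
       | Sum.inr u => (if u = s then 1 else 0,
           (((chevB2.chainCoeff r.val s.val u.val).filter (·.1 = 1)).map (·.2)).sum,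
           (((chevB2.chainCoeff r.val s.val u.val).filter (·.1 = 2)).map (·.2)).sum))

set_option maxRecDepth 100000 in
theorem chain_exp : ∀ r s u : Fin chevB2.nroots, ∀ km ∈ chevB2.chainCoeff r.val s.val u.val,
    km.1 = 1 ∨ km.1 = 2 := by
  decide +kernel

set_option maxRecDepth 100000 in
theorem deg_le : ∀ r : Fin chevB2.nroots, ∀ j : Idx, ∀ e ∈ actS r.val j, e.2.1 < 5 := by
  decide +kernel

set_option maxRecDepth 100000 in
theorem check_all : ∀ r : Fin chevB2.nroots, ∀ i j : Idx,
    (coordP (actS r.val j) i 0, coordP (actS r.val j) i 1, coordP (actS r.val j) i 2,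
      coordP (actS r.val j) i 3, coordP (actS r.val j) i 4) =
      ((xP r i j).1, (xP r i j).2.1, (xP r i j).2.2, 0, 0) := by
  decide +kernel

section field

variable {F : Type*} [Field F]

/-- evaluation of a sparse polynomial matrix -/
def evP (l : SP) (t : F) : Matrix I5 I5 F :=
  (l.map fun e => single e.2.2.1 e.2.2.2 (((e.1 : ℤ) : F) * t ^ e.2.1)).sum

theorem evP_nil (t : F) : evP [] t = 0 := rfl

theorem evP_cons (e : ℤ × ℕ × I5 × I5) (l : SP) (t : F) :
    evP (e :: l) t = single e.2.2.1 e.2.2.2 (((e.1 : ℤ) : F) * t ^ e.2.1) + evP l t := by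
  unfold evP; simp

theorem evP_append (l l' : SP) (t : F) : evP (l ++ l') t = evP l t + evP l' t := by
  unfold evP; simp

theorem single_mul_single' (i j k l : I5) (a b : F) :
    (single i j a * single k l b : Matrix I5 I5 F) = if j = k then single i l (a * b) else 0 := by
  split_ifs with h
  · subst h; rw [single_mul_single_same]
  · exact single_mul_single_of_ne _ _ _ _ h _

theorem evP_mulE (e e' : ℤ × ℕ × I5 × I5) (t : F) :
    evP (mulE e e') t = single e.2.2.1 e.2.2.2 (((e.1 : ℤ) : F) * t ^ e.2.1) *
      single e'.2.2.1 e'.2.2.2 (((e'.1 : ℤ) : F) * t ^ e'.2.1) := by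
  unfold mulE
  rw [single_mul_single']
  split_ifs with h
  · rw [evP_cons, evP_nil, add_zero]
    congr 1
    push_cast
    rw [pow_add]; ring
  · rfl

theorem evP_flatMap_mulE (e : ℤ × ℕ × I5 × I5) (l' : SP) (t : F) :
    evP (l'.flatMap fun e' => mulE e e') t =
      single e.2.2.1 e.2.2.2 (((e.1 : ℤ) : F) * t ^ e.2.1) * evP l' t := by
  induction l' with
  | nil => simp [evP_nil]
  | cons e' l' ih =>
    rw [List.flatMap_cons, evP_append, ih, evP_mulE, evP_cons, Matrix.mul_add]

theorem evP_mulP (l l' : SP) (t : F) : evP (mulP l l') t = evP l t * evP l' t := by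
  induction l with
  | nil => simp [mulP, evP_nil]
  | cons e l ih =>
    unfold mulP at ih ⊢
    rw [List.flatMap_cons, evP_append, ih, evP_flatMap_mulE, evP_cons, Matrix.add_mul]

theorem evP_trP (l : SP) (t : F) : evP (trP l) t = (evP l t)ᵀ := by
  induction l with
  | nil => simp [trP, evP_nil]
  | cons e l ih =>
    unfold trP at ih ⊢
    rw [List.map_cons, evP_cons, evP_cons, ih, Matrix.transpose_add, transpose_single]

theorem evP_oneS (t : F) : evP oneS t = 1 := by
  unfold evP oneS
  simp only [List.map_cons, List.map_nil, List.sum_cons, List.sum_nil, Int.cast_one, pow_zero, mul_one,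
    add_zero]
  rw [← Matrix.diagonal_one, ← sum_single_eq_diagonal, sum_I5]
  simp only [add_assoc]

theorem evP_repP (j : Idx) (t : F) : evP (repP j) t = rep j := by
  unfold repP rep
  generalize repS j = l
  induction l with
  | nil => rfl
  | cons e l ih =>
    rw [List.map_cons, evP_cons, evS_cons, ih]
    simp

/-- the root element of `O₅(F)` attached to the root `r` -/
def Eroot (r : Fin chevB2.nroots) (t : F) : GL I5 F :=
  RG (ra r.val) (rb r.val) (rootPair_ok r).1 (rootPair_ok r).2.1 (((eps r.val : ℤ) : F) * t)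

theorem qzZ_cast (c : I5) : ((qzZ c : ℤ) : F) = qz c := by
  unfold qzZ qz; split_ifs <;> simp

theorem eps_sq_cast (r : Fin chevB2.nroots) : ((eps r.val : ℤ) : F) * ((eps r.val : ℤ) : F) = 1 := by
  rw [← Int.cast_mul, eps_sq]; simp

theorem Eroot_val (r : Fin chevB2.nroots) (t : F) :
    ((Eroot r t : GL I5 F) : Matrix I5 I5 F) = evP (gS r.val) t := by
  unfold Eroot gS
  rw [RG_val, Rm, evP_append, evP_oneS, evP_cons, evP_cons, evP_cons, evP_nil]
  simp only [pow_one, add_zero]
  have h2 : (((eps r.val : ℤ) : F) * t) ^ 2 = t ^ 2 := by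
    rw [mul_pow, pow_two ((eps r.val : ℤ) : F), eps_sq_cast, one_mul]
  rw [h2, sub_eq_add_neg, sub_eq_add_neg, single_neg, single_neg]
  push_cast
  rw [wtZ_cast, qzZ_cast]
  simp only [add_assoc]
  congr 2
  · congr 1; ring
  · congr 1
    · congr 1; ring
    · congr 1; ring

theorem coordF_evP (l : SP) (t : F) (i : Idx) :
    coordF (evP l t) i =
      (l.map fun e => ((cz i e.2.2.1 e.2.2.2 * e.1 : ℤ) : F) * t ^ e.2.1).sum := by
  induction l with
  | nil => simp [evP_nil, coordF_zero]
  | cons e l ih =>
    rw [evP_cons, coordF_add, ih, coordF_single, List.map_cons, List.sum_cons]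
    push_cast
    ring

theorem sum_pow_eq (l : SP) (t : F) (i : Idx) (hl : ∀ e ∈ l, e.2.1 < 5) :
    (l.map fun e => ((cz i e.2.2.1 e.2.2.2 * e.1 : ℤ) : F) * t ^ e.2.1).sum =
      ∑ k ∈ Finset.range 5, ((coordP l i k : ℤ) : F) * t ^ k := by
  induction l with
  | nil => simp [coordP]
  | cons e l ih =>
    have he : e.2.1 < 5 := hl e List.mem_cons_self
    have hl' : ∀ e ∈ l, e.2.1 < 5 := fun e' h => hl e' (List.mem_cons_of_mem _ h)
    rw [List.map_cons, List.sum_cons, ih hl']
    unfold coordP
    simp only [List.map_cons, List.sum_cons, Int.cast_add, add_mul, Finset.sum_add_distrib]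
    congr 1
    rw [Finset.sum_eq_single e.2.1]
    · rw [if_pos rfl]
    · intro k _ hk
      rw [if_neg (Ne.symm hk)]; simp
    · intro h; exact absurd (Finset.mem_range.2 he) h

theorem act_evP (r : Fin chevB2.nroots) (t : F) (j : Idx) :
    act (evP (gS r.val) t) (rep j) = evP (actS r.val j) t := by
  unfold actS act
  rw [evP_mulP, evP_mulP, evP_trP, evP_repP]

theorem Rmat_Eroot_apply (r : Fin chevB2.nroots) (t : F) (i j : Idx) :
    Rmat ((Eroot r t : GL I5 F) : Matrix I5 I5 F) i j =
      ∑ k ∈ Finset.range 5, ((coordP (actS r.val j) i k : ℤ) : F) * t ^ k := by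
  rw [Rmat_apply, Eroot_val, act_evP, coordF_evP, sum_pow_eq _ t i (deg_le r j)]

theorem chain_sum_eq (t : F) (L : List (ℕ × ℤ)) (h : ∀ km ∈ L, km.1 = 1 ∨ km.1 = 2) :
    (L.map fun km => ((km.2 : ℤ) : F) * t ^ km.1).sum =
      ((((L.filter (·.1 = 1)).map (·.2)).sum : ℤ) : F) * t +
        ((((L.filter (·.1 = 2)).map (·.2)).sum : ℤ) : F) * t ^ 2 := by
  induction L with
  | nil => simp
  | cons e L ih =>
    have hL : ∀ km ∈ L, km.1 = 1 ∨ km.1 = 2 := fun km hk => h km (List.mem_cons_of_mem _ hk)
    rw [List.map_cons, List.sum_cons, ih hL]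
    rcases h e List.mem_cons_self with he | he
    · simp only [List.filter_cons, he]
      norm_num
      ring
    · simp only [List.filter_cons, he]
      norm_num
      ring

theorem xMat_eq_xP (r : Fin chevB2.nroots) (t : F) (row col : Idx) :
    chevB2.xMat F r t row col = (((xP r row col).1 : ℤ) : F) + t * (((xP r row col).2.1 : ℤ) : F) +
      t ^ 2 * (((xP r row col).2.2 : ℤ) : F) := by
  unfold ChevalleyDatum.xMat xP
  rcases col with i | s
  · rcases row with i' | u
    · simp only [Matrix.of_apply]
      split_ifs <;> simp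
    · simp only [Matrix.of_apply]
      split_ifs <;> simp [mul_comm]
  · by_cases hsr : s = r
    · rcases row with i' | u
      · simp only [Matrix.of_apply, hsr, if_true]
        simp
      · simp only [Matrix.of_apply, hsr, if_true]
        split_ifs <;> simp
    · by_cases hneg : s.val = chevB2.negIdx.getD r.val 0
      · rcases row with i' | u
        · simp only [Matrix.of_apply, hsr, if_false, hneg, if_true]
          simp [mul_comm]
        · simp only [Matrix.of_apply, hsr, if_false, hneg, if_true]
          split_ifs <;> simp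
      · rcases row with i' | u
        · simp only [Matrix.of_apply, hsr, if_false, hneg]
          simp
        · simp only [Matrix.of_apply, hsr, if_false, hneg]
          rw [chain_sum_eq t _ (chain_exp r s u)]
          split_ifs <;> simp <;> ring

/-- the root elements of `O₅(F)` are represented by the Chevalley matrices -/
theorem Rmat_Eroot (r : Fin chevB2.nroots) (t : F) :
    Rmat ((Eroot r t : GL I5 F) : Matrix I5 I5 F) = chevB2.xMat F r t := by
  ext i j
  rw [Rmat_Eroot_apply, xMat_eq_xP]
  have h := check_all r i j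
  simp only [Prod.mk.injEq] at h
  obtain ⟨h0, h1, h2, h3, h4⟩ := h
  rw [Finset.sum_range_succ, Finset.sum_range_succ, Finset.sum_range_succ, Finset.sum_range_succ,
    Finset.sum_range_one, h0, h1, h2, h3, h4]
  simp only [Int.cast_zero, zero_mul, add_zero, pow_zero, mul_one, pow_one]
  ring

end field

end Cfsg.Agent.Lib.Helper25.B2
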