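import Cfsg.Agent.Lib.Helper25.B2A

set_option autoImplicit false

/-!
# B2D: `Ω₅(F)` is generated by the root elements, for every field `F` with more than two elements
-/

namespace Cfsg.Agent.Lib.Helper25.B2

open Matrix
open scoped commutatorElement

/-- the level of a basis index -/
def lev (c : I5) : ℕ := Sum.elim (fun _ => 2) (Sum.elim Fin.val Fin.val) c

@[simp] theorem lev_op : ∀ c : I5, lev (op c) = lev c := by decide
theorem lev_le : ∀ c : I5, lev c ≤ 2 := by decide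
theorem ne_zz_of_lev : ∀ c : I5, lev c < 2 → c ≠ zz := by decide
theorem eq_zz_of_lev : ∀ c : I5, ¬ lev c < 2 → c = zz := by decide
theorem lev_zz : lev zz = 2 := rfl
theorem eq_or_eq_op_of_lev : ∀ c q : I5, q ≠ zz → lev c = lev q → c = q ∨ c = op q := by decide

section field

variable {F : Type*} [Field F]

theorem ev_ne_zero (c : I5) : (ev c : I5 → F) ≠ 0 := by
  intro h
  have := congrFun h c
  simp at this

theorem mulVec_ne_zero (g : GL I5 F) {x : I5 → F} (hx : x ≠ 0) : g.val *ᵥ x ≠ 0 := by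
  intro h
  apply hx
  have : (g⁻¹).val *ᵥ (g.val *ᵥ x) = x := by
    rw [Matrix.mulVec_mulVec, ← Units.val_mul, inv_mul_cancel, Units.val_one, Matrix.one_mulVec]
  rw [← this, h, Matrix.mulVec_zero]

/-- the stabilizer of the basis vectors of level `< k` -/
def Stab (F : Type*) [Field F] (k : ℕ) : Subgroup (GL I5 F) where
  carrier := {g | ∀ c, lev c < k → g.val *ᵥ (ev c : I5 → F) = ev c}
  mul_mem' {g h} hg hh := by
    intro c hc
    rw [Units.val_mul, ← Matrix.mulVec_mulVec, hh c hc, hg c hc]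
  one_mem' := by
    intro c _
    rw [Units.val_one, Matrix.one_mulVec]
  inv_mem' {g} hg := by
    intro c hc
    have h1 := hg c hc
    have h2 : (g⁻¹).val *ᵥ (g.val *ᵥ (ev c : I5 → F)) = ev c := by
      rw [Matrix.mulVec_mulVec, ← Units.val_mul, inv_mul_cancel, Units.val_one, Matrix.one_mulVec]
    rwa [h1] at h2

theorem mem_Stab {k : ℕ} {g : GL I5 F} :
    g ∈ Stab F k ↔ ∀ c, lev c < k → g.val *ᵥ (ev c : I5 → F) = ev c := Iff.rfl

/-- the basis vectors of level `< k` are eigenvectors -/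
def Sc (k : ℕ) (g : GL I5 F) : Prop := ∀ c, lev c < k → ∃ μ : F, g.val *ᵥ (ev c : I5 → F) = μ • ev c

theorem Sc_zero (g : GL I5 F) : Sc 0 g := fun c hc => absurd hc (Nat.not_lt_zero _)

theorem Sc_mul {k : ℕ} {h g : GL I5 F} (hh : h ∈ Stab F k) (hg : Sc k g) : Sc k (h * g) := by
  intro c hc
  obtain ⟨μ, hμ⟩ := hg c hc
  refine ⟨μ, ?_⟩
  rw [val_mul_mulVec, hμ, Matrix.mulVec_smul, hh c hc]

/-- an isometry with eigenvector `e_{c'}` preserves the vanishing of the `c`-coordinate -/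
theorem coord_of_eig {g : GL I5 F} (hg : g ∈ O5 F) {c : I5} (hcz : c ≠ zz) {μ : F}
    (hc : g.val *ᵥ (ev (op c) : I5 → F) = μ • ev (op c)) (x : I5 → F) (hx : x c = 0) :
    (g.val *ᵥ x) c = 0 := by
  have h1 : bil (g.val *ᵥ x) (g.val *ᵥ (ev (op c) : I5 → F)) = bil x (ev (op c)) := bil_of_O5 hg _ _
  rw [hc, bil_smul_right, bil_ev_right, bil_ev_right, op_op, hx, mul_zero, wt_op, wt_ne hcz, one_mul] at h1
  have hμ : μ ≠ 0 := by
    intro h0
    rw [h0, zero_smul] at hc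
    exact mulVec_ne_zero g (ev_ne_zero (op c)) hc
  exact (mul_eq_zero.1 h1).resolve_left hμ

theorem coord_of_Sc {k : ℕ} {g : GL I5 F} (hg : g ∈ O5 F) (hs : Sc k g) {c : I5} (hc : lev c < k)
    (hk : k ≤ 2) (x : I5 → F) (hx : x c = 0) : (g.val *ᵥ x) c = 0 := by
  obtain ⟨μ, hμ⟩ := hs (op c) (by rwa [lev_op])
  exact coord_of_eig hg (ne_zz_of_lev c (by omega)) hμ x hx

theorem RG_mem_Stab {k : ℕ} (a b : I5) (ha : a ≠ zz) (hab : a ≠ op b) (t : F) (hka : k ≤ lev a)
    (hkb : k ≤ lev b) : RG a b ha hab t ∈ Stab F k := by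
  intro c hc
  funext c'
  rw [RG_mulVec_apply]
  have h1 : (ev c : I5 → F) (op b) = 0 := by
    have : op b ≠ c := fun hh => by
      have := lev_op b; rw [hh] at this; omega
    simp [Pi.single_apply, this]
  have h2 : (ev c : I5 → F) (op a) = 0 := by
    have : op a ≠ c := fun hh => by
      have := lev_op a; rw [hh] at this; omega
    simp [Pi.single_apply, this]
  rw [h1, h2]
  simp

/-- root elements fixing the basis vectors of level `< k` -/
def EF (F : Type*) [Field F] (k : ℕ) : Subgroup (GL I5 F) := E0 F ⊓ Stab F k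

theorem RG_mem_EF {k : ℕ} (a b : I5) (ha : a ≠ zz) (hab : a ≠ op b) (t : F) (hka : k ≤ lev a)
    (hkb : k ≤ lev b) : RG a b ha hab t ∈ EF F k :=
  ⟨RG_mem_E0 a b ha hab t, RG_mem_Stab a b ha hab t hka hkb⟩

theorem EF_le_O5 (k : ℕ) : EF F k ≤ O5 F := inf_le_left.trans E0_le_O5

/-- elimination of the coordinates in `S`, given a pivot coordinate `x q ≠ 0` -/
theorem elim_step (k : ℕ) (q : I5) (hq : lev q = k) (hqz : q ≠ zz) (x : I5 → F) (hx : x q ≠ 0)
    (S : Finset I5) (hS : ∀ b ∈ S, k < lev b) :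
    ∃ h ∈ EF F k, h.val *ᵥ (ev (op q) : I5 → F) = ev (op q) ∧ (h.val *ᵥ x) q = x q ∧
      (∀ b ∈ S, (h.val *ᵥ x) b = 0) ∧ ∀ c, c ∉ S → c ≠ op q → (h.val *ᵥ x) c = x c := by
  classical
  induction S using Finset.induction_on with
  | empty =>
    refine ⟨1, one_mem _, by rw [Units.val_one, Matrix.one_mulVec],
      by rw [Units.val_one, Matrix.one_mulVec], by simp,
      fun c _ _ => by rw [Units.val_one, Matrix.one_mulVec]⟩
  | insert b S hb ih =>
    obtain ⟨h', hh', h1, h2, h3, h4⟩ := ih (fun c hc => hS c (Finset.mem_insert_of_mem hc))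
    have hkb : k < lev b := hS b (Finset.mem_insert_self _ _)
    have hbq : b ≠ q := fun hh => by rw [hh] at hkb; omega
    have hbq' : b ≠ op q := fun hh => by rw [hh, lev_op] at hkb; omega
    have hne : op q ≠ op b := fun hh => hbq (op_injective hh).symm
    have hqq : q ≠ op q := self_ne_op q hqz
    have hoz : op q ≠ zz := op_ne_zz q hqz
    set x' := h'.val *ᵥ x with hx'
    refine ⟨RG (op q) b hoz hne (x' b / x q) * h', ?_, ?_, ?_, ?_, ?_⟩
    · exact mul_mem (RG_mem_EF _ _ _ _ _ (by rw [lev_op]; omega) (by omega)) hh'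
    · rw [val_mul_mulVec, h1]
      funext c
      rw [RG_mulVec_apply]
      have e1' : (ev (op q) : I5 → F) (op b) = 0 := by simp [Pi.single_apply, hne.symm]
      have e2' : (ev (op q) : I5 → F) (op (op q)) = 0 := by
        rw [op_op]; simp [Pi.single_apply, hqq.symm]
      rw [e1', e2']; simp
    · rw [val_mul_mulVec, RG_mulVec_apply, if_neg hqq, if_neg hbq.symm, ← hx', h2]; simp
    · intro c hc
      rw [val_mul_mulVec, RG_mulVec_apply, ← hx', op_op, h2]
      rcases Finset.mem_insert.1 hc with rfl | hc'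
      · rw [if_neg hbq', if_pos rfl]
        field_simp
        ring
      · have hcb : c ≠ b := fun hh => hb (hh ▸ hc')
        have hcq : c ≠ op q := fun hh => by
          have := hS c hc; rw [hh, lev_op] at this; omega
        rw [if_neg hcq, if_neg hcb, h3 c hc']; ring
    · intro c hc hcq
      have hcb : c ≠ b := fun hh => hc (hh ▸ Finset.mem_insert_self _ _)
      have hcS : c ∉ S := fun hh => hc (Finset.mem_insert_of_mem hh)
      rw [val_mul_mulVec, RG_mulVec_apply, if_neg hcq, if_neg hcb, ← hx', h4 c hcS hcq]; ring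

theorem Q5_eq_of_support' : ∀ q : I5, q ≠ zz → ∀ z : I5 → F,
    (∀ c, c ≠ q → c ≠ op q → c ≠ zz → z c = 0) → Q5 F z = z zz ^ 2 + z q * z (op q) := by
  apply I5_forall
  · intro h; exact absurd rfl h
  · intro _ z hz
    rw [Q5_def, hz e2 (by decide) (by decide) (by decide)]
    simp
  · intro _ z hz
    rw [Q5_def, hz e1 (by decide) (by decide) (by decide)]
    simp
  · intro _ z hz
    rw [Q5_def, hz e2 (by decide) (by decide) (by decide)]
    simp [mul_comm]
  · intro _ z hz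
    rw [Q5_def, hz e1 (by decide) (by decide) (by decide)]
    simp [mul_comm]

theorem Q5_eq_of_support (q : I5) (hq : q ≠ zz) (z : I5 → F)
    (hz : ∀ c, c ≠ q → c ≠ op q → z c = 0) : Q5 F z = z q * z (op q) := by
  rw [Q5_eq_of_support' q hq z (fun c h1 h2 _ => hz c h1 h2),
    hz zz (Ne.symm hq) (fun h => op_ne_zz q hq h.symm)]
  ring

/-- a singular vector with pivot `x q ≠ 0`, supported on levels `≥ k`, is moved to a multiple of `e_q` -/
theorem elim_final (k : ℕ) (q : I5) (hq : lev q = k) (hqz : q ≠ zz) (x : I5 → F) (hx : x q ≠ 0)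
    (hQ : Q5 F x = 0) (hlow : ∀ c, lev c < k → x c = 0) :
    ∃ h ∈ EF F k, h.val *ᵥ (ev (op q) : I5 → F) = ev (op q) ∧ h.val *ᵥ x = x q • ev q := by
  classical
  obtain ⟨h, hh, h1, h2, h3, h4⟩ := elim_step k q hq hqz x hx (Finset.univ.filter fun b => k < lev b)
    (fun b hb => (Finset.mem_filter.1 hb).2)
  refine ⟨h, hh, h1, ?_⟩
  set z := h.val *ᵥ x with hz
  have hzsupp : ∀ c, c ≠ q → c ≠ op q → z c = 0 := by
    intro c hcq hcq'
    rcases lt_trichotomy (lev c) k with hlt | heq | hgt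
    · rw [h4 c (fun hh => by have := (Finset.mem_filter.1 hh).2; omega) hcq', hlow c hlt]
    · exfalso
      rcases eq_or_eq_op_of_lev c q hqz (heq.trans hq.symm) with h' | h'
      · exact hcq h'
      · exact hcq' h'
    · exact h3 c (Finset.mem_filter.2 ⟨Finset.mem_univ _, hgt⟩)
  have hQz : Q5 F z = 0 := by
    rw [hz, (mem_O5_iff h).1 (EF_le_O5 k hh), hQ]
  rw [Q5_eq_of_support q hqz z hzsupp, h2] at hQz
  have hz' : z (op q) = 0 := (mul_eq_zero.1 hQz).resolve_left hx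
  funext c
  by_cases hcq : c = q
  · rw [hcq, h2]; simp
  by_cases hcq' : c = op q
  · rw [hcq', hz']; simp [Pi.single_apply, op_ne_self q hqz]
  · rw [hzsupp c hcq hcq']; simp [Pi.single_apply, hcq]

/-- make the pivot coordinate nonzero -/
theorem get_pivot (k : ℕ) (hk : k ≤ 1) (p : I5) (hp : lev p = k) (hpz : p ≠ zz) (x : I5 → F)
    (hx0 : x ≠ 0) (hQ : Q5 F x = 0) (hlow : ∀ c, lev c < k → x c = 0) :
    ∃ h ∈ EF F k, (h.val *ᵥ x) p ≠ 0 := by
  by_cases hxp : x p ≠ 0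
  · exact ⟨1, one_mem _, by rwa [Units.val_one, Matrix.one_mulVec]⟩
  push_neg at hxp
  by_cases hex : ∃ c, k < lev c ∧ c ≠ zz ∧ x c ≠ 0
  · obtain ⟨c, hc, hcz, hxc⟩ := hex
    have hne : p ≠ op (op c) := by
      rw [op_op]; intro hh; rw [hh] at hp; omega
    have hpc' : p ≠ op c := fun hh => by rw [hh, lev_op] at hp; omega
    refine ⟨RG p (op c) hpz hne 1, RG_mem_EF _ _ _ _ _ (by omega) (by rw [lev_op]; omega), ?_⟩
    rw [RG_mulVec_apply, if_pos rfl, if_neg hpc', op_op, hxp, wt_op, qz_op, wt_ne hcz, qz_ne hcz]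
    simpa using hxc
  · push_neg at hex
    have hsupp : ∀ c, c ≠ p → c ≠ op p → c ≠ zz → x c = 0 := by
      intro c h1 h2 h3
      rcases lt_trichotomy (lev c) k with hlt | heq | hgt
      · exact hlow c hlt
      · exfalso
        rcases eq_or_eq_op_of_lev c p hpz (heq.trans hp.symm) with h' | h'
        · exact h1 h'
        · exact h2 h'
      · exact hex c hgt h3
    have hQ' := Q5_eq_of_support' p hpz x hsupp
    rw [hQ, hxp, zero_mul, add_zero] at hQ'
    have hxz : x zz = 0 := pow_eq_zero_iff (two_ne_zero) |>.1 hQ'.symm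
    have hxp' : x (op p) ≠ 0 := by
      intro hxp'
      apply hx0
      funext c
      by_cases h1 : c = p
      · rw [h1]; exact hxp
      by_cases h2 : c = op p
      · rw [h2]; exact hxp'
      by_cases h3 : c = zz
      · rw [h3]; exact hxz
      · exact hsupp c h1 h2 h3
    have hne : p ≠ op zz := by rw [op_zz]; exact hpz
    refine ⟨RG p zz hpz hne 1, RG_mem_EF _ _ _ _ _ (by omega) (by rw [lev_zz]; omega), ?_⟩
    rw [RG_mulVec_apply, if_pos rfl, if_neg hpz, op_zz, hxz, hxp]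
    simpa using hxp'

theorem bil_ev_ev_op {p : I5} (hp : p ≠ zz) : bil (ev p : I5 → F) (ev (op p)) = 1 := by
  rw [bil_ev_right, op_op, wt_op, wt_ne hp]; simp

theorem Q5_ev_one {c : I5} (hc : c ≠ zz) : Q5 F (ev c) = 0 := Q5_ev_ne hc

/-- one step of the reduction: one more hyperbolic pair of eigenvectors -/
theorem reduce_step (k : ℕ) (hk : k ≤ 1) (g : GL I5 F) (hg : g ∈ O5 F) (hs : Sc k g) :
    ∃ h ∈ EF F k, Sc (k + 1) (h * g) := by
  set p : I5 := Sum.inr (Sum.inl ⟨k, by omega⟩) with hpdef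
  have hp : lev p = k := rfl
  have hpz : p ≠ zz := by rw [hpdef]; intro h; cases h
  have hopz : op p ≠ zz := op_ne_zz p hpz
  have lowvec : ∀ (g' : GL I5 F), g' ∈ O5 F → Sc k g' → ∀ q : I5, lev q = k → ∀ c, lev c < k →
      (g'.val *ᵥ (ev q : I5 → F)) c = 0 := by
    intro g' hg' hs' q hq c hc
    apply coord_of_Sc hg' hs' hc (by omega)
    have : c ≠ q := fun hh => by rw [hh] at hc; omega
    simp [Pi.single_apply, this]
  -- step 0: pivot
  obtain ⟨h0, hh0, hpiv⟩ := get_pivot k hk p hp hpz (g.val *ᵥ ev p) (mulVec_ne_zero g (ev_ne_zero p))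
    (by rw [(mem_O5_iff g).1 hg, Q5_ev_one hpz]) (lowvec g hg hs p hp)
  set g1 := h0 * g with hg1
  have hg1O : g1 ∈ O5 F := mul_mem (EF_le_O5 k hh0) hg
  have hg1S : Sc k g1 := Sc_mul hh0.2 hs
  have hx1 : g1.val *ᵥ (ev p : I5 → F) = h0.val *ᵥ (g.val *ᵥ ev p) := by rw [hg1, val_mul_mulVec]
  -- step 1: move `g1 e_p` to a multiple of `e_p`
  obtain ⟨hA, hhA, -, hAx⟩ := elim_final k p hp hpz (g1.val *ᵥ ev p) (by rw [hx1]; exact hpiv)
    (by rw [(mem_O5_iff g1).1 hg1O, Q5_ev_one hpz]) (lowvec g1 hg1O hg1S p hp)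
  set lam := (g1.val *ᵥ (ev p : I5 → F)) p with hlam
  set g2 := hA * g1 with hg2
  have hg2O : g2 ∈ O5 F := mul_mem (EF_le_O5 k hhA) hg1O
  have hg2S : Sc k g2 := Sc_mul hhA.2 hg1S
  have hg2p : g2.val *ᵥ (ev p : I5 → F) = lam • ev p := by rw [hg2, val_mul_mulVec, hAx]
  -- step 2: move `g2 e_{p'}` to a multiple of `e_{p'}` fixing `e_p`
  have hy1 : (g2.val *ᵥ (ev (op p) : I5 → F)) (op p) ≠ 0 := by
    intro h0'
    have h1 : bil (g2.val *ᵥ (ev p : I5 → F)) (g2.val *ᵥ (ev (op p) : I5 → F)) = 1 := by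
      rw [bil_of_O5 hg2O, bil_ev_ev_op hpz]
    rw [hg2p, bil_smul_left, bil_ev_left, h0', mul_zero, mul_zero] at h1
    exact zero_ne_one h1
  obtain ⟨hB, hhB, hBp, hBy⟩ := elim_final k (op p) (by rw [lev_op]; exact hp) hopz
    (g2.val *ᵥ ev (op p)) hy1
    (by rw [(mem_O5_iff g2).1 hg2O, Q5_ev_one hopz])
    (lowvec g2 hg2O hg2S (op p) (by rw [lev_op]; exact hp))
  rw [op_op] at hBp
  refine ⟨hB * hA * h0, mul_mem (mul_mem hhB hhA) hh0, ?_⟩
  have e : hB * hA * h0 * g = hB * g2 := by rw [hg2, hg1]; group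
  rw [e]
  intro c hc
  rcases Nat.lt_succ_iff_lt_or_eq.1 hc with hlt | heq
  · exact Sc_mul hhB.2 hg2S c hlt
  · rcases eq_or_eq_op_of_lev c p hpz (heq.trans hp.symm) with h' | h'
    · refine ⟨lam, ?_⟩
      rw [h', val_mul_mulVec, hg2p, Matrix.mulVec_smul, hBp]
    · refine ⟨(g2.val *ᵥ (ev (op p) : I5 → F)) (op p), ?_⟩
      rw [h', val_mul_mulVec, hBy]

/-- diagonal matrices -/
def IsDiag (d : GL I5 F) : Prop := ∀ c, ∃ μ : F, d.val *ᵥ (ev c : I5 → F) = μ • ev c

/-- every isometry is a root-element product times a diagonal isometry -/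
theorem exists_E0_mul_diag (g : GL I5 F) (hg : g ∈ O5 F) : ∃ h ∈ E0 F, IsDiag (h * g) := by
  obtain ⟨h0, hh0, hs0⟩ := reduce_step 0 (by omega) g hg (Sc_zero g)
  obtain ⟨h1, hh1, hs1⟩ := reduce_step 1 (by omega) (h0 * g) (mul_mem (EF_le_O5 0 hh0) hg) hs0
  refine ⟨h1 * h0, mul_mem hh1.1 hh0.1, ?_⟩
  have e : h1 * h0 * g = h1 * (h0 * g) := by group
  rw [e]
  have hO : h1 * (h0 * g) ∈ O5 F := mul_mem (EF_le_O5 1 hh1) (mul_mem (EF_le_O5 0 hh0) hg)
  intro c
  by_cases hc : lev c < 2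
  · exact hs1 c hc
  · have hcz := eq_zz_of_lev c hc
    subst hcz
    refine ⟨((h1 * (h0 * g)).val *ᵥ (ev zz : I5 → F)) zz, ?_⟩
    funext c'
    by_cases hc' : c' = zz
    · subst hc'; simp
    · have hl : lev c' < 2 := by
        by_contra hh; exact hc' (eq_zz_of_lev c' hh)
      rw [coord_of_Sc hO hs1 hl le_rfl _ (by simp [Pi.single_apply, hc'])]
      simp [Pi.single_apply, hc']

/-- conjugation of root elements by diagonal isometries -/
theorem diag_mul_RG {d : GL I5 F} (hd : d ∈ O5 F) (hdd : IsDiag d) (a b : I5) (ha : a ≠ zz)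
    (hab : a ≠ op b) (t : F) : ∃ s : F, d * RG a b ha hab t = RG a b ha hab s * d := by
  obtain ⟨μa, hμa⟩ := hdd a
  obtain ⟨μb, hμb⟩ := hdd b
  refine ⟨μa * (t * μb), ?_⟩
  apply GL_ext_mulVec
  intro x
  rw [val_mul_mulVec, val_mul_mulVec, RG_mulVec, RG_mulVec, Tf_conj hd, hμa, Matrix.mulVec_smul, hμb,
    Tf_smul_left, smul_smul, smul_smul, mul_assoc]

theorem diag_conj_RG {d : GL I5 F} (hd : d ∈ O5 F) (hdd : IsDiag d) (a b : I5) (ha : a ≠ zz)
    (hab : a ≠ op b) (t : F) : d * RG a b ha hab t * d⁻¹ ∈ E0 F := by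
  obtain ⟨s, hs⟩ := diag_mul_RG hd hdd a b ha hab t
  rw [hs, mul_inv_cancel_right]
  exact RG_mem_E0 _ _ _ _ _

/-- the isometry group normalizes the root subgroup -/
theorem O5_le_normalizer : O5 F ≤ Subgroup.normalizer (E0 F : Set (GL I5 F)) := by
  unfold E0
  rw [Subgroup.le_normalizer_closure_iff]
  rintro g hg e ⟨a, b, ha, hab, t, rfl⟩
  obtain ⟨h0, hh0, hd⟩ := exists_E0_mul_diag g hg
  have hdO : h0 * g ∈ O5 F := mul_mem (E0_le_O5 hh0) hg
  have e1 : g * RG a b ha hab t * g⁻¹ =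
      h0⁻¹ * ((h0 * g) * RG a b ha hab t * (h0 * g)⁻¹) * h0 := by group
  rw [e1]
  exact mul_mem (mul_mem (inv_mem hh0) (diag_conj_RG hdO hd a b ha hab t)) hh0

theorem diag_comm {d1 d2 : GL I5 F} (h1 : IsDiag d1) (h2 : IsDiag d2) : d1 * d2 = d2 * d1 := by
  apply Units.ext
  apply Matrix.ext_of_mulVec_single
  intro c
  obtain ⟨μ, hμ⟩ := h1 c
  obtain ⟨ν, hν⟩ := h2 c
  rw [Units.val_mul, Units.val_mul, ← Matrix.mulVec_mulVec, ← Matrix.mulVec_mulVec, hν, hμ,
    Matrix.mulVec_smul, Matrix.mulVec_smul, hμ, hν, smul_smul, smul_smul, mul_comm]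

/-- the quotient of the isometry group by the root subgroup is abelian -/
theorem comm_mem_E0 {g1 g2 : GL I5 F} (h1 : g1 ∈ O5 F) (h2 : g2 ∈ O5 F) : ⁅g1, g2⁆ ∈ E0 F := by
  have hEK : E0 F ≤ Subgroup.normalizer (E0 F : Set (GL I5 F)) := Subgroup.le_normalizer
  let N : Subgroup ↥(Subgroup.normalizer (E0 F : Set (GL I5 F))) :=
    (E0 F).subgroupOf (Subgroup.normalizer (E0 F : Set (GL I5 F)))
  haveI : N.Normal := Subgroup.normal_in_normalizer
  let π : ↥(Subgroup.normalizer (E0 F : Set (GL I5 F))) →* _ ⧸ N := QuotientGroup.mk' N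
  have key : ∀ g : GL I5 F, ∀ hg : g ∈ O5 F, ∃ d : GL I5 F, ∃ hd : d ∈ O5 F, IsDiag d ∧
      π ⟨g, O5_le_normalizer hg⟩ = π ⟨d, O5_le_normalizer hd⟩ := by
    intro g hg
    obtain ⟨h0, hh0, hd⟩ := exists_E0_mul_diag g hg
    have hdO : h0 * g ∈ O5 F := mul_mem (E0_le_O5 hh0) hg
    refine ⟨h0 * g, hdO, hd, ?_⟩
    have h01 : π ⟨h0, hEK hh0⟩ = 1 := (QuotientGroup.eq_one_iff _).2 hh0
    have : (⟨h0 * g, O5_le_normalizer hdO⟩ :
        ↥(Subgroup.normalizer (E0 F : Set (GL I5 F)))) = ⟨h0, hEK hh0⟩ * ⟨g, O5_le_normalizer hg⟩ := rfl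
    rw [this, map_mul, h01, one_mul]
  obtain ⟨d1, hd1, hdd1, ha⟩ := key g1 h1
  obtain ⟨d2, hd2, hdd2, hb⟩ := key g2 h2
  have hcomm : Commute (π ⟨g1, O5_le_normalizer h1⟩) (π ⟨g2, O5_le_normalizer h2⟩) := by
    rw [ha, hb]
    show π _ * π _ = π _ * π _
    rw [← map_mul, ← map_mul]
    congr 1
    exact Subtype.ext (diag_comm hdd1 hdd2)
  have h3 : π ⁅(⟨g1, O5_le_normalizer h1⟩ : ↥(Subgroup.normalizer (E0 F : Set (GL I5 F)))),
      ⟨g2, O5_le_normalizer h2⟩⁆ = 1 := by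
    rw [map_commutatorElement]
    exact commutatorElement_eq_one_iff_commute.2 hcomm
  have h4 : ⁅(⟨g1, O5_le_normalizer h1⟩ : ↥(Subgroup.normalizer (E0 F : Set (GL I5 F)))),
      ⟨g2, O5_le_normalizer h2⟩⁆ ∈ N := (QuotientGroup.eq_one_iff _).1 h3
  exact h4

theorem Om5_le_E0 : Om5 F ≤ E0 F := by
  unfold Om5
  rw [Subgroup.map_le_iff_le_comap]
  show commutator ↥(O5 F) ≤ _
  rw [commutator_def, Subgroup.commutator_le]
  intro g1 _ g2 _
  show (⁅g1, g2⁆ : ↥(O5 F)).val ∈ E0 F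
  exact comm_mem_E0 g1.2 g2.2

/-- diagonal elements -/
def diagU (μ : I5 → Fˣ) : GL I5 F where
  val := diagonal fun c => (μ c : F)
  inv := diagonal fun c => (((μ c)⁻¹ : Fˣ) : F)
  val_inv := by
    rw [diagonal_mul_diagonal]
    simp
  inv_val := by
    rw [diagonal_mul_diagonal]
    simp

theorem diagU_mulVec (μ : I5 → Fˣ) (x : I5 → F) (c : I5) : ((diagU μ).val *ᵥ x) c = μ c * x c :=
  mulVec_diagonal _ _ _

theorem diagU_ev (μ : I5 → Fˣ) (c : I5) : (diagU μ).val *ᵥ (ev c : I5 → F) = (μ c : F) • ev c := by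
  funext c'
  rw [diagU_mulVec]
  by_cases h : c' = c
  · subst h; simp
  · simp [Pi.single_apply, h]

theorem diagU_isDiag (μ : I5 → Fˣ) : IsDiag (diagU μ) := fun c => ⟨_, diagU_ev μ c⟩

/-- the one-parameter torus attached to a hyperbolic pair -/
def muT (a : I5) (α : Fˣ) : I5 → Fˣ := fun c => if c = a then α else if c = op a then α⁻¹ else 1

theorem diagU_muT_mem_O5 (a : I5) (ha : a ≠ zz) (α : Fˣ) : diagU (muT a α) ∈ O5 F := by
  rw [mem_O5_iff]
  intro x
  have hα : (α : F) ≠ 0 := Units.ne_zero _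
  rw [Q5_def, Q5_def]
  simp only [diagU_mulVec]
  revert ha
  revert a
  apply I5_forall
  · intro h; exact absurd rfl h
  all_goals
    intro _
    simp only [muT, op_e1, op_e2, op_f1, op_f2]
    simp only [show (zz : I5) ≠ e1 by decide, show (zz : I5) ≠ e2 by decide, show (zz : I5) ≠ f1 by decide,
      show (zz : I5) ≠ f2 by decide, show (e1 : I5) ≠ e2 by decide, show (e1 : I5) ≠ f1 by decide,
      show (e1 : I5) ≠ f2 by decide, show (e2 : I5) ≠ e1 by decide, show (e2 : I5) ≠ f1 by decide,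
      show (e2 : I5) ≠ f2 by decide, show (f1 : I5) ≠ e1 by decide, show (f1 : I5) ≠ e2 by decide,
      show (f1 : I5) ≠ f2 by decide, show (f2 : I5) ≠ e1 by decide, show (f2 : I5) ≠ e2 by decide,
      show (f2 : I5) ≠ f1 by decide, if_true, if_false, Units.val_one, Units.val_inv_eq_inv_val]
    field_simp

theorem RG_self (a : I5) (ha : a ≠ zz) (haa : a ≠ op a) (t : F) : RG a a ha haa t = 1 := by
  apply Units.ext
  rw [RG_val, Rm, wt_ne ha, qz_ne ha]
  simp

/-- root elements are commutators, over a field with more than two elements -/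
theorem RG_mem_Om5 (hF : ∃ l : F, l ≠ 0 ∧ l ≠ 1) (a b : I5) (ha : a ≠ zz) (hab : a ≠ op b) (t : F) :
    RG a b ha hab t ∈ Om5 F := by
  by_cases hba : b = a
  · subst hba
    rw [RG_self]
    exact one_mem _
  obtain ⟨l, hl0, hl1⟩ := hF
  set α : Fˣ := Units.mk0 l hl0 with hα
  set d := diagU (muT a α) with hd
  have hdO : d ∈ O5 F := diagU_muT_mem_O5 a ha α
  have hl1' : l - 1 ≠ 0 := sub_ne_zero.2 hl1
  -- conjugation scales the parameter by `l`
  have hconj : ∀ s : F, d * RG a b ha hab s = RG a b ha hab (l * s) * d := by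
    intro s
    apply GL_ext_mulVec
    intro x
    have hda : d.val *ᵥ (ev a : I5 → F) = l • ev a := by
      rw [hd, diagU_ev]
      simp [muT, hα]
    have hdb : d.val *ᵥ (ev b : I5 → F) = ev b := by
      rw [hd, diagU_ev]
      have h2 : b ≠ op a := fun hh => hab (by rw [hh, op_op])
      simp [muT, hba, h2]
    rw [val_mul_mulVec, val_mul_mulVec, RG_mulVec, RG_mulVec, Tf_conj hdO, hda, Matrix.mulVec_smul, hdb,
      Tf_smul_left, smul_smul]
  have key : RG a b ha hab t =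
      d * RG a b ha hab (t / (l - 1)) * d⁻¹ * (RG a b ha hab (t / (l - 1)))⁻¹ := by
    rw [hconj, mul_inv_cancel_right, RG_inv, ← RG_add]
    congr 1
    field_simp
    ring
  rw [key]
  exact comm_mem_Om5 hdO (RG_mem_O5 _ _ _ _ _)

theorem E0_le_Om5 (hF : ∃ l : F, l ≠ 0 ∧ l ≠ 1) : E0 F ≤ Om5 F := by
  unfold E0
  rw [Subgroup.closure_le]
  rintro g ⟨a, b, ha, hab, t, rfl⟩
  exact RG_mem_Om5 hF a b ha hab t

/-- `Ω₅(F)` is generated by the root elements -/
theorem Om5_eq_E0 (hF : ∃ l : F, l ≠ 0 ∧ l ≠ 1) : Om5 F = E0 F :=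
  le_antisymm Om5_le_E0 (E0_le_Om5 hF)

end field

end Cfsg.Agent.Lib.Helper25.B2
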