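import Mathlib

/-!
# Filtrations of matrices by a real weight function (helper25)

For a weight function `w : ι → ℝ` on the index set, `RF w t M` says that the matrix `M` raises the
weight by at least `t`: a non-zero entry `M b a` forces `w a + t ≤ w b`.  Everything here is entrywise,
so the "concavity" `RF w₁ t₁ M → RF w₂ t₂ M → RF (w₁ + w₂) (t₁ + t₂) M` is trivial.  This is the
linear-algebra backbone of the Kempf–Rousseau style proof of the Borel–Tits theorem (S2154).
-/

set_option autoImplicit false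

namespace Cfsg.Agent.Lib.Helper25.BT

open Matrix

variable {ι : Type*} [Fintype ι] [DecidableEq ι] {F : Type*} [Field F]

/-- `M` raises the `w`-weight by at least `t`. -/
def RF (w : ι → ℝ) (t : ℝ) (M : Matrix ι ι F) : Prop := ∀ b a, M b a ≠ 0 → w a + t ≤ w b

theorem RF.zero (w : ι → ℝ) (t : ℝ) : RF w t (0 : Matrix ι ι F) := fun _ _ h => absurd rfl h

theorem RF.one (w : ι → ℝ) : RF w 0 (1 : Matrix ι ι F) := by
  intro b a h
  rw [Matrix.one_apply] at h
  by_cases hba : b = a
  · rw [hba, add_zero]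
  · rw [if_neg hba] at h; exact absurd rfl h

theorem RF.mono {w : ι → ℝ} {t t' : ℝ} {M : Matrix ι ι F} (h : RF w t M) (htt : t' ≤ t) : RF w t' M :=
  fun b a hba => by have := h b a hba; linarith

theorem RF.add {w : ι → ℝ} {t : ℝ} {M M' : Matrix ι ι F} (h : RF w t M) (h' : RF w t M') :
    RF w t (M + M') := by
  intro b a hba
  rw [Matrix.add_apply] at hba
  by_cases h1 : M b a = 0
  · rw [h1, zero_add] at hba; exact h' b a hba
  · exact h b a h1

theorem RF.neg {w : ι → ℝ} {t : ℝ} {M : Matrix ι ι F} (h : RF w t M) : RF w t (-M) := by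
  intro b a hba
  rw [Matrix.neg_apply, neg_ne_zero] at hba
  exact h b a hba

theorem RF.sub {w : ι → ℝ} {t : ℝ} {M M' : Matrix ι ι F} (h : RF w t M) (h' : RF w t M') :
    RF w t (M - M') := by
  rw [sub_eq_add_neg]; exact h.add h'.neg

theorem RF.mul {w : ι → ℝ} {s t : ℝ} {M M' : Matrix ι ι F} (h : RF w s M) (h' : RF w t M') :
    RF w (s + t) (M * M') := by
  intro b a hba
  rw [Matrix.mul_apply] at hba
  obtain ⟨c, -, hc⟩ := Finset.exists_ne_zero_of_sum_ne_zero hba
  have h1 := h b c (left_ne_zero_of_mul hc)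
  have h2 := h' c a (right_ne_zero_of_mul hc)
  linarith

/-- concavity -/
theorem RF.add_weight {w w' : ι → ℝ} {t t' : ℝ} {M : Matrix ι ι F} (h : RF w t M) (h' : RF w' t' M) :
    RF (fun i => w i + w' i) (t + t') M := by
  intro b a hba
  have h1 := h b a hba
  have h2 := h' b a hba
  show w a + w' a + (t + t') ≤ w b + w' b
  linarith

theorem RF.smul_weight {w : ι → ℝ} {t : ℝ} {M : Matrix ι ι F} (h : RF w t M) {c : ℝ} (hc : 0 ≤ c) :
    RF (fun i => c * w i) (c * t) M := by
  intro b a hba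
  have h1 := h b a hba
  show c * w a + c * t ≤ c * w b
  nlinarith

/-- `M` is unipotent of depth `t`: `M - 1` raises the weight by at least `t`. -/
def UF (w : ι → ℝ) (t : ℝ) (M : Matrix ι ι F) : Prop := RF w t (M - 1)

theorem UF.one (w : ι → ℝ) (t : ℝ) : UF w t (1 : Matrix ι ι F) := by
  unfold UF; rw [sub_self]; exact RF.zero w t

theorem UF.mul {w : ι → ℝ} {t : ℝ} (ht : 0 ≤ t) {M M' : Matrix ι ι F} (h : UF w t M) (h' : UF w t M') :
    UF w t (M * M') := by
  unfold UF at *
  have e : M * M' - 1 = (M - 1) * (M' - 1) + (M - 1) + (M' - 1) := by noncomm_ring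
  rw [e]
  exact (((h.mul h').mono (by linarith)).add h).add h'

/-- a matrix of depth `t ≥ 0` is weight-nondecreasing -/
theorem UF.toRF {w : ι → ℝ} {t : ℝ} (ht : 0 ≤ t) {M : Matrix ι ι F} (h : UF w t M) : RF w 0 M := by
  have e : M = (M - 1) + 1 := by abel
  rw [e]
  exact (h.mono ht).add (RF.one w)

theorem UF.mono {w : ι → ℝ} {t t' : ℝ} {M : Matrix ι ι F} (h : UF w t M) (htt : t' ≤ t) : UF w t' M :=
  RF.mono h htt

/-- conjugation by weight-nondecreasing matrices preserves the depth -/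
theorem UF.conj {w : ι → ℝ} {t : ℝ} {M p p' : Matrix ι ι F} (h : UF w t M) (hp : RF w 0 p)
    (hp' : RF w 0 p') (hpp : p * p' = 1) : UF w t (p * M * p') := by
  unfold UF at *
  have e : p * M * p' - 1 = p * (M - 1) * p' := by
    rw [Matrix.mul_sub, Matrix.sub_mul, Matrix.mul_one, hpp]
  rw [e]
  have := (hp.mul h).mul hp'
  simpa using this

theorem UF.add_weight {w w' : ι → ℝ} {t t' : ℝ} {M : Matrix ι ι F} (h : UF w t M) (h' : UF w' t' M) :
    UF (fun i => w i + w' i) (t + t') M := RF.add_weight h h'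

theorem UF.smul_weight {w : ι → ℝ} {t : ℝ} {M : Matrix ι ι F} (h : UF w t M) {c : ℝ} (hc : 0 ≤ c) :
    UF (fun i => c * w i) (c * t) M := RF.smul_weight h hc

/-- the midpoint of two gradings of depth `1` has depth `1` -/
theorem UF.midpoint {w w' : ι → ℝ} {M : Matrix ι ι F} (h : UF w 1 M) (h' : UF w' 1 M) :
    UF (fun i => (w i + w' i) / 2) 1 M := by
  have h1 := (h.add_weight h').smul_weight (c := 1 / 2) (by norm_num)
  have e : (fun i => 1 / 2 * (w i + w' i)) = fun i => (w i + w' i) / 2 := by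
    funext i; ring
  rw [e] at h1
  have e2 : (1 / 2 : ℝ) * (1 + 1) = 1 := by norm_num
  rw [e2] at h1
  exact h1

/-- `M` preserves the weight. -/
def BF (w : ι → ℝ) (M : Matrix ι ι F) : Prop := ∀ b a, M b a ≠ 0 → w b = w a

theorem BF.toRF {w : ι → ℝ} {M : Matrix ι ι F} (h : BF w M) : RF w 0 M :=
  fun b a hba => by rw [h b a hba, add_zero]

theorem BF.one (w : ι → ℝ) : BF w (1 : Matrix ι ι F) := by
  intro b a h
  rw [Matrix.one_apply] at h
  by_cases hba : b = a
  · rw [hba]
  · rw [if_neg hba] at h; exact absurd rfl h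

theorem BF.mul {w : ι → ℝ} {M M' : Matrix ι ι F} (h : BF w M) (h' : BF w M') : BF w (M * M') := by
  intro b a hba
  rw [Matrix.mul_apply] at hba
  obtain ⟨c, -, hc⟩ := Finset.exists_ne_zero_of_sum_ne_zero hba
  rw [h b c (left_ne_zero_of_mul hc), h' c a (right_ne_zero_of_mul hc)]

/-- a weight-preserving matrix which is unipotent of positive depth is the identity -/
theorem eq_one_of_BF_of_UF {w : ι → ℝ} {t : ℝ} (ht : 0 < t) {M : Matrix ι ι F} (h : BF w M)
    (h' : UF w t M) : M = 1 := by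
  ext b a
  by_contra hne
  have h1 : (M - 1) b a ≠ 0 := by
    rw [Matrix.sub_apply]; exact sub_ne_zero.mpr hne
  have h2 := h' b a h1
  by_cases hba : b = a
  · rw [hba] at h2; linarith
  · have h3 : M b a ≠ 0 := by
      rw [Matrix.one_apply, if_neg hba] at hne; exact hne
    have := h b a h3
    linarith

/-- transport of a filtration along a "graded isomorphism": `n` carries `w` to `w'` and `n'` carries
`w'` back to `w`. -/
theorem RF.transport {w w' : ι → ℝ} {t : ℝ} {M n n' : Matrix ι ι F} (h : RF w t M)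
    (hn : ∀ b a, n b a ≠ 0 → w' b = w a) (hn' : ∀ b a, n' b a ≠ 0 → w b = w' a) :
    RF w' t (n * M * n') := by
  intro b a hba
  rw [Matrix.mul_apply] at hba
  obtain ⟨c, -, hc⟩ := Finset.exists_ne_zero_of_sum_ne_zero hba
  have h1 := left_ne_zero_of_mul hc
  have h2 := hn' c a (right_ne_zero_of_mul hc)
  rw [Matrix.mul_apply] at h1
  obtain ⟨e, -, he⟩ := Finset.exists_ne_zero_of_sum_ne_zero h1
  have h3 := hn b e (left_ne_zero_of_mul he)
  have h4 := h e c (right_ne_zero_of_mul he)
  rw [h3, ← h2]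
  exact h4

theorem UF.transport {w w' : ι → ℝ} {t : ℝ} {M n n' : Matrix ι ι F} (h : UF w t M)
    (hn : ∀ b a, n b a ≠ 0 → w' b = w a) (hn' : ∀ b a, n' b a ≠ 0 → w b = w' a)
    (hnn : n * n' = 1) : UF w' t (n * M * n') := by
  unfold UF at *
  have e : n * M * n' - 1 = n * (M - 1) * n' := by
    rw [Matrix.mul_sub, Matrix.sub_mul, Matrix.mul_one, hnn]
  rw [e]
  exact RF.transport h hn hn'

/-- the squared Euclidean norm of a real vector -/
def nsq {κ : Type*} [Fintype κ] (d : κ → ℝ) : ℝ := ∑ i, d i ^ 2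

theorem nsq_nonneg {κ : Type*} [Fintype κ] (d : κ → ℝ) : 0 ≤ nsq d :=
  Finset.sum_nonneg fun i _ => sq_nonneg (d i)

theorem nsq_eq_zero {κ : Type*} [Fintype κ] {d : κ → ℝ} (h : nsq d = 0) : d = 0 := by
  funext i
  have := (Finset.sum_eq_zero_iff_of_nonneg (fun i _ => sq_nonneg (d i))).mp h i (Finset.mem_univ i)
  exact pow_eq_zero_iff (two_ne_zero) |>.mp this

/-- parallelogram identity -/
theorem nsq_midpoint {κ : Type*} [Fintype κ] (d d' : κ → ℝ) :
    nsq (fun i => (d i + d' i) / 2) = (nsq d + nsq d') / 2 - nsq (fun i => (d i - d' i) / 2) := by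
  unfold nsq
  rw [← Finset.sum_add_distrib, Finset.sum_div, ← Finset.sum_sub_distrib]
  apply Finset.sum_congr rfl
  intro i _
  ring

/-- strict convexity: two vectors of the same norm whose midpoint is not shorter are equal -/
theorem eq_of_nsq_midpoint_ge {κ : Type*} [Fintype κ] {d d' : κ → ℝ} (h : nsq d' = nsq d)
    (hm : nsq d ≤ nsq (fun i => (d i + d' i) / 2)) : d' = d := by
  rw [nsq_midpoint, h] at hm
  have h0 : nsq (fun i => (d i - d' i) / 2) = 0 :=
    le_antisymm (by linarith) (nsq_nonneg _)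
  have := nsq_eq_zero h0
  funext i
  have hi := congrFun this i
  simp only [Pi.zero_apply] at hi
  linarith

theorem nsq_comp_equiv {κ : Type*} [Fintype κ] (d : κ → ℝ) (σ : κ ≃ κ) : nsq (d ∘ σ) = nsq d := by
  unfold nsq
  exact Fintype.sum_equiv σ _ _ (fun _ => rfl)

theorem sq_le_nsq {κ : Type*} [Fintype κ] (d : κ → ℝ) (i : κ) : d i ^ 2 ≤ nsq d :=
  Finset.single_le_sum (f := fun i => d i ^ 2) (fun i _ => sq_nonneg (d i)) (Finset.mem_univ i)

end Cfsg.Agent.Lib.Helper25.BT
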