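import Cfsg.Agent.Lib.Helper25.BTa
import Cfsg.Agent.Lib.Helper7.ChevGrade
import Cfsg.Agent.Lib.Helper7.ChevHxAll
import Cfsg.Agent.Lib.Helper7.ChevH

/-!
# Real gradings of the adjoint module of a Chevalley group (helper25)

A real-valued function `A` on the roots which is additive along chains (`ChainAddR`) grades the
adjoint module; `x_r(t) - 1` raises the degree by at least `A r` when `A r ≥ 0`, and `x_r(t)` preserves
the degree when `A r = 0`.  The gradings `gr D lam` attached to real coweights `lam` are additive.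
-/

set_option autoImplicit false

namespace Cfsg.Agent.Lib.Helper25.BT

open Cfsg Cfsg.Lie Matrix Cfsg.Agent.Lib.Helper7

/-- a real-valued function additive along chains -/
structure ChainAddR (D : ChevalleyDatum) (A : ℕ → ℝ) : Prop where
  negA : ∀ s < D.nroots, D.neg s < D.nroots → A (D.neg s) = - A s
  addA : ∀ s < D.nroots, ∀ v < D.nroots, ∀ x ∈ ccAll D s v, x.1 < D.nroots →
    A x.1 = A v + (x.2.1 : ℝ) * A s

/-- the weight of a basis vector: `0` on the Cartan part, `A r` on the root vector `e_r` -/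
def wt (D : ChevalleyDatum) (A : ℕ → ℝ) : D.Idx → ℝ :=
  Sum.elim (fun _ => 0) (fun u => A u.val)

@[simp] theorem wt_inl (D : ChevalleyDatum) (A : ℕ → ℝ) (i : Fin D.rank) : wt D A (Sum.inl i) = 0 := rfl
@[simp] theorem wt_inr (D : ChevalleyDatum) (A : ℕ → ℝ) (u : Fin D.nroots) :
    wt D A (Sum.inr u) = A u.val := rfl

/-- the grading attached to a real coweight (in coordinates on the fundamental coroots) -/
def gr (D : ChevalleyDatum) (lam : Fin D.rank → ℝ) (r : ℕ) : ℝ :=
  ∑ k : Fin D.rank, lam k * (D.cartan k.val r : ℝ)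

theorem gr_add (D : ChevalleyDatum) (lam mu : Fin D.rank → ℝ) (r : ℕ) :
    gr D (lam + mu) r = gr D lam r + gr D mu r := by
  unfold gr
  rw [← Finset.sum_add_distrib]
  apply Finset.sum_congr rfl
  intro k _
  simp only [Pi.add_apply]; ring

theorem gr_smul (D : ChevalleyDatum) (c : ℝ) (lam : Fin D.rank → ℝ) (r : ℕ) :
    gr D (c • lam) r = c * gr D lam r := by
  unfold gr
  rw [Finset.mul_sum]
  apply Finset.sum_congr rfl
  intro k _
  simp only [Pi.smul_apply, smul_eq_mul]; ring

section
variable (D : ChevalleyDatum) (hD : D ∈ [chevG2, chevB2, chevD4, chevF4, chevE6, chevE7, chevE8])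
variable (F : Type*) [Field F]
include hD

theorem chainAddR_gr (lam : Fin D.rank → ℝ) : ChainAddR D (gr D lam) := by
  constructor
  · intro s hs hn
    unfold gr
    rw [← Finset.sum_neg_distrib]
    apply Finset.sum_congr rfl
    intro k _
    rw [(hxFacts_of_mem D hD k.val k.isLt).negCar s hs hn]
    push_cast; ring
  · intro s hs v hv x hx hx1
    unfold gr
    rw [Finset.mul_sum, ← Finset.sum_add_distrib]
    apply Finset.sum_congr rfl
    intro k _
    rw [(hxFacts_of_mem D hD k.val k.isLt).addCar s hs v hv x hx hx1]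
    push_cast; ring

/-- an entry of `x_r(t)` differing from that of the identity sits in weight `k · A(r)`, `k ≥ 1` -/
theorem xMat_entry_real {A : ℕ → ℝ} (hA : ChainAddR D A) (r : Fin D.nroots) (t : F) (i j : D.Idx)
    (h : D.xMat F r t i j ≠ (1 : Matrix D.Idx D.Idx F) i j) :
    ∃ k : ℕ, 1 ≤ k ∧ wt D A i - wt D A j = (k : ℝ) * A r.val := by
  have hN := negOK_of_mem D hD r.val r.isLt
  have hnegA : A (D.negIdx.getD r.val 0) = - A r.val := hA.negA r.val r.isLt hN.1
  rcases i with i' | u <;> rcases j with j' | v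
  · exfalso; apply h
    rw [xMat_inl_inl, Matrix.one_apply]
    simp only [Sum.inl.injEq]
  · by_cases hvr : v = r
    · exfalso; apply h
      rw [hvr, xMat_inl_self, Matrix.one_apply, if_neg (by simp)]
    · by_cases hneg : v.val = D.negIdx.getD r.val 0
      · refine ⟨1, le_rfl, ?_⟩
        show (0 : ℝ) - A v.val = _
        rw [hneg, hnegA]; simp
      · exfalso; apply h
        rw [xMat_inl_gen D F r t v hvr hneg, Matrix.one_apply, if_neg (by simp)]
  · by_cases hur : u = r
    · refine ⟨1, le_rfl, ?_⟩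
      show A u.val - 0 = _
      rw [hur]; simp
    · exfalso; apply h
      rw [xMat_inr_inl, if_neg hur, Matrix.one_apply, if_neg (by simp)]
  · by_cases hvr : v = r
    · exfalso; apply h
      rw [hvr, xMat_inr_self, Matrix.one_apply]
      simp only [Sum.inr.injEq]
    · by_cases hneg : v.val = D.negIdx.getD r.val 0
      · rw [xMat_inr_neg D F r t v hvr hneg, Matrix.one_apply] at h
        simp only [Sum.inr.injEq] at h
        by_cases huv : u = v
        · exfalso; apply h; rw [if_pos huv, if_pos huv]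
        · by_cases hur : u = r
          · refine ⟨2, by norm_num, ?_⟩
            show A u.val - A v.val = _
            rw [hur, hneg, hnegA]; push_cast; ring
          · exfalso; apply h; rw [if_neg huv, if_neg huv, if_neg hur]
      · rw [xMat_inr_gen D F r t v hvr hneg, Matrix.one_apply] at h
        simp only [Sum.inr.injEq] at h
        have hp : polyAt t (ccAll D r.val v.val) u.val ≠ 0 := by
          intro h0
          apply h
          rw [h0, add_zero]
        obtain ⟨x, hx, hxu⟩ := polyAt_ne_zero t _ _ hp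
        have hk := ccAll_exp_pos D _ _ x hx
        refine ⟨x.2.1, hk, ?_⟩
        show A u.val - A v.val = _
        rw [← hxu, hA.addA r.val r.isLt v.val v.isLt x hx (hxu ▸ u.isLt)]
        ring

/-- `x_r(t)` is unipotent of depth `A r` when `A r ≥ 0` -/
theorem x_UF {A : ℕ → ℝ} (hA : ChainAddR D A) (r : ℕ) (hr : r < D.nroots) (t : F) (h0 : 0 ≤ A r) :
    UF (wt D A) (A r) (D.x F r t) := by
  rw [x_eq_xMat D F r hr]
  intro b a hba
  rw [Matrix.sub_apply] at hba
  have hne : D.xMat F ⟨r, hr⟩ t b a ≠ (1 : Matrix D.Idx D.Idx F) b a := fun h => hba (by rw [h, sub_self])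
  obtain ⟨k, hk, hw⟩ := xMat_entry_real D hD F hA ⟨r, hr⟩ t b a hne
  have h1 : (1 : ℝ) ≤ (k : ℝ) := by exact_mod_cast hk
  have h2 : A r ≤ (k : ℝ) * A r := by nlinarith
  simp only at hw
  linarith

/-- `x_r(t)` preserves the grading when `A r = 0` -/
theorem x_BF {A : ℕ → ℝ} (hA : ChainAddR D A) (r : ℕ) (hr : r < D.nroots) (t : F) (h0 : A r = 0) :
    BF (wt D A) (D.x F r t) := by
  rw [x_eq_xMat D F r hr]
  intro b a hba
  by_cases hne : D.xMat F ⟨r, hr⟩ t b a = (1 : Matrix D.Idx D.Idx F) b a
  · rw [hne, Matrix.one_apply] at hba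
    by_cases hab : b = a
    · rw [hab]
    · rw [if_neg hab] at hba; exact absurd rfl hba
  · obtain ⟨k, hk, hw⟩ := xMat_entry_real D hD F hA ⟨r, hr⟩ t b a hne
    simp only at hw
    rw [h0, mul_zero] at hw
    linarith

/-- the elements of `H` preserve every grading -/
theorem diag_BF (A : ℕ → ℝ) (g : GL D.Idx F) (hg : g ∈ D.diagonalSubgroup F) :
    BF (wt D A) (g : Matrix D.Idx D.Idx F) := by
  obtain ⟨χ, -, hgm⟩ := mem_diagonalSubgroup_char D hD F g hg
  rw [hgm]
  intro b a hba
  unfold diagChar at hba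
  by_cases hab : b = a
  · rw [hab]
  · rw [Matrix.diagonal_apply_ne _ hab] at hba; exact absurd rfl hba

end

end Cfsg.Agent.Lib.Helper25.BT
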