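import Cfsg.Agent.Lib.Helper25.BTb
import Cfsg.Agent.Lib.Helper7.ChevBN0

/-!
# The monomial group `N` and gradings (helper25)

Every `n ∈ N` is block-monomial with respect to a permutation `σ` of the roots which preserves the
space of gradings `grv D lam`; hence conjugation by `n` transports filtrations.
-/

set_option autoImplicit false

namespace Cfsg.Agent.Lib.Helper25.BT

open Cfsg Cfsg.Lie Matrix Cfsg.Agent.Lib.Helper7

/-- the weight function of a degree vector on the roots -/
def wtv (D : ChevalleyDatum) (d : Fin D.nroots → ℝ) : D.Idx → ℝ := Sum.elim (fun _ => 0) d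

/-- the degree vector of a real coweight -/
def grv (D : ChevalleyDatum) (lam : Fin D.rank → ℝ) : Fin D.nroots → ℝ := fun u => gr D lam u.val

theorem wtv_grv (D : ChevalleyDatum) (lam : Fin D.rank → ℝ) : wtv D (grv D lam) = wt D (gr D lam) := rfl

/-- block-monomial matrices relative to a permutation of the roots -/
def Mono (D : ChevalleyDatum) (F : Type*) [Field F] (n : Matrix D.Idx D.Idx F)
    (σ : Equiv.Perm (Fin D.nroots)) : Prop :=
  (∀ j v, n (Sum.inl j) (Sum.inr v) = 0) ∧ (∀ u j, n (Sum.inr u) (Sum.inl j) = 0) ∧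
  ∀ u v, n (Sum.inr u) (Sum.inr v) ≠ 0 → u = σ v

theorem Mono.one (D : ChevalleyDatum) (F : Type*) [Field F] : Mono D F (1 : Matrix D.Idx D.Idx F) 1 := by
  refine ⟨fun j v => ?_, fun u j => ?_, fun u v h => ?_⟩
  · rw [Matrix.one_apply, if_neg (by simp)]
  · rw [Matrix.one_apply, if_neg (by simp)]
  · rw [Matrix.one_apply] at h
    by_cases huv : (Sum.inr u : D.Idx) = Sum.inr v
    · exact Sum.inr.inj huv
    · rw [if_neg huv] at h; exact absurd rfl h

theorem Mono.mul {D : ChevalleyDatum} {F : Type*} [Field F] {n n' : Matrix D.Idx D.Idx F}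
    {σ σ' : Equiv.Perm (Fin D.nroots)} (h : Mono D F n σ) (h' : Mono D F n' σ') :
    Mono D F (n * n') (σ * σ') := by
  obtain ⟨a1, a2, a3⟩ := h
  obtain ⟨b1, b2, b3⟩ := h'
  refine ⟨?_, ?_, ?_⟩
  · intro j v
    rw [Matrix.mul_apply, Fintype.sum_sum_type]
    simp [a1, b1]
  · intro u j
    rw [Matrix.mul_apply, Fintype.sum_sum_type]
    simp [a2, b2]
  · intro u v huv
    rw [Matrix.mul_apply, Fintype.sum_sum_type] at huv
    have h0 : ∑ x : Fin D.rank, n (Sum.inr u) (Sum.inl x) * n' (Sum.inl x) (Sum.inr v) = 0 := by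
      simp [a2]
    rw [h0, zero_add] at huv
    obtain ⟨w, -, hw⟩ := Finset.exists_ne_zero_of_sum_ne_zero huv
    rw [a3 u w (left_ne_zero_of_mul hw), b3 w v (right_ne_zero_of_mul hw)]
    rfl

/-- a block-monomial matrix carries the grading `d` to `d ∘ σ⁻¹` -/
theorem Mono.wt_eq {D : ChevalleyDatum} {F : Type*} [Field F] {n : Matrix D.Idx D.Idx F}
    {σ : Equiv.Perm (Fin D.nroots)} (h : Mono D F n σ) (d : Fin D.nroots → ℝ) (b a : D.Idx)
    (hba : n b a ≠ 0) : wtv D (d ∘ σ.symm) b = wtv D d a := by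
  obtain ⟨a1, a2, a3⟩ := h
  rcases b with j | u <;> rcases a with j' | v
  · rfl
  · exact absurd (a1 j v) hba
  · exact absurd (a2 u j') hba
  · show d (σ.symm u) = d v
    rw [a3 u v hba, Equiv.symm_apply_apply]

/-- transport of the depth filtration by a block-monomial matrix -/
theorem Mono.UF_conj {D : ChevalleyDatum} {F : Type*} [Field F] {n n' : Matrix D.Idx D.Idx F}
    {σ : Equiv.Perm (Fin D.nroots)} (h : Mono D F n σ) (h' : Mono D F n' σ⁻¹) (hnn : n * n' = 1)
    (d : Fin D.nroots → ℝ) {t : ℝ} {M : Matrix D.Idx D.Idx F} (hM : UF (wtv D d) t M) :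
    UF (wtv D (d ∘ σ.symm)) t (n * M * n') := by
  refine UF.transport hM (fun b a hba => h.wt_eq d b a hba) (fun b a hba => ?_) hnn
  have := h'.wt_eq (d ∘ σ.symm) b a hba
  rw [← this]
  congr 1
  funext u
  show d u = d (σ.symm (σ u))
  rw [Equiv.symm_apply_apply]

section
variable (D : ChevalleyDatum) (hD : D ∈ [chevG2, chevB2, chevD4, chevF4, chevE6, chevE7, chevE8])
variable (F : Type*) [Field F]
include hD

theorem mono_diag (g : GL D.Idx F) (hg : g ∈ D.diagonalSubgroup F) :
    Mono D F (g : Matrix D.Idx D.Idx F) 1 := by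
  obtain ⟨χ, -, hgm⟩ := mem_diagonalSubgroup_char D hD F g hg
  rw [hgm]
  unfold diagChar
  refine ⟨fun j v => Matrix.diagonal_apply_ne _ (by simp), fun u j => Matrix.diagonal_apply_ne _ (by simp),
    fun u v h => ?_⟩
  by_contra hne
  exact h (Matrix.diagonal_apply_ne _ (fun hh => hne (Sum.inr.inj hh)))

/-- the permutation of the roots induced by the `i`-th fundamental reflection -/
def reflPerm (i : ℕ) (hi : i < D.rank) : Equiv.Perm (Fin D.nroots) where
  toFun := wFin D i (etaFn D i) (conjFacts_of_mem D hD i hi)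
  invFun := wFin D i (etaFn D i) (conjFacts_of_mem D hD i hi)
  left_inv := wFin_wFin D i (etaFn D i) (conjFacts_of_mem D hD i hi)
  right_inv := wFin_wFin D i (etaFn D i) (conjFacts_of_mem D hD i hi)

theorem reflPerm_apply (i : ℕ) (hi : i < D.rank) (u : Fin D.nroots) :
    (reflPerm D hD i hi u).val = D.reflectRoot i u.val := rfl

theorem reflPerm_inv (i : ℕ) (hi : i < D.rank) : (reflPerm D hD i hi)⁻¹ = reflPerm D hD i hi := by
  apply Equiv.ext
  intro u
  rfl

theorem reflPerm_symm_apply (i : ℕ) (hi : i < D.rank) (u : Fin D.nroots) :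
    ((reflPerm D hD i hi).symm u).val = D.reflectRoot i u.val := rfl

theorem mono_nMat_fund (i : ℕ) (hi : i < D.rank) :
    Mono D F (D.nMat F (D.simple i) 1) (reflPerm D hD i hi) := by
  rw [nMat_fund D i (fundFacts_of_mem D hD i hi) F]
  refine ⟨fun j v => rfl, fun u j => rfl, fun u v h => ?_⟩
  simp only [Matrix.of_apply, Sum.elim_inr] at h
  apply Fin.ext
  rw [reflPerm_apply]
  by_contra hne
  exact h (if_neg hne)

/-- the fundamental reflection acts on gradings: `grv lam ∘ w_i = grv lam'` -/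
theorem grv_comp_reflPerm (i : ℕ) (hi : i < D.rank) (lam : Fin D.rank → ℝ) :
    ∃ lam' : Fin D.rank → ℝ, grv D lam' = grv D lam ∘ (reflPerm D hD i hi) := by
  have hC := conjFacts_of_mem D hD i hi
  set c : ℝ := ∑ k : Fin D.rank, lam k * (D.cartan k.val (D.simple i) : ℝ) with hc
  refine ⟨fun k => lam k - if k.val = i then c else 0, ?_⟩
  funext u
  show gr D _ u.val = gr D lam (reflPerm D hD i hi u).val
  rw [reflPerm_apply]
  unfold gr
  have h1 : ∀ k : Fin D.rank, lam k * (D.cartan k.val (D.reflectRoot i u.val) : ℝ) =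
      lam k * (D.cartan k.val u.val : ℝ) -
        (D.cartan i u.val : ℝ) * (lam k * (D.cartan k.val (D.simple i) : ℝ)) := by
    intro k
    rw [hC.carRefl k.val k.isLt u.val u.isLt]
    push_cast; ring
  rw [Finset.sum_congr rfl (fun k _ => h1 k), Finset.sum_sub_distrib, ← Finset.mul_sum, ← hc]
  have h2 : ∀ k : Fin D.rank, (lam k - if k.val = i then c else 0) * (D.cartan k.val u.val : ℝ) =
      lam k * (D.cartan k.val u.val : ℝ) - (if k.val = i then c * (D.cartan k.val u.val : ℝ) else 0) := by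
    intro k
    by_cases hk : k.val = i
    · rw [if_pos hk, if_pos hk]; ring
    · rw [if_neg hk, if_neg hk]; ring
  rw [Finset.sum_congr rfl (fun k _ => h2 k), Finset.sum_sub_distrib]
  congr 1
  rw [Finset.sum_eq_single (⟨i, hi⟩ : Fin D.rank)]
  · rw [if_pos rfl]; ring
  · intro k _ hk
    rw [if_neg (fun h => hk (Fin.ext h))]
  · intro h; exact absurd (Finset.mem_univ _) h

/-- compatibility of an element of `GL` with the gradings: block-monomial for a permutation of the roots
which preserves the space of gradings -/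
def NCompat (n : GL D.Idx F) : Prop :=
  ∃ σ : Equiv.Perm (Fin D.nroots), Mono D F (n : Matrix D.Idx D.Idx F) σ ∧
    Mono D F ((n⁻¹ : GL D.Idx F) : Matrix D.Idx D.Idx F) σ⁻¹ ∧
    (∀ lam, ∃ lam', grv D lam' = grv D lam ∘ σ.symm) ∧ (∀ lam, ∃ lam', grv D lam' = grv D lam ∘ σ)

omit hD in
theorem nCompat_one : NCompat D F 1 := by
  refine ⟨1, by simpa using Mono.one D F, by simpa using Mono.one D F, fun lam => ⟨lam, rfl⟩,
    fun lam => ⟨lam, rfl⟩⟩

omit hD in
theorem NCompat.mul {n n' : GL D.Idx F} (h : NCompat D F n) (h' : NCompat D F n') :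
    NCompat D F (n * n') := by
  obtain ⟨σ, a1, a2, a3, a4⟩ := h
  obtain ⟨σ', b1, b2, b3, b4⟩ := h'
  refine ⟨σ * σ', ?_, ?_, ?_, ?_⟩
  · rw [Units.val_mul]; exact a1.mul b1
  · rw [_root_.mul_inv_rev, Units.val_mul, _root_.mul_inv_rev]; exact b2.mul a2
  · intro lam
    obtain ⟨lam1, h1⟩ := b3 lam
    obtain ⟨lam2, h2⟩ := a3 lam1
    refine ⟨lam2, ?_⟩
    rw [h2, h1]
    funext u
    rfl
  · intro lam
    obtain ⟨lam1, h1⟩ := a4 lam
    obtain ⟨lam2, h2⟩ := b4 lam1
    refine ⟨lam2, ?_⟩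
    rw [h2, h1]
    funext u
    rfl

omit hD in
theorem NCompat.inv {n : GL D.Idx F} (h : NCompat D F n) : NCompat D F n⁻¹ := by
  obtain ⟨σ, a1, a2, a3, a4⟩ := h
  refine ⟨σ⁻¹, a2, by rw [inv_inv, inv_inv]; exact a1, ?_, ?_⟩
  · intro lam
    obtain ⟨lam', h'⟩ := a4 lam
    exact ⟨lam', by rw [h']; rfl⟩
  · intro lam
    obtain ⟨lam', h'⟩ := a3 lam
    exact ⟨lam', by rw [h']; rfl⟩

/-- the subgroup of grading-compatible elements -/
def ncSubgroup : Subgroup (GL D.Idx F) where
  carrier := {n | NCompat D F n}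
  one_mem' := nCompat_one D F
  mul_mem' := fun ha hb => NCompat.mul D F ha hb
  inv_mem' := fun ha => NCompat.inv D F ha

theorem nCompat_diag (g : GL D.Idx F) (hg : g ∈ D.diagonalSubgroup F) : NCompat D F g :=
  ⟨1, mono_diag D hD F g hg, by simpa using mono_diag D hD F g⁻¹ (Subgroup.inv_mem _ hg),
    fun lam => ⟨lam, rfl⟩, fun lam => ⟨lam, rfl⟩⟩

theorem nCompat_nFund (i : ℕ) (hi : i < D.rank) : NCompat D F (nFund D hD F i) := by
  have hcoe : ((nFund D hD F i : GL D.Idx F) : Matrix D.Idx D.Idx F) = D.nMat F (D.simple i) 1 := by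
    unfold nFund; rw [coe_wordGL]; rfl
  have hm := mono_nMat_fund D hD F i hi
  refine ⟨reflPerm D hD i hi, by rw [hcoe]; exact hm, ?_, ?_, ?_⟩
  · -- n⁻¹ = n * (n⁻¹ * n⁻¹)
    have e : (nFund D hD F i)⁻¹ = nFund D hD F i * ((nFund D hD F i)⁻¹ * (nFund D hD F i)⁻¹) := by group
    rw [e, Units.val_mul, hcoe, reflPerm_inv]
    have := hm.mul (mono_diag D hD F _ (nFund_inv_sq_mem D hD F i hi))
    simpa using this
  · intro lam
    obtain ⟨lam', h'⟩ := grv_comp_reflPerm D hD i hi lam
    exact ⟨lam', by rw [h']; rfl⟩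
  · exact grv_comp_reflPerm D hD i hi

theorem monomial_le_nc : D.monomialSubgroup F ≤ ncSubgroup D F := by
  rw [monomial_eq_sup_fund D hD F]
  apply sup_le
  · intro g hg
    exact nCompat_diag D hD F g hg
  · unfold fundSubgroup
    rw [Subgroup.closure_le]
    rintro g ⟨j, hj, hg⟩
    have : g = nFund D hD F j := by
      apply Units.ext
      rw [hg]
      unfold nFund; rw [coe_wordGL]; rfl
    rw [this]
    exact nCompat_nFund D hD F j hj

theorem nCompat_of_mem_monomial (n : GL D.Idx F) (hn : n ∈ D.monomialSubgroup F) : NCompat D F n :=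
  monomial_le_nc D hD F hn

end

end Cfsg.Agent.Lib.Helper25.BT
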