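import Cfsg.Agent.Lib.Helper7.ChevBasic

/-!
# Root coefficient tables (helper25)

`expR_X` lists, for every root `r` of the tabulated datum of type `X`, the coefficients of `r` on the
fundamental roots.  `expOKB` checks the defining property against the Cartan integers of the datum and
that the signs agree with those of the coroot coefficients.
-/

set_option autoImplicit false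
set_option maxRecDepth 100000

namespace Cfsg.Agent.Lib.Helper25.BT

open Cfsg Cfsg.Lie

/-- table check: `⟨r, p_j^∨⟩ = Σ_k R[r][k] ⟨p_k, p_j^∨⟩` and the signs of `R[r][k]` are those of the
coroot coefficients -/
def expOKB (D : ChevalleyDatum) (R : List (List ℤ)) : Bool :=
  (List.range D.nroots).all fun r =>
    let row := R.getD r []
    (List.range D.rank).all (fun j =>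
      D.cartan j r == ((List.range D.rank).map fun k => row.getD k 0 * D.cartan j (D.simple k)).sum) &&
    (List.range D.rank).all (fun k =>
      Int.sign (row.getD k 0) == Int.sign ((D.coroot.getD r #[]).getD k 0))

def expR_G2 : List (List ℤ) := [
  [-3, -2],
  [-3, -1],
  [-2, -1],
  [-1, -1],
  [-1, 0],
  [0, -1],
  [0, 1],
  [1, 0],
  [1, 1],
  [2, 1],
  [3, 1],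
  [3, 2]]

def expR_B2 : List (List ℤ) := [
  [-2, -1],
  [-1, -1],
  [-1, 0],
  [0, -1],
  [0, 1],
  [1, 0],
  [1, 1],
  [2, 1]]

def expR_D4 : List (List ℤ) := [
  [-1, -2, -1, -1],
  [-1, -1, -1, -1],
  [-1, -1, -1, 0],
  [-1, -1, 0, -1],
  [-1, -1, 0, 0],
  [-1, 0, 0, 0],
  [0, -1, -1, -1],
  [0, -1, -1, 0],
  [0, -1, 0, -1],
  [0, -1, 0, 0],
  [0, 0, -1, 0],
  [0, 0, 0, -1],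
  [0, 0, 0, 1],
  [0, 0, 1, 0],
  [0, 1, 0, 0],
  [0, 1, 0, 1],
  [0, 1, 1, 0],
  [0, 1, 1, 1],
  [1, 0, 0, 0],
  [1, 1, 0, 0],
  [1, 1, 0, 1],
  [1, 1, 1, 0],
  [1, 1, 1, 1],
  [1, 2, 1, 1]]

def expR_F4 : List (List ℤ) := [
  [-2, -4, -3, -2],
  [-2, -4, -3, -1],
  [-2, -4, -2, -1],
  [-2, -3, -2, -1],
  [-2, -2, -2, -1],
  [-2, -2, -1, -1],
  [-2, -2, -1, 0],
  [-1, -3, -2, -1],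
  [-1, -2, -2, -1],
  [-1, -2, -1, -1],
  [-1, -2, -1, 0],
  [-1, -1, -1, -1],
  [-1, -1, -1, 0],
  [-1, -1, 0, 0],
  [-1, 0, 0, 0],
  [0, -2, -2, -1],
  [0, -2, -1, -1],
  [0, -2, -1, 0],
  [0, -1, -1, -1],
  [0, -1, -1, 0],
  [0, -1, 0, 0],
  [0, 0, -1, -1],
  [0, 0, -1, 0],
  [0, 0, 0, -1],
  [0, 0, 0, 1],
  [0, 0, 1, 0],
  [0, 0, 1, 1],
  [0, 1, 0, 0],
  [0, 1, 1, 0],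
  [0, 1, 1, 1],
  [0, 2, 1, 0],
  [0, 2, 1, 1],
  [0, 2, 2, 1],
  [1, 0, 0, 0],
  [1, 1, 0, 0],
  [1, 1, 1, 0],
  [1, 1, 1, 1],
  [1, 2, 1, 0],
  [1, 2, 1, 1],
  [1, 2, 2, 1],
  [1, 3, 2, 1],
  [2, 2, 1, 0],
  [2, 2, 1, 1],
  [2, 2, 2, 1],
  [2, 3, 2, 1],
  [2, 4, 2, 1],
  [2, 4, 3, 1],
  [2, 4, 3, 2]]

def expR_E6 : List (List ℤ) := [
  [-1, -2, -2, -3, -2, -1],
  [-1, -1, -2, -3, -2, -1],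
  [-1, -1, -2, -2, -2, -1],
  [-1, -1, -2, -2, -1, -1],
  [-1, -1, -2, -2, -1, 0],
  [-1, -1, -1, -2, -2, -1],
  [-1, -1, -1, -2, -1, -1],
  [-1, -1, -1, -2, -1, 0],
  [-1, -1, -1, -1, -1, -1],
  [-1, -1, -1, -1, -1, 0],
  [-1, -1, -1, -1, 0, 0],
  [-1, 0, -1, -1, -1, -1],
  [-1, 0, -1, -1, -1, 0],
  [-1, 0, -1, -1, 0, 0],
  [-1, 0, -1, 0, 0, 0],
  [-1, 0, 0, 0, 0, 0],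
  [0, -1, -1, -2, -2, -1],
  [0, -1, -1, -2, -1, -1],
  [0, -1, -1, -2, -1, 0],
  [0, -1, -1, -1, -1, -1],
  [0, -1, -1, -1, -1, 0],
  [0, -1, -1, -1, 0, 0],
  [0, -1, 0, -1, -1, -1],
  [0, -1, 0, -1, -1, 0],
  [0, -1, 0, -1, 0, 0],
  [0, -1, 0, 0, 0, 0],
  [0, 0, -1, -1, -1, -1],
  [0, 0, -1, -1, -1, 0],
  [0, 0, -1, -1, 0, 0],
  [0, 0, -1, 0, 0, 0],
  [0, 0, 0, -1, -1, -1],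
  [0, 0, 0, -1, -1, 0],
  [0, 0, 0, -1, 0, 0],
  [0, 0, 0, 0, -1, -1],
  [0, 0, 0, 0, -1, 0],
  [0, 0, 0, 0, 0, -1],
  [0, 0, 0, 0, 0, 1],
  [0, 0, 0, 0, 1, 0],
  [0, 0, 0, 0, 1, 1],
  [0, 0, 0, 1, 0, 0],
  [0, 0, 0, 1, 1, 0],
  [0, 0, 0, 1, 1, 1],
  [0, 0, 1, 0, 0, 0],
  [0, 0, 1, 1, 0, 0],
  [0, 0, 1, 1, 1, 0],
  [0, 0, 1, 1, 1, 1],
  [0, 1, 0, 0, 0, 0],
  [0, 1, 0, 1, 0, 0],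
  [0, 1, 0, 1, 1, 0],
  [0, 1, 0, 1, 1, 1],
  [0, 1, 1, 1, 0, 0],
  [0, 1, 1, 1, 1, 0],
  [0, 1, 1, 1, 1, 1],
  [0, 1, 1, 2, 1, 0],
  [0, 1, 1, 2, 1, 1],
  [0, 1, 1, 2, 2, 1],
  [1, 0, 0, 0, 0, 0],
  [1, 0, 1, 0, 0, 0],
  [1, 0, 1, 1, 0, 0],
  [1, 0, 1, 1, 1, 0],
  [1, 0, 1, 1, 1, 1],
  [1, 1, 1, 1, 0, 0],
  [1, 1, 1, 1, 1, 0],
  [1, 1, 1, 1, 1, 1],
  [1, 1, 1, 2, 1, 0],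
  [1, 1, 1, 2, 1, 1],
  [1, 1, 1, 2, 2, 1],
  [1, 1, 2, 2, 1, 0],
  [1, 1, 2, 2, 1, 1],
  [1, 1, 2, 2, 2, 1],
  [1, 1, 2, 3, 2, 1],
  [1, 2, 2, 3, 2, 1]]

def expR_E7 : List (List ℤ) := [
  [-2, -2, -3, -4, -3, -2, -1],
  [-1, -2, -3, -4, -3, -2, -1],
  [-1, -2, -2, -4, -3, -2, -1],
  [-1, -2, -2, -3, -3, -2, -1],
  [-1, -2, -2, -3, -2, -2, -1],
  [-1, -2, -2, -3, -2, -1, -1],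
  [-1, -2, -2, -3, -2, -1, 0],
  [-1, -1, -2, -3, -3, -2, -1],
  [-1, -1, -2, -3, -2, -2, -1],
  [-1, -1, -2, -3, -2, -1, -1],
  [-1, -1, -2, -3, -2, -1, 0],
  [-1, -1, -2, -2, -2, -2, -1],
  [-1, -1, -2, -2, -2, -1, -1],
  [-1, -1, -2, -2, -2, -1, 0],
  [-1, -1, -2, -2, -1, -1, -1],
  [-1, -1, -2, -2, -1, -1, 0],
  [-1, -1, -2, -2, -1, 0, 0],
  [-1, -1, -1, -2, -2, -2, -1],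
  [-1, -1, -1, -2, -2, -1, -1],
  [-1, -1, -1, -2, -2, -1, 0],
  [-1, -1, -1, -2, -1, -1, -1],
  [-1, -1, -1, -2, -1, -1, 0],
  [-1, -1, -1, -2, -1, 0, 0],
  [-1, -1, -1, -1, -1, -1, -1],
  [-1, -1, -1, -1, -1, -1, 0],
  [-1, -1, -1, -1, -1, 0, 0],
  [-1, -1, -1, -1, 0, 0, 0],
  [-1, 0, -1, -1, -1, -1, -1],
  [-1, 0, -1, -1, -1, -1, 0],
  [-1, 0, -1, -1, -1, 0, 0],
  [-1, 0, -1, -1, 0, 0, 0],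
  [-1, 0, -1, 0, 0, 0, 0],
  [-1, 0, 0, 0, 0, 0, 0],
  [0, -1, -1, -2, -2, -2, -1],
  [0, -1, -1, -2, -2, -1, -1],
  [0, -1, -1, -2, -2, -1, 0],
  [0, -1, -1, -2, -1, -1, -1],
  [0, -1, -1, -2, -1, -1, 0],
  [0, -1, -1, -2, -1, 0, 0],
  [0, -1, -1, -1, -1, -1, -1],
  [0, -1, -1, -1, -1, -1, 0],
  [0, -1, -1, -1, -1, 0, 0],
  [0, -1, -1, -1, 0, 0, 0],
  [0, -1, 0, -1, -1, -1, -1],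
  [0, -1, 0, -1, -1, -1, 0],
  [0, -1, 0, -1, -1, 0, 0],
  [0, -1, 0, -1, 0, 0, 0],
  [0, -1, 0, 0, 0, 0, 0],
  [0, 0, -1, -1, -1, -1, -1],
  [0, 0, -1, -1, -1, -1, 0],
  [0, 0, -1, -1, -1, 0, 0],
  [0, 0, -1, -1, 0, 0, 0],
  [0, 0, -1, 0, 0, 0, 0],
  [0, 0, 0, -1, -1, -1, -1],
  [0, 0, 0, -1, -1, -1, 0],
  [0, 0, 0, -1, -1, 0, 0],
  [0, 0, 0, -1, 0, 0, 0],
  [0, 0, 0, 0, -1, -1, -1],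
  [0, 0, 0, 0, -1, -1, 0],
  [0, 0, 0, 0, -1, 0, 0],
  [0, 0, 0, 0, 0, -1, -1],
  [0, 0, 0, 0, 0, -1, 0],
  [0, 0, 0, 0, 0, 0, -1],
  [0, 0, 0, 0, 0, 0, 1],
  [0, 0, 0, 0, 0, 1, 0],
  [0, 0, 0, 0, 0, 1, 1],
  [0, 0, 0, 0, 1, 0, 0],
  [0, 0, 0, 0, 1, 1, 0],
  [0, 0, 0, 0, 1, 1, 1],
  [0, 0, 0, 1, 0, 0, 0],
  [0, 0, 0, 1, 1, 0, 0],
  [0, 0, 0, 1, 1, 1, 0],
  [0, 0, 0, 1, 1, 1, 1],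
  [0, 0, 1, 0, 0, 0, 0],
  [0, 0, 1, 1, 0, 0, 0],
  [0, 0, 1, 1, 1, 0, 0],
  [0, 0, 1, 1, 1, 1, 0],
  [0, 0, 1, 1, 1, 1, 1],
  [0, 1, 0, 0, 0, 0, 0],
  [0, 1, 0, 1, 0, 0, 0],
  [0, 1, 0, 1, 1, 0, 0],
  [0, 1, 0, 1, 1, 1, 0],
  [0, 1, 0, 1, 1, 1, 1],
  [0, 1, 1, 1, 0, 0, 0],
  [0, 1, 1, 1, 1, 0, 0],
  [0, 1, 1, 1, 1, 1, 0],
  [0, 1, 1, 1, 1, 1, 1],
  [0, 1, 1, 2, 1, 0, 0],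
  [0, 1, 1, 2, 1, 1, 0],
  [0, 1, 1, 2, 1, 1, 1],
  [0, 1, 1, 2, 2, 1, 0],
  [0, 1, 1, 2, 2, 1, 1],
  [0, 1, 1, 2, 2, 2, 1],
  [1, 0, 0, 0, 0, 0, 0],
  [1, 0, 1, 0, 0, 0, 0],
  [1, 0, 1, 1, 0, 0, 0],
  [1, 0, 1, 1, 1, 0, 0],
  [1, 0, 1, 1, 1, 1, 0],
  [1, 0, 1, 1, 1, 1, 1],
  [1, 1, 1, 1, 0, 0, 0],
  [1, 1, 1, 1, 1, 0, 0],
  [1, 1, 1, 1, 1, 1, 0],
  [1, 1, 1, 1, 1, 1, 1],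
  [1, 1, 1, 2, 1, 0, 0],
  [1, 1, 1, 2, 1, 1, 0],
  [1, 1, 1, 2, 1, 1, 1],
  [1, 1, 1, 2, 2, 1, 0],
  [1, 1, 1, 2, 2, 1, 1],
  [1, 1, 1, 2, 2, 2, 1],
  [1, 1, 2, 2, 1, 0, 0],
  [1, 1, 2, 2, 1, 1, 0],
  [1, 1, 2, 2, 1, 1, 1],
  [1, 1, 2, 2, 2, 1, 0],
  [1, 1, 2, 2, 2, 1, 1],
  [1, 1, 2, 2, 2, 2, 1],
  [1, 1, 2, 3, 2, 1, 0],
  [1, 1, 2, 3, 2, 1, 1],
  [1, 1, 2, 3, 2, 2, 1],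
  [1, 1, 2, 3, 3, 2, 1],
  [1, 2, 2, 3, 2, 1, 0],
  [1, 2, 2, 3, 2, 1, 1],
  [1, 2, 2, 3, 2, 2, 1],
  [1, 2, 2, 3, 3, 2, 1],
  [1, 2, 2, 4, 3, 2, 1],
  [1, 2, 3, 4, 3, 2, 1],
  [2, 2, 3, 4, 3, 2, 1]]

def expR_E8 : List (List ℤ) := [
  [-2, -3, -4, -6, -5, -4, -3, -2],
  [-2, -3, -4, -6, -5, -4, -3, -1],
  [-2, -3, -4, -6, -5, -4, -2, -1],
  [-2, -3, -4, -6, -5, -3, -2, -1],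
  [-2, -3, -4, -6, -4, -3, -2, -1],
  [-2, -3, -4, -5, -4, -3, -2, -1],
  [-2, -3, -3, -5, -4, -3, -2, -1],
  [-2, -2, -4, -5, -4, -3, -2, -1],
  [-2, -2, -3, -5, -4, -3, -2, -1],
  [-2, -2, -3, -4, -4, -3, -2, -1],
  [-2, -2, -3, -4, -3, -3, -2, -1],
  [-2, -2, -3, -4, -3, -2, -2, -1],
  [-2, -2, -3, -4, -3, -2, -1, -1],
  [-2, -2, -3, -4, -3, -2, -1, 0],
  [-1, -3, -3, -5, -4, -3, -2, -1],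
  [-1, -2, -3, -5, -4, -3, -2, -1],
  [-1, -2, -3, -4, -4, -3, -2, -1],
  [-1, -2, -3, -4, -3, -3, -2, -1],
  [-1, -2, -3, -4, -3, -2, -2, -1],
  [-1, -2, -3, -4, -3, -2, -1, -1],
  [-1, -2, -3, -4, -3, -2, -1, 0],
  [-1, -2, -2, -4, -4, -3, -2, -1],
  [-1, -2, -2, -4, -3, -3, -2, -1],
  [-1, -2, -2, -4, -3, -2, -2, -1],
  [-1, -2, -2, -4, -3, -2, -1, -1],
  [-1, -2, -2, -4, -3, -2, -1, 0],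
  [-1, -2, -2, -3, -3, -3, -2, -1],
  [-1, -2, -2, -3, -3, -2, -2, -1],
  [-1, -2, -2, -3, -3, -2, -1, -1],
  [-1, -2, -2, -3, -3, -2, -1, 0],
  [-1, -2, -2, -3, -2, -2, -2, -1],
  [-1, -2, -2, -3, -2, -2, -1, -1],
  [-1, -2, -2, -3, -2, -2, -1, 0],
  [-1, -2, -2, -3, -2, -1, -1, -1],
  [-1, -2, -2, -3, -2, -1, -1, 0],
  [-1, -2, -2, -3, -2, -1, 0, 0],
  [-1, -1, -2, -3, -3, -3, -2, -1],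
  [-1, -1, -2, -3, -3, -2, -2, -1],
  [-1, -1, -2, -3, -3, -2, -1, -1],
  [-1, -1, -2, -3, -3, -2, -1, 0],
  [-1, -1, -2, -3, -2, -2, -2, -1],
  [-1, -1, -2, -3, -2, -2, -1, -1],
  [-1, -1, -2, -3, -2, -2, -1, 0],
  [-1, -1, -2, -3, -2, -1, -1, -1],
  [-1, -1, -2, -3, -2, -1, -1, 0],
  [-1, -1, -2, -3, -2, -1, 0, 0],
  [-1, -1, -2, -2, -2, -2, -2, -1],
  [-1, -1, -2, -2, -2, -2, -1, -1],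
  [-1, -1, -2, -2, -2, -2, -1, 0],
  [-1, -1, -2, -2, -2, -1, -1, -1],
  [-1, -1, -2, -2, -2, -1, -1, 0],
  [-1, -1, -2, -2, -2, -1, 0, 0],
  [-1, -1, -2, -2, -1, -1, -1, -1],
  [-1, -1, -2, -2, -1, -1, -1, 0],
  [-1, -1, -2, -2, -1, -1, 0, 0],
  [-1, -1, -2, -2, -1, 0, 0, 0],
  [-1, -1, -1, -2, -2, -2, -2, -1],
  [-1, -1, -1, -2, -2, -2, -1, -1],
  [-1, -1, -1, -2, -2, -2, -1, 0],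
  [-1, -1, -1, -2, -2, -1, -1, -1],
  [-1, -1, -1, -2, -2, -1, -1, 0],
  [-1, -1, -1, -2, -2, -1, 0, 0],
  [-1, -1, -1, -2, -1, -1, -1, -1],
  [-1, -1, -1, -2, -1, -1, -1, 0],
  [-1, -1, -1, -2, -1, -1, 0, 0],
  [-1, -1, -1, -2, -1, 0, 0, 0],
  [-1, -1, -1, -1, -1, -1, -1, -1],
  [-1, -1, -1, -1, -1, -1, -1, 0],
  [-1, -1, -1, -1, -1, -1, 0, 0],
  [-1, -1, -1, -1, -1, 0, 0, 0],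
  [-1, -1, -1, -1, 0, 0, 0, 0],
  [-1, 0, -1, -1, -1, -1, -1, -1],
  [-1, 0, -1, -1, -1, -1, -1, 0],
  [-1, 0, -1, -1, -1, -1, 0, 0],
  [-1, 0, -1, -1, -1, 0, 0, 0],
  [-1, 0, -1, -1, 0, 0, 0, 0],
  [-1, 0, -1, 0, 0, 0, 0, 0],
  [-1, 0, 0, 0, 0, 0, 0, 0],
  [0, -1, -1, -2, -2, -2, -2, -1],
  [0, -1, -1, -2, -2, -2, -1, -1],
  [0, -1, -1, -2, -2, -2, -1, 0],
  [0, -1, -1, -2, -2, -1, -1, -1],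
  [0, -1, -1, -2, -2, -1, -1, 0],
  [0, -1, -1, -2, -2, -1, 0, 0],
  [0, -1, -1, -2, -1, -1, -1, -1],
  [0, -1, -1, -2, -1, -1, -1, 0],
  [0, -1, -1, -2, -1, -1, 0, 0],
  [0, -1, -1, -2, -1, 0, 0, 0],
  [0, -1, -1, -1, -1, -1, -1, -1],
  [0, -1, -1, -1, -1, -1, -1, 0],
  [0, -1, -1, -1, -1, -1, 0, 0],
  [0, -1, -1, -1, -1, 0, 0, 0],
  [0, -1, -1, -1, 0, 0, 0, 0],
  [0, -1, 0, -1, -1, -1, -1, -1],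
  [0, -1, 0, -1, -1, -1, -1, 0],
  [0, -1, 0, -1, -1, -1, 0, 0],
  [0, -1, 0, -1, -1, 0, 0, 0],
  [0, -1, 0, -1, 0, 0, 0, 0],
  [0, -1, 0, 0, 0, 0, 0, 0],
  [0, 0, -1, -1, -1, -1, -1, -1],
  [0, 0, -1, -1, -1, -1, -1, 0],
  [0, 0, -1, -1, -1, -1, 0, 0],
  [0, 0, -1, -1, -1, 0, 0, 0],
  [0, 0, -1, -1, 0, 0, 0, 0],
  [0, 0, -1, 0, 0, 0, 0, 0],
  [0, 0, 0, -1, -1, -1, -1, -1],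
  [0, 0, 0, -1, -1, -1, -1, 0],
  [0, 0, 0, -1, -1, -1, 0, 0],
  [0, 0, 0, -1, -1, 0, 0, 0],
  [0, 0, 0, -1, 0, 0, 0, 0],
  [0, 0, 0, 0, -1, -1, -1, -1],
  [0, 0, 0, 0, -1, -1, -1, 0],
  [0, 0, 0, 0, -1, -1, 0, 0],
  [0, 0, 0, 0, -1, 0, 0, 0],
  [0, 0, 0, 0, 0, -1, -1, -1],
  [0, 0, 0, 0, 0, -1, -1, 0],
  [0, 0, 0, 0, 0, -1, 0, 0],
  [0, 0, 0, 0, 0, 0, -1, -1],
  [0, 0, 0, 0, 0, 0, -1, 0],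
  [0, 0, 0, 0, 0, 0, 0, -1],
  [0, 0, 0, 0, 0, 0, 0, 1],
  [0, 0, 0, 0, 0, 0, 1, 0],
  [0, 0, 0, 0, 0, 0, 1, 1],
  [0, 0, 0, 0, 0, 1, 0, 0],
  [0, 0, 0, 0, 0, 1, 1, 0],
  [0, 0, 0, 0, 0, 1, 1, 1],
  [0, 0, 0, 0, 1, 0, 0, 0],
  [0, 0, 0, 0, 1, 1, 0, 0],
  [0, 0, 0, 0, 1, 1, 1, 0],
  [0, 0, 0, 0, 1, 1, 1, 1],
  [0, 0, 0, 1, 0, 0, 0, 0],
  [0, 0, 0, 1, 1, 0, 0, 0],
  [0, 0, 0, 1, 1, 1, 0, 0],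
  [0, 0, 0, 1, 1, 1, 1, 0],
  [0, 0, 0, 1, 1, 1, 1, 1],
  [0, 0, 1, 0, 0, 0, 0, 0],
  [0, 0, 1, 1, 0, 0, 0, 0],
  [0, 0, 1, 1, 1, 0, 0, 0],
  [0, 0, 1, 1, 1, 1, 0, 0],
  [0, 0, 1, 1, 1, 1, 1, 0],
  [0, 0, 1, 1, 1, 1, 1, 1],
  [0, 1, 0, 0, 0, 0, 0, 0],
  [0, 1, 0, 1, 0, 0, 0, 0],
  [0, 1, 0, 1, 1, 0, 0, 0],
  [0, 1, 0, 1, 1, 1, 0, 0],
  [0, 1, 0, 1, 1, 1, 1, 0],
  [0, 1, 0, 1, 1, 1, 1, 1],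
  [0, 1, 1, 1, 0, 0, 0, 0],
  [0, 1, 1, 1, 1, 0, 0, 0],
  [0, 1, 1, 1, 1, 1, 0, 0],
  [0, 1, 1, 1, 1, 1, 1, 0],
  [0, 1, 1, 1, 1, 1, 1, 1],
  [0, 1, 1, 2, 1, 0, 0, 0],
  [0, 1, 1, 2, 1, 1, 0, 0],
  [0, 1, 1, 2, 1, 1, 1, 0],
  [0, 1, 1, 2, 1, 1, 1, 1],
  [0, 1, 1, 2, 2, 1, 0, 0],
  [0, 1, 1, 2, 2, 1, 1, 0],
  [0, 1, 1, 2, 2, 1, 1, 1],
  [0, 1, 1, 2, 2, 2, 1, 0],
  [0, 1, 1, 2, 2, 2, 1, 1],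
  [0, 1, 1, 2, 2, 2, 2, 1],
  [1, 0, 0, 0, 0, 0, 0, 0],
  [1, 0, 1, 0, 0, 0, 0, 0],
  [1, 0, 1, 1, 0, 0, 0, 0],
  [1, 0, 1, 1, 1, 0, 0, 0],
  [1, 0, 1, 1, 1, 1, 0, 0],
  [1, 0, 1, 1, 1, 1, 1, 0],
  [1, 0, 1, 1, 1, 1, 1, 1],
  [1, 1, 1, 1, 0, 0, 0, 0],
  [1, 1, 1, 1, 1, 0, 0, 0],
  [1, 1, 1, 1, 1, 1, 0, 0],
  [1, 1, 1, 1, 1, 1, 1, 0],
  [1, 1, 1, 1, 1, 1, 1, 1],
  [1, 1, 1, 2, 1, 0, 0, 0],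
  [1, 1, 1, 2, 1, 1, 0, 0],
  [1, 1, 1, 2, 1, 1, 1, 0],
  [1, 1, 1, 2, 1, 1, 1, 1],
  [1, 1, 1, 2, 2, 1, 0, 0],
  [1, 1, 1, 2, 2, 1, 1, 0],
  [1, 1, 1, 2, 2, 1, 1, 1],
  [1, 1, 1, 2, 2, 2, 1, 0],
  [1, 1, 1, 2, 2, 2, 1, 1],
  [1, 1, 1, 2, 2, 2, 2, 1],
  [1, 1, 2, 2, 1, 0, 0, 0],
  [1, 1, 2, 2, 1, 1, 0, 0],
  [1, 1, 2, 2, 1, 1, 1, 0],
  [1, 1, 2, 2, 1, 1, 1, 1],
  [1, 1, 2, 2, 2, 1, 0, 0],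
  [1, 1, 2, 2, 2, 1, 1, 0],
  [1, 1, 2, 2, 2, 1, 1, 1],
  [1, 1, 2, 2, 2, 2, 1, 0],
  [1, 1, 2, 2, 2, 2, 1, 1],
  [1, 1, 2, 2, 2, 2, 2, 1],
  [1, 1, 2, 3, 2, 1, 0, 0],
  [1, 1, 2, 3, 2, 1, 1, 0],
  [1, 1, 2, 3, 2, 1, 1, 1],
  [1, 1, 2, 3, 2, 2, 1, 0],
  [1, 1, 2, 3, 2, 2, 1, 1],
  [1, 1, 2, 3, 2, 2, 2, 1],
  [1, 1, 2, 3, 3, 2, 1, 0],
  [1, 1, 2, 3, 3, 2, 1, 1],
  [1, 1, 2, 3, 3, 2, 2, 1],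
  [1, 1, 2, 3, 3, 3, 2, 1],
  [1, 2, 2, 3, 2, 1, 0, 0],
  [1, 2, 2, 3, 2, 1, 1, 0],
  [1, 2, 2, 3, 2, 1, 1, 1],
  [1, 2, 2, 3, 2, 2, 1, 0],
  [1, 2, 2, 3, 2, 2, 1, 1],
  [1, 2, 2, 3, 2, 2, 2, 1],
  [1, 2, 2, 3, 3, 2, 1, 0],
  [1, 2, 2, 3, 3, 2, 1, 1],
  [1, 2, 2, 3, 3, 2, 2, 1],
  [1, 2, 2, 3, 3, 3, 2, 1],
  [1, 2, 2, 4, 3, 2, 1, 0],
  [1, 2, 2, 4, 3, 2, 1, 1],
  [1, 2, 2, 4, 3, 2, 2, 1],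
  [1, 2, 2, 4, 3, 3, 2, 1],
  [1, 2, 2, 4, 4, 3, 2, 1],
  [1, 2, 3, 4, 3, 2, 1, 0],
  [1, 2, 3, 4, 3, 2, 1, 1],
  [1, 2, 3, 4, 3, 2, 2, 1],
  [1, 2, 3, 4, 3, 3, 2, 1],
  [1, 2, 3, 4, 4, 3, 2, 1],
  [1, 2, 3, 5, 4, 3, 2, 1],
  [1, 3, 3, 5, 4, 3, 2, 1],
  [2, 2, 3, 4, 3, 2, 1, 0],
  [2, 2, 3, 4, 3, 2, 1, 1],
  [2, 2, 3, 4, 3, 2, 2, 1],
  [2, 2, 3, 4, 3, 3, 2, 1],
  [2, 2, 3, 4, 4, 3, 2, 1],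
  [2, 2, 3, 5, 4, 3, 2, 1],
  [2, 2, 4, 5, 4, 3, 2, 1],
  [2, 3, 3, 5, 4, 3, 2, 1],
  [2, 3, 4, 5, 4, 3, 2, 1],
  [2, 3, 4, 6, 4, 3, 2, 1],
  [2, 3, 4, 6, 5, 3, 2, 1],
  [2, 3, 4, 6, 5, 4, 2, 1],
  [2, 3, 4, 6, 5, 4, 3, 1],
  [2, 3, 4, 6, 5, 4, 3, 2]]

theorem expOKB_G2 : expOKB chevG2 expR_G2 = true := by decide +kernel
theorem expOKB_B2 : expOKB chevB2 expR_B2 = true := by decide +kernel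
theorem expOKB_D4 : expOKB chevD4 expR_D4 = true := by decide +kernel
theorem expOKB_F4 : expOKB chevF4 expR_F4 = true := by decide +kernel
theorem expOKB_E6 : expOKB chevE6 expR_E6 = true := by decide +kernel
theorem expOKB_E7 : expOKB chevE7 expR_E7 = true := by decide +kernel
theorem expOKB_E8 : expOKB chevE8 expR_E8 = true := by decide +kernel

theorem exists_expR (D : ChevalleyDatum)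
    (hD : D ∈ [chevG2, chevB2, chevD4, chevF4, chevE6, chevE7, chevE8]) :
    ∃ R : List (List ℤ), expOKB D R = true :=
  Cfsg.Agent.Lib.Helper7.mem_seven_cases (P := fun D => ∃ R : List (List ℤ), expOKB D R = true)
    ⟨_, expOKB_G2⟩ ⟨_, expOKB_B2⟩ ⟨_, expOKB_D4⟩ ⟨_, expOKB_F4⟩ ⟨_, expOKB_E6⟩ ⟨_, expOKB_E7⟩
    ⟨_, expOKB_E8⟩ D hD

end Cfsg.Agent.Lib.Helper25.BT
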