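import Cfsg.Agent.Lib.Helper7.ChevTwistRank1
import Cfsg.Agent.Lib.Helper7.ChevLevi
import Cfsg.Agent.Lib.Helper7.ChevRootMain
import Cfsg.Agent.Lib.Helper7.ChevCanon
import Cfsg.Agent.Lib.Helper7.ChevPar0

/-! Root combinatorics for the classification of involutions of Chevalley groups in characteristic
two: the linear action of words of fundamental reflections on coroot coordinates, and the shape of the
"stuck" involutions `w` of the Weyl group (every fundamental root is fixed or made negative): a positive
root with positive image lies in the subsystem of the fixed fundamental roots (helper25). -/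

set_option autoImplicit false

namespace Cfsg.Agent.Lib.Helper25.ChInv

open Cfsg Cfsg.Lie Matrix
open Cfsg.Agent.Lib.Helper7

/-- the `k`-th coordinate of the coroot of the root `r` on the fundamental coroots -/
def corC (D : ChevalleyDatum) (r k : ℕ) : ℤ := (D.coroot.getD r #[]).getD k 0

theorem sum_range_map (n : ℕ) (f : ℕ → ℤ) : ((List.range n).map f).sum = ∑ j ∈ Finset.range n, f j := by
  induction n with
  | zero => simp
  | succ n ih => rw [List.range_succ, List.map_append, List.sum_append, ih, Finset.sum_range_succ]; simp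

section
variable (D : ChevalleyDatum) (hD : D ∈ [chevG2, chevB2, chevD4, chevF4, chevE6, chevE7, chevE8])
include hD

theorem corC_simple (j : ℕ) (hj : j < D.rank) (k : ℕ) (hk : k < D.rank) :
    corC D (D.simple j) k = if k = j then 1 else 0 :=
  (fundFacts_of_mem D hD j hj).corUnit k hk

theorem corC_reflect (i : ℕ) (hi : i < D.rank) (s : ℕ) (hs : s < D.nroots) (k : ℕ) (hk : k < D.rank) :
    corC D (D.reflectRoot i s) k = corC D s k -
      (if k = i then ∑ j ∈ Finset.range D.rank, corC D s j * D.cartan j (D.simple i) else 0) := by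
  rw [← sum_range_map]
  exact (conjFacts_of_mem D hD i hi).corRefl k hk s hs

/-- coroot coordinates are linear in the root under a word of fundamental reflections -/
theorem corC_reflWord : ∀ (L : List ℕ), (∀ i ∈ L, i < D.rank) → ∀ r < D.nroots, ∀ k < D.rank,
    corC D (reflWord D L r) k =
      ∑ j ∈ Finset.range D.rank, corC D r j * corC D (reflWord D L (D.simple j)) k
  | [], _, r, _, k, hk => by
    show corC D r k = _
    have : ∀ j ∈ Finset.range D.rank, corC D r j * corC D (reflWord D [] (D.simple j)) k =
        if j = k then corC D r k else 0 := by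
      intro j hj
      have hj' := Finset.mem_range.mp hj
      show corC D r j * corC D (D.simple j) k = _
      rw [corC_simple D hD j hj' k hk]
      by_cases h : k = j
      · rw [if_pos h, if_pos h.symm, mul_one, h]
      · rw [if_neg h, if_neg (fun hh => h hh.symm), mul_zero]
    rw [Finset.sum_congr rfl this, Finset.sum_ite_eq', if_pos (Finset.mem_range.mpr hk)]
  | i :: L, hL, r, hr, k, hk => by
    have hi : i < D.rank := hL i List.mem_cons_self
    have hL' : ∀ j ∈ L, j < D.rank := fun j hj => hL j (List.mem_cons_of_mem _ hj)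
    have ih := corC_reflWord L hL' r hr
    have hlt := reflWord_lt' D hD L hL' r hr
    have hF := fun j (hj : j < D.rank) => (fundFacts_of_mem D hD j hj).hp
    show corC D (D.reflectRoot i (reflWord D L r)) k =
      ∑ j ∈ Finset.range D.rank, corC D r j * corC D (D.reflectRoot i (reflWord D L (D.simple j))) k
    rw [corC_reflect D hD i hi _ hlt k hk]
    have e1 : ∀ j ∈ Finset.range D.rank, corC D r j * corC D (D.reflectRoot i (reflWord D L (D.simple j))) k =
        corC D r j * corC D (reflWord D L (D.simple j)) k -
          (if k = i then corC D r j * ∑ m ∈ Finset.range D.rank,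
            corC D (reflWord D L (D.simple j)) m * D.cartan m (D.simple i) else 0) := by
      intro j hj
      have hj' := Finset.mem_range.mp hj
      rw [corC_reflect D hD i hi _ (reflWord_lt' D hD L hL' _ (hF j hj')) k hk]
      split_ifs <;> ring
    rw [Finset.sum_congr rfl e1, Finset.sum_sub_distrib, ← ih k hk]
    congr 1
    by_cases hki : k = i
    · simp only [if_pos hki]
      have e2 : ∀ m ∈ Finset.range D.rank, corC D (reflWord D L r) m * D.cartan m (D.simple i) =
          ∑ j ∈ Finset.range D.rank, corC D r j * (corC D (reflWord D L (D.simple j)) m *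
            D.cartan m (D.simple i)) := by
        intro m hm
        rw [ih m (Finset.mem_range.mp hm), Finset.sum_mul]
        apply Finset.sum_congr rfl
        intro j _
        ring
      rw [Finset.sum_congr rfl e2, Finset.sum_comm]
      apply Finset.sum_congr rfl
      intro j _
      rw [Finset.mul_sum]
    · simp only [if_neg hki]
      simp


/-- a root is not positive and negative at once -/
theorem not_pos_and_neg (r : ℕ) (hp : D.IsPosRoot r) (hn : D.IsNegRoot r) : False := by
  have hR := rootFacts_of_mem D hD r hp.1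
  have h0 : ∀ k, corC D r k = 0 := fun k =>
    le_antisymm (getD_coroot_nonpos D r hn k) (getD_coroot_nonneg D r hp k)
  have h2 := hR.Ar
  unfold carR at h2
  have : ((List.range D.rank).map fun k => (D.coroot.getD r #[]).getD k 0 * D.cartan k r).sum = 0 := by
    apply List.sum_eq_zero
    intro x hx
    rw [List.mem_map] at hx
    obtain ⟨k, -, rfl⟩ := hx
    have := h0 k
    unfold corC at this
    rw [this, zero_mul]
  omega

theorem corC_neg (r : ℕ) (hr : r < D.nroots) (k : ℕ) (hk : k < D.rank) :
    corC D (D.neg r) k = - corC D r k :=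
  (rootFacts_of_mem D hD r hr).rank1.cor k hk

/-- the shape of a "stuck" involution of the Weyl group: `f` fixes the fundamental roots of `J` and makes
the others negative -/
structure StuckW (f : ℕ → ℕ) (J : Set ℕ) : Prop where
  fix : ∀ i < D.rank, i ∈ J → f (D.simple i) = D.simple i
  neg : ∀ i < D.rank, i ∉ J → D.IsNegRoot (f (D.simple i))

section stuck
variable (L : List ℕ) (hL : ∀ i ∈ L, i < D.rank)
variable (hinv : ∀ r < D.nroots, reflWord D L (reflWord D L r) = r)
variable (J : Set ℕ) (hS : StuckW D (reflWord D L) J)
include hL hinv hS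

/-- for `j ∉ J` the negative root `f p_j` is not in `Φ_J` -/
theorem stuck_exists_out (j : ℕ) (hj : j < D.rank) (hjJ : j ∉ J) :
    ∃ k < D.rank, k ∉ J ∧ corC D (reflWord D L (D.simple j)) k < 0 := by
  classical
  by_contra hcon
  push Not at hcon
  have hF := fun i (hi : i < D.rank) => (fundFacts_of_mem D hD i hi).hp
  have hneg := hS.neg j hj hjJ
  have h0 : ∀ k < D.rank, k ∉ J → corC D (reflWord D L (D.simple j)) k = 0 := fun k hk hkJ =>
    le_antisymm (getD_coroot_nonpos D _ hneg k) (hcon k hk hkJ)
  have h1 := corC_reflWord D hD L hL (reflWord D L (D.simple j)) hneg.1 j hj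
  rw [hinv _ (hF j hj), corC_simple D hD j hj j hj, if_pos rfl] at h1
  have h2 : ∀ i ∈ Finset.range D.rank,
      corC D (reflWord D L (D.simple j)) i * corC D (reflWord D L (D.simple i)) j = 0 := by
    intro i hi
    have hi' := Finset.mem_range.mp hi
    by_cases hiJ : i ∈ J
    · rw [hS.fix i hi' hiJ, corC_simple D hD i hi' j hj]
      have : j ≠ i := fun h => hjJ (h ▸ hiJ)
      rw [if_neg this, mul_zero]
    · rw [h0 i hi' hiJ, zero_mul]
  rw [Finset.sum_eq_zero h2] at h1
  exact one_ne_zero h1

/-- a positive root whose image under a stuck involution is positive lies in `Φ_J` -/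
theorem stuck_inRootSub (r : ℕ) (hr : D.IsPosRoot r) (hfr : D.IsPosRoot (reflWord D L r)) :
    D.InRootSub J r := by
  classical
  refine ⟨hr.1, fun i0 hi0 hi0J => ?_⟩
  by_contra hne
  have hpos : 0 < corC D r i0 := lt_of_le_of_ne (getD_coroot_nonneg D r hr i0) (Ne.symm hne)
  obtain ⟨k0, hk0, hk0J, hlt⟩ := stuck_exists_out D hD L hL hinv J hS i0 hi0 hi0J
  have h1 := corC_reflWord D hD L hL r hr.1 k0 hk0
  have hge : 0 ≤ corC D (reflWord D L r) k0 := getD_coroot_nonneg D _ hfr k0
  have hsum : ∑ j ∈ Finset.range D.rank, corC D r j * corC D (reflWord D L (D.simple j)) k0 <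
      ∑ _j ∈ Finset.range D.rank, (0 : ℤ) := by
    apply Finset.sum_lt_sum
    · intro i hi
      have hi' := Finset.mem_range.mp hi
      by_cases hiJ : i ∈ J
      · rw [hS.fix i hi' hiJ, corC_simple D hD i hi' k0 hk0]
        have : k0 ≠ i := fun h => hk0J (h ▸ hiJ)
        rw [if_neg this, mul_zero]
      · exact mul_nonpos_of_nonneg_of_nonpos (getD_coroot_nonneg D r hr i)
          (getD_coroot_nonpos D _ (hS.neg i hi' hiJ) k0)
    · exact ⟨i0, Finset.mem_range.mpr hi0, mul_neg_of_pos_of_neg hpos hlt⟩
  rw [Finset.sum_const_zero] at hsum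
  omega

/-- a stuck involution preserves the coroot coordinates of the roots of `Φ_J` -/
theorem stuck_corC_of_inRootSub (r : ℕ) (hJ : D.InRootSub J r) (k : ℕ) (hk : k < D.rank) :
    corC D (reflWord D L r) k = corC D r k := by
  classical
  rw [corC_reflWord D hD L hL r hJ.1 k hk]
  have h2 : ∀ i ∈ Finset.range D.rank,
      corC D r i * corC D (reflWord D L (D.simple i)) k = if i = k then corC D r k else 0 := by
    intro i hi
    have hi' := Finset.mem_range.mp hi
    by_cases hiJ : i ∈ J
    · rw [hS.fix i hi' hiJ, corC_simple D hD i hi' k hk]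
      by_cases hki : k = i
      · rw [if_pos hki, if_pos hki.symm, mul_one, hki]
      · rw [if_neg hki, if_neg (fun h => hki h.symm), mul_zero]
    · have : corC D r i = 0 := hJ.2 i hi' hiJ
      rw [this, zero_mul]
      by_cases hki : i = k
      · rw [if_pos hki, ← hki, this]
      · rw [if_neg hki]
  rw [Finset.sum_congr rfl h2, Finset.sum_ite_eq', if_pos (Finset.mem_range.mpr hk)]

theorem stuck_pos_of_inRootSub (r : ℕ) (hr : D.IsPosRoot r) (hJ : D.InRootSub J r) :
    D.IsPosRoot (reflWord D L r) ∧ D.InRootSub J (reflWord D L r) := by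
  have hlt := reflWord_lt' D hD L hL r hr.1
  have hc := stuck_corC_of_inRootSub D hD L hL hinv J hS r hJ
  constructor
  · rcases posOrNeg_of_mem D hD _ hlt with hp | hn
    · exact hp
    · exfalso
      -- then `r` is negative as well
      have hR := rootFacts_of_mem D hD r hr.1
      have h0 : ∀ k < D.rank, corC D r k = 0 := fun k hk =>
        le_antisymm (by rw [← hc k hk]; exact getD_coroot_nonpos D _ hn k) (getD_coroot_nonneg D r hr k)
      have h2 := hR.Ar
      unfold carR at h2
      have : ((List.range D.rank).map fun k => (D.coroot.getD r #[]).getD k 0 * D.cartan k r).sum = 0 := by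
        apply List.sum_eq_zero
        intro x hx
        rw [List.mem_map] at hx
        obtain ⟨k, hk, rfl⟩ := hx
        have := h0 k (List.mem_range.mp hk)
        unfold corC at this
        rw [this, zero_mul]
      omega
  · refine ⟨hlt, fun k hk hkJ => ?_⟩
    have := hc k hk
    unfold corC at this
    rw [this]
    exact hJ.2 k hk hkJ

/-- the images of the positive roots outside `Φ_J` are negative -/
theorem stuck_neg_of_not_inRootSub (r : ℕ) (hr : D.IsPosRoot r) (hJ : ¬ D.InRootSub J r) :
    D.IsNegRoot (reflWord D L r) := by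
  rcases posOrNeg_of_mem D hD _ (reflWord_lt' D hD L hL r hr.1) with hp | hn
  · exact absurd (stuck_inRootSub D hD L hL hinv J hS r hr hp) hJ
  · exact hn

end stuck


theorem isNegRoot_neg (r : ℕ) (hr : D.IsPosRoot r) : D.IsNegRoot (D.neg r) :=
  posNegOK_of_mem D hD r hr.1 hr

theorem isPosRoot_neg (r : ℕ) (hr : D.IsNegRoot r) : D.IsPosRoot (D.neg r) :=
  (negInvOK_of_mem D hD r hr.1).2.2 hr

theorem neg_neg_root (r : ℕ) (hr : r < D.nroots) : D.neg (D.neg r) = r :=
  (negInvOK_of_mem D hD r hr).1

theorem neg_lt (r : ℕ) (hr : r < D.nroots) : D.neg r < D.nroots :=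
  (negInvOK_of_mem D hD r hr).2.1

/-- a fundamental reflection permutes the positive roots other than its own root -/
theorem reflect_pos_of_pos (i : ℕ) (hi : i < D.rank) (r : ℕ) (hr : D.IsPosRoot r) (hne : r ≠ D.simple i) :
    D.IsPosRoot (D.reflectRoot i r) := by
  have hC := conjFacts_of_mem D hD i hi
  have h1 := isNegRoot_neg D hD r hr
  have h2 : D.neg r ≠ D.neg (D.simple i) := by
    intro h
    apply hne
    rw [← neg_neg_root D hD r hr.1, h, neg_neg_root D hD _ (fundFacts_of_mem D hD i hi).hp]
  have h3 := reflect_neg_of_neg D hD i hi _ h1 h2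
  rw [(hC.wneg r hr.1).2.1] at h3
  have h4 := isPosRoot_neg D hD _ h3
  rwa [neg_neg_root D hD _ (hC.wlt r hr.1)] at h4

/-- the height of a root, computed on its negative -/
def htN (D : ChevalleyDatum) (r : ℕ) : ℕ := (cabsL D (D.neg r)).sum

theorem simple_inj_mem (i : ℕ) (hi : i < D.rank) (J : Set ℕ) (h : D.InRootSub J (D.simple i)) : i ∈ J := by
  by_contra hcon
  have h1 := h.2 i hi hcon
  have h2 := corC_simple D hD i hi i hi
  unfold corC at h2
  rw [if_pos rfl] at h2
  omega

/-- descent of the positive roots of `Φ_J`: a non-fundamental positive root is moved to a lower one by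
a fundamental reflection of `J` -/
theorem pos_descent (J : Set ℕ) (q : ℕ) (hq : D.IsPosRoot q) (hJ : D.InRootSub J q)
    (hns : ∀ j < D.rank, q ≠ D.simple j) :
    ∃ j < D.rank, j ∈ J ∧ htN D (D.reflectRoot j q) < htN D q := by
  obtain ⟨j, hj, hne, h | h⟩ := (parFacts_of_mem D hD).descent (D.neg q) (isNegRoot_neg D hD q hq)
  · exfalso
    apply hns j hj
    rw [← neg_neg_root D hD q hq.1, h, neg_neg_root D hD _ (fundFacts_of_mem D hD j hj).hp]
  · refine ⟨j, hj, ?_, ?_⟩
    · by_contra hcon
      apply hne
      have := corC_neg D hD q hq.1 j hj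
      unfold corC at this
      rw [this, hJ.2 j hj hcon, neg_zero]
    · unfold htN
      rw [← ((conjFacts_of_mem D hD j hj).wneg q hq.1).2.1]
      exact h

end

end Cfsg.Agent.Lib.Helper25.ChInv
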