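import Cfsg.Agent.Lib.Helper25.BTc
import Cfsg.Agent.Lib.Helper25.BTd0
import Cfsg.Agent.Lib.Helper25.ChInvA

/-!
# Dominant gradings (helper25)

Expansion of a grading on the fundamental roots, sign properties of dominant gradings, and the fact
that every grading can be moved to a dominant one by an element of `N`.
-/

set_option autoImplicit false

namespace Cfsg.Agent.Lib.Helper25.BT

open Cfsg Cfsg.Lie Matrix Cfsg.Agent.Lib.Helper7 Cfsg.Agent.Lib.Helper25.ChInv

/-- semantic content of `expOKB` -/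
structure ExpFacts (D : ChevalleyDatum) (R : List (List ℤ)) : Prop where
  exp : ∀ r < D.nroots, ∀ j < D.rank,
    D.cartan j r = ∑ k ∈ Finset.range D.rank, (R.getD r []).getD k 0 * D.cartan j (D.simple k)
  sgn : ∀ r < D.nroots, ∀ k < D.rank,
    Int.sign ((R.getD r []).getD k 0) = Int.sign ((D.coroot.getD r #[]).getD k 0)

theorem expFacts_of_expOKB (D : ChevalleyDatum) (R : List (List ℤ)) (h : expOKB D R = true) :
    ExpFacts D R := by
  unfold expOKB at h
  simp only [List.all_eq_true, List.mem_range, Bool.and_eq_true, beq_iff_eq] at h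
  refine ⟨fun r hr j hj => ?_, fun r hr k hk => (h r hr).2 k hk⟩
  rw [(h r hr).1 j hj, sum_range_map]

/-- a grading is dominant when it is non-negative on the fundamental roots -/
def Dominant (D : ChevalleyDatum) (lam : Fin D.rank → ℝ) : Prop :=
  ∀ k < D.rank, 0 ≤ gr D lam (D.simple k)

/-- the set of fundamental roots on which a grading vanishes -/
def zeroSet (D : ChevalleyDatum) (lam : Fin D.rank → ℝ) : Set ℕ :=
  {k | k < D.rank ∧ gr D lam (D.simple k) = 0}

section
variable (D : ChevalleyDatum) (hD : D ∈ [chevG2, chevB2, chevD4, chevF4, chevE6, chevE7, chevE8])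
include hD

/-- expansion of a grading on the fundamental roots -/
theorem gr_expand (R : List (List ℤ)) (hR : ExpFacts D R) (lam : Fin D.rank → ℝ) (r : ℕ)
    (hr : r < D.nroots) :
    gr D lam r = ∑ k ∈ Finset.range D.rank, ((R.getD r []).getD k 0 : ℝ) * gr D lam (D.simple k) := by
  unfold gr
  have h1 : ∀ j : Fin D.rank, lam j * (D.cartan j.val r : ℝ) =
      ∑ k ∈ Finset.range D.rank,
        ((R.getD r []).getD k 0 : ℝ) * (lam j * (D.cartan j.val (D.simple k) : ℝ)) := by
    intro j
    rw [hR.exp r hr j.val j.isLt]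
    push_cast
    rw [Finset.mul_sum]
    apply Finset.sum_congr rfl
    intro k _
    ring
  rw [Finset.sum_congr rfl (fun j _ => h1 j), Finset.sum_comm]
  apply Finset.sum_congr rfl
  intro k _
  rw [Finset.mul_sum]

omit hD in
theorem coef_nonneg (R : List (List ℤ)) (hR : ExpFacts D R) (r : ℕ) (hr : D.IsPosRoot r) (k : ℕ)
    (hk : k < D.rank) : 0 ≤ (R.getD r []).getD k 0 := by
  have h1 := hR.sgn r hr.1 k hk
  have h2 := getD_coroot_nonneg D r hr k
  rw [← Int.sign_nonneg_iff] at h2 ⊢
  rw [h1]; exact h2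

omit hD in
theorem coef_eq_zero_iff (R : List (List ℤ)) (hR : ExpFacts D R) (r : ℕ) (hr : r < D.nroots) (k : ℕ)
    (hk : k < D.rank) : (R.getD r []).getD k 0 = 0 ↔ (D.coroot.getD r #[]).getD k 0 = 0 := by
  have h1 := hR.sgn r hr k hk
  constructor
  · intro h
    rw [h, Int.sign_zero] at h1
    exact Int.sign_eq_zero_iff_zero.mp h1.symm
  · intro h
    rw [h, Int.sign_zero] at h1
    exact Int.sign_eq_zero_iff_zero.mp h1

/-- a dominant grading is non-negative on the positive roots -/
theorem dominant_nonneg (lam : Fin D.rank → ℝ) (hdom : Dominant D lam) (r : ℕ) (hr : D.IsPosRoot r) :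
    0 ≤ gr D lam r := by
  obtain ⟨R, hR0⟩ := exists_expR D hD
  have hR := expFacts_of_expOKB D R hR0
  rw [gr_expand D hD R hR lam r hr.1]
  apply Finset.sum_nonneg
  intro k hk
  have hk' := Finset.mem_range.mp hk
  have h1 : (0 : ℝ) ≤ ((R.getD r []).getD k 0 : ℝ) := by exact_mod_cast coef_nonneg D R hR r hr k hk'
  exact mul_nonneg h1 (hdom k hk')

/-- a grading vanishes on the root subsystem spanned by the fundamental roots on which it vanishes -/
theorem gr_eq_zero_of_inRootSub (lam : Fin D.rank → ℝ) (r : ℕ)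
    (hr : D.InRootSub (zeroSet D lam) r) : gr D lam r = 0 := by
  obtain ⟨R, hR0⟩ := exists_expR D hD
  have hR := expFacts_of_expOKB D R hR0
  rw [gr_expand D hD R hR lam r hr.1]
  apply Finset.sum_eq_zero
  intro k hk
  have hk' := Finset.mem_range.mp hk
  by_cases hkJ : k ∈ zeroSet D lam
  · rw [hkJ.2, mul_zero]
  · have := (coef_eq_zero_iff D R hR r hr.1 k hk').mpr (hr.2 k hk' hkJ)
    rw [this]; simp

/-- a dominant grading is positive on the positive roots outside the subsystem of its zero set -/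
theorem dominant_pos (lam : Fin D.rank → ℝ) (hdom : Dominant D lam) (r : ℕ) (hr : D.IsPosRoot r)
    (hnr : ¬ D.InRootSub (zeroSet D lam) r) : 0 < gr D lam r := by
  obtain ⟨R, hR0⟩ := exists_expR D hD
  have hR := expFacts_of_expOKB D R hR0
  have hex : ∃ k < D.rank, k ∉ zeroSet D lam ∧ (D.coroot.getD r #[]).getD k 0 ≠ 0 := by
    by_contra hcon
    push Not at hcon
    exact hnr ⟨hr.1, hcon⟩
  obtain ⟨k, hk, hkJ, hne⟩ := hex
  rw [gr_expand D hD R hR lam r hr.1]
  have hterm : ∀ k' ∈ Finset.range D.rank,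
      0 ≤ ((R.getD r []).getD k' 0 : ℝ) * gr D lam (D.simple k') := by
    intro k' hk'
    have hk'' := Finset.mem_range.mp hk'
    have h1 : (0 : ℝ) ≤ ((R.getD r []).getD k' 0 : ℝ) := by
      exact_mod_cast coef_nonneg D R hR r hr k' hk''
    exact mul_nonneg h1 (hdom k' hk'')
  have h1 : ((R.getD r []).getD k 0 : ℝ) * gr D lam (D.simple k) ≤
      ∑ k ∈ Finset.range D.rank, ((R.getD r []).getD k 0 : ℝ) * gr D lam (D.simple k) :=
    Finset.single_le_sum hterm (Finset.mem_range.mpr hk)
  have h2 : (R.getD r []).getD k 0 ≠ 0 := fun h => hne ((coef_eq_zero_iff D R hR r hr.1 k hk).mp h)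
  have h3 : (0 : ℤ) < (R.getD r []).getD k 0 := lt_of_le_of_ne (coef_nonneg D R hR r hr k hk) (Ne.symm h2)
  have h4 : (0 : ℝ) < ((R.getD r []).getD k 0 : ℝ) := by exact_mod_cast h3
  have h5 : 0 < gr D lam (D.simple k) := by
    refine lt_of_le_of_ne (hdom k hk) (fun h => hkJ ⟨hk, h.symm⟩)
  have := mul_pos h4 h5
  linarith

/-- a dominant grading which vanishes on all fundamental roots vanishes -/
theorem gr_eq_zero_of_simple (lam : Fin D.rank → ℝ) (h0 : ∀ k < D.rank, gr D lam (D.simple k) = 0)
    (r : ℕ) (hr : r < D.nroots) : gr D lam r = 0 := by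
  obtain ⟨R, hR0⟩ := exists_expR D hD
  have hR := expFacts_of_expOKB D R hR0
  rw [gr_expand D hD R hR lam r hr]
  apply Finset.sum_eq_zero
  intro k hk
  rw [h0 k (Finset.mem_range.mp hk), mul_zero]

end

/-! ### Moving a grading by an element of `N` -/

section
variable (D : ChevalleyDatum) (F : Type*) [Field F]

/-- `n` moves the grading `lam` to `lam'` -/
def Moves (n : GL D.Idx F) (lam lam' : Fin D.rank → ℝ) : Prop :=
  ∃ σ : Equiv.Perm (Fin D.nroots), Mono D F (n : Matrix D.Idx D.Idx F) σ ∧
    Mono D F ((n⁻¹ : GL D.Idx F) : Matrix D.Idx D.Idx F) σ⁻¹ ∧ grv D lam' = grv D lam ∘ σ.symm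

theorem Moves.refl (lam : Fin D.rank → ℝ) : Moves D F 1 lam lam :=
  ⟨1, by simpa using Mono.one D F, by simpa using Mono.one D F, rfl⟩

theorem Moves.trans {n n1 : GL D.Idx F} {lam lam1 lam' : Fin D.rank → ℝ} (h : Moves D F n lam lam1)
    (h1 : Moves D F n1 lam1 lam') : Moves D F (n1 * n) lam lam' := by
  obtain ⟨σ, a1, a2, a3⟩ := h
  obtain ⟨σ1, b1, b2, b3⟩ := h1
  refine ⟨σ1 * σ, ?_, ?_, ?_⟩
  · rw [Units.val_mul]; exact b1.mul a1
  · rw [_root_.mul_inv_rev, Units.val_mul, _root_.mul_inv_rev]; exact a2.mul b2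
  · rw [b3, a3]; rfl

theorem Moves.nsq_eq {n : GL D.Idx F} {lam lam' : Fin D.rank → ℝ} (h : Moves D F n lam lam') :
    nsq (grv D lam') = nsq (grv D lam) := by
  obtain ⟨σ, -, -, a3⟩ := h
  rw [a3]
  exact nsq_comp_equiv _ σ.symm

theorem Moves.UF_conj {n : GL D.Idx F} {lam lam' : Fin D.rank → ℝ} (h : Moves D F n lam lam')
    {t : ℝ} {M : Matrix D.Idx D.Idx F} (hM : UF (wtv D (grv D lam)) t M) :
    UF (wtv D (grv D lam')) t ((n : Matrix D.Idx D.Idx F) * M * ((n⁻¹ : GL D.Idx F) : Matrix D.Idx D.Idx F)) := by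
  obtain ⟨σ, a1, a2, a3⟩ := h
  rw [a3]
  refine a1.UF_conj a2 ?_ (grv D lam) hM
  rw [← Units.val_mul, mul_inv_cancel, Units.val_one]

/-- an element of `N` fixing a grading preserves it -/
theorem Moves.BF_of_eq {n : GL D.Idx F} {lam lam' : Fin D.rank → ℝ} (h : Moves D F n lam lam')
    (he : grv D lam' = grv D lam) : BF (wtv D (grv D lam)) (n : Matrix D.Idx D.Idx F) := by
  obtain ⟨σ, a1, -, a3⟩ := h
  intro b a hba
  have := a1.wt_eq (grv D lam) b a hba
  rw [← a3, he] at this
  exact this

end

section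
variable (D : ChevalleyDatum) (hD : D ∈ [chevG2, chevB2, chevD4, chevF4, chevE6, chevE7, chevE8])
variable (F : Type*) [Field F]
include hD

theorem exists_moves_of_mem_monomial (n : GL D.Idx F) (hn : n ∈ D.monomialSubgroup F)
    (lam : Fin D.rank → ℝ) : ∃ lam', Moves D F n lam lam' := by
  obtain ⟨σ, a1, a2, a3, -⟩ := nCompat_of_mem_monomial D hD F n hn
  obtain ⟨lam', h'⟩ := a3 lam
  exact ⟨lam', σ, a1, a2, h'⟩

open Classical in
/-- the number of positive roots on which a grading is negative -/
noncomputable def negCount (lam : Fin D.rank → ℝ) : ℕ :=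
  (Finset.univ.filter (fun u : Fin D.nroots => D.IsPosRoot u.val ∧ grv D lam u < 0)).card

omit hD in
theorem gr_neg (hD' : D ∈ [chevG2, chevB2, chevD4, chevF4, chevE6, chevE7, chevE8])
    (lam : Fin D.rank → ℝ) (r : ℕ) (hr : r < D.nroots) : gr D lam (D.neg r) = - gr D lam r :=
  (chainAddR_gr D hD' lam).negA r hr (neg_lt D hD' r hr)

open Classical in
/-- a fundamental reflection at a fundamental root of negative degree lowers `negCount` -/
theorem negCount_lt (i : ℕ) (hi : i < D.rank) (lam lam1 : Fin D.rank → ℝ)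
    (h1 : grv D lam1 = grv D lam ∘ (reflPerm D hD i hi)) (hneg : gr D lam (D.simple i) < 0) :
    negCount D lam1 < negCount D lam := by
  have hF := fundFacts_of_mem D hD i hi
  set p : Fin D.nroots := ⟨D.simple i, hF.hp⟩ with hp
  set σ := reflPerm D hD i hi with hσ
  unfold negCount
  set S := Finset.univ.filter (fun u : Fin D.nroots => D.IsPosRoot u.val ∧ grv D lam u < 0) with hS
  set S1 := Finset.univ.filter (fun u : Fin D.nroots => D.IsPosRoot u.val ∧ grv D lam1 u < 0) with hS1
  have hpS : p ∈ S := by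
    rw [hS, Finset.mem_filter]
    exact ⟨Finset.mem_univ _, (parFacts_of_mem D hD).simplePos i hi, hneg⟩
  have hsub : S1.image σ ⊆ S.erase p := by
    intro v hv
    rw [Finset.mem_image] at hv
    obtain ⟨u, hu, rfl⟩ := hv
    rw [hS1, Finset.mem_filter] at hu
    obtain ⟨-, hupos, hulam⟩ := hu
    rw [h1] at hulam
    have hup : u ≠ p := by
      rintro rfl
      have e : grv D lam (σ p) = gr D lam (D.neg (D.simple i)) := by
        show gr D lam (σ p).val = _
        rw [hσ, reflPerm_apply]
        show gr D lam (D.reflectRoot i (D.simple i)) = _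
        rw [reflectRoot_simple]
      have : grv D lam (σ p) < 0 := hulam
      rw [e, gr_neg D hD lam _ hF.hp] at this
      linarith
    have hup' : u.val ≠ D.simple i := fun h => hup (Fin.ext h)
    rw [Finset.mem_erase]
    refine ⟨?_, ?_⟩
    · intro h
      have h2 : σ (σ u) = σ p := by rw [h]
      have h3 : σ (σ u) = u := by
        have := reflPerm_inv D hD i hi
        rw [← hσ] at this
        calc σ (σ u) = σ⁻¹ (σ u) := by rw [this]
          _ = u := by simp
      have h4 : (σ p).val = D.neg (D.simple i) := by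
        rw [hσ, reflPerm_apply]
        show D.reflectRoot i (D.simple i) = _
        rw [reflectRoot_simple]
      rw [h3] at h2
      have hneg' := isNegRoot_neg D hD _ ((parFacts_of_mem D hD).simplePos i hi)
      rw [← h4, ← h2] at hneg'
      exact not_pos_and_neg D hD u.val hupos hneg'
    · rw [hS, Finset.mem_filter]
      refine ⟨Finset.mem_univ _, ?_, hulam⟩
      rw [hσ, reflPerm_apply]
      exact reflect_pos_of_pos D hD i hi u.val hupos hup'
  have hcard : S1.card = (S1.image σ).card := (Finset.card_image_of_injective _ σ.injective).symm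
  rw [hcard]
  calc (S1.image σ).card ≤ (S.erase p).card := Finset.card_le_card hsub
    _ < S.card := Finset.card_erase_lt_of_mem hpS

/-- every grading can be moved to a dominant one by an element of `N` -/
theorem exists_moves_dominant (lam : Fin D.rank → ℝ) :
    ∃ n ∈ D.monomialSubgroup F, ∃ lam', Moves D F n lam lam' ∧ Dominant D lam' := by
  induction hm : negCount D lam using Nat.strong_induction_on generalizing lam with
  | _ m ih =>
    by_cases hdom : Dominant D lam
    · exact ⟨1, Subgroup.one_mem _, lam, Moves.refl D F lam, hdom⟩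
    · unfold Dominant at hdom
      push Not at hdom
      obtain ⟨i, hi, hneg⟩ := hdom
      obtain ⟨lam1, h1⟩ := grv_comp_reflPerm D hD i hi lam
      have hlt := negCount_lt D hD i hi lam lam1 h1 hneg
      rw [hm] at hlt
      obtain ⟨n1, hn1, lam', hmv, hdom'⟩ := ih _ hlt lam1 rfl
      refine ⟨n1 * nFund D hD F i, Subgroup.mul_mem _ hn1 (nFund_mem_monomial D hD F i hi), lam', ?_, hdom'⟩
      refine Moves.trans D F ?_ hmv
      obtain ⟨σ, a1, a2, -, -⟩ := nCompat_nFund D hD F i hi
      -- use the explicit permutation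
      have hcoe : ((nFund D hD F i : GL D.Idx F) : Matrix D.Idx D.Idx F) = D.nMat F (D.simple i) 1 := by
        unfold nFund; rw [coe_wordGL]; rfl
      refine ⟨reflPerm D hD i hi, by rw [hcoe]; exact mono_nMat_fund D hD F i hi, ?_, ?_⟩
      · have e : (nFund D hD F i)⁻¹ = nFund D hD F i * ((nFund D hD F i)⁻¹ * (nFund D hD F i)⁻¹) := by
          group
        rw [e, Units.val_mul, hcoe, reflPerm_inv]
        have := (mono_nMat_fund D hD F i hi).mul (mono_diag D hD F _ (nFund_inv_sq_mem D hD F i hi))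
        simpa using this
      · rw [h1]; rfl

end

end Cfsg.Agent.Lib.Helper25.BT
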