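import Cfsg.Agent.Lib.Helper25.BTd
import Cfsg.Agent.Lib.Helper7.ChevSylow
import Cfsg.Agent.Lib.Helper7.ChevLevi3

/-!
# Optimal gradings for a unipotent subgroup (helper25)

Subgroups of a finite `GL` cut out by filtration conditions, existence of a feasible grading for a
`p`-subgroup of a finite Chevalley group, and existence of a feasible grading of minimal norm which is
moreover dominant.
-/

set_option autoImplicit false

namespace Cfsg.Agent.Lib.Helper25.BT

open Cfsg Cfsg.Lie Matrix Cfsg.Agent.Lib.Helper7 Cfsg.Agent.Lib.Helper25.ChInv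

/-! ### Subgroups of a finite general linear group cut out by multiplicative predicates -/

section generic
variable {ι : Type*} [Fintype ι] [DecidableEq ι] {F : Type*} [Field F] [Fintype F]

theorem finite_GL_aux : Finite (GL ι F) :=
  Finite.of_injective (fun g : GL ι F => (g : Matrix ι ι F)) Units.val_injective

/-- the subgroup of the finite group `GL ι F` of the matrices satisfying a multiplicative predicate -/
def predSubgroup (P : Matrix ι ι F → Prop) (h1 : P 1) (hmul : ∀ M M', P M → P M' → P (M * M')) :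
    Subgroup (GL ι F) where
  carrier := {g | P (g : Matrix ι ι F)}
  one_mem' := by
    show P ((1 : GL ι F) : Matrix ι ι F)
    rw [Units.val_one]; exact h1
  mul_mem' := fun {a b} ha hb => by
    show P ((a * b : GL ι F) : Matrix ι ι F)
    rw [Units.val_mul]; exact hmul _ _ ha hb
  inv_mem' := fun {a} ha => by
    haveI : Finite (GL ι F) := finite_GL_aux
    have hpow : ∀ n : ℕ, P ((a ^ n : GL ι F) : Matrix ι ι F) := by
      intro n
      induction n with
      | zero => rw [pow_zero, Units.val_one]; exact h1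
      | succ n ih => rw [pow_succ, Units.val_mul]; exact hmul _ _ ih ha
    have hinv : a⁻¹ = a ^ (orderOf a - 1) := by
      have h := pow_orderOf_eq_one a
      have hpos := orderOf_pos a
      apply inv_eq_of_mul_eq_one_right
      rw [← pow_succ', Nat.sub_add_cancel hpos]; exact h
    show P ((a⁻¹ : GL ι F) : Matrix ι ι F)
    rw [hinv]; exact hpow _

theorem mem_predSubgroup (P : Matrix ι ι F → Prop) (h1 : P 1)
    (hmul : ∀ M M', P M → P M' → P (M * M')) (g : GL ι F) :
    g ∈ predSubgroup P h1 hmul ↔ P (g : Matrix ι ι F) := Iff.rfl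

/-- the weight-nondecreasing elements -/
def rfSubgroup (w : ι → ℝ) : Subgroup (GL ι F) :=
  predSubgroup (RF w 0) (RF.one w) (fun M M' h h' => by simpa using h.mul h')

theorem mem_rfSubgroup (w : ι → ℝ) (g : GL ι F) :
    g ∈ rfSubgroup w ↔ RF w 0 (g : Matrix ι ι F) := Iff.rfl

/-- the weight-preserving elements -/
def bfSubgroup (w : ι → ℝ) : Subgroup (GL ι F) :=
  predSubgroup (BF w) (BF.one w) (fun _ _ h h' => h.mul h')

theorem mem_bfSubgroup (w : ι → ℝ) (g : GL ι F) :
    g ∈ bfSubgroup w ↔ BF w (g : Matrix ι ι F) := Iff.rfl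

/-- the elements which are unipotent of depth `t` -/
def ufSubgroup (w : ι → ℝ) (t : ℝ) (ht : 0 ≤ t) : Subgroup (GL ι F) :=
  predSubgroup (UF w t) (UF.one w t) (fun _ _ h h' => h.mul ht h')

theorem mem_ufSubgroup (w : ι → ℝ) (t : ℝ) (ht : 0 ≤ t) (g : GL ι F) :
    g ∈ ufSubgroup w t ht ↔ UF w t (g : Matrix ι ι F) := Iff.rfl

/-- the elements which are unipotent of some positive depth -/
def ufPosSubgroup (w : ι → ℝ) : Subgroup (GL ι F) :=
  predSubgroup (fun M => ∃ ε : ℝ, 0 < ε ∧ UF w ε M) ⟨1, one_pos, UF.one w 1⟩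
    (fun M M' h h' => by
      obtain ⟨ε, hε, hM⟩ := h
      obtain ⟨ε', hε', hM'⟩ := h'
      refine ⟨min ε ε', lt_min hε hε', ?_⟩
      exact (hM.mono (min_le_left _ _)).mul (le_of_lt (lt_min hε hε')) (hM'.mono (min_le_right _ _)))

theorem mem_ufPosSubgroup (w : ι → ℝ) (g : GL ι F) :
    g ∈ ufPosSubgroup w ↔ ∃ ε : ℝ, 0 < ε ∧ UF w ε (g : Matrix ι ι F) := Iff.rfl

/-- a weight-preserving element which is unipotent of positive depth is trivial -/
theorem eq_one_of_mem_bf_of_mem_ufPos (w : ι → ℝ) (g : GL ι F) (h : g ∈ bfSubgroup w)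
    (h' : g ∈ ufPosSubgroup w) : g = 1 := by
  obtain ⟨ε, hε, hu⟩ := h'
  apply Units.ext
  rw [Units.val_one]
  exact eq_one_of_BF_of_UF hε h hu

end generic

/-! ### Feasible gradings -/

/-- the grading `d` is feasible for `V` after conjugation by `g`: every `g⁻¹ v g`, `v ∈ V`, is unipotent
of depth `1` -/
def Feas (D : ChevalleyDatum) (F : Type*) [Field F] (V : Subgroup (GL D.Idx F)) (g : GL D.Idx F)
    (d : Fin D.nroots → ℝ) : Prop :=
  ∀ v ∈ V, UF (wtv D d) 1 ((g⁻¹ * v * g : GL D.Idx F) : Matrix D.Idx D.Idx F)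

section regular
variable (D : ChevalleyDatum) (hD : D ∈ [chevG2, chevB2, chevD4, chevF4, chevE6, chevE7, chevE8])
include hD

/-- no root lies in the root subsystem spanned by the empty set -/
theorem not_inRootSub_empty (r : ℕ) (hr : r < D.nroots) : ¬ D.InRootSub ∅ r := by
  intro h
  have hR := rootFacts_of_mem D hD r hr
  have h2 := hR.Ar
  unfold carR at h2
  have : ((List.range D.rank).map fun k => (D.coroot.getD r #[]).getD k 0 * D.cartan k r).sum = 0 := by
    apply List.sum_eq_zero
    intro x hx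
    rw [List.mem_map] at hx
    obtain ⟨k, hk, rfl⟩ := hx
    rw [h.2 k (List.mem_range.mp hk) (Set.notMem_empty k), zero_mul]
  omega

/-- there is a grading which is at least `1` on every positive root -/
theorem exists_regular : ∃ lam0 : Fin D.rank → ℝ, ∀ r, D.IsPosRoot r → 1 ≤ gr D lam0 r := by
  obtain ⟨W, hW⟩ := exists_coefW D hD
  refine ⟨fun j => ∑ k ∈ Finset.range D.rank, (((W.getD k []).getD j.val 0 : ℤ) : ℝ), ?_⟩
  intro r hr
  have h1 := levJ_pos D W hW ∅ r hr (not_inRootSub_empty D hD r hr.1)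
  have h2 : gr D (fun j : Fin D.rank => ∑ k ∈ Finset.range D.rank, (((W.getD k []).getD j.val 0 : ℤ) : ℝ)) r
      = ((levJ D W ∅ r : ℤ) : ℝ) := by
    unfold gr levJ
    rw [sum_range_map]
    push_cast
    have e1 : ∀ k ∈ Finset.range D.rank,
        ((if k ∈ (∅ : Set ℕ) then (0 : ℝ) else 1) * ((coefF D W k r : ℤ) : ℝ)) =
          ∑ j ∈ Finset.range D.rank, (((W.getD k []).getD j 0 : ℤ) : ℝ) * ((D.cartan j r : ℤ) : ℝ) := by
      intro k _
      rw [if_neg (Set.notMem_empty k), one_mul]
      unfold coefF linF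
      rw [sum_range_map]
      push_cast
      rfl
    rw [Finset.sum_congr rfl e1, Finset.sum_comm]
    rw [← Fin.sum_univ_eq_sum_range (fun j => ∑ k ∈ Finset.range D.rank,
      (((W.getD k []).getD j 0 : ℤ) : ℝ) * ((D.cartan j r : ℤ) : ℝ)) D.rank]
    apply Finset.sum_congr rfl
    intro j _
    rw [Finset.sum_mul]
  rw [h2]
  exact_mod_cast h1

end regular

section exist
variable (D : ChevalleyDatum) (hD : D ∈ [chevG2, chevB2, chevD4, chevF4, chevE6, chevE7, chevE8])
variable (F : Type*) [Field F] [Fintype F]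
include hD

/-- `U` is unipotent of depth `1` for a grading which is at least `1` on the positive roots -/
theorem posUnipotent_le_uf (lam0 : Fin D.rank → ℝ) (h0 : ∀ r, D.IsPosRoot r → 1 ≤ gr D lam0 r) :
    D.posUnipotent F ≤ ufSubgroup (wtv D (grv D lam0)) 1 zero_le_one := by
  unfold ChevalleyDatum.posUnipotent
  rw [Subgroup.closure_le]
  rintro g ⟨r, t, hr, hg⟩
  show UF (wtv D (grv D lam0)) 1 (g : Matrix D.Idx D.Idx F)
  rw [hg, wtv_grv]
  have h1 := h0 r hr
  exact (x_UF D hD F (chainAddR_gr D hD lam0) r hr.1 t (by linarith)).mono h1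

/-- a `p`-subgroup of `G` is conjugate in `G` to a subgroup of `U` -/
theorem exists_conj_le_posUnipotent (p : ℕ) [Fact p.Prime] [CharP F p] (V : Subgroup (GL D.Idx F))
    (hVG : V ≤ D.group F) (hV : IsPGroup p V) :
    ∃ g ∈ D.group F, ∀ v ∈ V, g⁻¹ * v * g ∈ D.posUnipotent F := by
  classical
  haveI : Finite (GL D.Idx F) := finite_GL_aux
  obtain ⟨P, hP⟩ := posUnipotent_sylow D hD F p
  have hV' : IsPGroup p (V.subgroupOf (D.group F)) := hV.comap_subtype
  obtain ⟨Q, hQ⟩ := hV'.exists_le_sylow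
  obtain ⟨g, hg⟩ := MulAction.exists_smul_eq (↥(D.group F)) Q P
  refine ⟨(g⁻¹ : ↥(D.group F)), (g⁻¹).2, ?_⟩
  intro v hv
  have hv' : (⟨v, hVG hv⟩ : ↥(D.group F)) ∈ V.subgroupOf (D.group F) := by
    rw [Subgroup.mem_subgroupOf]; exact hv
  have h1 : (⟨v, hVG hv⟩ : ↥(D.group F)) ∈ (Q : Subgroup ↥(D.group F)) := hQ hv'
  have h2 : g * (⟨v, hVG hv⟩ : ↥(D.group F)) * g⁻¹ ∈ (P : Subgroup ↥(D.group F)) := by
    rw [← hg, Sylow.coe_subgroup_smul]
    have := Subgroup.smul_mem_pointwise_smul _ (MulAut.conj g) _ h1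
    simpa [MulAut.smul_def] using this
  rw [hP, Subgroup.mem_subgroupOf] at h2
  simpa using h2

/-- existence of a feasible pair -/
theorem exists_feas (p : ℕ) [Fact p.Prime] [CharP F p] (V : Subgroup (GL D.Idx F))
    (hVG : V ≤ D.group F) (hV : IsPGroup p V) :
    ∃ g ∈ D.group F, ∃ lam : Fin D.rank → ℝ, Feas D F V g (grv D lam) := by
  obtain ⟨g, hg, hgV⟩ := exists_conj_le_posUnipotent D hD F p V hVG hV
  obtain ⟨lam0, h0⟩ := exists_regular D hD
  refine ⟨g, hg, lam0, ?_⟩
  intro v hv
  exact posUnipotent_le_uf D hD F lam0 h0 (hgV v hv)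

end exist

/-! ### Existence of a feasible grading of minimal norm -/

section minimise
variable (D : ChevalleyDatum) (F : Type*) [Field F] [Fintype F]

/-- the linear map `lam ↦ grv D lam` -/
def grvL : (Fin D.rank → ℝ) →ₗ[ℝ] (Fin D.nroots → ℝ) where
  toFun := grv D
  map_add' := fun lam mu => by
    funext u
    exact gr_add D lam mu u.val
  map_smul' := fun c lam => by
    funext u
    exact gr_smul D c lam u.val

theorem isClosed_range_grv : IsClosed {d : Fin D.nroots → ℝ | ∃ lam, grv D lam = d} := by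
  have h := Submodule.closed_of_finiteDimensional (LinearMap.range (grvL D))
  have e : {d : Fin D.nroots → ℝ | ∃ lam, grv D lam = d} = (LinearMap.range (grvL D) : Set _) := by
    ext d
    simp only [Set.mem_setOf_eq, SetLike.mem_coe, LinearMap.mem_range]
    rfl
  rw [e]; exact h

theorem continuous_wtv (a : D.Idx) : Continuous (fun d : Fin D.nroots → ℝ => wtv D d a) := by
  rcases a with j | u
  · exact continuous_const
  · exact continuous_apply u

theorem isClosed_feas (V : Subgroup (GL D.Idx F)) (g : GL D.Idx F) :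
    IsClosed {d : Fin D.nroots → ℝ | Feas D F V g d} := by
  unfold Feas UF RF
  simp only [Set.setOf_forall]
  refine isClosed_iInter fun v => isClosed_iInter fun _ => isClosed_iInter fun b =>
    isClosed_iInter fun a => isClosed_iInter fun _ => ?_
  exact isClosed_le ((continuous_wtv D a).add continuous_const) (continuous_wtv D b)

theorem continuous_nsq {κ : Type*} [Fintype κ] : Continuous (fun d : κ → ℝ => nsq d) := by
  unfold nsq
  exact continuous_finset_sum _ fun i _ => (continuous_apply i).pow 2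

/-- the set of feasible gradings (over all conjugating elements of `G`) -/
def feasSet (V : Subgroup (GL D.Idx F)) : Set (Fin D.nroots → ℝ) :=
  {d | (∃ lam, grv D lam = d) ∧ ∃ g ∈ D.group F, Feas D F V g d}

theorem isClosed_feasSet (V : Subgroup (GL D.Idx F)) : IsClosed (feasSet D F V) := by
  haveI : Finite (GL D.Idx F) := finite_GL_aux
  have e : feasSet D F V = {d : Fin D.nroots → ℝ | ∃ lam, grv D lam = d} ∩
      ⋃ g ∈ (D.group F : Set (GL D.Idx F)), {d | Feas D F V g d} := by
    ext d
    simp only [feasSet, Set.mem_setOf_eq, Set.mem_inter_iff, Set.mem_iUnion, SetLike.mem_coe, exists_prop]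
  rw [e]
  apply (isClosed_range_grv D).inter
  exact Set.Finite.isClosed_biUnion (Set.toFinite _) fun g _ => isClosed_feas D F V g

/-- a feasible grading of minimal norm exists as soon as a feasible grading exists -/
theorem exists_minimiser (V : Subgroup (GL D.Idx F)) (g0 : GL D.Idx F) (hg0 : g0 ∈ D.group F)
    (lam0 : Fin D.rank → ℝ) (h0 : Feas D F V g0 (grv D lam0)) :
    ∃ g ∈ D.group F, ∃ lam : Fin D.rank → ℝ, Feas D F V g (grv D lam) ∧
      ∀ g' ∈ D.group F, ∀ lam' : Fin D.rank → ℝ, Feas D F V g' (grv D lam') →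
        nsq (grv D lam) ≤ nsq (grv D lam') := by
  set d0 := grv D lam0 with hd0
  set m := nsq d0 with hm
  have hd0S : d0 ∈ feasSet D F V := ⟨⟨lam0, rfl⟩, g0, hg0, h0⟩
  set K := feasSet D F V ∩ {d | nsq d ≤ m} with hK
  have hKclosed : IsClosed K :=
    (isClosed_feasSet D F V).inter (isClosed_le continuous_nsq continuous_const)
  have hbox : K ⊆ Set.pi Set.univ (fun _ : Fin D.nroots => Set.Icc (-(m + 1)) (m + 1)) := by
    intro d hd i _
    have h1 : d i ^ 2 ≤ m := le_trans (sq_le_nsq d i) hd.2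
    constructor
    · nlinarith [sq_nonneg (d i + 1)]
    · nlinarith [sq_nonneg (d i - 1)]
  have hKcompact : IsCompact K :=
    (isCompact_univ_pi fun _ => isCompact_Icc).of_isClosed_subset hKclosed hbox
  have hKne : K.Nonempty := ⟨d0, hd0S, show nsq d0 ≤ m from le_refl _⟩
  obtain ⟨d, hdK, hmin⟩ := hKcompact.exists_isMinOn hKne continuous_nsq.continuousOn
  obtain ⟨⟨⟨lam, hlam⟩, g, hg, hfe⟩, hdm⟩ := hdK
  refine ⟨g, hg, lam, by rw [hlam]; exact hfe, ?_⟩
  intro g' hg' lam' hfe'
  rw [hlam]
  by_cases hle : nsq (grv D lam') ≤ m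
  · have : grv D lam' ∈ K := ⟨⟨⟨lam', rfl⟩, g', hg', hfe'⟩, hle⟩
    exact hmin this
  · push Not at hle
    have : nsq d ≤ m := hdm
    linarith

end minimise

/-! ### A dominant feasible grading of minimal norm -/

section dominant
variable (D : ChevalleyDatum) (hD : D ∈ [chevG2, chevB2, chevD4, chevF4, chevE6, chevE7, chevE8])
variable (F : Type*) [Field F] [Fintype F]
include hD

/-- feasibility is transported by the elements of `N` -/
theorem Feas.moves {V : Subgroup (GL D.Idx F)} {g n : GL D.Idx F} {lam lam' : Fin D.rank → ℝ}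
    (h : Feas D F V g (grv D lam)) (hn : Moves D F n lam lam') :
    Feas D F V (g * n⁻¹) (grv D lam') := by
  intro v hv
  have h1 := hn.UF_conj D F (h v hv)
  have e : ((g * n⁻¹)⁻¹ * v * (g * n⁻¹) : GL D.Idx F) = n * (g⁻¹ * v * g) * n⁻¹ := by group
  rw [e, Units.val_mul, Units.val_mul]
  exact h1

/-- there is a dominant feasible grading of minimal norm -/
theorem exists_dominant_minimiser (p : ℕ) [Fact p.Prime] [CharP F p] (V : Subgroup (GL D.Idx F))
    (hVG : V ≤ D.group F) (hV : IsPGroup p V) :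
    ∃ g ∈ D.group F, ∃ lam : Fin D.rank → ℝ, Dominant D lam ∧ Feas D F V g (grv D lam) ∧
      ∀ g' ∈ D.group F, ∀ lam' : Fin D.rank → ℝ, Feas D F V g' (grv D lam') →
        nsq (grv D lam) ≤ nsq (grv D lam') := by
  obtain ⟨g0, hg0, lam0, h0⟩ := exists_feas D hD F p V hVG hV
  obtain ⟨g, hg, lam, hfe, hmin⟩ := exists_minimiser D F V g0 hg0 lam0 h0
  obtain ⟨n, hn, lam', hmv, hdom⟩ := exists_moves_dominant D hD F lam
  refine ⟨g * n⁻¹, Subgroup.mul_mem _ hg (Subgroup.inv_mem _ (monomial_le_group D hD F hn)), lam', hdom,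
    Feas.moves D hD F hfe hmv, ?_⟩
  intro g' hg' lam'' hfe'
  rw [hmv.nsq_eq D F]
  exact hmin g' hg' lam'' hfe'

end dominant

end Cfsg.Agent.Lib.Helper25.BT
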