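import Cfsg.Agent.Lib.Helper25.BTe

/-!
# The Borel–Tits property from an optimal grading (helper25)

For a dominant feasible grading `lam` of minimal norm, the normaliser of `V` is conjugated into the group
`Q` of the grading-nondecreasing elements, `Q ∩ G` lies in the standard parabolic subgroup `P_J` for
`J` the zero set of `lam`, and the conjugate of `V` lies in `U_J`.
-/

set_option autoImplicit false

namespace Cfsg.Agent.Lib.Helper25.BT

open Cfsg Cfsg.Lie Matrix Cfsg.Agent.Lib.Helper7 Cfsg.Agent.Lib.Helper25.ChInv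
open Cfsg.Agent.Lib.Helper3.BN

section
variable (D : ChevalleyDatum) (hD : D ∈ [chevG2, chevB2, chevD4, chevF4, chevE6, chevE7, chevE8])
variable (F : Type*) [Field F] [Fintype F]
include hD

/-- `B` is grading-nondecreasing for a dominant grading -/
theorem borel_le_rf (lam : Fin D.rank → ℝ) (hdom : Dominant D lam) :
    D.borelSubgroup F ≤ rfSubgroup (wtv D (grv D lam)) := by
  unfold ChevalleyDatum.borelSubgroup
  apply sup_le
  · unfold ChevalleyDatum.posUnipotent
    rw [Subgroup.closure_le]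
    rintro g ⟨r, t, hr, hg⟩
    show RF (wtv D (grv D lam)) 0 (g : Matrix D.Idx D.Idx F)
    rw [hg, wtv_grv]
    have h0 := dominant_nonneg D hD lam hdom r hr
    exact (x_UF D hD F (chainAddR_gr D hD lam) r hr.1 t h0).toRF h0
  · intro g hg
    show RF (wtv D (grv D lam)) 0 (g : Matrix D.Idx D.Idx F)
    rw [wtv_grv]
    exact (diag_BF D hD F _ g hg).toRF

omit hD in
theorem grv_mid (lam lam' : Fin D.rank → ℝ) :
    grv D (fun k => (lam k + lam' k) / 2) = fun u => (grv D lam u + grv D lam' u) / 2 := by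
  funext u
  show gr D _ u.val = (gr D lam u.val + gr D lam' u.val) / 2
  unfold gr
  rw [← Finset.sum_add_distrib, Finset.sum_div]
  apply Finset.sum_congr rfl
  intro k _
  ring

omit hD in
theorem wtv_mid (d d' : Fin D.nroots → ℝ) :
    wtv D (fun u => (d u + d' u) / 2) = fun i => (wtv D d i + wtv D d' i) / 2 := by
  funext i
  rcases i with j | u
  · show (0 : ℝ) = (0 + 0) / 2
    norm_num
  · rfl

/-- the normaliser of `V` is conjugated into the group of the grading-nondecreasing elements -/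
theorem normalizer_conj_mem_rf (V : Subgroup (GL D.Idx F)) (g : GL D.Idx F) (hg : g ∈ D.group F)
    (lam : Fin D.rank → ℝ) (hdom : Dominant D lam) (hfe : Feas D F V g (grv D lam))
    (hmin : ∀ g' ∈ D.group F, ∀ lam' : Fin D.rank → ℝ, Feas D F V g' (grv D lam') →
      nsq (grv D lam) ≤ nsq (grv D lam'))
    (x : GL D.Idx F) (hxN : x ∈ Subgroup.normalizer (V : Set (GL D.Idx F))) (hxG : x ∈ D.group F) :
    g⁻¹ * x * g ∈ rfSubgroup (wtv D (grv D lam)) := by
  have hBQ := borel_le_rf D hD F lam hdom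
  have hyG : g⁻¹ * x * g ∈ D.group F :=
    Subgroup.mul_mem _ (Subgroup.mul_mem _ (Subgroup.inv_mem _ hg) hxG) hg
  obtain ⟨b, hb, n, hn, u, hu, hy⟩ := canon_exists D hD F _ hyG
  have huB : u ∈ D.borelSubgroup F :=
    posUnipotent_le_borel D hD F (uMinus_le_posUnipotent D F n hu)
  obtain ⟨lam', hmv⟩ := exists_moves_of_mem_monomial D hD F n hn lam
  have hx : x = g * (b * n * u) * g⁻¹ := by rw [← hy]; group
  -- feasibility of `lam` after conjugation by `g b`
  have hf1 : Feas D F V (g * b) (grv D lam) := by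
    intro v hv
    have e : ((g * b)⁻¹ * v * (g * b) : GL D.Idx F) = b⁻¹ * (g⁻¹ * v * g) * b := by group
    rw [e, Units.val_mul, Units.val_mul]
    refine UF.conj (hfe v hv) (hBQ (Subgroup.inv_mem _ hb)) (hBQ hb) ?_
    rw [← Units.val_mul, inv_mul_cancel, Units.val_one]
  -- feasibility of `lam'` after conjugation by `g b`
  have hf2 : Feas D F V (g * b) (grv D lam') := by
    intro v hv
    obtain ⟨v1, hv1, rfl⟩ : ∃ v1 ∈ V, v = x * v1 * x⁻¹ := by
      refine ⟨x⁻¹ * v * x, ?_, by group⟩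
      rw [Subgroup.mem_set_normalizer_iff] at hxN
      apply (hxN _).mpr
      have : x * (x⁻¹ * v * x) * x⁻¹ = v := by group
      rw [this]; exact hv
    have e : ((g * b)⁻¹ * (x * v1 * x⁻¹) * (g * b) : GL D.Idx F) =
        n * (u * (g⁻¹ * v1 * g) * u⁻¹) * n⁻¹ := by
      rw [hx]; group
    have h2 : UF (wtv D (grv D lam)) 1
        ((u : Matrix D.Idx D.Idx F) * ((g⁻¹ * v1 * g : GL D.Idx F) : Matrix D.Idx D.Idx F) *
          ((u⁻¹ : GL D.Idx F) : Matrix D.Idx D.Idx F)) := by
      refine UF.conj (hfe v1 hv1) (hBQ huB) (hBQ (Subgroup.inv_mem _ huB)) ?_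
      rw [← Units.val_mul, mul_inv_cancel, Units.val_one]
    have h3 := hmv.UF_conj D F h2
    rw [e, Units.val_mul, Units.val_mul, Units.val_mul, Units.val_mul]
    exact h3
  -- the midpoint is feasible
  have hf3 : Feas D F V (g * b) (grv D (fun k => (lam k + lam' k) / 2)) := by
    intro v hv
    rw [grv_mid, wtv_mid]
    exact (hf1 v hv).midpoint (hf2 v hv)
  have hgb : g * b ∈ D.group F := Subgroup.mul_mem _ hg (borel_le_group D hD F hb)
  have h4 := hmin (g * b) hgb _ hf3
  rw [grv_mid] at h4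
  have h5 : grv D lam' = grv D lam := eq_of_nsq_midpoint_ge (hmv.nsq_eq D F) h4
  have h6 : BF (wtv D (grv D lam)) (n : Matrix D.Idx D.Idx F) := hmv.BF_of_eq D F h5
  rw [hy]
  refine Subgroup.mul_mem _ (Subgroup.mul_mem _ (hBQ hb) ?_) (hBQ huB)
  show RF (wtv D (grv D lam)) 0 (n : Matrix D.Idx D.Idx F)
  exact h6.toRF

/-- if `n_p` is grading-nondecreasing for a dominant grading, the grading vanishes on `p` -/
theorem mem_zeroSet_of_nFund_mem_rf (lam : Fin D.rank → ℝ) (hdom : Dominant D lam) (i : ℕ)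
    (hi : i < D.rank) (h : nFund D hD F i ∈ rfSubgroup (wtv D (grv D lam))) : i ∈ zeroSet D lam := by
  have hF := fundFacts_of_mem D hD i hi
  have hcoe : ((nFund D hD F i : GL D.Idx F) : Matrix D.Idx D.Idx F) = D.nMat F (D.simple i) 1 := by
    unfold nFund; rw [coe_wordGL]; rfl
  have hRF : RF (wtv D (grv D lam)) 0 ((nFund D hD F i : GL D.Idx F) : Matrix D.Idx D.Idx F) := h
  rw [hcoe, nMat_fund D i hF F] at hRF
  have hentry := hRF (Sum.inr ⟨D.neg (D.simple i), hF.hpb⟩) (Sum.inr ⟨D.simple i, hF.hp⟩) (by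
    simp only [Matrix.of_apply, Sum.elim_inr]
    rw [if_pos (reflectRoot_simple D i).symm]
    unfold etaFn
    rw [if_pos (Or.inl rfl)]
    simp)
  have h1 : gr D lam (D.simple i) + 0 ≤ gr D lam (D.neg (D.simple i)) := hentry
  rw [gr_neg D hD lam _ hF.hp] at h1
  have h2 := hdom i hi
  exact ⟨hi, by linarith⟩

/-- the grading-nondecreasing elements of `G` lie in the standard parabolic subgroup of the zero set -/
theorem rf_inf_group_le_parabolic (lam : Fin D.rank → ℝ) (hdom : Dominant D lam) :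
    rfSubgroup (wtv D (grv D lam)) ⊓ D.group F ≤ D.parabolicSubgroup F (zeroSet D lam) := by
  intro g hg
  rw [Subgroup.mem_inf] at hg
  obtain ⟨P, hP⟩ : ∃ P, P = chevBNPair D hD F := ⟨_, rfl⟩
  obtain ⟨M, hMdef⟩ : ∃ M : Subgroup ↥(D.group F), M =
      (rfSubgroup (wtv D (grv D lam))).subgroupOf (D.group F) := ⟨_, rfl⟩
  have hPB : ∀ g : ↥(D.group F), g ∈ P.B ↔ (g : GL D.Idx F) ∈ D.borelSubgroup F := by
    rw [hP]; intro g; rw [chevBNPair_B, Subgroup.mem_subgroupOf]
  have hBP : D.borelSubgroup F ≤ D.parabolicSubgroup F (zeroSet D lam) := le_sup_left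
  have hM : P.B ≤ M := by
    intro b hb
    rw [hMdef, Subgroup.mem_subgroupOf]
    exact borel_le_rf D hD F lam hdom ((hPB b).mp hb)
  have h1 := subgroup_eq_parabolic P M hM
  have hgM : (⟨g, hg.2⟩ : ↥(D.group F)) ∈ M := by
    rw [hMdef, Subgroup.mem_subgroupOf]; exact hg.1
  rw [h1] at hgM
  have hle : P.parabolic {s | s ∈ P.S ∧ s ∈ M} ≤
      (D.parabolicSubgroup F (zeroSet D lam)).subgroupOf (D.group F) := by
    unfold BNPair.parabolic
    apply sup_le
    · intro b hb
      rw [Subgroup.mem_subgroupOf]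
      exact hBP ((hPB b).mp hb)
    · rw [Subgroup.closure_le]
      rintro s ⟨hs, hsM⟩
      have hs' : s ∈ fundSet D F := by rw [hP] at hs; exact hs
      obtain ⟨i, hi, hsm⟩ := hs'
      have hsn := coe_eq_nFund_of_mem_fundSet D hD F s i hsm
      rw [hMdef, Subgroup.mem_subgroupOf, hsn] at hsM
      have hiJ := mem_zeroSet_of_nFund_mem_rf D hD F lam hdom i hi hsM
      show s ∈ (D.parabolicSubgroup F (zeroSet D lam)).subgroupOf (D.group F)
      rw [Subgroup.mem_subgroupOf]
      unfold ChevalleyDatum.parabolicSubgroup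
      apply Subgroup.mem_sup_right
      apply Subgroup.subset_closure
      exact ⟨i, hiJ, hi, hsm⟩
  have := hle hgM
  rw [Subgroup.mem_subgroupOf] at this
  exact this

/-- `U_J` is unipotent of positive depth for a dominant grading with zero set `J` -/
theorem uJ_le_ufPos (lam : Fin D.rank → ℝ) (hdom : Dominant D lam) :
    D.unipotentRadical F (zeroSet D lam) ≤ ufPosSubgroup (wtv D (grv D lam)) := by
  unfold ChevalleyDatum.unipotentRadical
  rw [Subgroup.closure_le]
  rintro g ⟨r, t, hr, hnr, hg⟩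
  have hpos := dominant_pos D hD lam hdom r hr hnr
  refine ⟨gr D lam r, hpos, ?_⟩
  rw [hg, wtv_grv]
  exact x_UF D hD F (chainAddR_gr D hD lam) r hr.1 t (le_of_lt hpos)

/-- `L_J` preserves a grading with zero set `J` -/
theorem levi_le_bf (lam : Fin D.rank → ℝ) :
    D.leviSubgroup F (zeroSet D lam) ≤ bfSubgroup (wtv D (grv D lam)) := by
  unfold ChevalleyDatum.leviSubgroup
  apply sup_le
  · intro g hg
    show BF (wtv D (grv D lam)) (g : Matrix D.Idx D.Idx F)
    rw [wtv_grv]
    exact diag_BF D hD F _ g hg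
  · rw [Subgroup.closure_le]
    rintro g ⟨r, t, hr, hg⟩
    show BF (wtv D (grv D lam)) (g : Matrix D.Idx D.Idx F)
    rw [hg, wtv_grv]
    exact x_BF D hD F (chainAddR_gr D hD lam) r hr.1 t (gr_eq_zero_of_inRootSub D hD lam r hr)

/-- an element of `G` which is unipotent of depth `1` for a dominant grading lies in `U_J` -/
theorem mem_uJ_of_UF (lam : Fin D.rank → ℝ) (hdom : Dominant D lam) (x : GL D.Idx F)
    (hxG : x ∈ D.group F) (hx : UF (wtv D (grv D lam)) 1 (x : Matrix D.Idx D.Idx F)) :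
    x ∈ D.unipotentRadical F (zeroSet D lam) := by
  obtain ⟨W, hW⟩ := exists_coefW D hD
  have hxQ : x ∈ rfSubgroup (wtv D (grv D lam)) := hx.toRF zero_le_one
  have hxP : x ∈ D.parabolicSubgroup F (zeroSet D lam) :=
    rf_inf_group_le_parabolic D hD F lam hdom (Subgroup.mem_inf.mpr ⟨hxQ, hxG⟩)
  rw [← uJ_sup_levi D hD F (zeroSet D lam)] at hxP
  have hLN : D.leviSubgroup F (zeroSet D lam) ≤
      Subgroup.normalizer (D.unipotentRadical F (zeroSet D lam) : Set (GL D.Idx F)) := by
    refine le_trans ?_ (parabolic_le_normalizer_uJ D hD F W hW (zeroSet D lam))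
    rw [← uJ_sup_levi D hD F (zeroSet D lam)]
    exact le_sup_right
  have hmem : x ∈ ((D.unipotentRadical F (zeroSet D lam) ⊔ D.leviSubgroup F (zeroSet D lam) :
      Subgroup (GL D.Idx F)) : Set (GL D.Idx F)) := hxP
  rw [Subgroup.coe_mul_of_right_le_normalizer_left _ _ hLN] at hmem
  obtain ⟨u, hu, l, hl, hul⟩ := hmem
  have hu' : u ∈ D.unipotentRadical F (zeroSet D lam) := hu
  have hl' : l ∈ D.leviSubgroup F (zeroSet D lam) := hl
  have hxU : x ∈ ufPosSubgroup (wtv D (grv D lam)) := ⟨1, one_pos, hx⟩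
  have hlU : l ∈ ufPosSubgroup (wtv D (grv D lam)) := by
    have : l = u⁻¹ * x := by rw [← hul]; group
    rw [this]
    exact Subgroup.mul_mem _ (Subgroup.inv_mem _ (uJ_le_ufPos D hD F lam hdom hu')) hxU
  have hl1 : l = 1 := eq_one_of_mem_bf_of_mem_ufPos _ l (levi_le_bf D hD F lam hl') hlU
  have : x = u := by
    have h := hul
    simp only [hl1] at h
    rw [← h]; simp
  rw [this]; exact hu'

/-- the zero set of a feasible grading of a non-trivial group is proper -/
theorem zeroSet_proper (V : Subgroup (GL D.Idx F)) (hV : V ≠ ⊥) (g : GL D.Idx F)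
    (lam : Fin D.rank → ℝ) (hfe : Feas D F V g (grv D lam)) : ∃ i, i < D.rank ∧ i ∉ zeroSet D lam := by
  by_contra hcon
  push Not at hcon
  have h0 : ∀ r < D.nroots, gr D lam r = 0 :=
    gr_eq_zero_of_simple D hD lam (fun k hk => (hcon k hk).2)
  have hw : ∀ i, wtv D (grv D lam) i = 0 := by
    intro i
    rcases i with j | u
    · rfl
    · exact h0 u.val u.isLt
  apply hV
  rw [Subgroup.eq_bot_iff_forall]
  intro v hv
  have h1 := hfe v hv
  have h2 : ((g⁻¹ * v * g : GL D.Idx F) : Matrix D.Idx D.Idx F) = 1 := by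
    ext b a
    by_contra hne
    have h3 : (((g⁻¹ * v * g : GL D.Idx F) : Matrix D.Idx D.Idx F) - 1) b a ≠ 0 := by
      rw [Matrix.sub_apply]; exact sub_ne_zero.mpr hne
    have h4 := h1 b a h3
    rw [hw a, hw b] at h4
    linarith
  have h5 : g⁻¹ * v * g = 1 := Units.ext (by rw [h2, Units.val_one])
  have : v = g * (g⁻¹ * v * g) * g⁻¹ := by group
  rw [this, h5]; group

end

end Cfsg.Agent.Lib.Helper25.BT
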