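import Cfsg.Agent.Lib.Helper25.BitWordD

/-! Rank certificates in bit-mask form: for a word `y` in the root elements `x_r(1)` in characteristic two,
bounds for the rank of `y - 1` from factorisations checked by exclusive-or arithmetic (helper25). -/

set_option autoImplicit false

namespace Cfsg.Agent.Lib.Helper25.BitWord

open Cfsg Cfsg.Lie Matrix

/-- the `0/1` matrix with the given column masks, for arbitrary index types with positions -/
def matG {m n : Type*} (F : Type*) [Field F] (pr : m → ℕ) (pc : n → ℕ) (c : List ℕ) : Matrix m n F :=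
  Matrix.of fun i j => ind F ((c.getD (pc j) 0).testBit (pr i))

theorem matG_mul {m k n : Type*} [Fintype k] (F : Type*) [Field F] [CharP F 2]
    (pr : m → ℕ) (pk : k → ℕ) (pc : n → ℕ) (a b : List ℕ)
    (hk : ∀ g : ℕ → F, ∑ j : k, g (pk j) = ∑ x ∈ Finset.range a.length, g x) :
    matG F pr pk a * matG F pk pc b = matG F pr pc (mulCols a b) := by
  ext i l
  rw [Matrix.mul_apply]
  unfold matG mulCols
  simp only [Matrix.of_apply]
  have e : (List.map (xorCols a) b).getD (pc l) 0 = xorCols a (b.getD (pc l) 0) := by
    have := List.getD_map (f := xorCols a) (l := b) (n := pc l) (d := 0)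
    rw [xorCols_zero] at this
    exact this
  rw [e, ← sum_ind_xorCols F (pr i) a (b.getD (pc l) 0)]
  exact hk (fun j => ind F ((a.getD j 0).testBit (pr i)) * ind F ((b.getD (pc l) 0).testBit j))

theorem mulCols_length (a b : List ℕ) : (mulCols a b).length = b.length := by
  unfold mulCols; rw [List.length_map]

/-- the identity matrix of size `k` -/
def idColsN (k : ℕ) : List ℕ := (List.range k).map fun j => 2 ^ j

theorem matG_idColsN (F : Type*) [Field F] (k : ℕ) :
    matG F (fun i : Fin k => i.val) (fun i : Fin k => i.val) (idColsN k) = 1 := by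
  ext i j
  unfold matG idColsN
  simp only [Matrix.of_apply]
  have e : ((List.range k).map fun j => 2 ^ j).getD j.val 0 = 2 ^ j.val := by
    simp [List.getD_eq_getElem?_getD, j.isLt]
  rw [e, Nat.testBit_two_pow, Matrix.one_apply]
  unfold ind
  by_cases h : i = j
  · rw [if_pos h, if_pos (by rw [h]; simp)]
  · rw [if_neg h, if_neg (by simpa using fun hh : j.val = i.val => h (Fin.ext hh.symm))]

theorem sum_fin_val {M : Type*} [AddCommMonoid M] (k : ℕ) (g : ℕ → M) :
    ∑ j : Fin k, g j.val = ∑ x ∈ Finset.range k, g x :=
  Fin.sum_univ_eq_sum_range (fun b => g b) k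

section
variable (D : ChevalleyDatum) (F : Type*) [Field F] [CharP F 2]

theorem matOf_eq_matG (c : List ℕ) : matOf D F c = matG F (pos D) (pos D) c := rfl

/-- upper bound for the rank from a factorisation through `k` coordinates -/
theorem rank_matOf_le (A P Q : List ℕ) (k : ℕ) (hP : P.length = k) (h : mulCols P Q = A) :
    (matOf D F A).rank ≤ k := by
  rw [matOf_eq_matG, ← h,
    ← matG_mul F (pos D) (fun i : Fin k => i.val) (pos D) P Q (by rw [hP]; exact sum_fin_val k)]
  calc (matG F (pos D) (fun i : Fin k => i.val) P * matG F (fun i : Fin k => i.val) (pos D) Q).rank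
      ≤ (matG F (pos D) (fun i : Fin k => i.val) P).rank := Matrix.rank_mul_le_left _ _
    _ ≤ Fintype.card (Fin k) := Matrix.rank_le_card_width _
    _ = k := Fintype.card_fin k

/-- lower bound for the rank from a one-sided inverse on `k` coordinates -/
theorem le_rank_matOf (A B C : List ℕ) (k : ℕ) (hA : A.length = dim D) (hB : B.length = dim D)
    (h : mulCols (mulCols B A) C = idColsN k) : k ≤ (matOf D F A).rank := by
  have h1 : matG F (fun i : Fin k => i.val) (pos D) B * matG F (pos D) (pos D) A =
      matG F (fun i : Fin k => i.val) (pos D) (mulCols B A) :=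
    matG_mul F _ (pos D) _ B A (by rw [hB]; exact fun g => sum_idx D g)
  have h2 : matG F (fun i : Fin k => i.val) (pos D) (mulCols B A) *
      matG F (pos D) (fun i : Fin k => i.val) C =
      matG F (fun i : Fin k => i.val) (fun i : Fin k => i.val) (mulCols (mulCols B A) C) :=
    matG_mul F _ (pos D) _ _ C (by rw [mulCols_length, hA]; exact fun g => sum_idx D g)
  rw [h, matG_idColsN, ← h1] at h2
  calc k = Fintype.card (Fin k) := (Fintype.card_fin k).symm
    _ = (1 : Matrix (Fin k) (Fin k) F).rank := (Matrix.rank_one).symm
    _ = (matG F (fun i : Fin k => i.val) (pos D) B * matG F (pos D) (pos D) A *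
          matG F (pos D) (fun i : Fin k => i.val) C).rank := by rw [h2]
    _ ≤ (matG F (fun i : Fin k => i.val) (pos D) B * matG F (pos D) (pos D) A).rank :=
        Matrix.rank_mul_le_left _ _
    _ ≤ (matG F (pos D) (pos D) A).rank := Matrix.rank_mul_le_right _ _

theorem foldl_mulR_length (w : List ℕ) : ∀ acc : List ℕ, acc.length = dim D →
    (w.foldl (mulR D) acc).length = dim D := by
  induction w with
  | nil => intro acc h; exact h
  | cons r w ih => intro acc h; exact ih _ (mulR_length D acc r h)

theorem evalR_length (w : List ℕ) : (evalR D w).length = dim D :=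
  foldl_mulR_length D w _ (idCols_length D)

/-- the column masks of `y - 1` for the word `y` -/
def subOneCols (w : List ℕ) : List ℕ := List.zipWith (fun x y => x ^^^ y) (evalR D w) (idCols D)

theorem subOneCols_length (w : List ℕ) : (subOneCols D w).length = dim D := by
  unfold subOneCols
  rw [List.length_zipWith, evalR_length, idCols_length, min_self]

theorem wordMat_sub_one (w : List ℕ) :
    D.wordMat F (w.map fun r => (r, (1 : F))) - 1 = matOf D F (subOneCols D w) := by
  unfold subOneCols
  rw [← matOf_add D F _ _ (evalR_length D w) (idCols_length D), matOf_idCols, ← wordMat_eq_matOf_evalR,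
    sub_eq_add_neg]
  congr 1
  ext i j
  rw [Matrix.neg_apply]
  exact CharTwo.neg_eq _

/-- upper bound for the rank of `y - 1` -/
theorem rank_word_le (w P Q : List ℕ) (k : ℕ) (hP : P.length = k)
    (h : decide (mulCols P Q = subOneCols D w) = true) :
    (D.wordMat F (w.map fun r => (r, (1 : F))) - 1).rank ≤ k := by
  rw [wordMat_sub_one]
  exact rank_matOf_le D F _ P Q k hP (of_decide_eq_true h)

/-- lower bound for the rank of `y - 1` -/
theorem le_rank_word (w B C : List ℕ) (k : ℕ) (hB : B.length = dim D)
    (h : decide (mulCols (mulCols B (subOneCols D w)) C = idColsN k) = true) :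
    k ≤ (D.wordMat F (w.map fun r => (r, (1 : F))) - 1).rank := by
  rw [wordMat_sub_one]
  exact le_rank_matOf D F _ B C k (subOneCols_length D w) hB (of_decide_eq_true h)

end

end Cfsg.Agent.Lib.Helper25.BitWord
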