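import Cfsg.Agent.Lib.Helper25.ChInvH

/-! A fast decidable checker for identities between words in the root elements `x_r(1)` of a Chevalley
group in characteristic two: the matrices have entries `0`, `1`, their columns are stored as bit masks
and products are computed by exclusive-or (helper25). -/

set_option autoImplicit false

namespace Cfsg.Agent.Lib.Helper25.BitWord

open Cfsg Cfsg.Lie Matrix

/-- the indicator of a Boolean -/
def ind (F : Type*) [Field F] (b : Bool) : F := if b then 1 else 0

theorem ind_mul (F : Type*) [Field F] (a b : Bool) : ind F a * ind F b = ind F (a && b) := by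
  cases a <;> cases b <;> simp [ind]

theorem ind_add (F : Type*) [Field F] [CharP F 2] (a b : Bool) : ind F a + ind F b = ind F (a ^^ b) := by
  cases a <;> cases b <;> simp [ind]
  exact CharTwo.add_self_eq_zero (1 : F)

/-- exclusive-or of the masks `a_b` over the bits `b` of `m` -/
def xorCols : List ℕ → ℕ → ℕ
  | [], _ => 0
  | x :: xs, m => (if m.testBit 0 then x else 0) ^^^ xorCols xs (m / 2)

theorem xorCols_zero : ∀ a : List ℕ, xorCols a 0 = 0
  | [] => rfl
  | x :: xs => by
    show (if (0 : ℕ).testBit 0 then x else 0) ^^^ xorCols xs (0 / 2) = 0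
    rw [Nat.zero_div, xorCols_zero xs]
    simp

/-- the core of the correctness of the product -/
theorem sum_ind_xorCols (F : Type*) [Field F] [CharP F 2] (i : ℕ) : ∀ (a : List ℕ) (m : ℕ),
    ∑ b ∈ Finset.range a.length, ind F ((a.getD b 0).testBit i) * ind F (m.testBit b) =
      ind F ((xorCols a m).testBit i)
  | [], m => by simp [xorCols, ind]
  | x :: xs, m => by
    rw [List.length_cons, Finset.sum_range_succ']
    have h1 : ∀ b ∈ Finset.range xs.length,
        ind F (((x :: xs).getD (b + 1) 0).testBit i) * ind F (m.testBit (b + 1)) =
        ind F ((xs.getD b 0).testBit i) * ind F ((m / 2).testBit b) := by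
      intro b _
      rw [Nat.testBit_succ]
      rfl
    rw [Finset.sum_congr rfl h1, sum_ind_xorCols F i xs (m / 2)]
    show _ + ind F (x.testBit i) * ind F (m.testBit 0) =
      ind F (((if m.testBit 0 then x else 0) ^^^ xorCols xs (m / 2)).testBit i)
    rw [Nat.testBit_xor, ind_mul, add_comm, ind_add]
    congr 2
    by_cases h : m.testBit 0 = true
    · simp [h]
    · simp [h]

section
variable (D : ChevalleyDatum)

/-- the dimension -/
def dim : ℕ := D.rank + D.nroots

/-- the position of a coordinate -/
def pos : D.Idx → ℕ := Sum.elim (fun i => i.val) (fun s => D.rank + s.val)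

theorem pos_lt (i : D.Idx) : pos D i < dim D := by
  rcases i with i | s
  · exact lt_of_lt_of_le i.isLt (Nat.le_add_right _ _)
  · exact Nat.add_lt_add_left s.isLt _

theorem sum_idx {M : Type*} [AddCommMonoid M] (g : ℕ → M) :
    ∑ j : D.Idx, g (pos D j) = ∑ b ∈ Finset.range (dim D), g b := by
  unfold dim
  rw [Fintype.sum_sum_type, Finset.sum_range_add]
  congr 1
  · exact Fin.sum_univ_eq_sum_range (fun b => g b) D.rank
  · exact Fin.sum_univ_eq_sum_range (fun b => g (D.rank + b)) D.nroots

variable (F : Type*) [Field F]

/-- the `0/1` matrix with the given column masks -/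
def matOf (c : List ℕ) : Matrix D.Idx D.Idx F :=
  Matrix.of fun i j => ind F ((c.getD (pos D j) 0).testBit (pos D i))

/-- the column masks of a product -/
def mulCols (a b : List ℕ) : List ℕ := b.map (xorCols a)

theorem matOf_mul [CharP F 2] (a b : List ℕ) (ha : a.length = dim D) :
    matOf D F a * matOf D F b = matOf D F (mulCols a b) := by
  ext i k
  rw [Matrix.mul_apply]
  unfold matOf mulCols
  simp only [Matrix.of_apply]
  have e : (List.map (xorCols a) b).getD (pos D k) 0 = xorCols a (b.getD (pos D k) 0) := by
    have := List.getD_map (f := xorCols a) (l := b) (n := pos D k) (d := 0)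
    rw [xorCols_zero] at this
    exact this
  rw [e, ← sum_ind_xorCols F (pos D i) a (b.getD (pos D k) 0), ha]
  exact sum_idx D (fun j => ind F ((a.getD j 0).testBit (pos D i)) * ind F ((b.getD (pos D k) 0).testBit j))

/-- the identity matrix -/
def idCols : List ℕ := (List.range (dim D)).map fun j => 2 ^ j

theorem matOf_idCols : matOf D F (idCols D) = 1 := by
  ext i j
  unfold matOf idCols
  simp only [Matrix.of_apply]
  have hj := pos_lt D j
  have e : ((List.range (dim D)).map fun j => 2 ^ j).getD (pos D j) 0 = 2 ^ pos D j := by
    simp [List.getD_eq_getElem?_getD, hj]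
  rw [e, Nat.testBit_two_pow, Matrix.one_apply]
  have hinj : pos D j = pos D i ↔ i = j := by
    constructor
    · intro h
      rcases i with i | s <;> rcases j with j | t
      · simp only [pos, Sum.elim_inl] at h
        rw [Fin.ext h.symm]
      · simp only [pos, Sum.elim_inl, Sum.elim_inr] at h
        have := i.isLt; omega
      · simp only [pos, Sum.elim_inl, Sum.elim_inr] at h
        have := j.isLt; omega
      · simp only [pos, Sum.elim_inr] at h
        have : s.val = t.val := by omega
        rw [Fin.ext this]
    · intro h; rw [h]
  unfold ind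
  by_cases h : i = j
  · rw [if_pos h, if_pos (by simpa using hinj.mpr h)]
  · rw [if_neg h, if_neg (by simpa using fun hh => h (hinj.mp hh))]

end

end Cfsg.Agent.Lib.Helper25.BitWord
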