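import Cfsg.Agent.Lib.Helper25.BitWordA

/-! The bit-mask word checker: the column masks of `x_r(1)` read off the matrix over `𝔽₂`, evaluation of
words and soundness (helper25). -/

set_option autoImplicit false

namespace Cfsg.Agent.Lib.Helper25.BitWord

open Cfsg Cfsg.Lie Matrix

/-- the mask with the bits `i < d` such that `f i` -/
def maskOf (f : ℕ → Bool) : ℕ → ℕ
  | 0 => 0
  | d + 1 => maskOf f d ||| (if f d then 2 ^ d else 0)

theorem testBit_maskOf (f : ℕ → Bool) : ∀ (d i : ℕ), (maskOf f d).testBit i = (decide (i < d) && f i)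
  | 0, i => by simp [maskOf]
  | d + 1, i => by
    show (maskOf f d ||| (if f d then 2 ^ d else 0)).testBit i = _
    rw [Nat.testBit_or, testBit_maskOf f d i]
    by_cases hfd : f d = true
    · rw [if_pos hfd, Nat.testBit_two_pow]
      by_cases hid : d = i
      · subst hid; simp [hfd]
      · have : (i < d + 1) ↔ (i < d) := by omega
        simp [hid, this]
    · rw [if_neg hfd, Nat.zero_testBit, Bool.or_false]
      by_cases hid : d = i
      · subst hid
        simp only [Bool.not_eq_true] at hfd
        simp [hfd]
      · have : (i < d + 1) ↔ (i < d) := by omega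
        simp [this]

section
variable (D : ChevalleyDatum)

/-- the coordinate at a position -/
def toIdx? (p : ℕ) : Option D.Idx :=
  if h : p < D.rank then some (Sum.inl ⟨p, h⟩)
  else if h' : p - D.rank < D.nroots then some (Sum.inr ⟨p - D.rank, h'⟩) else none

theorem toIdx?_pos (i : D.Idx) : toIdx? D (pos D i) = some i := by
  rcases i with i | s
  · unfold toIdx? pos
    simp
  · unfold toIdx? pos
    have h1 : ¬ (D.rank + s.val < D.rank) := by omega
    have h2 : D.rank + s.val - D.rank = s.val := by omega
    simp only [Sum.elim_inr, h1, dite_false, h2, s.isLt, dite_true]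

/-- the entry of `x_r(1)` over `𝔽₂` at the given positions -/
def entB (r i j : ℕ) : Bool :=
  match toIdx? D i, toIdx? D j with
  | some a, some b => decide (D.x (ZMod 2) r 1 a b = 1)
  | _, _ => false

/-- the column masks of `x_r(1)` -/
def colsOf (r : ℕ) : List ℕ :=
  (List.range (dim D)).map fun j => maskOf (fun i => entB D r i j) (dim D)

theorem colsOf_length (r : ℕ) : (colsOf D r).length = dim D := by
  unfold colsOf; simp

variable (F : Type*) [Field F] [CharP F 2]

theorem x_eq_matOf (r : ℕ) : D.x F r 1 = matOf D F (colsOf D r) := by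
  have hmap := ChInv.x_map' D (ZMod.castHom (dvd_refl 2) F) r 1
  rw [map_one] at hmap
  rw [← hmap]
  ext i j
  unfold matOf colsOf
  simp only [Matrix.map_apply, Matrix.of_apply]
  have hj := pos_lt D j
  have hi := pos_lt D i
  have e : ((List.range (dim D)).map fun j => maskOf (fun i => entB D r i j) (dim D)).getD (pos D j) 0 =
      maskOf (fun i => entB D r i (pos D j)) (dim D) := by
    simp [List.getD_eq_getElem?_getD, hj]
  rw [e, testBit_maskOf]
  have e2 : entB D r (pos D i) (pos D j) = decide (D.x (ZMod 2) r 1 i j = 1) := by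
    unfold entB
    rw [toIdx?_pos, toIdx?_pos]
  rw [e2]
  simp only [hi, decide_true, Bool.true_and]
  generalize D.x (ZMod 2) r 1 i j = z
  unfold ind
  fin_cases z
  · show (ZMod.castHom (dvd_refl 2) F) 0 = if decide ((0 : ZMod 2) = 1) = true then 1 else 0
    rw [map_zero]
    have : ¬ ((0 : ZMod 2) = 1) := by decide
    simp [this]
  · show (ZMod.castHom (dvd_refl 2) F) 1 = if decide ((1 : ZMod 2) = 1) = true then 1 else 0
    rw [map_one]
    simp

/-- the column masks of the product `x_{r₁}(1) x_{r₂}(1) ⋯` -/
def evalCols (w : List ℕ) : List ℕ := w.foldr (fun r acc => mulCols (colsOf D r) acc) (idCols D)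

theorem wordMat_eq_matOf (w : List ℕ) :
    D.wordMat F (w.map fun r => (r, (1 : F))) = matOf D F (evalCols D w) := by
  induction w with
  | nil =>
    show D.wordMat F [] = matOf D F (idCols D)
    rw [matOf_idCols]
    rfl
  | cons r w ih =>
    have e : D.wordMat F ((r :: w).map fun r => (r, (1 : F))) =
        D.x F r 1 * D.wordMat F (w.map fun r => (r, (1 : F))) := by
      unfold ChevalleyDatum.wordMat
      rw [List.map_cons, List.map_cons, List.prod_cons]
    rw [e, ih, x_eq_matOf D F r, matOf_mul D F _ _ (colsOf_length D r)]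
    rfl

/-- the checker -/
def bitChk (w1 w2 : List ℕ) : Bool := decide (evalCols D w1 = evalCols D w2)

theorem wordMat_eq_of_bitChk (w1 w2 : List ℕ) (h : bitChk D w1 w2 = true) :
    D.wordMat F (w1.map fun r => (r, (1 : F))) = D.wordMat F (w2.map fun r => (r, (1 : F))) := by
  rw [wordMat_eq_matOf, wordMat_eq_matOf, of_decide_eq_true h]

end

end Cfsg.Agent.Lib.Helper25.BitWord
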