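import Cfsg.Agent.Lib.Helper25.BitWordB

/-! The bit-mask word checker, second version: the column masks of `x_r(1) - 1` are read off the tables
of the datum (no matrix entry is ever evaluated), and words are multiplied from the right, which uses
the sparsity of `x_r(1) - 1` (helper25). -/

set_option autoImplicit false

namespace Cfsg.Agent.Lib.Helper25.BitWord

open Cfsg Cfsg.Lie Matrix

/-- exclusive-or of all the members of a list -/
def xorAll : List ℕ → ℕ
  | [] => 0
  | x :: xs => x ^^^ xorAll xs

theorem ind_testBit_xorAll (F : Type*) [Field F] [CharP F 2] (i : ℕ) : ∀ l : List ℕ,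
    ind F ((xorAll l).testBit i) = (l.map fun m => ind F (m.testBit i)).sum
  | [] => by simp [xorAll, ind]
  | x :: xs => by
    show ind F ((x ^^^ xorAll xs).testBit i) = _
    rw [Nat.testBit_xor, ← ind_add, ind_testBit_xorAll F i xs]
    simp

/-- the parity of an integer -/
def oddZ (z : ℤ) : Bool := decide (z % 2 = 1)

theorem intCast_eq_ind (F : Type*) [Field F] [CharP F 2] (z : ℤ) : ((z : ℤ) : F) = ind F (oddZ z) := by
  have h2 : (2 : F) = 0 := CharTwo.two_eq_zero
  rcases Int.emod_two_eq_zero_or_one z with h0 | h1
  · have e : z = 2 * (z / 2) := by omega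
    unfold oddZ ind
    rw [h0]
    rw [e]
    push_cast
    rw [h2]
    simp
  · have e : z = 2 * (z / 2) + 1 := by omega
    unfold oddZ ind
    rw [h1]
    rw [e]
    push_cast
    rw [h2]
    simp

theorem ind_false (F : Type*) [Field F] : ind F false = 0 := by simp [ind]

theorem ind_true (F : Type*) [Field F] : ind F true = 1 := by simp [ind]

theorem ind_decide (F : Type*) [Field F] (p : Prop) [Decidable p] :
    ind F (decide p) = if p then 1 else 0 := by
  unfold ind
  by_cases h : p <;> simp [h]

section
variable (D : ChevalleyDatum)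

/-- the column of `x_r(1) - 1` at the coordinate `h_i` -/
def nColH (r i : ℕ) : ℕ :=
  if oddZ ((D.cartanSR.getD i #[]).getD r 0) then 2 ^ (D.rank + r) else 0

/-- the column of `x_r(1) - 1` at the coordinate `e_{-r}` -/
def nColNeg (r : ℕ) : ℕ :=
  maskOf (fun i => oddZ ((D.coroot.getD r #[]).getD i 0)) D.rank ^^^ 2 ^ (D.rank + r)

/-- the masks contributing to the column of `x_r(1) - 1` at the coordinate `e_s` -/
def chainMasks (r s : ℕ) : List ℕ :=
  ((D.chain.getD r #[]).toList.filter (fun e => e.1 = s)).flatMap fun e =>
    e.2.toList.map fun q => if oddZ q.2 then 2 ^ (D.rank + q.1) else 0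

/-- the column of `x_r(1) - 1` at the position `j` -/
def nCol (r j : ℕ) : ℕ :=
  if j < D.rank then nColH D r j
  else if j - D.rank = r then 0
  else if j - D.rank = D.negIdx.getD r 0 then nColNeg D r
  else xorAll (chainMasks D r (j - D.rank))

/-- the column masks of `x_r(1) - 1` -/
def nCols (r : ℕ) : List ℕ :=
  if r < D.nroots then (List.range (dim D)).map (nCol D r) else List.replicate (dim D) 0

theorem nCols_length (r : ℕ) : (nCols D r).length = dim D := by
  unfold nCols
  split_ifs <;> simp

theorem nCols_getD (r : ℕ) (hr : r < D.nroots) (j : D.Idx) :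
    (nCols D r).getD (pos D j) 0 = nCol D r (pos D j) := by
  unfold nCols
  rw [if_pos hr]
  have hj := pos_lt D j
  simp [List.getD_eq_getElem?_getD, hj]

variable (F : Type*) [Field F] [CharP F 2]

theorem testBit_two_pow_add (a b i : ℕ) (hi : i < a) : (2 ^ (a + b)).testBit i = false := by
  rw [Nat.testBit_two_pow]
  have : ¬ (a + b = i) := by omega
  simp [this]

theorem testBit_chainMasks_lt (r s i : ℕ) (hi : i < D.rank) :
    ∀ m ∈ chainMasks D r s, m.testBit i = false := by
  intro m hm
  unfold chainMasks at hm
  rw [List.mem_flatMap] at hm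
  obtain ⟨e, -, hm⟩ := hm
  rw [List.mem_map] at hm
  obtain ⟨q, -, rfl⟩ := hm
  split_ifs
  · exact testBit_two_pow_add _ _ _ hi
  · exact Nat.zero_testBit i

theorem testBit_xorAll_false (i : ℕ) : ∀ l : List ℕ, (∀ m ∈ l, m.testBit i = false) →
    (xorAll l).testBit i = false
  | [], _ => by simp [xorAll]
  | x :: xs, h => by
    show (x ^^^ xorAll xs).testBit i = false
    rw [Nat.testBit_xor, h x (List.mem_cons_self),
      testBit_xorAll_false i xs (fun m hm => h m (List.mem_cons_of_mem _ hm))]
    rfl

/-- the sum over the entries of a chain with a given first component -/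
theorem sum_zipIdx_filter (u : ℕ) : ∀ (l : List (ℕ × ℤ)) (k : ℕ),
    (((l.zipIdx k).filter (fun q => q.1.1 = u)).map fun q => ((q.1.2 : ℤ) : F)).sum =
      (l.map fun q => if q.1 = u then ((q.2 : ℤ) : F) else 0).sum
  | [], k => by simp
  | q :: l, k => by
    rw [List.zipIdx_cons, List.filter_cons, List.map_cons, List.sum_cons]
    by_cases h : q.1 = u
    · simp only [h, decide_true, if_true, List.map_cons, List.sum_cons]
      rw [sum_zipIdx_filter u l (k + 1)]
    · simp only [h, decide_false, Bool.false_eq_true, if_false, zero_add]
      rw [sum_zipIdx_filter u l (k + 1)]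

theorem ind_testBit_two_pow (a b : ℕ) : ind F ((2 ^ a).testBit b) = if a = b then 1 else 0 := by
  rw [Nat.testBit_two_pow, ind_decide]

theorem neg_eq_self (a : F) : -a = a := CharTwo.neg_eq a

/-- the entries of the chain part -/
theorem chain_entry (r s u : ℕ) :
    ((D.chainCoeff r s u).map fun km => ((km.2 : ℤ) : F) * 1 ^ km.1).sum =
      ind F ((xorAll (chainMasks D r s)).testBit (D.rank + u)) := by
  rw [ind_testBit_xorAll]
  unfold ChevalleyDatum.chainCoeff chainMasks
  generalize ((D.chain.getD r #[]).toList.filter (fun e => e.1 = s)) = L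
  induction L with
  | nil => simp
  | cons e L ih =>
    rw [List.flatMap_cons, List.flatMap_cons, List.map_append, List.map_append, List.sum_append,
      List.sum_append, ih]
    congr 1
    rw [List.map_map, List.map_map]
    have e1 : (((e.2.toList.zipIdx).filter (fun q => q.1.1 = u)).map
        ((fun km : ℕ × ℤ => ((km.2 : ℤ) : F) * 1 ^ km.1) ∘ fun q => (q.2 + 1, q.1.2))).sum =
        (((e.2.toList.zipIdx).filter (fun q => q.1.1 = u)).map fun q => ((q.1.2 : ℤ) : F)).sum := by
      congr 1
      apply List.map_congr_left
      intro q _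
      simp
    rw [e1, sum_zipIdx_filter F u e.2.toList 0]
    congr 1
    apply List.map_congr_left
    intro q _
    show _ = ind F ((if oddZ q.2 then 2 ^ (D.rank + q.1) else 0).testBit (D.rank + u))
    rw [intCast_eq_ind F q.2]
    by_cases ho : oddZ q.2 = true
    · rw [if_pos ho, ind_testBit_two_pow, ho, ind_true]
      by_cases hq : q.1 = u
      · rw [if_pos hq, if_pos (by rw [hq])]
      · rw [if_neg hq, if_neg (by omega)]
    · rw [if_neg ho, Nat.zero_testBit, ind_false]
      simp only [Bool.not_eq_true] at ho
      rw [ho, ind_false]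
      simp

theorem one_inl_inl (i' i : Fin D.rank) :
    (1 : Matrix D.Idx D.Idx F) (Sum.inl i') (Sum.inl i) = if i' = i then 1 else 0 := by
  rw [Matrix.one_apply]
  by_cases h : i' = i
  · rw [if_pos h, if_pos (by rw [h])]
  · rw [if_neg h, if_neg (by intro hh; exact h (Sum.inl.inj hh))]

theorem one_inr_inr (u s : Fin D.nroots) :
    (1 : Matrix D.Idx D.Idx F) (Sum.inr u) (Sum.inr s) = if u = s then 1 else 0 := by
  rw [Matrix.one_apply]
  by_cases h : u = s
  · rw [if_pos h, if_pos (by rw [h])]
  · rw [if_neg h, if_neg (by intro hh; exact h (Sum.inr.inj hh))]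

theorem one_inl_inr (i : Fin D.rank) (s : Fin D.nroots) :
    (1 : Matrix D.Idx D.Idx F) (Sum.inl i) (Sum.inr s) = 0 := by
  rw [Matrix.one_apply, if_neg (by intro hh; cases hh)]

theorem one_inr_inl (u : Fin D.nroots) (i : Fin D.rank) :
    (1 : Matrix D.Idx D.Idx F) (Sum.inr u) (Sum.inl i) = 0 := by
  rw [Matrix.one_apply, if_neg (by intro hh; cases hh)]

omit [CharP F 2] in
theorem nCol_inl (r : ℕ) (i : Fin D.rank) : nCol D r (pos D (Sum.inl i)) = nColH D r i.val := by
  show nCol D r i.val = _
  unfold nCol
  rw [if_pos i.isLt]

omit [CharP F 2] in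
theorem nCol_inr (r : ℕ) (s : Fin D.nroots) : nCol D r (pos D (Sum.inr s)) =
    if s.val = r then 0 else if s.val = D.negIdx.getD r 0 then nColNeg D r
      else xorAll (chainMasks D r s.val) := by
  show nCol D r (D.rank + s.val) = _
  unfold nCol
  rw [if_neg (by omega), Nat.add_sub_cancel_left]

/-- `x_r(1)` is the identity plus the matrix with the column masks `nCols` -/
theorem x_eq_one_add (r : ℕ) : D.x F r 1 = 1 + matOf D F (nCols D r) := by
  by_cases hr : r < D.nroots
  swap
  · have h1 : D.x F r 1 = 1 := by unfold ChevalleyDatum.x; rw [dif_neg hr]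
    have h2 : matOf D F (nCols D r) = 0 := by
      ext i j
      unfold matOf nCols
      rw [if_neg hr]
      simp [ind, List.getD_eq_getElem?_getD, List.getElem?_replicate]
      split_ifs <;> simp
    rw [h1, h2, add_zero]
  · have h1 : D.x F r 1 = D.xMat F ⟨r, hr⟩ 1 := by unfold ChevalleyDatum.x; rw [dif_pos hr]
    rw [h1]
    ext row col
    rw [Matrix.add_apply]
    unfold matOf
    rw [Matrix.of_apply, nCols_getD D r hr col]
    unfold ChevalleyDatum.xMat
    rw [Matrix.of_apply]
    rcases col with i | s
    · -- the column of `h_i`
      rw [nCol_inl]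
      unfold nColH
      rcases row with i' | u
      · show (if i' = i then (1 : F) else 0) = _
        rw [one_inl_inl]
        have : ((if oddZ ((D.cartanSR.getD i.val #[]).getD r 0) = true then 2 ^ (D.rank + r) else 0 : ℕ)).testBit
            (pos D (Sum.inl i')) = false := by
          split_ifs
          · exact testBit_two_pow_add _ _ _ i'.isLt
          · exact Nat.zero_testBit _
        rw [this, ind_false, add_zero]
      · show (if u = (⟨r, hr⟩ : Fin D.nroots) then
            -(((D.cartanSR.getD i.val #[]).getD (⟨r, hr⟩ : Fin D.nroots).val 0 : ℤ) : F) * 1 else 0) = _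
        rw [one_inr_inl, zero_add, mul_one, neg_eq_self, intCast_eq_ind]
        show _ = ind F (((if oddZ ((D.cartanSR.getD i.val #[]).getD r 0) = true then 2 ^ (D.rank + r)
          else 0 : ℕ)).testBit (D.rank + u.val))
        by_cases ho : oddZ ((D.cartanSR.getD i.val #[]).getD r 0) = true
        · rw [if_pos ho, ind_testBit_two_pow, ho, ind_true]
          by_cases hu : u = (⟨r, hr⟩ : Fin D.nroots)
          · rw [if_pos hu, if_pos (by rw [hu])]
          · rw [if_neg hu, if_neg (by intro hh; apply hu; apply Fin.ext; simp only; omega)]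
        · rw [if_neg ho, Nat.zero_testBit, ind_false]
          simp only [Bool.not_eq_true] at ho
          rw [ho, ind_false]
          simp
    · -- the column of `e_s`
      by_cases hsr : s = (⟨r, hr⟩ : Fin D.nroots)
      · have hc : nCol D r (pos D (Sum.inr s)) = 0 := by
          rw [nCol_inr, if_pos (by rw [hsr])]
        rw [hc, Nat.zero_testBit, ind_false, add_zero]
        simp only [hsr, if_true]
        rcases row with i' | u
        · rw [← hsr, one_inl_inr]
        · rw [← hsr, one_inr_inr, hsr]
      · have hsr' : ¬ (s.val = r) := fun hh => hsr (Fin.ext hh)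
        by_cases hneg : s.val = D.negIdx.getD r 0
        · have hc : nCol D r (pos D (Sum.inr s)) = nColNeg D r := by
            rw [nCol_inr, if_neg hsr', if_pos hneg]
          rw [hc]
          simp only [hsr, if_false]
          rw [if_pos hneg]
          unfold nColNeg
          rw [Nat.testBit_xor, ← ind_add, testBit_maskOf]
          rcases row with i' | u
          · show (((D.coroot.getD r #[]).getD i'.val 0 : ℤ) : F) * 1 = _
            rw [one_inl_inr, zero_add, mul_one, intCast_eq_ind]
            have e1 : (2 ^ (D.rank + r)).testBit (pos D (Sum.inl i')) = false :=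
              testBit_two_pow_add _ _ _ i'.isLt
            rw [e1, ind_false, add_zero]
            show _ = ind F (decide (i'.val < D.rank) && oddZ ((D.coroot.getD r #[]).getD i'.val 0))
            rw [decide_eq_true i'.isLt, Bool.true_and]
          · show (if u = s then (1 : F) else if u = (⟨r, hr⟩ : Fin D.nroots) then -(1 ^ 2) else 0) = _
            rw [one_inr_inr]
            have e1 : (decide (pos D (Sum.inr u) < D.rank) &&
                oddZ ((D.coroot.getD r #[]).getD (pos D (Sum.inr u)) 0)) = false := by
              have : ¬ (pos D (Sum.inr u) < D.rank) := by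
                show ¬ (D.rank + u.val < D.rank)
                omega
              rw [decide_eq_false this, Bool.false_and]
            rw [e1, ind_false, zero_add]
            show _ = _ + ind F ((2 ^ (D.rank + r)).testBit (D.rank + u.val))
            rw [ind_testBit_two_pow]
            by_cases hus : u = s
            · rw [if_pos hus, if_pos hus, if_neg (by rw [hus]; omega), add_zero]
            · rw [if_neg hus, if_neg hus, zero_add]
              by_cases hur : u = (⟨r, hr⟩ : Fin D.nroots)
              · rw [if_pos hur, if_pos (by rw [hur]), one_pow, neg_eq_self]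
              · rw [if_neg hur, if_neg (by intro hh; apply hur; apply Fin.ext; simp only; omega)]
        · have hc : nCol D r (pos D (Sum.inr s)) = xorAll (chainMasks D r s.val) := by
            rw [nCol_inr, if_neg hsr', if_neg hneg]
          rw [hc]
          simp only [hsr, if_false]
          rw [if_neg hneg]
          rcases row with i' | u
          · show (0 : F) = _
            rw [one_inl_inr, zero_add]
            have : (xorAll (chainMasks D r s.val)).testBit (pos D (Sum.inl i')) = false :=
              testBit_xorAll_false _ _ (testBit_chainMasks_lt D r s.val i'.val i'.isLt)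
            rw [this, ind_false]
          · show (if u = s then (1 : F) else 0) +
              ((D.chainCoeff (⟨r, hr⟩ : Fin D.nroots).val s.val u.val).map
                fun km => ((km.2 : ℤ) : F) * 1 ^ km.1).sum = _
            rw [one_inr_inr]
            congr 1
            exact chain_entry D F r s.val u.val

end

end Cfsg.Agent.Lib.Helper25.BitWord
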