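import Cfsg.Agent.Lib.Helper25.BitRank

/-! The bit-mask word checker: powers of a word by repeated squaring (helper25). -/

set_option autoImplicit false

namespace Cfsg.Agent.Lib.Helper25.BitWord

open Cfsg Cfsg.Lie Matrix

/-- the exponent with the given binary digits (most significant first), continuing from `e` -/
def expOf : List Bool → ℕ → ℕ
  | [], e => e
  | b :: bs, e => expOf bs (2 * e + (bif b then 1 else 0))

/-- repeated squaring on column masks -/
def powAux (a : List ℕ) : List Bool → List ℕ → List ℕ
  | [], acc => acc
  | b :: bs, acc => powAux a bs (bif b then mulCols (mulCols acc acc) a else mulCols acc acc)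

section
variable (D : ChevalleyDatum) (F : Type*) [Field F] [CharP F 2]

theorem matOf_powAux (a : List ℕ) (ha : a.length = dim D) : ∀ (bs : List Bool) (acc : List ℕ) (e : ℕ),
    acc.length = dim D → matOf D F acc = matOf D F a ^ e →
    matOf D F (powAux a bs acc) = matOf D F a ^ expOf bs e
  | [], acc, e, _, h => h
  | b :: bs, acc, e, hlen, h => by
    cases b
    · show matOf D F (powAux a bs (mulCols acc acc)) = matOf D F a ^ expOf bs (2 * e + 0)
      apply matOf_powAux a ha bs _ _ (by rw [mulCols_length, hlen])
      rw [← matOf_mul D F _ _ hlen, h, ← pow_add]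
      congr 1
      omega
    · show matOf D F (powAux a bs (mulCols (mulCols acc acc) a)) = matOf D F a ^ expOf bs (2 * e + 1)
      apply matOf_powAux a ha bs _ _ (by rw [mulCols_length, ha])
      rw [← matOf_mul D F _ _ (by rw [mulCols_length, hlen]), ← matOf_mul D F _ _ hlen, h, ← pow_add,
        ← pow_succ]
      congr 1
      omega

/-- the check that the `m`-th power of a word is trivial, `m` given by its binary digits -/
def powChk (w : List ℕ) (bits : List Bool) : Bool :=
  decide (powAux (evalR D w) bits (idCols D) = idCols D)

theorem wordMat_pow_of_powChk (w : List ℕ) (bits : List Bool) (h : powChk D w bits = true) :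
    D.wordMat F (w.map fun r => (r, (1 : F))) ^ expOf bits 0 = 1 := by
  have h1 := matOf_powAux D F (evalR D w) (evalR_length D w) bits (idCols D) 0 (idCols_length D)
    (by rw [matOf_idCols, pow_zero])
  rw [of_decide_eq_true h, matOf_idCols, ← wordMat_eq_matOf_evalR] at h1
  exact h1.symm

end

end Cfsg.Agent.Lib.Helper25.BitWord
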