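import Cfsg.Agent.Lib.Helper25.BitWordE

/-! The bit-mask word checker: a cheaper way to compute the column masks of `x_r(1) - 1` (one pass over
the chain table of `r`, scattering the masks to their columns), proved equal to `nCols`, and the checkers
built on it (helper25). -/

set_option autoImplicit false

namespace Cfsg.Agent.Lib.Helper25.BitWord

open Cfsg Cfsg.Lie Matrix

/-- exclusive-or of a mask into a position of a list -/
def xorAt : List ℕ → ℕ → ℕ → List ℕ
  | [], _, _ => []
  | x :: xs, 0, m => (x ^^^ m) :: xs
  | x :: xs, p + 1, m => x :: xorAt xs p m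

theorem xorAt_length : ∀ (l : List ℕ) (p m : ℕ), (xorAt l p m).length = l.length
  | [], _, _ => rfl
  | _ :: _, 0, _ => rfl
  | x :: xs, p + 1, m => by
    show (x :: xorAt xs p m).length = (x :: xs).length
    rw [List.length_cons, List.length_cons, xorAt_length xs p m]

theorem xorAt_getD : ∀ (l : List ℕ) (p m q : ℕ), p < l.length →
    (xorAt l p m).getD q 0 = if q = p then l.getD q 0 ^^^ m else l.getD q 0
  | [], _, _, _, h => by simp at h
  | x :: xs, 0, m, q, _ => by
    cases q with
    | zero => simp [xorAt]
    | succ q => simp [xorAt]
  | x :: xs, p + 1, m, q, h => by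
    cases q with
    | zero => simp [xorAt]
    | succ q =>
      show (xorAt xs p m).getD q 0 = _
      rw [xorAt_getD xs p m q (by simpa using h)]
      simp

theorem xorAll_append : ∀ l₁ l₂ : List ℕ, xorAll (l₁ ++ l₂) = xorAll l₁ ^^^ xorAll l₂
  | [], l₂ => by simp [xorAll]
  | x :: xs, l₂ => by
    show x ^^^ xorAll (xs ++ l₂) = (x ^^^ xorAll xs) ^^^ xorAll l₂
    rw [xorAll_append xs l₂, Nat.xor_assoc]

section
variable (D : ChevalleyDatum)

/-- the mask of a chain entry -/
def entryMask (e : ℕ × Array (ℕ × ℤ)) : ℕ :=
  xorAll (e.2.toList.map fun q => if oddZ q.2 then 2 ^ (D.rank + q.1) else 0)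

/-- the columns that do not come from the chain table -/
def baseCol (r j : ℕ) : ℕ :=
  if j < D.rank then nColH D r j
  else if j - D.rank = r then 0
  else if j - D.rank = D.negIdx.getD r 0 then nColNeg D r
  else 0

/-- scatter the masks of the chain entries to their columns -/
def scatter (r : ℕ) : List (ℕ × Array (ℕ × ℤ)) → List ℕ → List ℕ
  | [], acc => acc
  | e :: es, acc =>
    scatter r es (bif (e.1 == r) || (e.1 == D.negIdx.getD r 0) then acc
      else xorAt acc (D.rank + e.1) (entryMask D e))

/-- the column masks of `x_r(1) - 1`, by scattering -/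
def nColsS (r : ℕ) : List ℕ :=
  if r < D.nroots then
    scatter D r (D.chain.getD r #[]).toList ((List.range (dim D)).map (baseCol D r))
  else List.replicate (dim D) 0

theorem scatter_length (r : ℕ) : ∀ (es : List (ℕ × Array (ℕ × ℤ))) (acc : List ℕ),
    (scatter D r es acc).length = acc.length
  | [], _ => rfl
  | e :: es, acc => by
    show (scatter D r es _).length = _
    rw [scatter_length r es]
    cases (e.1 == r) || (e.1 == D.negIdx.getD r 0)
    · exact xorAt_length _ _ _
    · rfl

/-- the masks of the entries of a list that go to the column of `e_s` -/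
def gatherL (r s : ℕ) (es : List (ℕ × Array (ℕ × ℤ))) : List ℕ :=
  (es.filter (fun e => e.1 = s)).flatMap fun e =>
    e.2.toList.map fun q => if oddZ q.2 then 2 ^ (D.rank + q.1) else 0

theorem gatherL_cons (r s : ℕ) (e : ℕ × Array (ℕ × ℤ)) (es : List (ℕ × Array (ℕ × ℤ))) :
    xorAll (gatherL D r s (e :: es)) =
      (if e.1 = s then entryMask D e else 0) ^^^ xorAll (gatherL D r s es) := by
  unfold gatherL
  rw [List.filter_cons]
  by_cases h : e.1 = s
  · simp only [h, decide_true, if_true, List.flatMap_cons]
    rw [xorAll_append]
    rfl
  · simp only [h, decide_false, Bool.false_eq_true, if_false]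
    simp

theorem scatter_getD (r : ℕ) : ∀ (es : List (ℕ × Array (ℕ × ℤ))) (acc : List ℕ) (s : ℕ),
    D.rank + s < acc.length → s ≠ r → s ≠ D.negIdx.getD r 0 →
    (scatter D r es acc).getD (D.rank + s) 0 =
      acc.getD (D.rank + s) 0 ^^^ xorAll (gatherL D r s es)
  | [], acc, s, _, _, _ => by
    show acc.getD (D.rank + s) 0 = _
    simp [gatherL, xorAll]
  | e :: es, acc, s, hlt, h1, h2 => by
    show (scatter D r es _).getD (D.rank + s) 0 = _
    rw [gatherL_cons]
    cases hb : (e.1 == r) || (e.1 == D.negIdx.getD r 0)
    · rw [cond_false, scatter_getD r es _ s (by rw [xorAt_length]; exact hlt) h1 h2]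
      have hpos : D.rank + e.1 < acc.length ∨ ¬ (D.rank + e.1 < acc.length) := by omega
      by_cases hes : e.1 = s
      · rw [if_pos hes, hes, xorAt_getD _ _ _ _ hlt, if_pos rfl, Nat.xor_assoc]
      · rw [if_neg hes]
        rcases hpos with hp | hp
        · rw [xorAt_getD _ _ _ _ hp, if_neg (by omega), Nat.zero_xor]
        · have : xorAt acc (D.rank + e.1) (entryMask D e) = acc := by
            clear hb hes hlt
            revert hp
            generalize D.rank + e.1 = p
            generalize entryMask D e = m
            induction acc generalizing p with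
            | nil => intro _; rfl
            | cons x xs ih =>
              intro hp
              cases p with
              | zero => simp at hp
              | succ p =>
                show x :: xorAt xs p m = x :: xs
                rw [ih p (by simpa using hp)]
          rw [this, Nat.zero_xor]
    · rw [cond_true, scatter_getD r es _ s hlt h1 h2]
      have hes : ¬ (e.1 = s) := by
        intro hes
        rw [Bool.or_eq_true, beq_iff_eq, beq_iff_eq] at hb
        rcases hb with hb | hb
        · exact h1 (by rw [← hes, hb])
        · exact h2 (by rw [← hes, hb])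
      rw [if_neg hes, Nat.zero_xor]

theorem scatter_getD_other (r : ℕ) : ∀ (es : List (ℕ × Array (ℕ × ℤ))) (acc : List ℕ) (j : ℕ),
    (j < D.rank ∨ j - D.rank = r ∨ j - D.rank = D.negIdx.getD r 0) →
    (scatter D r es acc).getD j 0 = acc.getD j 0
  | [], _, _, _ => rfl
  | e :: es, acc, j, hj => by
    show (scatter D r es _).getD j 0 = _
    rw [scatter_getD_other r es _ j hj]
    cases hb : (e.1 == r) || (e.1 == D.negIdx.getD r 0)
    · rw [cond_false]
      by_cases hp : D.rank + e.1 < acc.length
      · rw [xorAt_getD _ _ _ _ hp, if_neg]
        intro hje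
        rw [Bool.or_eq_false_iff, beq_eq_false_iff_ne, beq_eq_false_iff_ne] at hb
        rcases hj with hj | hj | hj
        · omega
        · apply hb.1; omega
        · apply hb.2; omega
      · congr 1
        revert hp
        generalize D.rank + e.1 = p
        generalize entryMask D e = m
        intro hp
        induction acc generalizing p with
        | nil => rfl
        | cons x xs ih =>
          cases p with
          | zero => simp at hp
          | succ p =>
            show x :: xorAt xs p m = x :: xs
            rw [ih p (by simpa using hp)]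
    · rfl

theorem nColsS_eq (r : ℕ) : nColsS D r = nCols D r := by
  unfold nColsS nCols
  by_cases hr : r < D.nroots
  swap
  · rw [if_neg hr, if_neg hr]
  rw [if_pos hr, if_pos hr]
  apply List.ext_getElem
  · rw [scatter_length, List.length_map, List.length_map]
  intro j h1 h2
  have hj : j < dim D := by simpa using h2
  rw [List.getElem_map, List.getElem_range, ← List.getD_eq_getElem _ 0 h1]
  have hbase : ((List.range (dim D)).map (baseCol D r)).getD j 0 = baseCol D r j := by
    rw [List.getD_eq_getElem _ _ (by simpa using hj), List.getElem_map, List.getElem_range]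
  by_cases hc : j < D.rank ∨ j - D.rank = r ∨ j - D.rank = D.negIdx.getD r 0
  · rw [scatter_getD_other D r _ _ j hc, hbase]
    unfold baseCol nCol
    rcases hc with hc | hc | hc
    · rw [if_pos hc, if_pos hc]
    · by_cases h0 : j < D.rank
      · rw [if_pos h0, if_pos h0]
      · rw [if_neg h0, if_neg h0, if_pos hc, if_pos hc]
    · by_cases h0 : j < D.rank
      · rw [if_pos h0, if_pos h0]
      · rw [if_neg h0, if_neg h0]
        by_cases h3 : j - D.rank = r
        · rw [if_pos h3, if_pos h3]
        · rw [if_neg h3, if_neg h3, if_pos hc, if_pos hc]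
  · push Not at hc
    obtain ⟨hc1, hc2, hc3⟩ := hc
    have hjs : j = D.rank + (j - D.rank) := by omega
    have key := scatter_getD D r (D.chain.getD r #[]).toList ((List.range (dim D)).map (baseCol D r))
      (j - D.rank) (by rw [List.length_map, List.length_range]; omega) hc2 hc3
    rw [← hjs, hbase] at key
    rw [key]
    unfold baseCol nCol
    rw [if_neg (by omega), if_neg hc2, if_neg hc3, if_neg (by omega), if_neg hc2, if_neg hc3, Nat.zero_xor]
    rfl

/-- the column masks of `A * x_r(1)` from those of `A` -/
def mulRS (acc : List ℕ) (r : ℕ) : List ℕ :=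
  List.zipWith (fun a n => a ^^^ xorColsE acc n) acc (nColsS D r)

theorem mulRS_eq : mulRS D = mulR D := by
  funext acc r
  unfold mulRS mulR
  rw [nColsS_eq]

/-- the column masks of the product `x_{r₁}(1) x_{r₂}(1) ⋯` -/
def evalRS (w : List ℕ) : List ℕ := w.foldl (mulRS D) (idCols D)

theorem evalRS_eq (w : List ℕ) : evalRS D w = evalR D w := by
  unfold evalRS evalR
  rw [mulRS_eq]

/-- the checker -/
def bitChkS (w1 w2 : List ℕ) : Bool := decide (evalRS D w1 = evalRS D w2)

theorem bitChkR_of_S (w1 w2 : List ℕ) (h : bitChkS D w1 w2 = true) : bitChkR D w1 w2 = true := by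
  unfold bitChkS at h
  unfold bitChkR
  rw [evalRS_eq, evalRS_eq] at h
  exact h

/-- the power checker -/
def powChkS (w : List ℕ) (bits : List Bool) : Bool :=
  decide (powAux (evalRS D w) bits (idCols D) = idCols D)

theorem powChk_of_S (w : List ℕ) (bits : List Bool) (h : powChkS D w bits = true) :
    powChk D w bits = true := by
  unfold powChkS at h
  unfold powChk
  rw [evalRS_eq] at h
  exact h

/-- the column masks of `y - 1` for the word `y` -/
def subOneColsS (w : List ℕ) : List ℕ := List.zipWith (fun x y => x ^^^ y) (evalRS D w) (idCols D)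

theorem subOneColsS_eq (w : List ℕ) : subOneColsS D w = subOneCols D w := by
  unfold subOneColsS subOneCols
  rw [evalRS_eq]

end

end Cfsg.Agent.Lib.Helper25.BitWord
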