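import Cfsg.Agent.Lib.Helper25.BitWordF

/-! The bit-mask word checker, fast version: the columns of `x_r(1) - 1` as lists of row positions, and
random access to the columns of the running product through a packed copy (helper25). -/

set_option autoImplicit false

namespace Cfsg.Agent.Lib.Helper25.BitWord

open Cfsg Cfsg.Lie Matrix

/-- the mask with the given bits (a bit given twice cancels) -/
def toMask (l : List ℕ) : ℕ := xorAll (l.map fun i => 2 ^ i)

theorem toMask_append (l₁ l₂ : List ℕ) : toMask (l₁ ++ l₂) = toMask l₁ ^^^ toMask l₂ := by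
  unfold toMask
  rw [List.map_append, xorAll_append]

theorem toMask_nil : toMask [] = 0 := rfl

/-- append to the list at a position -/
def appAt : List (List ℕ) → ℕ → List ℕ → List (List ℕ)
  | [], _, _ => []
  | x :: xs, 0, m => (x ++ m) :: xs
  | x :: xs, p + 1, m => x :: appAt xs p m

theorem appAt_map_toMask : ∀ (l : List (List ℕ)) (p : ℕ) (m : List ℕ),
    (appAt l p m).map toMask = xorAt (l.map toMask) p (toMask m)
  | [], _, _ => rfl
  | x :: xs, 0, m => by
    show toMask (x ++ m) :: xs.map toMask = (toMask x ^^^ toMask m) :: xs.map toMask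
    rw [toMask_append]
  | x :: xs, p + 1, m => by
    show toMask x :: (appAt xs p m).map toMask = toMask x :: xorAt (xs.map toMask) p (toMask m)
    rw [appAt_map_toMask xs p m]

section
variable (D : ChevalleyDatum)

/-- the row positions of a chain entry -/
def entrySrcs (e : ℕ × Array (ℕ × ℤ)) : List ℕ :=
  e.2.toList.filterMap fun q => if oddZ q.2 then some (D.rank + q.1) else none

theorem toMask_entrySrcs (e : ℕ × Array (ℕ × ℤ)) : toMask (entrySrcs D e) = entryMask D e := by
  unfold entrySrcs entryMask toMask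
  induction e.2.toList with
  | nil => rfl
  | cons q l ih =>
    rw [List.filterMap_cons, List.map_cons]
    by_cases ho : oddZ q.2 = true
    · simp only [ho, if_true]
      rw [List.map_cons]
      show 2 ^ (D.rank + q.1) ^^^ xorAll _ = 2 ^ (D.rank + q.1) ^^^ xorAll _
      rw [ih]
    · simp only [ho, if_false, Bool.false_eq_true]
      show xorAll _ = 0 ^^^ xorAll _
      rw [ih, Nat.zero_xor]

/-- the row positions of the columns that do not come from the chain table -/
def baseSrc (r j : ℕ) : List ℕ :=
  if j < D.rank then (if oddZ ((D.cartanSR.getD j #[]).getD r 0) then [D.rank + r] else [])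
  else if j - D.rank = r then []
  else if j - D.rank = D.negIdx.getD r 0 then
    ((List.range D.rank).filter fun i => oddZ ((D.coroot.getD r #[]).getD i 0)) ++ [D.rank + r]
  else []

theorem toMask_singleton (i : ℕ) : toMask [i] = 2 ^ i := by
  show 2 ^ i ^^^ 0 = 2 ^ i
  rw [Nat.xor_zero]

theorem maskOf_eq_toMask (f : ℕ → Bool) : ∀ d : ℕ, maskOf f d = toMask ((List.range d).filter f)
  | 0 => rfl
  | d + 1 => by
    show maskOf f d ||| (if f d then 2 ^ d else 0) = _
    rw [List.range_succ, List.filter_append, toMask_append, ← maskOf_eq_toMask f d]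
    by_cases hfd : f d = true
    · rw [if_pos hfd]
      have : [d].filter f = [d] := by simp [hfd]
      rw [this, toMask_singleton]
      apply Nat.eq_of_testBit_eq
      intro i
      rw [Nat.testBit_or, Nat.testBit_xor, testBit_maskOf, Nat.testBit_two_pow]
      by_cases hid : d = i
      · subst hid; simp
      · simp [hid]
    · rw [if_neg hfd]
      have : [d].filter f = [] := by simp [hfd]
      rw [this, toMask_nil, Nat.or_zero, Nat.xor_zero]

theorem toMask_baseSrc (r j : ℕ) : toMask (baseSrc D r j) = baseCol D r j := by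
  unfold baseSrc baseCol
  by_cases h0 : j < D.rank
  · rw [if_pos h0, if_pos h0]
    unfold nColH
    split_ifs
    · exact toMask_singleton _
    · rfl
  · rw [if_neg h0, if_neg h0]
    by_cases h1 : j - D.rank = r
    · rw [if_pos h1, if_pos h1]; rfl
    · rw [if_neg h1, if_neg h1]
      by_cases h2 : j - D.rank = D.negIdx.getD r 0
      · rw [if_pos h2, if_pos h2, toMask_append, toMask_singleton]
        unfold nColNeg
        rw [maskOf_eq_toMask]
      · rw [if_neg h2, if_neg h2]; rfl

/-- scatter the row positions of the chain entries to their columns -/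
def scatterSrc (r : ℕ) : List (ℕ × Array (ℕ × ℤ)) → List (List ℕ) → List (List ℕ)
  | [], acc => acc
  | e :: es, acc =>
    scatterSrc r es (bif (e.1 == r) || (e.1 == D.negIdx.getD r 0) then acc
      else appAt acc (D.rank + e.1) (entrySrcs D e))

theorem scatterSrc_map (r : ℕ) : ∀ (es : List (ℕ × Array (ℕ × ℤ))) (acc : List (List ℕ)),
    (scatterSrc D r es acc).map toMask = scatter D r es (acc.map toMask)
  | [], _ => rfl
  | e :: es, acc => by
    show (scatterSrc D r es _).map toMask = scatter D r es _
    rw [scatterSrc_map r es]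
    congr 1
    cases (e.1 == r) || (e.1 == D.negIdx.getD r 0)
    · show (appAt acc (D.rank + e.1) (entrySrcs D e)).map toMask = xorAt _ _ _
      rw [appAt_map_toMask, toMask_entrySrcs]
    · rfl

/-- the row positions of the columns of `x_r(1) - 1` -/
def nSrcs (r : ℕ) : List (List ℕ) :=
  if r < D.nroots then
    scatterSrc D r (D.chain.getD r #[]).toList ((List.range (dim D)).map (baseSrc D r))
  else List.replicate (dim D) []

theorem nSrcs_map (r : ℕ) : (nSrcs D r).map toMask = nColsS D r := by
  unfold nSrcs nColsS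
  by_cases hr : r < D.nroots
  · rw [if_pos hr, if_pos hr, scatterSrc_map, List.map_map]
    congr 1
    apply List.map_congr_left
    intro j _
    exact toMask_baseSrc D r j
  · rw [if_neg hr, if_neg hr, List.map_replicate]
    rfl

end

/-! ### linearity of `xorCols` in the mask -/

theorem xorCols_xor : ∀ (a : List ℕ) (m₁ m₂ : ℕ), xorCols a (m₁ ^^^ m₂) = xorCols a m₁ ^^^ xorCols a m₂
  | [], _, _ => by simp [xorCols]
  | x :: xs, m₁, m₂ => by
    show (if (m₁ ^^^ m₂).testBit 0 then x else 0) ^^^ xorCols xs ((m₁ ^^^ m₂) / 2) =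
      ((if m₁.testBit 0 then x else 0) ^^^ xorCols xs (m₁ / 2)) ^^^
        ((if m₂.testBit 0 then x else 0) ^^^ xorCols xs (m₂ / 2))
    have hdiv : (m₁ ^^^ m₂) / 2 = m₁ / 2 ^^^ m₂ / 2 := by
      rw [← Nat.shiftRight_one, ← Nat.shiftRight_one, ← Nat.shiftRight_one, Nat.shiftRight_xor_distrib]
    rw [hdiv, xorCols_xor xs, Nat.testBit_xor]
    generalize xorCols xs (m₁ / 2) = A
    generalize xorCols xs (m₂ / 2) = B
    cases h1 : m₁.testBit 0 <;> cases h2 : m₂.testBit 0
    · simp
    · simp only [Bool.false_xor, if_true, Bool.false_eq_true, if_false, Nat.zero_xor]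
      rw [Nat.xor_left_comm]
    · simp only [Bool.xor_false, if_true, Bool.false_eq_true, if_false, Nat.zero_xor]
      rw [Nat.xor_assoc]
    · simp only [Bool.xor_self, Bool.false_eq_true, if_false, if_true, Nat.zero_xor]
      rw [Nat.xor_assoc, Nat.xor_left_comm A x B, Nat.xor_xor_cancel_left]

theorem xorCols_two_pow : ∀ (a : List ℕ) (i : ℕ), xorCols a (2 ^ i) = a.getD i 0
  | [], _ => by simp [xorCols]
  | x :: xs, 0 => by
    show (if (2 ^ 0).testBit 0 then x else 0) ^^^ xorCols xs (2 ^ 0 / 2) = _
    simp [xorCols_zero]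
  | x :: xs, i + 1 => by
    show (if (2 ^ (i + 1)).testBit 0 then x else 0) ^^^ xorCols xs (2 ^ (i + 1) / 2) = _
    have h1 : (2 ^ (i + 1)).testBit 0 = false := by
      rw [Nat.testBit_two_pow]; simp
    have h2 : 2 ^ (i + 1) / 2 = 2 ^ i := by
      rw [pow_succ]; exact Nat.mul_div_cancel _ (by norm_num)
    rw [h1, h2, xorCols_two_pow xs i]
    simp

theorem xorCols_toMask (a : List ℕ) : ∀ srcs : List ℕ,
    xorCols a (toMask srcs) = xorAll (srcs.map fun i => a.getD i 0)
  | [] => by
    show xorCols a 0 = 0
    exact xorCols_zero a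
  | i :: is => by
    show xorCols a (2 ^ i ^^^ toMask is) = a.getD i 0 ^^^ xorAll (is.map fun i => a.getD i 0)
    rw [xorCols_xor, xorCols_two_pow, xorCols_toMask a is]

/-! ### packed access -/

/-- force the evaluation of a number before using it -/
def forceNat {α : Type} (m : ℕ) (k : ℕ → α) : α := Nat.casesOn m (k 0) (fun m' => k (m' + 1))

theorem forceNat_eq {α : Type} (m : ℕ) (k : ℕ → α) : forceNat m k = k m := by
  cases m <;> rfl

/-- the inclusive-or of the members of a list -/
def orAll : List ℕ → ℕ
  | [] => 0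
  | x :: xs => x ||| orAll xs

theorem le_orAll : ∀ (l : List ℕ), ∀ x ∈ l, x ≤ orAll l
  | [], _, h => by simp at h
  | y :: ys, x, h => by
    rw [List.mem_cons] at h
    show x ≤ y ||| orAll ys
    rcases h with rfl | h
    · exact Nat.left_le_or
    · exact le_trans (le_orAll ys x h) Nat.right_le_or

/-- a number of bits sufficient for all the members of the list -/
def maxBits (l : List ℕ) : ℕ := Nat.log2 (orAll l) + 1

theorem lt_two_pow_maxBits (l : List ℕ) : ∀ x ∈ l, x < 2 ^ maxBits l := fun x hx =>
  lt_of_le_of_lt (le_orAll l x hx) Nat.lt_log2_self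

/-- the list packed in base `B` -/
def pack (B : ℕ) : List ℕ → ℕ
  | [] => 0
  | a :: l => a + B * pack B l

theorem pack_access (B : ℕ) (hB : 0 < B) : ∀ (l : List ℕ), (∀ a ∈ l, a < B) → ∀ u : ℕ,
    pack B l / B ^ u % B = l.getD u 0
  | [], _, u => by simp [pack]
  | a :: l, h, 0 => by
    have ha : a < B := h a List.mem_cons_self
    simp only [pack, pow_zero, Nat.div_one, List.getD_cons_zero]
    rw [Nat.add_mul_mod_self_left]; exact Nat.mod_eq_of_lt ha
  | a :: l, h, u + 1 => by
    have ha : a < B := h a List.mem_cons_self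
    have ih := pack_access B hB l (fun b hb => h b (List.mem_cons_of_mem _ hb)) u
    simp only [pack, List.getD_cons_succ]
    rw [pow_succ, mul_comm (B ^ u) B, ← Nat.div_div_eq_div_mul, Nat.add_mul_div_left _ _ hB,
      Nat.div_eq_of_lt ha, zero_add]
    exact ih

/-- exclusive-or of the members of the packed list at the given positions -/
def xorSrc (P B : ℕ) : List ℕ → ℕ
  | [] => 0
  | i :: is => (P / B ^ i % B) ^^^ xorSrc P B is

theorem xorSrc_eq (l : List ℕ) : ∀ srcs : List ℕ,
    xorSrc (pack (2 ^ maxBits l) l) (2 ^ maxBits l) srcs = xorAll (srcs.map fun i => l.getD i 0)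
  | [] => rfl
  | i :: is => by
    show (pack (2 ^ maxBits l) l / (2 ^ maxBits l) ^ i % 2 ^ maxBits l) ^^^ xorSrc _ _ is = _
    rw [pack_access _ (Nat.two_pow_pos _) l (lt_two_pow_maxBits l) i, xorSrc_eq l is]
    rfl

/-! ### a leaner dense multiplication -/

/-- `xorCols`, selecting by multiplication -/
def xorColsA : List ℕ → ℕ → ℕ
  | [], _ => 0
  | x :: xs, m => (x * (m % 2)) ^^^ xorColsA xs (m / 2)

theorem xorColsA_eq : ∀ (a : List ℕ) (m : ℕ), xorColsA a m = xorCols a m
  | [], _ => rfl
  | x :: xs, m => by
    show (x * (m % 2)) ^^^ xorColsA xs (m / 2) = (if m.testBit 0 then x else 0) ^^^ xorCols xs (m / 2)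
    rw [xorColsA_eq xs (m / 2), Nat.testBit_zero]
    rcases Nat.mod_two_eq_zero_or_one m with h | h
    · rw [h]; simp
    · rw [h]; simp

/-- the column masks of a product -/
def mulColsA (a b : List ℕ) : List ℕ := b.map (xorColsA a)

theorem mulColsA_eq : mulColsA = mulCols := by
  funext a b
  unfold mulColsA mulCols
  congr 1
  funext m
  exact xorColsA_eq a m

/-- repeated squaring on column masks -/
def powAuxA (a : List ℕ) : List Bool → List ℕ → List ℕ
  | [], acc => acc
  | b :: bs, acc => powAuxA a bs (bif b then mulColsA (mulColsA acc acc) a else mulColsA acc acc)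

theorem powAuxA_eq (a : List ℕ) : ∀ (bs : List Bool) (acc : List ℕ), powAuxA a bs acc = powAux a bs acc
  | [], _ => rfl
  | b :: bs, acc => by
    show powAuxA a bs _ = powAux a bs _
    rw [powAuxA_eq a bs, mulColsA_eq]

section
variable (D : ChevalleyDatum)

/-- the column masks of `A * x_r(1)` from those of `A`, with packed access -/
def mulRQ (acc : List ℕ) (r : ℕ) : List ℕ :=
  forceNat (2 ^ maxBits acc) fun B => forceNat (pack B acc) fun P =>
    List.zipWith (fun a s => a ^^^ xorSrc P B s) acc (nSrcs D r)

theorem mulRQ_eq : mulRQ D = mulRS D := by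
  funext acc r
  unfold mulRQ mulRS
  rw [forceNat_eq, forceNat_eq, ← nSrcs_map, List.zipWith_map_right]
  congr 1
  funext a s
  rw [xorColsE_eq, xorCols_toMask, xorSrc_eq]

/-- the column masks of the product `x_{r₁}(1) x_{r₂}(1) ⋯` -/
def evalRQ (w : List ℕ) : List ℕ := w.foldl (mulRQ D) (idCols D)

theorem evalRQ_eq (w : List ℕ) : evalRQ D w = evalR D w := by
  unfold evalRQ
  rw [mulRQ_eq, ← evalRS_eq]
  rfl

/-- the checker -/
def bitChkQ (w1 w2 : List ℕ) : Bool := decide (evalRQ D w1 = evalRQ D w2)

theorem bitChkR_of_Q (w1 w2 : List ℕ) (h : bitChkQ D w1 w2 = true) : bitChkR D w1 w2 = true := by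
  unfold bitChkQ at h
  unfold bitChkR
  rw [evalRQ_eq, evalRQ_eq] at h
  exact h

/-- the power checker -/
def powChkQ (w : List ℕ) (bits : List Bool) : Bool :=
  decide (powAuxA (evalRQ D w) bits (idCols D) = idCols D)

theorem powChk_of_Q (w : List ℕ) (bits : List Bool) (h : powChkQ D w bits = true) :
    powChk D w bits = true := by
  unfold powChkQ at h
  unfold powChk
  rw [evalRQ_eq, powAuxA_eq] at h
  exact h

/-- the column masks of `y - 1` for the word `y` -/
def subOneColsQ (w : List ℕ) : List ℕ := List.zipWith (fun x y => x ^^^ y) (evalRQ D w) (idCols D)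

theorem subOneColsQ_eq (w : List ℕ) : subOneColsQ D w = subOneCols D w := by
  unfold subOneColsQ subOneCols
  rw [evalRQ_eq]

end

end Cfsg.Agent.Lib.Helper25.BitWord
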