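import Mathlib
import Cfsg.Prelude.Def_Solvable
import Cfsg.Agent.Lib.Helper25.BaerSuzuki
import Cfsg.Agent.Lib.Helper25.RootSetMap

set_option autoImplicit false

namespace Cfsg.Agent.Lib.Helper25

open Cfsg
open scoped Pointwise

section Brodkey

variable {G : Type*} [Group G]

/-- Sylow's theorem inside a subgroup `N` containing the Sylow subgroup `S₁`: every `p`-subgroup of
`N` is conjugate under `N` into `S₁`. -/
theorem exists_conj_le_of_sylow_le [Finite G] {p : ℕ} [Fact p.Prime] {N : Subgroup G}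
    (S₁ : Sylow p G) (hS : (S₁ : Subgroup G) ≤ N) {Q : Subgroup G} (hQ : IsPGroup p Q)
    (hQN : Q ≤ N) : ∃ n ∈ N, conjBy Q n ≤ (S₁ : Subgroup G) := by
  have hQ' : IsPGroup p (Q.subgroupOf N) := hQ.comap_subtype
  obtain ⟨R, hR⟩ := hQ'.exists_le_sylow
  obtain ⟨n, hn⟩ := MulAction.exists_smul_eq N R (S₁.subtype hS)
  refine ⟨n, n.2, ?_⟩
  intro x hx
  rw [mem_conjBy] at hx
  have hxN : (n : G)⁻¹ * x * n ∈ N := hQN hx
  have h1 : (⟨(n : G)⁻¹ * x * n, hxN⟩ : N) ∈ (R : Subgroup N) := hR (Subgroup.mem_subgroupOf.2 hx)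
  have h2 : MulAut.conj n • (⟨(n : G)⁻¹ * x * n, hxN⟩ : N) ∈ MulAut.conj n • (R : Subgroup N) :=
    Subgroup.smul_mem_pointwise_smul _ _ _ h1
  have h2' : MulAut.conj n • (⟨(n : G)⁻¹ * x * n, hxN⟩ : N) ∈ ((n • R : Sylow p N) : Subgroup N) := h2
  rw [hn, Sylow.coe_subtype, Subgroup.mem_subgroupOf] at h2'
  have h3 : ((MulAut.conj n • (⟨(n : G)⁻¹ * x * n, hxN⟩ : N) : N) : G) = x := by
    rw [MulAut.smul_def, MulAut.conj_apply]
    simp only [Subgroup.coe_mul, Subgroup.coe_inv]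
    group
  rwa [h3] at h2'

/-- **Brodkey's theorem**. -/
theorem brodkey [Finite G] {p : ℕ} [Fact p.Prime] (S : Sylow p G) (hS : IsMulCommutative S)
    (hOp : Cfsg.pCore p G = ⊥) :
    ∃ g : G, (S : Subgroup G) ⊓ conjBy (S : Subgroup G) g = ⊥ := by
  classical
  -- all Sylow subgroups are commutative
  have hcomm : ∀ P : Sylow p G, IsMulCommutative (P : Subgroup G) := by
    intro P
    obtain ⟨g, hg⟩ := MulAction.exists_smul_eq G S P
    rw [← hg, sylow_coe_smul_eq_conjBy]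
    exact isMulCommutative_map _ hS
  obtain ⟨⟨S₁, S₂⟩, hmin⟩ := Finite.exists_min
    (fun P : Sylow p G × Sylow p G => Nat.card ↥((P.1 : Subgroup G) ⊓ (P.2 : Subgroup G)))
  simp only at hmin
  -- `S₁, S₂ ≤ N(D)`
  have hS₁N : (S₁ : Subgroup G) ≤ Subgroup.normalizer (((S₁ : Subgroup G) ⊓ (S₂ : Subgroup G) :
      Subgroup G) : Set G) := by
    intro x hx
    apply mem_normalizer_of_comm
    intro y hy
    exact comm_of_isMulCommutative (hcomm S₁) hx hy.1
  have hS₂N : (S₂ : Subgroup G) ≤ Subgroup.normalizer (((S₁ : Subgroup G) ⊓ (S₂ : Subgroup G) :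
      Subgroup G) : Set G) := by
    intro x hx
    apply mem_normalizer_of_comm
    intro y hy
    exact comm_of_isMulCommutative (hcomm S₂) hx hy.2
  -- `D` lies in every Sylow subgroup
  have hDall : ∀ P : Sylow p G, (S₁ : Subgroup G) ⊓ (S₂ : Subgroup G) ≤ (P : Subgroup G) := by
    intro P
    have hQ : IsPGroup p ↥((P : Subgroup G) ⊓ Subgroup.normalizer
        (((S₁ : Subgroup G) ⊓ (S₂ : Subgroup G) : Subgroup G) : Set G)) :=
      P.isPGroup'.to_le inf_le_left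
    obtain ⟨n, hnN, hn⟩ := exists_conj_le_of_sylow_le S₁ hS₁N hQ inf_le_right
    have hle : ((n • P : Sylow p G) : Subgroup G) ⊓ (S₂ : Subgroup G) ≤
        (S₁ : Subgroup G) ⊓ (S₂ : Subgroup G) := by
      intro x hx
      rw [Subgroup.mem_inf] at hx ⊢
      obtain ⟨hxP, hxS₂⟩ := hx
      refine ⟨?_, hxS₂⟩
      rw [sylow_coe_smul_eq_conjBy, mem_conjBy] at hxP
      apply hn
      rw [mem_conjBy]
      refine ⟨hxP, ?_⟩
      exact Subgroup.mul_mem _ (Subgroup.mul_mem _ (Subgroup.inv_mem _ hnN) (hS₂N hxS₂)) hnN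
    have hcard := hmin (n • P, S₂)
    simp only at hcard
    have heq := Subgroup.eq_of_le_of_card_ge hle hcard
    have hDP : (S₁ : Subgroup G) ⊓ (S₂ : Subgroup G) ≤ conjBy (P : Subgroup G) n := by
      rw [← heq, sylow_coe_smul_eq_conjBy]
      exact inf_le_left
    -- conjugate back by `n⁻¹ ∈ N(D)`
    have h1 := conjBy_mono hDP n⁻¹
    rw [conjBy_conjBy_inv, conjBy_eq_self_iff.2 (Subgroup.inv_mem _ hnN)] at h1
    exact h1
  -- the normal closure of `D` is a normal `p`-subgroup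
  have hNC : Subgroup.normalClosure (((S₁ : Subgroup G) ⊓ (S₂ : Subgroup G) : Subgroup G) : Set G) ≤
      (S₁ : Subgroup G) := by
    unfold Subgroup.normalClosure
    rw [Subgroup.closure_le]
    intro a ha
    rw [Group.mem_conjugatesOfSet_iff] at ha
    obtain ⟨x, hx, hconj⟩ := ha
    rw [isConj_iff] at hconj
    obtain ⟨c, rfl⟩ := hconj
    have h1 := hDall (c⁻¹ • S₁) hx
    rw [sylow_coe_smul_eq_conjBy, mem_conjBy, inv_inv] at h1
    exact h1
  have hbot : Subgroup.normalClosure (((S₁ : Subgroup G) ⊓ (S₂ : Subgroup G) : Subgroup G) : Set G)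
      = ⊥ := by
    rw [eq_bot_iff, ← hOp]
    exact le_sSup ⟨Subgroup.normalClosure_normal, S₁.isPGroup'.to_le hNC⟩
  have hD : (S₁ : Subgroup G) ⊓ (S₂ : Subgroup G) = ⊥ := by
    rw [eq_bot_iff, ← hbot]
    exact Subgroup.le_normalClosure
  -- transport to `S`
  obtain ⟨k, hk⟩ := MulAction.exists_smul_eq G S S₁
  obtain ⟨k', hk'⟩ := MulAction.exists_smul_eq G S S₂
  refine ⟨k⁻¹ * k', ?_⟩
  have h1 : conjBy ((S : Subgroup G) ⊓ conjBy (S : Subgroup G) (k⁻¹ * k')) k = ⊥ := by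
    unfold conjBy
    rw [Subgroup.map_inf _ _ _ (MulAut.conj k).injective]
    change conjBy (S : Subgroup G) k ⊓ conjBy (conjBy (S : Subgroup G) (k⁻¹ * k')) k = ⊥
    rw [← conjBy_mul, mul_inv_cancel_left, ← sylow_coe_smul_eq_conjBy, ← sylow_coe_smul_eq_conjBy,
      hk, hk', hD]
  exact conjBy_eq_bot_iff.1 h1

end Brodkey

end Cfsg.Agent.Lib.Helper25
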