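import Mathlib
import Cfsg.Prelude.Def_GeometricClasses
import Cfsg.Agent.Lib.Helper25.C3O2Defs
import Cfsg.Agent.Lib.Helper25.OEFsaH1
import Cfsg.Agent.Lib.Helper1.C3O2S4A
import Cfsg.Agent.Lib.Helper1.C3O2S4E
import Cfsg.Agent.Lib.Helper10.C3O2Back
import Cfsg.Agent.Lib.Helper10.C3O2IRR
import Cfsg.Agent.Lib.Helper10.C3O2KAP
import Cfsg.Agent.Lib.Helper25.C3O2Modp
import Cfsg.Agent.Lib.Helper25.C3O2S4B
import Cfsg.Agent.Lib.Helper25.C3O2SK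
import Cfsg.Agent.Lib.Helper9.C3O2MOVE
import Cfsg.Agent.Lib.Helper9.C3O2S4D

/-!
C3O2 (helper25, planner): `O_4^-(q^2).2 < Ω_8^-(q)`, `q` odd (S5825 conjunct (7)) - the assembly of the leaves of
notes/C3O2_leaves.lean (plan: notes/C3O2_plan.md).  `Asm.c3_max8` is the statement in the frozen vocabulary.
-/

set_option autoImplicit false
set_option linter.unusedSectionVars false
set_option linter.unusedVariables false

/-! ## ASSEMBLY (helper25) -/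

namespace Cfsg.Agent.Lib.Helper25.C3O2.Asm
open Matrix Module QuadraticMap Cfsg Cfsg.Geo Cfsg.Agent.Lib.Helper25.OEFsa
  Cfsg.Agent.Lib.Helper25.CD Cfsg.Agent.Lib.Helper25.Siegel
  Cfsg.Agent.Lib.Helper5.NSMax Cfsg.Agent.Lib.Helper5.TSMax Cfsg.Agent.Lib.Helper25.AutO
  Cfsg.Agent.Lib.Helper25.C3O2

variable {F : Type*} [Field F] [Fintype F] {E : Type*} [Field E] [Algebra F E] [FiniteDimensional F E]
  {ι : Type} [Fintype ι] [DecidableEq ι]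
  {ρ : E →ₐ[F] Matrix ι ι F} {Q : QuadraticForm F (ι → F)} {B : (ι → F) → (ι → F) → E} {QE : (ι → F) → E}
  {κ : E} {δ : F}

theorem smulF_eq_rho (ρ : E →ₐ[F] Matrix ι ι F) (c : F) (y : ι → F) : c • y = ρ (algebraMap F E c) *ᵥ y := by
  rw [Algebra.algebraMap_eq_smul_one, map_smul, map_one, Matrix.smul_mulVec, Matrix.one_mulVec]

theorem comb_eq_rho (ρ : E →ₐ[F] Matrix ι ι F) (κ : E) (a b : F) (y : ι → F) :
    a • y + b • (ρ κ *ᵥ y) = ρ (algebraMap F E a + algebraMap F E b * κ) *ᵥ y := by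
  rw [rho_add_mulVec, rho_mul_mulVec, ← smulF_eq_rho, ← smulF_eq_rho]

theorem comb_ne_zero (hκ : Kap (F := F) κ δ) (h2 : (2 : F) ≠ 0) {a b : F} (hab : a ≠ 0 ∨ b ≠ 0) :
    algebraMap F E a + algebraMap F E b * κ ≠ 0 := by
  intro h0
  have h1 := hκ.tr_ab a b
  have h3 := hκ.tr_kap_ab a b
  rw [h0, map_zero] at h1
  rw [h0, mul_zero, map_zero] at h3
  have ha : a = 0 := by
    rcases mul_eq_zero.1 h1.symm with h | h
    · exact absurd h h2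
    · exact h
  have hb : b = 0 := by
    rcases mul_eq_zero.1 h3.symm with h | h
    · rcases mul_eq_zero.1 h with h' | h'
      · exact absurd h' h2
      · exact h'
    · exact absurd h hκ.delta_ne
  rcases hab with h | h
  · exact h ha
  · exact h hb

theorem act_mulVec (g : ↥(Cfsg.Omega F ⇑Q)) (x : ι → F) :
    act Q g x = (((g : ↥(Cfsg.isometryGroup F ⇑Q)) : GL ι F) : Matrix ι ι F) *ᵥ x := rfl

theorem polar_self_J (h : Forms ρ Q B QE) {p : ι → F} (hp : QE p = 0) (κ : E) : polar Q p (ρ κ *ᵥ p) = 0 := by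
  rw [polar_J_right h, h.B_self, hp, mul_zero, mul_zero, map_zero]

/-- (S1) -/
theorem s1 (h : Forms ρ Q B QE) (hκ : Kap κ δ) {M : Subgroup ↥(Cfsg.Omega F ⇑Q)} (C : Ctx h M)
    (g₀ : ↥(Cfsg.Omega F ⇑Q)) (hg₀ : g₀ ∈ M)
    (hn : ∀ k : E, (((g₀ : ↥(Cfsg.isometryGroup F ⇑Q)) : GL ι F)⁻¹ : GL ι F).1 * ρ κ *
      (((g₀ : ↥(Cfsg.isometryGroup F ⇑Q)) : GL ι F) : Matrix ι ι F) ≠ ρ k) :
    ∃ g ∈ M, ∃ p : ι → F, p ≠ 0 ∧ QE p = 0 ∧ act Q g p = p ∧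
      polar Q (act Q g (ρ κ *ᵥ p)) (ρ κ *ᵥ p) ≠ 0 := by
  have h2 := C.two
  have hcard7 : 7 ≤ Fintype.card ι := by rw [C.card]; norm_num
  obtain ⟨G, hG⟩ : ∃ G : GL ι F, G = ((g₀ : ↥(Cfsg.isometryGroup F ⇑Q)) : GL ι F) := ⟨_, rfl⟩
  rw [← hG] at hn
  have hact : ∀ x, act Q g₀ x = (G : Matrix ι ι F) *ᵥ x := fun x => by rw [hG]; rfl
  obtain ⟨A, hA⟩ : ∃ A : Matrix ι ι F, A = (G⁻¹ : GL ι F).1 * ρ κ * (G : Matrix ι ι F) := ⟨_, rfl⟩
  have hGA : (G : Matrix ι ι F) * A = ρ κ * (G : Matrix ι ι F) := by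
    rw [hA, ← mul_assoc, ← mul_assoc]
    have : (G : Matrix ι ι F) * (G⁻¹ : GL ι F).1 = 1 := by
      rw [← Units.val_mul, mul_inv_cancel, Units.val_one]
    rw [this, one_mul]
  -- the point from SK
  obtain ⟨p₁, hp₁0, hp₁, hAp⟩ : ∃ p₁ : ι → F, p₁ ≠ 0 ∧ QE p₁ = 0 ∧ ∀ a : E, A *ᵥ p₁ ≠ ρ a *ᵥ p₁ := by
    by_contra hcon
    push Not at hcon
    obtain ⟨k, hk⟩ := Cfsg.Agent.Lib.Helper25.C3O2Leaf.sk h h2 C.rank hcard7 C.w1 A hcon
    exact hn k (hA ▸ hk)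
  have hQp₁ : Q p₁ = 0 := Q_of_QE h hp₁
  obtain ⟨x, hx⟩ : ∃ x, x = act Q g₀ p₁ := ⟨_, rfl⟩
  obtain ⟨y, hy⟩ : ∃ y, y = act Q g₀ (ρ κ *ᵥ p₁) := ⟨_, rfl⟩
  have hQx : Q x = 0 := by rw [hx, Q_act, hQp₁]
  have hQy : Q y = 0 := by rw [hy, Q_act, Q_J h hκ, hQp₁, mul_zero]
  have hxy : polar Q x y = 0 := by rw [hx, hy, polar_act, polar_self_J h hp₁]
  have hind : ∀ c : F, y ≠ c • x := by
    intro c hc
    rw [hx, hy, ← map_smul] at hc
    have h1 := (act Q g₀).injective hc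
    have h3 : ρ (κ - algebraMap F E c) *ᵥ p₁ = 0 := by
      rw [sub_eq_add_neg, rho_add_mulVec, rho_neg_mulVec, ← smulF_eq_rho, h1]
      abel
    rcases rho_mulVec_eq_zero h3 with h4 | h4
    · have h5 : κ = algebraMap F E c + algebraMap F E 0 * κ := by
        rw [map_zero, zero_mul, add_zero]
        exact sub_eq_zero.1 h4
      have h6 := hκ.tr0
      rw [h5, hκ.tr_ab] at h6
      have hc0 : c = 0 := by
        rcases mul_eq_zero.1 h6 with h7 | h7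
        · exact absurd h7 h2
        · exact h7
      have h8 : κ = 0 := by
        rw [h5, hc0, map_zero, zero_mul, add_zero]
      exact hκ.ne h8
    · exact hp₁0 h4
  have hJ : ∀ a b : F, ρ κ *ᵥ x ≠ a • x + b • y := by
    intro a b hab
    rw [hx, hy, ← map_smul, ← map_smul, ← map_add, hact, hact, Matrix.mulVec_mulVec, ← hGA,
      ← Matrix.mulVec_mulVec] at hab
    have h1 : A *ᵥ p₁ = a • p₁ + b • (ρ κ *ᵥ p₁) := by
      have := congrArg (fun w => (G⁻¹ : GL ι F).1 *ᵥ w) hab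
      simp only [Matrix.mulVec_mulVec] at this
      have e : (G⁻¹ : GL ι F).1 * (G : Matrix ι ι F) = 1 := by
        rw [← Units.val_mul, inv_mul_cancel, Units.val_one]
      rw [← mul_assoc, e, one_mul, Matrix.one_mulVec] at this
      exact this
    rw [comb_eq_rho] at h1
    exact hAp _ h1
  obtain ⟨α, β, a, b, hαβ, ha, hab, hfix, hne⟩ := Cfsg.Agent.Lib.Helper9.C3O2Leaf.move h hκ h2 C.rank hcard7 C.w1 x y hQx hQy hxy hind hJ
  obtain ⟨c, hc⟩ : ∃ c : E, c = algebraMap F E α + algebraMap F E β * κ := ⟨_, rfl⟩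
  have hc0 : c ≠ 0 := hc ▸ comb_ne_zero hκ h2 hαβ
  obtain ⟨p, hpdef⟩ : ∃ p : ι → F, p = ρ c *ᵥ p₁ := ⟨_, rfl⟩
  have hp0 : p ≠ 0 := by
    intro h0
    rw [hpdef] at h0
    rcases rho_mulVec_eq_zero h0 with h4 | h4
    · exact hc0 h4
    · exact hp₁0 h4
  have hp : QE p = 0 := by rw [hpdef, h.QE_smul, hp₁, mul_zero]
  have hp' : p = α • p₁ + β • (ρ κ *ᵥ p₁) := by rw [hpdef, hc, comb_eq_rho]
  have hg₀p : act Q g₀ p = α • x + β • y := by rw [hp', map_add, map_smul, map_smul, hx, hy]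
  have hJp : ρ κ *ᵥ p = (β * δ) • p₁ + α • (ρ κ *ᵥ p₁) := by
    rw [hp', Matrix.mulVec_add, Matrix.mulVec_smul, Matrix.mulVec_smul, J_J hκ, smul_smul, add_comm]
  have hg₀Jp : act Q g₀ (ρ κ *ᵥ p) = (β * δ) • x + α • y := by
    rw [hJp, map_add, map_smul, map_smul, hx, hy]
  refine ⟨g₀⁻¹ * ES h C.two a b ha hab * g₀, M.mul_mem (M.mul_mem (M.inv_mem hg₀) (C.es a b ha hab)) hg₀, p, hp0,
    hp, ?_, ?_⟩
  · rw [act_mul, act_mul, hg₀p, act_ES, hfix, ← hg₀p, act_inv_act]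
  · rw [act_mul, act_mul, hg₀Jp, act_ES, polar_act_inv, hg₀Jp, polar_comm]
    exact hne

/-- the main theorem in `Ω`-language -/
theorem main (h : Forms ρ Q B QE) (hκ : Kap κ δ) {M : Subgroup ↥(Cfsg.Omega F ⇑Q)} (C : Ctx h M)
    (g₀ : ↥(Cfsg.Omega F ⇑Q)) (hg₀ : g₀ ∈ M)
    (hn : ∀ k : E, (((g₀ : ↥(Cfsg.isometryGroup F ⇑Q)) : GL ι F)⁻¹ : GL ι F).1 * ρ κ *
      (((g₀ : ↥(Cfsg.isometryGroup F ⇑Q)) : GL ι F) : Matrix ι ι F) ≠ ρ k) : M = ⊤ := by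
  have h2 := C.two
  have hnd := h.ctx.nd
  have hcard7 : 7 ≤ Fintype.card ι := by rw [C.card]; norm_num
  obtain ⟨g, hg, p, hp0, hp, hgp, hε⟩ := s1 h hκ C g₀ hg₀ hn
  have hQp : Q p = 0 := Q_of_QE h hp
  obtain ⟨e, he⟩ : ∃ e, e = ρ κ *ᵥ p := ⟨_, rfl⟩
  obtain ⟨e', he'⟩ : ∃ e', e' = act Q g e := ⟨_, rfl⟩
  have hQe : Q e = 0 := by rw [he, Q_J h hκ, hQp, mul_zero]
  have hQe' : Q e' = 0 := by rw [he', Q_act, hQe]
  have hpe : polar Q p e = 0 := by rw [he]; exact polar_self_J h hp κ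
  have hpe' : polar Q p e' = 0 := by
    rw [he']
    nth_rewrite 1 [← hgp]
    rw [polar_act, hpe]
  have hee' : polar Q e e' ≠ 0 := by
    rw [polar_comm, he', he]
    exact hε
  -- (S4) a long root element
  obtain ⟨t, ht, b', htp, hpb, he'b, heb, hQb, htx⟩ := Cfsg.Agent.Lib.Helper1.C3O2Leaf.t_modp h hκ C hp0 hp g hg hgp hε
  obtain ⟨u₀, hη, hpu, hvu, hQu, htw⟩ := Cfsg.Agent.Lib.Helper25.C3O2Leaf.t_on_W h hκ h2 (p := p) (e' := act Q g (ρ κ *ᵥ p)) (b' := b') hp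
    (by rw [Q_act, Q_J h hκ, hQp, mul_zero]) (by rw [← he, ← he']; exact hpe') hpb he'b heb hQb hε (act Q t) (Q_act Q t) htp
    htx
  obtain ⟨k, hk, hkp, hke, w, hw, hne⟩ := Cfsg.Agent.Lib.Helper9.C3O2Leaf.h_exists h hκ C hp0 hp t ht htp u₀ hη hpu hvu hQu htw
  obtain ⟨y0, hy0, hy0p⟩ := Cfsg.Agent.Lib.Helper1.C3O2Leaf.z_exists h hκ C hp0 hp k hk hkp hke w hw hne
  -- (S3) invariance
  have hinv : ∀ b, polar Q p b = 0 → polar Q e b = 0 → ∀ y ∈ AA M p hQp, egen Q e b y ∈ AA M p hQp := by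
    intro b hb1 hb2 y hy
    obtain ⟨w, hwdef⟩ : ∃ w : ι → F, w = (2 : F) • (ρ κ *ᵥ b) := ⟨_, rfl⟩
    have hBw : B p w = 0 := by
      rw [B_eq_zero_iff h hκ h2, hwdef, polar_smul_right, polar_smul_right, polar_J_J h hκ, hb1, mul_zero,
        polar_J_right h, ← polar_J h, ← he, hb2]
      simp
    have hJw : (2 * δ)⁻¹ • (ρ κ *ᵥ w) = b := by
      rw [hwdef, Matrix.mulVec_smul, J_J hκ, smul_smul, smul_smul, mul_assoc,
        inv_mul_cancel₀ (mul_ne_zero h2 hκ.delta_ne), one_smul]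
    have h1 := act_mem_AA hQp (C.es p w hp hBw) (by rw [act_ES, esF_self h hp hBw]) hy
    obtain ⟨c, hc⟩ := Cfsg.Agent.Lib.Helper25.C3O2Leaf.modp h hκ h2 hp hBw y hy.1
    rw [act_ES, hc, hJw, ← he] at h1
    have h3 := (AA M p hQp).sub_mem h1 (smul_mem_AA M hQp c)
    rwa [add_sub_cancel_right] at h3
  have hinv' : ∀ b, polar Q p b = 0 → polar Q e' b = 0 → ∀ y ∈ AA M p hQp, egen Q e' b y ∈ AA M p hQp := by
    intro b hb1 hb2 y hy
    have hginv : act Q g⁻¹ p = p := by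
      nth_rewrite 1 [← hgp]
      rw [act_inv_act]
    have h1 : act Q g⁻¹ y ∈ AA M p hQp := act_mem_AA hQp (M.inv_mem hg) hginv hy
    have hb1' : polar Q p (act Q g⁻¹ b) = 0 := by
      rw [polar_comm, polar_act_inv, hgp, polar_comm, hb1]
    have hb2' : polar Q e (act Q g⁻¹ b) = 0 := by
      rw [polar_comm, polar_act_inv, ← he', polar_comm, hb2]
    have h3 := hinv _ hb1' hb2' _ h1
    have h4 := act_mem_AA hQp hg hgp h3
    rw [egen_conj Q (Q_act Q g), ← he', act_act_inv, act_act_inv] at h4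
    exact h4
  have hall : ∀ y, polar Q p y = 0 → y ∈ AA M p hQp :=
    Cfsg.Agent.Lib.Helper10.C3O2Leaf.irr hnd (by omega) (AA M p hQp) hp0 hQp hQe hQe' hpe hpe' hee' (smul_mem_AA M hQp) (fun y hy => hy.1) hinv hinv'
      y0 hy0 hy0p
  -- (S5)
  obtain ⟨a, b, ha, hab, hopp⟩ := Cfsg.Agent.Lib.Helper10.C3O2Leaf.opp h hκ h2 C.rank hcard7 hp0 hp
  obtain ⟨T, hT⟩ : ∃ T, T = ES h C.two a b ha hab := ⟨_, rfl⟩
  have hTM : T ∈ M := hT ▸ C.es a b ha hab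
  obtain ⟨p', hp'⟩ : ∃ p', p' = act Q T p := ⟨_, rfl⟩
  have hQp' : Q p' = 0 := by rw [hp', Q_act, hQp]
  have hpp' : polar Q p p' ≠ 0 := by rw [hp', hT, act_ES]; exact hopp
  have hall' : ∀ y, polar Q p' y = 0 → y ∈ AA M p' hQp' := by
    intro y hy
    have h1 : polar Q p (act Q T⁻¹ y) = 0 := by rw [polar_comm, polar_act_inv, ← hp', polar_comm, hy]
    obtain ⟨_, m, hm, hmy⟩ := hall _ h1
    refine ⟨hy, T * m * T⁻¹, M.mul_mem (M.mul_mem hTM hm) (M.inv_mem hTM), fun x => ?_⟩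
    rw [conj_act_egen Q T m hmy, ← hp', act_act_inv]
  exact Cfsg.Agent.Lib.Helper10.C3O2Leaf.endgame hnd hcard7 M hQp hQp' hpp' hall hall'

end Cfsg.Agent.Lib.Helper25.C3O2.Asm

/-! ## the statement in the frozen vocabulary -/

namespace Cfsg.Agent.Lib.Helper25.C3O2.Asm
open Matrix Module QuadraticMap Cfsg Cfsg.Geo Cfsg.Agent.Lib.Helper25.OEFsa
  Cfsg.Agent.Lib.Helper25.CD Cfsg.Agent.Lib.Helper25.Siegel
  Cfsg.Agent.Lib.Helper5.NSMax Cfsg.Agent.Lib.Helper5.TSMax Cfsg.Agent.Lib.Helper25.AutO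
  Cfsg.Agent.Lib.Helper25.C3O2

section wrap

universe u
variable {F : Type u} [Field F] [Fintype F] {ι : Type} [Fintype ι] [DecidableEq ι]

theorem two_ne_zero_of_odd_c3o (hodd : Odd (Fintype.card F)) : (2 : F) ≠ 0 := by
  intro h
  have : CharP F 2 := CharTwo.of_one_ne_zero_of_two_eq_zero one_ne_zero h
  obtain ⟨k, -, hk⟩ := FiniteField.card F 2
  rw [hk] at hodd
  have hev : Even (2 ^ (k : ℕ)) := (Nat.even_pow.2 ⟨even_two, k.ne_zero⟩)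
  exact (Nat.not_even_iff_odd.2 hodd) hev

theorem mem_normalizer_of_comm {E : Type*} [Field E] [Algebra F E] (ρ : E →ₐ[F] Matrix ι ι F) (g : GL ι F)
    (hcomm : ∀ a : E, (g : Matrix ι ι F) * ρ a = ρ a * (g : Matrix ι ι F)) : g ∈ subalgebraNormalizer ρ.range := by
  have e1 : (g : Matrix ι ι F) * (g⁻¹ : GL ι F).1 = 1 := by rw [← Units.val_mul, mul_inv_cancel, Units.val_one]
  have e2 : (g⁻¹ : GL ι F).1 * (g : Matrix ι ι F) = 1 := by rw [← Units.val_mul, inv_mul_cancel, Units.val_one]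
  intro k
  constructor
  · rintro ⟨a, rfl⟩
    refine ⟨a, ?_⟩
    show ρ a = (g : Matrix ι ι F) * ρ a * (g⁻¹ : GL ι F).1
    rw [hcomm, mul_assoc, e1, mul_one]
  · rintro ⟨a, ha⟩
    refine ⟨a, ?_⟩
    have h1 : k = (g⁻¹ : GL ι F).1 * ((g : Matrix ι ι F) * k * (g⁻¹ : GL ι F).1) * (g : Matrix ι ι F) := by
      simp only [← mul_assoc]
      rw [e2, one_mul, mul_assoc, e2, mul_one]
    rw [h1, ← ha]
    show ρ a = (g⁻¹ : GL ι F).1 * ρ a * (g : Matrix ι ι F)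
    rw [mul_assoc, ← hcomm, ← mul_assoc, e2, one_mul]

/-- **C3O2**: `O_4^-(q²).2 < Ω_8^-(q)`, `q` odd, generic index type of cardinality 8 -/
theorem c3_max8_gen (hcard : Fintype.card ι = 8) (Q : (ι → F) → F) (hQ : IsNondegenerateQuadraticForm Q)
    (hminus : ¬ IsPlusTypeOn Q ⊤) (hodd : Odd (Fintype.card F)) (K : Subalgebra F (Matrix ι ι F))
    (hK : IsFieldSubalgebra 2 K) (hsa : IsSelfAdjointFor (polar Q) K) :
    IsMaximalIn (omegaGL Q) (subalgebraNormalizer K ⊓ omegaGL Q) := by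
  classical
  have h2 : (2 : F) ≠ 0 := two_ne_zero_of_odd_c3o hodd
  obtain ⟨E, iE, iA, ρ, hinj, hrange, hfr⟩ := exists_model' 2 (by norm_num) K hK
  have hfd : FiniteDimensional F E := Module.finite_of_finrank_pos (by rw [hfr]; norm_num)
  subst hrange
  have hctx : FsaCtx ρ (qfOf hQ) := ⟨hinj, qfOf_nondeg hQ, fun a u v => hsa (ρ a) ⟨a, rfl⟩ u v⟩
  obtain ⟨B, QE, hB, hQE⟩ := exists_forms hctx
  have h : Forms ρ (qfOf hQ) B QE := ⟨hctx, hB, hQE⟩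
  obtain ⟨κ, δ, hκ⟩ := Cfsg.Agent.Lib.Helper10.C3O2Leaf.exists_kappa (F := F) (E := E) h2 hfr
  have hw1 : W1 ρ B QE := Cfsg.Agent.Lib.Helper10.C3O2Leaf.w1_of_minus h hfr hcard hminus
  have hcard7 : 7 ≤ Fintype.card ι := by rw [hcard]; norm_num
  obtain ⟨Q', hQ'⟩ : ∃ Q' : QuadraticForm F (ι → F), Q' = qfOf hQ := ⟨_, rfl⟩
  have hQQ' : Q = ⇑Q' := by rw [hQ']; rfl
  rw [← hQ'] at h hctx
  clear hQ'
  subst hQQ'
  refine ⟨lt_of_le_of_ne inf_le_right ?_, ?_⟩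
  · intro heq
    obtain ⟨g, hg⟩ := Cfsg.Agent.Lib.Helper10.C3O2Leaf.proper h hκ h2 hfr hcard7
    have h1 : ((g : ↥(Cfsg.isometryGroup F ⇑Q')) : GL ι F) ∈ omegaGL ⇑Q' := ⟨g.1, g.2, rfl⟩
    rw [← heq] at h1
    exact hg h1.1
  · intro M hHM hMΩ
    by_cases hMH : M = subalgebraNormalizer ρ.range ⊓ omegaGL ⇑Q'
    · exact Or.inl hMH
    right
    have hnle : ¬ M ≤ subalgebraNormalizer ρ.range ⊓ omegaGL ⇑Q' := fun hle => hMH (le_antisymm hle hHM)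
    obtain ⟨g₀', hg₀'M, hg₀'H⟩ := SetLike.not_le_iff_exists.1 hnle
    have hg₀'Ω := hMΩ hg₀'M
    have hg₀'n : g₀' ∉ subalgebraNormalizer ρ.range := fun hn => hg₀'H ⟨hn, hg₀'Ω⟩
    obtain ⟨gi, hgi, hgi'⟩ := hg₀'Ω
    obtain ⟨M', hM'⟩ : ∃ M' : Subgroup ↥(Cfsg.Omega F ⇑Q'),
        M' = M.comap ((Cfsg.isometryGroup F ⇑Q').subtype.comp (Cfsg.Omega F ⇑Q').subtype) := ⟨_, rfl⟩
    have hmemM' : ∀ ω : ↥(Cfsg.Omega F ⇑Q'),
        (∀ a : E, (((ω : ↥(Cfsg.isometryGroup F ⇑Q')) : GL ι F) : Matrix ι ι F) * ρ a =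
          ρ a * (((ω : ↥(Cfsg.isometryGroup F ⇑Q')) : GL ι F) : Matrix ι ι F)) → ω ∈ M' := by
      intro ω hω
      rw [hM']
      exact hHM ⟨mem_normalizer_of_comm ρ _ hω, ω.1, ω.2, rfl⟩
    have C : Ctx h M' :=
      { two := h2
        rank := hfr
        card := hcard
        w1 := hw1
        es := fun p w hp hw => hmemM' _ (fun a => by rw [ES_coe]; exact esMat_comm h p w a)
        rc := fun b c hb hc => hmemM' _ (fun a => RC_comm h b c hb hc a) }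
    have hg₀M' : (⟨gi, hgi⟩ : ↥(Cfsg.Omega F ⇑Q')) ∈ M' := by
      rw [hM']
      show ((Cfsg.isometryGroup F ⇑Q').subtype gi) ∈ M
      rw [hgi']
      exact hg₀'M
    have hn : ∀ k : E, ((((⟨gi, hgi⟩ : ↥(Cfsg.Omega F ⇑Q')) : ↥(Cfsg.isometryGroup F ⇑Q')) : GL ι F)⁻¹ :
        GL ι F).1 * ρ κ * ((((⟨gi, hgi⟩ : ↥(Cfsg.Omega F ⇑Q')) : ↥(Cfsg.isometryGroup F ⇑Q')) : GL ι F) :
          Matrix ι ι F) ≠ ρ k := by
      intro k
      have := Cfsg.Agent.Lib.Helper10.C3O2Leaf.conj_not_mem hκ hinj g₀' hg₀'n k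
      rw [← hgi'] at this
      exact this
    have htop := main h hκ C ⟨gi, hgi⟩ hg₀M' hn
    apply le_antisymm hMΩ
    rintro x ⟨ω, hω, rfl⟩
    have : (⟨ω, hω⟩ : ↥(Cfsg.Omega F ⇑Q')) ∈ M' := by rw [htop]; exact Subgroup.mem_top _
    rw [hM'] at this
    exact this

/-- **C3O2**: the target of S5825 conjunct (7) -/
theorem c3_max8 (Q : (Fin 8 → F) → F) (hQ : IsNondegenerateQuadraticForm Q)
    (hminus : ¬ IsPlusTypeOn Q ⊤) (hodd : Odd (Fintype.card F)) (K : Subalgebra F (Matrix (Fin 8) (Fin 8) F))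
    (hK : IsFieldSubalgebra 2 K) (hsa : IsSelfAdjointFor (polar Q) K) :
    IsMaximalIn (omegaGL Q) (subalgebraNormalizer K ⊓ omegaGL Q) :=
  c3_max8_gen (by simp) Q hQ hminus hodd K hK hsa

end wrap

end Cfsg.Agent.Lib.Helper25.C3O2.Asm
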