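import Cfsg.Agent.Lib.Helper25.CDOdd

set_option autoImplicit false

/-!
# Cartan–Dieudonné in characteristic two (finite fields)
-/

namespace Cfsg.Agent.Lib.Helper25.CD

open Module QuadraticMap

universe u

theorem vadd_self (F : Type*) [Field F] [CharP F 2] {V : Type*} [AddCommGroup V] [Module F V]
    (x : V) : x + x = 0 := by
  rw [← two_smul F x, CharTwo.two_eq_zero, zero_smul]

theorem vadd_cancel (F : Type*) [Field F] [CharP F 2] {V : Type*} [AddCommGroup V] [Module F V]
    (x y : V) : x + (x + y) = y := by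
  rw [← add_assoc, vadd_self F, zero_add]

section general

variable {F : Type*} [Field F] {V : Type*} [AddCommGroup V] [Module F V]
  (Q : QuadraticForm F V)

theorem Q_add (x y : V) : Q (x + y) = Q x + Q y + polar Q x y := QuadraticMap.map_add (⇑Q) x y

theorem two_functionals (U : Submodule F V) (φ ψ : V →ₗ[F] F) (h1 : ∃ a ∈ U, φ a ≠ 0)
    (h2 : ∃ b ∈ U, ψ b ≠ 0) : ∃ c ∈ U, φ c ≠ 0 ∧ ψ c ≠ 0 := by
  obtain ⟨a, haU, ha⟩ := h1
  obtain ⟨b, hbU, hb⟩ := h2
  by_cases h3 : ψ a = 0
  · by_cases h4 : φ b = 0
    · refine ⟨a + b, U.add_mem haU hbU, ?_, ?_⟩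
      · rw [map_add, h4, add_zero]; exact ha
      · rw [map_add, h3, zero_add]; exact hb
    · exact ⟨b, hbU, h4, hb⟩
  · exact ⟨a, haU, ha, h3⟩

theorem polarBilin_isRefl : (polarBilin Q).IsRefl := by
  intro x y h
  rw [polarBilin_apply_apply] at h ⊢
  rwa [polar_comm]

theorem mem_perp_singleton (u w : V) :
    w ∈ perp Q (Submodule.span F ({u} : Set V)) ↔ polar Q u w = 0 := by
  rw [mem_perp_iff]
  constructor
  · intro h
    exact h u (Submodule.mem_span_singleton_self u)
  · intro h p hp
    obtain ⟨c, rfl⟩ := Submodule.mem_span_singleton.1 hp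
    rw [polar_smul_left, h, smul_zero]

/-- A vector of `u^⊥` outside `⟨u⟩` pairs nontrivially with `u^⊥`. -/
theorem exists_pair_in_perp [FiniteDimensional F V] (hQ : (polarBilin Q).Nondegenerate)
    {u x : V} (hx : x ∉ Submodule.span F ({u} : Set V)) :
    ∃ a ∈ perp Q (Submodule.span F ({u} : Set V)), polarBilin Q x a ≠ 0 := by
  by_contra hcon
  push Not at hcon
  apply hx
  rw [← LinearMap.BilinForm.orthogonal_orthogonal hQ (polarBilin_isRefl Q)
    (Submodule.span F ({u} : Set V))]
  intro a ha
  have := hcon a ha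
  rw [polarBilin_apply_apply] at this ⊢
  rwa [polar_comm]

end general

section char2

variable {F : Type*} [Field F] [CharP F 2] {V : Type*} [AddCommGroup V] [Module F V]
  (Q : QuadraticForm F V)

theorem polar_self2 (x : V) : polar Q x x = 0 := by
  rw [polar_self]
  simp only [nsmul_eq_mul, Nat.cast_ofNat, CharTwo.two_eq_zero, zero_mul]

theorem reflE_apply2 (v x : V) : reflE Q v x = x + ((Q v)⁻¹ * polar Q v x) • v := by
  rw [reflE_apply, sub_eq_add_neg, ← neg_smul, CharTwo.neg_eq]

theorem reflE_self2 (v : V) : reflE Q v v = v := reflE_of_perp Q (polar_self2 Q v)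

theorem Q_add_eq_polar {x x' : V} (h : Q x = Q x') : Q (x + x') = polar Q x x' := by
  rw [Q_add, h, CharTwo.add_self_eq_zero, zero_add]

/-- In characteristic two `r_{x+x'}` maps `x'` to `x` when `Q x = Q x'` and `f(x,x') ≠ 0`. -/
theorem reflE_swap2 {x x' : V} (h : Q x = Q x') (hne : polar Q x x' ≠ 0) :
    reflE Q (x + x') x' = x := by
  rw [reflE_apply2, Q_add_eq_polar Q h, polar_add_left, polar_self2, add_zero,
    inv_mul_cancel₀ hne, one_smul, add_comm x x', vadd_cancel F]

theorem exists_sqrt [Fintype F] (a : F) : ∃ t : F, t * t = a := by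
  obtain ⟨t, ht⟩ := FiniteField.isSquare_of_char_two (ringChar.eq F 2) a
  exact ⟨t, ht.symm⟩

/-- Rescale a nonsingular vector to a prescribed nonzero norm. -/
theorem exists_scale [Fintype F] {w : V} (hw : Q w ≠ 0) {a : F} (ha : a ≠ 0) :
    ∃ t : F, t ≠ 0 ∧ Q (t • w) = a := by
  obtain ⟨t, ht⟩ := exists_sqrt (a * (Q w)⁻¹)
  refine ⟨t, ?_, ?_⟩
  · rintro rfl
    rw [mul_zero] at ht
    exact mul_ne_zero ha (inv_ne_zero hw) ht.symm
  · rw [QuadraticMap.map_smul, smul_eq_mul, ht]
    field_simp

/-- A nonsingular vector of `u^⊥` of prescribed norm pairing nontrivially with `x` and `x'`. -/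
theorem exists_mid [Fintype F] [FiniteDimensional F V] (hQ : (polarBilin Q).Nondegenerate)
    {u x x' : V} (hu : Q u ≠ 0) (hxu : polar Q u x = 0) (hx'u : polar Q u x' = 0)
    (hx : x ∉ Submodule.span F ({u} : Set V)) (hx' : x' ∉ Submodule.span F ({u} : Set V))
    {a : F} (ha : a ≠ 0) :
    ∃ w, polar Q u w = 0 ∧ Q w = a ∧ polar Q x w ≠ 0 ∧ polar Q x' w ≠ 0 := by
  obtain ⟨w0, hw0U, hw0x, hw0x'⟩ := two_functionals (perp Q (Submodule.span F ({u} : Set V)))
    (polarBilin Q x) (polarBilin Q x') (exists_pair_in_perp Q hQ hx) (exists_pair_in_perp Q hQ hx')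
  rw [mem_perp_singleton] at hw0U
  rw [polarBilin_apply_apply] at hw0x hw0x'
  -- make it nonsingular
  obtain ⟨w1, hw1Q, hw1u, hw1x, hw1x'⟩ : ∃ w1, Q w1 ≠ 0 ∧ polar Q u w1 = 0 ∧
      polar Q x w1 ≠ 0 ∧ polar Q x' w1 ≠ 0 := by
    by_cases h0 : Q w0 = 0
    · refine ⟨w0 + u, ?_, ?_, ?_, ?_⟩
      · rw [Q_add, h0, zero_add, polar_comm, hw0U, add_zero]; exact hu
      · rw [polar_add_right, hw0U, polar_self2, add_zero]
      · rw [polar_add_right, polar_comm Q x u, hxu, add_zero]; exact hw0x
      · rw [polar_add_right, polar_comm Q x' u, hx'u, add_zero]; exact hw0x'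
    · exact ⟨w0, h0, hw0U, hw0x, hw0x'⟩
  obtain ⟨t, ht0, ht⟩ := exists_scale Q hw1Q ha
  refine ⟨t • w1, ?_, ht, ?_, ?_⟩
  · rw [polar_smul_right, hw1u, smul_zero]
  · rw [polar_smul_right, smul_eq_mul]; exact mul_ne_zero ht0 hw1x
  · rw [polar_smul_right, smul_eq_mul]; exact mul_ne_zero ht0 hw1x'

/-- The reflections in vectors of `u^⊥` are transitive on the nonsingular vectors of given norm
in `u^⊥ ∖ ⟨u⟩`. -/
theorem trans_perp [Fintype F] [FiniteDimensional F V] (hQ : (polarBilin Q).Nondegenerate)
    {u x x' : V} (hu : Q u ≠ 0) (hxu : polar Q u x = 0) (hx'u : polar Q u x' = 0)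
    (hx : x ∉ Submodule.span F ({u} : Set V)) (hx' : x' ∉ Submodule.span F ({u} : Set V))
    (hxx : Q x = Q x') (hxne : Q x ≠ 0) : ∃ ρ ∈ RGperp Q {u}, ρ x' = x := by
  obtain ⟨w, hwu, hwQ, hwx, hwx'⟩ := exists_mid Q hQ hu hxu hx'u hx hx' hxne
  have h1 : reflE Q (x + w) w = x := reflE_swap2 Q hwQ.symm hwx
  have h2 : reflE Q (w + x') x' = w := by
    apply reflE_swap2 Q (hwQ.trans hxx)
    rw [polar_comm]; exact hwx'
  refine ⟨reflE Q (x + w) * reflE Q (w + x'), mul_mem ?_ ?_, ?_⟩
  · apply reflE_mem_RGperp
    · rw [Q_add_eq_polar Q hwQ.symm]; exact hwx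
    · intro s hs
      rw [Set.mem_singleton_iff] at hs
      subst hs
      rw [polar_add_left, polar_comm Q x s, hxu, polar_comm Q w s, hwu, add_zero]
  · apply reflE_mem_RGperp
    · rw [Q_add_eq_polar Q (hwQ.trans hxx), polar_comm]; exact hwx'
    · intro s hs
      rw [Set.mem_singleton_iff] at hs
      subst hs
      rw [polar_add_left, polar_comm Q w s, hwu, polar_comm Q x' s, hx'u, add_zero]
  · rw [LinearEquiv.mul_apply, h2, h1]

/-- With `u, x` fixed: the reflections in vectors orthogonal to `u` and `x` move `y'` to `y`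
whenever both have the same norm and the same products with `u` and `x`. -/
theorem step2 [Fintype F] {u x y y' : V} (hu : Q u ≠ 0) (hux : polar Q u x = 0)
    (huy : polar Q u y = 0) (hxy : polar Q x y = 1) (huy' : polar Q u y' = 0)
    (hxy' : polar Q x y' = 1) (hQy : Q y' = Q y) : ∃ ρ ∈ RGperp Q {u, x}, ρ y' = y := by
  obtain ⟨w, hwdef⟩ : ∃ w, w = y + y' := ⟨_, rfl⟩
  have hy' : y' = y + w := by rw [hwdef, vadd_cancel F]
  have hy : y = y' + w := by rw [hwdef, add_comm y y', vadd_cancel F]
  have hwu : polar Q u w = 0 := by rw [hwdef, polar_add_right, huy, huy', add_zero]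
  have hwx : polar Q x w = 0 := by
    rw [hwdef, polar_add_right, hxy, hxy', CharTwo.add_self_eq_zero]
  have hQw : polar Q y w = Q w := by
    have h1 : Q y' = Q y + Q w + polar Q y w := by rw [hy', Q_add]
    rw [hQy] at h1
    have h2 : Q w + polar Q y w = 0 := by linear_combination -h1
    exact (CharTwo.add_eq_zero.1 h2).symm
  have hperp : ∀ z : V, polar Q z u = 0 → polar Q z x = 0 →
      ∀ s ∈ ({u, x} : Set V), polar Q z s = 0 := by
    intro z h1 h2 s hs
    rcases hs with rfl | rfl
    · exact h1
    · exact h2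
  by_cases hw0 : Q w = 0
  · rw [hw0] at hQw
    obtain ⟨t, ht⟩ := exists_sqrt ((1 + Q x) * (Q u)⁻¹)
    obtain ⟨z1, hz1def⟩ : ∃ z1, z1 = t • u + x := ⟨_, rfl⟩
    obtain ⟨z2, hz2def⟩ : ∃ z2, z2 = z1 + w := ⟨_, rfl⟩
    have hz1Q : Q z1 = 1 := by
      rw [hz1def, Q_add, QuadraticMap.map_smul, smul_eq_mul, ht, polar_smul_left, hux, smul_zero,
        add_zero, inv_mul_cancel_right₀ hu, add_assoc, CharTwo.add_self_eq_zero, add_zero]
    have hz1u : polar Q z1 u = 0 := by
      rw [hz1def, polar_add_left, polar_smul_left, polar_self2, smul_zero, zero_add, polar_comm,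
        hux]
    have hz1x : polar Q z1 x = 0 := by
      rw [hz1def, polar_add_left, polar_smul_left, hux, smul_zero, zero_add, polar_self2]
    have hz1y : polar Q z1 y = 1 := by
      rw [hz1def, polar_add_left, polar_smul_left, huy, smul_zero, zero_add, hxy]
    have hz1w : polar Q z1 w = 0 := by
      rw [hz1def, polar_add_left, polar_smul_left, hwu, smul_zero, zero_add, hwx]
    have hz2Q : Q z2 = 1 := by
      rw [hz2def, Q_add, hz1Q, hw0, hz1w, add_zero, add_zero]
    have hz2u : polar Q z2 u = 0 := by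
      rw [hz2def, polar_add_left, hz1u, zero_add, polar_comm, hwu]
    have hz2x : polar Q z2 x = 0 := by
      rw [hz2def, polar_add_left, hz1x, zero_add, polar_comm, hwx]
    have e1 : reflE Q z1 y = y + z1 := by
      rw [reflE_apply2, hz1Q, hz1y, inv_one, one_mul, one_smul]
    have e2 : reflE Q z2 (y + z1) = y' := by
      have hp : polar Q z2 (y + z1) = 1 := by
        rw [hz2def, polar_add_left, polar_add_right, polar_add_right, hz1y, polar_self2,
          polar_comm Q w y, hQw, polar_comm Q w z1, hz1w]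
        simp
      rw [reflE_apply2, hz2Q, hp, inv_one, one_mul, one_smul, hz2def, hy']
      rw [add_assoc y z1, ← add_assoc z1 z1, vadd_self F, zero_add]
    refine ⟨reflE Q z1 * reflE Q z2, mul_mem ?_ ?_, ?_⟩
    · exact reflE_mem_RGperp Q _ (by rw [hz1Q]; exact one_ne_zero) (hperp z1 hz1u hz1x)
    · exact reflE_mem_RGperp Q _ (by rw [hz2Q]; exact one_ne_zero) (hperp z2 hz2u hz2x)
    · rw [LinearEquiv.mul_apply, ← e2, reflE_reflE, ← e1, reflE_reflE]
  · refine ⟨reflE Q w, reflE_mem_RGperp Q _ hw0 (hperp w ?_ ?_), ?_⟩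
    · rw [polar_comm]; exact hwu
    · rw [polar_comm]; exact hwx
    · have hp : polar Q w y' = Q w := by
        rw [hy', polar_add_right, polar_self2, add_zero, polar_comm]; exact hQw
      rw [reflE_apply2, hp, inv_mul_cancel₀ hw0, one_smul, ← hy]

end char2

theorem inv_apply_self' {F : Type*} [Field F] {V : Type*} [AddCommGroup V] [Module F V]
    (g : V ≃ₗ[F] V) (x : V) : g⁻¹ (g x) = x := by
  rw [← LinearEquiv.mul_apply, inv_mul_cancel]; rfl

theorem apply_inv_self' {F : Type*} [Field F] {V : Type*} [AddCommGroup V] [Module F V]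
    (g : V ≃ₗ[F] V) (x : V) : g (g⁻¹ x) = x := by
  rw [← LinearEquiv.mul_apply, mul_inv_cancel]; rfl

/-- In characteristic two the stabiliser of a nonsingular vector is generated by reflections
(no exceptions). -/
theorem stab_mem {F : Type*} [Field F] [CharP F 2] [Fintype F] :
    ∀ (n : ℕ) (V : Type u) [AddCommGroup V] [Module F V] [FiniteDimensional F V]
      (Q : QuadraticForm F V), finrank F V = n → (polarBilin Q).Nondegenerate →
      ∀ g ∈ OG Q, ∀ u, Q u ≠ 0 → g u = u → g ∈ RG Q := by
  intro n
  induction n using Nat.strong_induction_on with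
  | _ n ih =>
    intro V _ _ _ Q hn hQ g hg u hu hgu
    have hu0 : u ≠ 0 := by
      rintro rfl
      exact hu (QuadraticMap.map_zero Q)
    have hpol := polar_of_iso Q hg
    by_cases hx0 : ∃ x0, polar Q u x0 = 0 ∧ x0 ∉ Submodule.span F ({u} : Set V)
    · obtain ⟨x0, hx0u, hx0⟩ := hx0
      obtain ⟨x, hxu, hx, hxQ⟩ : ∃ x, polar Q u x = 0 ∧ x ∉ Submodule.span F ({u} : Set V) ∧
          Q x ≠ 0 := by
        by_cases h0 : Q x0 = 0
        · refine ⟨x0 + u, ?_, ?_, ?_⟩
          · rw [polar_add_right, hx0u, polar_self2, add_zero]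
          · intro hmem
            apply hx0
            have := Submodule.sub_mem _ hmem (Submodule.mem_span_singleton_self u)
            simpa using this
          · rw [Q_add, h0, zero_add, polar_comm, hx0u, add_zero]; exact hu
        · exact ⟨x0, hx0u, hx0, h0⟩
      obtain ⟨y0, hy0U, hy0⟩ := exists_pair_in_perp Q hQ hx
      rw [mem_perp_singleton] at hy0U
      rw [polarBilin_apply_apply] at hy0
      obtain ⟨y, hydef⟩ : ∃ y, y = (polar Q x y0)⁻¹ • y0 := ⟨_, rfl⟩
      have hyu : polar Q u y = 0 := by rw [hydef, polar_smul_right, hy0U, smul_zero]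
      have hxy : polar Q x y = 1 := by
        rw [hydef, polar_smul_right, smul_eq_mul, inv_mul_cancel₀ hy0]
      have hginv : g⁻¹ u = u := by
        have := inv_apply_self' g u
        rwa [hgu] at this
      have hx'u : polar Q u (g x) = 0 := by
        have := hpol u x
        rw [hgu] at this
        rw [this]; exact hxu
      have hx' : g x ∉ Submodule.span F ({u} : Set V) := by
        intro hmem
        obtain ⟨c, hc⟩ := Submodule.mem_span_singleton.1 hmem
        apply hx
        have h1 : g⁻¹ (c • u) = g⁻¹ (g x) := by rw [hc]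
        rw [map_smul, hginv, inv_apply_self'] at h1
        rw [← h1]
        exact Submodule.smul_mem _ _ (Submodule.mem_span_singleton_self u)
      obtain ⟨ρ1, hρ1, hρ1x⟩ := trans_perp Q hQ hu hxu hx'u hx hx' (hg x).symm hxQ
      have hρ1u : ρ1 u = u := RGperp_fix Q {u} hρ1 rfl
      have hg1O : ρ1 * g ∈ OG Q := mul_mem (RG_le_OG Q (RGperp_le_RG Q _ hρ1)) hg
      have hg1u : (ρ1 * g) u = u := by rw [LinearEquiv.mul_apply, hgu, hρ1u]
      have hg1x : (ρ1 * g) x = x := by rw [LinearEquiv.mul_apply, hρ1x]
      have hpol1 := polar_of_iso Q hg1O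
      have huy' : polar Q u ((ρ1 * g) y) = 0 := by
        have := hpol1 u y
        rw [hg1u] at this
        rw [this]; exact hyu
      have hxy' : polar Q x ((ρ1 * g) y) = 1 := by
        have := hpol1 x y
        rw [hg1x] at this
        rw [this]; exact hxy
      obtain ⟨ρ2, hρ2, hρ2y⟩ := step2 Q hu hxu hyu hxy huy' hxy' (hg1O y)
      have hρ2u : ρ2 u = u := RGperp_fix Q {u, x} hρ2 (Or.inl rfl)
      have hρ2x : ρ2 x = x := RGperp_fix Q {u, x} hρ2 (Or.inr rfl)
      have hg2O : ρ2 * (ρ1 * g) ∈ OG Q := mul_mem (RG_le_OG Q (RGperp_le_RG Q _ hρ2)) hg1O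
      have hg2u : (ρ2 * (ρ1 * g)) u = u := by rw [LinearEquiv.mul_apply, hg1u, hρ2u]
      have hg2x : (ρ2 * (ρ1 * g)) x = x := by rw [LinearEquiv.mul_apply, hg1x, hρ2x]
      have hg2y : (ρ2 * (ρ1 * g)) y = y := by rw [LinearEquiv.mul_apply, hρ2y]
      obtain ⟨P, hPdef⟩ : ∃ P, P = Submodule.span F ({x, y} : Set V) := ⟨_, rfl⟩
      have hPmem : ∀ q ∈ P, ∃ a b : F, a • x + b • y = q := by
        intro q hq
        rw [hPdef] at hq
        exact Submodule.mem_span_pair.1 hq
      have hxP : x ∈ P := by
        rw [hPdef]; exact Submodule.subset_span (Or.inl rfl)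
      have hyP : y ∈ P := by
        rw [hPdef]; exact Submodule.subset_span (Or.inr rfl)
      have hperpP : ∀ z, polar Q x z = 0 → polar Q y z = 0 → z ∈ perp Q P := by
        intro z h1 h2 q hq
        obtain ⟨a, b, rfl⟩ := hPmem q hq
        show polar Q (a • x + b • y) z = 0
        rw [polar_add_left, polar_smul_left, polar_smul_left, h1, h2, smul_zero, smul_zero,
          add_zero]
      have hPW : P ⊔ perp Q P = ⊤ := by
        rw [eq_top_iff]
        intro v _
        obtain ⟨p, hpdef⟩ : ∃ p, p = polar Q v y • x + polar Q v x • y := ⟨_, rfl⟩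
        have hpP : p ∈ P := by
          rw [hpdef]
          exact P.add_mem (P.smul_mem _ hxP) (P.smul_mem _ hyP)
        refine Submodule.mem_sup.2 ⟨p, hpP, p + v, hperpP _ ?_ ?_, vadd_cancel F p v⟩
        · rw [polar_add_right, hpdef, polar_add_right, polar_smul_right, polar_smul_right,
            polar_self2, hxy, polar_comm Q x v]
          simp [CharTwo.add_self_eq_zero]
        · rw [polar_add_right, hpdef, polar_add_right, polar_smul_right, polar_smul_right,
            polar_self2, polar_comm Q y x, hxy, polar_comm Q y v]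
          simp [CharTwo.add_self_eq_zero]
      have hfin : finrank F (perp Q P) < n := by
        have h1 := LinearMap.BilinForm.finrank_orthogonal hQ P
        have h2 : 0 < finrank F P := by
          rw [Module.finrank_pos_iff_exists_ne_zero]
          refine ⟨⟨x, hxP⟩, ?_⟩
          intro h0
          apply hxQ
          have : x = 0 := congrArg Subtype.val h0
          rw [this, QuadraticMap.map_zero]
        have h3 := Submodule.finrank_le P
        rw [perp, h1, hn]
        omega
      have hg2fix : ∀ q ∈ P, (ρ2 * (ρ1 * g)) q = q := by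
        intro q hq
        obtain ⟨a, b, rfl⟩ := hPmem q hq
        rw [map_add, map_smul, map_smul, hg2x, hg2y]
      have huP : u ∈ perp Q P := by
        apply hperpP
        · rw [polar_comm]; exact hxu
        · rw [polar_comm]; exact hyu
      have hg2 : ρ2 * (ρ1 * g) ∈ RG Q := by
        apply reduce Q P hPW hg2O hg2fix
        intro h hh hhw
        refine ih _ hfin _ (QR Q _) rfl (nondeg_perp Q hQ P hPW) h hh ⟨u, huP⟩ hu ?_
        apply Subtype.ext
        rw [hhw]
        exact hg2u
      have : g = ρ1⁻¹ * (ρ2⁻¹ * (ρ2 * (ρ1 * g))) := by group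
      rw [this]
      exact mul_mem (inv_mem (RGperp_le_RG Q _ hρ1))
        (mul_mem (inv_mem (RGperp_le_RG Q _ hρ2)) hg2)
    · push Not at hx0
      obtain ⟨v0, hv0⟩ : ∃ v0, polar Q u v0 ≠ 0 := by
        by_contra hcon
        push Not at hcon
        exact hu0 (hQ.1 u (fun y => by rw [polarBilin_apply_apply]; exact hcon y))
      obtain ⟨v, hvdef⟩ : ∃ v, v = (polar Q u v0)⁻¹ • v0 := ⟨_, rfl⟩
      have huv : polar Q u v = 1 := by
        rw [hvdef, polar_smul_right, smul_eq_mul, inv_mul_cancel₀ hv0]
      have hdec : ∀ z, ∃ s : F, z = s • u + polar Q u z • v := by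
        intro z
        have : polar Q u (z + polar Q u z • v) = 0 := by
          rw [polar_add_right, polar_smul_right, huv, smul_eq_mul, mul_one,
            CharTwo.add_self_eq_zero]
        obtain ⟨s, hs⟩ := Submodule.mem_span_singleton.1 (hx0 _ this)
        exact ⟨s, by rw [hs, add_assoc, vadd_self F, add_zero]⟩
      have hagree : ∀ r : V ≃ₗ[F] V, r u = u → r v = g v → g = r := by
        intro r hru hrv
        ext z
        obtain ⟨s, hs⟩ := hdec z
        rw [hs, map_add, map_add, map_smul, map_smul, map_smul, map_smul, hgu, hru, hrv]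
      have hwu : polar Q u (g v + v) = 0 := by
        have := hpol u v
        rw [hgu] at this
        rw [polar_add_right, this, huv, CharTwo.add_self_eq_zero]
      obtain ⟨t, ht⟩ := Submodule.mem_span_singleton.1 (hx0 _ hwu)
      have hgv : g v = v + t • u := by
        rw [ht, add_comm (g v) v, vadd_cancel F]
      have hQ1 : t * (t * Q u + 1) = 0 := by
        have := hg v
        rw [hgv, Q_add, QuadraticMap.map_smul, polar_smul_right, polar_comm, huv, smul_eq_mul,
          smul_eq_mul] at this
        linear_combination this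
      rcases mul_eq_zero.1 hQ1 with h0 | h1
      · have := hagree 1 rfl (by rw [hgv, h0, zero_smul, add_zero]; rfl)
        rw [this]
        exact one_mem _
      · have htt : t = (Q u)⁻¹ := by
          have : t * Q u = 1 := CharTwo.add_eq_zero.1 h1
          field_simp
          exact this
        have := hagree (reflE Q u) (reflE_self2 Q u)
          (by rw [reflE_apply2, huv, mul_one, hgv, htt])
        rw [this]
        exact reflE_mem_RG Q hu

theorem card_two_cases {F : Type*} [Field F] [Fintype F] (h : Fintype.card F = 2) (a : F) :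
    a = 0 ∨ a = 1 := by
  by_contra hcon
  push Not at hcon
  have : 2 < Fintype.card F :=
    Fintype.two_lt_card_iff.2 ⟨0, 1, a, zero_ne_one, Ne.symm hcon.1, Ne.symm hcon.2⟩
  omega

theorem exists_avoid {F : Type*} [Field F] [Fintype F] (h : 2 < Fintype.card F) (c : F) :
    ∃ s : F, s ≠ 0 ∧ s ≠ c := by
  by_contra hcon
  push Not at hcon
  have key : ∀ s : F, s = 0 ∨ s = c := by
    intro s
    by_cases hs : s = 0
    · exact Or.inl hs
    · exact Or.inr (hcon s hs)
  obtain ⟨a, b, d, hab, had, hbd⟩ := Fintype.two_lt_card_iff.1 h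
  rcases key a with ha | ha <;> rcases key b with hb | hb <;> rcases key d with hd | hd <;>
    first
    | exact hab (ha.trans hb.symm)
    | exact had (ha.trans hd.symm)
    | exact hbd (hb.trans hd.symm)

section trans

variable {F : Type*} [Field F] [CharP F 2] [Fintype F] {V : Type*} [AddCommGroup V] [Module F V]
  [FiniteDimensional F V] (Q : QuadraticForm F V)

/-- The intermediate vector for the transitivity of the reflection group on nonsingular
vectors of equal norm; this is where the exception `(|F|, dim V) = (2, 4)` enters. -/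
theorem exists_mid_all (hQ : (polarBilin Q).Nondegenerate)
    (hex : Fintype.card F ≠ 2 ∨ finrank F V ≠ 4) {u u' : V} (hu : Q u ≠ 0) (h : Q u' = Q u)
    (hne : u' ≠ u) (hp : polar Q u u' = 0) :
    ∃ w, Q w = Q u ∧ polar Q u w ≠ 0 ∧ polar Q u' w ≠ 0 := by
  have hu0 : u ≠ 0 := by
    rintro rfl
    exact hu (QuadraticMap.map_zero Q)
  have hu'0 : u' ≠ 0 := by
    rintro rfl
    rw [QuadraticMap.map_zero] at h
    exact hu h.symm
  have hfun : ∀ z : V, z ≠ 0 → ∃ a ∈ (⊤ : Submodule F V), polarBilin Q z a ≠ 0 := by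
    intro z hz
    by_contra hcon
    push Not at hcon
    exact hz (hQ.1 z (fun y => hcon y trivial))
  obtain ⟨w0, -, hw0u, hw0u'⟩ := two_functionals ⊤ (polarBilin Q u) (polarBilin Q u')
    (hfun u hu0) (hfun u' hu'0)
  rw [polarBilin_apply_apply] at hw0u hw0u'
  by_cases hcard : Fintype.card F = 2
  · -- the field with two elements
    have hdim : finrank F V ≠ 4 := by
      rcases hex with h1 | h1
      · exact absurd hcard h1
      · exact h1
    have c2 := card_two_cases hcard
    have hQu : Q u = 1 := (c2 (Q u)).resolve_left hu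
    have hw0u1 : polar Q u w0 = 1 := (c2 _).resolve_left hw0u
    have hw0u'1 : polar Q u' w0 = 1 := (c2 _).resolve_left hw0u'
    by_cases hQw0 : Q w0 = 0
    · obtain ⟨S, hSdef⟩ : ∃ S, S = Submodule.span F ({u, u'} : Set V) := ⟨_, rfl⟩
      have huS : u ∈ S := by rw [hSdef]; exact Submodule.subset_span (Or.inl rfl)
      have hu'S : u' ∈ S := by rw [hSdef]; exact Submodule.subset_span (Or.inr rfl)
      have hSmem : ∀ q ∈ S, ∃ a b : F, a • u + b • u' = q := by
        intro q hq
        rw [hSdef] at hq
        exact Submodule.mem_span_pair.1 hq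
      have hUmem : ∀ z, z ∈ perp Q S ↔ polar Q u z = 0 ∧ polar Q u' z = 0 := by
        intro z
        constructor
        · intro hz
          exact ⟨hz u huS, hz u' hu'S⟩
        · rintro ⟨h1, h2⟩ q hq
          obtain ⟨a, b, rfl⟩ := hSmem q hq
          show polar Q (a • u + b • u') z = 0
          rw [polar_add_left, polar_smul_left, polar_smul_left, h1, h2, smul_zero, smul_zero,
            add_zero]
      by_cases hz : ∃ z ∈ perp Q S, Q z + polar Q w0 z = 1
      · obtain ⟨z, hzU, hz1⟩ := hz
        obtain ⟨hzu, hzu'⟩ := (hUmem z).1 hzU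
        refine ⟨w0 + z, ?_, ?_, ?_⟩
        · rw [Q_add, hQw0, zero_add, hz1, hQu]
        · rw [polar_add_right, hzu, add_zero]; exact hw0u
        · rw [polar_add_right, hzu', add_zero]; exact hw0u'
      · exfalso
        push Not at hz
        have hadd : ∀ z ∈ perp Q S, Q z = polar Q w0 z := by
          intro z hzU
          exact CharTwo.add_eq_zero.1 ((c2 _).resolve_right (hz z hzU))
        have hiso : ∀ z ∈ perp Q S, ∀ z' ∈ perp Q S, polar Q z z' = 0 := by
          intro z hzU z' hz'U
          have e : polar Q z z' = Q (z + z') - Q z - Q z' := rfl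
          rw [e, hadd z hzU, hadd z' hz'U, hadd (z + z') (Submodule.add_mem _ hzU hz'U),
            polar_add_right]
          ring
        have hUS : perp Q S ≤ S := by
          intro z hzU
          rw [← LinearMap.BilinForm.orthogonal_orthogonal hQ (polarBilin_isRefl Q) S]
          intro z' hz'U
          exact hiso z' hz'U z hzU
        have hSU : S ≤ perp Q S := by
          have h1 : Submodule.span F ({u, u'} : Set V) ≤ perp Q S := by
            rw [Submodule.span_le]
            intro q hq
            rcases hq with hq | hq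
            · rw [hq]
              exact (hUmem _).2 ⟨polar_self2 Q _, by rw [polar_comm]; exact hp⟩
            · rw [Set.mem_singleton_iff] at hq
              rw [hq]
              exact (hUmem _).2 ⟨hp, polar_self2 Q _⟩
          rwa [← hSdef] at h1
        have hfin1 := LinearMap.BilinForm.finrank_orthogonal hQ S
        have hfin2 : finrank F (perp Q S) = finrank F S := by rw [le_antisymm hUS hSU]
        have hfin3 : finrank F S ≤ 2 := by
          classical
          have := finrank_span_finset_le_card (R := F) ({u, u'} : Finset V)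
          rw [Finset.coe_insert, Finset.coe_singleton] at this
          rw [hSdef]
          exact this.trans Finset.card_le_two
        have hfin4 := Submodule.finrank_le S
        have hfin5 : finrank F S ≤ 1 := by
          rw [perp, hfin1] at hfin2
          omega
        -- so `S = ⟨u⟩` and `u' = u`
        have hle : Submodule.span F ({u} : Set V) ≤ S := by
          rw [Submodule.span_le]
          intro q hq
          rw [Set.mem_singleton_iff] at hq
          rw [hq]; exact huS
        have heq : Submodule.span F ({u} : Set V) = S := by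
          apply Submodule.eq_of_le_of_finrank_le hle
          rw [finrank_span_singleton hu0]
          exact hfin5
        have : u' ∈ Submodule.span F ({u} : Set V) := by rw [heq]; exact hu'S
        obtain ⟨c, hc⟩ := Submodule.mem_span_singleton.1 this
        rcases c2 c with rfl | rfl
        · rw [zero_smul] at hc
          exact hu'0 hc.symm
        · rw [one_smul] at hc
          exact hne hc.symm
    · have hQw01 : Q w0 = 1 := (c2 _).resolve_left hQw0
      exact ⟨w0, by rw [hQw01, hQu], hw0u, hw0u'⟩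
  · -- more than two elements
    have hcard2 : 2 < Fintype.card F := by
      have := Fintype.one_lt_card (α := F)
      omega
    obtain ⟨w1, hw1Q, hw1u, hw1u'⟩ : ∃ w1, Q w1 ≠ 0 ∧ polar Q u w1 ≠ 0 ∧ polar Q u' w1 ≠ 0 := by
      by_cases h0 : Q w0 = 0
      · obtain ⟨s, hs0, hsc⟩ := exists_avoid hcard2 (polar Q u w0 * (Q u)⁻¹)
        refine ⟨w0 + s • u, ?_, ?_, ?_⟩
        · rw [Q_add, h0, zero_add, QuadraticMap.map_smul, polar_smul_right, polar_comm,
            smul_eq_mul, smul_eq_mul]
          have e : s * s * Q u + s * polar Q u w0 = s * (s * Q u + polar Q u w0) := by ring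
          rw [e]
          apply mul_ne_zero hs0
          intro h1
          apply hsc
          have h2 : s * Q u = polar Q u w0 := CharTwo.add_eq_zero.1 h1
          rw [← h2, mul_inv_cancel_right₀ hu]
        · rw [polar_add_right, polar_smul_right, polar_self2, smul_zero, add_zero]; exact hw0u
        · rw [polar_add_right, polar_smul_right, polar_comm Q u' u, hp, smul_zero, add_zero]
          exact hw0u'
      · exact ⟨w0, h0, hw0u, hw0u'⟩
    obtain ⟨t, ht0, ht⟩ := exists_scale Q hw1Q hu
    refine ⟨t • w1, ht, ?_, ?_⟩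
    · rw [polar_smul_right, smul_eq_mul]; exact mul_ne_zero ht0 hw1u
    · rw [polar_smul_right, smul_eq_mul]; exact mul_ne_zero ht0 hw1u'

/-- Transitivity of the reflection group on nonsingular vectors of equal norm. -/
theorem trans_all (hQ : (polarBilin Q).Nondegenerate)
    (hex : Fintype.card F ≠ 2 ∨ finrank F V ≠ 4) {u u' : V} (hu : Q u ≠ 0) (h : Q u' = Q u) :
    ∃ ρ ∈ RG Q, ρ u' = u := by
  by_cases hne : u' = u
  · exact ⟨1, one_mem _, by rw [hne]; rfl⟩
  by_cases hp : polar Q u u' = 0
  · obtain ⟨w, hwQ, hwu, hwu'⟩ := exists_mid_all Q hQ hex hu h hne hp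
    have h1 : reflE Q (u + w) w = u := reflE_swap2 Q hwQ.symm hwu
    have h2 : reflE Q (w + u') u' = w := by
      apply reflE_swap2 Q (hwQ.trans h.symm)
      rw [polar_comm]; exact hwu'
    refine ⟨reflE Q (u + w) * reflE Q (w + u'), mul_mem ?_ ?_, ?_⟩
    · apply reflE_mem_RG
      rw [Q_add_eq_polar Q hwQ.symm]; exact hwu
    · apply reflE_mem_RG
      rw [Q_add_eq_polar Q (hwQ.trans h.symm), polar_comm]; exact hwu'
    · rw [LinearEquiv.mul_apply, h2, h1]
  · refine ⟨reflE Q (u + u'), ?_, reflE_swap2 Q h.symm hp⟩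
    apply reflE_mem_RG
    rw [Q_add_eq_polar Q h.symm]; exact hp

/-- Cartan–Dieudonné over finite fields of characteristic two. -/
theorem cd_even (hQ : (polarBilin Q).Nondegenerate)
    (hex : Fintype.card F ≠ 2 ∨ finrank F V ≠ 4) : OG Q ≤ RG Q := by
  intro g hg
  rcases subsingleton_or_nontrivial V with hV | hV
  · have : g = 1 := by
      ext x
      exact Subsingleton.elim _ _
    rw [this]
    exact one_mem _
  · obtain ⟨u, hu⟩ := exists_nonsing Q hQ
    obtain ⟨ρ, hρ, hρu⟩ := trans_all Q hQ hex hu (hg u)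
    have hmem : ρ * g ∈ RG Q :=
      stab_mem _ V Q rfl hQ (ρ * g) (mul_mem (RG_le_OG Q hρ) hg) u hu
        (by rw [LinearEquiv.mul_apply, hρu])
    have : g = ρ⁻¹ * (ρ * g) := by group
    rw [this]
    exact mul_mem (inv_mem hρ) hmem

end trans

end Cfsg.Agent.Lib.Helper25.CD
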