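import Cfsg.Prelude.Def_ClassicalGeometry
import Cfsg.Agent.Lib.Helper25.CDEven

set_option autoImplicit false

/-!
# Cartan–Dieudonné for matrix groups

Transfer of the abstract theorem to `Cfsg.isometryGroup F Q ≤ GL ι F` and `Cfsg.reflectionMatrix`.
-/

namespace Cfsg.Agent.Lib.Helper25.CD

open Module QuadraticMap Matrix

universe u

/-- Cartan–Dieudonné over a finite field, abstract version. -/
theorem cd_main {F : Type*} [Field F] [Fintype F] {V : Type u} [AddCommGroup V] [Module F V]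
    [FiniteDimensional F V] (Q : QuadraticForm F V) (hQ : (polarBilin Q).Nondegenerate)
    (hex : Fintype.card F ≠ 2 ∨ finrank F V ≠ 4) : OG Q ≤ RG Q := by
  by_cases h2 : (2 : F) = 0
  · have : CharP F 2 := CharTwo.of_one_ne_zero_of_two_eq_zero one_ne_zero h2
    exact cd_even Q hQ hex
  · exact cd_odd h2 _ V Q rfl hQ

variable {ι : Type} [Fintype ι] [DecidableEq ι] {F : Type*} [Field F]

/-- `GL ι F` as the group of linear automorphisms of `ι → F`. -/
noncomputable def toLE : GL ι F ≃* ((ι → F) ≃ₗ[F] (ι → F)) :=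
  Matrix.GeneralLinearGroup.toLin.trans
    (LinearMap.GeneralLinearGroup.generalLinearEquiv F (ι → F))

theorem toLE_apply (g : GL ι F) (v : ι → F) : toLE g v = (g : Matrix ι ι F) *ᵥ v := rfl

theorem mem_iso_iff (Q : QuadraticForm F (ι → F)) (g : GL ι F) :
    g ∈ Cfsg.isometryGroup F ⇑Q ↔ toLE g ∈ OG Q := by
  constructor
  · intro h x
    exact h x x
  · intro h u _
    exact h u

theorem polarVec_dot (Q : QuadraticForm F (ι → F)) (v x : ι → F) :
    Cfsg.polarVec ⇑Q v ⬝ᵥ x = polar Q v x := by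
  have h := LinearMap.pi_apply_eq_sum_univ (polarBilin Q v) x
  rw [polarBilin_apply_apply] at h
  rw [h, dotProduct]
  apply Finset.sum_congr rfl
  intro i _
  rw [smul_eq_mul, mul_comm, polarBilin_apply_apply]
  congr 1
  unfold Cfsg.polarVec
  congr 1
  ext j
  rw [Pi.single_apply]
  simp [eq_comm]

theorem reflectionMatrix_mulVec (Q : QuadraticForm F (ι → F)) (v x : ι → F) :
    Cfsg.reflectionMatrix ⇑Q v *ᵥ x = reflE Q v x := by
  rw [reflE_apply, Cfsg.reflectionMatrix, Matrix.sub_mulVec, Matrix.one_mulVec,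
    Matrix.smul_mulVec, Matrix.vecMulVec_mulVec, polarVec_dot, op_smul_eq_smul,
    smul_smul]

theorem toLE_eq_reflE (Q : QuadraticForm F (ι → F)) (g : GL ι F) (v : ι → F)
    (h : (g : Matrix ι ι F) = Cfsg.reflectionMatrix ⇑Q v) : toLE g = reflE Q v := by
  ext x
  rw [toLE_apply, h, reflectionMatrix_mulVec]

theorem toLE_symm_reflE (Q : QuadraticForm F (ι → F)) (v : ι → F) :
    ((toLE.symm (reflE Q v) : GL ι F) : Matrix ι ι F) = Cfsg.reflectionMatrix ⇑Q v := by
  apply Matrix.toLin'.injective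
  apply LinearMap.ext
  intro x
  rw [Matrix.toLin'_apply, Matrix.toLin'_apply, ← toLE_apply, MulEquiv.apply_symm_apply,
    reflectionMatrix_mulVec]

/-- Cartan–Dieudonné for the matrix isometry group of a quadratic form with nondegenerate polar
form over a finite field. -/
theorem closure_reflections_eq_top [Fintype F] (Q : QuadraticForm F (ι → F))
    (hQ : (polarBilin Q).Nondegenerate) (hex : Fintype.card F ≠ 2 ∨ Fintype.card ι ≠ 4) :
    Subgroup.closure {g : ↥(Cfsg.isometryGroup F ⇑Q) | ∃ v : ι → F, Q v ≠ 0 ∧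
      ((g : GL ι F) : Matrix ι ι F) = Cfsg.reflectionMatrix ⇑Q v} = ⊤ := by
  rw [eq_top_iff]
  intro g _
  obtain ⟨ψ, hψdef⟩ : ∃ ψ : ↥(Cfsg.isometryGroup F ⇑Q) →* ((ι → F) ≃ₗ[F] (ι → F)),
      ψ = (toLE (ι := ι) (F := F)).toMonoidHom.comp (Cfsg.isometryGroup F ⇑Q).subtype := ⟨_, rfl⟩
  have hψ : ∀ k, ψ k = toLE (k : GL ι F) := by
    intro k
    rw [hψdef]
    rfl
  have hψinj : Function.Injective ψ := by
    intro a b hab
    rw [hψ, hψ] at hab
    exact Subtype.ext (toLE.injective hab)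
  have hex' : Fintype.card F ≠ 2 ∨ finrank F (ι → F) ≠ 4 := by
    rw [Module.finrank_fintype_fun_eq_card]
    exact hex
  have h1 : ψ g ∈ RG Q := by
    apply cd_main Q hQ hex'
    rw [hψ]
    exact (mem_iso_iff Q _).1 g.2
  have h2 : RG Q ≤ (Subgroup.closure {g : ↥(Cfsg.isometryGroup F ⇑Q) | ∃ v : ι → F, Q v ≠ 0 ∧
      ((g : GL ι F) : Matrix ι ι F) = Cfsg.reflectionMatrix ⇑Q v}).map ψ := by
    rw [RG, Subgroup.closure_le]
    rintro _ ⟨v, hv, rfl⟩
    have hmem : toLE.symm (reflE Q v) ∈ Cfsg.isometryGroup F ⇑Q := by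
      rw [mem_iso_iff, MulEquiv.apply_symm_apply]
      exact reflE_mem_OG Q v
    refine ⟨⟨toLE.symm (reflE Q v), hmem⟩, Subgroup.subset_closure ⟨v, hv, ?_⟩, ?_⟩
    · exact toLE_symm_reflE Q v
    · rw [hψ]
      exact MulEquiv.apply_symm_apply _ _
  obtain ⟨g', hg', hgg'⟩ := h2 h1
  rw [← hψinj hgg']
  exact hg'

end Cfsg.Agent.Lib.Helper25.CD
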