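import Cfsg.Agent.Lib.Helper25.CDBasic

set_option autoImplicit false

/-!
# Cartan–Dieudonné in characteristic different from two
-/

namespace Cfsg.Agent.Lib.Helper25.CD

open Module QuadraticMap

universe u

variable {F : Type*} [Field F]

theorem exists_nonsing {V : Type*} [AddCommGroup V] [Module F V] (Q : QuadraticForm F V)
    (hQ : (polarBilin Q).Nondegenerate) [Nontrivial V] : ∃ u, Q u ≠ 0 := by
  by_contra hcon
  push Not at hcon
  obtain ⟨x, hx⟩ := exists_ne (0 : V)
  apply hx
  apply hQ.1
  intro y
  simp [polar, hcon]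

theorem fix_span_singleton {V : Type*} [AddCommGroup V] [Module F V] {g : V ≃ₗ[F] V} {u : V}
    (h : g u = u) : ∀ p ∈ Submodule.span F ({u} : Set V), g p = p := by
  intro p hp
  obtain ⟨c, rfl⟩ := Submodule.mem_span_singleton.1 hp
  rw [map_smul, h]

/-- Transitivity of the reflection group on vectors of equal nonzero norm, `2 ≠ 0`. -/
theorem exists_RG_map_odd (h2 : (2 : F) ≠ 0) {V : Type*} [AddCommGroup V] [Module F V]
    (Q : QuadraticForm F V) {u u' : V} (hu : Q u ≠ 0) (h : Q u' = Q u) :
    ∃ ρ ∈ RG Q, ρ u' = u := by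
  by_cases hne : Q (u - u') = 0
  · -- then `Q (u + u') ≠ 0`
    have e1 : Q (u - u') = Q u + Q u' - polar Q u u' := by
      rw [sub_eq_add_neg, QuadraticMap.map_add (⇑Q), QuadraticMap.map_neg, polar_neg_right]
      ring
    have e2 : Q (u + u') = Q u + Q u' + polar Q u u' := QuadraticMap.map_add (⇑Q) u u'
    have hne2 : Q (u - -u') ≠ 0 := by
      rw [sub_neg_eq_add, e2]
      rw [e1] at hne
      intro h0
      have : 2 * (Q u + Q u') = 0 := by linear_combination hne + h0
      rw [h] at this
      have h4 : (2 : F) * (2 * Q u) = 0 := by linear_combination this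
      rcases mul_eq_zero.1 h4 with h5 | h5
      · exact h2 h5
      · rcases mul_eq_zero.1 h5 with h6 | h6
        · exact h2 h6
        · exact hu h6
    have hsw : reflE Q (u - -u') u = -u' := reflE_swap Q (by rw [QuadraticMap.map_neg, h]) hne2
    -- so the reflection maps `u'` to `-u`, and `r_u` maps `-u` to `u`
    have h3 : reflE Q (u - -u') u' = -u := by
      have := congrArg (reflE Q (u - -u')) hsw
      rw [reflE_reflE, map_neg] at this
      exact neg_eq_iff_eq_neg.1 this.symm
    refine ⟨reflE Q u * reflE Q (u - -u'), mul_mem (reflE_mem_RG Q hu) (reflE_mem_RG Q hne2), ?_⟩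
    rw [LinearEquiv.mul_apply, h3, map_neg, reflE_apply, polar_self]
    simp only [nsmul_eq_mul, Nat.cast_ofNat]
    rw [show (Q u)⁻¹ * (2 * Q u) = 2 by field_simp]
    rw [two_smul]
    abel
  · refine ⟨reflE Q (u - u'), reflE_mem_RG Q hne, ?_⟩
    have := reflE_swap Q h.symm hne
    have h3 := congrArg (reflE Q (u - u')) this
    rw [reflE_reflE] at h3
    exact h3.symm

theorem cd_odd (h2 : (2 : F) ≠ 0) : ∀ (n : ℕ) (V : Type u) [AddCommGroup V] [Module F V]
    [FiniteDimensional F V] (Q : QuadraticForm F V), finrank F V = n →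
    (polarBilin Q).Nondegenerate → OG Q ≤ RG Q := by
  intro n
  induction n with
  | zero =>
    intro V _ _ _ Q hn hQ g _
    have : Subsingleton V := Module.finrank_zero_iff.1 hn
    have : g = 1 := by
      ext x
      exact Subsingleton.elim _ _
    rw [this]
    exact one_mem _
  | succ n ih =>
    intro V _ _ _ Q hn hQ g hg
    have : Nontrivial V := Module.nontrivial_of_finrank_pos (R := F) (by omega)
    obtain ⟨u, hu⟩ := exists_nonsing Q hQ
    obtain ⟨ρ, hρ, hρu⟩ := exists_RG_map_odd h2 Q hu (hg u)
    have hu0 : u ≠ 0 := by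
      rintro rfl
      exact hu (QuadraticMap.map_zero Q)
    have hBu : polarBilin Q u u ≠ 0 := by
      rw [polarBilin_apply_apply, polar_self]
      simp only [nsmul_eq_mul, Nat.cast_ofNat]
      exact mul_ne_zero h2 hu
    have hPW : Submodule.span F ({u} : Set V) ⊔ perp Q (Submodule.span F ({u} : Set V)) = ⊤ :=
      LinearMap.BilinForm.span_singleton_sup_orthogonal_eq_top hBu
    have hfin : finrank F (perp Q (Submodule.span F ({u} : Set V))) = n := by
      have := LinearMap.BilinForm.finrank_orthogonal hQ (Submodule.span F ({u} : Set V))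
      rw [finrank_span_singleton hu0, hn] at this
      rw [perp, this]
      omega
    have hmem : ρ * g ∈ RG Q := by
      apply reduce Q (Submodule.span F ({u} : Set V)) hPW (mul_mem (RG_le_OG Q hρ) hg)
      · apply fix_span_singleton
        rw [LinearEquiv.mul_apply, hρu]
      · intro h hh _
        exact ih _ (QR Q _) hfin (nondeg_perp Q hQ _ hPW) hh
    have : g = ρ⁻¹ * (ρ * g) := by group
    rw [this]
    exact mul_mem (inv_mem hρ) hmem

end Cfsg.Agent.Lib.Helper25.CD
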