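import Cfsg.Agent.Lib.Helper25.ChInvB
import Cfsg.Agent.Lib.Helper7.ChevLevi2
import Cfsg.Agent.Lib.Helper7.ChevTwist2

/-! Ordered products over a list of positive roots closed under the commutator formula, the subgroup
`Z_J = ⟨X_r : r ∈ Φ_J⁺⟩`, the decomposition `U = Z_J U_J`, and: if a stuck involution `n` of `N`
(with fixed fundamental roots `J`) conjugates `v ∈ U` into `U`, then `v ∈ Z_J` (helper25). -/

set_option autoImplicit false

namespace Cfsg.Agent.Lib.Helper25.ChInv

open Cfsg Cfsg.Lie Matrix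
open Cfsg.Agent.Lib.Helper7
open Classical

/-- a list of positive roots in increasing order, closed under the terms of the commutator formula -/
structure ClosedL (D : ChevalleyDatum) (l : List ℕ) : Prop where
  sorted : l.Pairwise (· < ·)
  pos : ∀ r ∈ l, D.IsPosRoot r
  cl : ∀ r ∈ l, ∀ s ∈ l, ∀ c ∈ D.commTerms r s, c.1 ∈ l

section
variable (D : ChevalleyDatum) (hD : D ∈ [chevG2, chevB2, chevD4, chevF4, chevE6, chevE7, chevE8])
variable (F : Type*) [Field F]
variable (A : ℕ → ℤ) (hA : ChainAdd D A) (hO : OrdFacts D A)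
include hD hA hO

omit F in
theorem commTerm_gt (r s : ℕ) (hr : D.IsPosRoot r) (hs : D.IsPosRoot s) (c : ℕ × ℤ × ℕ × ℕ)
    (hc : c ∈ D.commTerms r s) : A r < A c.1 ∧ A s < A c.1 ∧ D.IsPosRoot c.1 := by
  obtain ⟨hc1, hi, hj, hlin⟩ := hA.commTerms D hD r s hr.1 hs.1 c hc
  have hAr := hO.pos r hr
  have hAs := hO.pos s hs
  have h1 : A r ≤ c.2.2.1 * A r := by
    have : (1 : ℤ) ≤ c.2.2.1 := by exact_mod_cast hi
    nlinarith
  have h2 : A s ≤ c.2.2.2 * A s := by
    have : (1 : ℤ) ≤ c.2.2.2 := by exact_mod_cast hj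
    nlinarith
  refine ⟨by omega, by omega, isPosRoot_of_A_pos D hD A hA hO c.1 hc1 (by omega)⟩

omit F in
theorem ClosedL.tail' {r : ℕ} {l : List ℕ} (h : ClosedL D (r :: l)) : ClosedL D l := by
  have hs := List.pairwise_cons.mp h.sorted
  refine ⟨hs.2, fun s hs' => h.pos s (List.mem_cons_of_mem _ hs'), ?_⟩
  intro a ha s hs' c hc
  have := h.cl a (List.mem_cons_of_mem _ ha) s (List.mem_cons_of_mem _ hs') c hc
  rcases List.mem_cons.mp this with h1 | h1
  · exfalso
    have hapos := h.pos a (List.mem_cons_of_mem _ ha)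
    have hspos := h.pos s (List.mem_cons_of_mem _ hs')
    have hgt := (commTerm_gt D hD A hA hO a s hapos hspos c hc).1
    have hra : r < a := hs.1 a ha
    have := hO.mono r a hra hapos.1
    rw [h1] at hgt
    omega
  · exact h1

/-- `X_r` normalises the subgroup generated by the later root subgroups -/
theorem xGL_conj_gensL' (r : ℕ) (l : List ℕ) (hl : ClosedL D (r :: l)) (u : F) :
    ∀ y ∈ gensL D F l, xGL D hD F r u * y * (xGL D hD F r u)⁻¹ ∈ Subgroup.closure (gensL D F l) := by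
  rintro y ⟨s, hs, t, hym⟩
  have hy : y = xGL D hD F s t := Units.ext (by rw [hym, coe_xGL])
  rw [hy]
  have hsort := List.pairwise_cons.mp hl.sorted
  have hrpos := hl.pos r (List.mem_cons_self ..)
  have hspos := hl.pos s (List.mem_cons_of_mem _ hs)
  have hrs : r < s := hsort.1 s hs
  have hAr := hO.pos r hrpos
  have hAs := hO.pos s hspos
  have hsr : s ≠ r := by omega
  have hsn : s ≠ D.neg r := by
    intro h
    have hN := negOK_of_mem D hD r hrpos.1
    have := hA.negA r hrpos.1 hN.1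
    rw [← h] at this
    omega
  rw [xGL_conj_xGL D hD F r s hrpos.1 hspos.1 hsr hsn u t]
  apply Subgroup.mul_mem
  · apply Subgroup.subset_closure
    exact ⟨s, hs, t, coe_xGL D hD F _ _⟩
  · unfold wordGL
    apply Subgroup.list_prod_mem
    intro g hg
    rw [List.mem_map] at hg
    obtain ⟨p, hp, rfl⟩ := hg
    unfold ChevalleyDatum.commWord at hp
    rw [List.mem_map] at hp
    obtain ⟨c, hc, rfl⟩ := hp
    have hgt := (commTerm_gt D hD A hA hO r s hrpos hspos c hc).1
    have hmem := hl.cl r (List.mem_cons_self ..) s (List.mem_cons_of_mem _ hs) c hc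
    have hmem' : c.1 ∈ l := by
      rcases List.mem_cons.mp hmem with h' | h'
      · rw [h'] at hgt; omega
      · exact h'
    apply Subgroup.subset_closure
    exact ⟨c.1, hmem', _, coe_xGL D hD F _ _⟩

/-- every element of `⟨X_r : r ∈ l⟩` is an ordered product -/
theorem exists_ordProd' : ∀ (l : List ℕ), ClosedL D l → ∀ g ∈ Subgroup.closure (gensL D F l),
    ∃ t : ℕ → F, g = ordProd D hD F l t
  | [], _, g, hg => by
    have : gensL D F [] = ∅ := by
      ext g; simp [gensL]
    rw [this, Subgroup.closure_empty, Subgroup.mem_bot] at hg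
    exact ⟨fun _ => 0, by rw [hg, ordProd_nil]⟩
  | r :: l, hl, g, hg => by
    have ih := exists_ordProd' l (hl.tail' D hD A hA hO)
    have hnorm : D.rootSubgroup F r ≤ Subgroup.normalizer (Subgroup.closure (gensL D F l) : Set (GL D.Idx F)) := by
      intro x hx
      obtain ⟨u, rfl⟩ := (mem_rootSubgroup_iff D hD F r x).mp hx
      apply mem_normalizer_closure
      · exact xGL_conj_gensL' D hD F A hA hO r l hl u
      · intro y hy
        rw [xGL_inv]
        exact xGL_conj_gensL' D hD F A hA hO r l hl (-u) y hy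
    rw [closure_gensL_cons D F r l] at hg
    have hg' : g ∈ ((D.rootSubgroup F r ⊔ Subgroup.closure (gensL D F l) : Subgroup (GL D.Idx F)) :
        Set (GL D.Idx F)) := hg
    rw [Subgroup.coe_mul_of_left_le_normalizer_right _ _ hnorm] at hg'
    obtain ⟨x, hx, k, hk, rfl⟩ := Set.mem_mul.mp hg'
    obtain ⟨u, rfl⟩ := (mem_rootSubgroup_iff D hD F r x).mp hx
    obtain ⟨t, rfl⟩ := ih k hk
    have hrl : r ∉ l := by
      intro h
      have := (List.pairwise_cons.mp hl.sorted).1 r h
      omega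
    refine ⟨Function.update t r u, ?_⟩
    rw [ordProd_cons, Function.update_self]
    congr 1
    apply ordProd_congr
    intro s hs
    rw [Function.update_of_ne]
    rintro rfl
    exact hrl hs

end

/-- the positive roots of the subsystem `Φ_J`, in increasing order -/
noncomputable def lJ (D : ChevalleyDatum) (J : Set ℕ) : List ℕ :=
  D.posRoots.filter fun r => decide (D.InRootSub J r)

theorem mem_lJ (D : ChevalleyDatum) (J : Set ℕ) (r : ℕ) :
    r ∈ lJ D J ↔ D.IsPosRoot r ∧ D.InRootSub J r := by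
  unfold lJ
  rw [List.mem_filter, mem_posRoots, decide_eq_true_iff]

section
variable (D : ChevalleyDatum) (hD : D ∈ [chevG2, chevB2, chevD4, chevF4, chevE6, chevE7, chevE8])
variable (F : Type*) [Field F]
include hD

omit F in
theorem closedL_lJ (J : Set ℕ) : ClosedL D (lJ D J) := by
  obtain ⟨w, hO⟩ := exists_ordW D hD
  have hA := chainAdd_linF D hD w
  obtain ⟨W, hW⟩ := exists_coefW D hD
  refine ⟨?_, fun r hr => ((mem_lJ D J r).mp hr).1, ?_⟩
  · unfold lJ
    exact List.Pairwise.filter _ (goodL_posRoots D).sorted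
  · intro r hr s hs c hc
    obtain ⟨hrp, hrJ⟩ := (mem_lJ D J r).mp hr
    obtain ⟨hsp, hsJ⟩ := (mem_lJ D J s).mp hs
    rw [mem_lJ]
    have hcp := (commTerm_gt D hD _ hA hO r s hrp hsp c hc).2.2
    refine ⟨hcp, ?_⟩
    rw [inRootSub_iff D W hW] at hrJ hsJ ⊢
    refine ⟨hcp.1, fun k hk hkJ => ?_⟩
    have hAk : ChainAdd D (coefF D W k) := chainAdd_linF D hD _
    obtain ⟨-, -, -, hlin⟩ := hAk.commTerms D hD r s hrp.1 hsp.1 c hc
    rw [hlin, hrJ.2 k hk hkJ, hsJ.2 k hk hkJ]
    ring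

/-- `Z_J = ⟨X_r : r ∈ Φ_J⁺⟩` -/
noncomputable def zJ (J : Set ℕ) : Subgroup (GL D.Idx F) := Subgroup.closure (gensL D F (lJ D J))

omit hD in
theorem zJ_le_posUnipotent (J : Set ℕ) : zJ D F J ≤ D.posUnipotent F := by
  unfold zJ ChevalleyDatum.posUnipotent
  apply Subgroup.closure_mono
  rintro g ⟨r, hr, t, hg⟩
  exact ⟨r, t, ((mem_lJ D J r).mp hr).1, hg⟩

omit hD in
theorem posUnipotent_le_parabolic (J : Set ℕ) : D.posUnipotent F ≤ D.parabolicSubgroup F J := by
  unfold ChevalleyDatum.parabolicSubgroup ChevalleyDatum.borelSubgroup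
  exact le_trans le_sup_left le_sup_left

/-- `U = Z_J U_J` -/
theorem exists_zJ_mul_uJ (J : Set ℕ) (v : GL D.Idx F) (hv : v ∈ D.posUnipotent F) :
    ∃ z ∈ zJ D F J, ∃ y ∈ D.unipotentRadical F J, v = z * y := by
  obtain ⟨W, hW⟩ := exists_coefW D hD
  have hle : D.posUnipotent F ≤ zJ D F J ⊔ D.unipotentRadical F J := by
    unfold ChevalleyDatum.posUnipotent
    rw [Subgroup.closure_le]
    rintro g ⟨r, t, hr, hg⟩
    by_cases hJ : D.InRootSub J r
    · apply Subgroup.mem_sup_left
      apply Subgroup.subset_closure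
      exact ⟨r, (mem_lJ D J r).mpr ⟨hr, hJ⟩, t, hg⟩
    · apply Subgroup.mem_sup_right
      apply Subgroup.subset_closure
      exact ⟨r, t, hr, hJ, hg⟩
  have hnorm : zJ D F J ≤ Subgroup.normalizer (D.unipotentRadical F J : Set (GL D.Idx F)) :=
    le_trans (zJ_le_posUnipotent D F J) (le_trans (posUnipotent_le_parabolic D F J)
      (parabolic_le_normalizer_uJ D hD F W hW J))
  have hv' : v ∈ ((zJ D F J ⊔ D.unipotentRadical F J : Subgroup (GL D.Idx F)) : Set (GL D.Idx F)) := hle hv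
  rw [Subgroup.coe_mul_of_left_le_normalizer_right _ _ hnorm] at hv'
  obtain ⟨z, hz, y, hy, rfl⟩ := Set.mem_mul.mp hv'
  exact ⟨z, hz, y, hy, rfl⟩

/-- if a stuck involution of `N` conjugates `v ∈ U` into `U` then `v ∈ Z_J` -/
theorem mem_zJ_of_stuck (L : List ℕ) (hL : ∀ i ∈ L, i < D.rank)
    (hinv : ∀ r < D.nroots, reflWord D L (reflWord D L r) = r)
    (J : Set ℕ) (hS : StuckW D (reflWord D L) J)
    (n : GL D.Idx F) (hact : ActsAs D hD F n (reflWord D L))
    (v : GL D.Idx F) (hv : v ∈ D.posUnipotent F) (hconj : n * v * n⁻¹ ∈ D.posUnipotent F) :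
    v ∈ zJ D F J := by
  -- `n y n⁻¹ ∈ U⁻` for `y ∈ U_J`
  have hneg : ∀ y ∈ D.unipotentRadical F J, n * y * n⁻¹ ∈ D.negUnipotent F := by
    intro y hy
    unfold ChevalleyDatum.unipotentRadical at hy
    induction hy using Subgroup.closure_induction with
    | mem x hx =>
      obtain ⟨r, t, hr, hnJ, hxm⟩ := hx
      have hx' : x = xGL D hD F r t := Units.ext (by rw [hxm, coe_xGL])
      obtain ⟨-, c, -, hc⟩ := hact r hr.1
      rw [hx', hc]
      exact xGL_neg_mem D hD F _ (stuck_neg_of_not_inRootSub D hD L hL hinv J hS r hr hnJ) _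
    | one => simpa using Subgroup.one_mem _
    | mul a b _ _ iha ihb =>
      have : n * (a * b) * n⁻¹ = (n * a * n⁻¹) * (n * b * n⁻¹) := by group
      rw [this]
      exact Subgroup.mul_mem _ iha ihb
    | inv a _ iha =>
      have : n * a⁻¹ * n⁻¹ = (n * a * n⁻¹)⁻¹ := by group
      rw [this]
      exact Subgroup.inv_mem _ iha
  obtain ⟨z, hz, y, hy, rfl⟩ := exists_zJ_mul_uJ D hD F J v hv
  -- `n z n⁻¹ ∈ U`
  have h1 : n * z * n⁻¹ ∈ D.posUnipotent F := by
    have := conj_closure_gensL D hD F n _ hact (lJ D J)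
      (fun r hr => ((mem_lJ D J r).mp hr).1.1) z hz
    refine Subgroup.closure_mono ?_ this
    rintro g ⟨r, hr, t, hg⟩
    rw [List.mem_map] at hr
    obtain ⟨r0, hr0, rfl⟩ := hr
    obtain ⟨hp, hJ⟩ := (mem_lJ D J r0).mp hr0
    exact ⟨_, t, (stuck_pos_of_inRootSub D hD L hL hinv J hS r0 hp hJ).1, hg⟩
  have h2 := hneg y hy
  have h3 : n * y * n⁻¹ ∈ D.posUnipotent F ⊓ D.negUnipotent F := by
    rw [Subgroup.mem_inf]
    refine ⟨?_, h2⟩
    have e : n * y * n⁻¹ = (n * z * n⁻¹)⁻¹ * (n * (z * y) * n⁻¹) := by group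
    rw [e]
    exact Subgroup.mul_mem _ (Subgroup.inv_mem _ h1) hconj
  rw [posUnipotent_inf_negUnipotent D hD F, Subgroup.mem_bot] at h3
  have hy1 : y = 1 := by
    have e : y = n⁻¹ * (n * y * n⁻¹) * n := by group
    rw [e, h3]; group
  rw [hy1, mul_one]
  exact hz

end

end Cfsg.Agent.Lib.Helper25.ChInv
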