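import Cfsg.Agent.Lib.Helper25.HRow1

/-! Coefficients of words of pairwise non-interacting root elements, and conjugation of words by
elements of `N` (helper25). -/

set_option autoImplicit false

namespace Cfsg.Agent.Lib.Helper25.HRow

open Cfsg Cfsg.Lie Matrix
open Cfsg.Agent.Lib.Helper7

/-- the total coefficient of the root `r` in a word -/
def coefAt {F : Type*} [Field F] (w : List (ℕ × F)) (r : ℕ) : F :=
  (w.map fun e => if e.1 = r then e.2 else 0).sum

theorem coefAt_nil {F : Type*} [Field F] (r : ℕ) : coefAt ([] : List (ℕ × F)) r = 0 := rfl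

theorem coefAt_cons {F : Type*} [Field F] (e : ℕ × F) (w : List (ℕ × F)) (r : ℕ) :
    coefAt (e :: w) r = (if e.1 = r then e.2 else 0) + coefAt w r := by
  unfold coefAt
  rw [List.map_cons, List.sum_cons]

section
variable (D : ChevalleyDatum) (hD : D ∈ [chevG2, chevB2, chevD4, chevF4, chevE6, chevE7, chevE8])
variable (F : Type*) [Field F]
include hD

/-- the Cartan rows of a word with pairwise non-interacting letters, in terms of `coefAt` -/
theorem wordMat_row_coefAt (w : List (ℕ × F)) (hlt : ∀ e ∈ w, e.1 < D.nroots) (hw : NonInt D F w)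
    (j : Fin D.rank) (r : ℕ) (hr : r < D.nroots) :
    D.wordMat F w (Sum.inl j) (Sum.inr ⟨D.negIdx.getD r 0, (negOK_of_mem D hD r hr).1⟩) =
      (((D.coroot.getD r #[]).getD j.val 0 : ℤ) : F) * coefAt w r := by
  rw [wordMat_row_inl D hD F w hlt hw]
  unfold coefAt
  rw [← List.sum_map_mul_left]
  congr 1
  apply List.map_congr_left
  intro e he
  have he' := hlt e he
  by_cases h : e.1 = r
  · rw [if_pos h, if_pos (by rw [h])]
    rw [h]
  · have hne : ¬ ((⟨D.negIdx.getD r 0, (negOK_of_mem D hD r hr).1⟩ : Fin D.nroots).val =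
        D.negIdx.getD e.1 0) := by
      intro hh
      apply h
      have e1 := (negInvOK_of_mem D hD r hr).1
      have e2 := (negInvOK_of_mem D hD e.1 he').1
      have hh' : D.negIdx.getD r 0 = D.negIdx.getD e.1 0 := hh
      rw [← e1, hh', e2]
    rw [if_neg h, if_neg hne, mul_zero]

/-- words of pairwise non-interacting root elements with the same matrix have the same coefficients -/
theorem coefAt_eq_of_wordMat_eq (w w' : List (ℕ × F)) (hlt : ∀ e ∈ w, e.1 < D.nroots)
    (hlt' : ∀ e ∈ w', e.1 < D.nroots) (hw : NonInt D F w) (hw' : NonInt D F w')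
    (h : D.wordMat F w = D.wordMat F w') (r : ℕ) (hr : r < D.nroots) : coefAt w r = coefAt w' r := by
  have hent : ∀ j : Fin D.rank, (((D.coroot.getD r #[]).getD j.val 0 : ℤ) : F) *
      (coefAt w r - coefAt w' r) = 0 := by
    intro j
    have h1 := congrFun (congrFun h (Sum.inl j))
      (Sum.inr ⟨D.negIdx.getD r 0, (negOK_of_mem D hD r hr).1⟩)
    rw [wordMat_row_coefAt D hD F w hlt hw j r hr, wordMat_row_coefAt D hD F w' hlt' hw' j r hr] at h1
    rw [mul_sub, h1, sub_self]
  obtain ⟨wt, hO⟩ := exists_ordW D hD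
  have hg := gcdL_cast_mul_eq_zero (coefAt w r - coefAt w' r) (corL D r) (by
    intro x hx
    unfold corL at hx
    rw [List.mem_map] at hx
    obtain ⟨j, hj, rfl⟩ := hx
    exact hent ⟨j, List.mem_range.mp hj⟩)
  rw [hO.prim r hr] at hg
  have : coefAt w r - coefAt w' r = 0 := by simpa using hg
  exact sub_eq_zero.mp this

/-- the same for group elements -/
theorem coefAt_eq_of_wordGL_eq (w w' : List (ℕ × F)) (hlt : ∀ e ∈ w, e.1 < D.nroots)
    (hlt' : ∀ e ∈ w', e.1 < D.nroots) (hw : NonInt D F w) (hw' : NonInt D F w')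
    (h : wordGL D hD F w = wordGL D hD F w') (r : ℕ) (hr : r < D.nroots) : coefAt w r = coefAt w' r := by
  apply coefAt_eq_of_wordMat_eq D hD F w w' hlt hlt' hw hw' _ r hr
  rw [← coe_wordGL D hD, ← coe_wordGL D hD, h]

/-- conjugating a word by an element of `N` -/
theorem conj_actsAs_wordGL (n : GL D.Idx F) (f : ℕ → ℕ) (hf : ActsAs D hD F n f) :
    ∃ c : ℕ → F, (∀ r < D.nroots, c r ≠ 0) ∧ ∀ w : List (ℕ × F), (∀ e ∈ w, e.1 < D.nroots) →
      n * wordGL D hD F w * n⁻¹ = wordGL D hD F (w.map fun e => (f e.1, c e.1 * e.2)) := by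
  classical
  refine ⟨fun r => if h : r < D.nroots then Classical.choose (hf r h).2 else 1, ?_, ?_⟩
  · intro r hr
    show (if h : r < D.nroots then Classical.choose (hf r h).2 else 1) ≠ 0
    rw [dif_pos hr]
    exact (Classical.choose_spec (hf r hr).2).1
  · intro w hw
    induction w with
    | nil => simp [wordGL]
    | cons e w ih =>
      have he := hw e List.mem_cons_self
      have hw' : ∀ e' ∈ w, e'.1 < D.nroots := fun e' he' => hw e' (List.mem_cons_of_mem _ he')
      have e1 : wordGL D hD F (e :: w) = xGL D hD F e.1 e.2 * wordGL D hD F w := by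
        unfold wordGL; rw [List.map_cons, List.prod_cons]
      have e2 : n * (xGL D hD F e.1 e.2 * wordGL D hD F w) * n⁻¹ =
          (n * xGL D hD F e.1 e.2 * n⁻¹) * (n * wordGL D hD F w * n⁻¹) := by group
      rw [e1, e2, ih hw', List.map_cons]
      have e3 : wordGL D hD F ((f e.1, (if h : e.1 < D.nroots then Classical.choose (hf e.1 h).2 else 1) * e.2) ::
          w.map fun e => (f e.1, (if h : e.1 < D.nroots then Classical.choose (hf e.1 h).2 else 1) * e.2)) =
          xGL D hD F (f e.1) ((if h : e.1 < D.nroots then Classical.choose (hf e.1 h).2 else 1) * e.2) *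
          wordGL D hD F (w.map fun e => (f e.1,
            (if h : e.1 < D.nroots then Classical.choose (hf e.1 h).2 else 1) * e.2)) := by
        unfold wordGL; rw [List.map_cons, List.prod_cons]
      rw [e3]
      congr 1
      rw [dif_pos he]
      exact (Classical.choose_spec (hf e.1 he).2).2 e.2

end

end Cfsg.Agent.Lib.Helper25.HRow
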