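import Cfsg.Agent.Lib.Helper25.ChInvC
import Cfsg.Agent.Lib.Helper25.HRow2
import Cfsg.Agent.Lib.Helper7.ChevNorm

/-! The lengthening steps for an involution `t = n v` (`n ∈ N`, `v ∈ U`) of a Chevalley group in
characteristic two (helper25). -/

set_option autoImplicit false

namespace Cfsg.Agent.Lib.Helper25.ChInv

open Cfsg Cfsg.Lie Matrix
open Cfsg.Agent.Lib.Helper7
open Classical

theorem grp_aux1 {G : Type*} [Group G] (n x v s : G) (hnn : n * n = 1) :
    (s * x) * (n * (v * x)) * (s * x)⁻¹ = (s * n * s⁻¹) * (s * ((n * x * n⁻¹) * v) * s⁻¹) := by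
  have ninv : n⁻¹ = n := inv_eq_of_mul_eq_one_right hnn
  have h2 : n * n * x * n⁻¹ = x * n := by rw [hnn, one_mul, ninv]
  calc (s * x) * (n * (v * x)) * (s * x)⁻¹ = s * (x * n) * v * s⁻¹ := by group
    _ = s * (n * n * x * n⁻¹) * v * s⁻¹ := by rw [h2]
    _ = (s * n * s⁻¹) * (s * ((n * x * n⁻¹) * v) * s⁻¹) := by group

theorem grp_aux2 {G : Type*} [Group G] (n v x s y m xn : G) (hns : n * s = s * n) (hny : n * y = y * n)
    (hyy : y * y = 1) (hx : s * x * s⁻¹ = xn) (hm : m = y * xn * y) :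
    (y * s) * (n * (v * x)) * (y * s)⁻¹ = (n * m) * (m⁻¹ * (y * (s * v * s⁻¹) * y⁻¹) * m) := by
  subst hm
  subst hx
  have hyinv : y⁻¹ = y := inv_eq_of_mul_eq_one_right hyy
  have h3 : y * s * n = n * y * s := by
    rw [mul_assoc, ← hns, ← mul_assoc, ← hny]
  calc (y * s) * (n * (v * x)) * (y * s)⁻¹ = (y * s * n) * (v * x) * s⁻¹ * y⁻¹ := by group
    _ = (n * y * s) * (v * x) * s⁻¹ * y := by rw [h3, hyinv]
    _ = (n * (y * (s * x * s⁻¹) * y)) * ((y * (s * x * s⁻¹) * y)⁻¹ * (y * (s * v * s⁻¹) * y⁻¹) *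
        (y * (s * x * s⁻¹) * y)) := by group

theorem commute_of_conj {G : Type*} [Group G] (n x : G) (h : n * x * n⁻¹ = x) : n * x = x * n := by
  have := congrArg (· * n) h
  simpa using this

section
variable (D : ChevalleyDatum) (hD : D ∈ [chevG2, chevB2, chevD4, chevF4, chevE6, chevE7, chevE8])
variable (F : Type*) [Field F]
include hD

theorem xGL_coef_inj (a : ℕ) (ha : a < D.nroots) (t t' : F) (h : xGL D hD F a t = xGL D hD F a t') :
    t = t' := by
  have hN := negOK_of_mem D hD a ha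
  have h1 : xGL D hD F a (t - t') = 1 := by
    rw [sub_eq_add_neg, ← xGL_mul, ← xGL_inv, h, mul_inv_cancel]
  have h2 : D.x F a (t - t') = 1 := by rw [← coe_xGL D hD F, h1]; rfl
  have := eq_zero_of_x_eq_one D F a ha hN.1 hN.2 _ h2
  exact sub_eq_zero.mp this

/-- `U = U_p X_p` -/
theorem exists_up_mul_root (i : ℕ) (hi : i < D.rank) (v : GL D.Idx F) (hv : v ∈ D.posUnipotent F) :
    ∃ v' ∈ upSubgroup D F i, ∃ c : F, v = v' * xGL D hD F (D.simple i) c := by
  rw [← up_sup_rootSubgroup D hD F i hi] at hv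
  have hnorm : D.rootSubgroup F (D.simple i) ≤ Subgroup.normalizer (upSubgroup D F i : Set (GL D.Idx F)) :=
    le_trans le_sup_left (rootSubgroup_le_normalizer_up D hD F i hi)
  have hv' : v ∈ ((upSubgroup D F i ⊔ D.rootSubgroup F (D.simple i) : Subgroup (GL D.Idx F)) :
      Set (GL D.Idx F)) := hv
  rw [Subgroup.coe_mul_of_right_le_normalizer_left _ _ hnorm] at hv'
  obtain ⟨v', hv'', x, hx, rfl⟩ := Set.mem_mul.mp hv'
  obtain ⟨c, rfl⟩ := (mem_rootSubgroup_iff D hD F _ x).mp hx
  exact ⟨v', hv'', c, rfl⟩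

theorem conj_mem_up (i : ℕ) (g : GL D.Idx F)
    (hg : g ∈ Subgroup.normalizer (upSubgroup D F i : Set (GL D.Idx F))) (u : GL D.Idx F)
    (hu : u ∈ upSubgroup D F i) : g * u * g⁻¹ ∈ upSubgroup D F i := by
  rw [Subgroup.mem_set_normalizer_iff] at hg
  exact (hg u).mp hu

/-- Case (1): a fundamental root `p_i` with `f p_i` positive and different from `p_i` -/
theorem step_case1 (n : GL D.Idx F) (hn : n ∈ D.monomialSubgroup F) (hnn : n * n = 1)
    (L : List ℕ) (hact : ActsAs D hD F n (reflWord D L))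
    (i : ℕ) (hi : i < D.rank) (hpos : D.IsPosRoot (reflWord D L (D.simple i)))
    (hne : reflWord D L (D.simple i) ≠ D.simple i) (v : GL D.Idx F) (hv : v ∈ D.posUnipotent F) :
    ∃ g ∈ D.group F, ∃ n' ∈ D.monomialSubgroup F, ∃ v' ∈ D.posUnipotent F,
      g * (n * v) * g⁻¹ = n' * v' ∧ wl D hD F n < wl D hD F n' := by
  obtain ⟨v', hv', c, rfl⟩ := exists_up_mul_root D hD F i hi v hv
  have hF := fundFacts_of_mem D hD i hi
  have ninv : n⁻¹ = n := inv_eq_of_mul_eq_one_right hnn
  obtain ⟨hb, η, hη, hconj⟩ := hact (D.simple i) hF.hp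
  have hs := nFund_mem_monomial D hD F i hi
  have hsN := nFund_mem_normalizer_up D hD F i hi
  refine ⟨nFund D hD F i * xGL D hD F (D.simple i) c,
    Subgroup.mul_mem _ (monomial_le_group D hD F hs) (xGL_mem_group D hD F _ _),
    nFund D hD F i * n * (nFund D hD F i)⁻¹,
    Subgroup.mul_mem _ (Subgroup.mul_mem _ hs hn) (Subgroup.inv_mem _ hs),
    nFund D hD F i * ((n * xGL D hD F (D.simple i) c * n⁻¹) * v') * (nFund D hD F i)⁻¹, ?_,
    grp_aux1 n _ v' _ hnn, ?_⟩
  · apply up_le_posUnipotent D hD F i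
    apply conj_mem_up D hD F i _ hsN
    apply Subgroup.mul_mem _ _ hv'
    rw [hconj]
    apply Subgroup.subset_closure
    exact ⟨_, _, hpos, hne, coe_xGL D hD F _ _⟩
  · have hsi := Subgroup.inv_mem _ hs
    have hA := wl_lt_right D hD F n hn _ hact i hi hpos _ hsi (actsAs_nFund_inv D hD F i hi)
    obtain ⟨-, η', -, h2⟩ := actsAs_nFund D hD F i hi _ hb
    have hB := wl_lt_left D hD F (n * (nFund D hD F i)⁻¹) (Subgroup.mul_mem _ hn hsi) i hi
      (nFund D hD F i) hs (actsAs_nFund D hD F i hi) _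
      (reflect_pos_of_pos D hD i hi _ hpos hne) (η' * η) (by
        intro t
        have e0 : η' * η * t = η' * (η * t) := mul_assoc _ _ _
        rw [e0, ← h2, ← hconj t]
        rw [ninv]
        have e : (n * (nFund D hD F i)⁻¹)⁻¹ = nFund D hD F i * n := by
          rw [_root_.mul_inv_rev, inv_inv, ninv]
        rw [e]
        group)
    rw [← mul_assoc] at hB
    omega


/-- an involution of `N` fixing the root `a` centralises `X_a` (characteristic two) -/
theorem comm_of_fixed [CharP F 2] (n : GL D.Idx F) (hnn : n * n = 1)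
    (f : ℕ → ℕ) (hact : ActsAs D hD F n f) (a : ℕ) (ha : a < D.nroots) (hfix : f a = a) (t : F) :
    n * xGL D hD F a t * n⁻¹ = xGL D hD F a t := by
  obtain ⟨-, η, hη, h1⟩ := hact a ha
  rw [hfix] at h1
  have h2 : xGL D hD F a (η * (η * 1)) = xGL D hD F a 1 := by
    rw [← h1, ← h1]
    have : n * (n * xGL D hD F a 1 * n⁻¹) * n⁻¹ = (n * n) * xGL D hD F a 1 * (n * n)⁻¹ := by group
    rw [this, hnn]; group
  have h3 := xGL_coef_inj D hD F a ha _ _ h2
  have h4 : (η - 1) * (η - 1) = 0 := by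
    linear_combination h3 + (1 - η) * (CharTwo.two_eq_zero : (2 : F) = 0)
  have h5 : η = 1 := by
    have := mul_self_eq_zero.mp h4
    exact sub_eq_zero.mp this
  rw [h1, h5, one_mul]

/-- Case (2a): a fixed fundamental root `p_i` on which `v` has a nonzero component -/
theorem step_case2a [CharP F 2] (n : GL D.Idx F) (hn : n ∈ D.monomialSubgroup F) (hnn : n * n = 1)
    (L : List ℕ) (hL : ∀ i ∈ L, i < D.rank) (hact : ActsAs D hD F n (reflWord D L))
    (i : ℕ) (hi : i < D.rank) (hfix : reflWord D L (D.simple i) = D.simple i)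
    (v' : GL D.Idx F) (hv' : v' ∈ upSubgroup D F i) (c : F) (hc : c ≠ 0) :
    ∃ g ∈ D.group F, ∃ n' ∈ D.monomialSubgroup F, ∃ v'' ∈ D.posUnipotent F,
      g * (n * (v' * xGL D hD F (D.simple i) c)) * g⁻¹ = n' * v'' ∧ wl D hD F n < wl D hD F n' := by
  have hF := fundFacts_of_mem D hD i hi
  have ha := hF.hp
  have hna := hF.hpb
  have hfixn : reflWord D L (D.neg (D.simple i)) = D.neg (D.simple i) := by
    rw [reflWord_neg D hD L hL _ ha, hfix]
  have hca := fun t => commute_of_conj _ _ (comm_of_fixed D hD F n hnn _ hact _ ha hfix t)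
  have hcn := fun t => commute_of_conj _ _ (comm_of_fixed D hD F n hnn _ hact _ hna hfixn t)
  have hcomm_n : ∀ t : F, n * wordGL D hD F (D.nWord (D.simple i) t) =
      wordGL D hD F (D.nWord (D.simple i) t) * n := by
    intro t
    rw [nGL_eq]
    calc n * (xGL D hD F (D.simple i) t * xGL D hD F (D.neg (D.simple i)) (-t⁻¹) * xGL D hD F (D.simple i) t)
        = (n * xGL D hD F (D.simple i) t) * xGL D hD F (D.neg (D.simple i)) (-t⁻¹) *
            xGL D hD F (D.simple i) t := by group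
      _ = xGL D hD F (D.simple i) t * (n * xGL D hD F (D.neg (D.simple i)) (-t⁻¹)) *
            xGL D hD F (D.simple i) t := by rw [hca]; group
      _ = xGL D hD F (D.simple i) t * xGL D hD F (D.neg (D.simple i)) (-t⁻¹) *
            (n * xGL D hD F (D.simple i) t) := by rw [hcn]; group
      _ = xGL D hD F (D.simple i) t * xGL D hD F (D.neg (D.simple i)) (-t⁻¹) *
            xGL D hD F (D.simple i) t * n := by rw [hca]; group
  have hs := nFund_mem_monomial D hD F i hi
  have hsN := nFund_mem_normalizer_up D hD F i hi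
  obtain ⟨-, η', hη', h2⟩ := actsAs_nFund D hD F i hi _ ha
  rw [reflectRoot_simple] at h2
  obtain ⟨c1, hc1def⟩ : ∃ c1, c1 = η' * c := ⟨_, rfl⟩
  have hc1 : c1 ≠ 0 := by rw [hc1def]; exact mul_ne_zero hη' hc
  obtain ⟨t0, ht0def⟩ : ∃ t0, t0 = -c1⁻¹ := ⟨_, rfl⟩
  have ht0 : t0 ≠ 0 := by rw [ht0def]; exact neg_ne_zero.mpr (inv_ne_zero hc1)
  have ht0' : -t0⁻¹ = c1 := by rw [ht0def, inv_neg, inv_inv, neg_neg]
  obtain ⟨y, hy⟩ : ∃ y, y = xGL D hD F (D.simple i) t0 := ⟨_, rfl⟩
  obtain ⟨m, hm⟩ : ∃ m, m = wordGL D hD F (D.nWord (D.simple i) t0) := ⟨_, rfl⟩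
  have hyy : y * y = 1 := by
    rw [hy, xGL_mul, CharTwo.add_self_eq_zero, xGL_zero]
  have hmy : m = y * xGL D hD F (D.neg (D.simple i)) c1 * y := by
    rw [hm, hy, nGL_eq, ht0']
  have hmN : m ∈ D.monomialSubgroup F := by
    rw [hm, nGL_eq_hGL_mul]
    exact Subgroup.mul_mem _ (diagonal_le_monomial D hD F (hGL_mem_diagonalSubgroup D hD F _ ha t0 ht0)) hs
  have hmact : ActsAs D hD F m (D.reflectRoot i) := by
    rw [hm, nGL_eq_hGL_mul]
    exact ActsAs.mul D F (actsAs_diag D hD F _ (hGL_mem_diagonalSubgroup D hD F _ ha t0 ht0))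
      (actsAs_nFund D hD F i hi)
  have hyN : y ∈ Subgroup.normalizer (upSubgroup D F i : Set (GL D.Idx F)) := by
    rw [hy]; exact xGL_mem_normalizer_up D hD F i hi _ (Or.inl rfl) _
  have hmNorm : m ∈ Subgroup.normalizer (upSubgroup D F i : Set (GL D.Idx F)) := by
    rw [hmy]
    exact Subgroup.mul_mem _ (Subgroup.mul_mem _ hyN
      (xGL_mem_normalizer_up D hD F i hi _ (Or.inr rfl) _)) hyN
  refine ⟨y * nFund D hD F i, Subgroup.mul_mem _ (by rw [hy]; exact xGL_mem_group D hD F _ _)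
      (monomial_le_group D hD F hs), n * m, Subgroup.mul_mem _ hn hmN,
    m⁻¹ * (y * (nFund D hD F i * v' * (nFund D hD F i)⁻¹) * y⁻¹) * m, ?_, ?_, ?_⟩
  · apply up_le_posUnipotent D hD F i
    have := conj_mem_up D hD F i m⁻¹ (Subgroup.inv_mem _ hmNorm) _
      (conj_mem_up D hD F i y hyN _ (conj_mem_up D hD F i _ hsN _ hv'))
    rwa [inv_inv] at this
  · apply grp_aux2 n v' _ _ y m _ _ _ hyy (h2 c) (by rw [hmy, hc1def])
    · unfold nFund; exact hcomm_n 1
    · rw [hy]; exact hca t0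
  · apply wl_lt_right D hD F n hn _ hact i hi _ m hmN hmact
    rw [hfix]
    exact (parFacts_of_mem D hD).simplePos i hi


/-- an involution of `N` fixing the fundamental root `p_i` commutes with `n_{p_i}(t)` -/
theorem comm_nWord [CharP F 2] (n : GL D.Idx F) (hnn : n * n = 1)
    (L : List ℕ) (hL : ∀ i ∈ L, i < D.rank) (hact : ActsAs D hD F n (reflWord D L))
    (i : ℕ) (hi : i < D.rank) (hfix : reflWord D L (D.simple i) = D.simple i) (t : F) :
    n * wordGL D hD F (D.nWord (D.simple i) t) = wordGL D hD F (D.nWord (D.simple i) t) * n := by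
  have hF := fundFacts_of_mem D hD i hi
  have ha := hF.hp
  have hna := hF.hpb
  have hfixn : reflWord D L (D.neg (D.simple i)) = D.neg (D.simple i) := by
    rw [reflWord_neg D hD L hL _ ha, hfix]
  have hca := fun t => commute_of_conj _ _ (comm_of_fixed D hD F n hnn _ hact _ ha hfix t)
  have hcn := fun t => commute_of_conj _ _ (comm_of_fixed D hD F n hnn _ hact _ hna hfixn t)
  rw [nGL_eq]
  calc n * (xGL D hD F (D.simple i) t * xGL D hD F (D.neg (D.simple i)) (-t⁻¹) * xGL D hD F (D.simple i) t)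
      = (n * xGL D hD F (D.simple i) t) * xGL D hD F (D.neg (D.simple i)) (-t⁻¹) *
          xGL D hD F (D.simple i) t := by group
    _ = xGL D hD F (D.simple i) t * (n * xGL D hD F (D.neg (D.simple i)) (-t⁻¹)) *
          xGL D hD F (D.simple i) t := by rw [hca]; group
    _ = xGL D hD F (D.simple i) t * xGL D hD F (D.neg (D.simple i)) (-t⁻¹) *
          (n * xGL D hD F (D.simple i) t) := by rw [hcn]; group
    _ = xGL D hD F (D.simple i) t * xGL D hD F (D.neg (D.simple i)) (-t⁻¹) *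
          xGL D hD F (D.simple i) t * n := by rw [hca]; group

theorem wordGL_cons (e : ℕ × F) (w : List (ℕ × F)) :
    wordGL D hD F (e :: w) = xGL D hD F e.1 e.2 * wordGL D hD F w := by
  unfold wordGL; rw [List.map_cons, List.prod_cons]

/-- words in the positive root elements different from `p_i` lie in `U_{p_i}` -/
theorem wordGL_mem_up (i : ℕ) (w : List (ℕ × F)) (hw : ∀ e ∈ w, D.IsPosRoot e.1 ∧ e.1 ≠ D.simple i) :
    wordGL D hD F w ∈ upSubgroup D F i := by
  unfold wordGL
  apply Subgroup.list_prod_mem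
  intro g hg
  rw [List.mem_map] at hg
  obtain ⟨e, he, rfl⟩ := hg
  apply Subgroup.subset_closure
  exact ⟨e.1, e.2, (hw e he).1, (hw e he).2, coe_xGL D hD F _ _⟩

/-- Case (2b): descent of a word in the root elements of `Φ_J⁺` to a word with a fundamental letter -/
theorem descent_2b [CharP F 2] (n : GL D.Idx F) (hnn : n * n = 1)
    (L : List ℕ) (hL : ∀ i ∈ L, i < D.rank) (hact : ActsAs D hD F n (reflWord D L))
    (J : Set ℕ) (hS : StuckW D (reflWord D L) J) :
    ∀ m : ℕ, ∀ w : List (ℕ × F), (∀ e ∈ w, D.IsPosRoot e.1 ∧ D.InRootSub J e.1 ∧ e.2 ≠ 0) →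
      (w.map Prod.fst).Nodup → (∃ e ∈ w, htN D e.1 ≤ m) →
      ∃ g ∈ D.group F, ∃ i < D.rank, i ∈ J ∧ ∃ c : F, c ≠ 0 ∧ ∃ v' ∈ upSubgroup D F i,
        g * (n * wordGL D hD F w) * g⁻¹ = n * (v' * xGL D hD F (D.simple i) c) := by
  intro m
  induction m using Nat.strong_induction_on with
  | _ m ih =>
    intro w hw hnd hex
    by_cases hA : ∃ e ∈ w, ∃ i < D.rank, e.1 = D.simple i
    · -- a fundamental letter
      obtain ⟨e, he, i, hi, hei⟩ := hA
      have hiJ : i ∈ J := simple_inj_mem D hD i hi J (hei ▸ (hw e he).2.1)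
      obtain ⟨w1, w2, rfl⟩ := List.append_of_mem he
      rw [List.map_append, List.map_cons, List.nodup_append] at hnd
      obtain ⟨-, hnd2, hdisj⟩ := hnd
      rw [List.nodup_cons] at hnd2
      have h1 : ∀ e' ∈ w1, D.IsPosRoot e'.1 ∧ e'.1 ≠ D.simple i := by
        intro e' he'
        refine ⟨(hw e' (List.mem_append_left _ he')).1, ?_⟩
        intro h
        exact hdisj e'.1 (List.mem_map.mpr ⟨e', he', rfl⟩) e.1 List.mem_cons_self (h.trans hei.symm)
      have h2 : ∀ e' ∈ w2, D.IsPosRoot e'.1 ∧ e'.1 ≠ D.simple i := by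
        intro e' he'
        refine ⟨(hw e' (List.mem_append_right _ (List.mem_cons_of_mem _ he'))).1, ?_⟩
        intro h
        apply hnd2.1
        rw [hei, ← h]
        exact List.mem_map.mpr ⟨e', he', rfl⟩
      have hxN := xGL_mem_normalizer_up D hD F i hi (D.simple i) (Or.inl rfl) e.2
      refine ⟨1, Subgroup.one_mem _, i, hi, hiJ, e.2, (hw e he).2.2,
        wordGL D hD F w1 * (xGL D hD F (D.simple i) e.2 * wordGL D hD F w2 *
          (xGL D hD F (D.simple i) e.2)⁻¹),
        Subgroup.mul_mem _ (wordGL_mem_up D hD F i w1 h1)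
          (conj_mem_up D hD F i _ hxN _ (wordGL_mem_up D hD F i w2 h2)), ?_⟩
      rw [wordGL_append, wordGL_cons, hei]
      group
    · -- no fundamental letter: descend
      push Not at hA
      obtain ⟨e, he, hem⟩ := hex
      obtain ⟨hep, heJ, -⟩ := hw e he
      obtain ⟨j, hj, hjJ, hlt⟩ := pos_descent D hD J e.1 hep heJ (fun j hj => hA e he j hj)
      have hC := conjFacts_of_mem D hD j hj
      have hfix := hS.fix j hj hjJ
      have hcomm : n * nFund D hD F j = nFund D hD F j * n := by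
        unfold nFund; exact comm_nWord D hD F n hnn L hL hact j hj hfix 1
      obtain ⟨c, hc, hconj⟩ := HRow.conj_actsAs_wordGL D hD F _ _ (actsAs_nFund D hD F j hj)
      have hwlt : ∀ e' ∈ w, e'.1 < D.nroots := fun e' he' => (hw e' he').1.1
      obtain ⟨g', hg', i, hi, hiJ, c0, hc0, v0, hv0, heq⟩ := ih (htN D (D.reflectRoot j e.1)) (by omega)
        (w.map fun e' => (D.reflectRoot j e'.1, c e'.1 * e'.2))
        (by
          intro e'' he''
          rw [List.mem_map] at he''
          obtain ⟨e', he', rfl⟩ := he''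
          obtain ⟨h1, h2, h3⟩ := hw e' he'
          exact ⟨reflect_pos_of_pos D hD j hj _ h1 (hA e' he' j hj),
            inRootSub_reflect D hD J j hj hjJ _ h2, mul_ne_zero (hc _ h1.1) h3⟩)
        (by
          rw [List.map_map]
          have : (Prod.fst ∘ fun e' : ℕ × F => (D.reflectRoot j e'.1, c e'.1 * e'.2)) =
              D.reflectRoot j ∘ Prod.fst := by
            funext e'; rfl
          rw [this, ← List.map_map]
          apply List.Nodup.map_on _ hnd
          intro x hx y hy hxy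
          rw [List.mem_map] at hx hy
          obtain ⟨ex, hex', rfl⟩ := hx
          obtain ⟨ey, hey', rfl⟩ := hy
          rw [← hC.winv _ (hwlt ex hex'), hxy, hC.winv _ (hwlt ey hey')])
        ⟨_, List.mem_map.mpr ⟨e, he, rfl⟩, le_rfl⟩
      refine ⟨g' * nFund D hD F j, Subgroup.mul_mem _ hg'
        (monomial_le_group D hD F (nFund_mem_monomial D hD F j hj)), i, hi, hiJ, c0, hc0, v0, hv0, ?_⟩
      rw [← heq, ← hconj w hwlt]
      have e1 : g' * nFund D hD F j * (n * wordGL D hD F w) * (g' * nFund D hD F j)⁻¹ =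
          g' * ((nFund D hD F j * n) * wordGL D hD F w * (nFund D hD F j)⁻¹) * g'⁻¹ := by group
      rw [e1, ← hcomm]
      group

/-- dropping the trivial factors of an ordered product -/
theorem ordProd_filter (l : List ℕ) (c : ℕ → F) :
    ordProd D hD F (l.filter fun r => decide (c r ≠ 0)) c = ordProd D hD F l c := by
  induction l with
  | nil => rfl
  | cons r l ih =>
    by_cases h : c r ≠ 0
    · rw [List.filter_cons_of_pos (by simpa using h), ordProd_cons, ordProd_cons, ih]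
    · rw [List.filter_cons_of_neg (by simpa using h), ordProd_cons, ih]
      push Not at h
      rw [h, xGL_zero, one_mul]

/-- the stuck case: `v = 1`, or the involution can be lengthened -/
theorem step_stuck [CharP F 2] (n : GL D.Idx F) (hn : n ∈ D.monomialSubgroup F) (hnn : n * n = 1)
    (L : List ℕ) (hL : ∀ i ∈ L, i < D.rank) (hact : ActsAs D hD F n (reflWord D L))
    (hinv : ∀ r < D.nroots, reflWord D L (reflWord D L r) = r)
    (J : Set ℕ) (hS : StuckW D (reflWord D L) J)
    (v : GL D.Idx F) (hv : v ∈ D.posUnipotent F) (hconj : n * v * n⁻¹ ∈ D.posUnipotent F) :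
    v = 1 ∨ ∃ g ∈ D.group F, ∃ n' ∈ D.monomialSubgroup F, ∃ v' ∈ D.posUnipotent F,
      g * (n * v) * g⁻¹ = n' * v' ∧ wl D hD F n < wl D hD F n' := by
  have hz := mem_zJ_of_stuck D hD F L hL hinv J hS n hact v hv hconj
  obtain ⟨w0, hO⟩ := exists_ordW D hD
  have hA := chainAdd_linF D hD w0
  obtain ⟨c, hc⟩ := exists_ordProd' D hD F _ hA hO (lJ D J) (closedL_lJ D hD J) v hz
  rw [← ordProd_filter D hD F] at hc
  obtain ⟨l', hl'⟩ : ∃ l', l' = (lJ D J).filter fun r => decide (c r ≠ 0) := ⟨_, rfl⟩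
  rw [← hl'] at hc
  have hl'mem : ∀ r ∈ l', D.IsPosRoot r ∧ D.InRootSub J r ∧ c r ≠ 0 := by
    intro r hr
    rw [hl', List.mem_filter, mem_lJ] at hr
    exact ⟨hr.1.1, hr.1.2, by simpa using hr.2⟩
  have hl'nd : l'.Nodup := by
    rw [hl']
    exact ((closedL_lJ D hD J).sorted.imp (fun h => Nat.ne_of_lt h)).filter _
  rcases l'.eq_nil_or_concat with hnil | ⟨l'', q, hq⟩
  · left
    rw [hc, hnil, ordProd_nil]
  · right
    have hqmem : q ∈ l' := by rw [hq]; simp
    obtain ⟨g, hg, i, hi, hiJ, c0, hc0, v0, hv0, heq⟩ := descent_2b D hD F n hnn L hL hact J hS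
      (htN D q) (l'.map fun r => (r, c r))
      (by
        intro e he
        rw [List.mem_map] at he
        obtain ⟨r, hr, rfl⟩ := he
        exact hl'mem r hr)
      (by
        rw [List.map_map]
        have : (Prod.fst ∘ fun r : ℕ => (r, c r)) = id := by funext r; rfl
        rw [this, List.map_id]
        exact hl'nd)
      ⟨(q, c q), List.mem_map.mpr ⟨q, hqmem, rfl⟩, le_rfl⟩
    obtain ⟨g2, hg2, n', hn', v'', hv'', heq2, hlt⟩ := step_case2a D hD F n hn hnn L hL hact i hi
      (hS.fix i hi hiJ) v0 hv0 c0 hc0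
    refine ⟨g2 * g, Subgroup.mul_mem _ hg2 hg, n', hn', v'', hv'', ?_, hlt⟩
    rw [← heq2, ← heq, hc]
    unfold ordProd
    group

end

end Cfsg.Agent.Lib.Helper25.ChInv
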