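import Cfsg.Agent.Lib.Helper25.ChInvD

/-! Every involution of a Chevalley group over a finite field of characteristic two is conjugate to an
involution `n` of the monomial group `N` whose Weyl group element is "stuck": every fundamental root
is fixed or made negative (helper25). -/

set_option autoImplicit false

namespace Cfsg.Agent.Lib.Helper25.ChInv

open Cfsg Cfsg.Lie Matrix
open Cfsg.Agent.Lib.Helper7
open Classical

section
variable (D : ChevalleyDatum) (hD : D ∈ [chevG2, chevB2, chevD4, chevF4, chevE6, chevE7, chevE8])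
variable (F : Type*) [Field F]
include hD

/-- the conclusion: `n` is an involution of `N` acting on the roots by a stuck word -/
def IsStuckInv (n : GL D.Idx F) : Prop :=
  n ∈ D.monomialSubgroup F ∧ n * n = 1 ∧
    ∃ L : List ℕ, (∀ i ∈ L, i < D.rank) ∧ ActsAs D hD F n (reflWord D L) ∧
      (∀ r < D.nroots, reflWord D L (reflWord D L r) = r) ∧
      ∀ i < D.rank, reflWord D L (D.simple i) = D.simple i ∨ D.IsNegRoot (reflWord D L (D.simple i))

theorem stuck_aux [Fintype F] [CharP F 2] (M : ℕ) (hM : ∀ n : GL D.Idx F, wl D hD F n ≤ M) :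
    ∀ k : ℕ, ∀ n ∈ D.monomialSubgroup F, ∀ v ∈ D.posUnipotent F, (n * v) * (n * v) = 1 →
      M - wl D hD F n ≤ k →
      ∃ g ∈ D.group F, ∃ n' : GL D.Idx F, g * (n * v) * g⁻¹ = n' ∧ IsStuckInv D hD F n' := by
  intro k
  induction k using Nat.strong_induction_on with
  | _ k ih =>
    intro n hn v hv hsq hk
    obtain ⟨hnn, hinvv⟩ := invol_normal_form D hD F n v hn hv hsq
    obtain ⟨L, hL, hact⟩ := exists_actsAs D hD F n hn
    have hinv : ∀ r < D.nroots, reflWord D L (reflWord D L r) = r := by
      intro r hr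
      have h1 := ActsAs.mul D F hact hact
      rw [hnn] at h1
      have h2 := actsAs_diag D hD F 1 (Subgroup.one_mem _)
      exact ActsAs.unique D hD F h1 h2 r hr
    -- a lengthening step finishes by induction
    have hstep : (∃ g ∈ D.group F, ∃ n' ∈ D.monomialSubgroup F, ∃ v' ∈ D.posUnipotent F,
        g * (n * v) * g⁻¹ = n' * v' ∧ wl D hD F n < wl D hD F n') →
        ∃ g ∈ D.group F, ∃ n' : GL D.Idx F, g * (n * v) * g⁻¹ = n' ∧ IsStuckInv D hD F n' := by
      rintro ⟨g, hg, n', hn', v', hv', heq, hlt⟩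
      have hsq' : (n' * v') * (n' * v') = 1 := by
        rw [← heq]
        have : g * (n * v) * g⁻¹ * (g * (n * v) * g⁻¹) = g * ((n * v) * (n * v)) * g⁻¹ := by group
        rw [this, hsq]; group
      have hM' := hM n'
      obtain ⟨g2, hg2, n2, heq2, hst⟩ := ih (M - wl D hD F n') (by omega) n' hn' v' hv' hsq' le_rfl
      refine ⟨g2 * g, Subgroup.mul_mem _ hg2 hg, n2, ?_, hst⟩
      rw [← heq2, ← heq]; group
    by_cases h1 : ∃ i < D.rank, D.IsPosRoot (reflWord D L (D.simple i)) ∧
        reflWord D L (D.simple i) ≠ D.simple i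
    · obtain ⟨i, hi, hpos, hne⟩ := h1
      exact hstep (step_case1 D hD F n hn hnn L hact i hi hpos hne v hv)
    · push Not at h1
      have hS : StuckW D (reflWord D L) {i | i < D.rank ∧ reflWord D L (D.simple i) = D.simple i} := by
        refine ⟨fun i _ hiJ => hiJ.2, fun i hi hiJ => ?_⟩
        have hne : reflWord D L (D.simple i) ≠ D.simple i := fun h => hiJ ⟨hi, h⟩
        rcases posOrNeg_of_mem D hD _ (reflWord_lt' D hD L hL _ (fundFacts_of_mem D hD i hi).hp) with hp | hn'
        · exact absurd (h1 i hi hp) hne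
        · exact hn'
      have hconj : n * v * n⁻¹ ∈ D.posUnipotent F := by
        rw [hinvv]; exact Subgroup.inv_mem _ hv
      rcases step_stuck D hD F n hn hnn L hL hact hinv _ hS v hv hconj with hv1 | hlen
      · refine ⟨1, Subgroup.one_mem _, n, by rw [hv1]; group, hn, hnn, L, hL, hact, hinv, ?_⟩
        intro i hi
        by_cases hfix : reflWord D L (D.simple i) = D.simple i
        · exact Or.inl hfix
        · exact Or.inr (hS.neg i hi (fun h => hfix h.2))
      · exact hstep hlen

/-- every involution is conjugate to a stuck involution of `N` -/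
theorem exists_conj_stuck [Fintype F] [CharP F 2] (t : GL D.Idx F) (ht : t ∈ D.group F) (hsq : t * t = 1) :
    ∃ g ∈ D.group F, ∃ n : GL D.Idx F, g * t * g⁻¹ = n ∧ IsStuckInv D hD F n := by
  obtain ⟨M, hM⟩ := exists_wl_bound D hD F
  obtain ⟨g, hg, n, hn, v, hv, heq⟩ := exists_conj_NU D hD F t ht
  have hsq' : (n * v) * (n * v) = 1 := by
    rw [← heq]
    have : g * t * g⁻¹ * (g * t * g⁻¹) = g * (t * t) * g⁻¹ := by group
    rw [this, hsq]; group
  obtain ⟨g2, hg2, n2, heq2, hst⟩ := stuck_aux D hD F M hM (M - wl D hD F n) n hn v hv hsq' le_rfl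
  refine ⟨g2 * g, Subgroup.mul_mem _ hg2 hg, n2, ?_, hst⟩
  rw [← heq2, ← heq]; group

end

end Cfsg.Agent.Lib.Helper25.ChInv
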