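import Cfsg.Agent.Lib.Helper25.ChInvE
import Cfsg.Agent.Lib.Helper7.ChevTwistBN5

/-! Identification of the stuck involutions of `N` with the lifts of `w₀ w_J`, up to conjugacy under the
diagonal subgroup (helper25). -/

set_option autoImplicit false

namespace Cfsg.Agent.Lib.Helper25.ChInv

open Cfsg Cfsg.Lie Matrix
open Cfsg.Agent.Lib.Helper7
open Classical

/-- table check: the word `LJ` makes negative exactly the positive roots outside `Φ_J` -/
def p1B (D : ChevalleyDatum) (Jl LJ : List ℕ) : Bool :=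
  (LJ.all fun i => decide (i < D.rank)) &&
  (List.range D.nroots).all fun r => !decide (D.IsPosRoot r) ||
    (decide (D.IsPosRoot (reflWord D LJ r)) ==
      (List.range D.rank).all fun i => Jl.contains i || decide (corC D r i = 0))

theorem p1B_spec (D : ChevalleyDatum) (Jl LJ : List ℕ) (h : p1B D Jl LJ = true) :
    (∀ i ∈ LJ, i < D.rank) ∧ ∀ r, D.IsPosRoot r →
      (D.IsPosRoot (reflWord D LJ r) ↔ D.InRootSub {i | i ∈ Jl} r) := by
  unfold p1B at h
  rw [Bool.and_eq_true, List.all_eq_true, List.all_eq_true] at h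
  obtain ⟨h1, h2⟩ := h
  refine ⟨fun i hi => of_decide_eq_true (h1 i hi), fun r hr => ?_⟩
  have h3 := h2 r (List.mem_range.mpr hr.1)
  rw [Bool.or_eq_true] at h3
  rcases h3 with h3 | h3
  · simp only [Bool.not_eq_true', decide_eq_false_iff_not] at h3
    exact absurd hr h3
  · rw [beq_iff_eq] at h3
    have e : (D.InRootSub {i | i ∈ Jl} r) ↔
        ((List.range D.rank).all fun i => Jl.contains i || decide (corC D r i = 0)) = true := by
      rw [List.all_eq_true]
      constructor
      · intro hJ i hi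
        rw [Bool.or_eq_true]
        by_cases hiJ : i ∈ Jl
        · left; simpa using hiJ
        · right
          exact decide_eq_true (hJ.2 i (List.mem_range.mp hi) hiJ)
      · intro hall
        refine ⟨hr.1, fun i hi hiJ => ?_⟩
        have := hall i (List.mem_range.mpr hi)
        rw [Bool.or_eq_true] at this
        rcases this with h4 | h4
        · exfalso; apply hiJ; simpa using h4
        · exact of_decide_eq_true h4
    rw [e, ← h3, decide_eq_true_iff]

theorem grp_aux3 {G : Type*} [Group G] (k m : G) (hmm : m * m = 1) (hc : m * k * m⁻¹ = k⁻¹) :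
    k * m * k⁻¹ = k * k * m := by
  have minv : m⁻¹ = m := inv_eq_of_mul_eq_one_right hmm
  calc k * m * k⁻¹ = k * m * (m * k * m⁻¹) := by rw [hc]
    _ = k * (m * m) * k * m⁻¹ := by group
    _ = k * k * m := by rw [hmm, mul_one, minv]

section
variable (D : ChevalleyDatum) (hD : D ∈ [chevG2, chevB2, chevD4, chevF4, chevE6, chevE7, chevE8])
variable (F : Type*) [Field F]
include hD

theorem nWordGL_mem_monomial (L : List ℕ) (hL : ∀ i ∈ L, i < D.rank) :
    nWordGL D hD F L ∈ D.monomialSubgroup F := by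
  unfold nWordGL
  apply Subgroup.list_prod_mem
  intro g hg
  rw [List.mem_map] at hg
  obtain ⟨i, hi, rfl⟩ := hg
  exact nFund_mem_monomial D hD F i (hL i hi)

/-- a stuck involution of `N` lies in the coset `H n_J` of the lift of `w₀ w_J` -/
theorem stuck_mem_coset (n : GL D.Idx F) (hn : n ∈ D.monomialSubgroup F)
    (L : List ℕ) (hL : ∀ i ∈ L, i < D.rank) (hact : ActsAs D hD F n (reflWord D L))
    (hinv : ∀ r < D.nroots, reflWord D L (reflWord D L r) = r)
    (Jl : List ℕ) (hS : StuckW D (reflWord D L) {i | i ∈ Jl})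
    (LJ : List ℕ) (hP : p1B D Jl LJ = true) :
    n * (nWordGL D hD F LJ)⁻¹ ∈ D.diagonalSubgroup F := by
  obtain ⟨hLJ, hP1⟩ := p1B_spec D Jl LJ hP
  have hLJr : ∀ i ∈ LJ.reverse, i < D.rank := fun i hi => hLJ i (List.mem_reverse.mp hi)
  have hmN : n * (nWordGL D hD F LJ)⁻¹ ∈ D.monomialSubgroup F :=
    Subgroup.mul_mem _ hn (Subgroup.inv_mem _ (nWordGL_mem_monomial D hD F LJ hLJ))
  have hmact := ActsAs.mul D F hact (actsAs_nWordGL_inv D hD F LJ hLJ)
  apply mem_diagonal_of_simple_pos D hD F _ hmN _ hmact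
  intro i hi
  have hF := fundFacts_of_mem D hD i hi
  show D.IsPosRoot (reflWord D L (reflWord D LJ.reverse (D.simple i)))
  obtain ⟨r, hrdef⟩ : ∃ r, r = reflWord D LJ.reverse (D.simple i) := ⟨_, rfl⟩
  rw [← hrdef]
  have hr : r < D.nroots := by rw [hrdef]; exact reflWord_lt' D hD _ hLJr _ hF.hp
  have hgr : reflWord D LJ r = D.simple i := by
    rw [hrdef]; exact reflWord_reverse_cancel D hD LJ hLJ _ hF.hp
  have hpi := (parFacts_of_mem D hD).simplePos i hi
  rcases posOrNeg_of_mem D hD r hr with hp | hneg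
  · have h1 : D.InRootSub {i | i ∈ Jl} r := (hP1 r hp).mp (by rw [hgr]; exact hpi)
    exact (stuck_pos_of_inRootSub D hD L hL hinv _ hS r hp h1).1
  · have hp' := isPosRoot_neg D hD r hneg
    have h1 : ¬ D.InRootSub {i | i ∈ Jl} (D.neg r) := by
      intro hcon
      have h2 := (hP1 _ hp').mpr hcon
      rw [reflWord_neg D hD LJ hLJ r hr, hgr] at h2
      exact not_pos_and_neg D hD _ h2 (isNegRoot_neg D hD _ hpi)
    have h3 := stuck_neg_of_not_inRootSub D hD L hL hinv _ hS _ hp' h1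
    rw [reflWord_neg D hD L hL r hr] at h3
    have h4 := isPosRoot_neg D hD _ h3
    rwa [neg_neg_root D hD _ (reflWord_lt' D hD L hL r hr)] at h4

/-- two involutions of `N` in the same `H`-coset are conjugate under `H` (characteristic two) -/
theorem exists_diag_conj [Fintype F] [CharP F 2] (h m : GL D.Idx F) (hh : h ∈ D.diagonalSubgroup F)
    (hmm : m * m = 1) (hsq : (h * m) * (h * m) = 1) :
    ∃ k ∈ D.diagonalSubgroup F, h * m = k * m * k⁻¹ := by
  have minv : m⁻¹ = m := inv_eq_of_mul_eq_one_right hmm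
  obtain ⟨e, -, hq⟩ := FiniteField.card F 2
  obtain ⟨q2, hq2⟩ : ∃ q2, Fintype.card F = 2 * q2 := by
    refine ⟨2 ^ ((e : ℕ) - 1), ?_⟩
    rw [hq, ← pow_succ']
    congr 1
    have := e.pos
    omega
  have hq1 := diagonal_pow_card_sub_one D hD F h hh
  have hpos : 1 ≤ Fintype.card F := Fintype.card_pos
  have hkk : h ^ q2 * h ^ q2 = h := by
    rw [← pow_add, ← two_mul, ← hq2]
    have : Fintype.card F = (Fintype.card F - 1) + 1 := by omega
    rw [this, pow_succ, hq1, one_mul]
  have hconj : m * h * m⁻¹ = h⁻¹ := by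
    have e1 : m * h * m = h⁻¹ * ((h * m) * (h * m)) := by group
    rw [minv, e1, hsq, mul_one]
  have hconjk : m * h ^ q2 * m⁻¹ = (h ^ q2)⁻¹ := by
    rw [← conj_pow, hconj, inv_pow]
  refine ⟨h ^ q2, Subgroup.pow_mem _ hh _, ?_⟩
  rw [grp_aux3 (h ^ q2) m hmm hconjk, hkk]

/-- every involution is conjugate to `h n_J` for a subset `J` of the fundamental roots, fixed by
`w₀ w_J`, and some `h ∈ H` -/
theorem exists_conj_coset [Fintype F] [CharP F 2] (LJof : List ℕ → List ℕ)
    (h1 : ∀ Jl ∈ (List.range D.rank).sublists, p1B D Jl (LJof Jl) = true)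
    (t : GL D.Idx F) (ht : t ∈ D.group F) (hsq : t * t = 1) :
    ∃ Jl ∈ (List.range D.rank).sublists,
      (∀ i ∈ Jl, reflWord D (LJof Jl) (D.simple i) = D.simple i) ∧
      ∃ g ∈ D.group F, ∃ h ∈ D.diagonalSubgroup F, g * t * g⁻¹ = h * nWordGL D hD F (LJof Jl) ∧
        (h * nWordGL D hD F (LJof Jl)) * (h * nWordGL D hD F (LJof Jl)) = 1 := by
  obtain ⟨g, hg, n, heq, hn, hnn, L, hL, hact, hinv, hst⟩ := exists_conj_stuck D hD F t ht hsq
  obtain ⟨Jl, hJl⟩ : ∃ Jl, Jl = (List.range D.rank).filter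
      (fun i => decide (reflWord D L (D.simple i) = D.simple i)) := ⟨_, rfl⟩
  have hmem : ∀ i, i ∈ Jl ↔ i < D.rank ∧ reflWord D L (D.simple i) = D.simple i := by
    intro i
    rw [hJl, List.mem_filter, List.mem_range, decide_eq_true_iff]
  have hsub : Jl ∈ (List.range D.rank).sublists := by
    rw [List.mem_sublists, hJl]
    exact List.filter_sublist
  have hS : StuckW D (reflWord D L) {i | i ∈ Jl} := by
    refine ⟨fun i _ hiJ => ((hmem i).mp hiJ).2, fun i hi hiJ => ?_⟩
    rcases hst i hi with h2 | h2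
    · exact absurd ((hmem i).mpr ⟨hi, h2⟩) hiJ
    · exact h2
  have hP := h1 Jl hsub
  obtain ⟨hLJ, -⟩ := p1B_spec D Jl (LJof Jl) hP
  have hcos := stuck_mem_coset D hD F n hn L hL hact hinv Jl hS (LJof Jl) hP
  obtain ⟨h0, hh0⟩ : ∃ h0, h0 = n * (nWordGL D hD F (LJof Jl))⁻¹ := ⟨_, rfl⟩
  rw [← hh0] at hcos
  have hnJ : n = h0 * nWordGL D hD F (LJof Jl) := by rw [hh0]; group
  refine ⟨Jl, hsub, ?_, g, hg, h0, hcos, heq.trans hnJ, by rw [← hnJ]; exact hnn⟩
  intro i hi
  have hi' := (hmem i).mp hi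
  have hact2 : ActsAs D hD F n (reflWord D (LJof Jl)) := by
    rw [hnJ]
    have h5 := ActsAs.mul D F (actsAs_diag D hD F _ hcos) (actsAs_nWordGL D hD F _ hLJ)
    exact h5
  rw [← ActsAs.unique D hD F hact hact2 _ (fundFacts_of_mem D hD i hi'.1).hp]
  exact hi'.2

end

end Cfsg.Agent.Lib.Helper25.ChInv
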