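import Cfsg.Agent.Lib.Helper25.ChInvF
import Cfsg.Agent.Lib.Helper7.MvVec
import Cfsg.Agent.Lib.Helper25.BitWordB

/-! Glue between the decidable word checker (`wordEqChk`) and conjugacy statements
`g n_J g⁻¹ = x_{r₁}(1) x_{r₂}(1) ⋯` in characteristic two, `g` a product of root elements `x_r(1)` (helper25). -/

set_option autoImplicit false

namespace Cfsg.Agent.Lib.Helper25.ChInv

open Cfsg Cfsg.Lie Matrix
open Cfsg.Agent.Lib.Helper7 Cfsg.Agent.Lib.Helper7.MV

/-- the word `x_{r₁}(1) x_{r₂}(1) ⋯` for the checker -/
def constW (l : List ℕ) : List (ℕ × List (List ℕ × ℤ)) := l.map fun r => (r, [([], 1)])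

/-- the word of `n_{i₁} n_{i₂} ⋯` for the checker -/
def nJW (D : ChevalleyDatum) (L : List ℕ) : List (ℕ × List (List ℕ × ℤ)) :=
  L.flatMap fun i => [(D.simple i, [([], 1)]), (D.neg (D.simple i), [([], -1)]), (D.simple i, [([], 1)])]

/-- the word `x_{r₁}(1) x_{r₂}(1) ⋯` over the field -/
def ones (F : Type*) [Field F] (l : List ℕ) : List (ℕ × F) := l.map fun r => (r, (1 : F))

section
variable (D : ChevalleyDatum) (hD : D ∈ [chevG2, chevB2, chevD4, chevF4, chevE6, chevE7, chevE8])
variable (F : Type*) [Field F]

theorem evalW_constW (ρ : ℕ → F) (l : List ℕ) : evalW ρ (constW l) = ones F l := by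
  unfold evalW constW ones
  rw [List.map_map]
  apply List.map_congr_left
  intro r _
  simp [pEval, mEval]

theorem evalW_nJW (ρ : ℕ → F) (L : List ℕ) :
    evalW ρ (nJW D L) = L.flatMap fun i => D.nWord (D.simple i) (1 : F) := by
  induction L with
  | nil => rfl
  | cons i L ih =>
    have e1 : nJW D (i :: L) = [(D.simple i, [([], 1)]), (D.neg (D.simple i), [([], -1)]),
        (D.simple i, [([], 1)])] ++ nJW D L := by
      unfold nJW; rw [List.flatMap_cons]
    have e2 : evalW ρ (nJW D (i :: L)) = evalW ρ [(D.simple i, [([], 1)]),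
        (D.neg (D.simple i), [([], -1)]), (D.simple i, [([], 1)])] ++ evalW ρ (nJW D L) := by
      rw [e1]; unfold evalW; rw [List.map_append]
    rw [e2, ih, List.flatMap_cons]
    congr 1
    unfold evalW ChevalleyDatum.nWord
    simp [pEval, mEval]

include hD

theorem wordGL_nWord_flatMap (L : List ℕ) :
    wordGL D hD F (L.flatMap fun i => D.nWord (D.simple i) (1 : F)) = nWordGL D hD F L := by
  induction L with
  | nil => unfold wordGL nWordGL; simp
  | cons i L ih =>
    rw [List.flatMap_cons, wordGL_append, ih]
    unfold nWordGL nFund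
    rw [List.map_cons, List.prod_cons]

theorem wordGL_ones_reverse [CharP F 2] (l : List ℕ) :
    wordGL D hD F (ones F l.reverse) = (wordGL D hD F (ones F l))⁻¹ := by
  induction l with
  | nil => unfold ones wordGL; simp
  | cons r l ih =>
    have e1 : ones F (r :: l).reverse = ones F l.reverse ++ [(r, (1 : F))] := by
      unfold ones; rw [List.reverse_cons, List.map_append]; rfl
    have e2 : ones F (r :: l) = (r, (1 : F)) :: ones F l := rfl
    have e3 : wordGL D hD F [(r, (1 : F))] = xGL D hD F r 1 := by
      rw [wordGL_cons]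
      have : wordGL D hD F [] = 1 := by unfold wordGL; simp
      rw [this, mul_one]
    have e4 : wordGL D hD F ((r, (1 : F)) :: ones F l) = xGL D hD F r 1 * wordGL D hD F (ones F l) :=
      wordGL_cons D hD F _ _
    rw [e1, wordGL_append, ih, e2, e3, e4, _root_.mul_inv_rev, xGL_inv]
    congr 2
    exact (CharTwo.neg_eq (1 : F)).symm

/-- from a successful check to the conjugacy statement -/
theorem conj_of_chk [CharP F 2] (gW L rep : List ℕ)
    (h : wordEqChk D 2 (constW gW ++ nJW D L ++ constW gW.reverse) (constW rep) = true) :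
    wordGL D hD F (ones F gW) * nWordGL D hD F L * (wordGL D hD F (ones F gW))⁻¹ =
      wordGL D hD F (ones F rep) := by
  have h2 : ((2 : ℕ) : F) = 0 := CharP.cast_eq_zero F 2
  have key : wordGL D hD F (evalW (fun _ => (0 : F)) (constW gW ++ nJW D L ++ constW gW.reverse)) =
      wordGL D hD F (evalW (fun _ => (0 : F)) (constW rep)) :=
    Units.ext (by rw [coe_wordGL, coe_wordGL]; exact wordMat_eq_of_chk D _ 2 h2 _ _ h)
  have e : evalW (fun _ => (0 : F)) (constW gW ++ nJW D L ++ constW gW.reverse) =
      ones F gW ++ (L.flatMap fun i => D.nWord (D.simple i) (1 : F)) ++ ones F gW.reverse := by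
    unfold evalW
    rw [List.map_append, List.map_append]
    congr 1
    · congr 1
      · exact evalW_constW F _ gW
      · exact evalW_nJW D F _ L
    · exact evalW_constW F _ gW.reverse
  rw [e, evalW_constW, wordGL_append, wordGL_append, wordGL_nWord_flatMap, wordGL_ones_reverse] at key
  exact key


/-- the roots of the letters of `n_{i₁} n_{i₂} ⋯` -/
def nJR (L : List ℕ) : List ℕ := L.flatMap fun i => [D.simple i, D.neg (D.simple i), D.simple i]

omit hD in
theorem ones_nJR [CharP F 2] (L : List ℕ) :
    ones F (nJR D L) = L.flatMap fun i => D.nWord (D.simple i) (1 : F) := by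
  induction L with
  | nil => rfl
  | cons i L ih =>
    have e1 : nJR D (i :: L) = [D.simple i, D.neg (D.simple i), D.simple i] ++ nJR D L := by
      unfold nJR; rw [List.flatMap_cons]
    have e2 : ones F (nJR D (i :: L)) = ones F [D.simple i, D.neg (D.simple i), D.simple i] ++
        ones F (nJR D L) := by
      rw [e1]; unfold ones; rw [List.map_append]
    rw [e2, ih, List.flatMap_cons]
    congr 1
    unfold ones ChevalleyDatum.nWord
    have : (1 : F) = -1 := (CharTwo.neg_eq (1 : F)).symm
    simp
    exact this

/-- from a successful bit-mask check to the conjugacy statement -/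
theorem conj_of_bitChk [CharP F 2] (gW L rep : List ℕ)
    (h : BitWord.bitChk D (gW ++ nJR D L ++ gW.reverse) rep = true) :
    wordGL D hD F (ones F gW) * nWordGL D hD F L * (wordGL D hD F (ones F gW))⁻¹ =
      wordGL D hD F (ones F rep) := by
  have key : wordGL D hD F (ones F (gW ++ nJR D L ++ gW.reverse)) = wordGL D hD F (ones F rep) :=
    Units.ext (by rw [coe_wordGL, coe_wordGL]; exact BitWord.wordMat_eq_of_bitChk D F _ _ h)
  have e : ones F (gW ++ nJR D L ++ gW.reverse) = ones F gW ++ ones F (nJR D L) ++ ones F gW.reverse := by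
    unfold ones; rw [List.map_append, List.map_append]
  rw [e, wordGL_append, wordGL_append, ones_nJR, wordGL_nWord_flatMap, wordGL_ones_reverse] at key
  exact key

end

end Cfsg.Agent.Lib.Helper25.ChInv
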