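import Cfsg.Agent.Lib.Helper7.ChevBasic

/-! Base change of the root elements along a homomorphism of fields, and rank certificates (helper25). -/

set_option autoImplicit false

namespace Cfsg.Agent.Lib.Helper25.ChInv

open Cfsg Cfsg.Lie Matrix

theorem xMat_map' (D : ChevalleyDatum) {K F : Type*} [Field K] [Field F] (f : K →+* F) (r : Fin D.nroots)
    (t : K) : (D.xMat K r t).map f = D.xMat F r (f t) := by
  ext row col
  unfold ChevalleyDatum.xMat
  simp only [Matrix.map_apply, Matrix.of_apply]
  rcases col with i | s
  · rcases row with i' | u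
    · simp only; split_ifs <;> simp
    · simp only; split_ifs <;> simp
  · by_cases hsr : s = r
    · rcases row with i' | u
      · simp [hsr]
      · simp only [hsr, if_true]; split_ifs <;> simp
    · by_cases hneg : s.val = D.negIdx.getD r.val 0
      · rcases row with i' | u
        · simp [hsr, hneg]
        · simp only [hsr, if_false, hneg, if_true]; split_ifs <;> simp
      · rcases row with i' | u
        · simp only [hsr, if_false, hneg]; simp
        · simp only [hsr, if_false, hneg]
          rw [map_add, map_list_sum, List.map_map]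
          congr 1
          · split_ifs <;> simp
          · congr 1
            apply List.map_congr_left
            intro km _
            simp

theorem x_map' (D : ChevalleyDatum) {K F : Type*} [Field K] [Field F] (f : K →+* F) (r : ℕ) (t : K) :
    (D.x K r t).map f = D.x F r (f t) := by
  unfold ChevalleyDatum.x
  split_ifs with h
  · exact xMat_map' D f ⟨r, h⟩ t
  · ext i j; simp [Matrix.one_apply]

/-- upper bound for the rank from a factorisation through `k` coordinates -/
theorem rank_le_of_factor {m : Type*} [Fintype m] [DecidableEq m] {K F : Type*} [Field K] [Field F]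
    (f : K →+* F) (k : ℕ) (A : Matrix m m K) (P : Matrix m (Fin k) K) (Q : Matrix (Fin k) m K)
    (h : A = P * Q) : (A.map f).rank ≤ k := by
  rw [h, Matrix.map_mul]
  calc ((P.map f) * (Q.map f)).rank ≤ (P.map f).rank := Matrix.rank_mul_le_left _ _
    _ ≤ Fintype.card (Fin k) := Matrix.rank_le_card_width _
    _ = k := Fintype.card_fin k

/-- lower bound for the rank from a one-sided inverse on `k` coordinates -/
theorem le_rank_of_inverse {m : Type*} [Fintype m] [DecidableEq m] {K F : Type*} [Field K] [Field F]
    (f : K →+* F) (k : ℕ) (A : Matrix m m K) (B : Matrix (Fin k) m K) (C : Matrix m (Fin k) K)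
    (h : B * A * C = 1) : k ≤ (A.map f).rank := by
  have h1 : (B.map f) * (A.map f) * (C.map f) = 1 := by
    rw [← Matrix.map_mul, ← Matrix.map_mul, h]
    ext i j
    simp [Matrix.one_apply]
  calc k = Fintype.card (Fin k) := (Fintype.card_fin k).symm
    _ = (1 : Matrix (Fin k) (Fin k) F).rank := (Matrix.rank_one).symm
    _ = ((B.map f) * (A.map f) * (C.map f)).rank := by rw [h1]
    _ ≤ ((B.map f) * (A.map f)).rank := Matrix.rank_mul_le_left _ _
    _ ≤ (A.map f).rank := Matrix.rank_mul_le_right _ _

/-- conjugate matrices have the same rank -/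
theorem rank_conj_sub_one {m : Type*} [Fintype m] [DecidableEq m] {F : Type*} [Field F]
    (h y₁ y₂ : GL m F) (hc : h * y₁ * h⁻¹ = y₂) :
    ((y₂ : Matrix m m F) - 1).rank = ((y₁ : Matrix m m F) - 1).rank := by
  have e : (y₂ : Matrix m m F) - 1 = (h : Matrix m m F) * ((y₁ : Matrix m m F) - 1) * ((h⁻¹ : GL m F) : Matrix m m F) := by
    rw [← hc]
    simp only [Units.val_mul, Matrix.mul_sub, Matrix.sub_mul, Matrix.mul_one]
    congr 1
    rw [← Units.val_mul, mul_inv_cancel, Units.val_one]
  rw [e]
  have hdet : IsUnit (h : Matrix m m F).det := by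
    have := Matrix.isUnits_det_units h
    exact this
  have hdet' : IsUnit ((h⁻¹ : GL m F) : Matrix m m F).det := Matrix.isUnits_det_units h⁻¹
  rw [Matrix.rank_mul_eq_left_of_isUnit_det _ _ hdet', Matrix.rank_mul_eq_right_of_isUnit_det _ _ hdet]

end Cfsg.Agent.Lib.Helper25.ChInv
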