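import Cfsg.Agent.Lib.Helper25.ChInvF
import Cfsg.Agent.Lib.Helper7.ChevWeylChainFast

/-! A fast form of the table checks on the words of `w₀ w_J`: the permutation of the roots by a word is
computed from the packed table of the fundamental reflections (helper25). -/

set_option autoImplicit false

namespace Cfsg.Agent.Lib.Helper25.ChInv

open Cfsg Cfsg.Lie Matrix
open Cfsg.Agent.Lib.Helper7

/-- the permutation of the roots by a word, from the packed table of the fundamental reflections -/
def permWP (packed : List ℕ) (n : ℕ) (L : List ℕ) : List ℕ :=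
  L.foldr (fun i acc => withNat (packed.getD i 0) fun P => acc.map fun x => P / 256 ^ x % 256)
    (List.range n)

theorem permWP_cons (packed : List ℕ) (n i : ℕ) (L : List ℕ) :
    permWP packed n (i :: L) = (permWP packed n L).map fun x => packed.getD i 0 / 256 ^ x % 256 := by
  show withNat (packed.getD i 0) (fun P => (permWP packed n L).map fun x => P / 256 ^ x % 256) = _
  rw [withNat_eq]

theorem permWP_length (packed : List ℕ) (n : ℕ) : ∀ L : List ℕ, (permWP packed n L).length = n
  | [] => by show (List.range n).length = n; simp
  | i :: L => by rw [permWP_cons, List.length_map, permWP_length packed n L]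

theorem unpackL_getD (n P x : ℕ) (hx : x < n) : (unpackL n P).getD x 0 = P / 256 ^ x % 256 := by
  unfold unpackL
  rw [List.getD_eq_getElem _ _ (by simp [hx]), List.getElem_map, List.getElem_range]

section
variable (D : ChevalleyDatum) (hD : D ∈ [chevG2, chevB2, chevD4, chevF4, chevE6, chevE7, chevE8])
variable (packed : List ℕ)
variable (hpk : packed.map (unpackL D.nroots) =
  (List.range D.rank).map fun i => (List.range D.nroots).map (D.reflectRoot i))
include hD hpk

theorem packed_access (i : ℕ) (hi : i < D.rank) (x : ℕ) (hx : x < D.nroots) :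
    packed.getD i 0 / 256 ^ x % 256 = D.reflectRoot i x := by
  have hlen : packed.length = D.rank := by
    have := congrArg List.length hpk
    simpa using this
  have h1 : (packed.map (unpackL D.nroots)).getD i [] = unpackL D.nroots (packed.getD i 0) := by
    rw [List.getD_eq_getElem _ _ (by rw [List.length_map, hlen]; exact hi), List.getElem_map,
      List.getD_eq_getElem _ _ (by rw [hlen]; exact hi)]
  have h2 : ((List.range D.rank).map fun i => (List.range D.nroots).map (D.reflectRoot i)).getD i [] =
      (List.range D.nroots).map (D.reflectRoot i) := by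
    rw [List.getD_eq_getElem _ _ (by simp [hi]), List.getElem_map, List.getElem_range]
  rw [hpk, h2] at h1
  rw [← unpackL_getD D.nroots _ x hx, ← h1, List.getD_eq_getElem _ _ (by simp [hx]), List.getElem_map,
    List.getElem_range]

theorem permWP_getD : ∀ (L : List ℕ), (∀ i ∈ L, i < D.rank) → ∀ r < D.nroots,
    (permWP packed D.nroots L).getD r 0 = reflWord D L r
  | [], _, r, hr => by
    show (List.range D.nroots).getD r 0 = r
    rw [List.getD_eq_getElem _ _ (by simp [hr]), List.getElem_range]
  | i :: L, hL, r, hr => by
    have hL' : ∀ j ∈ L, j < D.rank := fun j hj => hL j (List.mem_cons_of_mem _ hj)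
    have ih := permWP_getD L hL' r hr
    rw [permWP_cons, List.getD_eq_getElem _ _ (by rw [List.length_map, permWP_length]; exact hr),
      List.getElem_map, ← List.getD_eq_getElem _ 0 (by rw [permWP_length]; exact hr), ih]
    exact packed_access D hD packed hpk i (hL i List.mem_cons_self) _ (reflWord_lt' D hD L hL' r hr)

end

/-- the fast table check for a subset `J`: the word makes negative exactly the positive roots outside
`Φ_J`, and, unless `J` is declared valid, it moves a fundamental root of `J` -/
def chkJ (D : ChevalleyDatum) (packed : List ℕ) (Jl LJ : List ℕ) (valid : Bool) : Bool :=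
  (LJ.all fun i => decide (i < D.rank)) &&
  ((permWP packed D.nroots LJ).zipIdx.all fun yr =>
    !decide (D.IsPosRoot yr.2) ||
      (decide (D.IsPosRoot yr.1) ==
        (List.range D.rank).all fun i => Jl.contains i || decide (corC D yr.2 i = 0))) &&
  (valid || (permWP packed D.nroots LJ).zipIdx.any fun yr =>
    (Jl.any fun i => decide (i < D.rank) && (D.simple i == yr.2)) && (yr.1 != yr.2))

theorem zipIdx_all_getD {l : List ℕ} {f : ℕ × ℕ → Bool} (h : l.zipIdx.all f = true) (r : ℕ)
    (hr : r < l.length) : f (l.getD r 0, r) = true := by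
  rw [List.all_eq_true] at h
  apply h
  rw [List.mem_zipIdx_iff_getElem?]
  rw [List.getD_eq_getElem _ _ hr]
  simp [hr]

theorem zipIdx_any_getD {l : List ℕ} {f : ℕ × ℕ → Bool} (h : l.zipIdx.any f = true) :
    ∃ r < l.length, f (l.getD r 0, r) = true := by
  rw [List.any_eq_true] at h
  obtain ⟨⟨y, r⟩, hmem, hf⟩ := h
  rw [List.mem_zipIdx_iff_getElem?] at hmem
  simp only at hmem
  obtain ⟨hr, hy⟩ := List.getElem?_eq_some_iff.mp hmem
  refine ⟨r, hr, ?_⟩
  rw [List.getD_eq_getElem _ _ hr, hy]
  exact hf

section
variable (D : ChevalleyDatum) (hD : D ∈ [chevG2, chevB2, chevD4, chevF4, chevE6, chevE7, chevE8])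
variable (packed : List ℕ)
variable (hpk : packed.map (unpackL D.nroots) =
  (List.range D.rank).map fun i => (List.range D.nroots).map (D.reflectRoot i))
include hD hpk

theorem chkJ_spec (Jl LJ : List ℕ) (valid : Bool) (h : chkJ D packed Jl LJ valid = true) :
    p1B D Jl LJ = true ∧
      (valid = false → ¬ ∀ i ∈ Jl, reflWord D LJ (D.simple i) = D.simple i) := by
  unfold chkJ at h
  rw [Bool.and_eq_true, Bool.and_eq_true] at h
  obtain ⟨⟨hLb, hall⟩, hval⟩ := h
  have hL : ∀ i ∈ LJ, i < D.rank := by
    rw [List.all_eq_true] at hLb
    exact fun i hi => of_decide_eq_true (hLb i hi)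
  have hget := permWP_getD D hD packed hpk LJ hL
  have hlen := permWP_length packed D.nroots LJ
  constructor
  · unfold p1B
    rw [Bool.and_eq_true]
    refine ⟨hLb, ?_⟩
    rw [List.all_eq_true]
    intro r hr
    have hr' : r < D.nroots := List.mem_range.mp hr
    have := zipIdx_all_getD hall r (by rw [hlen]; exact hr')
    rw [hget r hr'] at this
    exact this
  · intro hv hfix
    rw [hv, Bool.false_or] at hval
    obtain ⟨r, hr, hf⟩ := zipIdx_any_getD hval
    rw [hlen] at hr
    rw [hget r hr, Bool.and_eq_true, List.any_eq_true] at hf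
    obtain ⟨⟨i, hiJ, hi⟩, hne⟩ := hf
    rw [Bool.and_eq_true, beq_iff_eq] at hi
    simp only at hi
    rw [← hi.2, hfix i hiJ] at hne
    simp at hne

end

end Cfsg.Agent.Lib.Helper25.ChInv
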