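import Cfsg.Agent.Lib.Helper25.ChInvK
import Cfsg.Agent.Lib.Helper25.ChInvI
import Cfsg.Agent.Lib.Helper25.BitWordG

/-! Involutions of a Chevalley group in characteristic two: the generic reduction of "every involution is
conjugate to a representative" to table checks and word checks (helper25). -/

set_option autoImplicit false

namespace Cfsg.Agent.Lib.Helper25.ChInv

open Cfsg Cfsg.Lie Matrix
open Cfsg.Agent.Lib.Helper7

/-- two involutions whose product has odd order are conjugate -/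
theorem dihedral_conj {G : Type*} [Group G] (Y Z : G) (hY : Y * Y = 1) (hZ : Z * Z = 1) (k : ℕ)
    (hd : (Y * Z) ^ (2 * k + 1) = 1) : (Y * Z) ^ k * Y * ((Y * Z) ^ k)⁻¹ = Z := by
  have hYi : Y⁻¹ = Y := inv_eq_of_mul_eq_one_right hY
  have hZi : Z⁻¹ = Z := inv_eq_of_mul_eq_one_right hZ
  have hconj : Y * (Y * Z) * Y⁻¹ = (Y * Z)⁻¹ := by
    rw [_root_.mul_inv_rev, hYi, hZi, ← mul_assoc, hY, one_mul]
  have hconjk : Y * (Y * Z) ^ k * Y⁻¹ = ((Y * Z) ^ k)⁻¹ := by
    rw [← conj_pow, hconj, inv_pow]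
  have h1 : ((Y * Z) ^ k)⁻¹ = Y * (Y * Z) ^ k * Y := by rw [← hconjk, hYi]
  have h2 : (Y * Z) ^ k * (Y * Z) ^ k = (Y * Z)⁻¹ := by
    rw [← pow_add, eq_inv_iff_mul_eq_one, ← pow_succ]
    have : k + k + 1 = 2 * k + 1 := by ring
    rw [this, hd]
  calc (Y * Z) ^ k * Y * ((Y * Z) ^ k)⁻¹ = (Y * Z) ^ k * Y * (Y * (Y * Z) ^ k * Y) := by rw [h1]
    _ = (Y * Z) ^ k * (Y * Y) * (Y * Z) ^ k * Y := by group
    _ = (Y * Z) ^ k * (Y * Z) ^ k * Y := by rw [hY, mul_one]
    _ = (Y * Z)⁻¹ * Y := by rw [h2]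
    _ = Z := by rw [_root_.mul_inv_rev, hYi, hZi, mul_assoc, hY, mul_one]

section
variable (D : ChevalleyDatum) (hD : D ∈ [chevG2, chevB2, chevD4, chevF4, chevE6, chevE7, chevE8])
variable (F : Type*) [Field F] [CharP F 2]

theorem wordGL_ones_nil' : wordGL D hD F (ones F []) = 1 := by
  unfold ones wordGL; simp

/-- a word whose double is checked to be trivial is an involution or trivial -/
theorem sq_of_bitChkR (R : List ℕ) (h : BitWord.bitChkR D (R ++ R) [] = true) :
    wordGL D hD F (ones F R) * wordGL D hD F (ones F R) = 1 := by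
  have key := wordGL_eq_of_bitChkR D hD F _ _ h
  have e : ones F (R ++ R) = ones F R ++ ones F R := by unfold ones; rw [List.map_append]
  rw [e, wordGL_append, wordGL_ones_nil'] at key
  exact key

variable [Fintype F]

/-- from the word check for `J` to the conjugacy of `h n_J` with the representative -/
theorem conj_of_chk_gen (LJ gW rep : List ℕ)
    (hchk : BitWord.bitChkR D (gW ++ nJR D LJ ++ gW.reverse) rep = true)
    (hR : BitWord.bitChkR D (rep ++ rep) [] = true)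
    (t g h : GL D.Idx F) (hg : g ∈ D.group F) (hh : h ∈ D.diagonalSubgroup F)
    (heq : g * t * g⁻¹ = h * nWordGL D hD F LJ)
    (hsq : (h * nWordGL D hD F LJ) * (h * nWordGL D hD F LJ) = 1) :
    ∃ h' ∈ D.group F, h' * t * h'⁻¹ = wordGL D hD F (ones F rep) := by
  have hc := conj_of_bitChkR D hD F gW LJ rep hchk
  obtain ⟨G0, hG0⟩ : ∃ G0, G0 = wordGL D hD F (ones F gW) := ⟨_, rfl⟩
  obtain ⟨nJ, hnJ⟩ : ∃ nJ, nJ = nWordGL D hD F LJ := ⟨_, rfl⟩
  rw [← hG0, ← hnJ] at hc
  rw [← hnJ] at heq hsq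
  have hG0G : G0 ∈ D.group F := by rw [hG0]; exact wordGL_mem_group D hD F _
  have hnn : nJ * nJ = 1 := by
    have e : nJ = G0⁻¹ * wordGL D hD F (ones F rep) * G0 := by rw [← hc]; group
    have hr := sq_of_bitChkR D hD F rep hR
    calc nJ * nJ = G0⁻¹ * (wordGL D hD F (ones F rep) * wordGL D hD F (ones F rep)) * G0 := by
          rw [e]; group
      _ = 1 := by rw [hr]; group
  obtain ⟨k, hk, hkeq⟩ := exists_diag_conj D hD F h nJ hh hnn hsq
  have hkG : k ∈ D.group F := monomial_le_group D hD F (diagonal_le_monomial D hD F hk)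
  refine ⟨G0 * k⁻¹ * g, Subgroup.mul_mem _ (Subgroup.mul_mem _ hG0G (Subgroup.inv_mem _ hkG)) hg, ?_⟩
  rw [← hc]
  have e : G0 * k⁻¹ * g * t * (G0 * k⁻¹ * g)⁻¹ = G0 * k⁻¹ * (g * t * g⁻¹) * k * G0⁻¹ := by group
  rw [e, heq, hkeq]
  group

/-- every involution is conjugate to one of the representatives, given the table checks and, for each
admissible `J`, the conjugacy of the involutions of the coset `H n_J` with the representative -/
theorem invol_conj_of_tables (packed : List ℕ)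
    (hpk : packed.map (unpackL D.nroots) =
      (List.range D.rank).map fun i => (List.range D.nroots).map (D.reflectRoot i))
    (LJof repOf : List ℕ → List ℕ) (validL : List (List ℕ))
    (hall : ∀ Jl ∈ (List.range D.rank).sublists,
      chkJ D packed Jl (LJof Jl) (validL.contains Jl || (LJof Jl).isEmpty) = true)
    (hconj : ∀ J ∈ validL, ∀ t g h : GL D.Idx F, g ∈ D.group F → h ∈ D.diagonalSubgroup F →
      g * t * g⁻¹ = h * nWordGL D hD F (LJof J) →
      (h * nWordGL D hD F (LJof J)) * (h * nWordGL D hD F (LJof J)) = 1 →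
      ∃ h' ∈ D.group F, h' * t * h'⁻¹ = wordGL D hD F (ones F (repOf J)))
    (t : GL D.Idx F) (ht : t ∈ D.group F) (hord : orderOf t = 2) :
    ∃ J ∈ validL, ∃ h ∈ D.group F, h * t * h⁻¹ = wordGL D hD F (ones F (repOf J)) := by
  have hsq : t * t = 1 := by
    have := pow_orderOf_eq_one t
    rwa [hord, sq] at this
  have h1 : ∀ Jl ∈ (List.range D.rank).sublists, p1B D Jl (LJof Jl) = true :=
    fun Jl hJl => (chkJ_spec D hD packed hpk Jl (LJof Jl) _ (hall Jl hJl)).1
  obtain ⟨Jl, hsub, hfix, g, hg, h, hh, heq, hsq'⟩ := exists_conj_coset D hD F LJof h1 t ht hsq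
  have h2 := (chkJ_spec D hD packed hpk Jl (LJof Jl) _ (hall Jl hsub)).2
  have hv : (validL.contains Jl || (LJof Jl).isEmpty) = true := by
    by_contra hcon
    simp only [Bool.not_eq_true] at hcon
    exact h2 hcon hfix
  rw [Bool.or_eq_true] at hv
  rcases hv with hv | hv
  · have hmem : Jl ∈ validL := by simpa using hv
    obtain ⟨h', hh', hc⟩ := hconj Jl hmem t g h hg hh heq hsq'
    exact ⟨Jl, hmem, h', hh', hc⟩
  · -- `n_J = 1`, so `t = 1`
    exfalso
    have hnil : LJof Jl = [] := by simpa using hv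
    have e1 : nWordGL D hD F (LJof Jl) = 1 := by
      rw [hnil]; unfold nWordGL; rfl
    rw [e1] at heq hsq'
    obtain ⟨k, -, hk⟩ := exists_diag_conj D hD F h 1 hh (one_mul 1) hsq'
    have e2 : h * 1 = 1 := by rw [hk]; group
    rw [e2] at heq
    have ht1 : t = 1 := by
      have : t = g⁻¹ * (g * t * g⁻¹) * g := by group
      rw [this, heq]; group
    rw [ht1, orderOf_one] at hord
    omega

omit [Fintype F] in
/-- the power check at the level of the group -/
theorem wordGL_pow_of_powChk (w : List ℕ) (bits : List Bool) (h : BitWord.powChk D w bits = true) :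
    wordGL D hD F (ones F w) ^ BitWord.expOf bits 0 = 1 := by
  apply Units.ext
  rw [Units.val_pow_eq_pow_val, coe_wordGL, Units.val_one]
  exact BitWord.wordMat_pow_of_powChk D F w bits h

/-- from the certificate for `J` (an orthogonal set `S` with `n_J = V x_S V⁻¹`, and a conjugate of the
representative whose product with `x_S` has odd order) to the conjugacy of `h n_J` with the representative -/
theorem conj_of_dihedral_chk (LJ Sw Vr hW zW : List ℕ) (bits : List Bool) (k : ℕ)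
    (hA : BitWord.bitChkR D (Vr ++ nJR D LJ ++ Vr.reverse) Sw = true)
    (hY : BitWord.bitChkR D (Sw ++ Sw) [] = true)
    (hZ : BitWord.bitChkR D (zW ++ zW) [] = true)
    (hk : BitWord.expOf bits 0 = 2 * k + 1)
    (hP : BitWord.powChk D (Sw ++ (hW ++ zW ++ hW.reverse)) bits = true)
    (t g h : GL D.Idx F) (hg : g ∈ D.group F) (hh : h ∈ D.diagonalSubgroup F)
    (heq : g * t * g⁻¹ = h * nWordGL D hD F LJ)
    (hsq : (h * nWordGL D hD F LJ) * (h * nWordGL D hD F LJ) = 1) :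
    ∃ h' ∈ D.group F, h' * t * h'⁻¹ = wordGL D hD F (ones F zW) := by
  have hc := conj_of_bitChkR D hD F Vr LJ Sw hA
  obtain ⟨G0, hG0⟩ : ∃ G0, G0 = wordGL D hD F (ones F Vr) := ⟨_, rfl⟩
  obtain ⟨nJ, hnJ⟩ : ∃ nJ, nJ = nWordGL D hD F LJ := ⟨_, rfl⟩
  obtain ⟨Y, hYd⟩ : ∃ Y, Y = wordGL D hD F (ones F Sw) := ⟨_, rfl⟩
  obtain ⟨Z, hZd⟩ : ∃ Z, Z = wordGL D hD F (ones F zW) := ⟨_, rfl⟩
  obtain ⟨H0, hH0⟩ : ∃ H0, H0 = wordGL D hD F (ones F hW) := ⟨_, rfl⟩
  rw [← hG0, ← hnJ, ← hYd] at hc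
  rw [← hnJ] at heq hsq
  rw [← hZd]
  have hG0G : G0 ∈ D.group F := by rw [hG0]; exact wordGL_mem_group D hD F _
  have hH0G : H0 ∈ D.group F := by rw [hH0]; exact wordGL_mem_group D hD F _
  have hYG : Y ∈ D.group F := by rw [hYd]; exact wordGL_mem_group D hD F _
  have hZG : Z ∈ D.group F := by rw [hZd]; exact wordGL_mem_group D hD F _
  have hYY : Y * Y = 1 := by rw [hYd]; exact sq_of_bitChkR D hD F Sw hY
  have hZZ : Z * Z = 1 := by rw [hZd]; exact sq_of_bitChkR D hD F zW hZ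
  have hnn : nJ * nJ = 1 := by
    have e : nJ = G0⁻¹ * Y * G0 := by rw [← hc]; group
    calc nJ * nJ = G0⁻¹ * (Y * Y) * G0 := by rw [e]; group
      _ = 1 := by rw [hYY]; group
  obtain ⟨kk, hkk, hkeq⟩ := exists_diag_conj D hD F h nJ hh hnn hsq
  have hkG : kk ∈ D.group F := monomial_le_group D hD F (diagonal_le_monomial D hD F hkk)
  -- the conjugate of the representative
  obtain ⟨Z', hZ'⟩ : ∃ Z', Z' = H0 * Z * H0⁻¹ := ⟨_, rfl⟩
  have hZ'Z' : Z' * Z' = 1 := by
    calc Z' * Z' = H0 * (Z * Z) * H0⁻¹ := by rw [hZ']; group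
      _ = 1 := by rw [hZZ]; group
  have hword : wordGL D hD F (ones F (Sw ++ (hW ++ zW ++ hW.reverse))) = Y * Z' := by
    have e : ones F (Sw ++ (hW ++ zW ++ hW.reverse)) =
        ones F Sw ++ (ones F hW ++ ones F zW ++ ones F hW.reverse) := by
      unfold ones; rw [List.map_append, List.map_append, List.map_append]
    rw [e, wordGL_append, wordGL_append, wordGL_append, wordGL_ones_reverse, hZ', hYd, hZd, hH0]
  have hpow := wordGL_pow_of_powChk D hD F _ bits hP
  rw [hword, hk] at hpow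
  have hdih := dihedral_conj Y Z' hYY hZ'Z' k hpow
  obtain ⟨dk, hdk⟩ : ∃ dk, dk = (Y * Z') ^ k := ⟨_, rfl⟩
  rw [← hdk] at hdih
  have hdkG : dk ∈ D.group F := by
    rw [hdk]
    apply Subgroup.pow_mem
    apply Subgroup.mul_mem _ hYG
    rw [hZ']
    exact Subgroup.mul_mem _ (Subgroup.mul_mem _ hH0G hZG) (Subgroup.inv_mem _ hH0G)
  refine ⟨H0⁻¹ * dk * G0 * kk⁻¹ * g, ?_, ?_⟩
  · exact Subgroup.mul_mem _ (Subgroup.mul_mem _ (Subgroup.mul_mem _ (Subgroup.mul_mem _
      (Subgroup.inv_mem _ hH0G) hdkG) hG0G) (Subgroup.inv_mem _ hkG)) hg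
  · have e : H0⁻¹ * dk * G0 * kk⁻¹ * g * t * (H0⁻¹ * dk * G0 * kk⁻¹ * g)⁻¹ =
        H0⁻¹ * (dk * (G0 * (kk⁻¹ * (g * t * g⁻¹) * kk) * G0⁻¹) * dk⁻¹) * H0 := by group
    rw [e, heq, hkeq]
    have e2 : kk⁻¹ * (kk * nJ * kk⁻¹) * kk = nJ := by group
    rw [e2, hc, hdih, hZ']
    group

end

/-- the certificate for a subset `J`: an orthogonal set `S` (word `Sw`) with `n_J = V x_S V⁻¹`, and a
conjugate of the representative `zW` by the word `hW` whose product with `x_S` has odd order `2k+1` -/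
structure DihCert (D : ChevalleyDatum) (LJ zW Sw Vr hW : List ℕ) (bits : List Bool) (k : ℕ) : Prop where
  hA : BitWord.bitChkQ D (Vr ++ nJR D LJ ++ Vr.reverse) Sw = true
  hY : BitWord.bitChkQ D (Sw ++ Sw) [] = true
  hk : BitWord.expOf bits 0 = 2 * k + 1
  hP : BitWord.powChkQ D (Sw ++ (hW ++ zW ++ hW.reverse)) bits = true

/-- the statement that the involutions of the coset `H n_J` are conjugate to the representative -/
def ConjStmt (D : ChevalleyDatum) (hD : D ∈ [chevG2, chevB2, chevD4, chevF4, chevE6, chevE7, chevE8])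
    (F : Type*) [Field F] (LJ zW : List ℕ) : Prop :=
  ∀ t g h : GL D.Idx F, g ∈ D.group F → h ∈ D.diagonalSubgroup F →
    g * t * g⁻¹ = h * nWordGL D hD F LJ →
    (h * nWordGL D hD F LJ) * (h * nWordGL D hD F LJ) = 1 →
    ∃ h' ∈ D.group F, h' * t * h'⁻¹ = wordGL D hD F (ones F zW)

theorem conjStmt_of_cert (D : ChevalleyDatum)
    (hD : D ∈ [chevG2, chevB2, chevD4, chevF4, chevE6, chevE7, chevE8])
    (F : Type*) [Field F] [CharP F 2] [Fintype F] (LJ zW Sw Vr hW : List ℕ) (bits : List Bool) (k : ℕ)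
    (hZ : BitWord.bitChkQ D (zW ++ zW) [] = true)
    (c : DihCert D LJ zW Sw Vr hW bits k) : ConjStmt D hD F LJ zW :=
  fun t g h hg hh heq hsq =>
    conj_of_dihedral_chk D hD F LJ Sw Vr hW zW bits k (BitWord.bitChkR_of_Q D _ _ c.hA)
      (BitWord.bitChkR_of_Q D _ _ c.hY) (BitWord.bitChkR_of_Q D _ _ hZ) c.hk
      (BitWord.powChk_of_Q D _ _ c.hP) t g h hg hh heq hsq

end Cfsg.Agent.Lib.Helper25.ChInv
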