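import Cfsg.Agent.Lib.Helper25.ChInvL
import Cfsg.Agent.Lib.Helper25.BitRank

/-! Involutions of a Chevalley group in characteristic two: the rank of `y - 1` as a class invariant of
the representatives, in terms of bit-mask certificates (helper25). -/

set_option autoImplicit false

namespace Cfsg.Agent.Lib.Helper25.ChInv

open Cfsg Cfsg.Lie Matrix
open Cfsg.Agent.Lib.Helper7

section
variable (D : ChevalleyDatum) (hD : D ∈ [chevG2, chevB2, chevD4, chevF4, chevE6, chevE7, chevE8])
variable (F : Type*) [Field F] [CharP F 2]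

/-- the rank of `y - 1` for the word `y`, from an upper and a lower certificate -/
theorem rank_rep_eq (w P Q B C : List ℕ) (k : ℕ) (hP : P.length = k) (hB : B.length = BitWord.dim D)
    (h1 : decide (BitWord.mulCols P Q = BitWord.subOneColsQ D w) = true)
    (h2 : decide (BitWord.mulCols (BitWord.mulCols B (BitWord.subOneColsQ D w)) C = BitWord.idColsN k) = true) :
    (((wordGL D hD F (ones F w) : GL D.Idx F) : Matrix D.Idx D.Idx F) - 1).rank = k := by
  rw [BitWord.subOneColsQ_eq] at h1 h2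
  rw [coe_wordGL]
  exact le_antisymm (BitWord.rank_word_le D F w P Q k hP h1) (BitWord.le_rank_word D F w B C k hB h2)

omit [CharP F 2] in
/-- elements with different ranks of `y - 1` are not conjugate -/
theorem rank_eq_of_conj (y₁ y₂ h : GL D.Idx F) (k₁ k₂ : ℕ)
    (h1 : ((y₁ : Matrix D.Idx D.Idx F) - 1).rank = k₁) (h2 : ((y₂ : Matrix D.Idx D.Idx F) - 1).rank = k₂)
    (hc : h * y₁ * h⁻¹ = y₂) : k₁ = k₂ := by
  rw [← h1, ← h2]
  exact (rank_conj_sub_one h y₁ y₂ hc).symm

omit [CharP F 2] in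
theorem ne_one_of_rank (y : GL D.Idx F) (k : ℕ) (h1 : ((y : Matrix D.Idx D.Idx F) - 1).rank = k)
    (hk : 0 < k) : y ≠ 1 := by
  intro h
  rw [h, Units.val_one, sub_self, Matrix.rank_zero] at h1
  omega

omit [CharP F 2] in
theorem orderOf_eq_two_of_rank (y : GL D.Idx F) (k : ℕ) (h1 : ((y : Matrix D.Idx D.Idx F) - 1).rank = k)
    (hk : 0 < k) (hsq : y * y = 1) : orderOf y = 2 := by
  haveI : Fact (Nat.Prime 2) := ⟨Nat.prime_two⟩
  apply orderOf_eq_prime
  · rw [sq]; exact hsq
  · exact ne_one_of_rank D F y k h1 hk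

end

end Cfsg.Agent.Lib.Helper25.ChInv
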