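import Cfsg.Agent.Lib.Helper25.ChInvL

/-! Involutions of a Chevalley group in characteristic two: transport of the conjugacy statement for the
coset `H n_J` along a conjugation in the Weyl group (helper25). -/

set_option autoImplicit false

namespace Cfsg.Agent.Lib.Helper25.ChInv

open Cfsg Cfsg.Lie Matrix
open Cfsg.Agent.Lib.Helper7

section
variable (D : ChevalleyDatum) (hD : D ∈ [chevG2, chevB2, chevD4, chevF4, chevE6, chevE7, chevE8])
variable (F : Type*) [Field F]

/-- if `u (w₀ w_J) u⁻¹ = w₀ w_{J'}` in the Weyl group then the conjugacy statement for `J'` gives that for `J` -/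
theorem conjStmt_of_weyl (LJ LJ' U zW : List ℕ)
    (hLJ : ∀ i ∈ LJ, i < D.rank) (hLJ' : ∀ i ∈ LJ', i < D.rank) (hU : ∀ i ∈ U, i < D.rank)
    (hperm : ∀ r < D.nroots, reflWord D (U ++ LJ ++ U.reverse) r = reflWord D LJ' r)
    (hc : ConjStmt D hD F LJ' zW) : ConjStmt D hD F LJ zW := by
  intro t g h hg hh heq hsq
  obtain ⟨nU, hnU⟩ : ∃ nU, nU = nWordGL D hD F U := ⟨_, rfl⟩
  obtain ⟨nJ, hnJ⟩ : ∃ nJ, nJ = nWordGL D hD F LJ := ⟨_, rfl⟩
  obtain ⟨nJ', hnJ'⟩ : ∃ nJ', nJ' = nWordGL D hD F LJ' := ⟨_, rfl⟩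
  rw [← hnJ] at heq hsq
  have hnUN : nU ∈ D.monomialSubgroup F := by rw [hnU]; exact nWordGL_mem_monomial D hD F U hU
  have hnJN : nJ ∈ D.monomialSubgroup F := by rw [hnJ]; exact nWordGL_mem_monomial D hD F LJ hLJ
  have hnJ'N : nJ' ∈ D.monomialSubgroup F := by rw [hnJ']; exact nWordGL_mem_monomial D hD F LJ' hLJ'
  have hhN : h ∈ D.monomialSubgroup F := diagonal_le_monomial D hD F hh
  have aU : ActsAs D hD F nU (reflWord D U) := by rw [hnU]; exact actsAs_nWordGL D hD F U hU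
  have aUi : ActsAs D hD F nU⁻¹ (reflWord D U.reverse) := by
    rw [hnU]; exact actsAs_nWordGL_inv D hD F U hU
  have aJ : ActsAs D hD F nJ (reflWord D LJ) := by rw [hnJ]; exact actsAs_nWordGL D hD F LJ hLJ
  have aJ'i : ActsAs D hD F nJ'⁻¹ (reflWord D LJ'.reverse) := by
    rw [hnJ']; exact actsAs_nWordGL_inv D hD F LJ' hLJ'
  have ah : ActsAs D hD F h id := actsAs_diag D hD F h hh
  obtain ⟨m, hm⟩ : ∃ m, m = nU * (h * nJ) * nU⁻¹ := ⟨_, rfl⟩
  have hmN : m ∈ D.monomialSubgroup F := by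
    rw [hm]
    exact Subgroup.mul_mem _ (Subgroup.mul_mem _ hnUN (Subgroup.mul_mem _ hhN hnJN))
      (Subgroup.inv_mem _ hnUN)
  have am := ActsAs.mul D F (ActsAs.mul D F (ActsAs.mul D F aU (ActsAs.mul D F ah aJ)) aUi) aJ'i
  rw [← hm] at am
  have hdiag : m * nJ'⁻¹ ∈ D.diagonalSubgroup F := by
    apply mem_diagonal_of_simple_pos D hD F _ (Subgroup.mul_mem _ hmN (Subgroup.inv_mem _ hnJ'N)) _ am
    intro i hi
    have hF := fundFacts_of_mem D hD i hi
    have hLJ'r : ∀ j ∈ LJ'.reverse, j < D.rank := fun j hj => hLJ' j (List.mem_reverse.mp hj)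
    have hlt := reflWord_lt' D hD LJ'.reverse hLJ'r _ hF.hp
    show D.IsPosRoot (reflWord D U (reflWord D LJ (reflWord D U.reverse
      (reflWord D LJ'.reverse (D.simple i)))))
    have e : reflWord D U (reflWord D LJ (reflWord D U.reverse (reflWord D LJ'.reverse (D.simple i)))) =
        reflWord D (U ++ LJ ++ U.reverse) (reflWord D LJ'.reverse (D.simple i)) := by
      rw [reflWord_append, reflWord_append]
      rfl
    rw [e, hperm _ hlt, reflWord_reverse_cancel D hD LJ' hLJ' _ hF.hp]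
    exact (parFacts_of_mem D hD).simplePos i hi
  obtain ⟨h', hh'⟩ : ∃ h', h' = m * nJ'⁻¹ := ⟨_, rfl⟩
  rw [← hh'] at hdiag
  have hmeq : m = h' * nJ' := by rw [hh']; group
  have hmm : m * m = 1 := by
    calc m * m = nU * ((h * nJ) * (h * nJ)) * nU⁻¹ := by rw [hm]; group
      _ = 1 := by rw [hsq]; group
  have hnUG : nU ∈ D.group F := monomial_le_group D hD F hnUN
  have key := hc t (nU * g) h' (Subgroup.mul_mem _ hnUG hg) hdiag
    (by
      rw [← hnJ', ← hmeq, hm, ← heq]
      group)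
    (by rw [← hnJ', ← hmeq]; exact hmm)
  exact key

end

/-- the fast check that `u (w₀ w_J) u⁻¹ = w₀ w_{J'}` -/
def chkConjW (D : ChevalleyDatum) (packed : List ℕ) (LJ LJ' U : List ℕ) : Bool :=
  (LJ.all fun i => decide (i < D.rank)) && (LJ'.all fun i => decide (i < D.rank)) &&
  (U.all fun i => decide (i < D.rank)) &&
  decide (permWP packed D.nroots (U ++ LJ ++ U.reverse) = permWP packed D.nroots LJ')

theorem conjStmt_of_chkConjW (D : ChevalleyDatum)
    (hD : D ∈ [chevG2, chevB2, chevD4, chevF4, chevE6, chevE7, chevE8]) (F : Type*) [Field F]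
    (packed : List ℕ)
    (hpk : packed.map (unpackL D.nroots) =
      (List.range D.rank).map fun i => (List.range D.nroots).map (D.reflectRoot i))
    (LJ LJ' U zW : List ℕ) (h : chkConjW D packed LJ LJ' U = true)
    (hc : ConjStmt D hD F LJ' zW) : ConjStmt D hD F LJ zW := by
  unfold chkConjW at h
  rw [Bool.and_eq_true, Bool.and_eq_true, Bool.and_eq_true] at h
  obtain ⟨⟨⟨h1, h2⟩, h3⟩, h4⟩ := h
  have hLJ : ∀ i ∈ LJ, i < D.rank := by
    rw [List.all_eq_true] at h1
    exact fun i hi => of_decide_eq_true (h1 i hi)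
  have hLJ' : ∀ i ∈ LJ', i < D.rank := by
    rw [List.all_eq_true] at h2
    exact fun i hi => of_decide_eq_true (h2 i hi)
  have hU : ∀ i ∈ U, i < D.rank := by
    rw [List.all_eq_true] at h3
    exact fun i hi => of_decide_eq_true (h3 i hi)
  have hW : ∀ i ∈ U ++ LJ ++ U.reverse, i < D.rank := by
    intro i hi
    rw [List.mem_append, List.mem_append, List.mem_reverse] at hi
    rcases hi with (hi | hi) | hi
    · exact hU i hi
    · exact hLJ i hi
    · exact hU i hi
  apply conjStmt_of_weyl D hD F LJ LJ' U zW hLJ hLJ' hU _ hc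
  intro r hr
  rw [← permWP_getD D hD packed hpk _ hW r hr, ← permWP_getD D hD packed hpk _ hLJ' r hr,
    of_decide_eq_true h4]

end Cfsg.Agent.Lib.Helper25.ChInv
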