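/-
helper25: generic lemmas bounding commutator subgroups `⁅P ⊔ P', Q⁆`, `⁅closure T, Q⁆` by a subgroup
normalized by the generators; nilpotency of a subgroup from a descending chain.
-/
import Mathlib

set_option autoImplicit false

namespace Cfsg.Agent.Lib.Helper25

open scoped commutatorElement

variable {G : Type*} [Group G]

/-- The elements `x` normalizing `K` with `⁅x, q⁆ ∈ K` for all `q ∈ Q`. -/
def commModSubgroup (K Q : Subgroup G) : Subgroup G where
  carrier := {x | x ∈ Subgroup.normalizer (K : Set G) ∧ ∀ q ∈ Q, ⁅x, q⁆ ∈ K}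
  one_mem' := ⟨Subgroup.one_mem _, fun q _ => by rw [commutatorElement_one_left]; exact K.one_mem⟩
  mul_mem' := by
    rintro x y ⟨hx, hxq⟩ ⟨hy, hyq⟩
    refine ⟨Subgroup.mul_mem _ hx hy, fun q hq => ?_⟩
    rw [commutatorElement_mul_left_eq_conj_mul]
    exact K.mul_mem ((Subgroup.mem_normalizer_iff.1 hx _).1 (hyq q hq)) (hxq q hq)
  inv_mem' := by
    rintro x ⟨hx, hxq⟩
    have hx' : x⁻¹ ∈ Subgroup.normalizer (K : Set G) := Subgroup.inv_mem _ hx
    refine ⟨hx', fun q hq => ?_⟩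
    rw [commutatorElement_inv_left]
    have h1 : ⁅q, x⁆ ∈ K := by
      rw [← commutatorElement_inv]; exact K.inv_mem (hxq q hq)
    have := (Subgroup.mem_normalizer_iff.1 hx' _).1 h1
    simpa using this

theorem mem_commModSubgroup {K Q : Subgroup G} {x : G} :
    x ∈ commModSubgroup K Q ↔ x ∈ Subgroup.normalizer (K : Set G) ∧ ∀ q ∈ Q, ⁅x, q⁆ ∈ K := Iff.rfl

theorem le_commModSubgroup {K Q P : Subgroup G} (hn : P ≤ Subgroup.normalizer (K : Set G))
    (h : ⁅P, Q⁆ ≤ K) : P ≤ commModSubgroup K Q := fun x hx =>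
  ⟨hn hx, fun _ hq => h (Subgroup.commutator_mem_commutator hx hq)⟩

theorem commutator_le_of_le_commModSubgroup {K Q P : Subgroup G} (h : P ≤ commModSubgroup K Q) :
    ⁅P, Q⁆ ≤ K := by
  rw [Subgroup.commutator_le]
  intro p hp q hq
  exact (h hp).2 q hq

/-- `⁅closure T, Q⁆ ≤ K` if the generators normalize `K` and have commutators with `Q` in `K`. -/
theorem commutator_closure_le {T : Set G} {K Q : Subgroup G}
    (hn : ∀ s ∈ T, s ∈ Subgroup.normalizer (K : Set G))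
    (h : ∀ s ∈ T, ∀ q ∈ Q, ⁅s, q⁆ ∈ K) : ⁅Subgroup.closure T, Q⁆ ≤ K := by
  apply commutator_le_of_le_commModSubgroup
  rw [Subgroup.closure_le]
  intro s hs
  exact ⟨hn s hs, h s hs⟩

theorem commutator_sup_left_le {P P' Q K : Subgroup G}
    (hP : ⁅P, Q⁆ ≤ K) (hP' : ⁅P', Q⁆ ≤ K) (hn : P ≤ Subgroup.normalizer (K : Set G))
    (hn' : P' ≤ Subgroup.normalizer (K : Set G)) : ⁅P ⊔ P', Q⁆ ≤ K :=
  commutator_le_of_le_commModSubgroup (sup_le (le_commModSubgroup hn hP) (le_commModSubgroup hn' hP'))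

theorem commutator_sup_right_le {P Q Q' K : Subgroup G}
    (hQ : ⁅P, Q⁆ ≤ K) (hQ' : ⁅P, Q'⁆ ≤ K) (hn : Q ≤ Subgroup.normalizer (K : Set G))
    (hn' : Q' ≤ Subgroup.normalizer (K : Set G)) : ⁅P, Q ⊔ Q'⁆ ≤ K := by
  rw [Subgroup.commutator_comm]
  apply commutator_sup_left_le _ _ hn hn'
  · rw [Subgroup.commutator_comm]; exact hQ
  · rw [Subgroup.commutator_comm]; exact hQ'

/-- Nilpotency of a subgroup from a chain with `⁅V (i+1)... ` : the ambient lower central series is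
bounded by any chain `V` with `V 0 = S`-ish and `⁅V i, S⁆ ≤ V (i+1)`. -/
theorem lowerCentralSeries_le_of_chain (S : Subgroup G) (V : ℕ → Subgroup G) (h0 : S ≤ V 0)
    (h : ∀ i, ⁅V i, S⁆ ≤ V (i + 1)) : ∀ n, S.lowerCentralSeries n ≤ V n := by
  intro n
  induction n with
  | zero => simpa using h0
  | succ n ih =>
    rw [Subgroup.lowerCentralSeries_succ]
    exact le_trans (Subgroup.commutator_mono ih le_rfl) (h n)

theorem isNilpotent_of_chain (S : Subgroup G) (V : ℕ → Subgroup G) (h0 : S ≤ V 0)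
    (h : ∀ i, ⁅V i, S⁆ ≤ V (i + 1)) (n : ℕ) (hn : V n = ⊥) : Group.IsNilpotent ↥S := by
  rw [Subgroup.isNilpotent_iff_lowerCentralSeries]
  exact ⟨n, le_bot_iff.1 (hn ▸ lowerCentralSeries_le_of_chain S V h0 h n)⟩

end Cfsg.Agent.Lib.Helper25
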