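import Mathlib
import Cfsg.Agent.Lib.Helper25.CosetFn

/-!
Transitivity of the coset product (helper25): for `Q ≤ Q₁ ≤ P` and `ν : Q →* A`, the product of the
coset function of `ν` over `P ⧸ Q` equals the product over `P ⧸ Q₁` of the coset function of the
transfer of `ν` to `Q₁` (when the contributions of the longer cycles vanish).
-/

set_option autoImplicit false

namespace Cfsg.Agent.Lib.Helper25

open Cfsg.Agent.S4216 (ext1 ext1_of_mem)

variable {P : Type*} [Group P] {A : Type*} [CommGroup A]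

/-- the product of the coset function over a fibre of `P ⧸ Q → P ⧸ Q₁` -/
theorem prod_fibre_cosetFn [Finite P] (Q₁ Q : Subgroup P) (hQ : Q ≤ Q₁) (ν : Q →* A) (u x : P)
    [Fintype (P ⧸ Q)] [Fintype (Q₁ ⧸ Q.subgroupOf Q₁)] [DecidableEq (P ⧸ Q₁)]
    (π : P ⧸ Q → P ⧸ Q₁) (hπ : ∀ a : P, π (QuotientGroup.mk a) = QuotientGroup.mk a) :
    ∏ c ∈ Finset.univ.filter (fun c : P ⧸ Q => π c = QuotientGroup.mk x), cosetFn Q ν u c =
      ∏ e : Q₁ ⧸ Q.subgroupOf Q₁,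
        ext1 Q ν (((e.out : Q₁) : P)⁻¹ * (x⁻¹ * u * x) * ((e.out : Q₁) : P)) := by
  classical
  symm
  let ι : Q₁ ⧸ Q.subgroupOf Q₁ → P ⧸ Q := Quotient.map' (fun m : Q₁ => (m : P)) (by
    intro a b hab
    rw [QuotientGroup.leftRel_apply] at hab ⊢
    exact Subgroup.mem_subgroupOf.mp hab)
  have hι : ∀ m : Q₁, ι (QuotientGroup.mk m) = QuotientGroup.mk (m : P) := fun m => rfl
  apply Finset.prod_nbij (fun e : Q₁ ⧸ Q.subgroupOf Q₁ => x • ι e)
  · intro e _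
    obtain ⟨m, rfl⟩ := QuotientGroup.mk_surjective e
    rw [Finset.mem_filter]
    refine ⟨Finset.mem_univ _, ?_⟩
    rw [hι]
    change π (QuotientGroup.mk (x * (m : P))) = _
    rw [hπ, QuotientGroup.eq]
    have : (x * (m : P))⁻¹ * x = ((m : P))⁻¹ := by group
    rw [this]
    exact Q₁.inv_mem m.2
  · intro e _ e' _ h
    obtain ⟨m, rfl⟩ := QuotientGroup.mk_surjective e
    obtain ⟨m', rfl⟩ := QuotientGroup.mk_surjective e'
    simp only [hι] at h
    change (QuotientGroup.mk (x * (m : P)) : P ⧸ Q) = QuotientGroup.mk (x * (m' : P)) at h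
    rw [QuotientGroup.eq] at h
    have e1 : (x * (m : P))⁻¹ * (x * (m' : P)) = ((m⁻¹ * m' : Q₁) : P) := by
      push_cast; group
    rw [e1] at h
    rw [QuotientGroup.eq]
    exact Subgroup.mem_subgroupOf.mpr h
  · intro c hc
    obtain ⟨a, rfl⟩ := QuotientGroup.mk_surjective c
    have hc' := (Finset.mem_filter.mp (Finset.mem_coe.mp hc)).2
    rw [hπ, QuotientGroup.eq] at hc'
    have hm : x⁻¹ * a ∈ Q₁ := by
      have : x⁻¹ * a = (a⁻¹ * x)⁻¹ := by group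
      rw [this]; exact Q₁.inv_mem hc'
    refine ⟨QuotientGroup.mk ⟨x⁻¹ * a, hm⟩, Finset.mem_coe.mpr (Finset.mem_univ _), ?_⟩
    simp only [hι]
    change (QuotientGroup.mk (x * (x⁻¹ * a)) : P ⧸ Q) = _
    rw [mul_inv_cancel_left]
  · intro e _
    conv_rhs => rw [← QuotientGroup.out_eq' e]
    rw [hι]
    change _ = cosetFn Q ν u (QuotientGroup.mk (x * ((e.out : Q₁) : P)))
    rw [cosetFn_mk]
    congr 1
    group

/-- **Transitivity of the coset product.** -/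
theorem prod_cosetFn_trans [Finite P] (Q₁ Q : Subgroup P) (hQ : Q ≤ Q₁) (ν : Q →* A) (u : P)
    (hK : ∀ (x : P) (n : ℕ), n ≠ 1 → n ∣ orderOf u → ∀ h : x⁻¹ * u ^ n * x ∈ Q, ν ⟨_, h⟩ = 1)
    [Fintype (P ⧸ Q)] [Fintype (P ⧸ Q₁)] :
    ∏ c : P ⧸ Q, cosetFn Q ν u c =
      ∏ d : P ⧸ Q₁, cosetFn Q₁ (MonoidHom.transfer (resSub Q₁ Q hQ ν)) u d := by
  classical
  let π : P ⧸ Q → P ⧸ Q₁ := Quotient.map' id (by
    intro a b hab
    rw [QuotientGroup.leftRel_apply] at hab ⊢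
    exact hQ hab)
  have hπ : ∀ a : P, π (QuotientGroup.mk a) = QuotientGroup.mk a := fun a => rfl
  let _ : Fintype (Q₁ ⧸ Q.subgroupOf Q₁) := Fintype.ofFinite _
  rw [← Finset.prod_fiberwise Finset.univ π]
  apply Finset.prod_congr rfl
  intro d _
  obtain ⟨x, rfl⟩ := QuotientGroup.mk_surjective d
  rw [prod_fibre_cosetFn Q₁ Q hQ ν u x π hπ, cosetFn_mk]
  by_cases hb : x⁻¹ * u * x ∈ Q₁
  · rw [ext1_of_mem _ _ _ hb]
    have hpow : ∀ (k : Q₁) (n : ℕ), n ≠ 1 → n ∣ orderOf (⟨x⁻¹ * u * x, hb⟩ : Q₁) →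
        ∀ h : k⁻¹ * (⟨x⁻¹ * u * x, hb⟩ : Q₁) ^ n * k ∈ Q.subgroupOf Q₁,
        resSub Q₁ Q hQ ν ⟨_, h⟩ = 1 := by
      intro k n hn1 hnd h
      rw [resSub_apply]
      have hord : orderOf (⟨x⁻¹ * u * x, hb⟩ : Q₁) = orderOf u := by
        rw [Subgroup.orderOf_mk]
        exact Cfsg.Agent.S4216.orderOf_conj_inv x u
      have e : (x * (k : P))⁻¹ * u ^ n * (x * (k : P)) =
          ((k⁻¹ * (⟨x⁻¹ * u * x, hb⟩ : Q₁) ^ n * k : Q₁) : P) := by
        push_cast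
        have : (x⁻¹ * u * x) ^ n = x⁻¹ * u ^ n * x := by
          have := conj_pow (a := x⁻¹) (b := u) (i := n)
          simpa using this
        show _ = (k : P)⁻¹ * (x⁻¹ * u * x) ^ n * (k : P)
        rw [this]
        group
      have hmem : (x * (k : P))⁻¹ * u ^ n * (x * (k : P)) ∈ Q := by
        rw [e]; exact Subgroup.mem_subgroupOf.mp h
      rw [← hK (x * (k : P)) n hn1 (hord ▸ hnd) hmem]
      congr 1
      exact Subtype.ext e.symm
    rw [transfer_eq_prod_cosetFn (Q.subgroupOf Q₁) (resSub Q₁ Q hQ ν) ⟨x⁻¹ * u * x, hb⟩ hpow]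
    apply Finset.prod_congr rfl
    intro e _
    conv_rhs => rw [← QuotientGroup.out_eq' e]
    rw [cosetFn_mk, ext1_resSub]
    rfl
  · rw [ext1_of_not_mem _ _ _ hb]
    apply Finset.prod_eq_one
    intro e _
    apply ext1_of_not_mem
    intro h
    apply hb
    have h1 := hQ h
    have e1 : x⁻¹ * u * x = ((e.out : Q₁) : P) *
        (((e.out : Q₁) : P)⁻¹ * (x⁻¹ * u * x) * ((e.out : Q₁) : P)) * ((e.out : Q₁) : P)⁻¹ := by
      group
    rw [e1]
    exact Q₁.mul_mem (Q₁.mul_mem (e.out : Q₁).2 h1) (Q₁.inv_mem (e.out : Q₁).2)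

end Cfsg.Agent.Lib.Helper25
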