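import Mathlib
import Cfsg.Prelude.Def_Classical

set_option autoImplicit false

/-!
# D4A: root elements of the split orthogonal group `O₈⁺(F)` over an arbitrary field

Index set `I8 = Fin 4 ⊕ Fin 4` (`inl i = e_i`, `inr i = f_i`), `op = Sum.swap`.
For `a ≠ op b` the root element `Eab a b t = 1 + t (E_{a, op b} - E_{b, op a})` is an isometry of
`Σ x_i y_i`, lies in the commutator subgroup `Ω`, and the `Eab` satisfy the Chevalley commutator formula.
-/

namespace Cfsg.Agent.Lib.Helper25.D4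

open Matrix
open scoped commutatorElement

abbrev I8 : Type := Fin 4 ⊕ Fin 4

/-- the opposite basis index -/
def op (a : I8) : I8 := a.swap

@[simp] theorem op_op (a : I8) : op (op a) = a := Sum.swap_swap a
@[simp] theorem op_inl (i : Fin 4) : op (Sum.inl i) = Sum.inr i := rfl
@[simp] theorem op_inr (i : Fin 4) : op (Sum.inr i) = Sum.inl i := rfl

theorem op_ne_self (a : I8) : op a ≠ a := by
  rcases a with i | i <;> simp

theorem self_ne_op (a : I8) : a ≠ op a := fun h => op_ne_self a h.symm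

theorem op_injective : Function.Injective op := fun a b h => by
  have := congrArg op h
  simpa using this

@[simp] theorem op_inj {a b : I8} : op a = op b ↔ a = b := op_injective.eq_iff

theorem op_eq_iff {a b : I8} : op a = b ↔ a = op b := by
  constructor
  · rintro rfl; simp
  · rintro rfl; simp

theorem sum_op {M : Type*} [AddCommMonoid M] (f : I8 → M) : ∑ c, f (op c) = ∑ c, f c :=
  Fintype.sum_equiv (Equiv.sumComm _ _) _ _ (fun _ => rfl)

section field

variable {F : Type*} [Field F]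

/-- the quadratic form `Σ x_i y_i` -/
abbrev Q8 (F : Type*) [Field F] : (I8 → F) → F := Cfsg.quadFormPlus 4 F

/-- the isometry group of `Q8`, as a subgroup of `GL₈(F)` -/
abbrev O8 (F : Type*) [Field F] : Subgroup (GL I8 F) := Cfsg.isometryGroup F (Cfsg.quadFormPlus 4 F)

theorem mem_O8_iff (g : GL I8 F) : g ∈ O8 F ↔ ∀ u, Q8 F (g.val *ᵥ u) = Q8 F u :=
  ⟨fun h u => h u u, fun h u _ => h u⟩

/-- the polar form of `Q8` -/
def bil (x y : I8 → F) : F := ∑ c, x c * y (op c)

theorem Q8_def (x : I8 → F) : Q8 F x = ∑ i : Fin 4, x (Sum.inl i) * x (Sum.inr i) := rfl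

theorem bil_eq (x y : I8 → F) :
    bil x y = ∑ i : Fin 4, (x (Sum.inl i) * y (Sum.inr i) + x (Sum.inr i) * y (Sum.inl i)) := by
  unfold bil
  rw [Fintype.sum_sum_type, Finset.sum_add_distrib]
  rfl

theorem Q8_add (x y : I8 → F) : Q8 F (x + y) = Q8 F x + Q8 F y + bil x y := by
  rw [bil_eq, Q8_def, Q8_def, Q8_def, ← Finset.sum_add_distrib, ← Finset.sum_add_distrib]
  apply Finset.sum_congr rfl
  intro i _
  simp only [Pi.add_apply]
  ring

theorem Q8_smul (t : F) (x : I8 → F) : Q8 F (t • x) = t ^ 2 * Q8 F x := by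
  rw [Q8_def, Q8_def, Finset.mul_sum]
  apply Finset.sum_congr rfl
  intro i _
  simp only [Pi.smul_apply, smul_eq_mul]
  ring

theorem bil_comm (x y : I8 → F) : bil x y = bil y x := by
  unfold bil
  rw [← sum_op]
  apply Finset.sum_congr rfl
  intro c _
  rw [op_op, mul_comm]

theorem bil_add_left (x y z : I8 → F) : bil (x + y) z = bil x z + bil y z := by
  unfold bil
  rw [← Finset.sum_add_distrib]
  apply Finset.sum_congr rfl
  intro c _
  simp only [Pi.add_apply]
  ring

theorem bil_smul_left (t : F) (x z : I8 → F) : bil (t • x) z = t * bil x z := by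
  unfold bil
  rw [Finset.mul_sum]
  apply Finset.sum_congr rfl
  intro c _
  simp only [Pi.smul_apply, smul_eq_mul]
  ring

theorem bil_add_right (x y z : I8 → F) : bil x (y + z) = bil x y + bil x z := by
  rw [bil_comm, bil_add_left, bil_comm y, bil_comm z]

theorem bil_smul_right (t : F) (x z : I8 → F) : bil x (t • z) = t * bil x z := by
  rw [bil_comm, bil_smul_left, bil_comm]

theorem bil_neg_right (x z : I8 → F) : bil x (-z) = - bil x z := by
  have := bil_smul_right (-1) x z
  simpa using this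

theorem bil_sub_right (x y z : I8 → F) : bil x (y - z) = bil x y - bil x z := by
  rw [sub_eq_add_neg, bil_add_right, bil_neg_right, sub_eq_add_neg]

/-- the standard basis vector -/
abbrev ev (c : I8) : I8 → F := Pi.single c 1

theorem bil_ev_right (x : I8 → F) (c : I8) : bil x (ev c) = x (op c) := by
  unfold bil
  rw [Finset.sum_eq_single (op c)]
  · simp
  · intro b _ hb
    have : op b ≠ c := fun h => hb (by rw [← h]; simp)
    simp [Pi.single_apply, this]
  · intro h; exact absurd (Finset.mem_univ _) h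

theorem bil_ev_left (x : I8 → F) (c : I8) : bil (ev c) x = x (op c) := by
  rw [bil_comm, bil_ev_right]

theorem Q8_ev (c : I8) (t : F) : Q8 F (t • ev c) = 0 := by
  rw [Q8_def]
  apply Finset.sum_eq_zero
  intro i _
  rcases c with j | j
  · simp [Pi.single_apply]
  · simp [Pi.single_apply]

theorem bil_of_O8 {g : GL I8 F} (hg : g ∈ O8 F) (x y : I8 → F) :
    bil (g.val *ᵥ x) (g.val *ᵥ y) = bil x y := by
  have h1 := (mem_O8_iff g).1 hg (x + y)
  rw [Matrix.mulVec_add, Q8_add, Q8_add, (mem_O8_iff g).1 hg x, (mem_O8_iff g).1 hg y] at h1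
  exact add_left_cancel h1

/-- the nilpotent matrix `E_{a, op b} - E_{b, op a}` -/
def Xm (a b : I8) : Matrix I8 I8 F := single a (op b) 1 - single b (op a) 1

theorem Xm_mulVec (a b : I8) (x : I8 → F) :
    (Xm a b : Matrix I8 I8 F) *ᵥ x = x (op b) • ev a - x (op a) • ev b := by
  unfold Xm
  rw [Matrix.sub_mulVec, single_mulVec_eq, single_mulVec_eq, one_mul, one_mul]

theorem Xm_mul_Xm (a b c d : I8) :
    (Xm a b : Matrix I8 I8 F) * Xm c d =
      (if op b = c then single a (op d) 1 else 0) - (if op b = d then single a (op c) 1 else 0)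
        - (if op a = c then single b (op d) 1 else 0) + (if op a = d then single b (op c) 1 else 0) := by
  unfold Xm
  rw [Matrix.sub_mul, Matrix.mul_sub, Matrix.mul_sub]
  have key : ∀ i j k l : I8, (single i j (1 : F) * single k l (1 : F) : Matrix I8 I8 F) =
      if j = k then single i l 1 else 0 := by
    intro i j k l
    split_ifs with h
    · subst h; rw [single_mul_single_same, one_mul]
    · exact single_mul_single_of_ne _ _ _ _ h _
  rw [key, key, key, key]
  abel

theorem Xm_sq (a b : I8) (h : a ≠ op b) : (Xm a b : Matrix I8 I8 F) * Xm a b = 0 := by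
  rw [Xm_mul_Xm]
  have h1 : op b ≠ a := fun h' => h h'.symm
  have h2 : op b ≠ b := op_ne_self b
  have h3 : op a ≠ a := op_ne_self a
  have h4 : op a ≠ b := fun h' => h (op_eq_iff.1 h')
  simp [h1, h2, h3, h4]

/-- the root element `1 + t X_{ab}` -/
def Eab (a b : I8) (h : a ≠ op b) (t : F) : GL I8 F where
  val := 1 + t • Xm a b
  inv := 1 - t • Xm a b
  val_inv := by
    have h0 : (t • Xm a b : Matrix I8 I8 F) * (t • Xm a b) = 0 := by
      rw [smul_mul_smul_comm, Xm_sq a b h, smul_zero]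
    have h1 : ∀ A : Matrix I8 I8 F, (1 + A) * (1 - A) = 1 - A * A := by intro A; noncomm_ring
    rw [h1, h0, sub_zero]
  inv_val := by
    have h0 : (t • Xm a b : Matrix I8 I8 F) * (t • Xm a b) = 0 := by
      rw [smul_mul_smul_comm, Xm_sq a b h, smul_zero]
    have h1 : ∀ A : Matrix I8 I8 F, (1 - A) * (1 + A) = 1 - A * A := by intro A; noncomm_ring
    rw [h1, h0, sub_zero]

theorem Eab_val (a b : I8) (h : a ≠ op b) (t : F) :
    ((Eab a b h t : GL I8 F) : Matrix I8 I8 F) = 1 + t • Xm a b := rfl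

theorem Eab_mulVec (a b : I8) (h : a ≠ op b) (t : F) (x : I8 → F) :
    ((Eab a b h t : GL I8 F) : Matrix I8 I8 F) *ᵥ x = x + t • (x (op b) • ev a - x (op a) • ev b) := by
  rw [Eab_val, Matrix.add_mulVec, Matrix.one_mulVec, Matrix.smul_mulVec, Xm_mulVec]

theorem Eab_mulVec_apply (a b : I8) (h : a ≠ op b) (t : F) (x : I8 → F) (c : I8) :
    (((Eab a b h t : GL I8 F) : Matrix I8 I8 F) *ᵥ x) c =
      x c + t * (x (op b) * (if c = a then 1 else 0) - x (op a) * (if c = b then 1 else 0)) := by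
  rw [Eab_mulVec]
  simp [Pi.single_apply]

theorem Eab_mem_O8 (a b : I8) (h : a ≠ op b) (t : F) : Eab a b h t ∈ O8 F := by
  rw [mem_O8_iff]
  intro x
  rw [Eab_mulVec, Q8_add, Q8_smul, bil_smul_right, bil_sub_right, bil_smul_right, bil_smul_right,
    bil_ev_right, bil_ev_right, sub_eq_add_neg (x (op b) • ev a), Q8_add, Q8_ev]
  have h2 : Q8 F (-(x (op a) • ev b)) = 0 := by
    have := Q8_ev (F := F) b (-(x (op a)))
    rwa [neg_smul] at this
  rw [h2, bil_neg_right, bil_smul_right, bil_smul_left, bil_ev_right]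
  have h3 : (ev a : I8 → F) (op b) = 0 := by
    simp [Pi.single_apply, h.symm]
  rw [h3]
  ring

theorem Eab_zero (a b : I8) (h : a ≠ op b) : Eab a b h (0 : F) = 1 := by
  apply Units.ext
  rw [Eab_val]
  simp

theorem Eab_add (a b : I8) (h : a ≠ op b) (t u : F) : Eab a b h (t + u) = Eab a b h t * Eab a b h u := by
  apply Units.ext
  have h0 : (t • Xm a b : Matrix I8 I8 F) * (u • Xm a b) = 0 := by
    rw [smul_mul_smul_comm, Xm_sq a b h, smul_zero]
  have h1 : ∀ A B : Matrix I8 I8 F, (1 + A) * (1 + B) = 1 + (A + B) + A * B := by intro A B; noncomm_ring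
  rw [Units.val_mul, Eab_val, Eab_val, Eab_val, h1, h0, add_zero, add_smul]

theorem Eab_inv (a b : I8) (h : a ≠ op b) (t : F) : (Eab a b h t)⁻¹ = Eab a b h (-t) := by
  rw [inv_eq_iff_mul_eq_one, ← Eab_add]
  simp [Eab_zero]

theorem Xm_swap (a b : I8) : (Xm b a : Matrix I8 I8 F) = - Xm a b := by
  unfold Xm; abel

theorem Xm_self (a : I8) : (Xm a a : Matrix I8 I8 F) = 0 := by
  unfold Xm; simp

theorem Eab_swap (a b : I8) (h : a ≠ op b) (h' : b ≠ op a) (t : F) : Eab b a h' t = Eab a b h (-t) := by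
  apply Units.ext
  rw [Eab_val, Eab_val, Xm_swap]
  simp

theorem Eab_self (a : I8) (h : a ≠ op a) (t : F) : Eab a a h t = 1 := by
  apply Units.ext
  rw [Eab_val, Xm_self]
  simp

/-- Chevalley commutator formula: `E_{ab}(t) E_{b'c}(u) = E_{ac}(tu) E_{b'c}(u) E_{ab}(t)`. -/
theorem Eab_mul_comm (a b c : I8) (hab : a ≠ b) (hac : a ≠ c) (hbc : b ≠ c) (hab' : a ≠ op b)
    (hac' : a ≠ op c) (hbc' : b ≠ op c) (t u : F) :
    Eab a b hab' t * Eab (op b) c (fun h => hbc (op_injective h)) u =
      Eab a c hac' (t * u) * Eab (op b) c (fun h => hbc (op_injective h)) u * Eab a b hab' t := by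
  apply Units.ext
  simp only [Units.val_mul, Eab_val]
  have hXY : (Xm a b : Matrix I8 I8 F) * Xm (op b) c = single a (op c) 1 := by
    rw [Xm_mul_Xm]
    have h1 : op b ≠ c := fun h => hbc' (op_eq_iff.1 h)
    have h2 : op a ≠ op b := fun h => hab (op_injective h)
    have h3 : op a ≠ c := fun h => hac' (op_eq_iff.1 h)
    simp [h1, h2, h3]
  have hYX : (Xm (op b) c : Matrix I8 I8 F) * Xm a b = single c (op a) 1 := by
    rw [Xm_mul_Xm]
    have h1 : op c ≠ a := fun h => hac' h.symm
    have h2 : op c ≠ b := fun h => hbc' h.symm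
    have h3 : b ≠ a := fun h => hab h.symm
    simp [h1, h2, h3]
  have hZY : (Xm a c : Matrix I8 I8 F) * Xm (op b) c = 0 := by
    rw [Xm_mul_Xm]
    have h1 : op c ≠ op b := fun h => hbc (op_injective h).symm
    have h2 : op c ≠ c := op_ne_self c
    have h3 : op a ≠ op b := fun h => hab (op_injective h)
    have h4 : op a ≠ c := fun h => hac' (op_eq_iff.1 h)
    simp [h1, h2, h3, h4]
  have hZX : (Xm a c : Matrix I8 I8 F) * Xm a b = 0 := by
    rw [Xm_mul_Xm]
    have h1 : op c ≠ a := fun h => hac' h.symm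
    have h2 : op c ≠ b := fun h => hbc' h.symm
    have h3 : op a ≠ a := op_ne_self a
    have h4 : op a ≠ b := fun h => hab' (op_eq_iff.1 h)
    simp [h1, h2, h3, h4]
  have e1 : ∀ A B : Matrix I8 I8 F, (1 + A) * (1 + B) = 1 + A + B + A * B := by
    intro A B; noncomm_ring
  have e2 : ∀ A B C : Matrix I8 I8 F,
      (1 + C) * (1 + B) * (1 + A) = 1 + A + B + B * A + C + C * B + C * A + C * B * A := by
    intro A B C; noncomm_ring
  rw [e1, e2]
  have p1 : (t • Xm a b : Matrix I8 I8 F) * (u • Xm (op b) c) = (t * u) • single a (op c) 1 := by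
    rw [smul_mul_smul_comm, hXY]
  have p2 : (u • Xm (op b) c : Matrix I8 I8 F) * (t • Xm a b) = (t * u) • single c (op a) 1 := by
    rw [smul_mul_smul_comm, hYX, mul_comm]
  have p3 : ((t * u) • Xm a c : Matrix I8 I8 F) * (u • Xm (op b) c) = 0 := by
    rw [smul_mul_smul_comm, hZY, smul_zero]
  have p4 : ((t * u) • Xm a c : Matrix I8 I8 F) * (t • Xm a b) = 0 := by
    rw [smul_mul_smul_comm, hZX, smul_zero]
  rw [p1, p2, p3, p4, Matrix.zero_mul]
  simp only [Xm, smul_sub]
  abel

/-- `Ω₈⁺(F)` as a subgroup of `GL₈(F)` -/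
def Om8 (F : Type*) [Field F] : Subgroup (GL I8 F) :=
  (Cfsg.Omega F (Cfsg.quadFormPlus 4 F)).map (O8 F).subtype

theorem exists_third (a c : I8) : ∃ b : I8, b ≠ a ∧ b ≠ op a ∧ b ≠ c ∧ b ≠ op c := by
  revert a c; decide

theorem comm_mem_Om8 {g h : GL I8 F} (hg : g ∈ O8 F) (hh : h ∈ O8 F) : g * h * g⁻¹ * h⁻¹ ∈ Om8 F := by
  refine ⟨⁅(⟨g, hg⟩ : ↥(O8 F)), (⟨h, hh⟩ : ↥(O8 F))⁆, ?_, rfl⟩
  exact Subgroup.commutator_mem_commutator (Subgroup.mem_top _) (Subgroup.mem_top _)

theorem Eab_mem_Om8 (a c : I8) (h : a ≠ op c) (t : F) : Eab a c h t ∈ Om8 F := by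
  by_cases hac : a = c
  · subst hac
    rw [Eab_self]
    exact one_mem _
  obtain ⟨b, hba, hba', hbc, hbc'⟩ := exists_third a c
  have hab' : a ≠ op b := fun h => hba' (by rw [h]; simp)
  have key := Eab_mul_comm a b c hba.symm hac hbc hab' h hbc' t 1
  rw [mul_one] at key
  have : Eab a c h t = Eab a b hab' t * Eab (op b) c (fun h => hbc (op_injective h)) 1 *
      (Eab a b hab' t)⁻¹ * (Eab (op b) c (fun h => hbc (op_injective h)) 1)⁻¹ := by
    rw [key]; group
  rw [this]
  exact comm_mem_Om8 (Eab_mem_O8 _ _ _ _) (Eab_mem_O8 _ _ _ _)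

end field

end Cfsg.Agent.Lib.Helper25.D4
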