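import Cfsg.Agent.Lib.Helper25.D4A
import Cfsg.Prelude.Def_ChevD4

set_option autoImplicit false

/-!
# D4B: the 28-dimensional module `ker b / Sym₀` of `O₈⁺(F)` and its coordinates

`P = Matrix I8 I8 F` with `g • M = g M gᵀ`, `b M = Σ_a M a a'`, `Sym₀` = symmetric matrices with
`Σ_i M e_i f_i = 0`. Coordinates `coordF : P → (Idx → F)` vanish on `Sym₀` and are dual to the
representatives `rep j`.  This gives a homomorphism `rho : O₈⁺(F) → GL(Idx, F)`.
-/

namespace Cfsg.Agent.Lib.Helper25.D4

open Matrix Cfsg Cfsg.Lie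

abbrev Idx : Type := chevD4.Idx

/-- decode `0..7` as an element of `I8` -/
def dec (n : ℕ) : I8 := if n < 4 then Sum.inl (Fin.ofNat 4 n) else Sum.inr (Fin.ofNat 4 (n - 4))

/-- the (ordered) pair of basis indices attached to each root -/
def rootPairL : List (I8 × I8) :=
  [(4,5),(4,6),(3,4),(4,7),(2,4),(1,4),(5,6),(3,5),(5,7),(2,5),(3,6),(6,7),(2,3),(2,7),(1,6),(1,3),
   (1,7),(1,2),(0,5),(0,6),(0,3),(0,7),(0,2),(0,1)].map fun p => (dec p.1, dec p.2)

/-- the signs making the basis a Chevalley basis with the frozen structure constants -/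
def epsL : List ℤ :=
  [1,1,1,1,-1,1,-1,-1,-1,1,1,1,-1,1,1,1,-1,1,1,-1,-1,1,-1,-1]

def rootPair (r : ℕ) : I8 × I8 := rootPairL.getD r (Sum.inl 0, Sum.inl 0)
def ra (r : ℕ) : I8 := (rootPair r).1
def rb (r : ℕ) : I8 := (rootPair r).2
def eps (r : ℕ) : ℤ := epsL.getD r 0

/-- Cartan coordinate functionals: coefficients of the entries `M p (op p)` -/
def cartL (i : ℕ) : List (ℤ × I8) :=
  match i with
  | 0 => [(1, dec 0), (-1, dec 4)]
  | 1 => [(1, dec 0), (-1, dec 4), (1, dec 1), (-1, dec 5)]
  | 2 => [(1, dec 0), (1, dec 1), (1, dec 2), (1, dec 7)]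
  | _ => [(1, dec 0), (1, dec 1), (1, dec 2), (1, dec 3)]

/-- the coordinate `i` of the matrix unit `E_{pq}` -/
def cz (i : Idx) (p q : I8) : ℤ :=
  match i with
  | Sum.inl i => if q = op p then ((cartL i.val).map fun e => if e.2 = p then e.1 else 0).sum else 0
  | Sum.inr r => eps r.val * ((if p = ra r.val ∧ q = rb r.val then 1 else 0) -
      (if p = rb r.val ∧ q = ra r.val then 1 else 0))

/-- sparse representatives of the basis of the module -/
def repS (j : Idx) : List (ℤ × I8 × I8) :=
  match j with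
  | Sum.inl i =>
    (match i.val with
     | 0 => [(1, dec 0, dec 4), (-1, dec 1, dec 5)]
     | 1 => [(1, dec 1, dec 5), (-1, dec 2, dec 6)]
     | 2 => [(1, dec 2, dec 6), (-1, dec 3, dec 7)]
     | _ => [(1, dec 2, dec 6), (-1, dec 7, dec 3)])
  | Sum.inr r => [(eps r.val, ra r.val, rb r.val)]

/-- coordinates of a sparse matrix -/
def coordS (l : List (ℤ × I8 × I8)) (i : Idx) : ℤ := (l.map fun e => cz i e.2.1 e.2.2 * e.1).sum

section field

variable {F : Type*} [Field F]

/-- evaluation of a sparse matrix -/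
def evS (l : List (ℤ × I8 × I8)) : Matrix I8 I8 F := (l.map fun e => single e.2.1 e.2.2 ((e.1 : ℤ) : F)).sum

theorem evS_nil : (evS [] : Matrix I8 I8 F) = 0 := rfl

theorem evS_cons (e : ℤ × I8 × I8) (l : List (ℤ × I8 × I8)) :
    (evS (e :: l) : Matrix I8 I8 F) = single e.2.1 e.2.2 ((e.1 : ℤ) : F) + evS l := by
  unfold evS; simp

theorem evS_append (l l' : List (ℤ × I8 × I8)) :
    (evS (l ++ l') : Matrix I8 I8 F) = evS l + evS l' := by
  unfold evS; simp

/-- the basis representatives -/
def rep (j : Idx) : Matrix I8 I8 F := evS (repS j)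

/-- the coordinates of a matrix -/
def coordF (M : Matrix I8 I8 F) (i : Idx) : F := ∑ p, ∑ q, ((cz i p q : ℤ) : F) * M p q

theorem coordF_add (M N : Matrix I8 I8 F) (i : Idx) : coordF (M + N) i = coordF M i + coordF N i := by
  unfold coordF
  simp only [Matrix.add_apply, mul_add, Finset.sum_add_distrib]

theorem coordF_smul (t : F) (M : Matrix I8 I8 F) (i : Idx) : coordF (t • M) i = t * coordF M i := by
  unfold coordF
  simp only [Matrix.smul_apply, smul_eq_mul, Finset.mul_sum]
  apply Finset.sum_congr rfl; intro p _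
  apply Finset.sum_congr rfl; intro q _
  ring

/-- coordinates as a linear map -/
def coordL : Matrix I8 I8 F →ₗ[F] (Idx → F) where
  toFun M := coordF M
  map_add' M N := by funext i; exact coordF_add M N i
  map_smul' t M := by funext i; simp [coordF_smul]

theorem coordL_apply (M : Matrix I8 I8 F) (i : Idx) : coordL M i = coordF M i := rfl

theorem coordF_zero (i : Idx) : coordF (0 : Matrix I8 I8 F) i = 0 := by
  unfold coordF; simp

theorem coordF_sub (M N : Matrix I8 I8 F) (i : Idx) : coordF (M - N) i = coordF M i - coordF N i := by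
  have := congrFun (coordL.map_sub M N) i
  simpa [coordL_apply] using this

theorem coordF_single (p q : I8) (c : F) (i : Idx) :
    coordF (single p q c) i = ((cz i p q : ℤ) : F) * c := by
  unfold coordF
  rw [Finset.sum_eq_single p, Finset.sum_eq_single q]
  · rw [single_apply_same]
  · intro b _ hb
    rw [single_apply_of_ne _ _ _ _ _ (fun h => hb h.2.symm), mul_zero]
  · intro h; exact absurd (Finset.mem_univ _) h
  · intro b _ hb
    apply Finset.sum_eq_zero
    intro q' _
    rw [single_apply_of_ne _ _ _ _ _ (fun h => hb h.1.symm), mul_zero]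
  · intro h; exact absurd (Finset.mem_univ _) h

theorem coordF_evS (l : List (ℤ × I8 × I8)) (i : Idx) :
    coordF (evS l : Matrix I8 I8 F) i = ((coordS l i : ℤ) : F) := by
  induction l with
  | nil => simp [evS_nil, coordF_zero, coordS]
  | cons e l ih =>
    rw [evS_cons, coordF_add, ih, coordF_single]
    unfold coordS
    simp

set_option maxRecDepth 100000 in
theorem coordS_repS : ∀ i j : Idx, coordS (repS j) i = if i = j then 1 else 0 := by
  decide +kernel

theorem rootPair_ok : ∀ r : Fin chevD4.nroots, ra r.val ≠ op (rb r.val) ∧ ra r.val ≠ rb r.val := by decide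

theorem eps_sq : ∀ r : Fin chevD4.nroots, eps r.val * eps r.val = 1 := by decide

theorem exists_root : ∀ a b : I8, a ≠ b → a ≠ op b →
    ∃ r : Fin chevD4.nroots, (ra r.val = a ∧ rb r.val = b) ∨ (ra r.val = b ∧ rb r.val = a) := by decide

theorem coordF_rep (i j : Idx) : coordF (rep j : Matrix I8 I8 F) i = if i = j then 1 else 0 := by
  unfold rep
  rw [coordF_evS, coordS_repS]
  split_ifs <;> simp

/-- the linear form `b M = Σ_a M a a'` -/
def bM (M : Matrix I8 I8 F) : F := ∑ c, M c (op c)

/-- the linear form `Σ_i M e_i f_i` -/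
def tM (M : Matrix I8 I8 F) : F := ∑ i : Fin 4, M (Sum.inl i) (Sum.inr i)

/-- the submodule `Sym₀` -/
def IsS0 (M : Matrix I8 I8 F) : Prop := Mᵀ = M ∧ tM M = 0

/-- the action `g M gᵀ` -/
def act (g : Matrix I8 I8 F) (M : Matrix I8 I8 F) : Matrix I8 I8 F := g * M * gᵀ

theorem act_one (M : Matrix I8 I8 F) : act 1 M = M := by
  unfold act; simp

theorem act_mul (g h : Matrix I8 I8 F) (M : Matrix I8 I8 F) : act (g * h) M = act g (act h M) := by
  unfold act
  rw [Matrix.transpose_mul]
  simp only [Matrix.mul_assoc]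

theorem act_add (g : Matrix I8 I8 F) (M N : Matrix I8 I8 F) : act g (M + N) = act g M + act g N := by
  unfold act
  rw [Matrix.mul_add, Matrix.add_mul]

theorem act_sub (g : Matrix I8 I8 F) (M N : Matrix I8 I8 F) : act g (M - N) = act g M - act g N := by
  unfold act
  rw [Matrix.mul_sub, Matrix.sub_mul]

theorem act_smul (g : Matrix I8 I8 F) (t : F) (M : Matrix I8 I8 F) : act g (t • M) = t • act g M := by
  unfold act
  rw [Matrix.mul_smul, Matrix.smul_mul]

theorem act_sum {ι : Type*} (s : Finset ι) (g : Matrix I8 I8 F) (f : ι → Matrix I8 I8 F) :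
    act g (∑ k ∈ s, f k) = ∑ k ∈ s, act g (f k) := by
  unfold act
  rw [Matrix.mul_sum, Matrix.sum_mul]

theorem act_apply (g M : Matrix I8 I8 F) (x y : I8) :
    act g M x y = ∑ p, ∑ q, M p q * (g x p * g y q) := by
  unfold act
  rw [Matrix.mul_apply]
  simp only [Matrix.mul_apply, Matrix.transpose_apply, Finset.sum_mul]
  rw [Finset.sum_comm]
  apply Finset.sum_congr rfl; intro p _
  apply Finset.sum_congr rfl; intro q _
  ring

theorem act_transpose (g M : Matrix I8 I8 F) : (act g M)ᵀ = act g Mᵀ := by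
  unfold act
  rw [Matrix.transpose_mul, Matrix.transpose_mul, Matrix.transpose_transpose, Matrix.mul_assoc]

/-- column `p` of `g` -/
def colv (g : Matrix I8 I8 F) (p : I8) : I8 → F := fun x => g x p

theorem colv_eq (g : Matrix I8 I8 F) (p : I8) : colv g p = g *ᵥ ev p := by
  funext x
  simp [colv]

theorem bM_act_gen (g M : Matrix I8 I8 F) :
    bM (act g M) = ∑ p, ∑ q, M p q * bil (colv g p) (colv g q) := by
  unfold bM
  simp only [act_apply]
  rw [Finset.sum_comm]
  apply Finset.sum_congr rfl; intro p _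
  rw [Finset.sum_comm]
  apply Finset.sum_congr rfl; intro q _
  rw [← Finset.mul_sum]
  rfl

theorem bil_colv_of_O8 {g : GL I8 F} (hg : g ∈ O8 F) (p q : I8) :
    bil (colv g.val p) (colv g.val q) = if q = op p then 1 else 0 := by
  rw [colv_eq, colv_eq, bil_of_O8 hg, bil_ev_left]
  simp [Pi.single_apply, eq_comm]

theorem Q8_colv_of_O8 {g : GL I8 F} (hg : g ∈ O8 F) (p : I8) : Q8 F (colv g.val p) = 0 := by
  rw [colv_eq, (mem_O8_iff g).1 hg]
  have := Q8_ev (F := F) p 1
  rwa [one_smul] at this

theorem bM_act {g : GL I8 F} (hg : g ∈ O8 F) (M : Matrix I8 I8 F) : bM (act g.val M) = bM M := by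
  rw [bM_act_gen]
  unfold bM
  apply Finset.sum_congr rfl; intro p _
  rw [Finset.sum_eq_single (op p)]
  · rw [bil_colv_of_O8 hg]; simp
  · intro q _ hq
    rw [bil_colv_of_O8 hg, if_neg hq, mul_zero]
  · intro h; exact absurd (Finset.mem_univ _) h

/-- the non-symmetric bilinear form `Σ_i u(e_i) v(f_i)` on columns -/
def betaF (u v : I8 → F) : F := ∑ i : Fin 4, u (Sum.inl i) * v (Sum.inr i)

theorem betaF_self (u : I8 → F) : betaF u u = Q8 F u := rfl

theorem betaF_add_swap (u v : I8 → F) : betaF u v + betaF v u = bil u v := by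
  rw [bil_eq]
  unfold betaF
  rw [← Finset.sum_add_distrib]
  apply Finset.sum_congr rfl; intro i _
  ring

theorem tM_act_gen (g M : Matrix I8 I8 F) :
    tM (act g M) = ∑ p, ∑ q, M p q * betaF (colv g p) (colv g q) := by
  unfold tM
  simp only [act_apply]
  rw [Finset.sum_comm]
  apply Finset.sum_congr rfl; intro p _
  rw [Finset.sum_comm]
  apply Finset.sum_congr rfl; intro q _
  rw [← Finset.mul_sum]
  rfl

theorem tM_act {g : GL I8 F} (hg : g ∈ O8 F) (M : Matrix I8 I8 F) (hM : Mᵀ = M) :
    tM (act g.val M) = tM M := by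
  have h1 : tM M = tM (act 1 M) := by rw [act_one]
  rw [h1, tM_act_gen, tM_act_gen, ← sub_eq_zero, ← Finset.sum_sub_distrib]
  simp only [← Finset.sum_sub_distrib, ← mul_sub]
  rw [← Finset.sum_product']
  have hsym : ∀ x y, M x y = M y x := fun x y => by
    have := congrFun (congrFun hM y) x
    rwa [Matrix.transpose_apply] at this
  have h1g : (1 : GL I8 F) ∈ O8 F := one_mem _
  apply Finset.sum_involution (fun a _ => (a.2, a.1))
  · rintro ⟨p, q⟩ _
    simp only
    rw [hsym q p, ← mul_add]
    have e1 := betaF_add_swap (colv g.val p) (colv g.val q)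
    have e2 := betaF_add_swap (colv (1 : Matrix I8 I8 F) p) (colv (1 : Matrix I8 I8 F) q)
    have e3 := bil_colv_of_O8 hg p q
    have e4 := bil_colv_of_O8 h1g p q
    rw [Units.val_one] at e4
    rw [e3] at e1
    rw [e4] at e2
    have : betaF (colv g.val p) (colv g.val q) - betaF (colv (1 : Matrix I8 I8 F) p) (colv 1 q) +
        (betaF (colv g.val q) (colv g.val p) - betaF (colv (1 : Matrix I8 I8 F) q) (colv 1 p)) = 0 := by
      linear_combination e1 - e2
    rw [this, mul_zero]
  · rintro ⟨p, q⟩ _ hne heq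
    simp only [Prod.mk.injEq] at heq
    obtain ⟨rfl, -⟩ := heq
    apply hne
    rw [betaF_self, betaF_self, Q8_colv_of_O8 hg]
    have := Q8_colv_of_O8 h1g q
    rw [Units.val_one] at this
    rw [this, sub_zero, mul_zero]
  · intro a _; exact Finset.mem_univ _
  · rintro ⟨p, q⟩ _; rfl

theorem IsS0_act {g : GL I8 F} (hg : g ∈ O8 F) {M : Matrix I8 I8 F} (hM : IsS0 M) :
    IsS0 (act g.val M) := by
  refine ⟨?_, ?_⟩
  · rw [act_transpose, hM.1]
  · rw [tM_act hg M hM.1, hM.2]

theorem sum2_ite (a b : I8) (f : I8 → I8 → F) :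
    ∑ x, ∑ y, (if x = a ∧ y = b then f x y else 0) = f a b := by
  rw [Finset.sum_eq_single a, Finset.sum_eq_single b]
  · simp
  · intro y _ hy; simp [hy]
  · intro h; exact absurd (Finset.mem_univ _) h
  · intro x _ hx
    apply Finset.sum_eq_zero
    intro y _; simp [hx]
  · intro h; exact absurd (Finset.mem_univ _) h

theorem coordF_root (M : Matrix I8 I8 F) (r : Fin chevD4.nroots) :
    coordF M (Sum.inr r) = ((eps r.val : ℤ) : F) * (M (ra r.val) (rb r.val) - M (rb r.val) (ra r.val)) := by
  unfold coordF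
  have h : ∀ p q : I8, ((cz (Sum.inr r) p q : ℤ) : F) * M p q =
      (if p = ra r.val ∧ q = rb r.val then ((eps r.val : ℤ) : F) * M p q else 0) -
      (if p = rb r.val ∧ q = ra r.val then ((eps r.val : ℤ) : F) * M p q else 0) := by
    intro p q
    show ((eps r.val * ((if p = ra r.val ∧ q = rb r.val then 1 else 0) -
      (if p = rb r.val ∧ q = ra r.val then 1 else 0)) : ℤ) : F) * M p q = _
    split_ifs <;> simp
  simp only [h, Finset.sum_sub_distrib]
  rw [sum2_ite, sum2_ite]
  ring

theorem coordF_cart (M : Matrix I8 I8 F) (i : Fin chevD4.rank) :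
    coordF M (Sum.inl i) = ((cartL i.val).map fun e => ((e.1 : ℤ) : F) * M e.2 (op e.2)).sum := by
  unfold coordF
  have h : ∀ p : I8, ∑ q, ((cz (Sum.inl i) p q : ℤ) : F) * M p q =
      ((((cartL i.val).map fun e => if e.2 = p then e.1 else 0).sum : ℤ) : F) * M p (op p) := by
    intro p
    rw [Finset.sum_eq_single (op p)]
    · show ((if op p = op p then _ else 0 : ℤ) : F) * _ = _
      rw [if_pos rfl]
    · intro q _ hq
      show ((if q = op p then _ else 0 : ℤ) : F) * _ = _
      rw [if_neg hq]; simp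
    · intro h; exact absurd (Finset.mem_univ _) h
  simp only [h]
  generalize cartL i.val = L
  induction L with
  | nil => simp
  | cons e L ih =>
    simp only [List.map_cons, List.sum_cons, Int.cast_add, add_mul, Finset.sum_add_distrib, ih]
    congr 1
    rw [Finset.sum_eq_single e.2]
    · simp
    · intro p _ hp
      rw [if_neg (Ne.symm hp)]; simp
    · intro h; exact absurd (Finset.mem_univ _) h

theorem tM_eq (M : Matrix I8 I8 F) : tM M = M (dec 0) (dec 4) + M (dec 1) (dec 5) + M (dec 2) (dec 6) + M (dec 3) (dec 7) := by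
  unfold tM
  rw [Fin.sum_univ_four]
  rfl

theorem bM_eq (M : Matrix I8 I8 F) : bM M = M (dec 0) (dec 4) + M (dec 1) (dec 5) + M (dec 2) (dec 6) + M (dec 3) (dec 7)
    + (M (dec 4) (dec 0) + M (dec 5) (dec 1) + M (dec 6) (dec 2) + M (dec 7) (dec 3)) := by
  unfold bM
  rw [Fintype.sum_sum_type, Fin.sum_univ_four, Fin.sum_univ_four]
  rfl


theorem op_dec : op (dec 0) = dec 4 ∧ op (dec 1) = dec 5 ∧ op (dec 2) = dec 6 ∧ op (dec 3) = dec 7 ∧
    op (dec 4) = dec 0 ∧ op (dec 5) = dec 1 ∧ op (dec 6) = dec 2 ∧ op (dec 7) = dec 3 := by decide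

theorem coordF_c0 (M : Matrix I8 I8 F) (i : Fin chevD4.rank) (hi : i.val = 0) :
    coordF M (Sum.inl i) = M (dec 0) (dec 4) - M (dec 4) (dec 0) := by
  obtain ⟨h0, h1, h2, h3, h4, h5, h6, h7⟩ := op_dec
  rw [coordF_cart, hi]
  simp [cartL, h0, h1, h2, h3, h4, h5, h6, h7]
  ring

theorem coordF_c1 (M : Matrix I8 I8 F) (i : Fin chevD4.rank) (hi : i.val = 1) :
    coordF M (Sum.inl i) = M (dec 0) (dec 4) - M (dec 4) (dec 0) + (M (dec 1) (dec 5) - M (dec 5) (dec 1)) := by
  obtain ⟨h0, h1, h2, h3, h4, h5, h6, h7⟩ := op_dec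
  rw [coordF_cart, hi]
  simp [cartL, h0, h1, h2, h3, h4, h5, h6, h7]
  ring

theorem coordF_c2 (M : Matrix I8 I8 F) (i : Fin chevD4.rank) (hi : i.val = 2) :
    coordF M (Sum.inl i) = M (dec 0) (dec 4) + M (dec 1) (dec 5) + M (dec 2) (dec 6) + M (dec 7) (dec 3) := by
  obtain ⟨h0, h1, h2, h3, h4, h5, h6, h7⟩ := op_dec
  rw [coordF_cart, hi]
  simp [cartL, h0, h1, h2, h3, h4, h5, h6, h7]
  ring

theorem coordF_c3 (M : Matrix I8 I8 F) (i : Fin chevD4.rank) (hi : i.val = 3) :
    coordF M (Sum.inl i) = M (dec 0) (dec 4) + M (dec 1) (dec 5) + M (dec 2) (dec 6) + M (dec 3) (dec 7) := by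
  obtain ⟨h0, h1, h2, h3, h4, h5, h6, h7⟩ := op_dec
  rw [coordF_cart, hi]
  simp [cartL, h0, h1, h2, h3, h4, h5, h6, h7]
  ring

theorem fin4_cases (i : Fin chevD4.rank) : i.val = 0 ∨ i.val = 1 ∨ i.val = 2 ∨ i.val = 3 := by
  have : i.val < 4 := i.isLt
  omega

theorem sym_apply {M : Matrix I8 I8 F} (hM : Mᵀ = M) (x y : I8) : M x y = M y x := by
  have := congrFun (congrFun hM y) x
  rwa [Matrix.transpose_apply] at this

/-- coordinates vanish on `Sym₀` -/
theorem coordF_of_IsS0 {M : Matrix I8 I8 F} (hM : IsS0 M) (i : Idx) : coordF M i = 0 := by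
  have ht := hM.2
  rw [tM_eq] at ht
  rcases i with i | r
  · rcases fin4_cases i with h | h | h | h
    · rw [coordF_c0 M i h, sym_apply hM.1 (dec 4) (dec 0), sub_self]
    · rw [coordF_c1 M i h, sym_apply hM.1 (dec 4) (dec 0), sym_apply hM.1 (dec 5) (dec 1), sub_self, sub_self,
        add_zero]
    · rw [coordF_c2 M i h, sym_apply hM.1 (dec 7) (dec 3), ht]
    · rw [coordF_c3 M i h, ht]
  · rw [coordF_root, sym_apply hM.1 (rb r.val) (ra r.val), sub_self, mul_zero]

theorem all_dec (P : I8 → Prop) (h : ∀ n < 8, P (dec n)) : ∀ a, P a := by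
  intro a
  rcases a with i | i
  · have := h i.val (by omega)
    have e : dec i.val = Sum.inl i := by
      fin_cases i <;> rfl
    rwa [e] at this
  · have := h (i.val + 4) (by omega)
    have e : dec (i.val + 4) = Sum.inr i := by
      fin_cases i <;> rfl
    rwa [e] at this

theorem eps_ne_zero (r : Fin chevD4.nroots) : ((eps r.val : ℤ) : F) ≠ 0 := by
  intro h
  have h1 := eps_sq r
  have h2 : ((eps r.val * eps r.val : ℤ) : F) = 1 := by rw [h1]; simp
  rw [Int.cast_mul, h, zero_mul] at h2
  exact zero_ne_one h2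

/-- a matrix in `ker b` all of whose coordinates vanish lies in `Sym₀` -/
theorem IsS0_of_coordF {M : Matrix I8 I8 F} (hb : bM M = 0) (hc : ∀ i, coordF M i = 0) : IsS0 M := by
  have c0 := hc (Sum.inl ⟨0, by decide⟩)
  have c1 := hc (Sum.inl ⟨1, by decide⟩)
  have c2 := hc (Sum.inl ⟨2, by decide⟩)
  have c3 := hc (Sum.inl ⟨3, by decide⟩)
  rw [coordF_c0 M _ rfl] at c0
  rw [coordF_c1 M _ rfl] at c1
  rw [coordF_c2 M _ rfl] at c2
  rw [coordF_c3 M _ rfl] at c3
  rw [bM_eq] at hb
  obtain ⟨h0, h1, h2, h3, h4, h5, h6, h7⟩ := op_dec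
  have hopp : ∀ a, M a (op a) = M (op a) a := by
    apply all_dec
    intro n hn
    interval_cases n
    · rw [h0]; linear_combination c0
    · rw [h1]; linear_combination c1 - c0
    · rw [h2]; linear_combination c2 + c3 - hb - c1
    · rw [h3]; linear_combination c3 - c2
    · rw [h4]; linear_combination -c0
    · rw [h5]; linear_combination c0 - c1
    · rw [h6]; linear_combination hb + c1 - c2 - c3
    · rw [h7]; linear_combination c2 - c3
  refine ⟨?_, ?_⟩
  · ext x y
    rw [Matrix.transpose_apply]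
    by_cases hxy : y = x
    · rw [hxy]
    by_cases hxy' : y = op x
    · rw [hxy', hopp]
    obtain ⟨r, hr | hr⟩ := exists_root y x hxy hxy'
    · have := hc (Sum.inr r)
      rw [coordF_root, hr.1, hr.2] at this
      have h2 := (mul_eq_zero.1 this).resolve_left (eps_ne_zero r)
      exact sub_eq_zero.1 h2
    · have := hc (Sum.inr r)
      rw [coordF_root, hr.1, hr.2] at this
      have h2 := (mul_eq_zero.1 this).resolve_left (eps_ne_zero r)
      exact (sub_eq_zero.1 h2).symm
  · rw [tM_eq]; exact c3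

theorem bM_add (M N : Matrix I8 I8 F) : bM (M + N) = bM M + bM N := by
  unfold bM; simp [Finset.sum_add_distrib]

theorem bM_sub (M N : Matrix I8 I8 F) : bM (M - N) = bM M - bM N := by
  unfold bM; simp [Finset.sum_sub_distrib]

theorem bM_smul (t : F) (M : Matrix I8 I8 F) : bM (t • M) = t * bM M := by
  unfold bM; rw [Finset.mul_sum]; rfl

theorem bM_sum {ι : Type*} (s : Finset ι) (f : ι → Matrix I8 I8 F) : bM (∑ k ∈ s, f k) = ∑ k ∈ s, bM (f k) := by
  classical
  induction s using Finset.induction_on with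
  | empty => simp [bM]
  | insert a s ha ih => rw [Finset.sum_insert ha, Finset.sum_insert ha, bM_add, ih]

theorem bM_single (p q : I8) (c : F) : bM (single p q c) = if q = op p then c else 0 := by
  unfold bM
  rw [Finset.sum_eq_single p]
  · split_ifs with h
    · rw [h, single_apply_same]
    · rw [single_apply_of_ne _ _ _ _ _ (fun hh => h hh.2)]
  · intro x _ hx
    rw [single_apply_of_ne _ _ _ _ _ (fun hh => hx hh.1.symm)]
  · intro h; exact absurd (Finset.mem_univ _) h

/-- `b` of a sparse matrix -/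
def bS (l : List (ℤ × I8 × I8)) : ℤ := (l.map fun e => if e.2.2 = op e.2.1 then e.1 else 0).sum

theorem bM_evS (l : List (ℤ × I8 × I8)) : bM (evS l : Matrix I8 I8 F) = ((bS l : ℤ) : F) := by
  induction l with
  | nil => simp [evS_nil, bM, bS]
  | cons e l ih =>
    rw [evS_cons, bM_add, ih, bM_single]
    unfold bS
    simp only [List.map_cons, List.sum_cons, Int.cast_add]
    split_ifs <;> simp

theorem bS_repS : ∀ j : Idx, bS (repS j) = 0 := by decide

theorem bM_rep (j : Idx) : bM (rep j : Matrix I8 I8 F) = 0 := by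
  unfold rep
  rw [bM_evS, bS_repS]; simp

theorem coordF_sum {ι : Type*} (s : Finset ι) (f : ι → Matrix I8 I8 F) (i : Idx) :
    coordF (∑ k ∈ s, f k) i = ∑ k ∈ s, coordF (f k) i := by
  have := congrFun (map_sum (coordL (F := F)) f s) i
  simpa [coordL_apply] using this

/-- the fundamental decomposition: a matrix in `ker b` is its coordinate combination of the
representatives modulo `Sym₀` -/
theorem IsS0_sub_sum {M : Matrix I8 I8 F} (hb : bM M = 0) :
    IsS0 (M - ∑ k : Idx, coordF M k • rep k) := by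
  apply IsS0_of_coordF
  · rw [bM_sub, hb, bM_sum]
    simp [bM_smul, bM_rep]
  · intro i
    rw [coordF_sub, coordF_sum]
    simp only [coordF_smul, coordF_rep]
    simp

/-- the matrix of `g` on the module, in the coordinates -/
def Rmat (g : Matrix I8 I8 F) : Matrix Idx Idx F := Matrix.of fun i j => coordF (act g (rep j)) i

theorem Rmat_apply (g : Matrix I8 I8 F) (i j : Idx) : Rmat g i j = coordF (act g (rep j)) i := rfl

theorem Rmat_one : Rmat (1 : Matrix I8 I8 F) = 1 := by
  ext i j
  rw [Rmat_apply, act_one, coordF_rep, Matrix.one_apply]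

theorem Rmat_mul {g h : GL I8 F} (hg : g ∈ O8 F) (hh : h ∈ O8 F) :
    Rmat (g.val * h.val) = Rmat g.val * Rmat h.val := by
  ext i j
  rw [Rmat_apply, act_mul, Matrix.mul_apply]
  have hb : bM (act h.val (rep j)) = 0 := by rw [bM_act hh, bM_rep]
  have hS := IsS0_sub_sum hb
  have hS' := IsS0_act hg hS
  have h0 := coordF_of_IsS0 hS' i
  rw [act_sub, coordF_sub, sub_eq_zero] at h0
  rw [h0, act_sum, coordF_sum]
  apply Finset.sum_congr rfl
  intro k _
  rw [act_smul, coordF_smul, Rmat_apply, Rmat_apply, mul_comm]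

/-- the representation of `O₈⁺(F)` on the 28-dimensional module -/
noncomputable def rho : ↥(O8 F) →* GL Idx F :=
  MonoidHom.toHomUnits
    { toFun := fun g => Rmat g.val.val
      map_one' := Rmat_one
      map_mul' := fun g h => Rmat_mul g.2 h.2 }

theorem rho_val (g : ↥(O8 F)) : ((rho g : GL Idx F) : Matrix Idx Idx F) = Rmat g.val.val := rfl

end field

end Cfsg.Agent.Lib.Helper25.D4
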