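import Cfsg.Agent.Lib.Helper25.D4C0

set_option autoImplicit false

/-!
# D4C: the root elements of `O₈⁺(F)` act on the 28-dimensional module by the Chevalley matrices `x_r(t)`
-/

namespace Cfsg.Agent.Lib.Helper25.D4

open Matrix Cfsg Cfsg.Lie

section field

variable {F : Type*} [Field F]

/-- the matrix `X_r` -/
def XZ (x : ℤ × I8 × I8) : Matrix I8 I8 F := ((x.1 : ℤ) : F) • Xm x.2.1 x.2.2

theorem evS_flatMap (f : ℤ × I8 × I8 → List (ℤ × I8 × I8)) (l : List (ℤ × I8 × I8)) :
    (evS (l.flatMap f) : Matrix I8 I8 F) = (l.map fun e => (evS (f e) : Matrix I8 I8 F)).sum := by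
  induction l with
  | nil => simp [evS_nil]
  | cons e l ih => rw [List.flatMap_cons, evS_append, ih]; simp

theorem evS_eq_sum (l : List (ℤ × I8 × I8)) :
    (evS l : Matrix I8 I8 F) = (l.map fun e => single e.2.1 e.2.2 ((e.1 : ℤ) : F)).sum := rfl

theorem evS_lmulE (x e : ℤ × I8 × I8) :
    (evS (lmulE x e) : Matrix I8 I8 F) = XZ x * single e.2.1 e.2.2 ((e.1 : ℤ) : F) := by
  unfold lmulE XZ Xm
  rw [evS_append, Matrix.smul_mul, Matrix.sub_mul]
  have key : ∀ i j k l : I8, ∀ c : F, (single i j (1 : F) * single k l c : Matrix I8 I8 F) =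
      if j = k then single i l c else 0 := by
    intro i j k l c
    split_ifs with h
    · subst h; rw [single_mul_single_same, one_mul]
    · exact single_mul_single_of_ne _ _ _ _ h _
  rw [key, key]
  split_ifs <;> simp [evS_cons, evS_nil, smul_sub, smul_single, sub_eq_add_neg, single_neg]

theorem evS_rmulE (x e : ℤ × I8 × I8) :
    (evS (rmulE x e) : Matrix I8 I8 F) = single e.2.1 e.2.2 ((e.1 : ℤ) : F) * (XZ x)ᵀ := by
  unfold rmulE XZ Xm
  rw [evS_append, Matrix.transpose_smul, Matrix.mul_smul, Matrix.transpose_sub, Matrix.mul_sub,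
    transpose_single, transpose_single]
  have key : ∀ i j k l : I8, ∀ c : F, (single i j c * single k l (1 : F) : Matrix I8 I8 F) =
      if j = k then single i l c else 0 := by
    intro i j k l c
    split_ifs with h
    · subst h; rw [single_mul_single_same, mul_one]
    · exact single_mul_single_of_ne _ _ _ _ h _
  rw [key, key]
  split_ifs <;> simp [evS_cons, evS_nil, smul_sub, smul_single, sub_eq_add_neg, single_neg]

theorem evS_lmul (x : ℤ × I8 × I8) (l : List (ℤ × I8 × I8)) :
    (evS (lmul x l) : Matrix I8 I8 F) = XZ x * evS l := by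
  unfold lmul
  rw [evS_flatMap, evS_eq_sum]
  induction l with
  | nil => simp
  | cons e l ih =>
    rw [List.map_cons, List.sum_cons, List.map_cons, List.sum_cons, Matrix.mul_add, ← ih, evS_lmulE]

theorem evS_rmul (x : ℤ × I8 × I8) (l : List (ℤ × I8 × I8)) :
    (evS (rmul x l) : Matrix I8 I8 F) = evS l * (XZ x)ᵀ := by
  unfold rmul
  rw [evS_flatMap, evS_eq_sum]
  induction l with
  | nil => simp
  | cons e l ih =>
    rw [List.map_cons, List.sum_cons, List.map_cons, List.sum_cons, Matrix.add_mul, ← ih, evS_rmulE]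

/-- the root element of `O₈⁺(F)` attached to the root `r` -/
def Eroot (r : Fin chevD4.nroots) (t : F) : GL I8 F :=
  Eab (ra r.val) (rb r.val) (rootPair_ok r).1 (((eps r.val : ℤ) : F) * t)

theorem Eroot_val (r : Fin chevD4.nroots) (t : F) :
    ((Eroot r t : GL I8 F) : Matrix I8 I8 F) = 1 + t • XZ (xs r.val) := by
  unfold Eroot XZ xs
  rw [Eab_val, smul_smul, mul_comm]

theorem act_one_add (X M : Matrix I8 I8 F) (t : F) :
    act (1 + t • X) M = M + t • (X * M + M * Xᵀ) + (t ^ 2) • (X * M * Xᵀ) := by
  unfold act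
  have e : ∀ A B : Matrix I8 I8 F, (1 + A) * M * (1 + B) = M + (A * M + M * B) + A * M * B := by
    intro A B; noncomm_ring
  rw [Matrix.transpose_add, Matrix.transpose_one, Matrix.transpose_smul, e, Matrix.smul_mul, Matrix.mul_smul,
    Matrix.smul_mul, Matrix.mul_smul, smul_smul, ← smul_add, pow_two]

theorem Rmat_Eroot_apply (r : Fin chevD4.nroots) (t : F) (i j : Idx) :
    Rmat ((Eroot r t : GL I8 F) : Matrix I8 I8 F) i j =
      (if i = j then 1 else 0) + t * ((coordS (D1 r.val j) i : ℤ) : F) +
        t ^ 2 * ((coordS (D2 r.val j) i : ℤ) : F) := by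
  rw [Rmat_apply, Eroot_val, act_one_add, coordF_add, coordF_add, coordF_smul, coordF_smul, coordF_rep]
  have h1 : (XZ (xs r.val) * rep j + rep j * (XZ (xs r.val))ᵀ : Matrix I8 I8 F) = evS (D1 r.val j) := by
    unfold D1 rep
    rw [evS_append, evS_lmul, evS_rmul]
  have h2 : (XZ (xs r.val) * rep j * (XZ (xs r.val))ᵀ : Matrix I8 I8 F) = evS (D2 r.val j) := by
    unfold D2 rep
    rw [evS_rmul, evS_lmul]
  rw [h1, h2, coordF_evS, coordF_evS]

theorem chain_sum_eq (t : F) (L : List (ℕ × ℤ)) (h : ∀ km ∈ L, km.1 = 1) :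
    (L.map fun km => ((km.2 : ℤ) : F) * t ^ km.1).sum = (((L.map (·.2)).sum : ℤ) : F) * t := by
  induction L with
  | nil => simp
  | cons e L ih =>
    have he : e.1 = 1 := h e (List.mem_cons_self)
    have hL : ∀ km ∈ L, km.1 = 1 := fun km hk => h km (List.mem_cons_of_mem _ hk)
    simp only [List.map_cons, List.sum_cons, ih hL, he, pow_one, Int.cast_add, add_mul]

theorem xMat_eq_xP (r : Fin chevD4.nroots) (t : F) (row col : Idx) :
    chevD4.xMat F r t row col = (((xP r row col).1 : ℤ) : F) + t * (((xP r row col).2.1 : ℤ) : F) +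
      t ^ 2 * (((xP r row col).2.2 : ℤ) : F) := by
  unfold ChevalleyDatum.xMat xP
  rcases col with i | s
  · rcases row with i' | u
    · simp only [Matrix.of_apply]
      split_ifs <;> simp
    · simp only [Matrix.of_apply]
      split_ifs <;> simp [mul_comm]
  · by_cases hsr : s = r
    · rcases row with i' | u
      · simp only [Matrix.of_apply, hsr, if_true]
        simp
      · simp only [Matrix.of_apply, hsr, if_true]
        split_ifs <;> simp
    · by_cases hneg : s.val = chevD4.negIdx.getD r.val 0
      · rcases row with i' | u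
        · simp only [Matrix.of_apply, hsr, if_false, hneg, if_true]
          simp [mul_comm]
        · simp only [Matrix.of_apply, hsr, if_false, hneg, if_true]
          split_ifs <;> simp
      · rcases row with i' | u
        · simp only [Matrix.of_apply, hsr, if_false, hneg]
          simp
        · simp only [Matrix.of_apply, hsr, if_false, hneg]
          rw [chain_sum_eq t _ (chain_exp_one r s u)]
          split_ifs <;> simp [mul_comm]

/-- the root elements of `O₈⁺(F)` are represented by the Chevalley matrices -/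
theorem Rmat_Eroot (r : Fin chevD4.nroots) (t : F) :
    Rmat ((Eroot r t : GL I8 F) : Matrix I8 I8 F) = chevD4.xMat F r t := by
  ext i j
  rw [Rmat_Eroot_apply, xMat_eq_xP, ← check_all r i j]
  simp only [Int.cast_ite, Int.cast_one, Int.cast_zero]

end field

end Cfsg.Agent.Lib.Helper25.D4
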