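import Cfsg.Agent.Lib.Helper25.D4B

set_option autoImplicit false

/-!
# D4C0: sparse evaluator and the table check for D4C
-/

namespace Cfsg.Agent.Lib.Helper25.D4

open Matrix Cfsg Cfsg.Lie

/-- the sparse description `(ε, a, b)` of `X_r = ε (E_{a b'} - E_{b a'})` -/
def xs (r : ℕ) : ℤ × I8 × I8 := (eps r, ra r, rb r)

def lmulE (x : ℤ × I8 × I8) (e : ℤ × I8 × I8) : List (ℤ × I8 × I8) :=
  (if op x.2.2 = e.2.1 then [(x.1 * e.1, x.2.1, e.2.2)] else []) ++
    (if op x.2.1 = e.2.1 then [(-(x.1 * e.1), x.2.2, e.2.2)] else [])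

def rmulE (x : ℤ × I8 × I8) (e : ℤ × I8 × I8) : List (ℤ × I8 × I8) :=
  (if e.2.2 = op x.2.2 then [(x.1 * e.1, e.2.1, x.2.1)] else []) ++
    (if e.2.2 = op x.2.1 then [(-(x.1 * e.1), e.2.1, x.2.2)] else [])

def lmul (x : ℤ × I8 × I8) (l : List (ℤ × I8 × I8)) : List (ℤ × I8 × I8) := l.flatMap (lmulE x)
def rmul (x : ℤ × I8 × I8) (l : List (ℤ × I8 × I8)) : List (ℤ × I8 × I8) := l.flatMap (rmulE x)

/-- first order term of `x_r(t)` on the column `j` -/
def D1 (r : ℕ) (j : Idx) : List (ℤ × I8 × I8) := lmul (xs r) (repS j) ++ rmul (xs r) (repS j)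
/-- second order term of `x_r(t)` on the column `j` -/
def D2 (r : ℕ) (j : Idx) : List (ℤ × I8 × I8) := rmul (xs r) (lmul (xs r) (repS j))

/-- the polynomial coefficients (of `1, t, t²`) of the entries of the frozen `x_r(t)` -/
def xP (r : Fin chevD4.nroots) (row col : Idx) : ℤ × ℤ × ℤ :=
  match col with
  | Sum.inl i =>
    (match row with
     | Sum.inl i' => (if i' = i then 1 else 0, 0, 0)
     | Sum.inr u => (0, if u = r then - ((chevD4.cartanSR.getD i.val #[]).getD r.val 0) else 0, 0))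
  | Sum.inr s =>
    if s = r then (match row with | Sum.inr u => (if u = r then 1 else 0, 0, 0) | Sum.inl _ => (0, 0, 0))
    else if s.val = chevD4.negIdx.getD r.val 0 then
      (match row with
       | Sum.inl i => (0, (chevD4.coroot.getD r.val #[]).getD i.val 0, 0)
       | Sum.inr u => (if u = s then 1 else 0, 0, if u = s then 0 else if u = r then -1 else 0))
    else
      (match row with
       | Sum.inl _ => (0, 0, 0)
       | Sum.inr u => (if u = s then 1 else 0, ((chevD4.chainCoeff r.val s.val u.val).map (·.2)).sum, 0))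

set_option maxRecDepth 100000 in
theorem chain_exp_one : ∀ r s u : Fin chevD4.nroots, ∀ km ∈ chevD4.chainCoeff r.val s.val u.val, km.1 = 1 := by
  decide +kernel

set_option maxRecDepth 100000 in
theorem check_all : ∀ r : Fin chevD4.nroots, ∀ i j : Idx,
    ((if i = j then 1 else 0 : ℤ), coordS (D1 r.val j) i, coordS (D2 r.val j) i) = xP r i j := by
  decide +kernel

end Cfsg.Agent.Lib.Helper25.D4
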