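import Cfsg.Agent.Lib.Helper25.D4A

set_option autoImplicit false

/-!
# D4D: `Ω₈⁺(F)` is generated by the root elements, for an arbitrary field `F`
-/

namespace Cfsg.Agent.Lib.Helper25.D4

open Matrix
open scoped commutatorElement

section field

variable {F : Type*} [Field F]

/-- the subgroup generated by the root elements -/
def E0 (F : Type*) [Field F] : Subgroup (GL I8 F) :=
  Subgroup.closure {g | ∃ (a b : I8) (h : a ≠ op b) (t : F), g = Eab a b h t}

theorem Eab_mem_E0 (a b : I8) (h : a ≠ op b) (t : F) : Eab a b h t ∈ E0 F :=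
  Subgroup.subset_closure ⟨a, b, h, t, rfl⟩

theorem Om8_le_O8 : Om8 F ≤ O8 F := by
  rintro g ⟨x, _, rfl⟩
  exact x.2

theorem E0_le_Om8 : E0 F ≤ Om8 F := by
  unfold E0
  rw [Subgroup.closure_le]
  rintro g ⟨a, b, h, t, rfl⟩
  exact Eab_mem_Om8 a b h t

theorem E0_le_O8 : E0 F ≤ O8 F := E0_le_Om8.trans Om8_le_O8

/-- the level of a basis index -/
def lev (c : I8) : ℕ := Sum.elim Fin.val Fin.val c

@[simp] theorem lev_op (c : I8) : lev (op c) = lev c := by
  rcases c with i | i <;> rfl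

theorem lev_lt (c : I8) : lev c < 4 := by
  rcases c with i | i <;> exact i.isLt

theorem eq_or_eq_op_of_lev {c q : I8} (h : lev c = lev q) : c = q ∨ c = op q := by
  rcases c with i | i <;> rcases q with j | j
  · left; congr 1; exact Fin.ext h
  · right; show _ = Sum.inl j; congr 1; exact Fin.ext h
  · right; show _ = Sum.inr j; congr 1; exact Fin.ext h
  · left; congr 1; exact Fin.ext h

/-- the stabilizer of the basis vectors of level `< k` -/
def Stab (F : Type*) [Field F] (k : ℕ) : Subgroup (GL I8 F) where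
  carrier := {g | ∀ c, lev c < k → g.val *ᵥ (ev c : I8 → F) = ev c}
  mul_mem' {g h} hg hh := by
    intro c hc
    rw [Units.val_mul, ← Matrix.mulVec_mulVec, hh c hc, hg c hc]
  one_mem' := by
    intro c _
    rw [Units.val_one, Matrix.one_mulVec]
  inv_mem' {g} hg := by
    intro c hc
    have h1 := hg c hc
    have h2 : (g⁻¹).val *ᵥ (g.val *ᵥ (ev c : I8 → F)) = ev c := by
      rw [Matrix.mulVec_mulVec, ← Units.val_mul, inv_mul_cancel, Units.val_one, Matrix.one_mulVec]
    rwa [h1] at h2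

theorem mem_Stab {k : ℕ} {g : GL I8 F} :
    g ∈ Stab F k ↔ ∀ c, lev c < k → g.val *ᵥ (ev c : I8 → F) = ev c := Iff.rfl

theorem Stab_zero (g : GL I8 F) : g ∈ Stab F 0 := fun c hc => absurd hc (Nat.not_lt_zero _)

/-- an isometry fixing `e_{c'}` preserves the `c`-coordinate of every vector -/
theorem coord_fixed {g : GL I8 F} (hg : g ∈ O8 F) {c : I8} (hc : g.val *ᵥ (ev (op c) : I8 → F) = ev (op c))
    (x : I8 → F) : (g.val *ᵥ x) c = x c := by
  have h1 : bil (g.val *ᵥ x) (g.val *ᵥ (ev (op c) : I8 → F)) = bil x (ev (op c)) := bil_of_O8 hg _ _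
  rw [hc, bil_ev_right, bil_ev_right, op_op] at h1
  exact h1

theorem coord_of_Stab {k : ℕ} {g : GL I8 F} (hg : g ∈ O8 F) (hs : g ∈ Stab F k) {c : I8} (hc : lev c < k)
    (x : I8 → F) : (g.val *ᵥ x) c = x c :=
  coord_fixed hg (hs (op c) (by rwa [lev_op])) x

theorem Eab_mem_Stab {k : ℕ} (a b : I8) (h : a ≠ op b) (t : F) (ha : k ≤ lev a) (hb : k ≤ lev b) :
    Eab a b h t ∈ Stab F k := by
  intro c hc
  rw [Eab_mulVec]
  have h1 : (ev c : I8 → F) (op b) = 0 := by
    have : op b ≠ c := fun hh => by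
      have := lev_op b; rw [hh] at this; omega
    simp [Pi.single_apply, this]
  have h2 : (ev c : I8 → F) (op a) = 0 := by
    have : op a ≠ c := fun hh => by
      have := lev_op a; rw [hh] at this; omega
    simp [Pi.single_apply, this]
  rw [h1, h2]
  simp

/-- root elements fixing the first `k` hyperbolic pairs -/
def EF (F : Type*) [Field F] (k : ℕ) : Subgroup (GL I8 F) := E0 F ⊓ Stab F k

theorem Eab_mem_EF {k : ℕ} (a b : I8) (h : a ≠ op b) (t : F) (ha : k ≤ lev a) (hb : k ≤ lev b) :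
    Eab a b h t ∈ EF F k := ⟨Eab_mem_E0 a b h t, Eab_mem_Stab a b h t ha hb⟩

theorem EF_le_O8 (k : ℕ) : EF F k ≤ O8 F := inf_le_left.trans E0_le_O8

theorem val_mul_mulVec (g h : GL I8 F) (x : I8 → F) : (g * h).val *ᵥ x = g.val *ᵥ (h.val *ᵥ x) := by
  rw [Units.val_mul, Matrix.mulVec_mulVec]

/-- elimination of the coordinates in `S`, given a pivot coordinate `x q = 1` -/
theorem elim_step (k : ℕ) (q : I8) (hq : lev q = k) (x : I8 → F) (hx : x q = 1) (S : Finset I8)
    (hS : ∀ b ∈ S, k < lev b) :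
    ∃ h ∈ EF F k, h.val *ᵥ (ev (op q) : I8 → F) = ev (op q) ∧ (h.val *ᵥ x) q = 1 ∧
      (∀ b ∈ S, (h.val *ᵥ x) b = 0) ∧ ∀ c, c ∉ S → c ≠ op q → (h.val *ᵥ x) c = x c := by
  classical
  induction S using Finset.induction_on with
  | empty =>
    refine ⟨1, one_mem _, by rw [Units.val_one, Matrix.one_mulVec],
      by rw [Units.val_one, Matrix.one_mulVec]; exact hx, by simp,
      fun c _ _ => by rw [Units.val_one, Matrix.one_mulVec]⟩
  | insert b S hb ih =>
    obtain ⟨h', hh', h1, h2, h3, h4⟩ := ih (fun c hc => hS c (Finset.mem_insert_of_mem hc))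
    have hkb : k < lev b := hS b (Finset.mem_insert_self _ _)
    have hbq : b ≠ q := fun hh => by rw [hh] at hkb; omega
    have hbq' : b ≠ op q := fun hh => by rw [hh, lev_op] at hkb; omega
    have hne : op q ≠ op b := fun hh => hbq (op_injective hh).symm
    have hqq : q ≠ op q := self_ne_op q
    set x' := h'.val *ᵥ x with hx'
    refine ⟨Eab (op q) b hne (x' b) * h', ?_, ?_, ?_, ?_, ?_⟩
    · exact mul_mem (Eab_mem_EF _ _ _ _ (by rw [lev_op]; omega) (by omega)) hh'
    · rw [val_mul_mulVec, h1, Eab_mulVec]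
      have e1 : (ev (op q) : I8 → F) (op b) = 0 := by simp [Pi.single_apply, hne.symm]
      have e2 : (ev (op q) : I8 → F) (op (op q)) = 0 := by simp [Pi.single_apply, hqq]
      rw [e1, e2]; simp
    · rw [val_mul_mulVec, Eab_mulVec_apply, if_neg hqq, if_neg hbq.symm, ← hx', h2]; simp
    · intro c hc
      rw [val_mul_mulVec, Eab_mulVec_apply, ← hx', op_op, h2]
      rcases Finset.mem_insert.1 hc with rfl | hc'
      · rw [if_neg hbq', if_pos rfl]; ring
      · have hcb : c ≠ b := fun hh => hb (hh ▸ hc')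
        have hcq : c ≠ op q := fun hh => by
          have := hS c hc; rw [hh, lev_op] at this; omega
        rw [if_neg hcq, if_neg hcb, h3 c hc']; ring
    · intro c hc hcq
      have hcb : c ≠ b := fun hh => hc (hh ▸ Finset.mem_insert_self _ _)
      have hcS : c ∉ S := fun hh => hc (Finset.mem_insert_of_mem hh)
      rw [val_mul_mulVec, Eab_mulVec_apply, if_neg hcq, if_neg hcb, ← hx', h4 c hcS hcq]; ring

theorem Q8_eq_of_support (z : I8 → F) (q : I8) (hz : ∀ c, c ≠ q → c ≠ op q → z c = 0) :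
    Q8 F z = z q * z (op q) := by
  rw [Q8_def]
  rcases q with i | i
  · rw [Finset.sum_eq_single i]
    · rfl
    · intro j _ hj
      rw [hz (Sum.inl j) (by simpa using hj) (by simp), zero_mul]
    · intro h; exact absurd (Finset.mem_univ _) h
  · rw [Finset.sum_eq_single i]
    · rw [mul_comm]; rfl
    · intro j _ hj
      rw [hz (Sum.inl j) (by simp) (by simpa using hj), zero_mul]
    · intro h; exact absurd (Finset.mem_univ _) h

/-- a singular vector with pivot `x q = 1`, supported on levels `≥ k`, is moved to `e_q` -/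
theorem elim_final (k : ℕ) (q : I8) (hq : lev q = k) (x : I8 → F) (hx : x q = 1) (hQ : Q8 F x = 0)
    (hlow : ∀ c, lev c < k → x c = 0) :
    ∃ h ∈ EF F k, h.val *ᵥ (ev (op q) : I8 → F) = ev (op q) ∧ h.val *ᵥ x = ev q := by
  classical
  obtain ⟨h, hh, h1, h2, h3, h4⟩ := elim_step k q hq x hx (Finset.univ.filter fun b => k < lev b)
    (fun b hb => (Finset.mem_filter.1 hb).2)
  refine ⟨h, hh, h1, ?_⟩
  set z := h.val *ᵥ x with hz
  have hzsupp : ∀ c, c ≠ q → c ≠ op q → z c = 0 := by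
    intro c hcq hcq'
    rcases lt_trichotomy (lev c) k with hlt | heq | hgt
    · rw [h4 c (fun hh => by have := (Finset.mem_filter.1 hh).2; omega) hcq', hlow c hlt]
    · exfalso
      rcases eq_or_eq_op_of_lev (heq.trans hq.symm) with h' | h'
      · exact hcq h'
      · exact hcq' h'
    · exact h3 c (Finset.mem_filter.2 ⟨Finset.mem_univ _, hgt⟩)
  have hQz : Q8 F z = 0 := by
    rw [hz, (mem_O8_iff h).1 (EF_le_O8 k hh), hQ]
  rw [Q8_eq_of_support z q hzsupp, h2, one_mul] at hQz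
  funext c
  by_cases hcq : c = q
  · rw [hcq, h2]; simp
  by_cases hcq' : c = op q
  · rw [hcq', hQz]; simp [Pi.single_apply, op_ne_self]
  · rw [hzsupp c hcq hcq']; simp [Pi.single_apply, hcq]

/-- the top level basis index `e_4` -/
def c3 : I8 := Sum.inl 3

theorem lev_c3 : lev c3 = 3 := rfl

/-- a nonzero singular vector supported on levels `≥ k` (`k ≤ 2`) is moved to `e_p` by root elements -/
theorem vec_to_ev (k : ℕ) (hk : k ≤ 2) (p : I8) (hp : lev p = k) (x : I8 → F) (hx0 : x ≠ 0)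
    (hQ : Q8 F x = 0) (hlow : ∀ c, lev c < k → x c = 0) :
    ∃ h ∈ EF F k, h.val *ᵥ x = ev p := by
  -- step 1: make some coordinate of higher level nonzero
  have step1 : ∃ h1 ∈ EF F k, ∃ c, k < lev c ∧ (h1.val *ᵥ x) c ≠ 0 := by
    by_cases hex : ∃ c, k < lev c ∧ x c ≠ 0
    · obtain ⟨c, hc, hxc⟩ := hex
      exact ⟨1, one_mem _, c, hc, by rwa [Units.val_one, Matrix.one_mulVec]⟩
    · push_neg at hex
      have hc3p : c3 ≠ p := fun hh => by have := lev_c3; rw [hh] at this; omega
      have hc3p' : c3 ≠ op p := fun hh => by have := lev_c3; rw [hh, lev_op] at this; omega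
      have hxc3 : x c3 = 0 := hex c3 (by rw [lev_c3]; omega)
      have hxc3' : x (op c3) = 0 := hex (op c3) (by rw [lev_op, lev_c3]; omega)
      by_cases hxp' : x (op p) ≠ 0
      · refine ⟨Eab c3 p hc3p' 1, Eab_mem_EF _ _ _ _ (by rw [lev_c3]; omega) (by omega), c3,
          by rw [lev_c3]; omega, ?_⟩
        rw [Eab_mulVec_apply, if_pos rfl, if_neg hc3p, hxc3]
        simpa using hxp'
      · push_neg at hxp'
        have hxp : x p ≠ 0 := by
          intro hxp
          apply hx0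
          funext c
          rcases lt_trichotomy (lev c) k with hlt | heq | hgt
          · exact hlow c hlt
          · rcases eq_or_eq_op_of_lev (heq.trans hp.symm) with h' | h'
            · rw [h']; exact hxp
            · rw [h']; exact hxp'
          · exact hex c hgt
        have hne : c3 ≠ op (op p) := by rw [op_op]; exact hc3p
        refine ⟨Eab c3 (op p) hne 1, Eab_mem_EF _ _ _ _ (by rw [lev_c3]; omega) (by rw [lev_op]; omega), c3,
          by rw [lev_c3]; omega, ?_⟩
        rw [Eab_mulVec_apply, if_pos rfl, if_neg hc3p', hxc3, op_op]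
        simpa using hxp
  obtain ⟨h1, hh1, c, hc, hyc⟩ := step1
  set y := h1.val *ᵥ x with hy
  -- step 2: make the `p`-coordinate equal to one
  have hpc : p ≠ c := fun hh => by rw [← hh] at hc; omega
  have hpc' : p ≠ op c := fun hh => by rw [← lev_op c, ← hh] at hc; omega
  have hne2 : p ≠ op (op c) := by rw [op_op]; exact hpc
  set h2 := Eab p (op c) hne2 ((1 - y p) / y c) with hh2def
  have hh2 : h2 ∈ EF F k := Eab_mem_EF _ _ _ _ (by omega) (by rw [lev_op]; omega)
  set w := h2.val *ᵥ y with hw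
  have hwp : w p = 1 := by
    rw [hw, hh2def, Eab_mulVec_apply, if_pos rfl, if_neg hpc', op_op]
    field_simp
    ring
  have h21 : h2 * h1 ∈ EF F k := mul_mem hh2 hh1
  have hwx : w = (h2 * h1).val *ᵥ x := by rw [val_mul_mulVec]
  have hQw : Q8 F w = 0 := by
    rw [hwx, (mem_O8_iff _).1 (EF_le_O8 k h21), hQ]
  have hloww : ∀ c, lev c < k → w c = 0 := by
    intro c' hc'
    rw [hwx, coord_of_Stab (EF_le_O8 k h21) h21.2 hc', hlow c' hc']
  obtain ⟨h3, hh3, -, h3w⟩ := elim_final k p hp w hwp hQw hloww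
  refine ⟨h3 * (h2 * h1), mul_mem hh3 h21, ?_⟩
  rw [val_mul_mulVec, ← hwx, h3w]

theorem ev_ne_zero (c : I8) : (ev c : I8 → F) ≠ 0 := by
  intro h
  have := congrFun h c
  simp at this

theorem Q8_ev_one (c : I8) : Q8 F (ev c) = 0 := by
  have := Q8_ev (F := F) c 1
  rwa [one_smul] at this

theorem mulVec_ne_zero (g : GL I8 F) {x : I8 → F} (hx : x ≠ 0) : g.val *ᵥ x ≠ 0 := by
  intro h
  apply hx
  have : (g⁻¹).val *ᵥ (g.val *ᵥ x) = x := by
    rw [Matrix.mulVec_mulVec, ← Units.val_mul, inv_mul_cancel, Units.val_one, Matrix.one_mulVec]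
  rw [← this, h, Matrix.mulVec_zero]

/-- one step of the reduction: fix one more hyperbolic pair -/
theorem reduce_step (k : ℕ) (hk : k ≤ 2) (g : GL I8 F) (hg : g ∈ O8 F) (hs : g ∈ Stab F k) :
    ∃ h ∈ EF F k, h * g ∈ Stab F (k + 1) := by
  set p : I8 := Sum.inl ⟨k, by omega⟩ with hpdef
  have hp : lev p = k := rfl
  -- move `g e_p` to `e_p`
  obtain ⟨hA, hhA, hAx⟩ := vec_to_ev k hk p hp (g.val *ᵥ ev p) (mulVec_ne_zero g (ev_ne_zero p))
    (by rw [(mem_O8_iff g).1 hg, Q8_ev_one])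
    (fun c hc => by
      rw [coord_of_Stab hg hs hc]
      have : c ≠ p := fun hh => by rw [hh] at hc; omega
      simp [Pi.single_apply, this])
  set g1 := hA * g with hg1
  have hg1O : g1 ∈ O8 F := mul_mem (EF_le_O8 k hhA) hg
  have hg1S : g1 ∈ Stab F k := mul_mem hhA.2 hs
  have hg1p : g1.val *ᵥ (ev p : I8 → F) = ev p := by rw [hg1, val_mul_mulVec, hAx]
  -- move `g1 e_{p'}` to `e_{p'}` fixing `e_p`
  have hy1 : (g1.val *ᵥ (ev (op p) : I8 → F)) (op p) = 1 := by
    rw [coord_fixed hg1O (c := op p) (by rw [op_op]; exact hg1p)]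
    simp
  obtain ⟨hB, hhB, hBp, hBy⟩ := elim_final k (op p) (by rw [lev_op]; exact hp) (g1.val *ᵥ ev (op p)) hy1
    (by rw [(mem_O8_iff g1).1 hg1O, Q8_ev_one])
    (fun c hc => by
      rw [coord_of_Stab hg1O hg1S hc]
      have : c ≠ op p := fun hh => by rw [hh, lev_op] at hc; omega
      simp [Pi.single_apply, this])
  rw [op_op] at hBp
  refine ⟨hB * hA, mul_mem hhB hhA, ?_⟩
  intro c hc
  have e : hB * hA * g = hB * g1 := by rw [hg1, mul_assoc]
  rw [e, val_mul_mulVec]
  rcases Nat.lt_succ_iff_lt_or_eq.1 hc with hlt | heq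
  · rw [hg1S c hlt, hhB.2 c hlt]
  · rcases eq_or_eq_op_of_lev (heq.trans hp.symm) with h' | h'
    · rw [h', hg1p, hBp]
    · rw [h', hBy]

/-- every isometry is a root-element product times an element fixing `e_i, f_i` (`i ≤ 3`) -/
theorem exists_E0_mul_mem_Stab (g : GL I8 F) (hg : g ∈ O8 F) :
    ∃ h ∈ E0 F, h * g ∈ Stab F 3 := by
  obtain ⟨h0, hh0, hs0⟩ := reduce_step 0 (by omega) g hg (Stab_zero g)
  obtain ⟨h1, hh1, hs1⟩ := reduce_step 1 (by omega) (h0 * g) (mul_mem (EF_le_O8 0 hh0) hg) hs0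
  obtain ⟨h2, hh2, hs2⟩ := reduce_step 2 (by omega) (h1 * (h0 * g))
    (mul_mem (EF_le_O8 1 hh1) (mul_mem (EF_le_O8 0 hh0) hg)) hs1
  refine ⟨h2 * h1 * h0, mul_mem (mul_mem hh2.1 hh1.1) hh0.1, ?_⟩
  have : h2 * h1 * h0 * g = h2 * (h1 * (h0 * g)) := by group
  rw [this]
  exact hs2

end field

end Cfsg.Agent.Lib.Helper25.D4
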