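import Cfsg.Agent.Lib.Helper25.D4D

set_option autoImplicit false

/-!
# D4D2: the complement `O₂⁺` and the torus elements inside the root subgroup
-/

namespace Cfsg.Agent.Lib.Helper25.D4

open Matrix
open scoped commutatorElement

section field

variable {F : Type*} [Field F]

theorem GL_ext_mulVec {g h : GL I8 F} (H : ∀ x : I8 → F, g.val *ᵥ x = h.val *ᵥ x) : g = h :=
  Units.ext (Matrix.ext_iff_mulVec.2 H)

/-- diagonal elements -/
def diagU (μ : I8 → Fˣ) : GL I8 F where
  val := diagonal fun c => (μ c : F)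
  inv := diagonal fun c => (((μ c)⁻¹ : Fˣ) : F)
  val_inv := by
    rw [diagonal_mul_diagonal]
    simp
  inv_val := by
    rw [diagonal_mul_diagonal]
    simp

theorem diagU_mulVec (μ : I8 → Fˣ) (x : I8 → F) (c : I8) : ((diagU μ).val *ᵥ x) c = μ c * x c :=
  mulVec_diagonal _ _ _

theorem diagU_mul (μ ν : I8 → Fˣ) : diagU μ * diagU ν = diagU (μ * ν) := by
  apply GL_ext_mulVec
  intro x
  funext c
  rw [val_mul_mulVec, diagU_mulVec, diagU_mulVec, diagU_mulVec]
  simp [mul_assoc]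

theorem diagU_mem_O8 (μ : I8 → Fˣ) (hμ : ∀ c, μ (op c) = (μ c)⁻¹) : diagU μ ∈ O8 F := by
  rw [mem_O8_iff]
  intro x
  rw [Q8_def, Q8_def]
  apply Finset.sum_congr rfl
  intro i _
  rw [diagU_mulVec, diagU_mulVec]
  have := hμ (Sum.inl i)
  rw [op_inl] at this
  rw [this]
  have h0 : (μ (Sum.inl i) : F) ≠ 0 := Units.ne_zero _
  simp only [Units.val_inv_eq_inv_val]
  field_simp

/-- conjugation of root elements by diagonal isometries -/
theorem diagU_mul_Eab (μ : I8 → Fˣ) (hμ : ∀ c, μ (op c) = (μ c)⁻¹) (a b : I8) (h : a ≠ op b) (t : F) :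
    diagU μ * Eab a b h t = Eab a b h (μ a * μ b * t) * diagU μ := by
  apply GL_ext_mulVec
  intro x
  funext c
  rw [val_mul_mulVec, val_mul_mulVec, diagU_mulVec, Eab_mulVec_apply, Eab_mulVec_apply, diagU_mulVec,
    diagU_mulVec, diagU_mulVec, hμ a, hμ b]
  have ha : (μ a : F) ≠ 0 := Units.ne_zero _
  have hb : (μ b : F) ≠ 0 := Units.ne_zero _
  simp only [Units.val_inv_eq_inv_val]
  by_cases hca : c = a
  · by_cases hcb : c = b
    · subst hca; subst hcb
      simp only [if_true]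
      field_simp
    · subst hca
      simp only [if_true, if_neg hcb]
      field_simp
      ring
  · by_cases hcb : c = b
    · subst hcb
      simp only [if_true, if_neg hca]
      field_simp
      ring
    · simp only [if_neg hca, if_neg hcb]
      ring

/-- the one-parameter torus acting on `⟨e_4, f_4⟩` -/
def mu4 (α : Fˣ) : I8 → Fˣ := fun c => if c = c3 then α else if c = op c3 then α⁻¹ else 1

theorem mu4_op (α : Fˣ) (c : I8) : mu4 α (op c) = (mu4 α c)⁻¹ := by
  unfold mu4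
  by_cases h1 : c = c3
  · subst h1
    rw [if_neg (op_ne_self _), if_pos rfl, if_pos rfl]
  · by_cases h2 : c = op c3
    · subst h2
      rw [op_op, if_pos rfl, if_neg (op_ne_self _), if_pos rfl, inv_inv]
    · have h3 : op c ≠ c3 := fun h => h2 (by rw [← h, op_op])
      have h4 : op c ≠ op c3 := fun h => h1 (op_injective h)
      rw [if_neg h3, if_neg h4, if_neg h1, if_neg h2, inv_one]

def T4 (α : Fˣ) : GL I8 F := diagU (mu4 α)

theorem T4_mem_O8 (α : Fˣ) : T4 α ∈ O8 F := diagU_mem_O8 _ (mu4_op α)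

theorem T4_mul (α β : Fˣ) : (T4 α : GL I8 F) * T4 β = T4 (α * β) := by
  unfold T4
  rw [diagU_mul]
  congr 1
  funext c
  unfold mu4
  simp only [Pi.mul_apply]
  split_ifs <;> simp [mul_comm]

theorem T4_comm (α β : Fˣ) : (T4 α : GL I8 F) * T4 β = T4 β * T4 α := by
  rw [T4_mul, T4_mul, mul_comm]

theorem T4_inv (α : Fˣ) : (T4 α : GL I8 F)⁻¹ = T4 α⁻¹ := by
  rw [inv_eq_iff_mul_eq_one, T4_mul]
  apply GL_ext_mulVec
  intro x; funext c
  unfold T4
  rw [diagU_mulVec, Units.val_one, Matrix.one_mulVec]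
  unfold mu4
  split_ifs <;> simp

/-- the swap `e_4 ↔ f_4` -/
def sig : Equiv.Perm I8 := Equiv.swap c3 (op c3)

theorem sig_sig (c : I8) : sig (sig c) = c := Equiv.swap_apply_self _ _ _

theorem sig_op : ∀ c : I8, sig (op c) = op (sig c) := by decide

theorem sig_eq_iff {c a : I8} : sig c = a ↔ c = sig a := by
  constructor
  · rintro rfl; rw [sig_sig]
  · rintro rfl; rw [sig_sig]

def Sw : GL I8 F where
  val := sig.permMatrix F
  inv := sig.permMatrix F
  val_inv := by
    rw [← permMatrix_mul]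
    have : sig * sig = 1 := Equiv.swap_mul_self _ _
    rw [this, permMatrix_one]
  inv_val := by
    rw [← permMatrix_mul]
    have : sig * sig = 1 := Equiv.swap_mul_self _ _
    rw [this, permMatrix_one]

theorem Sw_mulVec (x : I8 → F) (c : I8) : ((Sw : GL I8 F).val *ᵥ x) c = x (sig c) := by
  show (sig.permMatrix F *ᵥ x) c = _
  rw [permMatrix_mulVec]
  rfl

theorem Sw_mul_self : (Sw : GL I8 F) * Sw = 1 := by
  apply GL_ext_mulVec
  intro x; funext c
  rw [val_mul_mulVec, Sw_mulVec, Sw_mulVec, sig_sig, Units.val_one, Matrix.one_mulVec]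

theorem Sw_inv : (Sw : GL I8 F)⁻¹ = Sw := by
  rw [inv_eq_iff_mul_eq_one, Sw_mul_self]

theorem Sw_mem_O8 : (Sw : GL I8 F) ∈ O8 F := by
  rw [mem_O8_iff]
  intro x
  rw [Q8_def, Q8_def, Fin.sum_univ_four, Fin.sum_univ_four]
  simp only [Sw_mulVec]
  have e0 : ∀ i : Fin 4, i ≠ 3 → sig (Sum.inl i) = Sum.inl i ∧ sig (Sum.inr i) = Sum.inr i := by decide
  have e3 : sig (Sum.inl 3) = Sum.inr 3 ∧ sig (Sum.inr 3) = Sum.inl 3 := by decide
  rw [(e0 0 (by decide)).1, (e0 0 (by decide)).2, (e0 1 (by decide)).1, (e0 1 (by decide)).2,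
    (e0 2 (by decide)).1, (e0 2 (by decide)).2, e3.1, e3.2]
  ring

/-- conjugation of root elements by the swap -/
theorem Sw_mul_Eab (a b : I8) (h : a ≠ op b) (t : F) :
    Sw * Eab a b h t = Eab (sig a) (sig b)
      (fun hh => h (by rw [← sig_op] at hh; exact sig.injective hh)) t * Sw := by
  apply GL_ext_mulVec
  intro x
  funext c
  rw [val_mul_mulVec, val_mul_mulVec, Sw_mulVec, Eab_mulVec_apply, Eab_mulVec_apply, Sw_mulVec,
    Sw_mulVec, Sw_mulVec, ← sig_op, ← sig_op, sig_sig, sig_sig]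
  simp only [sig_eq_iff]

theorem Sw_mul_T4 (α : Fˣ) : (Sw : GL I8 F) * T4 α = T4 α⁻¹ * Sw := by
  apply GL_ext_mulVec
  intro x
  funext c
  unfold T4
  rw [val_mul_mulVec, val_mul_mulVec, Sw_mulVec, diagU_mulVec, diagU_mulVec, Sw_mulVec]
  congr 2
  unfold mu4
  have hs : ∀ c : I8, (sig c = c3 ↔ c = op c3) ∧ (sig c = op c3 ↔ c = c3) := by decide
  simp only [(hs c).1, (hs c).2]
  by_cases h1 : c = c3
  · subst h1
    rw [if_neg (self_ne_op _), if_pos rfl, if_pos rfl]
  · by_cases h2 : c = op c3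
    · rw [if_pos h2, if_neg h1, if_pos h2, inv_inv]
    · rw [if_neg h2, if_neg h1, if_neg h1, if_neg h2]

end field

end Cfsg.Agent.Lib.Helper25.D4
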