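import Cfsg.Agent.Lib.Helper25.D4D2

set_option autoImplicit false

/-!
# D4D3: Weyl and torus elements as products of root elements; `T4 (ν²) ∈ E0`
-/

namespace Cfsg.Agent.Lib.Helper25.D4

open Matrix
open scoped commutatorElement

section field

variable {F : Type*} [Field F]

/-- the Weyl-type element `n_{ab}(ν) = E_{ab}(ν) E_{b'a'}(-ν⁻¹) E_{ab}(ν)` -/
def Nab (a b : I8) (h : a ≠ op b) (ν : Fˣ) : GL I8 F :=
  Eab a b h (ν : F) * Eab (op b) (op a) (fun hh => h (by rw [op_op] at hh; exact hh.symm)) (-((ν⁻¹ : Fˣ) : F)) *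
    Eab a b h (ν : F)

theorem Nab_mem_E0 (a b : I8) (h : a ≠ op b) (ν : Fˣ) : Nab a b h ν ∈ E0 F :=
  mul_mem (mul_mem (Eab_mem_E0 _ _ _ _) (Eab_mem_E0 _ _ _ _)) (Eab_mem_E0 _ _ _ _)

theorem Nab_mulVec (a b : I8) (h : a ≠ op b) (hab : a ≠ b) (ν : Fˣ) (x : I8 → F) (c : I8) :
    ((Nab a b h ν).val *ᵥ x) c =
      if c = a then (ν : F) * x (op b) else if c = b then -(ν : F) * x (op a)
      else if c = op a then ((ν⁻¹ : Fˣ) : F) * x b else if c = op b then -((ν⁻¹ : Fˣ) : F) * x a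
      else x c := by
  have hν : (ν : F) ≠ 0 := Units.ne_zero _
  have f1 : b ≠ a := hab.symm
  have f2 : op a ≠ a := op_ne_self a
  have f3 : a ≠ op a := self_ne_op a
  have f4 : op b ≠ a := fun hh => h hh.symm
  have f5 : op a ≠ b := fun hh => h (op_eq_iff.1 hh)
  have f6 : b ≠ op a := fun hh => f5 hh.symm
  have f7 : op b ≠ b := op_ne_self b
  have f8 : b ≠ op b := self_ne_op b
  have f9 : op a ≠ op b := fun hh => hab (op_injective hh)
  have f10 : op b ≠ op a := fun hh => f9 hh.symm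
  unfold Nab
  rw [val_mul_mulVec, val_mul_mulVec]
  simp only [Eab_mulVec_apply, op_op, Units.val_inv_eq_inv_val]
  by_cases h1 : c = a
  · subst h1
    simp only [if_true, if_neg hab, if_neg f3, if_neg h, if_neg f1, if_neg f4, if_neg f7, if_neg f10, if_neg f2,
      if_neg f5, if_neg f9]
    field_simp
    ring
  by_cases h2 : c = b
  · subst h2
    simp only [if_true, if_neg f1, if_neg f6, if_neg f8, if_neg hab, if_neg f4, if_neg f7, if_neg f10, if_neg f2,
      if_neg f5, if_neg f9, if_neg h1]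
    field_simp
    ring
  by_cases h3 : c = op a
  · subst h3
    simp only [if_true, if_neg f2, if_neg f5, if_neg f9, if_neg hab, if_neg f1, if_neg f4, if_neg f7, if_neg f10,
      if_neg h1, if_neg h2]
    field_simp
    ring
  by_cases h4 : c = op b
  · subst h4
    simp only [if_true, if_neg f4, if_neg f7, if_neg f10, if_neg hab, if_neg f1, if_neg f2, if_neg f5, if_neg f9,
      if_neg h1, if_neg h2, if_neg h3]
    field_simp
    ring
  · simp only [if_neg h1, if_neg h2, if_neg h3, if_neg h4]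
    ring

/-- the torus element `h_{ab}(ν) = n_{ab}(ν) n_{ab}(-1)` -/
def Hab (a b : I8) (h : a ≠ op b) (ν : Fˣ) : GL I8 F := Nab a b h ν * Nab a b h (-1)

theorem Hab_mem_E0 (a b : I8) (h : a ≠ op b) (ν : Fˣ) : Hab a b h ν ∈ E0 F :=
  mul_mem (Nab_mem_E0 _ _ _ _) (Nab_mem_E0 _ _ _ _)

def muab (a b : I8) (ν : Fˣ) : I8 → Fˣ :=
  fun c => if c = a ∨ c = b then ν else if c = op a ∨ c = op b then ν⁻¹ else 1

theorem Hab_eq (a b : I8) (h : a ≠ op b) (hab : a ≠ b) (ν : Fˣ) : Hab a b h ν = diagU (muab a b ν) := by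
  have f1 : b ≠ a := hab.symm
  have f2 : op a ≠ a := op_ne_self a
  have f3 : a ≠ op a := self_ne_op a
  have f4 : op b ≠ a := fun hh => h hh.symm
  have f5 : op a ≠ b := fun hh => h (op_eq_iff.1 hh)
  have f6 : b ≠ op a := fun hh => f5 hh.symm
  have f7 : op b ≠ b := op_ne_self b
  have f8 : b ≠ op b := self_ne_op b
  have f9 : op a ≠ op b := fun hh => hab (op_injective hh)
  have f10 : op b ≠ op a := fun hh => f9 hh.symm
  apply GL_ext_mulVec
  intro x
  funext c
  unfold Hab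
  rw [val_mul_mulVec, Nab_mulVec a b h hab, diagU_mulVec]
  simp only [Nab_mulVec a b h hab, op_op]
  unfold muab
  by_cases h1 : c = a
  · subst h1
    simp [f4, f7, f10]
  by_cases h2 : c = b
  · subst h2
    simp [f1, f2, f5, f9]
  by_cases h3 : c = op a
  · subst h3
    simp [f2, f5, f9, f1]
  by_cases h4 : c = op b
  · subst h4
    simp [f4, f7, f10, f3, hab, h]
  · simp [h1, h2, h3, h4]

theorem T4_sq_mem_E0 (ν : Fˣ) : (T4 (ν * ν) : GL I8 F) ∈ E0 F := by
  have h1 : (Sum.inl 2 : I8) ≠ op (Sum.inl 3) := by decide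
  have h2 : (Sum.inl 2 : I8) ≠ op (Sum.inr 3) := by decide
  have e : (T4 (ν * ν) : GL I8 F) =
      Hab (Sum.inl 2) (Sum.inl 3) h1 ν * (Hab (Sum.inl 2) (Sum.inr 3) h2 ν)⁻¹ := by
    rw [eq_mul_inv_iff_mul_eq, Hab_eq _ _ _ (by decide), Hab_eq _ _ _ (by decide)]
    unfold T4
    rw [diagU_mul]
    congr 1
    funext c
    unfold mu4 muab
    simp only [Pi.mul_apply]
    rcases c with i | i <;> fin_cases i <;> simp [op, c3]
  rw [e]
  exact mul_mem (Hab_mem_E0 _ _ _ _) (inv_mem (Hab_mem_E0 _ _ _ _))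

end field

end Cfsg.Agent.Lib.Helper25.D4
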