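import Cfsg.Agent.Lib.Helper25.D4D3

set_option autoImplicit false

/-!
# D4D4: `Ω₈⁺(F)` is the subgroup generated by the root elements
-/

namespace Cfsg.Agent.Lib.Helper25.D4

open Matrix
open scoped commutatorElement

section field

variable {F : Type*} [Field F]

theorem diagU_ev (μ : I8 → Fˣ) (c : I8) : (diagU μ).val *ᵥ (ev c : I8 → F) = (μ c : F) • ev c := by
  funext c'
  rw [diagU_mulVec]
  by_cases h : c' = c
  · subst h; simp
  · simp [Pi.single_apply, h]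

theorem Sw_ev (c : I8) : (Sw : GL I8 F).val *ᵥ (ev c : I8 → F) = ev (sig c) := by
  funext c'
  rw [Sw_mulVec]
  by_cases h : c' = sig c
  · subst h; simp [sig_sig]
  · have : sig c' ≠ c := fun hh => h (sig_eq_iff.1 hh)
    simp [Pi.single_apply, h, this]

theorem GL_ext_ev {g h : GL I8 F} (H : ∀ c, g.val *ᵥ (ev c : I8 → F) = h.val *ᵥ ev c) : g = h :=
  Units.ext (Matrix.ext_of_mulVec_single H)

theorem lev3_cases (c : I8) : lev c < 3 ∨ c = c3 ∨ c = op c3 := by
  have := lev_lt c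
  by_cases h : lev c < 3
  · exact Or.inl h
  · right
    exact eq_or_eq_op_of_lev (q := c3) (by rw [lev_c3]; omega)

theorem mu4_low (α : Fˣ) {c : I8} (hc : lev c < 3) : mu4 α c = 1 := by
  unfold mu4
  have h1 : c ≠ c3 := fun h => by rw [h, lev_c3] at hc; omega
  have h2 : c ≠ op c3 := fun h => by rw [h, lev_op, lev_c3] at hc; omega
  rw [if_neg h1, if_neg h2]

theorem mu4_c3 (α : Fˣ) : mu4 α c3 = α := by
  unfold mu4; rw [if_pos rfl]

theorem mu4_c3' (α : Fˣ) : mu4 α (op c3) = α⁻¹ := by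
  unfold mu4; rw [if_neg (op_ne_self _), if_pos rfl]

/-- the structure of the stabilizer of the first three hyperbolic pairs: it is `O₂⁺(F)` -/
theorem stab3_structure (d : GL I8 F) (hdO : d ∈ O8 F) (hdS : d ∈ Stab F 3) :
    ∃ α : Fˣ, d = T4 α ∨ d = T4 α * Sw := by
  set u := d.val *ᵥ (ev c3 : I8 → F) with hu
  set v := d.val *ᵥ (ev (op c3) : I8 → F) with hv
  have hne : c3 ≠ op c3 := self_ne_op _
  have husupp : ∀ c, c ≠ c3 → c ≠ op c3 → u c = 0 := by
    intro c h1 h2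
    rcases lev3_cases c with h | h | h
    · rw [hu, coord_of_Stab hdO hdS h]; simp [Pi.single_apply, h1]
    · exact absurd h h1
    · exact absurd h h2
  have hvsupp : ∀ c, c ≠ c3 → c ≠ op c3 → v c = 0 := by
    intro c h1 h2
    rcases lev3_cases c with h | h | h
    · rw [hv, coord_of_Stab hdO hdS h]; simp [Pi.single_apply, h2]
    · exact absurd h h1
    · exact absurd h h2
  have hQu : u c3 * u (op c3) = 0 := by
    rw [← Q8_eq_of_support u c3 husupp, hu, (mem_O8_iff d).1 hdO, Q8_ev_one]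
  have hQv : v c3 * v (op c3) = 0 := by
    rw [← Q8_eq_of_support v c3 hvsupp, hv, (mem_O8_iff d).1 hdO, Q8_ev_one]
  have hB : u c3 * v (op c3) + u (op c3) * v c3 = 1 := by
    have h1 : bil u v = 1 := by
      rw [hu, hv, bil_of_O8 hdO, bil_ev_right, op_op]; simp
    unfold bil at h1
    rw [Finset.sum_eq_add c3 (op c3) hne
      (fun c _ hc => by rw [husupp c hc.1 hc.2, zero_mul])
      (fun h => absurd (Finset.mem_univ _) h) (fun h => absurd (Finset.mem_univ _) h), op_op] at h1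
    exact h1
  have hudec : u = u c3 • ev c3 + u (op c3) • ev (op c3) := by
    funext c
    by_cases h1 : c = c3
    · subst h1; simp [Pi.single_apply, hne]
    by_cases h2 : c = op c3
    · subst h2; simp [Pi.single_apply, hne.symm]
    · rw [husupp c h1 h2]; simp [Pi.single_apply, h1, h2]
  have hvdec : v = v c3 • ev c3 + v (op c3) • ev (op c3) := by
    funext c
    by_cases h1 : c = c3
    · subst h1; simp [Pi.single_apply, hne]
    by_cases h2 : c = op c3
    · subst h2; simp [Pi.single_apply, hne.symm]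
    · rw [hvsupp c h1 h2]; simp [Pi.single_apply, h1, h2]
  by_cases hβ : u (op c3) = 0
  · -- diagonal case
    rw [hβ, zero_mul, add_zero] at hB
    have hα : u c3 ≠ 0 := fun h => by rw [h, zero_mul] at hB; exact zero_ne_one hB
    have hδ : v (op c3) ≠ 0 := fun h => by rw [h, mul_zero] at hB; exact zero_ne_one hB
    have hγ : v c3 = 0 := (mul_eq_zero.1 hQv).resolve_right hδ
    have hδ' : v (op c3) = (u c3)⁻¹ := eq_inv_of_mul_eq_one_right hB
    have hcol1 : d.val *ᵥ (ev c3 : I8 → F) = u c3 • ev c3 := by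
      rw [← hu]
      conv_lhs => rw [hudec, hβ, zero_smul, add_zero]
    have hcol2 : d.val *ᵥ (ev (op c3) : I8 → F) = (u c3)⁻¹ • ev (op c3) := by
      rw [← hv]
      conv_lhs => rw [hvdec, hγ, zero_smul, zero_add, hδ']
    refine ⟨Units.mk0 (u c3) hα, Or.inl ?_⟩
    apply GL_ext_ev
    intro c
    unfold T4
    rw [diagU_ev]
    rcases lev3_cases c with h | h | h
    · rw [hdS c h, mu4_low _ h, Units.val_one, one_smul]
    · rw [h, mu4_c3, hcol1, Units.val_mk0]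
    · rw [h, mu4_c3', hcol2, Units.val_inv_eq_inv_val, Units.val_mk0]
  · -- anti-diagonal case
    have hα : u c3 = 0 := (mul_eq_zero.1 hQu).resolve_right hβ
    rw [hα, zero_mul, zero_add] at hB
    have hγ : v c3 ≠ 0 := fun h => by rw [h, mul_zero] at hB; exact zero_ne_one hB
    have hδ : v (op c3) = 0 := (mul_eq_zero.1 hQv).resolve_left hγ
    have hβ' : u (op c3) = (v c3)⁻¹ := eq_inv_of_mul_eq_one_left hB
    have hcol1 : d.val *ᵥ (ev c3 : I8 → F) = (v c3)⁻¹ • ev (op c3) := by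
      rw [← hu]
      conv_lhs => rw [hudec, hα, zero_smul, zero_add, hβ']
    have hcol2 : d.val *ᵥ (ev (op c3) : I8 → F) = v c3 • ev c3 := by
      rw [← hv]
      conv_lhs => rw [hvdec, hδ, zero_smul, add_zero]
    refine ⟨Units.mk0 (v c3) hγ, Or.inr ?_⟩
    apply GL_ext_ev
    intro c
    unfold T4
    rw [val_mul_mulVec, Sw_ev, diagU_ev]
    have s1 : sig c3 = op c3 := by decide
    have s2 : sig (op c3) = c3 := by decide
    rcases lev3_cases c with h | h | h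
    · have s3 : sig c = c := by
        have : ∀ c : I8, lev c < 3 → sig c = c := by decide
        exact this c h
      rw [hdS c h, s3, mu4_low _ h, Units.val_one, one_smul]
    · rw [h, s1, mu4_c3', hcol1, Units.val_inv_eq_inv_val, Units.val_mk0]
    · rw [h, s2, mu4_c3, hcol2, Units.val_mk0]

theorem T4_conj_Eab (α : Fˣ) (a b : I8) (h : a ≠ op b) (t : F) :
    T4 α * Eab a b h t * (T4 α)⁻¹ ∈ E0 F := by
  unfold T4
  rw [diagU_mul_Eab _ (mu4_op α), mul_inv_cancel_right]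
  exact Eab_mem_E0 _ _ _ _

theorem Sw_conj_Eab (a b : I8) (h : a ≠ op b) (t : F) :
    Sw * Eab a b h t * (Sw : GL I8 F)⁻¹ ∈ E0 F := by
  rw [Sw_mul_Eab, mul_inv_cancel_right]
  exact Eab_mem_E0 _ _ _ _

/-- the isometry group normalizes the root subgroup -/
theorem O8_le_normalizer : O8 F ≤ Subgroup.normalizer (E0 F : Set (GL I8 F)) := by
  unfold E0
  rw [Subgroup.le_normalizer_closure_iff]
  rintro g hg e ⟨a, b, h, t, rfl⟩
  obtain ⟨h0, hh0, hs⟩ := exists_E0_mul_mem_Stab g hg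
  obtain ⟨α, hd | hd⟩ := stab3_structure (h0 * g) (mul_mem (E0_le_O8 hh0) hg) hs
  · have hg' : g = h0⁻¹ * T4 α := by rw [← hd]; group
    have e1 : g * Eab a b h t * g⁻¹ = h0⁻¹ * (T4 α * Eab a b h t * (T4 α)⁻¹) * h0 := by
      rw [hg']; group
    rw [e1]
    exact mul_mem (mul_mem (inv_mem hh0) (T4_conj_Eab α a b h t)) hh0
  · have hg' : g = h0⁻¹ * (T4 α * Sw) := by rw [← hd]; group
    have e1 : g * Eab a b h t * g⁻¹ =
        h0⁻¹ * (T4 α * (Sw * Eab a b h t * (Sw : GL I8 F)⁻¹) * (T4 α)⁻¹) * h0 := by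
      rw [hg']; group
    rw [e1]
    refine mul_mem (mul_mem (inv_mem hh0) ?_) hh0
    rw [Sw_mul_Eab, mul_inv_cancel_right]
    exact T4_conj_Eab α _ _ _ t

/-- the quotient of the isometry group by the root subgroup is abelian -/
theorem comm_mem_E0 {g1 g2 : GL I8 F} (h1 : g1 ∈ O8 F) (h2 : g2 ∈ O8 F) : ⁅g1, g2⁆ ∈ E0 F := by
  have hEK : E0 F ≤ Subgroup.normalizer (E0 F : Set (GL I8 F)) := Subgroup.le_normalizer
  let N : Subgroup ↥(Subgroup.normalizer (E0 F : Set (GL I8 F))) :=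
    (E0 F).subgroupOf (Subgroup.normalizer (E0 F : Set (GL I8 F)))
  haveI : N.Normal := Subgroup.normal_in_normalizer
  let π : ↥(Subgroup.normalizer (E0 F : Set (GL I8 F))) →* _ ⧸ N := QuotientGroup.mk' N
  have hT : ∀ α : Fˣ, (T4 α : GL I8 F) ∈ Subgroup.normalizer (E0 F : Set (GL I8 F)) :=
    fun α => O8_le_normalizer (T4_mem_O8 α)
  have hS : (Sw : GL I8 F) ∈ Subgroup.normalizer (E0 F : Set (GL I8 F)) := O8_le_normalizer Sw_mem_O8
  have ct : ∀ α β : Fˣ, Commute (π ⟨T4 α, hT α⟩) (π ⟨T4 β, hT β⟩) := by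
    intro α β
    show π _ * π _ = π _ * π _
    rw [← map_mul, ← map_mul]
    congr 1
    exact Subtype.ext (T4_comm α β)
  have cs : ∀ α : Fˣ, Commute (π ⟨Sw, hS⟩) (π ⟨T4 α, hT α⟩) := by
    intro α
    show π _ * π _ = π _ * π _
    rw [← map_mul, ← map_mul]
    apply QuotientGroup.eq.2
    show ((⟨Sw, hS⟩ * ⟨T4 α, hT α⟩ : ↥(Subgroup.normalizer (E0 F : Set (GL I8 F))))⁻¹ *
      (⟨T4 α, hT α⟩ * ⟨Sw, hS⟩)).val ∈ E0 F
    have e : ((⟨Sw, hS⟩ * ⟨T4 α, hT α⟩ : ↥(Subgroup.normalizer (E0 F : Set (GL I8 F))))⁻¹ *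
        (⟨T4 α, hT α⟩ * ⟨Sw, hS⟩)).val = T4 (α⁻¹ * α⁻¹) := by
      show (Sw * T4 α)⁻¹ * (T4 α * Sw) = T4 (α⁻¹ * α⁻¹)
      have e2 : (T4 α : GL I8 F) * Sw = Sw * T4 α⁻¹ := by
        have := Sw_mul_T4 (F := F) α⁻¹
        rw [inv_inv] at this
        exact this.symm
      rw [e2, _root_.mul_inv_rev, T4_inv, ← T4_mul]
      have := Sw_mul_self (F := F)
      calc (T4 α⁻¹ : GL I8 F) * Sw⁻¹ * (Sw * T4 α⁻¹) = T4 α⁻¹ * (Sw⁻¹ * Sw) * T4 α⁻¹ := by group
        _ = T4 α⁻¹ * T4 α⁻¹ := by rw [inv_mul_cancel, mul_one]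
    rw [e]
    exact T4_sq_mem_E0 α⁻¹
  have key : ∀ g : GL I8 F, ∀ hg : g ∈ O8 F, ∃ α : Fˣ,
      π ⟨g, O8_le_normalizer hg⟩ = π ⟨T4 α, hT α⟩ ∨
      π ⟨g, O8_le_normalizer hg⟩ = π ⟨T4 α, hT α⟩ * π ⟨Sw, hS⟩ := by
    intro g hg
    obtain ⟨h0, hh0, hs⟩ := exists_E0_mul_mem_Stab g hg
    obtain ⟨α, hd⟩ := stab3_structure (h0 * g) (mul_mem (E0_le_O8 hh0) hg) hs
    have h01 : π ⟨h0, hEK hh0⟩ = 1 := (QuotientGroup.eq_one_iff _).2 hh0
    have e : π ⟨g, O8_le_normalizer hg⟩ = π ⟨h0 * g, mul_mem (hEK hh0) (O8_le_normalizer hg)⟩ := by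
      have : (⟨h0 * g, mul_mem (hEK hh0) (O8_le_normalizer hg)⟩ :
          ↥(Subgroup.normalizer (E0 F : Set (GL I8 F)))) = ⟨h0, hEK hh0⟩ * ⟨g, O8_le_normalizer hg⟩ := rfl
      rw [this, map_mul, h01, one_mul]
    refine ⟨α, ?_⟩
    rcases hd with hd | hd
    · left
      rw [e]
      congr 1
      exact Subtype.ext hd
    · right
      rw [e, ← map_mul]
      congr 1
      exact Subtype.ext hd
  obtain ⟨α, ha⟩ := key g1 h1
  obtain ⟨β, hb⟩ := key g2 h2
  have hcomm : Commute (π ⟨g1, O8_le_normalizer h1⟩) (π ⟨g2, O8_le_normalizer h2⟩) := by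
    have css : Commute (π ⟨Sw, hS⟩) (π ⟨Sw, hS⟩) := Commute.refl _
    rcases ha with ha | ha <;> rcases hb with hb | hb <;> rw [ha, hb]
    · exact ct α β
    · exact (ct α β).mul_right (cs α).symm
    · exact (ct α β).mul_left (cs β)
    · exact ((ct α β).mul_left (cs β)).mul_right ((cs α).symm.mul_left css)
  have h3 : π ⁅(⟨g1, O8_le_normalizer h1⟩ : ↥(Subgroup.normalizer (E0 F : Set (GL I8 F)))),
      ⟨g2, O8_le_normalizer h2⟩⁆ = 1 := by
    rw [map_commutatorElement]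
    exact commutatorElement_eq_one_iff_commute.2 hcomm
  have h4 : ⁅(⟨g1, O8_le_normalizer h1⟩ : ↥(Subgroup.normalizer (E0 F : Set (GL I8 F)))),
      ⟨g2, O8_le_normalizer h2⟩⁆ ∈ N := (QuotientGroup.eq_one_iff _).1 h3
  exact h4

/-- `Ω₈⁺(F)` is generated by the root elements -/
theorem Om8_eq_E0 : Om8 F = E0 F := by
  apply le_antisymm _ E0_le_Om8
  unfold Om8
  rw [Subgroup.map_le_iff_le_comap]
  show commutator ↥(O8 F) ≤ _
  rw [commutator_def, Subgroup.commutator_le]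
  intro g1 _ g2 _
  show (⁅g1, g2⁆ : ↥(O8 F)).val ∈ E0 F
  exact comm_mem_E0 g1.2 g2.2

end field

end Cfsg.Agent.Lib.Helper25.D4
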