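import Cfsg.Agent.Lib.Helper25.D4C
import Cfsg.Agent.Lib.Helper25.D4D4

set_option autoImplicit false

/-!
# D4E: kernel and image of the representation; `D₄(F) ≃* PΩ₈⁺(F)`
-/

namespace Cfsg.Agent.Lib.Helper25.D4

open Matrix Cfsg Cfsg.Lie
open scoped commutatorElement

section field

variable {F : Type*} [Field F]

theorem exists_avoid3 : ∀ a x : I8, ∃ b : I8, b ≠ a ∧ b ≠ op a ∧ b ≠ x := by decide

/-- a matrix that is diagonal with equal non-opposite diagonal entries is scalar -/
theorem scalar_of_diag {g : Matrix I8 I8 F} (h0 : ∀ x y, x ≠ y → g x y = 0)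
    (h1 : ∀ a c, c ≠ a → c ≠ op a → g a a = g c c) : ∃ l : F, g = l • (1 : Matrix I8 I8 F) := by
  refine ⟨g (Sum.inl 0) (Sum.inl 0), ?_⟩
  have hall : ∀ a d : I8, g a a = g d d := by
    intro a d
    by_cases had : d = a
    · rw [had]
    by_cases had' : d = op a
    · obtain ⟨c, hc1, hc2, -⟩ := exists_avoid3 a a
      rw [h1 a c hc1 hc2, had']
      refine (h1 (op a) c (fun h => hc2 h) ?_).symm
      rw [op_op]; exact hc1
    · exact h1 a d had had'
  ext x y
  rw [Matrix.smul_apply, Matrix.one_apply, smul_eq_mul]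
  by_cases hxy : x = y
  · subst hxy
    rw [if_pos rfl, mul_one]
    exact hall x _
  · rw [if_neg hxy, mul_zero, h0 x y hxy]

/-- Kronecker delta -/
def dl (p q : I8) : F := if p = q then 1 else 0

theorem dl_self (p : I8) : (dl p p : F) = 1 := by unfold dl; rw [if_pos rfl]
theorem dl_ne {p q : I8} (h : p ≠ q) : (dl p q : F) = 0 := by unfold dl; rw [if_neg h]

/-- an isometry acting trivially on the 28-dimensional module is scalar -/
theorem scalar_of_Rmat_one {g : GL I8 F} (hg : g ∈ O8 F) (hR : Rmat g.val = 1) :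
    ∃ l : F, g.val = l • (1 : Matrix I8 I8 F) := by
  -- the basic relation for root pairs
  have hP0 : ∀ r : Fin chevD4.nroots, ∀ x y : I8,
      g.val x (ra r.val) * g.val y (rb r.val) - g.val y (ra r.val) * g.val x (rb r.val) =
        dl x (ra r.val) * dl y (rb r.val) - dl y (ra r.val) * dl x (rb r.val) := by
    intro r x y
    have hS : IsS0 (act g.val (rep (Sum.inr r)) - rep (Sum.inr r)) := by
      apply IsS0_of_coordF
      · rw [bM_sub, bM_act hg, sub_self]
      · intro i
        rw [coordF_sub, coordF_rep, ← Rmat_apply, hR, Matrix.one_apply, sub_self]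
    have hsym := sym_apply hS.1 x y
    have hrep : (rep (Sum.inr r) : Matrix I8 I8 F) = single (ra r.val) (rb r.val) ((eps r.val : ℤ) : F) := by
      unfold rep repS
      rw [evS_cons, evS_nil, add_zero]
    have hact : ∀ x y : I8, act g.val (rep (Sum.inr r)) x y =
        ((eps r.val : ℤ) : F) * (g.val x (ra r.val) * g.val y (rb r.val)) := by
      intro x y
      rw [act_apply, hrep, Finset.sum_eq_single (ra r.val), Finset.sum_eq_single (rb r.val), single_apply_same]
      · intro q _ hq
        rw [single_apply_of_ne _ _ _ _ _ (fun h => hq h.2.symm), zero_mul]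
      · intro h; exact absurd (Finset.mem_univ _) h
      · intro p _ hp
        apply Finset.sum_eq_zero
        intro q _
        rw [single_apply_of_ne _ _ _ _ _ (fun h => hp h.1.symm), zero_mul]
      · intro h; exact absurd (Finset.mem_univ _) h
    have hsingle : ∀ x y : I8, (single (ra r.val) (rb r.val) ((eps r.val : ℤ) : F) : Matrix I8 I8 F) x y =
        ((eps r.val : ℤ) : F) * (dl x (ra r.val) * dl y (rb r.val)) := by
      intro x y
      rw [single_apply]
      unfold dl
      by_cases h1 : x = ra r.val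
      · by_cases h2 : y = rb r.val
        · rw [if_pos ⟨h1.symm, h2.symm⟩, if_pos h1, if_pos h2]; ring
        · rw [if_neg (fun h => h2 h.2.symm), if_neg h2]; ring
      · rw [if_neg (fun h => h1 h.1.symm), if_neg h1]; ring
    rw [Matrix.sub_apply, Matrix.sub_apply, hact, hact, hrep, hsingle, hsingle] at hsym
    have he := eps_ne_zero (F := F) r
    have key : ((eps r.val : ℤ) : F) * (g.val x (ra r.val) * g.val y (rb r.val) - g.val y (ra r.val) * g.val x (rb r.val)
        - (dl x (ra r.val) * dl y (rb r.val) - dl y (ra r.val) * dl x (rb r.val))) = 0 := by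
      linear_combination hsym
    have := (mul_eq_zero.1 key).resolve_left he
    exact sub_eq_zero.1 this
  -- the relation for all non-opposite pairs
  have hP : ∀ a b : I8, a ≠ b → a ≠ op b → ∀ x y : I8,
      g.val x a * g.val y b - g.val y a * g.val x b = dl x a * dl y b - dl y a * dl x b := by
    intro a b hab hab' x y
    obtain ⟨r, hr | hr⟩ := exists_root a b hab hab'
    · have := hP0 r x y
      rw [hr.1, hr.2] at this
      exact this
    · have := hP0 r y x
      rw [hr.1, hr.2] at this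
      linear_combination this
  -- off-diagonal entries vanish
  have hoff : ∀ x a : I8, x ≠ a → g.val x a = 0 := by
    intro x a hxa
    obtain ⟨b, hb1, hb2, hb3⟩ := exists_avoid3 a x
    have hab : a ≠ b := hb1.symm
    have hab' : a ≠ op b := fun h => hb2 (by rw [h, op_op])
    have E1 := hP a b hab hab' x a
    have E2 := hP a b hab hab' x b
    have E3 := hP a b hab hab' a b
    rw [dl_ne hxa, dl_ne hb3.symm, zero_mul, mul_zero, sub_zero] at E1
    rw [dl_ne hxa, dl_ne hb1, zero_mul, zero_mul, sub_zero] at E2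
    rw [dl_self, dl_self, dl_ne hb1, zero_mul, sub_zero, mul_one] at E3
    linear_combination (-(g.val x a)) * E3 + (g.val a a) * E2 - (g.val b a) * E1
  have hdiag : ∀ a b : I8, a ≠ b → a ≠ op b → g.val a a * g.val b b = 1 := by
    intro a b hab hab'
    have E3 := hP a b hab hab' a b
    rw [dl_self, dl_self, dl_ne hab.symm, zero_mul, sub_zero, mul_one, hoff b a hab.symm, zero_mul, sub_zero] at E3
    exact E3
  apply scalar_of_diag
  · intro x y hxy; exact hoff x y hxy
  · intro a c hca hca'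
    obtain ⟨d, hd1, hd2, hd3, hd4⟩ := exists_third a c
    have h1 := hdiag a d hd1.symm (fun h => hd2 (by rw [h, op_op]))
    have h2 := hdiag c d hd3.symm (fun h => hd4 (by rw [h, op_op]))
    have hd0 : g.val d d ≠ 0 := fun h => by rw [h, mul_zero] at h1; exact zero_ne_one h1
    have : (g.val a a - g.val c c) * g.val d d = 0 := by linear_combination h1 - h2
    exact sub_eq_zero.1 ((mul_eq_zero.1 this).resolve_right hd0)

theorem sq_eq_one_of_scalar {g : GL I8 F} (hg : g ∈ O8 F) {l : F} (hl : g.val = l • (1 : Matrix I8 I8 F)) :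
    l * l = 1 := by
  have h := (mem_O8_iff g).1 hg (ev (Sum.inl 0) + ev (Sum.inr 0))
  rw [hl, Matrix.smul_mulVec, Matrix.one_mulVec, Q8_smul] at h
  have hQ : Q8 F (ev (Sum.inl 0) + ev (Sum.inr 0)) = 1 := by
    rw [Q8_add, Q8_ev_one, Q8_ev_one, bil_ev_right]
    simp
  rw [hQ] at h
  linear_combination h

theorem Rmat_scalar {l : F} (hl : l * l = 1) : Rmat (l • (1 : Matrix I8 I8 F)) = 1 := by
  have : ∀ M : Matrix I8 I8 F, act (l • (1 : Matrix I8 I8 F)) M = M := by
    intro M
    unfold act
    rw [Matrix.transpose_smul, Matrix.transpose_one, Matrix.smul_mul, Matrix.one_mul, Matrix.mul_smul, Matrix.mul_one,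
      smul_smul, hl, one_smul]
  ext i j
  rw [Rmat_apply, this, coordF_rep, Matrix.one_apply]

/-- a matrix commuting with all root elements is scalar -/
theorem scalar_of_commute {z : Matrix I8 I8 F}
    (hz : ∀ (a b : I8) (h : a ≠ op b), z * (Eab a b h (1 : F)).val = (Eab a b h (1 : F)).val * z) :
    ∃ l : F, z = l • (1 : Matrix I8 I8 F) := by
  have hX : ∀ (a b : I8), a ≠ op b → z * Xm a b = Xm a b * z := by
    intro a b h
    have := hz a b h
    rw [Eab_val, one_smul, Matrix.mul_add, Matrix.add_mul, Matrix.mul_one, Matrix.one_mul] at this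
    exact add_left_cancel this
  -- entry `(x, op b)` of the commutation relation, for `x ≠ b`
  have hentry : ∀ (a b : I8), a ≠ op b → a ≠ b → ∀ x : I8, x ≠ b →
      z x a = (if x = a then z (op b) (op b) else 0) := by
    intro a b h hab x hxb
    have h1 := congrFun (congrFun (hX a b h) x) (op b)
    unfold Xm at h1
    rw [Matrix.mul_sub, Matrix.sub_mul, Matrix.sub_apply, Matrix.sub_apply, mul_single_apply_same,
      mul_single_apply_of_ne _ _ _ _ _ (fun hh => hab (op_injective hh).symm), mul_one, sub_zero,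
      single_mul_apply_of_ne _ _ _ _ _ hxb, sub_zero] at h1
    by_cases hxa : x = a
    · subst hxa
      rw [single_mul_apply_same, one_mul] at h1
      rw [if_pos rfl, h1]
    · rw [single_mul_apply_of_ne _ _ _ _ _ hxa] at h1
      rw [if_neg hxa, h1]
  apply scalar_of_diag
  · intro x a hxa
    obtain ⟨b, hb1, hb2, hb3⟩ := exists_avoid3 a x
    have := hentry a b (fun h => hb2 (by rw [h, op_op])) hb1.symm x hb3.symm
    rw [if_neg hxa] at this
    exact this
  · intro a c hca hca'
    have hb : a ≠ op (op c) := by rw [op_op]; exact hca.symm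
    have := hentry a (op c) hb (fun h => hca' (by rw [h, op_op])) a
      (fun h => hca' (by rw [h, op_op]))
    rw [if_pos rfl, op_op] at this
    exact this

/-- the representation restricted to `Ω₈⁺(F)` -/
noncomputable def rhoOm : ↥(Cfsg.Omega F (Cfsg.quadFormPlus 4 F)) →* GL Idx F :=
  (rho (F := F)).comp (Cfsg.Omega F (Cfsg.quadFormPlus 4 F)).subtype

theorem rhoOm_apply (x : ↥(Cfsg.Omega F (Cfsg.quadFormPlus 4 F))) : rhoOm x = rho x.val := rfl

theorem rhoOm_ker : (rhoOm (F := F)).ker = Subgroup.center ↥(Cfsg.Omega F (Cfsg.quadFormPlus 4 F)) := by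
  ext x
  rw [MonoidHom.mem_ker, Subgroup.mem_center_iff]
  constructor
  · intro hx
    have hR : Rmat x.val.val.val = 1 := by
      have := congrArg Units.val hx
      rwa [rhoOm_apply, rho_val, Units.val_one] at this
    obtain ⟨l, hl⟩ := scalar_of_Rmat_one x.val.2 hR
    intro y
    apply Subtype.ext
    apply Subtype.ext
    apply Units.ext
    show y.val.val.val * x.val.val.val = x.val.val.val * y.val.val.val
    rw [hl, Matrix.mul_smul, Matrix.smul_mul, Matrix.mul_one, Matrix.one_mul]
  · intro hx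
    have hcomm : ∀ (a b : I8) (h : a ≠ op b),
        x.val.val.val * (Eab a b h (1 : F)).val = (Eab a b h (1 : F)).val * x.val.val.val := by
      intro a b h
      obtain ⟨w, hw, hwe⟩ := Eab_mem_Om8 (F := F) a b h 1
      have := hx ⟨w, hw⟩
      have h2 : w.val.val * x.val.val.val = x.val.val.val * w.val.val :=
        congrArg (fun u : ↥(Cfsg.Omega F (Cfsg.quadFormPlus 4 F)) => u.val.val.val) this
      have hwe' : w.val = Eab a b h (1 : F) := hwe
      rw [← hwe']
      exact h2.symm
    obtain ⟨l, hl⟩ := scalar_of_commute hcomm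
    have hl2 := sq_eq_one_of_scalar x.val.2 hl
    apply Units.ext
    rw [rhoOm_apply, rho_val, hl, Rmat_scalar hl2, Units.val_one]

theorem rho_Eroot_mem (r : Fin chevD4.nroots) (t : F) (hg : Eroot r t ∈ O8 F) :
    rho ⟨Eroot r t, hg⟩ ∈ chevD4.group F :=
  Subgroup.subset_closure ⟨r, t, by rw [rho_val]; exact Rmat_Eroot r t⟩

theorem eps_mul_eps (r : Fin chevD4.nroots) (t : F) :
    ((eps r.val : ℤ) : F) * (((eps r.val : ℤ) : F) * t) = t := by
  rw [← mul_assoc, ← Int.cast_mul, eps_sq]; simp

theorem Eab_eq_Eroot (r : Fin chevD4.nroots) (h : ra r.val ≠ op (rb r.val)) (t : F) :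
    Eab (ra r.val) (rb r.val) h t = Eroot r (((eps r.val : ℤ) : F) * t) := by
  unfold Eroot
  rw [eps_mul_eps]

theorem rho_Eab_mem (a b : I8) (h : a ≠ op b) (t : F) (hg : Eab a b h t ∈ O8 F) :
    rho ⟨Eab a b h t, hg⟩ ∈ chevD4.group F := by
  by_cases hab : a = b
  · subst hab
    have : (⟨Eab a a h t, hg⟩ : ↥(O8 F)) = 1 := Subtype.ext (Eab_self a h t)
    rw [this, map_one]
    exact one_mem _
  obtain ⟨r, hr | hr⟩ := exists_root a b hab h
  · obtain ⟨rfl, rfl⟩ := hr
    have e := Eab_eq_Eroot r h t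
    have : (⟨Eab (ra r.val) (rb r.val) h t, hg⟩ : ↥(O8 F)) =
        ⟨Eroot r (((eps r.val : ℤ) : F) * t), e ▸ hg⟩ := Subtype.ext e
    rw [this]
    exact rho_Eroot_mem r _ _
  · obtain ⟨rfl, rfl⟩ := hr
    have h' : ra r.val ≠ op (rb r.val) := (rootPair_ok r).1
    have e : Eab (rb r.val) (ra r.val) h t = Eroot r (((eps r.val : ℤ) : F) * (-t)) := by
      rw [Eab_swap (ra r.val) (rb r.val) h' h, Eab_eq_Eroot]
    have : (⟨Eab (rb r.val) (ra r.val) h t, hg⟩ : ↥(O8 F)) =
        ⟨Eroot r (((eps r.val : ℤ) : F) * (-t)), e ▸ hg⟩ := Subtype.ext e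
    rw [this]
    exact rho_Eroot_mem r _ _

theorem rho_mem_of_E0 : ∀ g ∈ E0 F, ∀ hg : g ∈ O8 F, rho ⟨g, hg⟩ ∈ chevD4.group F := by
  intro g hgE
  unfold E0 at hgE
  induction hgE using Subgroup.closure_induction with
  | mem x hx =>
    obtain ⟨a, b, h, t, rfl⟩ := hx
    exact fun hg => rho_Eab_mem a b h t hg
  | one =>
    intro hg
    have : (⟨1, hg⟩ : ↥(O8 F)) = 1 := rfl
    rw [this, map_one]
    exact one_mem _
  | mul x y hx hy px py =>
    intro hg
    have hx' : x ∈ O8 F := E0_le_O8 hx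
    have hy' : y ∈ O8 F := E0_le_O8 hy
    have : (⟨x * y, hg⟩ : ↥(O8 F)) = ⟨x, hx'⟩ * ⟨y, hy'⟩ := rfl
    rw [this, map_mul]
    exact mul_mem (px hx') (py hy')
  | inv x hx px =>
    intro hg
    have hx' : x ∈ O8 F := E0_le_O8 hx
    have : (⟨x⁻¹, hg⟩ : ↥(O8 F)) = (⟨x, hx'⟩)⁻¹ := rfl
    rw [this, map_inv]
    exact inv_mem (px hx')

theorem rhoOm_range : (rhoOm (F := F)).range = chevD4.group F := by
  apply le_antisymm
  · rintro _ ⟨x, rfl⟩
    rw [rhoOm_apply]
    have hx : x.val.val ∈ Om8 F := ⟨x.val, x.2, rfl⟩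
    rw [Om8_eq_E0] at hx
    exact rho_mem_of_E0 x.val.val hx x.val.2
  · unfold ChevalleyDatum.group
    rw [Subgroup.closure_le]
    rintro g ⟨r, t, hg⟩
    obtain ⟨w, hw, hwe⟩ := Eab_mem_Om8 (F := F) (ra r.val) (rb r.val) (rootPair_ok r).1 (((eps r.val : ℤ) : F) * t)
    have hwe' : w.val = Eroot r t := hwe
    refine ⟨⟨w, hw⟩, ?_⟩
    apply Units.ext
    rw [rhoOm_apply, rho_val, hg]
    show Rmat w.val.val = _
    rw [hwe', Rmat_Eroot]

/-- `D₄(F) ≃* PΩ₈⁺(F)` for every field `F` -/
theorem chevD4_equiv_POmega :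
    Nonempty (↥(chevD4.group F) ≃* Cfsg.POmega F (Cfsg.quadFormPlus 4 F)) := by
  have e1 : Cfsg.POmega F (Cfsg.quadFormPlus 4 F) ≃*
      ↥(Cfsg.Omega F (Cfsg.quadFormPlus 4 F)) ⧸ (rhoOm (F := F)).ker :=
    QuotientGroup.quotientMulEquivOfEq rhoOm_ker.symm
  have e2 := QuotientGroup.quotientKerEquivRange (rhoOm (F := F))
  have e3 : ↥(rhoOm (F := F)).range ≃* ↥(chevD4.group F) := MulEquiv.subgroupCongr rhoOm_range
  exact ⟨((e1.trans e2).trans e3).symm⟩

end field

end Cfsg.Agent.Lib.Helper25.D4
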