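/-
helper25: S4719 leaf (G4) `card_pPrimeCore_le` (planner helper13, notes/S4719_leaves.lean).
`|O_{2'}(G)| ≤ c^3` from a four-group with bounded centralizers, via helper23's Wielandt formula.
-/
import Cfsg.Agent.Lib.Helper13.DCDefs
import Cfsg.Agent.Lib.Helper23.WAct5
import Cfsg.Agent.Lib.Helper12.Cores

set_option autoImplicit false

universe u

namespace Cfsg.Agent.Lib.Helper25.DCG4

open Cfsg Cfsg.Agent.Lib.Helper23.WAct

theorem sq_eq_one_of_mem_closure {G : Type u} [Group G] (x z : G) (hx : x * x = 1)
    (hz : z * z = 1) (hxz : x * z = z * x) :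
    ∀ a ∈ Subgroup.closure ({x, z} : Set G), a * a = 1 ∧ a * x = x * a ∧ a * z = z * a := by
  intro a ha
  induction ha using Subgroup.closure_induction with
  | mem g hg =>
    rcases hg with rfl | hg
    · exact ⟨hx, rfl, hxz⟩
    · rw [Set.mem_singleton_iff] at hg
      subst hg
      exact ⟨hz, hxz.symm, rfl⟩
  | one => simp
  | mul g h hg hh ihg ihh =>
    obtain ⟨g2, gx, gz⟩ := ihg
    obtain ⟨h2, hx', hz'⟩ := ihh
    have hgh : g * h = h * g := by
      -- `h` lies in the closure of `{x, z}`, both of which commute with `g`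
      have : h ∈ Subgroup.centralizer ({g} : Set G) := by
        have hle : Subgroup.closure ({x, z} : Set G) ≤ Subgroup.centralizer ({g} : Set G) := by
          rw [Subgroup.closure_le]
          intro y hy
          rcases hy with rfl | hy
          · rw [SetLike.mem_coe, Subgroup.mem_centralizer_iff]
            intro w hw
            rw [Set.mem_singleton_iff] at hw
            subst hw
            exact gx
          · rw [Set.mem_singleton_iff] at hy
            subst hy
            rw [SetLike.mem_coe, Subgroup.mem_centralizer_iff]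
            intro w hw
            rw [Set.mem_singleton_iff] at hw
            subst hw
            exact gz
        exact hle hh
      rw [Subgroup.mem_centralizer_iff] at this
      exact this g rfl
    refine ⟨?_, ?_, ?_⟩
    · calc g * h * (g * h) = g * (h * g) * h := by group
        _ = g * (g * h) * h := by rw [hgh]
        _ = (g * g) * (h * h) := by group
        _ = 1 := by rw [g2, h2, one_mul]
    · calc g * h * x = g * (h * x) := by group
        _ = g * (x * h) := by rw [hx']
        _ = (g * x) * h := by group
        _ = (x * g) * h := by rw [gx]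
        _ = x * (g * h) := by group
    · calc g * h * z = g * (h * z) := by group
        _ = g * (z * h) := by rw [hz']
        _ = (g * z) * h := by group
        _ = (z * g) * h := by rw [gz]
        _ = z * (g * h) := by group
  | inv g hg ihg =>
    obtain ⟨g2, gx, gz⟩ := ihg
    have hginv : g⁻¹ = g := by
      rw [inv_eq_iff_mul_eq_one]; exact g2
    rw [hginv]
    exact ⟨g2, gx, gz⟩

/-- LEAF G4: `|O_{2'}(G)| ≤ c^3` from a four-group with bounded centralizers. -/
theorem card_pPrimeCore_le {G : Type u} [Group G] [Finite G] (x z : G) (hx : x * x = 1)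
    (hz : z * z = 1) (hxz : x * z = z * x) (c : ℕ)
    (hcx : Nat.card (Subgroup.centralizer ({x} : Set G)) ≤ c)
    (hcz : Nat.card (Subgroup.centralizer ({z} : Set G)) ≤ c)
    (hcxz : Nat.card (Subgroup.centralizer ({x * z} : Set G)) ≤ c) :
    Nat.card (Cfsg.pPrimeCore 2 G) ≤ c ^ 3 := by
  classical
  have : Fact (Nat.Prime 2) := ⟨Nat.prime_two⟩
  set K : Subgroup G := Cfsg.pPrimeCore 2 G with hK
  have hKn : K.Normal := Subgroup.sSup_normal _ (fun _ h => h.1)
  have hcop : ¬ 2 ∣ Nat.card K := by
    have h := Cfsg.Agent.Lib.Helper12.pPrimeCore_coprime (X := G) 2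
    intro hd
    have : (2 : ℕ) ∣ 1 := by
      have h2 := Nat.dvd_gcd hd (dvd_refl 2)
      rwa [show Nat.gcd (Nat.card K) 2 = 1 from h] at h2
    omega
  set A : Subgroup G := Subgroup.closure ({x, z} : Set G) with hA
  have hsq := sq_eq_one_of_mem_closure x z hx hz hxz
  have hAp : IsPGroup 2 A := by
    intro a
    refine ⟨1, ?_⟩
    apply Subtype.ext
    have := (hsq a a.2).1
    simp [pow_succ, this]
  have hAcomm : ∀ a b : A, a * b = b * a := by
    intro a b
    apply Subtype.ext
    -- `b` is in the closure of `{x,z}`, which centralizes `a`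
    obtain ⟨-, ax, az⟩ := hsq a a.2
    have hle : Subgroup.closure ({x, z} : Set G) ≤
        Subgroup.centralizer ({(a : G)} : Set G) := by
      refine (Subgroup.closure_le _).2 ?_
      intro y hy
      rcases hy with rfl | hy
      · rw [SetLike.mem_coe, Subgroup.mem_centralizer_iff]
        intro w hw
        rw [Set.mem_singleton_iff] at hw
        subst hw
        exact ax
      · rw [Set.mem_singleton_iff] at hy
        subst hy
        rw [SetLike.mem_coe, Subgroup.mem_centralizer_iff]
        intro w hw
        rw [Set.mem_singleton_iff] at hw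
        subst hw
        exact az
    have hb := hle b.2
    rw [Subgroup.mem_centralizer_iff] at hb
    exact hb a rfl
  let φ : A →* MulAut K := (MulAut.conjNormal (H := K)).comp A.subtype
  have hφ : ∀ (a : A) (k : K), ((φ a k : K) : G) = (a : G) * k * (a : G)⁻¹ := by
    intro a k
    exact MulAut.conjNormal_apply _ _
  let x' : A := ⟨x, Subgroup.subset_closure (by simp)⟩
  let z' : A := ⟨z, Subgroup.subset_closure (by simp)⟩
  have hw := wielandt (p := 2) hAp (Nat.card K) K rfl hcop φ
    (fun a b => by rw [hAcomm a b])
    (fun a => by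
      have : a ^ 2 = 1 := by
        apply Subtype.ext
        have := (hsq a a.2).1
        simp [pow_succ, this]
      rw [this, map_one]) x' z'
  have hfix : ∀ a : A, Nat.card (fix φ {a}) ≤ Nat.card (Subgroup.centralizer ({(a : G)} : Set G)) := by
    intro a
    refine Nat.card_le_card_of_injective
      (fun k => (⟨((k : K) : G), ?_⟩ : Subgroup.centralizer ({(a : G)} : Set G))) ?_
    · rw [Subgroup.mem_centralizer_iff]
      intro w hw
      rw [Set.mem_singleton_iff] at hw
      subst hw
      have hk := (mem_fix_singleton φ).1 k.2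
      have hk' := congrArg (fun t : K => (t : G)) hk
      simp only [hφ] at hk'
      -- a k a⁻¹ = k
      calc (a : G) * ((k : K) : G) = (a : G) * ((k : K) : G) * (a : G)⁻¹ * (a : G) := by group
        _ = ((k : K) : G) * (a : G) := by rw [hk']
    · intro k1 k2 h
      have := congrArg (fun t : Subgroup.centralizer ({(a : G)} : Set G) => (t : G)) h
      exact Subtype.ext (Subtype.ext this)
  have hprod : ∏ i ∈ Finset.range 2, Nat.card (fix φ {x' * z' ^ i})
      = Nat.card (fix φ {x'}) * Nat.card (fix φ {x' * z'}) := by
    rw [Finset.prod_range_succ, Finset.prod_range_one]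
    simp
  rw [hprod] at hw
  have h1 : 1 ≤ Nat.card (fix φ {x', z'}) := Nat.card_pos
  have hle1 : Nat.card K ≤ Nat.card K * Nat.card (fix φ {x', z'}) ^ 2 :=
    Nat.le_mul_of_pos_right _ (pow_pos h1 2)
  have hxb : Nat.card (fix φ {x'}) ≤ c := (hfix x').trans hcx
  have hzb : Nat.card (fix φ {z'}) ≤ c := (hfix z').trans hcz
  have hxzb : Nat.card (fix φ {x' * z'}) ≤ c := (hfix (x' * z')).trans hcxz
  calc Nat.card K ≤ Nat.card K * Nat.card (fix φ {x', z'}) ^ 2 := hle1
    _ = Nat.card (fix φ {z'}) * (Nat.card (fix φ {x'}) * Nat.card (fix φ {x' * z'})) := hw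
    _ ≤ c * (c * c) := Nat.mul_le_mul hzb (Nat.mul_le_mul hxb hxzb)
    _ = c ^ 3 := by ring

end Cfsg.Agent.Lib.Helper25.DCG4
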