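import Cfsg.Agent.Lib.Helper25.E6InvTab

set_option autoImplicit false

namespace Cfsg.Agent.Lib.Helper25.E6Inv

open Cfsg Cfsg.Lie Matrix
open Cfsg.Agent.Lib.Helper7 Cfsg.Agent.Lib.Helper25 Cfsg.Agent.Lib.Helper25.ChInv

set_option maxHeartbeats 0 in
set_option maxRecDepth 1000000 in
theorem dihA_0 : BitWord.bitChkQ chevE6 ([0, 11, 27, 32] ++ nJR chevE6 (LJof []) ++ ([0, 11, 27, 32] : List ℕ).reverse) [39, 44, 60, 71] = true := by
  decide +kernel

set_option maxHeartbeats 0 in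
set_option maxRecDepth 1000000 in
theorem dihY_0 : BitWord.bitChkQ chevE6 ([39, 44, 60, 71] ++ [39, 44, 60, 71]) [] = true := by
  decide +kernel

set_option maxHeartbeats 0 in
set_option maxRecDepth 1000000 in
theorem dihP_0 : BitWord.powChkQ chevE6 ([39, 44, 60, 71] ++ ([7, 31, 24, 35, 5, 12, 64, 57, 71, 3, 8, 56, 41, 64] ++ repOf [] ++ ([7, 31, 24, 35, 5, 12, 64, 57, 71, 3, 8, 56, 41, 64] : List ℕ).reverse)) [true, false, false, true] = true := by
  decide +kernel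

theorem cert_0 : DihCert chevE6 (LJof []) (repOf []) [39, 44, 60, 71] [0, 11, 27, 32] [7, 31, 24, 35, 5, 12, 64, 57, 71, 3, 8, 56, 41, 64] [true, false, false, true] 4 :=
  ⟨dihA_0, dihY_0, by decide, dihP_0⟩

end Cfsg.Agent.Lib.Helper25.E6Inv
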