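import Cfsg.Agent.Lib.Helper25.E6InvTab
import Cfsg.Agent.Lib.Helper25.E6InvChk0

set_option autoImplicit false

namespace Cfsg.Agent.Lib.Helper25.E6Inv

open Cfsg Cfsg.Lie Matrix
open Cfsg.Agent.Lib.Helper7 Cfsg.Agent.Lib.Helper25 Cfsg.Agent.Lib.Helper25.ChInv

set_option maxHeartbeats 0 in
set_option maxRecDepth 1000000 in
theorem dihA_1 : BitWord.bitChkQ chevE6 ([0] ++ nJR chevE6 (LJof [0, 2, 3, 4, 5]) ++ ([0] : List ℕ).reverse) [71] = true := by
  decide +kernel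

set_option maxHeartbeats 0 in
set_option maxRecDepth 1000000 in
theorem dihY_1 : BitWord.bitChkQ chevE6 ([71] ++ [71]) [] = true := by
  decide +kernel

set_option maxHeartbeats 0 in
set_option maxRecDepth 1000000 in
theorem dihP_1 : BitWord.powChkQ chevE6 ([71] ++ ([] ++ repOf [0, 2, 3, 4, 5] ++ ([] : List ℕ).reverse)) [true] = true := by
  decide +kernel

theorem cert_1 : DihCert chevE6 (LJof [0, 2, 3, 4, 5]) (repOf [0, 2, 3, 4, 5]) [71] [0] [] [true] 0 :=
  ⟨dihA_1, dihY_1, by decide, dihP_1⟩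

end Cfsg.Agent.Lib.Helper25.E6Inv
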