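import Cfsg.Agent.Lib.Helper25.E6InvTab
import Cfsg.Agent.Lib.Helper25.E6InvChk1

set_option autoImplicit false

namespace Cfsg.Agent.Lib.Helper25.E6Inv

open Cfsg Cfsg.Lie Matrix
open Cfsg.Agent.Lib.Helper7 Cfsg.Agent.Lib.Helper25 Cfsg.Agent.Lib.Helper25.ChInv

set_option maxHeartbeats 0 in
set_option maxRecDepth 1000000 in
theorem dihA_2 : BitWord.bitChkQ chevE6 ([2, 6, 18] ++ nJR chevE6 (LJof [1]) ++ ([2, 6, 18] : List ℕ).reverse) [53, 65, 69] = true := by
  decide +kernel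

set_option maxHeartbeats 0 in
set_option maxRecDepth 1000000 in
theorem dihY_2 : BitWord.bitChkQ chevE6 ([53, 65, 69] ++ [53, 65, 69]) [] = true := by
  decide +kernel

set_option maxHeartbeats 0 in
set_option maxRecDepth 1000000 in
theorem dihP_2 : BitWord.powChkQ chevE6 ([53, 65, 69] ++ ([5, 33, 40, 35, 38, 0, 8, 3, 29, 13, 60, 59, 49, 32, 55] ++ repOf [1] ++ ([5, 33, 40, 35, 38, 0, 8, 3, 29, 13, 60, 59, 49, 32, 55] : List ℕ).reverse)) [true, true, true, true] = true := by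
  decide +kernel

theorem cert_2 : DihCert chevE6 (LJof [1]) (repOf [1]) [53, 65, 69] [2, 6, 18] [5, 33, 40, 35, 38, 0, 8, 3, 29, 13, 60, 59, 49, 32, 55] [true, true, true, true] 7 :=
  ⟨dihA_2, dihY_2, by decide, dihP_2⟩

end Cfsg.Agent.Lib.Helper25.E6Inv
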