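import Cfsg.Agent.Lib.Helper25.E6InvTab
import Cfsg.Agent.Lib.Helper25.E6InvChk2

set_option autoImplicit false

namespace Cfsg.Agent.Lib.Helper25.E6Inv

open Cfsg Cfsg.Lie Matrix
open Cfsg.Agent.Lib.Helper7 Cfsg.Agent.Lib.Helper25 Cfsg.Agent.Lib.Helper25.ChInv

set_option maxHeartbeats 0 in
set_option maxRecDepth 1000000 in
theorem dihA_3 : BitWord.bitChkQ chevE6 ([0, 11] ++ nJR chevE6 (LJof [2, 3, 4]) ++ ([0, 11] : List ℕ).reverse) [60, 71] = true := by
  decide +kernel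

set_option maxHeartbeats 0 in
set_option maxRecDepth 1000000 in
theorem dihY_3 : BitWord.bitChkQ chevE6 ([60, 71] ++ [60, 71]) [] = true := by
  decide +kernel

set_option maxHeartbeats 0 in
set_option maxRecDepth 1000000 in
theorem dihP_3 : BitWord.powChkQ chevE6 ([60, 71] ++ ([44, 56, 66, 63, 31, 21, 0, 5, 7, 68, 3, 51, 23, 30] ++ repOf [2, 3, 4] ++ ([44, 56, 66, 63, 31, 21, 0, 5, 7, 68, 3, 51, 23, 30] : List ℕ).reverse)) [true, false, true] = true := by
  decide +kernel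

theorem cert_3 : DihCert chevE6 (LJof [2, 3, 4]) (repOf [2, 3, 4]) [60, 71] [0, 11] [44, 56, 66, 63, 31, 21, 0, 5, 7, 68, 3, 51, 23, 30] [true, false, true] 2 :=
  ⟨dihA_3, dihY_3, by decide, dihP_3⟩

end Cfsg.Agent.Lib.Helper25.E6Inv
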