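import Cfsg.Agent.Lib.Helper25.E6InvTab

set_option autoImplicit false

namespace Cfsg.Agent.Lib.Helper25.E6Inv

open Cfsg Cfsg.Lie Matrix
open Cfsg.Agent.Lib.Helper7 Cfsg.Agent.Lib.Helper25 Cfsg.Agent.Lib.Helper25.ChInv

/-- certificate matrices (column masks) for the rank of `y - 1`, `y` the representative number 0 -/
def certP_0 : List ℕ := [151115727451828646838272, 151115727451828646838313, 4503599627370496, 9007199254740992, 18014398509481984, 36028797018963968, 72057594037927936, 144115188075855872, 288230376151711744, 576460752303423488, 1152921504606846976, 2305843009213693952, 147573952589676412928, 295147905179352825856, 590295810358705651712, 1180591620717411303424, 2361183241434822606848, 4722366482869645213696, 9444732965739290427392, 18889465931478580854784, 37778931862957161709568, 75557863725914323419136]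

def certQ_0 : List ℕ := [0, 1, 0, 0, 0, 0, 2, 4, 8, 16, 32, 64, 128, 256, 512, 1024, 2048, 0, 0, 0, 0, 0, 4096, 8192, 16384, 32768, 65536, 131072, 262144, 524288, 1048576, 2097152, 0, 0, 0, 0, 0, 0, 0, 0, 0, 0, 0, 0, 0, 0, 0, 0, 0, 0, 0, 0, 0, 0, 0, 0, 0, 0, 0, 0, 0, 0, 0, 0, 0, 0, 0, 0, 0, 0, 0, 0, 0, 0, 0, 0, 0, 0]

def certB_0 : List ℕ := [3, 0, 0, 0, 0, 0, 0, 0, 0, 0, 0, 0, 0, 0, 0, 0, 0, 0, 0, 0, 0, 0, 0, 0, 0, 0, 0, 0, 0, 0, 0, 0, 0, 0, 0, 0, 0, 0, 0, 0, 0, 0, 0, 0, 0, 0, 0, 0, 0, 0, 0, 0, 4, 8, 16, 32, 64, 128, 256, 512, 1024, 2048, 0, 0, 0, 0, 0, 4096, 8192, 16384, 32768, 65536, 131072, 262144, 524288, 1048576, 2097152, 1]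

def certC_0 : List ℕ := [2, 64, 128, 256, 512, 1024, 2048, 4096, 8192, 16384, 32768, 65536, 4194304, 8388608, 16777216, 33554432, 67108864, 134217728, 268435456, 536870912, 1073741824, 2147483648]

set_option maxHeartbeats 0 in
set_option maxRecDepth 1000000 in
theorem rank_0 (F : Type*) [Field F] [CharP F 2] :
    (((wordGL chevE6 mem_E6 F (ones F [71]) : GL chevE6.Idx F) : Matrix chevE6.Idx chevE6.Idx F) - 1).rank = 22 :=
  rank_rep_eq chevE6 mem_E6 F [71] certP_0 certQ_0 certB_0 certC_0 22 (by decide +kernel) (by decide +kernel)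
    (by decide +kernel) (by decide +kernel)

end Cfsg.Agent.Lib.Helper25.E6Inv
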