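import Cfsg.Agent.Lib.Helper25.E6InvTab

set_option autoImplicit false

namespace Cfsg.Agent.Lib.Helper25.E6Inv

open Cfsg Cfsg.Lie Matrix
open Cfsg.Agent.Lib.Helper7 Cfsg.Agent.Lib.Helper25 Cfsg.Agent.Lib.Helper25.ChInv

/-- certificate matrices (column masks) for the rank of `y - 1`, `y` the representative number 1 -/
def certP_1 : List ℕ := [4722366482869645213696, 23611832414348226068480, 73786976295509295104, 590295810513324474368, 2361183242568693972992, 18889465931478580854835, 4398046511104, 4722366482869645213735, 37778932153228231442432, 17592186044416, 75557864359233021018112, 140737488355328, 2251799813685248, 151115817523821194248192, 36028797018963968, 288230376151711744, 1152921504606846976, 2305843009213693952, 4611686018427387904, 9223372036854775808, 18446744073709551616, 73786976294838206464, 36893488147419103232, 147573952589676412928, 590295810358705651712, 2361183241434822606848, 295147905179352825856, 1180591620717411303424, 9444732965739290427392, 37778931862957161709568, 75557863725914323419136, 151115727451828646838272]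

def certQ_1 : List ℕ := [1, 0, 2, 0, 2, 3, 4, 8, 16, 32, 64, 128, 256, 512, 1024, 2048, 4096, 8192, 16384, 32768, 65536, 131072, 262144, 524288, 0, 1048576, 0, 2097152, 4194304, 2097152, 0, 0, 8388608, 0, 16777216, 33554432, 67108864, 16777216, 0, 134217728, 33554432, 268435456, 0, 536870912, 0, 0, 1073741824, 0, 536870912, 1073741824, 0, 0, 0, 0, 2147483648, 0, 2147483648, 0, 0, 0, 0, 0, 0, 0, 0, 0, 0, 0, 0, 0, 0, 0, 0, 0, 0, 0, 0, 0]

def certB_1 : List ℕ := [35, 0, 162, 0, 0, 0, 0, 0, 0, 0, 0, 0, 0, 0, 0, 0, 0, 0, 0, 0, 0, 0, 0, 0, 0, 0, 0, 2097156, 0, 0, 0, 0, 0, 0, 16777224, 33554448, 0, 0, 0, 0, 0, 0, 64, 536871168, 512, 0, 1073742848, 2048, 0, 0, 0, 4096, 0, 0, 2147491840, 16384, 0, 0, 32768, 0, 65536, 131072, 262144, 524288, 1048576, 4194304, 2097152, 8388608, 67108864, 16777216, 134217728, 33554432, 1, 268435456, 3, 536870912, 1073741824, 2147483648]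

def certC_1 : List ℕ := [1, 4, 64, 128, 256, 512, 1024, 2048, 4096, 8192, 16384, 32768, 65536, 131072, 262144, 524288, 1048576, 2097152, 4194304, 8388608, 33554432, 134217728, 268435456, 4294967296, 17179869184, 34359738368, 68719476736, 549755813888, 2199023255552, 8796093022208, 70368744177664, 18014398509481984]

set_option maxHeartbeats 0 in
set_option maxRecDepth 1000000 in
theorem rank_1 (F : Type*) [Field F] [CharP F 2] :
    (((wordGL chevE6 mem_E6 F (ones F [68, 66]) : GL chevE6.Idx F) : Matrix chevE6.Idx chevE6.Idx F) - 1).rank = 32 :=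
  rank_rep_eq chevE6 mem_E6 F [68, 66] certP_1 certQ_1 certB_1 certC_1 32 (by decide +kernel) (by decide +kernel)
    (by decide +kernel) (by decide +kernel)

end Cfsg.Agent.Lib.Helper25.E6Inv
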