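import Cfsg.Agent.Lib.Helper25.E6InvTab

set_option autoImplicit false

namespace Cfsg.Agent.Lib.Helper25.E6Inv

open Cfsg Cfsg.Lie Matrix
open Cfsg.Agent.Lib.Helper7 Cfsg.Agent.Lib.Helper25 Cfsg.Agent.Lib.Helper25.ChInv

/-- certificate matrices (column masks) for the rank of `y - 1`, `y` the representative number 2 -/
def certP_2 : List ℕ := [2363489084444036300800, 11805916207174113034240, 2361183241434822606848, 75576311736625763778560, 151263481548480728006656, 576461302060285952, 1180591622950794297344, 9444732965739290427411, 1152922604120571904, 2361183241434822606903, 18889466217351604076544, 35184372088832, 562949953421312, 75557864992551718617088, 9007199254740992, 72057594037927936, 151115907595813741658112, 576460752303423488, 1152921504606846976, 2305843009213693990, 4726978177684165623808, 37788155252586202529792, 70368744177664, 75576310610725521326080, 36893488147419103232, 75576311595887939813376, 2251799813685248, 73786976294838206464, 18014398509481984, 151263337433215342215168, 295147905179352825856, 1180591620717411303424, 151263445519606399107072, 288230376151711744, 590295810358705651712,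 18889465931478580854784, 4722366482869645213696, 37778931862957161709568]

def certQ_2 : List ℕ := [1, 0, 2, 4, 1, 2, 8, 16, 32, 64, 128, 256, 512, 1024, 2048, 4096, 8192, 16384, 32768, 65536, 131072, 262144, 524288, 1048576, 2097152, 4194304, 8388608, 16777216, 33554432, 67108864, 134217728, 0, 268435456, 536870912, 1073741824, 2147483648, 4294967296, 8589934592, 17179869184, 131072, 262144, 2147483648, 34359738368, 68719476736, 137438953472, 0, 0, 41951232, 34359738368, 0, 41951232, 0, 0, 0, 0, 4831903744, 0, 4831903744, 0, 0, 0, 0, 68719476736, 137438953472, 41951232, 0, 0, 4831903744, 0, 0, 0, 0, 0, 0, 0, 0, 0, 0]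

def certB_2 : List ℕ := [524801, 524935, 642, 0, 0, 0, 0, 0, 0, 0, 0, 0, 0, 0, 0, 0, 8200, 0, 0, 65552, 131104, 262400, 0, 0, 0, 0, 0, 0, 0, 0, 0, 0, 0, 0, 0, 2147483712, 0, 0, 0, 0, 0, 0, 34359739392, 68720525312, 137441050624, 2048, 4194304, 33562624, 0, 4096, 8396800, 67108864, 0, 16384, 268435456, 4295032832, 32768, 536936448, 8589934592, 131072, 262144, 5, 0, 0, 0, 16777216, 134217728, 0, 1073741824, 17179869184, 2147483648, 4, 68719476736, 6, 34359738368, 137438953472, 41951232, 4831903744]

def certC_2 : List ℕ := [1, 4, 8, 64, 128, 256, 512, 1024, 2048, 4096, 8192, 16384, 32768, 65536, 131072, 262144, 524288, 1048576, 2097152, 4194304, 8388608, 16777216, 33554432, 67108864, 134217728, 268435456, 536870912, 1073741824, 4294967296, 8589934592, 17179869184, 34359738368, 68719476736, 137438953472, 274877906944, 4398046511104, 8796093022208, 17592186044416]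

set_option maxHeartbeats 0 in
set_option maxRecDepth 1000000 in
theorem rank_2 (F : Type*) [Field F] [CharP F 2] :
    (((wordGL chevE6 mem_E6 F (ones F [55, 65, 67]) : GL chevE6.Idx F) : Matrix chevE6.Idx chevE6.Idx F) - 1).rank = 38 :=
  rank_rep_eq chevE6 mem_E6 F [55, 65, 67] certP_2 certQ_2 certB_2 certC_2 38 (by decide +kernel) (by decide +kernel)
    (by decide +kernel) (by decide +kernel)

end Cfsg.Agent.Lib.Helper25.E6Inv
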