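import Cfsg.Agent.Lib.Helper25.E6InvTab

set_option autoImplicit false

namespace Cfsg.Agent.Lib.Helper25.E6Inv

open Cfsg Cfsg.Lie Matrix
open Cfsg.Agent.Lib.Helper7 Cfsg.Agent.Lib.Helper25 Cfsg.Agent.Lib.Helper25.ChInv

set_option maxHeartbeats 0 in
set_option maxRecDepth 1000000 in
theorem weyl_2 : chkConjW chevE6 packed (LJof [3]) (LJof [1]) [3, 1] = true := by
  decide +kernel

end Cfsg.Agent.Lib.Helper25.E6Inv
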