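import Cfsg.Agent.Lib.Helper25.E6InvChk0
import Cfsg.Agent.Lib.Helper25.E6InvChk1
import Cfsg.Agent.Lib.Helper25.E6InvChk2
import Cfsg.Agent.Lib.Helper25.E6InvChk3
import Cfsg.Agent.Lib.Helper25.E6InvWeyl
import Cfsg.Agent.Lib.Helper25.E6InvRank0
import Cfsg.Agent.Lib.Helper25.E6InvRank1
import Cfsg.Agent.Lib.Helper25.E6InvRank2

/-! The classes of involutions of `E6(2ᵃ)` (helper25; generated). -/

set_option autoImplicit false

namespace Cfsg.Agent.Lib.Helper25.E6Inv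

open Cfsg Cfsg.Lie Matrix
open Cfsg.Agent.Lib.Helper7 Cfsg.Agent.Lib.Helper25 Cfsg.Agent.Lib.Helper25.ChInv

section
variable (F : Type*) [Field F] [Fintype F] [CharP F 2]

theorem conjRep_0 : ConjStmt chevE6 mem_E6 F (LJof []) (repOf []) :=
  conjStmt_of_cert chevE6 mem_E6 F _ _ _ _ _ _ _ (reps_sq _ (rep_mem _ (by decide))) cert_0

theorem conjRep_1 : ConjStmt chevE6 mem_E6 F (LJof [0, 2, 3, 4, 5]) (repOf [0, 2, 3, 4, 5]) :=
  conjStmt_of_cert chevE6 mem_E6 F _ _ _ _ _ _ _ (reps_sq _ (rep_mem _ (by decide))) cert_1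

theorem conjRep_2 : ConjStmt chevE6 mem_E6 F (LJof [1]) (repOf [1]) :=
  conjStmt_of_cert chevE6 mem_E6 F _ _ _ _ _ _ _ (reps_sq _ (rep_mem _ (by decide))) cert_2

theorem conjRep_3 : ConjStmt chevE6 mem_E6 F (LJof [2, 3, 4]) (repOf [2, 3, 4]) :=
  conjStmt_of_cert chevE6 mem_E6 F _ _ _ _ _ _ _ (reps_sq _ (rep_mem _ (by decide))) cert_3

theorem conjW_2 : ConjStmt chevE6 mem_E6 F (LJof [3]) (repOf [3]) := by
  have hc := conjRep_2 F
  have e : repOf [1] = repOf [3] := by decide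
  rw [e] at hc
  exact conjStmt_of_chkConjW chevE6 mem_E6 F packed hpk _ _ [3, 1] _ weyl_2 hc

theorem conj_all : ∀ J ∈ validL, ConjStmt chevE6 mem_E6 F (LJof J) (repOf J) := by
  unfold validL
  exact List.forall_mem_cons.2 ⟨conjRep_0 F, List.forall_mem_cons.2 ⟨conjRep_2 F, List.forall_mem_cons.2 ⟨conjW_2 F, List.forall_mem_cons.2 ⟨conjRep_3 F, List.forall_mem_cons.2 ⟨conjRep_1 F, fun _ h => absurd h List.not_mem_nil⟩⟩⟩⟩⟩

/-- every involution is conjugate to a representative -/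
theorem invol_conj (t : GL chevE6.Idx F) (ht : t ∈ chevE6.group F) (hord : orderOf t = 2) :
    ∃ R ∈ repsL, ∃ h ∈ chevE6.group F, h * t * h⁻¹ = wordGL chevE6 mem_E6 F (ones F R) := by
  obtain ⟨J, hJ, h, hh, hc⟩ := invol_conj_of_tables chevE6 mem_E6 F packed hpk LJof repOf validL chk_all
    (conj_all F) t ht hord
  exact ⟨repOf J, rep_mem J hJ, h, hh, hc⟩

/-- the ranks of `y - 1` for the representatives -/
def rankTab : List (List ℕ × ℕ) := [([71], 22), ([68, 66], 32), ([55, 65, 67], 38)]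

omit [Fintype F] in
theorem rank_reps : ∀ p ∈ rankTab,
    (((wordGL chevE6 mem_E6 F (ones F p.1) : GL chevE6.Idx F) : Matrix chevE6.Idx chevE6.Idx F) - 1).rank = p.2 := by
  unfold rankTab
  exact List.forall_mem_cons.2 ⟨rank_0 F, List.forall_mem_cons.2 ⟨rank_1 F, List.forall_mem_cons.2 ⟨rank_2 F, fun _ h => absurd h List.not_mem_nil⟩⟩⟩

theorem rankTab_fst : rankTab.map Prod.fst = repsL := by decide

theorem rankTab_inj : ∀ p ∈ rankTab, ∀ q ∈ rankTab, p.2 = q.2 → p.1 = q.1 := by decide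

theorem rankTab_pos : ∀ p ∈ rankTab, 0 < p.2 := by decide

omit [Fintype F] in
theorem rank_of_mem (R : List ℕ) (hR : R ∈ repsL) : ∃ k, (R, k) ∈ rankTab := by
  rw [← rankTab_fst, List.mem_map] at hR
  obtain ⟨p, hp, rfl⟩ := hR
  exact ⟨p.2, hp⟩

omit [Fintype F] in
/-- the representatives are elements of order two of the group -/
theorem rep_order (R : List ℕ) (hR : R ∈ repsL) :
    wordGL chevE6 mem_E6 F (ones F R) ∈ chevE6.group F ∧ orderOf (wordGL chevE6 mem_E6 F (ones F R)) = 2 := by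
  refine ⟨wordGL_mem_group chevE6 mem_E6 F _, ?_⟩
  obtain ⟨k, hk⟩ := rank_of_mem R hR
  have hr := rank_reps F (R, k) hk
  have hp : 0 < k := rankTab_pos (R, k) hk
  have hs := sq_of_bitChkR chevE6 mem_E6 F R (BitWord.bitChkR_of_Q _ _ _ (reps_sq R hR))
  exact orderOf_eq_two_of_rank chevE6 F (wordGL chevE6 mem_E6 F (ones F R)) k hr hp hs

omit [Fintype F] in
/-- distinct representatives are not conjugate -/
theorem no_conj (R₁ R₂ : List ℕ) (h1 : R₁ ∈ repsL) (h2 : R₂ ∈ repsL) (h : GL chevE6.Idx F)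
    (hc : h * wordGL chevE6 mem_E6 F (ones F R₁) * h⁻¹ = wordGL chevE6 mem_E6 F (ones F R₂)) : R₁ = R₂ := by
  obtain ⟨k₁, hk₁⟩ := rank_of_mem R₁ h1
  obtain ⟨k₂, hk₂⟩ := rank_of_mem R₂ h2
  have hr₁ := rank_reps F (R₁, k₁) hk₁
  have hr₂ := rank_reps F (R₂, k₂) hk₂
  have := rank_eq_of_conj chevE6 F (wordGL chevE6 mem_E6 F (ones F R₁)) (wordGL chevE6 mem_E6 F (ones F R₂)) h k₁ k₂ hr₁ hr₂ hc
  exact rankTab_inj (R₁, k₁) hk₁ (R₂, k₂) hk₂ this

end

end Cfsg.Agent.Lib.Helper25.E6Inv
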