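import Cfsg.Agent.Lib.Helper25.E7InvTab

set_option autoImplicit false

namespace Cfsg.Agent.Lib.Helper25.E7Inv

open Cfsg Cfsg.Lie Matrix
open Cfsg.Agent.Lib.Helper7 Cfsg.Agent.Lib.Helper25 Cfsg.Agent.Lib.Helper25.ChInv

set_option maxHeartbeats 0 in
set_option maxRecDepth 1000000 in
theorem dihA_0 : BitWord.bitChkQ chevE7 ([0, 33, 38, 47, 52, 59, 62] ++ nJR chevE7 (LJof []) ++ ([0, 33, 38, 47, 52, 59, 62] : List ℕ).reverse) [63, 66, 73, 78, 87, 92, 125] = true := by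
  decide +kernel

set_option maxHeartbeats 0 in
set_option maxRecDepth 1000000 in
theorem dihY_0 : BitWord.bitChkQ chevE7 ([63, 66, 73, 78, 87, 92, 125] ++ [63, 66, 73, 78, 87, 92, 125]) [] = true := by
  decide +kernel

set_option maxHeartbeats 0 in
set_option maxRecDepth 1000000 in
theorem dihP_0 : BitWord.powChkQ chevE7 ([63, 66, 73, 78, 87, 92, 125] ++ ([22, 115, 12, 32, 38, 50, 52, 89, 88, 22, 56, 93, 112, 12, 110, 119, 58, 43, 41, 106] ++ repOf [] ++ ([22, 115, 12, 32, 38, 50, 52, 89, 88, 22, 56, 93, 112, 12, 110, 119, 58, 43, 41, 106] : List ℕ).reverse)) [true, false, false, true] = true := by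
  decide +kernel

theorem cert_0 : DihCert chevE7 (LJof []) (repOf []) [63, 66, 73, 78, 87, 92, 125] [0, 33, 38, 47, 52, 59, 62] [22, 115, 12, 32, 38, 50, 52, 89, 88, 22, 56, 93, 112, 12, 110, 119, 58, 43, 41, 106] [true, false, false, true] 4 :=
  ⟨dihA_0, dihY_0, by decide, dihP_0⟩

end Cfsg.Agent.Lib.Helper25.E7Inv
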