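import Cfsg.Agent.Lib.Helper25.E7InvTab
import Cfsg.Agent.Lib.Helper25.E7InvChk0

set_option autoImplicit false

namespace Cfsg.Agent.Lib.Helper25.E7Inv

open Cfsg Cfsg.Lie Matrix
open Cfsg.Agent.Lib.Helper7 Cfsg.Agent.Lib.Helper25 Cfsg.Agent.Lib.Helper25.ChInv

set_option maxHeartbeats 0 in
set_option maxRecDepth 1000000 in
theorem dihA_1 : BitWord.bitChkQ chevE7 ([2, 11, 16, 47, 59, 62] ++ nJR chevE7 (LJof [0]) ++ ([2, 11, 16, 47, 59, 62] : List ℕ).reverse) [63, 66, 78, 109, 114, 123] = true := by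
  decide +kernel

set_option maxHeartbeats 0 in
set_option maxRecDepth 1000000 in
theorem dihY_1 : BitWord.bitChkQ chevE7 ([63, 66, 78, 109, 114, 123] ++ [63, 66, 78, 109, 114, 123]) [] = true := by
  decide +kernel

set_option maxHeartbeats 0 in
set_option maxRecDepth 1000000 in
theorem dihP_1 : BitWord.powChkQ chevE7 ([63, 66, 78, 109, 114, 123] ++ ([90, 67, 83, 58, 12, 76, 117, 43, 9, 68, 89, 32, 44, 12, 18, 122, 9, 94, 100, 102, 108, 58, 57] ++ repOf [0] ++ ([90, 67, 83, 58, 12, 76, 117, 43, 9, 68, 89, 32, 44, 12, 18, 122, 9, 94, 100, 102, 108, 58, 57] : List ℕ).reverse)) [true, true, true, true] = true := by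
  decide +kernel

theorem cert_1 : DihCert chevE7 (LJof [0]) (repOf [0]) [63, 66, 78, 109, 114, 123] [2, 11, 16, 47, 59, 62] [90, 67, 83, 58, 12, 76, 117, 43, 9, 68, 89, 32, 44, 12, 18, 122, 9, 94, 100, 102, 108, 58, 57] [true, true, true, true] 7 :=
  ⟨dihA_1, dihY_1, by decide, dihP_1⟩

end Cfsg.Agent.Lib.Helper25.E7Inv
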