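import Cfsg.Agent.Lib.Helper25.E7InvTab
import Cfsg.Agent.Lib.Helper25.E7InvChk1

set_option autoImplicit false

namespace Cfsg.Agent.Lib.Helper25.E7Inv

open Cfsg Cfsg.Lie Matrix
open Cfsg.Agent.Lib.Helper7 Cfsg.Agent.Lib.Helper25 Cfsg.Agent.Lib.Helper25.ChInv

set_option maxHeartbeats 0 in
set_option maxRecDepth 1000000 in
theorem dihA_2 : BitWord.bitChkQ chevE7 ([2, 11, 16, 59, 62] ++ nJR chevE7 (LJof [0, 1]) ++ ([2, 11, 16, 59, 62] : List ℕ).reverse) [63, 66, 109, 114, 123] = true := by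
  decide +kernel

set_option maxHeartbeats 0 in
set_option maxRecDepth 1000000 in
theorem dihY_2 : BitWord.bitChkQ chevE7 ([63, 66, 109, 114, 123] ++ [63, 66, 109, 114, 123]) [] = true := by
  decide +kernel

set_option maxHeartbeats 0 in
set_option maxRecDepth 1000000 in
theorem dihP_2 : BitWord.powChkQ chevE7 ([63, 66, 109, 114, 123] ++ ([71, 22, 111, 43, 8, 41, 61, 109, 95, 100, 25, 37, 61, 68, 7, 6] ++ repOf [0, 1] ++ ([71, 22, 111, 43, 8, 41, 61, 109, 95, 100, 25, 37, 61, 68, 7, 6] : List ℕ).reverse)) [true, false, false, true] = true := by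
  decide +kernel

theorem cert_2 : DihCert chevE7 (LJof [0, 1]) (repOf [0, 1]) [63, 66, 109, 114, 123] [2, 11, 16, 59, 62] [71, 22, 111, 43, 8, 41, 61, 109, 95, 100, 25, 37, 61, 68, 7, 6] [true, false, false, true] 4 :=
  ⟨dihA_2, dihY_2, by decide, dihP_2⟩

end Cfsg.Agent.Lib.Helper25.E7Inv
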