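import Cfsg.Agent.Lib.Helper25.E7InvTab
import Cfsg.Agent.Lib.Helper25.E7InvChk2

set_option autoImplicit false

namespace Cfsg.Agent.Lib.Helper25.E7Inv

open Cfsg Cfsg.Lie Matrix
open Cfsg.Agent.Lib.Helper7 Cfsg.Agent.Lib.Helper25 Cfsg.Agent.Lib.Helper25.ChInv

set_option maxHeartbeats 0 in
set_option maxRecDepth 1000000 in
theorem dihA_3 : BitWord.bitChkQ chevE7 ([2, 11, 16, 62] ++ nJR chevE7 (LJof [0, 1, 4]) ++ ([2, 11, 16, 62] : List ℕ).reverse) [63, 109, 114, 123] = true := by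
  decide +kernel

set_option maxHeartbeats 0 in
set_option maxRecDepth 1000000 in
theorem dihY_3 : BitWord.bitChkQ chevE7 ([63, 109, 114, 123] ++ [63, 109, 114, 123]) [] = true := by
  decide +kernel

set_option maxHeartbeats 0 in
set_option maxRecDepth 1000000 in
theorem dihP_3 : BitWord.powChkQ chevE7 ([63, 109, 114, 123] ++ ([34, 25, 10, 68, 74, 54, 83, 103, 31, 118, 6, 79, 108, 10, 23, 68, 37, 16, 68] ++ repOf [0, 1, 4] ++ ([34, 25, 10, 68, 74, 54, 83, 103, 31, 118, 6, 79, 108, 10, 23, 68, 37, 16, 68] : List ℕ).reverse)) [true, true, true, true] = true := by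
  decide +kernel

theorem cert_3 : DihCert chevE7 (LJof [0, 1, 4]) (repOf [0, 1, 4]) [63, 109, 114, 123] [2, 11, 16, 62] [34, 25, 10, 68, 74, 54, 83, 103, 31, 118, 6, 79, 108, 10, 23, 68, 37, 16, 68] [true, true, true, true] 7 :=
  ⟨dihA_3, dihY_3, by decide, dihP_3⟩

end Cfsg.Agent.Lib.Helper25.E7Inv
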