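import Cfsg.Agent.Lib.Helper25.E7InvTab
import Cfsg.Agent.Lib.Helper25.E7InvChk3

set_option autoImplicit false

namespace Cfsg.Agent.Lib.Helper25.E7Inv

open Cfsg Cfsg.Lie Matrix
open Cfsg.Agent.Lib.Helper7 Cfsg.Agent.Lib.Helper25 Cfsg.Agent.Lib.Helper25.ChInv

set_option maxHeartbeats 0 in
set_option maxRecDepth 1000000 in
theorem dihA_4 : BitWord.bitChkQ chevE7 ([2, 11, 16] ++ nJR chevE7 (LJof [0, 1, 4, 6]) ++ ([2, 11, 16] : List ℕ).reverse) [109, 114, 123] = true := by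
  decide +kernel

set_option maxHeartbeats 0 in
set_option maxRecDepth 1000000 in
theorem dihY_4 : BitWord.bitChkQ chevE7 ([109, 114, 123] ++ [109, 114, 123]) [] = true := by
  decide +kernel

set_option maxHeartbeats 0 in
set_option maxRecDepth 1000000 in
theorem dihP_4 : BitWord.powChkQ chevE7 ([109, 114, 123] ++ ([4, 7, 10, 53, 14, 14, 87, 85, 16, 42, 23, 41, 54, 27, 81, 32, 102, 29, 53] ++ repOf [0, 1, 4, 6] ++ ([4, 7, 10, 53, 14, 14, 87, 85, 16, 42, 23, 41, 54, 27, 81, 32, 102, 29, 53] : List ℕ).reverse)) [true, true, true, true] = true := by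
  decide +kernel

theorem cert_4 : DihCert chevE7 (LJof [0, 1, 4, 6]) (repOf [0, 1, 4, 6]) [109, 114, 123] [2, 11, 16] [4, 7, 10, 53, 14, 14, 87, 85, 16, 42, 23, 41, 54, 27, 81, 32, 102, 29, 53] [true, true, true, true] 7 :=
  ⟨dihA_4, dihY_4, by decide, dihP_4⟩

end Cfsg.Agent.Lib.Helper25.E7Inv
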