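import Cfsg.Agent.Lib.Helper25.E7InvTab
import Cfsg.Agent.Lib.Helper25.E7InvChk6

set_option autoImplicit false

namespace Cfsg.Agent.Lib.Helper25.E7Inv

open Cfsg Cfsg.Lie Matrix
open Cfsg.Agent.Lib.Helper7 Cfsg.Agent.Lib.Helper25 Cfsg.Agent.Lib.Helper25.ChInv

set_option maxHeartbeats 0 in
set_option maxRecDepth 1000000 in
theorem dihA_7 : BitWord.bitChkQ chevE7 ([0, 33] ++ nJR chevE7 (LJof [1, 2, 3, 4, 6]) ++ ([0, 33] : List ℕ).reverse) [92, 125] = true := by
  decide +kernel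

set_option maxHeartbeats 0 in
set_option maxRecDepth 1000000 in
theorem dihY_7 : BitWord.bitChkQ chevE7 ([92, 125] ++ [92, 125]) [] = true := by
  decide +kernel

set_option maxHeartbeats 0 in
set_option maxRecDepth 1000000 in
theorem dihP_7 : BitWord.powChkQ chevE7 ([92, 125] ++ ([] ++ repOf [1, 2, 3, 4, 6] ++ ([] : List ℕ).reverse)) [true] = true := by
  decide +kernel

theorem cert_7 : DihCert chevE7 (LJof [1, 2, 3, 4, 6]) (repOf [1, 2, 3, 4, 6]) [92, 125] [0, 33] [] [true] 0 :=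
  ⟨dihA_7, dihY_7, by decide, dihP_7⟩

end Cfsg.Agent.Lib.Helper25.E7Inv
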