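import Cfsg.Agent.Lib.Helper25.E7InvTab
import Cfsg.Agent.Lib.Helper25.E7InvChk7

set_option autoImplicit false

namespace Cfsg.Agent.Lib.Helper25.E7Inv

open Cfsg Cfsg.Lie Matrix
open Cfsg.Agent.Lib.Helper7 Cfsg.Agent.Lib.Helper25 Cfsg.Agent.Lib.Helper25.ChInv

set_option maxHeartbeats 0 in
set_option maxRecDepth 1000000 in
theorem dihA_8 : BitWord.bitChkQ chevE7 ([0, 33, 38, 52] ++ nJR chevE7 (LJof [1, 4, 6]) ++ ([0, 33, 38, 52] : List ℕ).reverse) [73, 87, 92, 125] = true := by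
  decide +kernel

set_option maxHeartbeats 0 in
set_option maxRecDepth 1000000 in
theorem dihY_8 : BitWord.bitChkQ chevE7 ([73, 87, 92, 125] ++ [73, 87, 92, 125]) [] = true := by
  decide +kernel

set_option maxHeartbeats 0 in
set_option maxRecDepth 1000000 in
theorem dihP_8 : BitWord.powChkQ chevE7 ([73, 87, 92, 125] ++ ([1] ++ repOf [1, 4, 6] ++ ([1] : List ℕ).reverse)) [true, true, true] = true := by
  decide +kernel

theorem cert_8 : DihCert chevE7 (LJof [1, 4, 6]) (repOf [1, 4, 6]) [73, 87, 92, 125] [0, 33, 38, 52] [1] [true, true, true] 3 :=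
  ⟨dihA_8, dihY_8, by decide, dihP_8⟩

end Cfsg.Agent.Lib.Helper25.E7Inv
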