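import Cfsg.Agent.Lib.Helper25.E8InvTab

set_option autoImplicit false

namespace Cfsg.Agent.Lib.Helper25.E8Inv

open Cfsg Cfsg.Lie Matrix
open Cfsg.Agent.Lib.Helper7 Cfsg.Agent.Lib.Helper25 Cfsg.Agent.Lib.Helper25.ChInv

set_option maxHeartbeats 0 in
set_option maxRecDepth 1000000 in
theorem dihA_0 : BitWord.bitChkQ chevE8 ([6, 7, 78, 83, 92, 109, 116, 119] ++ nJR chevE8 (LJof []) ++ ([6, 7, 78, 83, 92, 109, 116, 119] : List ℕ).reverse) [120, 123, 130, 147, 156, 161, 232, 233] = true := by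
  decide +kernel

set_option maxHeartbeats 0 in
set_option maxRecDepth 1000000 in
theorem dihY_0 : BitWord.bitChkQ chevE8 ([120, 123, 130, 147, 156, 161, 232, 233] ++ [120, 123, 130, 147, 156, 161, 232, 233]) [] = true := by
  decide +kernel

set_option maxHeartbeats 0 in
set_option maxRecDepth 1000000 in
theorem dihP_0 : BitWord.powChkQ chevE8 ([120, 123, 130, 147, 156, 161, 232, 233] ++ ([132, 130, 137, 55, 66, 126, 216, 40, 216, 86, 178, 70, 176, 19, 130, 163, 146, 46, 170, 132, 1] ++ repOf [] ++ ([132, 130, 137, 55, 66, 126, 216, 40, 216, 86, 178, 70, 176, 19, 130, 163, 146, 46, 170, 132, 1] : List ℕ).reverse)) [true, false, false, true, true] = true := by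
  decide +kernel

theorem cert_0 : DihCert chevE8 (LJof []) (repOf []) [120, 123, 130, 147, 156, 161, 232, 233] [6, 7, 78, 83, 92, 109, 116, 119] [132, 130, 137, 55, 66, 126, 216, 40, 216, 86, 178, 70, 176, 19, 130, 163, 146, 46, 170, 132, 1] [true, false, false, true, true] 9 :=
  ⟨dihA_0, dihY_0, by decide, dihP_0⟩

end Cfsg.Agent.Lib.Helper25.E8Inv
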