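import Cfsg.Agent.Lib.Helper25.E8InvTab
import Cfsg.Agent.Lib.Helper25.E8InvChk0

set_option autoImplicit false

namespace Cfsg.Agent.Lib.Helper25.E8Inv

open Cfsg Cfsg.Lie Matrix
open Cfsg.Agent.Lib.Helper7 Cfsg.Agent.Lib.Helper25 Cfsg.Agent.Lib.Helper25.ChInv

set_option maxHeartbeats 0 in
set_option maxRecDepth 1000000 in
theorem dihA_1 : BitWord.bitChkQ chevE8 ([7, 21, 30, 35, 109, 116, 119] ++ nJR chevE8 (LJof [0]) ++ ([7, 21, 30, 35, 109, 116, 119] : List ℕ).reverse) [120, 123, 130, 204, 209, 218, 232] = true := by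
  decide +kernel

set_option maxHeartbeats 0 in
set_option maxRecDepth 1000000 in
theorem dihY_1 : BitWord.bitChkQ chevE8 ([120, 123, 130, 204, 209, 218, 232] ++ [120, 123, 130, 204, 209, 218, 232]) [] = true := by
  decide +kernel

set_option maxHeartbeats 0 in
set_option maxRecDepth 1000000 in
theorem dihP_1 : BitWord.powChkQ chevE8 ([120, 123, 130, 204, 209, 218, 232] ++ ([4, 168, 228, 188, 132, 132, 35, 159, 116, 160, 186, 23, 163, 32, 7, 64, 100, 113, 40, 22, 216, 170, 25, 10, 92, 157, 104, 20, 49, 227, 156, 98, 25, 31] ++ repOf [0] ++ ([4, 168, 228, 188, 132, 132, 35, 159, 116, 160, 186, 23, 163, 32, 7, 64, 100, 113, 40, 22, 216, 170, 25, 10, 92, 157, 104, 20, 49, 227, 156, 98, 25, 31] : List ℕ).reverse)) [true, true, true, true, true] = true := by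
  decide +kernel

theorem cert_1 : DihCert chevE8 (LJof [0]) (repOf [0]) [120, 123, 130, 204, 209, 218, 232] [7, 21, 30, 35, 109, 116, 119] [4, 168, 228, 188, 132, 132, 35, 159, 116, 160, 186, 23, 163, 32, 7, 64, 100, 113, 40, 22, 216, 170, 25, 10, 92, 157, 104, 20, 49, 227, 156, 98, 25, 31] [true, true, true, true, true] 15 :=
  ⟨dihA_1, dihY_1, by decide, dihP_1⟩

end Cfsg.Agent.Lib.Helper25.E8Inv
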