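import Cfsg.Agent.Lib.Helper25.E8InvTab
import Cfsg.Agent.Lib.Helper25.E8InvChk1

set_option autoImplicit false

namespace Cfsg.Agent.Lib.Helper25.E8Inv

open Cfsg Cfsg.Lie Matrix
open Cfsg.Agent.Lib.Helper7 Cfsg.Agent.Lib.Helper25 Cfsg.Agent.Lib.Helper25.ChInv

set_option maxHeartbeats 0 in
set_option maxRecDepth 1000000 in
theorem dihA_2 : BitWord.bitChkQ chevE8 ([4, 21, 46, 51, 116, 119] ++ nJR chevE8 (LJof [0, 1]) ++ ([4, 21, 46, 51, 116, 119] : List ℕ).reverse) [120, 123, 188, 193, 218, 235] = true := by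
  decide +kernel

set_option maxHeartbeats 0 in
set_option maxRecDepth 1000000 in
theorem dihY_2 : BitWord.bitChkQ chevE8 ([120, 123, 188, 193, 218, 235] ++ [120, 123, 188, 193, 218, 235]) [] = true := by
  decide +kernel

set_option maxHeartbeats 0 in
set_option maxRecDepth 1000000 in
theorem dihP_2 : BitWord.powChkQ chevE8 ([120, 123, 188, 193, 218, 235] ++ ([151, 176, 234, 49, 180, 218, 197, 22, 92, 211, 65, 41, 49] ++ repOf [0, 1] ++ ([151, 176, 234, 49, 180, 218, 197, 22, 92, 211, 65, 41, 49] : List ℕ).reverse)) [true, false, false, false, false, true] = true := by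
  decide +kernel

theorem cert_2 : DihCert chevE8 (LJof [0, 1]) (repOf [0, 1]) [120, 123, 188, 193, 218, 235] [4, 21, 46, 51, 116, 119] [151, 176, 234, 49, 180, 218, 197, 22, 92, 211, 65, 41, 49] [true, false, false, false, false, true] 16 :=
  ⟨dihA_2, dihY_2, by decide, dihP_2⟩

end Cfsg.Agent.Lib.Helper25.E8Inv
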