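import Cfsg.Agent.Lib.Helper25.E8InvTab
import Cfsg.Agent.Lib.Helper25.E8InvChk2

set_option autoImplicit false

namespace Cfsg.Agent.Lib.Helper25.E8Inv

open Cfsg Cfsg.Lie Matrix
open Cfsg.Agent.Lib.Helper7 Cfsg.Agent.Lib.Helper25 Cfsg.Agent.Lib.Helper25.ChInv

set_option maxHeartbeats 0 in
set_option maxRecDepth 1000000 in
theorem dihA_3 : BitWord.bitChkQ chevE8 ([0] ++ nJR chevE8 (LJof [0, 1, 2, 3, 4, 5, 6]) ++ ([0] : List ℕ).reverse) [239] = true := by
  decide +kernel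

set_option maxHeartbeats 0 in
set_option maxRecDepth 1000000 in
theorem dihY_3 : BitWord.bitChkQ chevE8 ([239] ++ [239]) [] = true := by
  decide +kernel

set_option maxHeartbeats 0 in
set_option maxRecDepth 1000000 in
theorem dihP_3 : BitWord.powChkQ chevE8 ([239] ++ ([] ++ repOf [0, 1, 2, 3, 4, 5, 6] ++ ([] : List ℕ).reverse)) [true] = true := by
  decide +kernel

theorem cert_3 : DihCert chevE8 (LJof [0, 1, 2, 3, 4, 5, 6]) (repOf [0, 1, 2, 3, 4, 5, 6]) [239] [0] [] [true] 0 :=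
  ⟨dihA_3, dihY_3, by decide, dihP_3⟩

end Cfsg.Agent.Lib.Helper25.E8Inv
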