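import Cfsg.Agent.Lib.Helper25.E8InvTab
import Cfsg.Agent.Lib.Helper25.E8InvChk3

set_option autoImplicit false

namespace Cfsg.Agent.Lib.Helper25.E8Inv

open Cfsg Cfsg.Lie Matrix
open Cfsg.Agent.Lib.Helper7 Cfsg.Agent.Lib.Helper25 Cfsg.Agent.Lib.Helper25.ChInv

set_option maxHeartbeats 0 in
set_option maxRecDepth 1000000 in
theorem dihA_4 : BitWord.bitChkQ chevE8 ([2, 23, 46, 55, 119] ++ nJR chevE8 (LJof [0, 1, 4]) ++ ([2, 23, 46, 55, 119] : List ℕ).reverse) [120, 184, 193, 216, 237] = true := by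
  decide +kernel

set_option maxHeartbeats 0 in
set_option maxRecDepth 1000000 in
theorem dihY_4 : BitWord.bitChkQ chevE8 ([120, 184, 193, 216, 237] ++ [120, 184, 193, 216, 237]) [] = true := by
  decide +kernel

set_option maxHeartbeats 0 in
set_option maxRecDepth 1000000 in
theorem dihP_4 : BitWord.powChkQ chevE8 ([120, 184, 193, 216, 237] ++ ([75, 214, 12, 63, 41, 103, 206, 104, 135, 150, 107, 31, 216, 10, 208, 186, 218, 94, 63, 69, 149, 51, 34, 201, 200, 174, 150, 182, 25, 72, 75, 44, 83] ++ repOf [0, 1, 4] ++ ([75, 214, 12, 63, 41, 103, 206, 104, 135, 150, 107, 31, 216, 10, 208, 186, 218, 94, 63, 69, 149, 51, 34, 201, 200, 174, 150, 182, 25, 72, 75, 44, 83] : List ℕ).reverse)) [true, false, false, false, true] = true := by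
  decide +kernel

theorem cert_4 : DihCert chevE8 (LJof [0, 1, 4]) (repOf [0, 1, 4]) [120, 184, 193, 216, 237] [2, 23, 46, 55, 119] [75, 214, 12, 63, 41, 103, 206, 104, 135, 150, 107, 31, 216, 10, 208, 186, 218, 94, 63, 69, 149, 51, 34, 201, 200, 174, 150, 182, 25, 72, 75, 44, 83] [true, false, false, false, true] 8 :=
  ⟨dihA_4, dihY_4, by decide, dihP_4⟩

end Cfsg.Agent.Lib.Helper25.E8Inv
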