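import Cfsg.Agent.Lib.Helper25.E8InvTab
import Cfsg.Agent.Lib.Helper25.E8InvChk4

set_option autoImplicit false

namespace Cfsg.Agent.Lib.Helper25.E8Inv

open Cfsg Cfsg.Lie Matrix
open Cfsg.Agent.Lib.Helper7 Cfsg.Agent.Lib.Helper25 Cfsg.Agent.Lib.Helper25.ChInv

set_option maxHeartbeats 0 in
set_option maxRecDepth 1000000 in
theorem dihA_5 : BitWord.bitChkQ chevE8 ([0, 25, 48, 55] ++ nJR chevE8 (LJof [0, 1, 4, 6]) ++ ([0, 25, 48, 55] : List ℕ).reverse) [184, 191, 214, 239] = true := by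
  decide +kernel

set_option maxHeartbeats 0 in
set_option maxRecDepth 1000000 in
theorem dihY_5 : BitWord.bitChkQ chevE8 ([184, 191, 214, 239] ++ [184, 191, 214, 239]) [] = true := by
  decide +kernel

set_option maxHeartbeats 0 in
set_option maxRecDepth 1000000 in
theorem dihP_5 : BitWord.powChkQ chevE8 ([184, 191, 214, 239] ++ ([201, 79, 165, 122, 169, 29, 69, 1, 57, 220, 211, 214, 68, 105, 142] ++ repOf [0, 1, 4, 6] ++ ([201, 79, 165, 122, 169, 29, 69, 1, 57, 220, 211, 214, 68, 105, 142] : List ℕ).reverse)) [true, false, true, false, true] = true := by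
  decide +kernel

theorem cert_5 : DihCert chevE8 (LJof [0, 1, 4, 6]) (repOf [0, 1, 4, 6]) [184, 191, 214, 239] [0, 25, 48, 55] [201, 79, 165, 122, 169, 29, 69, 1, 57, 220, 211, 214, 68, 105, 142] [true, false, true, false, true] 10 :=
  ⟨dihA_5, dihY_5, by decide, dihP_5⟩

end Cfsg.Agent.Lib.Helper25.E8Inv
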