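import Cfsg.Agent.Lib.Helper25.E8InvTab
import Cfsg.Agent.Lib.Helper25.E8InvChk5

set_option autoImplicit false

namespace Cfsg.Agent.Lib.Helper25.E8Inv

open Cfsg Cfsg.Lie Matrix
open Cfsg.Agent.Lib.Helper7 Cfsg.Agent.Lib.Helper25 Cfsg.Agent.Lib.Helper25.ChInv

set_option maxHeartbeats 0 in
set_option maxRecDepth 1000000 in
theorem dihA_6 : BitWord.bitChkQ chevE8 ([2, 11, 78, 119] ++ nJR chevE8 (LJof [1, 2, 3, 4]) ++ ([2, 11, 78, 119] : List ℕ).reverse) [120, 161, 228, 237] = true := by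
  decide +kernel

set_option maxHeartbeats 0 in
set_option maxRecDepth 1000000 in
theorem dihY_6 : BitWord.bitChkQ chevE8 ([120, 161, 228, 237] ++ [120, 161, 228, 237]) [] = true := by
  decide +kernel

set_option maxHeartbeats 0 in
set_option maxRecDepth 1000000 in
theorem dihP_6 : BitWord.powChkQ chevE8 ([120, 161, 228, 237] ++ ([208, 18, 0, 46, 98, 75, 210, 84, 27, 189, 3, 24, 96, 209, 18, 156, 135, 146] ++ repOf [1, 2, 3, 4] ++ ([208, 18, 0, 46, 98, 75, 210, 84, 27, 189, 3, 24, 96, 209, 18, 156, 135, 146] : List ℕ).reverse)) [true, false, false, true] = true := by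
  decide +kernel

theorem cert_6 : DihCert chevE8 (LJof [1, 2, 3, 4]) (repOf [1, 2, 3, 4]) [120, 161, 228, 237] [2, 11, 78, 119] [208, 18, 0, 46, 98, 75, 210, 84, 27, 189, 3, 24, 96, 209, 18, 156, 135, 146] [true, false, false, true] 4 :=
  ⟨dihA_6, dihY_6, by decide, dihP_6⟩

end Cfsg.Agent.Lib.Helper25.E8Inv
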