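import Cfsg.Agent.Lib.Helper25.E8InvTab
import Cfsg.Agent.Lib.Helper25.E8InvChk6

set_option autoImplicit false

namespace Cfsg.Agent.Lib.Helper25.E8Inv

open Cfsg Cfsg.Lie Matrix
open Cfsg.Agent.Lib.Helper7 Cfsg.Agent.Lib.Helper25 Cfsg.Agent.Lib.Helper25.ChInv

set_option maxHeartbeats 0 in
set_option maxRecDepth 1000000 in
theorem dihA_7 : BitWord.bitChkQ chevE8 ([0, 13] ++ nJR chevE8 (LJof [1, 2, 3, 4, 5, 6]) ++ ([0, 13] : List ℕ).reverse) [226, 239] = true := by
  decide +kernel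

set_option maxHeartbeats 0 in
set_option maxRecDepth 1000000 in
theorem dihY_7 : BitWord.bitChkQ chevE8 ([226, 239] ++ [226, 239]) [] = true := by
  decide +kernel

set_option maxHeartbeats 0 in
set_option maxRecDepth 1000000 in
theorem dihP_7 : BitWord.powChkQ chevE8 ([226, 239] ++ ([140, 167, 74, 42, 222, 204, 131, 103, 7, 222, 165, 208, 134, 36, 162] ++ repOf [1, 2, 3, 4, 5, 6] ++ ([140, 167, 74, 42, 222, 204, 131, 103, 7, 222, 165, 208, 134, 36, 162] : List ℕ).reverse)) [true, true] = true := by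
  decide +kernel

theorem cert_7 : DihCert chevE8 (LJof [1, 2, 3, 4, 5, 6]) (repOf [1, 2, 3, 4, 5, 6]) [226, 239] [0, 13] [140, 167, 74, 42, 222, 204, 131, 103, 7, 222, 165, 208, 134, 36, 162] [true, true] 1 :=
  ⟨dihA_7, dihY_7, by decide, dihP_7⟩

end Cfsg.Agent.Lib.Helper25.E8Inv
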