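import Cfsg.Agent.Lib.Helper25.E8InvTab
import Cfsg.Agent.Lib.Helper25.E8InvChk7

set_option autoImplicit false

namespace Cfsg.Agent.Lib.Helper25.E8Inv

open Cfsg Cfsg.Lie Matrix
open Cfsg.Agent.Lib.Helper7 Cfsg.Agent.Lib.Helper25 Cfsg.Agent.Lib.Helper25.ChInv

set_option maxHeartbeats 0 in
set_option maxRecDepth 1000000 in
theorem dihA_8 : BitWord.bitChkQ chevE8 ([0, 13, 80] ++ nJR chevE8 (LJof [1, 2, 3, 4, 6]) ++ ([0, 13, 80] : List ℕ).reverse) [159, 226, 239] = true := by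
  decide +kernel

set_option maxHeartbeats 0 in
set_option maxRecDepth 1000000 in
theorem dihY_8 : BitWord.bitChkQ chevE8 ([159, 226, 239] ++ [159, 226, 239]) [] = true := by
  decide +kernel

set_option maxHeartbeats 0 in
set_option maxRecDepth 1000000 in
theorem dihP_8 : BitWord.powChkQ chevE8 ([159, 226, 239] ++ ([165, 1, 76, 77, 175, 199, 19, 204, 14, 122, 119, 169, 184, 172, 159, 206, 62, 211, 2, 45, 53, 135, 222, 24] ++ repOf [1, 2, 3, 4, 6] ++ ([165, 1, 76, 77, 175, 199, 19, 204, 14, 122, 119, 169, 184, 172, 159, 206, 62, 211, 2, 45, 53, 135, 222, 24] : List ℕ).reverse)) [true, true, false, true] = true := by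
  decide +kernel

theorem cert_8 : DihCert chevE8 (LJof [1, 2, 3, 4, 6]) (repOf [1, 2, 3, 4, 6]) [159, 226, 239] [0, 13, 80] [165, 1, 76, 77, 175, 199, 19, 204, 14, 122, 119, 169, 184, 172, 159, 206, 62, 211, 2, 45, 53, 135, 222, 24] [true, true, false, true] 6 :=
  ⟨dihA_8, dihY_8, by decide, dihP_8⟩

end Cfsg.Agent.Lib.Helper25.E8Inv
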