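import Cfsg.Agent.Lib.Helper25.E8InvTab

set_option autoImplicit false

namespace Cfsg.Agent.Lib.Helper25.E8Inv

open Cfsg Cfsg.Lie Matrix
open Cfsg.Agent.Lib.Helper7 Cfsg.Agent.Lib.Helper25 Cfsg.Agent.Lib.Helper25.ChInv

set_option maxHeartbeats 0 in
set_option maxRecDepth 1000000 in
theorem weyl_2 : chkConjW chevE8 packed (LJof [1]) (LJof [0]) [1, 2, 0, 3, 1, 2, 0, 3] = true := by
  decide +kernel

set_option maxHeartbeats 0 in
set_option maxRecDepth 1000000 in
theorem weyl_3 : chkConjW chevE8 packed (LJof [2]) (LJof [0]) [1, 3, 2, 0] = true := by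
  decide +kernel

set_option maxHeartbeats 0 in
set_option maxRecDepth 1000000 in
theorem weyl_4 : chkConjW chevE8 packed (LJof [3]) (LJof [0]) [1, 2, 0, 3, 2, 0] = true := by
  decide +kernel

set_option maxHeartbeats 0 in
set_option maxRecDepth 1000000 in
theorem weyl_5 : chkConjW chevE8 packed (LJof [4]) (LJof [0]) [1, 2, 0, 3, 2, 0, 4, 3] = true := by
  decide +kernel

set_option maxHeartbeats 0 in
set_option maxRecDepth 1000000 in
theorem weyl_6 : chkConjW chevE8 packed (LJof [5]) (LJof [0]) [1, 2, 0, 3, 2, 0, 4, 3, 5, 4] = true := by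
  decide +kernel

set_option maxHeartbeats 0 in
set_option maxRecDepth 1000000 in
theorem weyl_7 : chkConjW chevE8 packed (LJof [6]) (LJof [0]) [1, 2, 0, 3, 2, 0, 4, 3, 5, 4, 6, 5] = true := by
  decide +kernel

set_option maxHeartbeats 0 in
set_option maxRecDepth 1000000 in
theorem weyl_8 : chkConjW chevE8 packed (LJof [7]) (LJof [0]) [1, 2, 0, 3, 2, 0, 4, 3, 5, 4, 6, 5, 7, 6] = true := by
  decide +kernel

set_option maxHeartbeats 0 in
set_option maxRecDepth 1000000 in
theorem weyl_10 : chkConjW chevE8 packed (LJof [0, 3]) (LJof [0, 1]) [3, 1] = true := by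
  decide +kernel

set_option maxHeartbeats 0 in
set_option maxRecDepth 1000000 in
theorem weyl_11 : chkConjW chevE8 packed (LJof [0, 4]) (LJof [0, 1]) [3, 1, 4, 3] = true := by
  decide +kernel

set_option maxHeartbeats 0 in
set_option maxRecDepth 1000000 in
theorem weyl_12 : chkConjW chevE8 packed (LJof [0, 5]) (LJof [0, 1]) [3, 1, 4, 3, 5, 4] = true := by
  decide +kernel

set_option maxHeartbeats 0 in
set_option maxRecDepth 1000000 in
theorem weyl_13 : chkConjW chevE8 packed (LJof [0, 6]) (LJof [0, 1]) [3, 1, 4, 3, 5, 4, 6, 5] = true := by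
  decide +kernel

set_option maxHeartbeats 0 in
set_option maxRecDepth 1000000 in
theorem weyl_14 : chkConjW chevE8 packed (LJof [0, 7]) (LJof [0, 1]) [3, 1, 4, 3, 5, 4, 6, 5, 7, 6] = true := by
  decide +kernel

set_option maxHeartbeats 0 in
set_option maxRecDepth 1000000 in
theorem weyl_15 : chkConjW chevE8 packed (LJof [1, 2]) (LJof [0, 1]) [2, 0] = true := by
  decide +kernel

set_option maxHeartbeats 0 in
set_option maxRecDepth 1000000 in
theorem weyl_16 : chkConjW chevE8 packed (LJof [1, 4]) (LJof [0, 1]) [3, 1, 4, 3, 1, 2, 0, 5, 4, 3, 1, 2, 0, 3, 4, 5] = true := by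
  decide +kernel

set_option maxHeartbeats 0 in
set_option maxRecDepth 1000000 in
theorem weyl_17 : chkConjW chevE8 packed (LJof [1, 5]) (LJof [0, 1]) [3, 1, 4, 3, 1, 2, 0, 5, 4, 3, 1, 2, 0, 3] = true := by
  decide +kernel

set_option maxHeartbeats 0 in
set_option maxRecDepth 1000000 in
theorem weyl_18 : chkConjW chevE8 packed (LJof [1, 6]) (LJof [0, 1]) [3, 1, 4, 3, 1, 2, 0, 5, 4, 3, 1, 2, 0, 3, 6, 5] = true := by
  decide +kernel

set_option maxHeartbeats 0 in
set_option maxRecDepth 1000000 in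
theorem weyl_19 : chkConjW chevE8 packed (LJof [1, 7]) (LJof [0, 1]) [3, 1, 4, 3, 1, 2, 0, 5, 4, 3, 1, 2, 0, 3, 6, 5, 7, 6] = true := by
  decide +kernel

set_option maxHeartbeats 0 in
set_option maxRecDepth 1000000 in
theorem weyl_20 : chkConjW chevE8 packed (LJof [2, 4]) (LJof [0, 1]) [4, 3, 1, 5, 4, 3, 2, 0] = true := by
  decide +kernel

set_option maxHeartbeats 0 in
set_option maxRecDepth 1000000 in
theorem weyl_21 : chkConjW chevE8 packed (LJof [2, 5]) (LJof [0, 1]) [3, 1, 4, 3, 1, 5, 4, 3, 2, 0] = true := by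
  decide +kernel

set_option maxHeartbeats 0 in
set_option maxRecDepth 1000000 in
theorem weyl_22 : chkConjW chevE8 packed (LJof [2, 6]) (LJof [0, 1]) [3, 1, 4, 3, 1, 5, 4, 3, 2, 0, 6, 5] = true := by
  decide +kernel

set_option maxHeartbeats 0 in
set_option maxRecDepth 1000000 in
theorem weyl_23 : chkConjW chevE8 packed (LJof [2, 7]) (LJof [0, 1]) [3, 1, 4, 3, 1, 5, 4, 3, 2, 0, 6, 5, 7, 6] = true := by
  decide +kernel

set_option maxHeartbeats 0 in
set_option maxRecDepth 1000000 in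
theorem weyl_24 : chkConjW chevE8 packed (LJof [3, 5]) (LJof [0, 1]) [3, 1, 4, 3, 1, 2, 0, 5, 4, 3, 2, 0] = true := by
  decide +kernel

set_option maxHeartbeats 0 in
set_option maxRecDepth 1000000 in
theorem weyl_25 : chkConjW chevE8 packed (LJof [3, 6]) (LJof [0, 1]) [3, 1, 4, 3, 1, 2, 0, 5, 4, 3, 2, 0, 6, 5] = true := by
  decide +kernel

set_option maxHeartbeats 0 in
set_option maxRecDepth 1000000 in
theorem weyl_26 : chkConjW chevE8 packed (LJof [3, 7]) (LJof [0, 1]) [3, 1, 4, 3, 1, 2, 0, 5, 4, 3, 2, 0, 6, 5, 7, 6] = true := by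
  decide +kernel

set_option maxHeartbeats 0 in
set_option maxRecDepth 1000000 in
theorem weyl_27 : chkConjW chevE8 packed (LJof [4, 6]) (LJof [0, 1]) [3, 1, 4, 3, 1, 2, 0, 5, 4, 3, 2, 0, 6, 5, 4, 3] = true := by
  decide +kernel

set_option maxHeartbeats 0 in
set_option maxRecDepth 1000000 in
theorem weyl_28 : chkConjW chevE8 packed (LJof [4, 7]) (LJof [0, 1]) [3, 1, 4, 3, 1, 2, 0, 5, 4, 3, 2, 0, 6, 5, 4, 3, 7, 6] = true := by
  decide +kernel

set_option maxHeartbeats 0 in
set_option maxRecDepth 1000000 in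
theorem weyl_29 : chkConjW chevE8 packed (LJof [5, 7]) (LJof [0, 1]) [3, 1, 4, 3, 1, 2, 0, 5, 4, 3, 2, 0, 6, 5, 4, 3, 7, 6, 5, 4] = true := by
  decide +kernel

set_option maxHeartbeats 0 in
set_option maxRecDepth 1000000 in
theorem weyl_31 : chkConjW chevE8 packed (LJof [0, 1, 5]) (LJof [0, 1, 4]) [5, 4] = true := by
  decide +kernel

set_option maxHeartbeats 0 in
set_option maxRecDepth 1000000 in
theorem weyl_32 : chkConjW chevE8 packed (LJof [0, 1, 6]) (LJof [0, 1, 4]) [5, 4, 6, 5] = true := by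
  decide +kernel

set_option maxHeartbeats 0 in
set_option maxRecDepth 1000000 in
theorem weyl_33 : chkConjW chevE8 packed (LJof [0, 1, 7]) (LJof [0, 1, 4]) [5, 4, 6, 5, 7, 6] = true := by
  decide +kernel

set_option maxHeartbeats 0 in
set_option maxRecDepth 1000000 in
theorem weyl_34 : chkConjW chevE8 packed (LJof [0, 3, 5]) (LJof [0, 1, 4]) [5, 4, 3, 1] = true := by
  decide +kernel

set_option maxHeartbeats 0 in
set_option maxRecDepth 1000000 in
theorem weyl_35 : chkConjW chevE8 packed (LJof [0, 3, 6]) (LJof [0, 1, 4]) [5, 4, 3, 1, 6, 5] = true := by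
  decide +kernel

set_option maxHeartbeats 0 in
set_option maxRecDepth 1000000 in
theorem weyl_36 : chkConjW chevE8 packed (LJof [0, 3, 7]) (LJof [0, 1, 4]) [5, 4, 3, 1, 6, 5, 7, 6] = true := by
  decide +kernel

set_option maxHeartbeats 0 in
set_option maxRecDepth 1000000 in
theorem weyl_37 : chkConjW chevE8 packed (LJof [0, 4, 6]) (LJof [0, 1, 4]) [5, 4, 3, 1, 6, 5, 4, 3] = true := by
  decide +kernel

set_option maxHeartbeats 0 in
set_option maxRecDepth 1000000 in
theorem weyl_38 : chkConjW chevE8 packed (LJof [0, 4, 7]) (LJof [0, 1, 4]) [5, 4, 3, 1, 6, 5, 4, 3, 7, 6] = true := by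
  decide +kernel

set_option maxHeartbeats 0 in
set_option maxRecDepth 1000000 in
theorem weyl_39 : chkConjW chevE8 packed (LJof [0, 5, 7]) (LJof [0, 1, 4]) [5, 4, 3, 1, 6, 5, 4, 3, 7, 6, 5, 4] = true := by
  decide +kernel

set_option maxHeartbeats 0 in
set_option maxRecDepth 1000000 in
theorem weyl_40 : chkConjW chevE8 packed (LJof [1, 2, 4]) (LJof [0, 1, 4]) [2, 0] = true := by
  decide +kernel

set_option maxHeartbeats 0 in
set_option maxRecDepth 1000000 in
theorem weyl_41 : chkConjW chevE8 packed (LJof [1, 2, 5]) (LJof [0, 1, 4]) [2, 0, 5, 4] = true := by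
  decide +kernel

set_option maxHeartbeats 0 in
set_option maxRecDepth 1000000 in
theorem weyl_42 : chkConjW chevE8 packed (LJof [1, 2, 6]) (LJof [0, 1, 4]) [2, 0, 5, 4, 6, 5] = true := by
  decide +kernel

set_option maxHeartbeats 0 in
set_option maxRecDepth 1000000 in
theorem weyl_43 : chkConjW chevE8 packed (LJof [1, 2, 7]) (LJof [0, 1, 4]) [2, 0, 5, 4, 6, 5, 7, 6] = true := by
  decide +kernel

set_option maxHeartbeats 0 in
set_option maxRecDepth 1000000 in
theorem weyl_44 : chkConjW chevE8 packed (LJof [1, 4, 6]) (LJof [0, 1, 4]) [5, 4, 3, 1, 6, 5, 4, 3, 1, 2, 0, 7, 6, 5, 4, 3, 1, 2, 0, 3, 4, 5, 6, 7] = true := by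
  decide +kernel

set_option maxHeartbeats 0 in
set_option maxRecDepth 1000000 in
theorem weyl_45 : chkConjW chevE8 packed (LJof [1, 4, 7]) (LJof [0, 1, 4]) [5, 4, 3, 1, 6, 5, 4, 3, 1, 2, 0, 7, 6, 5, 4, 3, 1, 2, 0, 3, 4, 5] = true := by
  decide +kernel

set_option maxHeartbeats 0 in
set_option maxRecDepth 1000000 in
theorem weyl_46 : chkConjW chevE8 packed (LJof [1, 5, 7]) (LJof [0, 1, 4]) [5, 4, 3, 1, 6, 5, 4, 3, 1, 2, 0, 7, 6, 5, 4, 3, 1, 2, 0, 3] = true := by
  decide +kernel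

set_option maxHeartbeats 0 in
set_option maxRecDepth 1000000 in
theorem weyl_47 : chkConjW chevE8 packed (LJof [2, 4, 6]) (LJof [0, 1, 4]) [6, 5, 4, 3, 1, 7, 6, 5, 4, 3, 2, 0] = true := by
  decide +kernel

set_option maxHeartbeats 0 in
set_option maxRecDepth 1000000 in
theorem weyl_48 : chkConjW chevE8 packed (LJof [2, 4, 7]) (LJof [0, 1, 4]) [5, 4, 6, 5, 4, 3, 1, 7, 6, 5, 4, 3, 2, 0] = true := by
  decide +kernel

set_option maxHeartbeats 0 in
set_option maxRecDepth 1000000 in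
theorem weyl_49 : chkConjW chevE8 packed (LJof [2, 5, 7]) (LJof [0, 1, 4]) [5, 4, 3, 1, 6, 5, 4, 3, 1, 7, 6, 5, 4, 3, 2, 0] = true := by
  decide +kernel

set_option maxHeartbeats 0 in
set_option maxRecDepth 1000000 in
theorem weyl_50 : chkConjW chevE8 packed (LJof [3, 5, 7]) (LJof [0, 1, 4]) [5, 4, 3, 1, 6, 5, 4, 3, 1, 2, 0, 7, 6, 5, 4, 3, 2, 0] = true := by
  decide +kernel

set_option maxHeartbeats 0 in
set_option maxRecDepth 1000000 in
theorem weyl_52 : chkConjW chevE8 packed (LJof [0, 1, 4, 7]) (LJof [0, 1, 4, 6]) [7, 6] = true := by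
  decide +kernel

set_option maxHeartbeats 0 in
set_option maxRecDepth 1000000 in
theorem weyl_53 : chkConjW chevE8 packed (LJof [0, 1, 5, 7]) (LJof [0, 1, 4, 6]) [7, 6, 5, 4] = true := by
  decide +kernel

set_option maxHeartbeats 0 in
set_option maxRecDepth 1000000 in
theorem weyl_54 : chkConjW chevE8 packed (LJof [0, 3, 5, 7]) (LJof [0, 1, 4, 6]) [7, 6, 5, 4, 3, 1] = true := by
  decide +kernel

set_option maxHeartbeats 0 in
set_option maxRecDepth 1000000 in
theorem weyl_56 : chkConjW chevE8 packed (LJof [1, 2, 4, 6]) (LJof [0, 1, 4, 6]) [2, 0] = true := by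
  decide +kernel

set_option maxHeartbeats 0 in
set_option maxRecDepth 1000000 in
theorem weyl_57 : chkConjW chevE8 packed (LJof [1, 2, 4, 7]) (LJof [0, 1, 4, 6]) [2, 0, 7, 6] = true := by
  decide +kernel

set_option maxHeartbeats 0 in
set_option maxRecDepth 1000000 in
theorem weyl_58 : chkConjW chevE8 packed (LJof [1, 2, 5, 7]) (LJof [0, 1, 4, 6]) [2, 0, 7, 6, 5, 4] = true := by
  decide +kernel

set_option maxHeartbeats 0 in
set_option maxRecDepth 1000000 in
theorem weyl_60 : chkConjW chevE8 packed (LJof [1, 2, 3, 4, 7]) (LJof [1, 2, 3, 4, 6]) [7, 6] = true := by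
  decide +kernel

end Cfsg.Agent.Lib.Helper25.E8Inv
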