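import Cfsg.Agent.Lib.Helper25.E8InvChk0
import Cfsg.Agent.Lib.Helper25.E8InvChk1
import Cfsg.Agent.Lib.Helper25.E8InvChk2
import Cfsg.Agent.Lib.Helper25.E8InvChk3
import Cfsg.Agent.Lib.Helper25.E8InvChk4
import Cfsg.Agent.Lib.Helper25.E8InvChk5
import Cfsg.Agent.Lib.Helper25.E8InvChk6
import Cfsg.Agent.Lib.Helper25.E8InvChk7
import Cfsg.Agent.Lib.Helper25.E8InvChk8
import Cfsg.Agent.Lib.Helper25.E8InvWeyl
import Cfsg.Agent.Lib.Helper25.E8InvRank0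
import Cfsg.Agent.Lib.Helper25.E8InvRank1
import Cfsg.Agent.Lib.Helper25.E8InvRank2
import Cfsg.Agent.Lib.Helper25.E8InvRank3

/-! The classes of involutions of `E8(2ᵃ)` (helper25; generated). -/

set_option autoImplicit false

namespace Cfsg.Agent.Lib.Helper25.E8Inv

open Cfsg Cfsg.Lie Matrix
open Cfsg.Agent.Lib.Helper7 Cfsg.Agent.Lib.Helper25 Cfsg.Agent.Lib.Helper25.ChInv

section
variable (F : Type*) [Field F] [Fintype F] [CharP F 2]

theorem conjRep_0 : ConjStmt chevE8 mem_E8 F (LJof []) (repOf []) :=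
  conjStmt_of_cert chevE8 mem_E8 F _ _ _ _ _ _ _ (reps_sq _ (rep_mem _ (by decide))) cert_0

theorem conjRep_1 : ConjStmt chevE8 mem_E8 F (LJof [0]) (repOf [0]) :=
  conjStmt_of_cert chevE8 mem_E8 F _ _ _ _ _ _ _ (reps_sq _ (rep_mem _ (by decide))) cert_1

theorem conjRep_2 : ConjStmt chevE8 mem_E8 F (LJof [0, 1]) (repOf [0, 1]) :=
  conjStmt_of_cert chevE8 mem_E8 F _ _ _ _ _ _ _ (reps_sq _ (rep_mem _ (by decide))) cert_2

theorem conjRep_3 : ConjStmt chevE8 mem_E8 F (LJof [0, 1, 2, 3, 4, 5, 6]) (repOf [0, 1, 2, 3, 4, 5, 6]) :=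
  conjStmt_of_cert chevE8 mem_E8 F _ _ _ _ _ _ _ (reps_sq _ (rep_mem _ (by decide))) cert_3

theorem conjRep_4 : ConjStmt chevE8 mem_E8 F (LJof [0, 1, 4]) (repOf [0, 1, 4]) :=
  conjStmt_of_cert chevE8 mem_E8 F _ _ _ _ _ _ _ (reps_sq _ (rep_mem _ (by decide))) cert_4

theorem conjRep_5 : ConjStmt chevE8 mem_E8 F (LJof [0, 1, 4, 6]) (repOf [0, 1, 4, 6]) :=
  conjStmt_of_cert chevE8 mem_E8 F _ _ _ _ _ _ _ (reps_sq _ (rep_mem _ (by decide))) cert_5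

theorem conjRep_6 : ConjStmt chevE8 mem_E8 F (LJof [1, 2, 3, 4]) (repOf [1, 2, 3, 4]) :=
  conjStmt_of_cert chevE8 mem_E8 F _ _ _ _ _ _ _ (reps_sq _ (rep_mem _ (by decide))) cert_6

theorem conjRep_7 : ConjStmt chevE8 mem_E8 F (LJof [1, 2, 3, 4, 5, 6]) (repOf [1, 2, 3, 4, 5, 6]) :=
  conjStmt_of_cert chevE8 mem_E8 F _ _ _ _ _ _ _ (reps_sq _ (rep_mem _ (by decide))) cert_7

theorem conjRep_8 : ConjStmt chevE8 mem_E8 F (LJof [1, 2, 3, 4, 6]) (repOf [1, 2, 3, 4, 6]) :=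
  conjStmt_of_cert chevE8 mem_E8 F _ _ _ _ _ _ _ (reps_sq _ (rep_mem _ (by decide))) cert_8

theorem conjW_2 : ConjStmt chevE8 mem_E8 F (LJof [1]) (repOf [1]) := by
  have hc := conjRep_1 F
  have e : repOf [0] = repOf [1] := by decide
  rw [e] at hc
  exact conjStmt_of_chkConjW chevE8 mem_E8 F packed hpk _ _ [1, 2, 0, 3, 1, 2, 0, 3] _ weyl_2 hc

theorem conjW_3 : ConjStmt chevE8 mem_E8 F (LJof [2]) (repOf [2]) := by
  have hc := conjRep_1 F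
  have e : repOf [0] = repOf [2] := by decide
  rw [e] at hc
  exact conjStmt_of_chkConjW chevE8 mem_E8 F packed hpk _ _ [1, 3, 2, 0] _ weyl_3 hc

theorem conjW_4 : ConjStmt chevE8 mem_E8 F (LJof [3]) (repOf [3]) := by
  have hc := conjRep_1 F
  have e : repOf [0] = repOf [3] := by decide
  rw [e] at hc
  exact conjStmt_of_chkConjW chevE8 mem_E8 F packed hpk _ _ [1, 2, 0, 3, 2, 0] _ weyl_4 hc

theorem conjW_5 : ConjStmt chevE8 mem_E8 F (LJof [4]) (repOf [4]) := by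
  have hc := conjRep_1 F
  have e : repOf [0] = repOf [4] := by decide
  rw [e] at hc
  exact conjStmt_of_chkConjW chevE8 mem_E8 F packed hpk _ _ [1, 2, 0, 3, 2, 0, 4, 3] _ weyl_5 hc

theorem conjW_6 : ConjStmt chevE8 mem_E8 F (LJof [5]) (repOf [5]) := by
  have hc := conjRep_1 F
  have e : repOf [0] = repOf [5] := by decide
  rw [e] at hc
  exact conjStmt_of_chkConjW chevE8 mem_E8 F packed hpk _ _ [1, 2, 0, 3, 2, 0, 4, 3, 5, 4] _ weyl_6 hc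

theorem conjW_7 : ConjStmt chevE8 mem_E8 F (LJof [6]) (repOf [6]) := by
  have hc := conjRep_1 F
  have e : repOf [0] = repOf [6] := by decide
  rw [e] at hc
  exact conjStmt_of_chkConjW chevE8 mem_E8 F packed hpk _ _ [1, 2, 0, 3, 2, 0, 4, 3, 5, 4, 6, 5] _ weyl_7 hc

theorem conjW_8 : ConjStmt chevE8 mem_E8 F (LJof [7]) (repOf [7]) := by
  have hc := conjRep_1 F
  have e : repOf [0] = repOf [7] := by decide
  rw [e] at hc
  exact conjStmt_of_chkConjW chevE8 mem_E8 F packed hpk _ _ [1, 2, 0, 3, 2, 0, 4, 3, 5, 4, 6, 5, 7, 6] _ weyl_8 hc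

theorem conjW_10 : ConjStmt chevE8 mem_E8 F (LJof [0, 3]) (repOf [0, 3]) := by
  have hc := conjRep_2 F
  have e : repOf [0, 1] = repOf [0, 3] := by decide
  rw [e] at hc
  exact conjStmt_of_chkConjW chevE8 mem_E8 F packed hpk _ _ [3, 1] _ weyl_10 hc

theorem conjW_11 : ConjStmt chevE8 mem_E8 F (LJof [0, 4]) (repOf [0, 4]) := by
  have hc := conjRep_2 F
  have e : repOf [0, 1] = repOf [0, 4] := by decide
  rw [e] at hc
  exact conjStmt_of_chkConjW chevE8 mem_E8 F packed hpk _ _ [3, 1, 4, 3] _ weyl_11 hc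

theorem conjW_12 : ConjStmt chevE8 mem_E8 F (LJof [0, 5]) (repOf [0, 5]) := by
  have hc := conjRep_2 F
  have e : repOf [0, 1] = repOf [0, 5] := by decide
  rw [e] at hc
  exact conjStmt_of_chkConjW chevE8 mem_E8 F packed hpk _ _ [3, 1, 4, 3, 5, 4] _ weyl_12 hc

theorem conjW_13 : ConjStmt chevE8 mem_E8 F (LJof [0, 6]) (repOf [0, 6]) := by
  have hc := conjRep_2 F
  have e : repOf [0, 1] = repOf [0, 6] := by decide
  rw [e] at hc
  exact conjStmt_of_chkConjW chevE8 mem_E8 F packed hpk _ _ [3, 1, 4, 3, 5, 4, 6, 5] _ weyl_13 hc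

theorem conjW_14 : ConjStmt chevE8 mem_E8 F (LJof [0, 7]) (repOf [0, 7]) := by
  have hc := conjRep_2 F
  have e : repOf [0, 1] = repOf [0, 7] := by decide
  rw [e] at hc
  exact conjStmt_of_chkConjW chevE8 mem_E8 F packed hpk _ _ [3, 1, 4, 3, 5, 4, 6, 5, 7, 6] _ weyl_14 hc

theorem conjW_15 : ConjStmt chevE8 mem_E8 F (LJof [1, 2]) (repOf [1, 2]) := by
  have hc := conjRep_2 F
  have e : repOf [0, 1] = repOf [1, 2] := by decide
  rw [e] at hc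
  exact conjStmt_of_chkConjW chevE8 mem_E8 F packed hpk _ _ [2, 0] _ weyl_15 hc

theorem conjW_16 : ConjStmt chevE8 mem_E8 F (LJof [1, 4]) (repOf [1, 4]) := by
  have hc := conjRep_2 F
  have e : repOf [0, 1] = repOf [1, 4] := by decide
  rw [e] at hc
  exact conjStmt_of_chkConjW chevE8 mem_E8 F packed hpk _ _ [3, 1, 4, 3, 1, 2, 0, 5, 4, 3, 1, 2, 0, 3, 4, 5] _ weyl_16 hc

theorem conjW_17 : ConjStmt chevE8 mem_E8 F (LJof [1, 5]) (repOf [1, 5]) := by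
  have hc := conjRep_2 F
  have e : repOf [0, 1] = repOf [1, 5] := by decide
  rw [e] at hc
  exact conjStmt_of_chkConjW chevE8 mem_E8 F packed hpk _ _ [3, 1, 4, 3, 1, 2, 0, 5, 4, 3, 1, 2, 0, 3] _ weyl_17 hc

theorem conjW_18 : ConjStmt chevE8 mem_E8 F (LJof [1, 6]) (repOf [1, 6]) := by
  have hc := conjRep_2 F
  have e : repOf [0, 1] = repOf [1, 6] := by decide
  rw [e] at hc
  exact conjStmt_of_chkConjW chevE8 mem_E8 F packed hpk _ _ [3, 1, 4, 3, 1, 2, 0, 5, 4, 3, 1, 2, 0, 3, 6, 5] _ weyl_18 hc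

theorem conjW_19 : ConjStmt chevE8 mem_E8 F (LJof [1, 7]) (repOf [1, 7]) := by
  have hc := conjRep_2 F
  have e : repOf [0, 1] = repOf [1, 7] := by decide
  rw [e] at hc
  exact conjStmt_of_chkConjW chevE8 mem_E8 F packed hpk _ _ [3, 1, 4, 3, 1, 2, 0, 5, 4, 3, 1, 2, 0, 3, 6, 5, 7, 6] _ weyl_19 hc

theorem conjW_20 : ConjStmt chevE8 mem_E8 F (LJof [2, 4]) (repOf [2, 4]) := by
  have hc := conjRep_2 F
  have e : repOf [0, 1] = repOf [2, 4] := by decide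
  rw [e] at hc
  exact conjStmt_of_chkConjW chevE8 mem_E8 F packed hpk _ _ [4, 3, 1, 5, 4, 3, 2, 0] _ weyl_20 hc

theorem conjW_21 : ConjStmt chevE8 mem_E8 F (LJof [2, 5]) (repOf [2, 5]) := by
  have hc := conjRep_2 F
  have e : repOf [0, 1] = repOf [2, 5] := by decide
  rw [e] at hc
  exact conjStmt_of_chkConjW chevE8 mem_E8 F packed hpk _ _ [3, 1, 4, 3, 1, 5, 4, 3, 2, 0] _ weyl_21 hc

theorem conjW_22 : ConjStmt chevE8 mem_E8 F (LJof [2, 6]) (repOf [2, 6]) := by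
  have hc := conjRep_2 F
  have e : repOf [0, 1] = repOf [2, 6] := by decide
  rw [e] at hc
  exact conjStmt_of_chkConjW chevE8 mem_E8 F packed hpk _ _ [3, 1, 4, 3, 1, 5, 4, 3, 2, 0, 6, 5] _ weyl_22 hc

theorem conjW_23 : ConjStmt chevE8 mem_E8 F (LJof [2, 7]) (repOf [2, 7]) := by
  have hc := conjRep_2 F
  have e : repOf [0, 1] = repOf [2, 7] := by decide
  rw [e] at hc
  exact conjStmt_of_chkConjW chevE8 mem_E8 F packed hpk _ _ [3, 1, 4, 3, 1, 5, 4, 3, 2, 0, 6, 5, 7, 6] _ weyl_23 hc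

theorem conjW_24 : ConjStmt chevE8 mem_E8 F (LJof [3, 5]) (repOf [3, 5]) := by
  have hc := conjRep_2 F
  have e : repOf [0, 1] = repOf [3, 5] := by decide
  rw [e] at hc
  exact conjStmt_of_chkConjW chevE8 mem_E8 F packed hpk _ _ [3, 1, 4, 3, 1, 2, 0, 5, 4, 3, 2, 0] _ weyl_24 hc

theorem conjW_25 : ConjStmt chevE8 mem_E8 F (LJof [3, 6]) (repOf [3, 6]) := by
  have hc := conjRep_2 F
  have e : repOf [0, 1] = repOf [3, 6] := by decide
  rw [e] at hc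
  exact conjStmt_of_chkConjW chevE8 mem_E8 F packed hpk _ _ [3, 1, 4, 3, 1, 2, 0, 5, 4, 3, 2, 0, 6, 5] _ weyl_25 hc

theorem conjW_26 : ConjStmt chevE8 mem_E8 F (LJof [3, 7]) (repOf [3, 7]) := by
  have hc := conjRep_2 F
  have e : repOf [0, 1] = repOf [3, 7] := by decide
  rw [e] at hc
  exact conjStmt_of_chkConjW chevE8 mem_E8 F packed hpk _ _ [3, 1, 4, 3, 1, 2, 0, 5, 4, 3, 2, 0, 6, 5, 7, 6] _ weyl_26 hc

theorem conjW_27 : ConjStmt chevE8 mem_E8 F (LJof [4, 6]) (repOf [4, 6]) := by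
  have hc := conjRep_2 F
  have e : repOf [0, 1] = repOf [4, 6] := by decide
  rw [e] at hc
  exact conjStmt_of_chkConjW chevE8 mem_E8 F packed hpk _ _ [3, 1, 4, 3, 1, 2, 0, 5, 4, 3, 2, 0, 6, 5, 4, 3] _ weyl_27 hc

theorem conjW_28 : ConjStmt chevE8 mem_E8 F (LJof [4, 7]) (repOf [4, 7]) := by
  have hc := conjRep_2 F
  have e : repOf [0, 1] = repOf [4, 7] := by decide
  rw [e] at hc
  exact conjStmt_of_chkConjW chevE8 mem_E8 F packed hpk _ _ [3, 1, 4, 3, 1, 2, 0, 5, 4, 3, 2, 0, 6, 5, 4, 3, 7, 6] _ weyl_28 hc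

theorem conjW_29 : ConjStmt chevE8 mem_E8 F (LJof [5, 7]) (repOf [5, 7]) := by
  have hc := conjRep_2 F
  have e : repOf [0, 1] = repOf [5, 7] := by decide
  rw [e] at hc
  exact conjStmt_of_chkConjW chevE8 mem_E8 F packed hpk _ _ [3, 1, 4, 3, 1, 2, 0, 5, 4, 3, 2, 0, 6, 5, 4, 3, 7, 6, 5, 4] _ weyl_29 hc

theorem conjW_31 : ConjStmt chevE8 mem_E8 F (LJof [0, 1, 5]) (repOf [0, 1, 5]) := by
  have hc := conjRep_4 F
  have e : repOf [0, 1, 4] = repOf [0, 1, 5] := by decide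
  rw [e] at hc
  exact conjStmt_of_chkConjW chevE8 mem_E8 F packed hpk _ _ [5, 4] _ weyl_31 hc

theorem conjW_32 : ConjStmt chevE8 mem_E8 F (LJof [0, 1, 6]) (repOf [0, 1, 6]) := by
  have hc := conjRep_4 F
  have e : repOf [0, 1, 4] = repOf [0, 1, 6] := by decide
  rw [e] at hc
  exact conjStmt_of_chkConjW chevE8 mem_E8 F packed hpk _ _ [5, 4, 6, 5] _ weyl_32 hc

theorem conjW_33 : ConjStmt chevE8 mem_E8 F (LJof [0, 1, 7]) (repOf [0, 1, 7]) := by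
  have hc := conjRep_4 F
  have e : repOf [0, 1, 4] = repOf [0, 1, 7] := by decide
  rw [e] at hc
  exact conjStmt_of_chkConjW chevE8 mem_E8 F packed hpk _ _ [5, 4, 6, 5, 7, 6] _ weyl_33 hc

theorem conjW_34 : ConjStmt chevE8 mem_E8 F (LJof [0, 3, 5]) (repOf [0, 3, 5]) := by
  have hc := conjRep_4 F
  have e : repOf [0, 1, 4] = repOf [0, 3, 5] := by decide
  rw [e] at hc
  exact conjStmt_of_chkConjW chevE8 mem_E8 F packed hpk _ _ [5, 4, 3, 1] _ weyl_34 hc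

theorem conjW_35 : ConjStmt chevE8 mem_E8 F (LJof [0, 3, 6]) (repOf [0, 3, 6]) := by
  have hc := conjRep_4 F
  have e : repOf [0, 1, 4] = repOf [0, 3, 6] := by decide
  rw [e] at hc
  exact conjStmt_of_chkConjW chevE8 mem_E8 F packed hpk _ _ [5, 4, 3, 1, 6, 5] _ weyl_35 hc

theorem conjW_36 : ConjStmt chevE8 mem_E8 F (LJof [0, 3, 7]) (repOf [0, 3, 7]) := by
  have hc := conjRep_4 F
  have e : repOf [0, 1, 4] = repOf [0, 3, 7] := by decide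
  rw [e] at hc
  exact conjStmt_of_chkConjW chevE8 mem_E8 F packed hpk _ _ [5, 4, 3, 1, 6, 5, 7, 6] _ weyl_36 hc

theorem conjW_37 : ConjStmt chevE8 mem_E8 F (LJof [0, 4, 6]) (repOf [0, 4, 6]) := by
  have hc := conjRep_4 F
  have e : repOf [0, 1, 4] = repOf [0, 4, 6] := by decide
  rw [e] at hc
  exact conjStmt_of_chkConjW chevE8 mem_E8 F packed hpk _ _ [5, 4, 3, 1, 6, 5, 4, 3] _ weyl_37 hc

theorem conjW_38 : ConjStmt chevE8 mem_E8 F (LJof [0, 4, 7]) (repOf [0, 4, 7]) := by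
  have hc := conjRep_4 F
  have e : repOf [0, 1, 4] = repOf [0, 4, 7] := by decide
  rw [e] at hc
  exact conjStmt_of_chkConjW chevE8 mem_E8 F packed hpk _ _ [5, 4, 3, 1, 6, 5, 4, 3, 7, 6] _ weyl_38 hc

theorem conjW_39 : ConjStmt chevE8 mem_E8 F (LJof [0, 5, 7]) (repOf [0, 5, 7]) := by
  have hc := conjRep_4 F
  have e : repOf [0, 1, 4] = repOf [0, 5, 7] := by decide
  rw [e] at hc
  exact conjStmt_of_chkConjW chevE8 mem_E8 F packed hpk _ _ [5, 4, 3, 1, 6, 5, 4, 3, 7, 6, 5, 4] _ weyl_39 hc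

theorem conjW_40 : ConjStmt chevE8 mem_E8 F (LJof [1, 2, 4]) (repOf [1, 2, 4]) := by
  have hc := conjRep_4 F
  have e : repOf [0, 1, 4] = repOf [1, 2, 4] := by decide
  rw [e] at hc
  exact conjStmt_of_chkConjW chevE8 mem_E8 F packed hpk _ _ [2, 0] _ weyl_40 hc

theorem conjW_41 : ConjStmt chevE8 mem_E8 F (LJof [1, 2, 5]) (repOf [1, 2, 5]) := by
  have hc := conjRep_4 F
  have e : repOf [0, 1, 4] = repOf [1, 2, 5] := by decide
  rw [e] at hc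
  exact conjStmt_of_chkConjW chevE8 mem_E8 F packed hpk _ _ [2, 0, 5, 4] _ weyl_41 hc

theorem conjW_42 : ConjStmt chevE8 mem_E8 F (LJof [1, 2, 6]) (repOf [1, 2, 6]) := by
  have hc := conjRep_4 F
  have e : repOf [0, 1, 4] = repOf [1, 2, 6] := by decide
  rw [e] at hc
  exact conjStmt_of_chkConjW chevE8 mem_E8 F packed hpk _ _ [2, 0, 5, 4, 6, 5] _ weyl_42 hc

theorem conjW_43 : ConjStmt chevE8 mem_E8 F (LJof [1, 2, 7]) (repOf [1, 2, 7]) := by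
  have hc := conjRep_4 F
  have e : repOf [0, 1, 4] = repOf [1, 2, 7] := by decide
  rw [e] at hc
  exact conjStmt_of_chkConjW chevE8 mem_E8 F packed hpk _ _ [2, 0, 5, 4, 6, 5, 7, 6] _ weyl_43 hc

theorem conjW_44 : ConjStmt chevE8 mem_E8 F (LJof [1, 4, 6]) (repOf [1, 4, 6]) := by
  have hc := conjRep_4 F
  have e : repOf [0, 1, 4] = repOf [1, 4, 6] := by decide
  rw [e] at hc
  exact conjStmt_of_chkConjW chevE8 mem_E8 F packed hpk _ _ [5, 4, 3, 1, 6, 5, 4, 3, 1, 2, 0, 7, 6, 5, 4, 3, 1, 2, 0, 3, 4, 5, 6, 7] _ weyl_44 hc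

theorem conjW_45 : ConjStmt chevE8 mem_E8 F (LJof [1, 4, 7]) (repOf [1, 4, 7]) := by
  have hc := conjRep_4 F
  have e : repOf [0, 1, 4] = repOf [1, 4, 7] := by decide
  rw [e] at hc
  exact conjStmt_of_chkConjW chevE8 mem_E8 F packed hpk _ _ [5, 4, 3, 1, 6, 5, 4, 3, 1, 2, 0, 7, 6, 5, 4, 3, 1, 2, 0, 3, 4, 5] _ weyl_45 hc

theorem conjW_46 : ConjStmt chevE8 mem_E8 F (LJof [1, 5, 7]) (repOf [1, 5, 7]) := by
  have hc := conjRep_4 F
  have e : repOf [0, 1, 4] = repOf [1, 5, 7] := by decide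
  rw [e] at hc
  exact conjStmt_of_chkConjW chevE8 mem_E8 F packed hpk _ _ [5, 4, 3, 1, 6, 5, 4, 3, 1, 2, 0, 7, 6, 5, 4, 3, 1, 2, 0, 3] _ weyl_46 hc

theorem conjW_47 : ConjStmt chevE8 mem_E8 F (LJof [2, 4, 6]) (repOf [2, 4, 6]) := by
  have hc := conjRep_4 F
  have e : repOf [0, 1, 4] = repOf [2, 4, 6] := by decide
  rw [e] at hc
  exact conjStmt_of_chkConjW chevE8 mem_E8 F packed hpk _ _ [6, 5, 4, 3, 1, 7, 6, 5, 4, 3, 2, 0] _ weyl_47 hc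

theorem conjW_48 : ConjStmt chevE8 mem_E8 F (LJof [2, 4, 7]) (repOf [2, 4, 7]) := by
  have hc := conjRep_4 F
  have e : repOf [0, 1, 4] = repOf [2, 4, 7] := by decide
  rw [e] at hc
  exact conjStmt_of_chkConjW chevE8 mem_E8 F packed hpk _ _ [5, 4, 6, 5, 4, 3, 1, 7, 6, 5, 4, 3, 2, 0] _ weyl_48 hc

theorem conjW_49 : ConjStmt chevE8 mem_E8 F (LJof [2, 5, 7]) (repOf [2, 5, 7]) := by
  have hc := conjRep_4 F
  have e : repOf [0, 1, 4] = repOf [2, 5, 7] := by decide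
  rw [e] at hc
  exact conjStmt_of_chkConjW chevE8 mem_E8 F packed hpk _ _ [5, 4, 3, 1, 6, 5, 4, 3, 1, 7, 6, 5, 4, 3, 2, 0] _ weyl_49 hc

theorem conjW_50 : ConjStmt chevE8 mem_E8 F (LJof [3, 5, 7]) (repOf [3, 5, 7]) := by
  have hc := conjRep_4 F
  have e : repOf [0, 1, 4] = repOf [3, 5, 7] := by decide
  rw [e] at hc
  exact conjStmt_of_chkConjW chevE8 mem_E8 F packed hpk _ _ [5, 4, 3, 1, 6, 5, 4, 3, 1, 2, 0, 7, 6, 5, 4, 3, 2, 0] _ weyl_50 hc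

theorem conjW_52 : ConjStmt chevE8 mem_E8 F (LJof [0, 1, 4, 7]) (repOf [0, 1, 4, 7]) := by
  have hc := conjRep_5 F
  have e : repOf [0, 1, 4, 6] = repOf [0, 1, 4, 7] := by decide
  rw [e] at hc
  exact conjStmt_of_chkConjW chevE8 mem_E8 F packed hpk _ _ [7, 6] _ weyl_52 hc

theorem conjW_53 : ConjStmt chevE8 mem_E8 F (LJof [0, 1, 5, 7]) (repOf [0, 1, 5, 7]) := by
  have hc := conjRep_5 F
  have e : repOf [0, 1, 4, 6] = repOf [0, 1, 5, 7] := by decide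
  rw [e] at hc
  exact conjStmt_of_chkConjW chevE8 mem_E8 F packed hpk _ _ [7, 6, 5, 4] _ weyl_53 hc

theorem conjW_54 : ConjStmt chevE8 mem_E8 F (LJof [0, 3, 5, 7]) (repOf [0, 3, 5, 7]) := by
  have hc := conjRep_5 F
  have e : repOf [0, 1, 4, 6] = repOf [0, 3, 5, 7] := by decide
  rw [e] at hc
  exact conjStmt_of_chkConjW chevE8 mem_E8 F packed hpk _ _ [7, 6, 5, 4, 3, 1] _ weyl_54 hc

theorem conjW_56 : ConjStmt chevE8 mem_E8 F (LJof [1, 2, 4, 6]) (repOf [1, 2, 4, 6]) := by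
  have hc := conjRep_5 F
  have e : repOf [0, 1, 4, 6] = repOf [1, 2, 4, 6] := by decide
  rw [e] at hc
  exact conjStmt_of_chkConjW chevE8 mem_E8 F packed hpk _ _ [2, 0] _ weyl_56 hc

theorem conjW_57 : ConjStmt chevE8 mem_E8 F (LJof [1, 2, 4, 7]) (repOf [1, 2, 4, 7]) := by
  have hc := conjRep_5 F
  have e : repOf [0, 1, 4, 6] = repOf [1, 2, 4, 7] := by decide
  rw [e] at hc
  exact conjStmt_of_chkConjW chevE8 mem_E8 F packed hpk _ _ [2, 0, 7, 6] _ weyl_57 hc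

theorem conjW_58 : ConjStmt chevE8 mem_E8 F (LJof [1, 2, 5, 7]) (repOf [1, 2, 5, 7]) := by
  have hc := conjRep_5 F
  have e : repOf [0, 1, 4, 6] = repOf [1, 2, 5, 7] := by decide
  rw [e] at hc
  exact conjStmt_of_chkConjW chevE8 mem_E8 F packed hpk _ _ [2, 0, 7, 6, 5, 4] _ weyl_58 hc

theorem conjW_60 : ConjStmt chevE8 mem_E8 F (LJof [1, 2, 3, 4, 7]) (repOf [1, 2, 3, 4, 7]) := by
  have hc := conjRep_8 F
  have e : repOf [1, 2, 3, 4, 6] = repOf [1, 2, 3, 4, 7] := by decide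
  rw [e] at hc
  exact conjStmt_of_chkConjW chevE8 mem_E8 F packed hpk _ _ [7, 6] _ weyl_60 hc

theorem conj_all : ∀ J ∈ validL, ConjStmt chevE8 mem_E8 F (LJof J) (repOf J) := by
  unfold validL
  exact List.forall_mem_cons.2 ⟨conjRep_0 F, List.forall_mem_cons.2 ⟨conjRep_1 F, List.forall_mem_cons.2 ⟨conjW_2 F, List.forall_mem_cons.2 ⟨conjW_3 F, List.forall_mem_cons.2 ⟨conjW_4 F, List.forall_mem_cons.2 ⟨conjW_5 F, List.forall_mem_cons.2 ⟨conjW_6 F, List.forall_mem_cons.2 ⟨conjW_7 F, List.forall_mem_cons.2 ⟨conjW_8 F, List.forall_mem_cons.2 ⟨conjRep_2 F, List.forall_mem_cons.2 ⟨conjW_10 F, List.forall_mem_cons.2 ⟨conjW_11 F, List.forall_mem_cons.2 ⟨conjW_12 F, List.forall_mem_cons.2 ⟨conjW_13 F, List.forall_mem_cons.2 ⟨conjW_14 F, List.forall_mem_cons.2 ⟨conjW_15 F, List.forall_mem_cons.2 ⟨conjW_16 F, List.forall_mem_cons.2 ⟨conjW_17 F, List.forall_mem_cons.2 ⟨conjW_18 F, List.forall_mem_cons.2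 ⟨conjW_19 F, List.forall_mem_cons.2 ⟨conjW_20 F, List.forall_mem_cons.2 ⟨conjW_21 F, List.forall_mem_cons.2 ⟨conjW_22 F, List.forall_mem_cons.2 ⟨conjW_23 F, List.forall_mem_cons.2 ⟨conjW_24 F, List.forall_mem_cons.2 ⟨conjW_25 F, List.forall_mem_cons.2 ⟨conjW_26 F, List.forall_mem_cons.2 ⟨conjW_27 F, List.forall_mem_cons.2 ⟨conjW_28 F, List.forall_mem_cons.2 ⟨conjW_29 F, List.forall_mem_cons.2 ⟨conjRep_4 F, List.forall_mem_cons.2 ⟨conjW_31 F, List.forall_mem_cons.2 ⟨conjW_32 F, List.forall_mem_cons.2 ⟨conjW_33 F, List.forall_mem_cons.2 ⟨conjW_34 F, List.forall_mem_cons.2 ⟨conjW_35 F, List.forall_mem_cons.2 ⟨conjW_36 F, List.forall_mem_cons.2 ⟨conjW_37 F, List.forall_mem_cons.2 ⟨conjW_38 F, List.forall_mem_cons.2 ⟨conjW_39 F, List.forall_mem_cons.2 ⟨conjW_40 F, List.forall_mem_cons.2 ⟨conjW_41 F, List.forall_mem_cons.2 ⟨conjW_42 F, List.forall_mem_cons.2 ⟨conjW_43 F, List.forall_mem_cons.2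 ⟨conjW_44 F, List.forall_mem_cons.2 ⟨conjW_45 F, List.forall_mem_cons.2 ⟨conjW_46 F, List.forall_mem_cons.2 ⟨conjW_47 F, List.forall_mem_cons.2 ⟨conjW_48 F, List.forall_mem_cons.2 ⟨conjW_49 F, List.forall_mem_cons.2 ⟨conjW_50 F, List.forall_mem_cons.2 ⟨conjRep_5 F, List.forall_mem_cons.2 ⟨conjW_52 F, List.forall_mem_cons.2 ⟨conjW_53 F, List.forall_mem_cons.2 ⟨conjW_54 F, List.forall_mem_cons.2 ⟨conjRep_6 F, List.forall_mem_cons.2 ⟨conjW_56 F, List.forall_mem_cons.2 ⟨conjW_57 F, List.forall_mem_cons.2 ⟨conjW_58 F, List.forall_mem_cons.2 ⟨conjRep_8 F, List.forall_mem_cons.2 ⟨conjW_60 F, List.forall_mem_cons.2 ⟨conjRep_7 F, List.forall_mem_cons.2 ⟨conjRep_3 F, fun _ h => absurd h List.not_mem_nil⟩⟩⟩⟩⟩⟩⟩⟩⟩⟩⟩⟩⟩⟩⟩⟩⟩⟩⟩⟩⟩⟩⟩⟩⟩⟩⟩⟩⟩⟩⟩⟩⟩⟩⟩⟩⟩⟩⟩⟩⟩⟩⟩⟩⟩⟩⟩⟩⟩⟩⟩⟩⟩⟩⟩⟩⟩⟩⟩⟩⟩⟩⟩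

/-- every involution is conjugate to a representative -/
theorem invol_conj (t : GL chevE8.Idx F) (ht : t ∈ chevE8.group F) (hord : orderOf t = 2) :
    ∃ R ∈ repsL, ∃ h ∈ chevE8.group F, h * t * h⁻¹ = wordGL chevE8 mem_E8 F (ones F R) := by
  obtain ⟨J, hJ, h, hh, hc⟩ := invol_conj_of_tables chevE8 mem_E8 F packed hpk LJof repOf validL chk_all
    (conj_all F) t ht hord
  exact ⟨repOf J, rep_mem J hJ, h, hh, hc⟩

/-- the ranks of `y - 1` for the representatives -/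
def rankTab : List (List ℕ × ℕ) := [([239], 58), ([232, 233], 92), ([228, 222, 218], 110), ([226, 220, 213, 216], 120)]

omit [Fintype F] in
theorem rank_reps : ∀ p ∈ rankTab,
    (((wordGL chevE8 mem_E8 F (ones F p.1) : GL chevE8.Idx F) : Matrix chevE8.Idx chevE8.Idx F) - 1).rank = p.2 := by
  unfold rankTab
  exact List.forall_mem_cons.2 ⟨rank_0 F, List.forall_mem_cons.2 ⟨rank_1 F, List.forall_mem_cons.2 ⟨rank_2 F, List.forall_mem_cons.2 ⟨rank_3 F, fun _ h => absurd h List.not_mem_nil⟩⟩⟩⟩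

theorem rankTab_fst : rankTab.map Prod.fst = repsL := by decide

theorem rankTab_inj : ∀ p ∈ rankTab, ∀ q ∈ rankTab, p.2 = q.2 → p.1 = q.1 := by decide

theorem rankTab_pos : ∀ p ∈ rankTab, 0 < p.2 := by decide

omit [Fintype F] in
theorem rank_of_mem (R : List ℕ) (hR : R ∈ repsL) : ∃ k, (R, k) ∈ rankTab := by
  rw [← rankTab_fst, List.mem_map] at hR
  obtain ⟨p, hp, rfl⟩ := hR
  exact ⟨p.2, hp⟩

omit [Fintype F] in
/-- the representatives are elements of order two of the group -/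
theorem rep_order (R : List ℕ) (hR : R ∈ repsL) :
    wordGL chevE8 mem_E8 F (ones F R) ∈ chevE8.group F ∧ orderOf (wordGL chevE8 mem_E8 F (ones F R)) = 2 := by
  refine ⟨wordGL_mem_group chevE8 mem_E8 F _, ?_⟩
  obtain ⟨k, hk⟩ := rank_of_mem R hR
  have hr := rank_reps F (R, k) hk
  have hp : 0 < k := rankTab_pos (R, k) hk
  have hs := sq_of_bitChkR chevE8 mem_E8 F R (BitWord.bitChkR_of_Q _ _ _ (reps_sq R hR))
  exact orderOf_eq_two_of_rank chevE8 F (wordGL chevE8 mem_E8 F (ones F R)) k hr hp hs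

omit [Fintype F] in
/-- distinct representatives are not conjugate -/
theorem no_conj (R₁ R₂ : List ℕ) (h1 : R₁ ∈ repsL) (h2 : R₂ ∈ repsL) (h : GL chevE8.Idx F)
    (hc : h * wordGL chevE8 mem_E8 F (ones F R₁) * h⁻¹ = wordGL chevE8 mem_E8 F (ones F R₂)) : R₁ = R₂ := by
  obtain ⟨k₁, hk₁⟩ := rank_of_mem R₁ h1
  obtain ⟨k₂, hk₂⟩ := rank_of_mem R₂ h2
  have hr₁ := rank_reps F (R₁, k₁) hk₁
  have hr₂ := rank_reps F (R₂, k₂) hk₂
  have := rank_eq_of_conj chevE8 F (wordGL chevE8 mem_E8 F (ones F R₁)) (wordGL chevE8 mem_E8 F (ones F R₂)) h k₁ k₂ hr₁ hr₂ hc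
  exact rankTab_inj (R₁, k₁) hk₁ (R₂, k₂) hk₂ this

end

end Cfsg.Agent.Lib.Helper25.E8Inv
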