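import Mathlib
import Cfsg.Agent.Lib.Helper25.CosetTrans

/-!
Local lemma of Hall–Wielandt / Wielandt–Yoshida type (helper25), adapted from helper22's
`local_lemma`: right multiplication by an element `n` normalizing `B` with `n ∉ B`, `n ^ p ∈ B`
is a free permutation of `P ⧸ B` commuting with the left action; the orbit products of the coset
function of `τ : B →* A` (of exponent `p`) vanish as soon as `τ [b, n; p-1] = 1` for `b ∈ B`.
-/

set_option autoImplicit false

namespace Cfsg.Agent.Lib.Helper25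

open Cfsg.Agent.S4216 (ext1 ext1_of_mem)
open Cfsg.Agent.Lib.Helper22 (ext1_one' ext1_mul' ext1_inv' ext1_conj' prod_eq_one_of_free_perm
  prod_eq_one_of_engel)

variable {P : Type*} [Group P] {A : Type*} [CommGroup A]

/-- conjugation by an element commuting with `n` commutes with `y ↦ [y, n]` -/
theorem conj_iterate_engel (n m : P) (hmn : m * n = n * m) (j : ℕ) (b : P) :
    m⁻¹ * (fun y : P => y⁻¹ * n⁻¹ * y * n)^[j] b * m =
      (fun y : P => y⁻¹ * n⁻¹ * y * n)^[j] (m⁻¹ * b * m) := by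
  induction j with
  | zero => rfl
  | succ j ih =>
    rw [Function.iterate_succ_apply', Function.iterate_succ_apply', ← ih]
    have h1 : n * m⁻¹ = m⁻¹ * n := by
      rw [eq_inv_mul_iff_mul_eq, ← mul_assoc, hmn, mul_inv_cancel_right]
    have h2 : n⁻¹ * m⁻¹ = m⁻¹ * n⁻¹ := by
      rw [← mul_inv_rev, ← mul_inv_rev, hmn]
    set z := (fun y : P => y⁻¹ * n⁻¹ * y * n)^[j] b with hz
    show m⁻¹ * (z⁻¹ * n⁻¹ * z * n) * m = (m⁻¹ * z * m)⁻¹ * n⁻¹ * (m⁻¹ * z * m) * n
    have e1 : (m⁻¹ * z * m)⁻¹ * n⁻¹ * (m⁻¹ * z * m) * n =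
        m⁻¹ * z⁻¹ * (m * n⁻¹ * m⁻¹) * z * (m * n) := by group
    have e2 : m * n⁻¹ * m⁻¹ = n⁻¹ := by
      rw [mul_assoc, h2, mul_inv_cancel_left]
    rw [e1, e2, hmn]
    group

theorem prod_cosetFn_eq_one_of_engel_elt [Finite P] {p : ℕ} [hp : Fact p.Prime] (B : Subgroup P)
    (n : P) (hnN : n ∈ Subgroup.normalizer (B : Set P)) (hnB : n ∉ B) (hnp : n ^ p ∈ B)
    (τ : B →* A) (hτ : ∀ b, τ b ^ p = 1) (u : P)
    (hE : ∀ b ∈ B, ext1 B τ ((fun y : P => y⁻¹ * n⁻¹ * y * n)^[p - 1] b) = 1)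
    [Fintype (P ⧸ B)] : ∏ d : P ⧸ B, cosetFn B τ u d = 1 := by
  classical
  have hconjB : ∀ (i : ℕ) (y : P), y ∈ B → (n ^ i)⁻¹ * y * n ^ i ∈ B := by
    intro i y hy
    have h1 : (n ^ i)⁻¹ ∈ Subgroup.normalizer (B : Set P) :=
      Subgroup.inv_mem _ (Subgroup.pow_mem _ hnN i)
    have := (Subgroup.mem_normalizer_iff.mp h1 y).mp hy
    simpa using this
  have hconjB' : ∀ (i : ℕ) (y : P), (n ^ i)⁻¹ * y * n ^ i ∈ B → y ∈ B := by
    intro i y hy
    have h1 : n ^ i ∈ Subgroup.normalizer (B : Set P) := Subgroup.pow_mem _ hnN i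
    have := (Subgroup.mem_normalizer_iff.mp h1 _).mp hy
    have e : n ^ i * ((n ^ i)⁻¹ * y * n ^ i) * (n ^ i)⁻¹ = y := by group
    rwa [e] at this
  let σ : P ⧸ B → P ⧸ B := Quotient.map' (fun a => a * n) (by
    intro a₁ a₂ h
    rw [QuotientGroup.leftRel_apply] at h ⊢
    have e : (a₁ * n)⁻¹ * (a₂ * n) = (n ^ 1)⁻¹ * (a₁⁻¹ * a₂) * n ^ 1 := by group
    rw [e]
    exact hconjB 1 _ h)
  have hσmk : ∀ a : P, σ (QuotientGroup.mk a) = QuotientGroup.mk (a * n) := fun a => rfl
  have hσiter : ∀ (i : ℕ) (a : P), σ^[i] (QuotientGroup.mk a) = QuotientGroup.mk (a * n ^ i) := by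
    intro i
    induction i with
    | zero => intro a; simp
    | succ i ih =>
      intro a
      rw [Function.iterate_succ_apply', ih, hσmk, pow_succ, mul_assoc]
  have hσp : ∀ d, σ^[p] d = d := by
    intro d
    obtain ⟨a, rfl⟩ := QuotientGroup.mk_surjective d
    rw [hσiter, QuotientGroup.eq]
    have : (a * n ^ p)⁻¹ * a = (n ^ p)⁻¹ := by group
    rw [this]
    exact B.inv_mem hnp
  have hfree : ∀ d, σ d ≠ d := by
    intro d
    obtain ⟨a, rfl⟩ := QuotientGroup.mk_surjective d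
    rw [hσmk, Ne, QuotientGroup.eq]
    have : (a * n)⁻¹ * a = n⁻¹ := by group
    rw [this]
    intro h
    exact hnB (by simpa using B.inv_mem h)
  apply prod_eq_one_of_free_perm σ p hp.out hσp hfree (cosetFn B τ u) _ Finset.univ rfl
  · intro d _
    exact Finset.mem_univ _
  · intro d _
    obtain ⟨a, rfl⟩ := QuotientGroup.mk_surjective d
    set b := a⁻¹ * u * a with hbdef
    have hval : ∀ i : ℕ, cosetFn B τ u (σ^[i] (QuotientGroup.mk a)) =
        ext1 B τ ((n ^ i)⁻¹ * b * n ^ i) := by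
      intro i
      rw [hσiter, cosetFn_mk]
      congr 1
      rw [hbdef]; group
    rw [Finset.prod_congr rfl (fun i _ => hval i)]
    by_cases hb : b ∈ B
    · let D : P → P := fun y => y⁻¹ * n⁻¹ * y * n
      have hDB : ∀ j : ℕ, D^[j] b ∈ B := by
        intro j
        induction j with
        | zero => exact hb
        | succ j ih =>
          rw [Function.iterate_succ_apply']
          have e : D (D^[j] b) = (D^[j] b)⁻¹ * ((n ^ 1)⁻¹ * D^[j] b * n ^ 1) := by
            simp only [D]; group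
          rw [e]
          exact B.mul_mem (B.inv_mem ih) (hconjB 1 _ ih)
      let t : ℕ → ℕ → A := fun j i => ext1 B τ ((n ^ i)⁻¹ * D^[j] b * n ^ i)
      show ∏ i ∈ Finset.range p, t 0 i = 1
      apply prod_eq_one_of_engel p hp.out t
      · intro j i
        simp only [t]
        have e : (n ^ i)⁻¹ * D^[j + 1] b * n ^ i =
            ((n ^ i)⁻¹ * D^[j] b * n ^ i)⁻¹ * ((n ^ (i + 1))⁻¹ * D^[j] b * n ^ (i + 1)) := by
          rw [Function.iterate_succ_apply']
          simp only [D]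
          rw [pow_succ]; group
        rw [e, ext1_mul' B τ _ _ (B.inv_mem (hconjB i _ (hDB j))) (hconjB (i + 1) _ (hDB j)),
          ext1_inv' B τ _ (hconjB i _ (hDB j))]
      · intro i
        simp only [t, Function.iterate_zero, id_eq]
        rw [ext1_of_mem B τ _ (hconjB i b hb)]
        exact hτ _
      · intro i
        simp only [t]
        have hcomm : n ^ i * n = n * n ^ i := by rw [← pow_succ, ← pow_succ']
        rw [conj_iterate_engel n (n ^ i) hcomm (p - 1) b]
        exact hE _ (hconjB i b hb)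
    · apply Finset.prod_eq_one
      intro i _
      apply ext1_of_not_mem
      intro h
      exact hb (hconjB' i b h)

end Cfsg.Agent.Lib.Helper25
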