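import Cfsg.Agent.Lib.Helper25.F4InvTab
import Cfsg.Agent.Lib.Helper25.F4InvChkJ13

set_option autoImplicit false

namespace Cfsg.Agent.Lib.Helper25.F4Inv

open Cfsg Cfsg.Lie

set_option maxHeartbeats 0 in
set_option maxRecDepth 1000000 in
theorem chk_J012 : ChkStmt [0, 1, 2] := by
  unfold ChkStmt
  decide +kernel

end Cfsg.Agent.Lib.Helper25.F4Inv
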