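import Cfsg.Agent.Lib.Helper25.F4InvRank0

set_option autoImplicit false

namespace Cfsg.Agent.Lib.Helper25.F4Inv

open Cfsg Cfsg.Lie Matrix

set_option maxRecDepth 1000000 in
theorem cert_TU_lo : mkQ 21 [281474976710659, 2251808403619843, 1, 8388608, 16777216, 2, 2147483648, 4294967296, 8589934594, 137438953472, 274877906944, 549755813888, 1236950581248, 2199023255552, 4672924418048, 9345848836096, 19791209299968, 70368752566272, 140737505132544, 562952100904960, 1125904201809920] * aTU * mkP 21 [1, 0, 0, 2, 4, 8, 16, 32, 64, 128, 256, 512, 1024, 2048, 4096, 8192, 16384, 32768, 65536, 131072, 262144, 0, 0, 0, 0, 524288, 0, 1048576, 0, 0, 0, 0, 0, 0, 0, 0, 0, 0, 0, 0, 0, 0, 0, 0, 0, 0, 0, 0, 0, 0, 0, 0] = 1 := by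
  decide +kernel

end Cfsg.Agent.Lib.Helper25.F4Inv
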