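import Cfsg.Agent.Lib.Helper25.F4InvRank0

set_option autoImplicit false

namespace Cfsg.Agent.Lib.Helper25.F4Inv

open Cfsg Cfsg.Lie Matrix

set_option maxRecDepth 1000000 in
theorem cert_U : aU = mkP 16 [0, 16, 0, 0, 0, 0, 0, 0, 0, 0, 0, 0, 0, 0, 0, 0, 0, 0, 0, 0, 0, 0, 2, 4, 8, 0, 0, 0, 0, 0, 0, 32, 64, 128, 0, 0, 0, 256, 512, 1024, 2048, 4096, 8192, 16384, 32768, 2, 4, 8, 17, 32, 64, 128] * mkQ 16 [1, 16, 32, 64, 128, 256, 512, 1024, 2048, 4096, 8192, 16384, 32768, 65536, 131072, 262144] := by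
  decide +kernel

end Cfsg.Agent.Lib.Helper25.F4Inv
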