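import Cfsg.Agent.Lib.Helper25.F4InvRank0

set_option autoImplicit false

namespace Cfsg.Agent.Lib.Helper25.F4Inv

open Cfsg Cfsg.Lie Matrix

set_option maxRecDepth 1000000 in
theorem cert_V_lo : mkQ 24 [571746046443521, 562949953421320, 8192, 16384, 8, 131072, 262144, 17179869184, 34359738368, 16777216, 9, 1128098930098176, 2256197860196352, 4294967296, 8589934592, 17592186175488, 137438953472, 35184372088832, 70368744177664, 549755813888, 1099511627776, 281474993487872, 1125899906850816, 2251799813701632] * aV * mkP 24 [0, 1, 2, 0, 4, 8, 16, 32, 64, 128, 256, 512, 1024, 2048, 4096, 8192, 16384, 32768, 0, 65536, 131072, 262144, 524288, 1048576, 2097152, 4194304, 8388608, 0, 0, 0, 0, 0, 0, 0, 0, 0, 0, 0, 0, 0, 0, 0, 0, 0, 0, 0, 0, 0, 0, 0, 0, 0] = 1 := by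
  decide +kernel

end Cfsg.Agent.Lib.Helper25.F4Inv
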