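import Cfsg.Agent.Lib.Helper25.F4InvRankT
import Cfsg.Agent.Lib.Helper25.F4InvRankU
import Cfsg.Agent.Lib.Helper25.F4InvRankTU1
import Cfsg.Agent.Lib.Helper25.F4InvRankTU2
import Cfsg.Agent.Lib.Helper25.F4InvRankV

/-! The ranks of `y - 1` for the four involution class representatives `y` of `F₄(2ᵃ)` (helper25). -/

set_option autoImplicit false

namespace Cfsg.Agent.Lib.Helper25.F4Inv

open Cfsg Cfsg.Lie Matrix
open Cfsg.Agent.Lib.Helper25.ChInv

section
variable (F : Type*) [Field F] [CharP F 2]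

/-- the embedding of the prime field -/
noncomputable def phi : ZMod 2 →+* F := ZMod.castHom (dvd_refl 2) F

theorem map_x (r : ℕ) : (chevF4.x (ZMod 2) r 1).map (phi F) = chevF4.x F r 1 := by
  rw [x_map' chevF4 (phi F) r 1, map_one]

theorem map_one' : (1 : Matrix chevF4.Idx chevF4.Idx (ZMod 2)).map (phi F) = 1 := by
  ext i j
  simp [Matrix.one_apply]

theorem map_sub_one (A : Matrix chevF4.Idx chevF4.Idx (ZMod 2)) :
    (A - 1).map (phi F) = A.map (phi F) - 1 := by
  rw [Matrix.map_sub _ (fun a b => map_sub (phi F) a b), map_one']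

theorem map_aT : aT.map (phi F) = chevF4.x F 47 1 - 1 := by
  unfold aT; rw [map_sub_one, map_x]

theorem map_aU : aU.map (phi F) = chevF4.x F 44 1 - 1 := by
  unfold aU; rw [map_sub_one, map_x]

theorem map_aTU : aTU.map (phi F) = chevF4.x F 47 1 * chevF4.x F 44 1 - 1 := by
  unfold aTU; rw [map_sub_one, Matrix.map_mul, map_x, map_x]

theorem map_aV : aV.map (phi F) = chevF4.x F 39 1 * chevF4.x F 45 1 - 1 := by
  unfold aV; rw [map_sub_one, Matrix.map_mul, map_x, map_x]

theorem rank_T : (chevF4.x F 47 1 - 1).rank ≤ 16 := by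
  rw [← map_aT]; exact rank_le_of_factor (phi F) 16 aT _ _ cert_T

theorem rank_U : (chevF4.x F 44 1 - 1).rank ≤ 16 := by
  rw [← map_aU]; exact rank_le_of_factor (phi F) 16 aU _ _ cert_U

theorem rank_TU_le : (chevF4.x F 47 1 * chevF4.x F 44 1 - 1).rank ≤ 21 := by
  rw [← map_aTU]; exact rank_le_of_factor (phi F) 21 aTU _ _ cert_TU_up

theorem rank_TU_ge : 21 ≤ (chevF4.x F 47 1 * chevF4.x F 44 1 - 1).rank := by
  rw [← map_aTU]; exact le_rank_of_inverse (phi F) 21 aTU _ _ cert_TU_lo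

theorem rank_V : 24 ≤ (chevF4.x F 39 1 * chevF4.x F 45 1 - 1).rank := by
  rw [← map_aV]; exact le_rank_of_inverse (phi F) 24 aV _ _ cert_V_lo

end

end Cfsg.Agent.Lib.Helper25.F4Inv
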