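import Cfsg.Agent.Lib.Helper25.HRow1

/-! Type `F₄`: a precomputed table for `rowFixB` (helper25). -/

set_option autoImplicit false
set_option maxRecDepth 1000000

namespace Cfsg.Agent.Lib.Helper25.F4Mix

open Cfsg Cfsg.Lie
open Cfsg.Agent.Lib.Helper7
open Cfsg.Agent.Lib.Helper25.HRow

/-- row `r` is a bit mask: bit `m` is set when `x_r` fixes the coordinate `e_m` -/
def rfMask : List ℕ :=
  [281474965861440, 281474955045408, 281474874792208, 281474035318784, 281471614953092, 281469297595778,
   281467913472897, 281346125611120, 281036748693604, 280744520486994, 280572411086897, 280184999347270,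
   280011847729701, 279717428035859, 279404936659079, 274852129832572, 270436867276154, 268203442076537,
   261485783839862, 259114682903157, 254424364669299, 243935739606766, 241598195003117, 208734024037854,
   135993071365053, 201721350381019, 131317969574843, 227165242369767, 191686628840919, 121144970021815,
   174676980512719, 104170518458287, 68711054548895, 247398704117887, 220460529968767, 180603063031167,
   107897545935743, 154007450137855, 81403970038527, 41802009647615, 15401886910463, 142738932269055,
   72198378586111, 36721868472319, 7648575487, 9462746185727, 4770324545535, 2398118477823]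

/-- table lookup -/
def rfB (r m : ℕ) : Bool := (rfMask.getD r 0).testBit m

theorem rfMask_tab : ((List.range 48).all fun r => (List.range 48).all fun m =>
    !(rfB r m) || rowFixB chevF4 r m) = true := by
  decide +kernel

theorem rfB_spec (r m : ℕ) (h : rfB r m = true) : rowFixB chevF4 r m = true := by
  have hr : r < 48 := by
    by_contra hcon
    unfold rfB at h
    rw [List.getD_eq_default _ _ (by simpa [rfMask] using hcon)] at h
    simp at h
  by_cases hm : m < 48
  · have := rfMask_tab
    rw [List.all_eq_true] at this
    have h1 := this r (List.mem_range.mpr hr)
    rw [List.all_eq_true] at h1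
    have h2 := h1 m (List.mem_range.mpr hm)
    rw [h] at h2
    simpa using h2
  · exfalso
    unfold rfB at h
    have hlt : rfMask.getD r 0 < 2 ^ 48 := by
      have : ∀ r < 48, rfMask.getD r 0 < 2 ^ 48 := by decide
      exact this r hr
    have := Nat.testBit_lt_two_pow (x := rfMask.getD r 0) (i := m)
      (lt_of_lt_of_le hlt (Nat.pow_le_pow_right (by norm_num) (by omega)))
    rw [this] at h
    exact absurd h (by decide)

end Cfsg.Agent.Lib.Helper25.F4Mix
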