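import Cfsg.Agent.Lib.Helper7.ChevWeylChainF4
import Cfsg.Agent.Lib.Helper7.ChevWeylChain2
import Cfsg.Agent.Lib.Helper7.ChevWeylEnum
import Cfsg.Agent.Lib.Helper7.ChevCoxeterTabF4
import Cfsg.Agent.Lib.Helper7.ChevTwistBN5
import Cfsg.Agent.Lib.Helper25.F4MixTab

/-! Type `F₄`: tables over the Weyl group (helper25). -/

set_option autoImplicit false
set_option maxRecDepth 1000000

namespace Cfsg.Agent.Lib.Helper25.F4Mix

open Cfsg Cfsg.Lie
open Cfsg.Agent.Lib.Helper7
open Cfsg.Agent.Lib.Helper25.HRow

/-- table check on the images `(p₄₇, p₄₄)` of `(47, 44)` under an element of the Weyl group -/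
def duoB (p47 p44 : ℕ) : Bool :=
  decide (p47 < 48) && decide (p44 < 48) && rfB p44 (chevF4.negIdx.getD p47 0) &&
    (p47 != p44) && (p47 != 44) && (p44 != 47)

/-- the six roots of the abelian subgroup containing `x_39(1) x_45(1)` -/
def six : List ℕ := [39, 45, 40, 44, 46, 47]

/-- the four elements of the Weyl group fixing `39` and `45` -/
def good4 : List (List ℕ) :=
  [List.range 48, weylChain_F4.refls.getD 0 [], weylChain_F4.refls.getD 3 [],
    comp (weylChain_F4.refls.getD 0 []) (weylChain_F4.refls.getD 3 [])]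

/-- table check on an element of the Weyl group given as a list -/
def pairB (P : List ℕ) : Bool :=
  !(six.contains (P.getD 39 0) && six.contains (P.getD 45 0)) || good4.contains P

/-- the combined table -/
def tabB (e : List ℕ) : Bool :=
  duoB ((nfPerm 48 weylChain_F4.levels e).getD 47 0) ((nfPerm 48 weylChain_F4.levels e).getD 44 0) &&
    pairB (nfPerm 48 weylChain_F4.levels e)

theorem weylF4_tabAll : ((List.range 24).all fun e1 => (List.range 6).all fun e2 =>
    (List.range 4).all fun e3 => (List.range 2).all fun e4 => tabB [e1, e2, e3, e4]) = true := by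
  decide +kernel

theorem tab_of_isNF (f : List ℕ → Bool)
    (h : ((List.range 24).all fun e1 => (List.range 6).all fun e2 => (List.range 4).all fun e3 =>
      (List.range 2).all fun e4 => f [e1, e2, e3, e4]) = true)
    (e : List ℕ) (he : IsNF weylChain_F4.levels e) : f e = true := by
  obtain ⟨L1, L2, L3, L4, hL, h1, h2, h3, h4⟩ : ∃ L1 L2 L3 L4 : ChainLevel,
      weylChain_F4.levels = [L1, L2, L3, L4] ∧ L1.elems.length = 24 ∧ L2.elems.length = 6 ∧
        L3.elems.length = 4 ∧ L4.elems.length = 2 := ⟨_, _, _, _, rfl, rfl, rfl, rfl, rfl⟩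
  rw [hL] at he
  simp only [List.all_eq_true, List.mem_range] at h
  match e, he with
  | [], he => exact absurd he (by simp [IsNF])
  | [_], he => exact absurd he (by simp [IsNF])
  | [_, _], he => exact absurd he (by simp [IsNF])
  | [_, _, _], he => exact absurd he (by simp [IsNF])
  | [e1, e2, e3, e4], he =>
    simp only [IsNF, h1, h2, h3, h4, and_true] at he
    exact h e1 he.1 e2 he.2.1 e3 he.2.2.1 e4 he.2.2.2
  | _ :: _ :: _ :: _ :: _ :: _, he => exact absurd he (by simp [IsNF])

theorem getD_range_map6 (f : ℕ → ℕ) (n s : ℕ) (hs : s < n) : ((List.range n).map f).getD s 0 = f s := by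
  simp [List.getD_eq_getElem?_getD, hs]

theorem weylF4_tab (L : List ℕ) (hL : ∀ i ∈ L, i < 4) :
    duoB (reflWord chevF4 L 47) (reflWord chevF4 L 44) = true ∧
      pairB ((List.range 48).map (reflWord chevF4 L)) = true := by
  have hE := weylEnum_of_chain chevF4 weylChain_F4 weylChainOKB_F4
  obtain ⟨e, he, hp⟩ := enum_word chevF4 _ _ _ _ hE L hL
  have hp' : nfPerm 48 weylChain_F4.levels e = (List.range 48).map (reflWord chevF4 L) := hp
  have h1 := tab_of_isNF tabB weylF4_tabAll e ((mem_nfFin _ _).mp he)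
  unfold tabB at h1
  rw [hp', getD_range_map6 _ _ _ (by decide : 47 < 48), getD_range_map6 _ _ _ (by decide : 44 < 48),
    Bool.and_eq_true] at h1
  exact h1

theorem weylF4_duo (L : List ℕ) (hL : ∀ i ∈ L, i < 4) :
    duoB (reflWord chevF4 L 47) (reflWord chevF4 L 44) = true := (weylF4_tab L hL).1

/-- the fundamental reflections, read off the chain -/
def reflT (i r : ℕ) : ℕ := (weylChain_F4.refls.getD i []).getD r 0

theorem reflT_eq (i : ℕ) (hi : i < 4) (r : ℕ) (hr : r < 48) : reflT i r = chevF4.reflectRoot i r := by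
  have h := weylChainOKB_F4
  unfold weylChainOKB at h
  simp only [Bool.and_eq_true, beq_iff_eq] at h
  obtain ⟨⟨⟨hrefl, -⟩, -⟩, -⟩ := h
  unfold reflT
  rw [hrefl]
  have hi' : i < chevF4.rank := hi
  have hr' : r < chevF4.nroots := hr
  simp [List.getD_eq_getElem?_getD, hi', hr']

theorem rfB_refl_tab : ((List.range 4).all fun i => (List.range 48).all fun r => (List.range 48).all fun m =>
    !(rfB r m) || rfB (reflT i r) (reflT i m)) = true := by
  decide +kernel

theorem rfB_refl (i : ℕ) (hi : i < 4) (r m : ℕ) (hr : r < 48) (hm : m < 48) (h : rfB r m = true) :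
    rfB (chevF4.reflectRoot i r) (chevF4.reflectRoot i m) = true := by
  have ht := rfB_refl_tab
  simp only [List.all_eq_true, List.mem_range] at ht
  have := ht i hi r hr m hm
  rw [h, reflT_eq i hi r hr, reflT_eq i hi m hm] at this
  simpa using this

theorem rfB_reflWord : ∀ (L : List ℕ), (∀ i ∈ L, i < 4) → ∀ r m : ℕ, r < 48 → m < 48 → rfB r m = true →
    rfB (reflWord chevF4 L r) (reflWord chevF4 L m) = true
  | [], _, _, _, _, _, h => h
  | i :: L, hL, r, m, hr, hm, h => by
    have hL' : ∀ j ∈ L, j < 4 := fun j hj => hL j (List.mem_cons_of_mem _ hj)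
    show rfB (chevF4.reflectRoot i (reflWord chevF4 L r)) (chevF4.reflectRoot i (reflWord chevF4 L m)) = true
    exact rfB_refl i (hL i List.mem_cons_self) _ _ (reflWord_lt' chevF4 mem_F4 L hL' r hr)
      (reflWord_lt' chevF4 mem_F4 L hL' m hm) (rfB_reflWord L hL' r m hr hm h)

theorem reflWord_inj (L : List ℕ) (hL : ∀ i ∈ L, i < 4) (s s' : ℕ) (hs : s < 48) (hs' : s' < 48)
    (h : reflWord chevF4 L s = reflWord chevF4 L s') : s = s' := by
  have hL' : ∀ i ∈ L.reverse, i < chevF4.rank := fun i hi => hL i (List.mem_reverse.mp hi)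
  have h1 := reflWord_reverse_cancel chevF4 mem_F4 L.reverse hL' s hs
  have h2 := reflWord_reverse_cancel chevF4 mem_F4 L.reverse hL' s' hs'
  rw [List.reverse_reverse] at h1 h2
  rw [← h1, ← h2, h]

/-- an element of the Weyl group sending `39` and `45` into the six roots is one of four -/
theorem weylF4_pair (L : List ℕ) (hL : ∀ i ∈ L, i < 4) (h39 : reflWord chevF4 L 39 ∈ six)
    (h45 : reflWord chevF4 L 45 ∈ six) :
    ∃ M ∈ [[], [0], [3], [0, 3]], ∀ s < 48, reflWord chevF4 L s = reflWord chevF4 M s := by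
  have h := (weylF4_tab L hL).2
  unfold pairB at h
  rw [getD_range_map6 _ _ _ (by decide : 39 < 48), getD_range_map6 _ _ _ (by decide : 45 < 48)] at h
  have e1 : six.contains (reflWord chevF4 L 39) = true := List.contains_iff_mem.mpr h39
  have e2 : six.contains (reflWord chevF4 L 45) = true := List.contains_iff_mem.mpr h45
  rw [e1, e2] at h
  simp only [Bool.and_self, Bool.not_true, Bool.false_or, List.contains_iff_mem] at h
  have hget : ∀ s < 48, reflWord chevF4 L s = ((List.range 48).map (reflWord chevF4 L)).getD s 0 :=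
    fun s hs => (getD_range_map6 _ _ _ hs).symm
  unfold good4 at h
  simp only [List.mem_cons, List.not_mem_nil, or_false] at h
  rcases h with h | h | h | h
  · refine ⟨[], by simp, fun s hs => ?_⟩
    rw [hget s hs, h]
    simp [List.getD_eq_getElem?_getD, hs, reflWord]
  · refine ⟨[0], by simp, fun s hs => ?_⟩
    rw [hget s hs, h]
    show reflT 0 s = chevF4.reflectRoot 0 s
    exact reflT_eq 0 (by decide) s hs
  · refine ⟨[3], by simp, fun s hs => ?_⟩
    rw [hget s hs, h]
    show reflT 3 s = chevF4.reflectRoot 3 s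
    exact reflT_eq 3 (by decide) s hs
  · refine ⟨[0, 3], by simp, fun s hs => ?_⟩
    rw [hget s hs, h]
    have hlen : s < (weylChain_F4.refls.getD 3 []).length := by
      have : (weylChain_F4.refls.getD 3 []).length = 48 := by decide
      omega
    rw [getD_comp _ _ _ hlen]
    show reflT 0 (reflT 3 s) = chevF4.reflectRoot 0 (chevF4.reflectRoot 3 s)
    rw [reflT_eq 3 (by decide) s hs, reflT_eq 0 (by decide) _
      ((conjFacts_of_mem chevF4 mem_F4 3 (by decide)).wlt s hs)]

end Cfsg.Agent.Lib.Helper25.F4Mix
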