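import Cfsg.Agent.Lib.Helper25.F4InvMain
import Cfsg.Agent.Lib.Helper25.F4InvRankMain
import Cfsg.Agent.Lib.Helper25.F4InvChkJe
import Cfsg.Agent.Lib.Helper25.F4InvChkJ0
import Cfsg.Agent.Lib.Helper25.F4InvChkJ1
import Cfsg.Agent.Lib.Helper25.F4InvChkJ2
import Cfsg.Agent.Lib.Helper25.F4InvChkJ3
import Cfsg.Agent.Lib.Helper25.F4InvChkJ02
import Cfsg.Agent.Lib.Helper25.F4InvChkJ03
import Cfsg.Agent.Lib.Helper25.F4InvChkJ12
import Cfsg.Agent.Lib.Helper25.F4InvChkJ13
import Cfsg.Agent.Lib.Helper25.F4InvChkJ012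
import Cfsg.Agent.Lib.Helper25.F4InvChkJ123
import Cfsg.Agent.Lib.Helper25.F4MixW
import Cfsg.Agent.Lib.Helper7.ChevRootCentTab

/-! The four classes of involutions of `F₄(2ᵃ)` (helper25). -/

set_option autoImplicit false

namespace Cfsg.Agent.Lib.Helper25.F4Inv

open Cfsg Cfsg.Lie Matrix
open Cfsg.Agent.Lib.Helper7 Cfsg.Agent.Lib.Helper25.ChInv
open Cfsg.Agent.Lib.Helper25.F4Mix

section
variable (F : Type*) [Field F] [Fintype F] [CharP F 2]

local notation "X" => xGL chevF4 mem_F4 F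

theorem word_one (r : ℕ) : wordGL chevF4 mem_F4 F (ones F [r]) = X r 1 := by
  unfold ones wordGL; simp

theorem word_two (r s : ℕ) : wordGL chevF4 mem_F4 F (ones F [r, s]) = X r 1 * X s 1 := by
  unfold ones wordGL; simp

/-- (b) every involution is conjugate to a representative -/
theorem invol_conj (t : GL chevF4.Idx F) (ht : t ∈ chevF4.group F) (hord : orderOf t = 2) :
    ∃ R ∈ repsL, ∃ h ∈ chevF4.group F, h * t * h⁻¹ = wordGL chevF4 mem_F4 F (ones F R) := by
  have hsq : t * t = 1 := by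
    have := pow_orderOf_eq_one t
    rwa [hord, sq] at this
  obtain ⟨Jl, hsub, hfix, g, hg, h, hh, heq, hsq'⟩ :=
    exists_conj_coset chevF4 mem_F4 F LJof p1_all t ht hsq
  have hv := valid_all Jl hsub hfix
  simp only [validL, List.mem_cons, List.not_mem_nil, or_false] at hv
  rcases hv with rfl | rfl | rfl | rfl | rfl | rfl | rfl | rfl | rfl | rfl | rfl | rfl
  · exact ⟨_, by decide, conj_of_chk_J F [] chk_Je (by decide) t g h hg hh heq hsq'⟩
  · exact ⟨_, by decide, conj_of_chk_J F [0] chk_J0 (by decide) t g h hg hh heq hsq'⟩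
  · exact ⟨_, by decide, conj_of_chk_J F [1] chk_J1 (by decide) t g h hg hh heq hsq'⟩
  · exact ⟨_, by decide, conj_of_chk_J F [2] chk_J2 (by decide) t g h hg hh heq hsq'⟩
  · exact ⟨_, by decide, conj_of_chk_J F [3] chk_J3 (by decide) t g h hg hh heq hsq'⟩
  · exact ⟨_, by decide, conj_of_chk_J F [0, 2] chk_J02 (by decide) t g h hg hh heq hsq'⟩
  · exact ⟨_, by decide, conj_of_chk_J F [0, 3] chk_J03 (by decide) t g h hg hh heq hsq'⟩
  · exact ⟨_, by decide, conj_of_chk_J F [1, 2] chk_J12 (by decide) t g h hg hh heq hsq'⟩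
  · exact ⟨_, by decide, conj_of_chk_J F [1, 3] chk_J13 (by decide) t g h hg hh heq hsq'⟩
  · exact ⟨_, by decide, conj_of_chk_J F [0, 1, 2] chk_J012 (by decide) t g h hg hh heq hsq'⟩
  · exact ⟨_, by decide, conj_of_chk_J F [1, 2, 3] chk_J123 (by decide) t g h hg hh heq hsq'⟩
  · -- `J` everything: `n_J = 1`, so `t = 1`
    exfalso
    have e1 : nWordGL chevF4 mem_F4 F (LJof [0, 1, 2, 3]) = 1 := by
      unfold nWordGL; rfl
    rw [e1] at heq hsq'
    obtain ⟨k, -, hk⟩ := exists_diag_conj chevF4 mem_F4 F h 1 hh (one_mul 1) hsq'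
    have e2 : h * 1 = 1 := by rw [hk]; group
    rw [e2] at heq
    have ht1 : t = 1 := by
      have : t = g⁻¹ * (g * t * g⁻¹) * g := by group
      rw [this, heq]; group
    rw [ht1, orderOf_one] at hord
    omega

/-- (a) the representatives are elements of order two of the group -/
theorem rep_order (R : List ℕ) (hR : R ∈ repsL) :
    wordGL chevF4 mem_F4 F (ones F R) ∈ chevF4.group F ∧
      orderOf (wordGL chevF4 mem_F4 F (ones F R)) = 2 := by
  refine ⟨wordGL_mem_group chevF4 mem_F4 F _, ?_⟩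
  haveI : Fact (Nat.Prime 2) := ⟨Nat.prime_two⟩
  apply orderOf_eq_prime
  · rw [sq]; exact rep_sq F R hR
  · have hone : ∀ r < 48, X r 1 ≠ 1 := fun r hr => xGL_one_ne_one chevF4 mem_F4 F r hr
    have htwo : ∀ r s : ℕ, r < 48 → s < 48 → r ≠ s → X r 1 * X s 1 ≠ 1 := by
      intro r s hr hs hne h
      have h1 : X r 1 = X s (-1) := by
        rw [← xGL_inv]; exact eq_inv_of_mul_eq_one_left h
      exact hne (xGL_root_inj chevF4 mem_F4 F r s hr hs 1 (-1) one_ne_zero h1)
    simp only [repsL, List.mem_cons, List.not_mem_nil, or_false] at hR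
    rcases hR with rfl | rfl | rfl | rfl
    · rw [word_one]; exact hone 47 (by norm_num)
    · rw [word_one]; exact hone 44 (by norm_num)
    · rw [word_two]; exact htwo 47 44 (by norm_num) (by norm_num) (by norm_num)
    · rw [word_two]; exact htwo 39 45 (by norm_num) (by norm_num) (by norm_num)

/-- long and short root elements are not conjugate -/
theorem no_conj_47_44 (h : GL chevF4.Idx F) (hh : h ∈ chevF4.group F) : h * X 47 1 * h⁻¹ ≠ X 44 1 := by
  intro heq
  have h0 : ((0 : ℕ) : F) = 0 := Nat.cast_zero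
  have h2 : ((2 : ℕ) : F) = 0 := CharP.cast_eq_zero F 2
  obtain ⟨b, hb, n, hn, u, hu, hgeq⟩ := canon_exists chevF4 mem_F4 F h hh
  have huU := uMinus_le_posUnipotent chevF4 F n hu
  obtain ⟨L, hL, hact⟩ := exists_actsAs chevF4 mem_F4 F n hn
  have hL' : ∀ i ∈ L, i < 4 := hL
  have hut := pos_comm_root chevF4 mem_F4 F 47 0 3 [14, 20, 22] h0 cent2OKB_F4_long u huU 1
  obtain ⟨d, hd, hbd⟩ := borel_sends_root chevF4 mem_F4 F 44 2 0 [20, 22, 23] h2 cent2OKB_F4_short b⁻¹
    (Subgroup.inv_mem _ hb)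
  obtain ⟨-, c, hc, hn47⟩ := hact 47 (by decide)
  have key : n * X 47 1 * n⁻¹ = b⁻¹ * X 44 1 * b⁻¹⁻¹ := by
    rw [← heq, hgeq]
    have e1 : b * n * u * X 47 1 * (b * n * u)⁻¹ = b * n * (u * X 47 1) * u⁻¹ * n⁻¹ * b⁻¹ := by group
    rw [e1, hut]
    group
  rw [hn47, hbd] at key
  have h47 := xGL_root_inj chevF4 mem_F4 F _ _ (reflWord_lt' chevF4 mem_F4 L hL 47 (by decide))
    (by decide) _ _ (by simpa using hc) key
  have hduo := weylF4_duo L hL'
  unfold duoB at hduo
  simp only [Bool.and_eq_true, decide_eq_true_eq, bne_iff_ne] at hduo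
  exact hduo.1.2 h47

/-- the four matrices -/
noncomputable def repMats : List (Matrix chevF4.Idx chevF4.Idx F) :=
  [chevF4.x F 47 1, chevF4.x F 44 1, chevF4.x F 47 1 * chevF4.x F 44 1,
    chevF4.x F 39 1 * chevF4.x F 45 1]

theorem mem_repMats_iff (y : GL chevF4.Idx F) :
    (y : Matrix chevF4.Idx chevF4.Idx F) ∈ repMats F ↔
      ∃ R ∈ repsL, y = wordGL chevF4 mem_F4 F (ones F R) := by
  unfold repMats repsL
  simp only [List.mem_cons, List.not_mem_nil, or_false, exists_eq_or_imp, exists_eq_left]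
  rw [word_one, word_one, word_two, word_two]
  constructor
  · rintro (h | h | h | h)
    · left; exact Units.ext h
    · right; left; exact Units.ext h
    · right; right; left; exact Units.ext h
    · right; right; right; exact Units.ext h
  · rintro (h | h | h | h)
    · left; rw [h]; rfl
    · right; left; rw [h]; rfl
    · right; right; left; rw [h]; rfl
    · right; right; right; rw [h]; rfl

/-- (c) no two of the four matrices are conjugate -/
theorem no_conj (y₁ y₂ : GL chevF4.Idx F)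
    (h1 : (y₁ : Matrix chevF4.Idx chevF4.Idx F) ∈ repMats F)
    (h2 : (y₂ : Matrix chevF4.Idx chevF4.Idx F) ∈ repMats F)
    (hc : ∃ h ∈ chevF4.group F, h * y₁ * h⁻¹ = y₂) :
    (y₁ : Matrix chevF4.Idx chevF4.Idx F) = (y₂ : Matrix chevF4.Idx chevF4.Idx F) := by
  obtain ⟨h, hh, hc⟩ := hc
  have hr := rank_conj_sub_one h y₁ y₂ hc
  have hT := rank_T F
  have hU := rank_U F
  have hTU1 := rank_TU_le F
  have hTU2 := rank_TU_ge F
  have hV := rank_V F
  unfold repMats at h1 h2
  simp only [List.mem_cons, List.not_mem_nil, or_false] at h1 h2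
  rcases h1 with h1 | h1 | h1 | h1 <;> rcases h2 with h2 | h2 | h2 | h2
  · rw [h1, h2]
  · exfalso
    have e1 : y₁ = X 47 1 := Units.ext h1
    have e2 : y₂ = X 44 1 := Units.ext h2
    rw [e1, e2] at hc
    exact no_conj_47_44 F h hh hc
  · exfalso; rw [h1, h2] at hr; omega
  · exfalso; rw [h1, h2] at hr; omega
  · exfalso
    have e1 : y₁ = X 44 1 := Units.ext h1
    have e2 : y₂ = X 47 1 := Units.ext h2
    rw [e1, e2] at hc
    apply no_conj_47_44 F h⁻¹ (Subgroup.inv_mem _ hh)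
    rw [← hc]; group
  · rw [h1, h2]
  · exfalso; rw [h1, h2] at hr; omega
  · exfalso; rw [h1, h2] at hr; omega
  · exfalso; rw [h1, h2] at hr; omega
  · exfalso; rw [h1, h2] at hr; omega
  · rw [h1, h2]
  · exfalso; rw [h1, h2] at hr; omega
  · exfalso; rw [h1, h2] at hr; omega
  · exfalso; rw [h1, h2] at hr; omega
  · exfalso; rw [h1, h2] at hr; omega
  · rw [h1, h2]

end

end Cfsg.Agent.Lib.Helper25.F4Inv
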