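import Cfsg.Agent.Lib.Helper25.F4InvTab
import Cfsg.Agent.Lib.Helper7.ChevCoxeterTabF4

/-! Every involution of `F₄(2ᵃ)` is conjugate to one of `x_47(1)`, `x_44(1)`, `x_47(1) x_44(1)`,
`x_39(1) x_45(1)`: the reduction to the word checks (helper25). -/

set_option autoImplicit false

namespace Cfsg.Agent.Lib.Helper25.F4Inv

open Cfsg Cfsg.Lie Matrix
open Cfsg.Agent.Lib.Helper7 Cfsg.Agent.Lib.Helper25.ChInv

/-- the four representatives, as words of roots -/
def repsL : List (List ℕ) := [[47], [44], [47, 44], [39, 45]]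

set_option maxHeartbeats 0 in
set_option maxRecDepth 1000000 in
theorem reps_sq_chk : ∀ R ∈ repsL, BitWord.bitChkR chevF4 (R ++ R) [] = true := by decide +kernel

section
variable (F : Type*) [Field F] [CharP F 2]

theorem wordGL_ones_nil : wordGL chevF4 mem_F4 F (ones F []) = 1 := by
  unfold ones wordGL; simp

/-- the representatives are involutions -/
theorem rep_sq (R : List ℕ) (hR : R ∈ repsL) :
    wordGL chevF4 mem_F4 F (ones F R) * wordGL chevF4 mem_F4 F (ones F R) = 1 := by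
  have key : wordGL chevF4 mem_F4 F (ones F (R ++ R)) = wordGL chevF4 mem_F4 F (ones F []) :=
    Units.ext (by rw [coe_wordGL, coe_wordGL];
                  exact BitWord.wordMat_eq_of_bitChkR chevF4 F _ _ (reps_sq_chk R hR))
  have e : ones F (R ++ R) = ones F R ++ ones F R := by unfold ones; rw [List.map_append]
  rw [e, wordGL_append, wordGL_ones_nil] at key
  exact key

variable [Fintype F]

/-- from the word check for `J` to the conjugacy of `h n_J` with the representative -/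
theorem conj_of_chk_J (J : List ℕ) (hchk : ChkStmt J) (hR : repOf J ∈ repsL)
    (t g h : GL chevF4.Idx F) (hg : g ∈ chevF4.group F) (hh : h ∈ chevF4.diagonalSubgroup F)
    (heq : g * t * g⁻¹ = h * nWordGL chevF4 mem_F4 F (LJof J))
    (hsq : (h * nWordGL chevF4 mem_F4 F (LJof J)) * (h * nWordGL chevF4 mem_F4 F (LJof J)) = 1) :
    ∃ h' ∈ chevF4.group F, h' * t * h'⁻¹ = wordGL chevF4 mem_F4 F (ones F (repOf J)) := by
  have hc := conj_of_bitChkR chevF4 mem_F4 F (gOf J) (LJof J) (repOf J) hchk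
  obtain ⟨G0, hG0⟩ : ∃ G0, G0 = wordGL chevF4 mem_F4 F (ones F (gOf J)) := ⟨_, rfl⟩
  obtain ⟨nJ, hnJ⟩ : ∃ nJ, nJ = nWordGL chevF4 mem_F4 F (LJof J) := ⟨_, rfl⟩
  rw [← hG0, ← hnJ] at hc
  rw [← hnJ] at heq hsq
  have hG0G : G0 ∈ chevF4.group F := by rw [hG0]; exact wordGL_mem_group chevF4 mem_F4 F _
  have hnn : nJ * nJ = 1 := by
    have e : nJ = G0⁻¹ * wordGL chevF4 mem_F4 F (ones F (repOf J)) * G0 := by rw [← hc]; group
    have hr := rep_sq F _ hR
    calc nJ * nJ = G0⁻¹ * (wordGL chevF4 mem_F4 F (ones F (repOf J)) *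
          wordGL chevF4 mem_F4 F (ones F (repOf J))) * G0 := by rw [e]; group
      _ = 1 := by rw [hr]; group
  obtain ⟨k, hk, hkeq⟩ := exists_diag_conj chevF4 mem_F4 F h nJ hh hnn hsq
  have hkG : k ∈ chevF4.group F :=
    monomial_le_group chevF4 mem_F4 F (diagonal_le_monomial chevF4 mem_F4 F hk)
  refine ⟨G0 * k⁻¹ * g, Subgroup.mul_mem _ (Subgroup.mul_mem _ hG0G (Subgroup.inv_mem _ hkG)) hg, ?_⟩
  rw [← hc]
  have e : G0 * k⁻¹ * g * t * (G0 * k⁻¹ * g)⁻¹ = G0 * k⁻¹ * (g * t * g⁻¹) * k * G0⁻¹ := by group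
  rw [e, heq, hkeq]
  group

end

end Cfsg.Agent.Lib.Helper25.F4Inv
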