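import Cfsg.Agent.Lib.Helper25.ChInvH

/-! Rank certificates over the field with two elements for the involutions of `F₄`: shared definitions
(helper25). -/

set_option autoImplicit false

namespace Cfsg.Agent.Lib.Helper25.F4Inv

open Cfsg Cfsg.Lie Matrix

/-- the position of a coordinate -/
def idx : chevF4.Idx → ℕ := Sum.elim (fun i => i.val) (fun s => 4 + s.val)

/-- a `52 × k` matrix over `𝔽₂` from the bit masks of its rows -/
def mkP (k : ℕ) (rows : List ℕ) : Matrix chevF4.Idx (Fin k) (ZMod 2) :=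
  Matrix.of fun i j => if (rows.getD (idx i) 0).testBit j.val then 1 else 0

/-- a `k × 52` matrix over `𝔽₂` from the bit masks of its rows -/
def mkQ (k : ℕ) (rows : List ℕ) : Matrix (Fin k) chevF4.Idx (ZMod 2) :=
  Matrix.of fun i j => if (rows.getD i.val 0).testBit (idx j) then 1 else 0

/-- the four matrices `y - 1` over `𝔽₂` -/
def aT : Matrix chevF4.Idx chevF4.Idx (ZMod 2) := chevF4.x (ZMod 2) 47 1 - 1
def aU : Matrix chevF4.Idx chevF4.Idx (ZMod 2) := chevF4.x (ZMod 2) 44 1 - 1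
def aTU : Matrix chevF4.Idx chevF4.Idx (ZMod 2) := chevF4.x (ZMod 2) 47 1 * chevF4.x (ZMod 2) 44 1 - 1
def aV : Matrix chevF4.Idx chevF4.Idx (ZMod 2) := chevF4.x (ZMod 2) 39 1 * chevF4.x (ZMod 2) 45 1 - 1

end Cfsg.Agent.Lib.Helper25.F4Inv
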