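import Cfsg.Agent.Lib.Helper25.F4InvRank0

set_option autoImplicit false

namespace Cfsg.Agent.Lib.Helper25.F4Inv

open Cfsg Cfsg.Lie Matrix

set_option maxRecDepth 1000000 in
theorem cert_T : aT = mkP 16 [2, 0, 2, 0, 0, 0, 0, 0, 0, 0, 0, 0, 0, 0, 0, 0, 0, 0, 0, 0, 0, 0, 0, 0, 0, 0, 0, 0, 4, 0, 8, 0, 0, 16, 0, 32, 64, 0, 0, 0, 128, 0, 256, 512, 1024, 0, 2048, 4096, 8192, 16384, 32768, 3] * mkQ 16 [8, 16, 32, 64, 128, 256, 512, 2048, 4096, 8192, 32768, 524288, 1048576, 4194304, 33554432, 134217728] := by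
  decide +kernel

end Cfsg.Agent.Lib.Helper25.F4Inv
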