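import Cfsg.Agent.Lib.Helper25.ChInvI

/-! Tables for the involutions of `F₄(2ᵃ)`: reduced words of the elements `w₀ w_J`, conjugating words and
class representatives (helper25). -/

set_option autoImplicit false

namespace Cfsg.Agent.Lib.Helper25.F4Inv

open Cfsg Cfsg.Lie
open Cfsg.Agent.Lib.Helper7 Cfsg.Agent.Lib.Helper25.ChInv

/-- a reduced word of `w₀ w_J` -/
def LJof : List ℕ → List ℕ
  | [] => [3, 2, 1, 2, 0, 1, 2, 3, 2, 1, 2, 0, 1, 2, 3, 2, 1, 2, 0, 1, 2, 0, 1, 0]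
  | [0] => [3, 2, 1, 2, 0, 1, 2, 3, 2, 1, 2, 0, 1, 2, 3, 2, 1, 2, 0, 1, 2, 0, 1]
  | [1] => [3, 2, 1, 2, 0, 1, 2, 3, 2, 1, 2, 0, 1, 2, 3, 2, 1, 2, 0, 1, 2, 1, 0]
  | [2] => [3, 2, 1, 2, 0, 1, 2, 3, 2, 1, 2, 0, 1, 2, 3, 1, 2, 0, 1, 2, 0, 1, 0]
  | [3] => [2, 1, 2, 0, 1, 2, 3, 2, 1, 2, 0, 1, 2, 3, 2, 1, 2, 0, 1, 2, 0, 1, 0]
  | [0, 1] => [3, 2, 1, 2, 0, 1, 2, 3, 2, 1, 2, 0, 1, 2, 3, 2, 1, 2, 0, 1, 2]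
  | [0, 2] => [3, 2, 1, 2, 0, 1, 2, 3, 2, 1, 2, 0, 1, 2, 3, 1, 2, 0, 1, 2, 0, 1]
  | [0, 3] => [2, 1, 2, 0, 1, 2, 3, 2, 1, 2, 0, 1, 2, 3, 2, 1, 2, 0, 1, 2, 0, 1]
  | [1, 2] => [3, 2, 1, 2, 0, 1, 2, 3, 2, 1, 2, 0, 1, 2, 3, 0, 1, 2, 1, 0]
  | [1, 3] => [2, 1, 2, 0, 1, 2, 3, 2, 1, 2, 0, 1, 2, 3, 2, 1, 2, 0, 1, 2, 1, 0]
  | [2, 3] => [1, 2, 0, 1, 2, 3, 2, 1, 2, 0, 1, 2, 3, 1, 2, 0, 1, 2, 0, 1, 0]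
  | [0, 1, 2] => [3, 2, 1, 2, 0, 1, 2, 3, 2, 1, 2, 0, 1, 2, 3]
  | [0, 1, 3] => [2, 1, 2, 0, 1, 2, 3, 2, 1, 2, 0, 1, 2, 3, 2, 1, 2, 0, 1, 2]
  | [0, 2, 3] => [1, 2, 0, 1, 2, 3, 2, 1, 2, 0, 1, 2, 3, 1, 2, 0, 1, 2, 0, 1]
  | [1, 2, 3] => [0, 1, 2, 3, 1, 2, 0, 1, 2, 3, 0, 1, 2, 1, 0]
  | [0, 1, 2, 3] => []
  | _ => []

/-- the subsets `J` fixed pointwise by `w₀ w_J` -/
def validL : List (List ℕ) := [[], [0], [1], [2], [3], [0, 2], [0, 3], [1, 2], [1, 3], [0, 1, 2], [1, 2, 3], [0, 1, 2, 3]]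

/-- the conjugating words -/
def gOf : List ℕ → List ℕ
  | [] => [8, 2, 1, 24, 27, 32, 44, 1, 2, 8, 39, 45, 8, 2, 1, 24, 27, 32, 44, 1, 2, 8, 39, 45, 8, 2, 1, 24, 27, 32, 44, 1, 2, 8, 39, 45, 8, 2, 1, 3, 15, 20, 23]
  | [0] => [0, 24, 39, 45, 0, 39, 45, 0, 24, 39, 45, 0, 39, 45, 0, 24, 39, 45, 0, 39, 45, 0, 2, 8, 23]
  | [1] => [4, 7, 5, 24, 32, 44, 5, 7, 4, 39, 45, 4, 7, 5, 24, 32, 44, 5, 7, 4, 39, 45, 4, 7, 5, 24, 32, 44, 5, 7, 4, 39, 45, 4, 7, 5, 3, 15, 23]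
  | [2] => [1, 9, 29, 30, 44, 9, 1, 39, 45, 1, 9, 29, 30, 44, 9, 1, 39, 45, 1, 9, 29, 30, 44, 9, 1, 39, 45, 1, 9, 3, 17, 18]
  | [3] => [34, 3, 27, 32, 44, 3, 34, 39, 45, 34, 3, 3, 15, 20]
  | [0, 2] => [2, 0, 37, 47, 0, 2, 39, 45, 2, 0, 0, 10]
  | [0, 3] => [2, 8]
  | [1, 2] => [6, 3, 18]
  | [1, 3] => [3, 8, 32, 44, 8, 3, 39, 45, 3, 8, 3, 15]
  | [0, 1, 2] => [0]
  | [1, 2, 3] => [3]
  | _ => []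

/-- the representatives -/
def repOf : List ℕ → List ℕ
  | [] => [39, 45]
  | [0] => [39, 45]
  | [1] => [39, 45]
  | [2] => [39, 45]
  | [3] => [39, 45]
  | [0, 2] => [39, 45]
  | [0, 3] => [39, 45]
  | [1, 2] => [47, 44]
  | [1, 3] => [39, 45]
  | [0, 1, 2] => [47]
  | [1, 2, 3] => [44]
  | _ => []

set_option maxRecDepth 100000 in
theorem p1_all : ∀ Jl ∈ (List.range chevF4.rank).sublists, p1B chevF4 Jl (LJof Jl) = true := by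
  decide +kernel

set_option maxRecDepth 100000 in
theorem valid_all : ∀ Jl ∈ (List.range chevF4.rank).sublists,
    (∀ i ∈ Jl, reflWord chevF4 (LJof Jl) (chevF4.simple i) = chevF4.simple i) → Jl ∈ validL := by
  decide +kernel

/-- the statement of the word check for `J` -/
def ChkStmt (J : List ℕ) : Prop :=
  BitWord.bitChkR chevF4 (gOf J ++ nJR chevF4 (LJof J) ++ (gOf J).reverse) (repOf J) = true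

end Cfsg.Agent.Lib.Helper25.F4Inv
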