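import Cfsg.Agent.Lib.Helper7.ChevRootCentTab
import Cfsg.Agent.Lib.Helper7.ChevWeylChainF4
import Cfsg.Agent.Lib.Helper7.ChevWeylChain2
import Cfsg.Agent.Lib.Helper7.ChevWeylEnum
import Cfsg.Agent.Lib.Helper7.ChevCoxeterTabF4
import Cfsg.Agent.Lib.Helper25.HRow2
import Cfsg.Agent.Lib.Helper25.F4MixW

/-! Type `F₄` in characteristic two: the centraliser of `x_47(1) x_44(1)` (highest root times highest
short root) (helper25). -/

set_option autoImplicit false
set_option maxRecDepth 1000000

namespace Cfsg.Agent.Lib.Helper25.F4Mix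

open Cfsg Cfsg.Lie Matrix
open Cfsg.Agent.Lib.Helper7
open Cfsg.Agent.Lib.Helper3.BN
open Cfsg.Agent.Lib.Helper25.HRow

theorem rowFix_47_44 : rowFixB chevF4 44 (chevF4.negIdx.getD 47 0) = true := by decide +kernel

theorem centGen_mono (D : ChevalleyDatum) (F : Type*) [Field F] (l l' : List ℕ) (h : ∀ s ∈ l, s ∈ l') :
    centGen D F l ≤ centGen D F l' := by
  unfold centGen
  apply sup_le_sup_left
  apply Subgroup.closure_mono
  rintro g ⟨s, hs, c, hg⟩
  exact ⟨s, h s hs, c, hg⟩

theorem f4_tab1 : chevF4.cartan 3 47 = 1 ∧ chevF4.cartan 0 47 = 0 ∧ chevF4.cartan 1 47 = 0 ∧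
    chevF4.cartan 2 47 = 0 ∧ chevF4.cartan 0 44 = 1 ∧ chevF4.cartan 1 44 = 0 ∧ chevF4.cartan 2 44 = 0 ∧
    chevF4.cartan 3 44 = 0 ∧ chevF4.simple 0 = 33 ∧ chevF4.simple 1 = 27 ∧ chevF4.simple 2 = 25 ∧
    chevF4.simple 3 = 24 ∧ chevF4.neg 33 = 14 ∧ chevF4.neg 27 = 20 ∧ chevF4.neg 25 = 22 ∧
    chevF4.neg 24 = 23 := by decide

theorem range_rank_F4 : List.range chevF4.rank = [0, 1, 2, 3] := by decide

section
variable (F : Type*) [Field F]

local notation "X" => xGL chevF4 mem_F4 F

/-- a two-letter word -/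
theorem word2 (r s : ℕ) (a b : F) : wordGL chevF4 mem_F4 F [(r, a), (s, b)] = X r a * X s b := by
  unfold wordGL
  simp

theorem nonInt2 (r s : ℕ) (a b : F) (h : rowFixB chevF4 s (chevF4.negIdx.getD r 0) = true) :
    NonInt chevF4 F [(r, a), (s, b)] := by
  unfold NonInt
  refine List.pairwise_cons.mpr ⟨?_, List.pairwise_cons.mpr ⟨?_, List.Pairwise.nil⟩⟩
  · intro e he
    simp only [List.mem_cons, List.not_mem_nil, or_false] at he
    subst he
    exact h
  · intro e he
    simp at he

variable (h2 : ((2 : ℕ) : F) = 0)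
include h2

/-- the centraliser of `x_47(1) x_44(1)` -/
theorem centralizer_47_44 (w : GL chevF4.Idx F)
    (hw : (w : Matrix chevF4.Idx chevF4.Idx F) = chevF4.x F 47 1 * chevF4.x F 44 1) :
    chevF4.group F ⊓ Subgroup.centralizer {w} = centGen chevF4 F [20, 22] := by
  have h0 : ((0 : ℕ) : F) = 0 := Nat.cast_zero
  have hw' : w = X 47 1 * X 44 1 := Units.ext (by rw [hw, Units.val_mul, coe_xGL, coe_xGL])
  have hle1 : centGen chevF4 F [20, 22] ≤ centGen chevF4 F [14, 20, 22] :=
    centGen_mono chevF4 F _ _ (by simp)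
  have hle2 : centGen chevF4 F [20, 22] ≤ centGen chevF4 F [20, 22, 23] :=
    centGen_mono chevF4 F _ _ (by simp)
  have hcomm : ∀ r ∈ centGen chevF4 F [20, 22], r * w = w * r := by
    intro r hr
    have e1 := centGen_comm_root chevF4 mem_F4 F 47 0 3 [14, 20, 22] h0 cent2OKB_F4_long r (hle1 hr) 1
    have e2 := centGen_comm_root chevF4 mem_F4 F 44 2 0 [20, 22, 23] h2 cent2OKB_F4_short r (hle2 hr) 1
    rw [hw', ← mul_assoc, e1, mul_assoc, e2, mul_assoc]
  apply le_antisymm
  · intro g hg
    rw [Subgroup.mem_inf, Subgroup.mem_centralizer_singleton_iff] at hg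
    obtain ⟨hgG, hgt⟩ := hg
    -- step (i): `g` normalises both root subgroups
    have hgS : Sends chevF4 mem_F4 F g 47 47 ∧ Sends chevF4 mem_F4 F g 44 44 := by
      obtain ⟨b, hb, n, hn, u, hu, hgeq⟩ := canon_exists chevF4 mem_F4 F g hgG
      have huU := uMinus_le_posUnipotent chevF4 F n hu
      obtain ⟨L, hL, hact⟩ := exists_actsAs chevF4 mem_F4 F n hn
      have hL' : ∀ i ∈ L, i < 4 := hL
      have hsb1 := borel_sends_root chevF4 mem_F4 F 47 0 3 [14, 20, 22] h0 cent2OKB_F4_long b hb
      have hsb2 := borel_sends_root chevF4 mem_F4 F 44 2 0 [20, 22, 23] h2 cent2OKB_F4_short b hb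
      have hsu1 := borel_sends_root chevF4 mem_F4 F 47 0 3 [14, 20, 22] h0 cent2OKB_F4_long u
        (posUnipotent_le_borel chevF4 mem_F4 F huU)
      have hsu2 := borel_sends_root chevF4 mem_F4 F 44 2 0 [20, 22, 23] h2 cent2OKB_F4_short u
        (posUnipotent_le_borel chevF4 mem_F4 F huU)
      have hut1 := pos_comm_root chevF4 mem_F4 F 47 0 3 [14, 20, 22] h0 cent2OKB_F4_long u huU 1
      have hut2 := pos_comm_root chevF4 mem_F4 F 44 2 0 [20, 22, 23] h2 cent2OKB_F4_short u huU 1
      have hut : u * w = w * u := by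
        rw [hw', ← mul_assoc, hut1, mul_assoc, hut2, mul_assoc]
      have keyeq : n * w * n⁻¹ = b⁻¹ * w * b⁻¹⁻¹ := by
        have e1 : b * n * w * u = w * b * n * u := by
          calc b * n * w * u = b * n * (w * u) := by group
            _ = b * n * (u * w) := by rw [hut]
            _ = (b * n * u) * w := by group
            _ = w * (b * n * u) := by rw [← hgeq, hgt]
            _ = w * b * n * u := by group
        have e2 := mul_right_cancel e1
        calc n * w * n⁻¹ = b⁻¹ * (b * n * w) * n⁻¹ := by group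
          _ = b⁻¹ * (w * b * n) * n⁻¹ := by rw [e2]
          _ = b⁻¹ * w * b⁻¹⁻¹ := by group
      obtain ⟨c1, hc1, hn1⟩ := hact.sends _ (by decide : (47 : ℕ) < chevF4.nroots)
      obtain ⟨c2, hc2, hn2⟩ := hact.sends _ (by decide : (44 : ℕ) < chevF4.nroots)
      obtain ⟨d1, hd1, hb1⟩ := hsb1.inv
      obtain ⟨d2, hd2, hb2⟩ := hsb2.inv
      have elhs : n * w * n⁻¹ = X (reflWord chevF4 L 47) (c1 * 1) * X (reflWord chevF4 L 44) (c2 * 1) := by
        rw [hw', ← hn1 1, ← hn2 1]; group
      have erhs : b⁻¹ * w * b⁻¹⁻¹ = X 47 (d1 * 1) * X 44 (d2 * 1) := by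
        rw [hw', ← hb1 1, ← hb2 1]; group
      rw [elhs, erhs, ← word2, ← word2] at keyeq
      have hduo := weylF4_duo L hL'
      unfold duoB at hduo
      simp only [Bool.and_eq_true, decide_eq_true_eq, bne_iff_ne] at hduo
      obtain ⟨⟨⟨⟨⟨h47, h44⟩, hfix⟩, hne⟩, hne1⟩, hne2⟩ := hduo
      have hlt1 : ∀ e ∈ [(reflWord chevF4 L 47, c1 * 1), (reflWord chevF4 L 44, c2 * 1)],
          e.1 < chevF4.nroots := by
        intro e he
        simp only [List.mem_cons, List.not_mem_nil, or_false] at he
        rcases he with rfl | rfl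
        · exact h47
        · exact h44
      have hlt2 : ∀ e ∈ [((47 : ℕ), d1 * 1), (44, d2 * 1)], e.1 < chevF4.nroots := by
        intro e he
        simp only [List.mem_cons, List.not_mem_nil, or_false] at he
        rcases he with rfl | rfl
        · show (47 : ℕ) < chevF4.nroots; decide
        · show (44 : ℕ) < chevF4.nroots; decide
      have hco := coefAt_eq_of_wordGL_eq chevF4 mem_F4 F _ _ hlt1 hlt2
        (nonInt2 F _ _ _ _ (rfB_spec _ _ hfix)) (nonInt2 F _ _ _ _ rowFix_47_44) keyeq
      have hr47 : reflWord chevF4 L 47 = 47 := by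
        by_contra hcon
        have := hco (reflWord chevF4 L 47) h47
        simp only [coefAt_cons, coefAt_nil, if_pos trivial, add_zero] at this
        rw [if_neg (fun h => hne h.symm), if_neg (fun h => hcon h.symm),
          if_neg (fun h => hne1 h.symm)] at this
        simp only [add_zero, mul_one] at this
        exact hc1 this
      have hr44 : reflWord chevF4 L 44 = 44 := by
        by_contra hcon
        have := hco (reflWord chevF4 L 44) h44
        simp only [coefAt_cons, coefAt_nil, if_pos trivial, add_zero] at this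
        rw [if_neg hne, if_neg (fun h => hne2 h.symm), if_neg (fun h => hcon h.symm)] at this
        simp only [zero_add, mul_one] at this
        exact hc2 this
      have hsn1 := hact.sends _ (by decide : (47 : ℕ) < chevF4.nroots)
      have hsn2 := hact.sends _ (by decide : (44 : ℕ) < chevF4.nroots)
      rw [hr47] at hsn1
      rw [hr44] at hsn2
      constructor
      · have := (hsu1.mul hsn1).mul hsb1
        rwa [← mul_assoc, ← hgeq] at this
      · have := (hsu2.mul hsn2).mul hsb2
        rwa [← mul_assoc, ← hgeq] at this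
    -- step (ii): the stabiliser is a parabolic subgroup
    obtain ⟨hpos1, -, -, -, -, hrefl1, hJ1, -⟩ :=
      cent2OKB_spec chevF4 47 0 3 [14, 20, 22] cent2OKB_F4_long
    obtain ⟨hpos2, -, -, -, -, hrefl2, hJ2, -⟩ :=
      cent2OKB_spec chevF4 44 2 0 [20, 22, 23] cent2OKB_F4_short
    obtain ⟨P, hP⟩ : ∃ P, P = chevBNPair chevF4 mem_F4 F := ⟨_, rfl⟩
    obtain ⟨M, hMdef⟩ : ∃ M : Subgroup ↥(chevF4.group F),
        M = (rootStab chevF4 mem_F4 F 47 ⊓ rootStab chevF4 mem_F4 F 44).subgroupOf (chevF4.group F) :=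
      ⟨_, rfl⟩
    have hPB : ∀ g : ↥(chevF4.group F), g ∈ P.B ↔ (g : GL chevF4.Idx F) ∈ chevF4.borelSubgroup F := by
      rw [hP]; intro g; rw [chevBNPair_B, Subgroup.mem_subgroupOf]
    have hM : P.B ≤ M := by
      intro b hb
      rw [hMdef, Subgroup.mem_subgroupOf, Subgroup.mem_inf]
      exact ⟨borel_sends_root chevF4 mem_F4 F 47 0 3 [14, 20, 22] h0 cent2OKB_F4_long _ ((hPB b).mp hb),
        borel_sends_root chevF4 mem_F4 F 44 2 0 [20, 22, 23] h2 cent2OKB_F4_short _ ((hPB b).mp hb)⟩
    have h1 := subgroup_eq_parabolic P M hM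
    have hgM : (⟨g, hgG⟩ : ↥(chevF4.group F)) ∈ M := by
      rw [hMdef, Subgroup.mem_subgroupOf, Subgroup.mem_inf]; exact hgS
    rw [h1] at hgM
    have hle : P.parabolic {s | s ∈ P.S ∧ s ∈ M} ≤
        (chevF4.diagonalSubgroup F ⊔ centGen chevF4 F [20, 22]).subgroupOf (chevF4.group F) := by
      unfold BNPair.parabolic
      apply sup_le
      · intro b hb
        rw [Subgroup.mem_subgroupOf]
        have hb' := (hPB b).mp hb
        have hBle : chevF4.borelSubgroup F ≤ chevF4.diagonalSubgroup F ⊔ centGen chevF4 F [20, 22] := by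
          unfold ChevalleyDatum.borelSubgroup
          exact sup_le (le_trans (le_sup_left : chevF4.posUnipotent F ≤ centGen chevF4 F [20, 22])
            le_sup_right) le_sup_left
        exact hBle hb'
      · rw [Subgroup.closure_le]
        rintro s ⟨hs, hsM⟩
        have hs' : s ∈ fundSet chevF4 F := by rw [hP] at hs; exact hs
        obtain ⟨i, hi, hsm⟩ := hs'
        have hsn := coe_eq_nFund_of_mem_fundSet chevF4 mem_F4 F s i hsm
        rw [hMdef, Subgroup.mem_subgroupOf, hsn, Subgroup.mem_inf] at hsM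
        have hact := actsAs_nFund chevF4 mem_F4 F i hi
        have hroot1 := Sends.root_eq chevF4 mem_F4 F (hact _ hpos1.1).1 hpos1.1
          (hact.sends _ hpos1.1) hsM.1
        have hroot2 := Sends.root_eq chevF4 mem_F4 F (hact _ hpos2.1).1 hpos2.1
          (hact.sends _ hpos2.1) hsM.2
        have hi3 : i ≠ 3 := by rintro rfl; exact hrefl1 hroot1
        have hi0 : i ≠ 0 := by rintro rfl; exact hrefl2 hroot2
        show s ∈ (chevF4.diagonalSubgroup F ⊔ centGen chevF4 F [20, 22]).subgroupOf (chevF4.group F)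
        rw [Subgroup.mem_subgroupOf, hsn]
        apply Subgroup.mem_sup_right
        unfold nFund
        apply wordGL_mem_centGen
        intro e he
        have hp := (parFacts_of_mem chevF4 mem_F4).simplePos i hi
        have hn : chevF4.neg (chevF4.simple i) ∈ [20, 22] := by
          have hi4 : i < 4 := hi
          interval_cases i
          · exact absurd rfl hi0
          · rw [f4_tab1.2.2.2.2.2.2.2.2.2.1, f4_tab1.2.2.2.2.2.2.2.2.2.2.2.2.2.1]; simp
          · rw [f4_tab1.2.2.2.2.2.2.2.2.2.2.1, f4_tab1.2.2.2.2.2.2.2.2.2.2.2.2.2.2.1]; simp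
          · exact absurd rfl hi3
        unfold ChevalleyDatum.nWord at he
        simp only [List.mem_cons, List.not_mem_nil, or_false] at he
        rcases he with rfl | rfl | rfl
        · exact Or.inl hp
        · exact Or.inr hn
        · exact Or.inl hp
    -- step (iii): split off the diagonal part
    have hg2 := hle hgM
    rw [Subgroup.mem_subgroupOf] at hg2
    have hg3 : g ∈ ((chevF4.diagonalSubgroup F ⊔ centGen chevF4 F [20, 22] :
        Subgroup (GL chevF4.Idx F)) : Set (GL chevF4.Idx F)) := hg2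
    rw [Subgroup.coe_mul_of_left_le_normalizer_right _ _
      (diagonal_le_normalizer_centGen chevF4 mem_F4 F [20, 22])] at hg3
    obtain ⟨h, hh, r, hr, hgeq⟩ := Set.mem_mul.mp hg3
    have hrt := hcomm r hr
    have hht : h * w = w * h := by
      have : h * w * r = w * h * r := by
        rw [mul_assoc, ← hrt, ← mul_assoc, hgeq, hgt, ← hgeq, mul_assoc]
      exact mul_right_cancel this
    obtain ⟨c, hc, hhm⟩ := mem_diagonalSubgroup_prodChar chevF4 mem_F4 F h hh
    have hχ := chainChar_prodChar chevF4 mem_F4 F (List.range chevF4.rank)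
      (fun i hi => List.mem_range.mp hi) c hc
    have hcomm1 := diagGL_xGL_comm chevF4 mem_F4 F h _ hχ hhm 47 1
    have hcomm2 := diagGL_xGL_comm chevF4 mem_F4 F h _ hχ hhm 44 1
    have hweq : X 47 (prodChar chevF4 F (List.range chevF4.rank) c 47 * 1) *
        X 44 (prodChar chevF4 F (List.range chevF4.rank) c 44 * 1) = X 47 1 * X 44 1 := by
      have e1 : h * w = X 47 (prodChar chevF4 F (List.range chevF4.rank) c 47 * 1) *
          X 44 (prodChar chevF4 F (List.range chevF4.rank) c 44 * 1) * h := by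
        rw [hw', ← mul_assoc, hcomm1, mul_assoc, hcomm2, mul_assoc]
      rw [hht, hw'] at e1
      exact (mul_right_cancel e1).symm
    rw [← word2, ← word2] at hweq
    have hlt2 : ∀ (a b : F), ∀ e ∈ [((47 : ℕ), a), (44, b)], e.1 < chevF4.nroots := by
      intro a b e he
      simp only [List.mem_cons, List.not_mem_nil, or_false] at he
      rcases he with rfl | rfl
      · show (47 : ℕ) < chevF4.nroots; decide
      · show (44 : ℕ) < chevF4.nroots; decide
    have hco := coefAt_eq_of_wordGL_eq chevF4 mem_F4 F _ _ (hlt2 _ _) (hlt2 _ _)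
      (nonInt2 F _ _ _ _ rowFix_47_44) (nonInt2 F _ _ _ _ rowFix_47_44) hweq
    have hχ47 : prodChar chevF4 F (List.range chevF4.rank) c 47 = 1 := by
      have := hco 47 (by decide)
      simpa [coefAt_cons, coefAt_nil] using this
    have hχ44 : prodChar chevF4 F (List.range chevF4.rank) c 44 = 1 := by
      have := hco 44 (by decide)
      simpa [coefAt_cons, coefAt_nil] using this
    have hc3 : c 3 = 1 := by
      unfold prodChar at hχ47
      rw [range_rank_F4] at hχ47
      simpa [f4_tab1.1, f4_tab1.2.1, f4_tab1.2.2.1, f4_tab1.2.2.2.1] using hχ47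
    have hc0 : c 0 = 1 := by
      unfold prodChar at hχ44
      rw [range_rank_F4] at hχ44
      simpa [f4_tab1.2.2.2.2.1, f4_tab1.2.2.2.2.2.1, f4_tab1.2.2.2.2.2.2.1,
        f4_tab1.2.2.2.2.2.2.2.1] using hχ44
    have hh' : h = wordGL chevF4 mem_F4 F
        ((List.range chevF4.rank).flatMap fun i => chevF4.hWord (chevF4.simple i) (c i)) := by
      apply Units.ext
      rw [coe_wordGL, hhm, wordMat_flatMap_hWord chevF4 mem_F4 F c _
        (fun i hi => ⟨List.mem_range.mp hi, hc i⟩)]
    rw [← hgeq]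
    apply Subgroup.mul_mem _ _ hr
    rw [hh', range_rank_F4]
    have : ([0, 1, 2, 3] : List ℕ).flatMap (fun i => chevF4.hWord (chevF4.simple i) (c i)) =
        chevF4.hWord (chevF4.simple 0) (c 0) ++ (chevF4.hWord (chevF4.simple 1) (c 1) ++
          (chevF4.hWord (chevF4.simple 2) (c 2) ++ chevF4.hWord (chevF4.simple 3) (c 3))) := by
      simp
    rw [this, wordGL_append, wordGL_append, wordGL_append, hc0, hc3, hGL_one, hGL_one, one_mul, mul_one]
    have hmem : ∀ i, i = 1 ∨ i = 2 →
        wordGL chevF4 mem_F4 F (chevF4.hWord (chevF4.simple i) (c i)) ∈ centGen chevF4 F [20, 22] := by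
      intro i hi
      apply wordGL_mem_centGen
      intro e he
      have hp : chevF4.IsPosRoot (chevF4.simple i) := by
        rcases hi with rfl | rfl
        · exact (parFacts_of_mem chevF4 mem_F4).simplePos 1 (by decide)
        · exact (parFacts_of_mem chevF4 mem_F4).simplePos 2 (by decide)
      have hn : chevF4.neg (chevF4.simple i) ∈ [20, 22] := by
        rcases hi with rfl | rfl
        · rw [f4_tab1.2.2.2.2.2.2.2.2.2.1, f4_tab1.2.2.2.2.2.2.2.2.2.2.2.2.2.1]; simp
        · rw [f4_tab1.2.2.2.2.2.2.2.2.2.2.1, f4_tab1.2.2.2.2.2.2.2.2.2.2.2.2.2.2.1]; simp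
      unfold ChevalleyDatum.hWord ChevalleyDatum.nWord at he
      simp only [List.cons_append, List.nil_append, List.mem_cons, List.not_mem_nil, or_false] at he
      rcases he with rfl | rfl | rfl | rfl | rfl | rfl
      · exact Or.inl hp
      · exact Or.inr hn
      · exact Or.inl hp
      · exact Or.inl hp
      · exact Or.inr hn
      · exact Or.inl hp
    exact Subgroup.mul_mem _ (hmem 1 (Or.inl rfl)) (hmem 2 (Or.inr rfl))
  · intro r hr
    rw [Subgroup.mem_inf, Subgroup.mem_centralizer_singleton_iff]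
    constructor
    · have hle : centGen chevF4 F [20, 22] ≤ chevF4.group F := by
        unfold centGen
        apply sup_le (le_trans (posUnipotent_le_borel chevF4 mem_F4 F) (borel_le_group chevF4 mem_F4 F))
        rw [Subgroup.closure_le]
        rintro g ⟨s, hs, c, hgm⟩
        have hg' : g = X s c := Units.ext (by rw [hgm, coe_xGL])
        rw [hg']
        exact xGL_mem_group chevF4 mem_F4 F s c
      exact hle hr
    · exact hcomm r hr

omit h2 in
/-- `⟨U, X_a, X_b⟩` as a supremum -/
theorem centGen_two (a b : ℕ) :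
    centGen chevF4 F [a, b] = chevF4.posUnipotent F ⊔ chevF4.rootSubgroup F a ⊔ chevF4.rootSubgroup F b := by
  unfold centGen ChevalleyDatum.rootSubgroup
  apply le_antisymm
  · apply sup_le
    · exact le_trans le_sup_left le_sup_left
    · rw [Subgroup.closure_le]
      rintro g ⟨s, hs, t, hg⟩
      simp only [List.mem_cons, List.not_mem_nil, or_false] at hs
      rcases hs with rfl | rfl
      · exact (le_trans le_sup_right le_sup_left : Subgroup.closure _ ≤ _)
          (Subgroup.subset_closure ⟨t, hg⟩)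
      · exact (le_sup_right : Subgroup.closure _ ≤ _) (Subgroup.subset_closure ⟨t, hg⟩)
  · have hsub : ∀ s ∈ [a, b], Subgroup.closure {g : GL chevF4.Idx F | ∃ t : F,
        (g : Matrix chevF4.Idx chevF4.Idx F) = chevF4.x F s t} ≤ chevF4.posUnipotent F ⊔ Subgroup.closure
          {g : GL chevF4.Idx F | ∃ s ∈ [a, b], ∃ c : F,
            (g : Matrix chevF4.Idx chevF4.Idx F) = chevF4.x F s c} := by
      intro s hs
      refine le_trans (Subgroup.closure_mono ?_) le_sup_right
      rintro g ⟨t, hg⟩
      exact ⟨s, hs, t, hg⟩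
    apply sup_le (sup_le le_sup_left (hsub a (by simp))) (hsub b (by simp))

end

end Cfsg.Agent.Lib.Helper25.F4Mix
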