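import Cfsg.Agent.Lib.Helper7.ChevRootCentTab
import Cfsg.Agent.Lib.Helper7.ChevBV
import Cfsg.Agent.Lib.Helper25.HRow2
import Cfsg.Agent.Lib.Helper25.F4MixW

/-! Type `F₄` in characteristic two: the abelian subgroup `Q = ⟨X_r : r ∈ {39,45,40,44,46,47}⟩` and the
action of the Borel subgroup on it (helper25). -/

set_option autoImplicit false
set_option maxRecDepth 1000000

namespace Cfsg.Agent.Lib.Helper25.F4Mix

open Cfsg Cfsg.Lie Matrix
open Cfsg.Agent.Lib.Helper7
open Cfsg.Agent.Lib.Helper25.HRow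

/-- `X_r` and `X_s` commute modulo 2 -/
def cmB (r s : ℕ) : Bool :=
  decide (r < 48) && decide (s < 48) && ((s == r) || ((s != chevF4.neg r) && commDvdB chevF4 2 r s))

/-- modulo 2, the commutator of `X_q` and `X_s` lies in `⟨X_40, X_44, X_46, X_47⟩` -/
def conjOKB (q s : ℕ) : Bool :=
  (q == s) || ((s != chevF4.neg q) &&
    (chevF4.commTerms q s).all fun c => decide ((2 : ℤ) ∣ c.2.1) || [40, 44, 46, 47].contains c.1)

theorem six_comm_tab : (six.all fun r => six.all fun s => cmB r s) = true := by decide +kernel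

theorem conj_tab : ((List.range 48).all fun q => !decide (chevF4.IsPosRoot q) || six.all fun s => conjOKB q s) =
    true := by decide +kernel

theorem six_lt (s : ℕ) (hs : s ∈ six) : s < 48 := by
  unfold six at hs
  simp only [List.mem_cons, List.not_mem_nil, or_false] at hs
  rcases hs with rfl | rfl | rfl | rfl | rfl | rfl <;> decide

theorem coefAt_append {F : Type*} [Field F] (w w' : List (ℕ × F)) (r : ℕ) :
    coefAt (w ++ w') r = coefAt w r + coefAt w' r := by
  unfold coefAt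
  rw [List.map_append, List.sum_append]

theorem coefAt_eq_zero {F : Type*} [Field F] (w : List (ℕ × F)) (r : ℕ) (h : ∀ e ∈ w, e.1 ≠ r ∨ e.2 = 0) :
    coefAt w r = 0 := by
  unfold coefAt
  apply List.sum_eq_zero
  intro y hy
  rw [List.mem_map] at hy
  obtain ⟨e, he, rfl⟩ := hy
  rcases h e he with h1 | h1
  · rw [if_neg h1]
  · rw [h1]; simp

theorem mem_of_coefAt_ne_zero {F : Type*} [Field F] (w : List (ℕ × F)) (r : ℕ) (h : coefAt w r ≠ 0) :
    r ∈ w.map Prod.fst := by
  by_contra hcon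
  apply h
  apply coefAt_eq_zero
  intro e he
  left
  intro h1
  apply hcon
  rw [List.mem_map]
  exact ⟨e, he, h1⟩

section
variable (F : Type*) [Field F]

local notation "X" => xGL chevF4 mem_F4 F

/-- the general element of `Q` -/
noncomputable def W6 (c d a1 a2 a3 a4 : F) : GL chevF4.Idx F :=
  X 39 c * (X 45 d * (X 40 a1 * (X 44 a2 * (X 46 a3 * X 47 a4))))

theorem W6_eq_word (c d a1 a2 a3 a4 : F) : W6 F c d a1 a2 a3 a4 =
    wordGL chevF4 mem_F4 F [(39, c), (45, d), (40, a1), (44, a2), (46, a3), (47, a4)] := by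
  unfold W6 wordGL
  simp

theorem wordGL_cons (e : ℕ × F) (w : List (ℕ × F)) :
    wordGL chevF4 mem_F4 F (e :: w) = X e.1 e.2 * wordGL chevF4 mem_F4 F w := by
  unfold wordGL
  simp

variable (h2 : ((2 : ℕ) : F) = 0)
include h2

theorem comm_of_cmB (r s : ℕ) (h : cmB r s = true) (t u : F) : X s u * X r t = X r t * X s u := by
  unfold cmB at h
  simp only [Bool.and_eq_true, Bool.or_eq_true, decide_eq_true_eq, beq_iff_eq, bne_iff_ne] at h
  obtain ⟨⟨hr, hs⟩, h⟩ := h
  rcases h with rfl | ⟨hsn, h⟩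
  · rw [xGL_mul, xGL_mul, add_comm]
  · by_cases hsr : s = r
    · subst hsr; rw [xGL_mul, xGL_mul, add_comm]
    · exact xGL_comm_of_commDvdB chevF4 mem_F4 F 2 h2 r s hr hs hsr hsn h t u

theorem six_comm (r s : ℕ) (hr : r ∈ six) (hs : s ∈ six) (t u : F) : X s u * X r t = X r t * X s u := by
  have h := six_comm_tab
  simp only [List.all_eq_true] at h
  exact comm_of_cmB F h2 r s (h r hr s hs) t u

theorem left_comm6 (r s : ℕ) (hr : r ∈ six) (hs : s ∈ six) (t u : F) (z : GL chevF4.Idx F) :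
    X s u * (X r t * z) = X r t * (X s u * z) := by
  rw [← mul_assoc, six_comm F h2 r s hr hs, mul_assoc]

theorem ins39 (t c d a1 a2 a3 a4 : F) : X 39 t * W6 F c d a1 a2 a3 a4 = W6 F (t + c) d a1 a2 a3 a4 := by
  unfold W6
  rw [← mul_assoc, xGL_mul]

theorem ins45 (t c d a1 a2 a3 a4 : F) : X 45 t * W6 F c d a1 a2 a3 a4 = W6 F c (t + d) a1 a2 a3 a4 := by
  unfold W6
  rw [left_comm6 F h2 39 45 (by decide) (by decide), ← mul_assoc (X 45 t), xGL_mul]

theorem ins40 (t c d a1 a2 a3 a4 : F) : X 40 t * W6 F c d a1 a2 a3 a4 = W6 F c d (t + a1) a2 a3 a4 := by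
  unfold W6
  rw [left_comm6 F h2 39 40 (by decide) (by decide), left_comm6 F h2 45 40 (by decide) (by decide),
    ← mul_assoc (X 40 t), xGL_mul]

theorem ins44 (t c d a1 a2 a3 a4 : F) : X 44 t * W6 F c d a1 a2 a3 a4 = W6 F c d a1 (t + a2) a3 a4 := by
  unfold W6
  rw [left_comm6 F h2 39 44 (by decide) (by decide), left_comm6 F h2 45 44 (by decide) (by decide),
    left_comm6 F h2 40 44 (by decide) (by decide), ← mul_assoc (X 44 t), xGL_mul]

theorem ins46 (t c d a1 a2 a3 a4 : F) : X 46 t * W6 F c d a1 a2 a3 a4 = W6 F c d a1 a2 (t + a3) a4 := by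
  unfold W6
  rw [left_comm6 F h2 39 46 (by decide) (by decide), left_comm6 F h2 45 46 (by decide) (by decide),
    left_comm6 F h2 40 46 (by decide) (by decide), left_comm6 F h2 44 46 (by decide) (by decide),
    ← mul_assoc (X 46 t), xGL_mul]

theorem ins47 (t c d a1 a2 a3 a4 : F) : X 47 t * W6 F c d a1 a2 a3 a4 = W6 F c d a1 a2 a3 (t + a4) := by
  unfold W6
  rw [left_comm6 F h2 39 47 (by decide) (by decide), left_comm6 F h2 45 47 (by decide) (by decide),
    left_comm6 F h2 40 47 (by decide) (by decide), left_comm6 F h2 44 47 (by decide) (by decide),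
    left_comm6 F h2 46 47 (by decide) (by decide), xGL_mul]

omit h2 in
theorem W6_zero : W6 F 0 0 0 0 0 0 = 1 := by
  unfold W6
  simp only [xGL_zero, mul_one]

/-- normal form of a word in `Q` -/
theorem wordGL_six : ∀ (w : List (ℕ × F)), (∀ e ∈ w, e.1 ∈ six ∨ e.2 = 0) →
    wordGL chevF4 mem_F4 F w =
      W6 F (coefAt w 39) (coefAt w 45) (coefAt w 40) (coefAt w 44) (coefAt w 46) (coefAt w 47)
  | [], _ => by
    simp only [coefAt_nil]
    rw [W6_zero]
    unfold wordGL
    simp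
  | e :: w, hw => by
    have ih := wordGL_six w (fun e' he' => hw e' (List.mem_cons_of_mem _ he'))
    rw [wordGL_cons, ih]
    obtain ⟨r, t⟩ := e
    rcases hw (r, t) List.mem_cons_self with h | h
    · unfold six at h
      simp only [List.mem_cons, List.not_mem_nil, or_false] at h
      rcases h with rfl | rfl | rfl | rfl | rfl | rfl
      · rw [ins39 F h2]; simp [coefAt_cons]
      · rw [ins45 F h2]; simp [coefAt_cons]
      · rw [ins40 F h2]; simp [coefAt_cons]
      · rw [ins44 F h2]; simp [coefAt_cons]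
      · rw [ins46 F h2]; simp [coefAt_cons]
      · rw [ins47 F h2]; simp [coefAt_cons]
    · have h' : t = 0 := h
      subst h'
      simp only [xGL_zero, one_mul, coefAt_cons, ite_self, zero_add]

/-- conjugating a generator of `Q` by a positive root element -/
theorem conj_X_six (q s : ℕ) (hq : q < 48) (hs : s ∈ six) (h : conjOKB q s = true) (u t : F) :
    ∃ w : List (ℕ × F), (∀ e ∈ w, e.1 ∈ [40, 44, 46, 47] ∨ e.2 = 0) ∧
      X q u * X s t * (X q u)⁻¹ = X s t * wordGL chevF4 mem_F4 F w := by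
  unfold conjOKB at h
  simp only [Bool.or_eq_true, Bool.and_eq_true, beq_iff_eq, bne_iff_ne, List.all_eq_true,
    decide_eq_true_eq, List.contains_iff_mem] at h
  by_cases hqs : q = s
  · subst hqs
    refine ⟨[], by simp, ?_⟩
    have e1 : X q u * X q t = X q t * X q u := by rw [xGL_mul, xGL_mul, add_comm]
    rw [e1, mul_assoc, mul_inv_cancel]
    simp [wordGL]
  · rcases h with h | ⟨hsn, h⟩
    · exact absurd h hqs
    · refine ⟨chevF4.commWord F q s (-u) t, ?_,
        xGL_conj_xGL chevF4 mem_F4 F q s hq (six_lt s hs) (Ne.symm hqs) hsn u t⟩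
      intro e he
      unfold ChevalleyDatum.commWord at he
      rw [List.mem_map] at he
      obtain ⟨c, hc, rfl⟩ := he
      rcases h c hc with hdvd | hmem
      · right
        obtain ⟨k, hk⟩ := hdvd
        have h2' : ((2 : ℤ) : F) = 0 := by exact_mod_cast h2
        show ((c.2.1 : ℤ) : F) * _ * _ = 0
        rw [hk, Int.cast_mul, h2', zero_mul, zero_mul, zero_mul]
      · left; exact hmem

omit h2 in
theorem conj6 (g a b c d e f : GL chevF4.Idx F) : g * (a * (b * (c * (d * (e * f))))) * g⁻¹ =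
    (g * a * g⁻¹) * ((g * b * g⁻¹) * ((g * c * g⁻¹) * ((g * d * g⁻¹) * ((g * e * g⁻¹) * (g * f * g⁻¹))))) := by
  group

omit h2 in
theorem coefAt_tail_zero (w : List (ℕ × F)) (hw : ∀ e ∈ w, e.1 ∈ [40, 44, 46, 47] ∨ e.2 = 0) :
    coefAt w 39 = 0 ∧ coefAt w 45 = 0 := by
  constructor
  · apply coefAt_eq_zero
    intro e he
    rcases hw e he with h | h
    · left
      simp only [List.mem_cons, List.not_mem_nil, or_false] at h
      rcases h with h | h | h | h <;> rw [h] <;> decide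
    · right; exact h
  · apply coefAt_eq_zero
    intro e he
    rcases hw e he with h | h
    · left
      simp only [List.mem_cons, List.not_mem_nil, or_false] at h
      rcases h with h | h | h | h <;> rw [h] <;> decide
    · right; exact h

/-- a positive root element acts on `Q` trivially modulo `⟨X_40, X_44, X_46, X_47⟩` -/
theorem conj_X_W6 (q : ℕ) (hq : chevF4.IsPosRoot q) (u c d a1 a2 a3 a4 : F) :
    ∃ a1' a2' a3' a4' : F, X q u * W6 F c d a1 a2 a3 a4 * (X q u)⁻¹ = W6 F c d a1' a2' a3' a4' := by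
  have htab := conj_tab
  simp only [List.all_eq_true, List.mem_range, Bool.or_eq_true, Bool.not_eq_true',
    decide_eq_false_iff_not] at htab
  have hq48 : q < 48 := hq.1
  have hT : ∀ s ∈ six, conjOKB q s = true := by
    rcases htab q hq48 with h | h
    · exact absurd hq h
    · exact h
  obtain ⟨w1, hw1, e1⟩ := conj_X_six F h2 q 39 hq48 (by decide) (hT 39 (by decide)) u c
  obtain ⟨w2, hw2, e2⟩ := conj_X_six F h2 q 45 hq48 (by decide) (hT 45 (by decide)) u d
  obtain ⟨w3, hw3, e3⟩ := conj_X_six F h2 q 40 hq48 (by decide) (hT 40 (by decide)) u a1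
  obtain ⟨w4, hw4, e4⟩ := conj_X_six F h2 q 44 hq48 (by decide) (hT 44 (by decide)) u a2
  obtain ⟨w5, hw5, e5⟩ := conj_X_six F h2 q 46 hq48 (by decide) (hT 46 (by decide)) u a3
  obtain ⟨w6, hw6, e6⟩ := conj_X_six F h2 q 47 hq48 (by decide) (hT 47 (by decide)) u a4
  obtain ⟨big, hbigdef⟩ : ∃ big : List (ℕ × F), big = ((39, c) :: w1) ++ (((45, d) :: w2) ++
      (((40, a1) :: w3) ++ (((44, a2) :: w4) ++ (((46, a3) :: w5) ++ ((47, a4) :: w6))))) := ⟨_, rfl⟩
  have hbig : X q u * W6 F c d a1 a2 a3 a4 * (X q u)⁻¹ = wordGL chevF4 mem_F4 F big := by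
    unfold W6
    rw [conj6, e1, e2, e3, e4, e5, e6, hbigdef]
    simp only [wordGL_append, wordGL_cons, mul_assoc]
  have hsub : ∀ w : List (ℕ × F), (∀ e ∈ w, e.1 ∈ [40, 44, 46, 47] ∨ e.2 = 0) →
      ∀ e ∈ w, e.1 ∈ six ∨ e.2 = 0 := by
    intro w hw e he
    rcases hw e he with h | h
    · left
      unfold six
      simp only [List.mem_cons, List.not_mem_nil, or_false] at h ⊢
      rcases h with h | h | h | h <;> rw [h] <;> simp
    · right; exact h
  have hmem : ∀ e ∈ big, e.1 ∈ six ∨ e.2 = 0 := by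
    intro e he
    rw [hbigdef] at he
    simp only [List.mem_append, List.mem_cons] at he
    rcases he with (rfl | he) | (rfl | he) | (rfl | he) | (rfl | he) | (rfl | he) | (rfl | he)
    · exact Or.inl (by decide : (39 : ℕ) ∈ six)
    · exact hsub w1 hw1 e he
    · exact Or.inl (by decide : (45 : ℕ) ∈ six)
    · exact hsub w2 hw2 e he
    · exact Or.inl (by decide : (40 : ℕ) ∈ six)
    · exact hsub w3 hw3 e he
    · exact Or.inl (by decide : (44 : ℕ) ∈ six)
    · exact hsub w4 hw4 e he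
    · exact Or.inl (by decide : (46 : ℕ) ∈ six)
    · exact hsub w5 hw5 e he
    · exact Or.inl (by decide : (47 : ℕ) ∈ six)
    · exact hsub w6 hw6 e he
  have e39 : coefAt big 39 = c := by
    rw [hbigdef]
    simp only [coefAt_append, coefAt_cons, (coefAt_tail_zero F w1 hw1).1, (coefAt_tail_zero F w2 hw2).1,
      (coefAt_tail_zero F w3 hw3).1, (coefAt_tail_zero F w4 hw4).1, (coefAt_tail_zero F w5 hw5).1,
      (coefAt_tail_zero F w6 hw6).1]
    simp
  have e45 : coefAt big 45 = d := by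
    rw [hbigdef]
    simp only [coefAt_append, coefAt_cons, (coefAt_tail_zero F w1 hw1).2, (coefAt_tail_zero F w2 hw2).2,
      (coefAt_tail_zero F w3 hw3).2, (coefAt_tail_zero F w4 hw4).2, (coefAt_tail_zero F w5 hw5).2,
      (coefAt_tail_zero F w6 hw6).2]
    simp
  refine ⟨coefAt big 40, coefAt big 44, coefAt big 46, coefAt big 47, ?_⟩
  rw [hbig, wordGL_six F h2 big hmem, e39, e45]

/-- `U` acts on `Q` trivially modulo `⟨X_40, X_44, X_46, X_47⟩` -/
theorem conj_U_W6 (y : GL chevF4.Idx F) (hy : y ∈ chevF4.posUnipotent F) :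
    ∀ c d a1 a2 a3 a4 : F, ∃ a1' a2' a3' a4' : F,
      y * W6 F c d a1 a2 a3 a4 * y⁻¹ = W6 F c d a1' a2' a3' a4' := by
  unfold ChevalleyDatum.posUnipotent at hy
  induction hy using Subgroup.closure_induction'' with
  | mem x hx =>
    obtain ⟨r, t, hr, hxm⟩ := hx
    have : x = X r t := Units.ext (by rw [hxm, coe_xGL])
    rw [this]
    exact conj_X_W6 F h2 r hr t
  | inv_mem x hx =>
    obtain ⟨r, t, hr, hxm⟩ := hx
    have : x = X r t := Units.ext (by rw [hxm, coe_xGL])
    rw [this, xGL_inv]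
    exact conj_X_W6 F h2 r hr (-t)
  | one =>
    intro c d a1 a2 a3 a4
    exact ⟨a1, a2, a3, a4, by simp⟩
  | mul x y hx hy ihx ihy =>
    intro c d a1 a2 a3 a4
    obtain ⟨b1, b2, b3, b4, e⟩ := ihy c d a1 a2 a3 a4
    obtain ⟨c1, c2, c3, c4, e'⟩ := ihx c d b1 b2 b3 b4
    refine ⟨c1, c2, c3, c4, ?_⟩
    rw [← e', ← e]
    group

omit h2 in
/-- the diagonal subgroup acts on `Q` by characters -/
theorem conj_T_W6 (h : GL chevF4.Idx F) (χ : ℕ → F) (hχ : ChainChar chevF4 F χ)
    (hh : (h : Matrix chevF4.Idx chevF4.Idx F) = diagChar chevF4 F χ) (c d a1 a2 a3 a4 : F) :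
    h * W6 F c d a1 a2 a3 a4 * h⁻¹ =
      W6 F (χ 39 * c) (χ 45 * d) (χ 40 * a1) (χ 44 * a2) (χ 46 * a3) (χ 47 * a4) := by
  have e : ∀ (s : ℕ) (t : F), h * X s t * h⁻¹ = X s (χ s * t) := by
    intro s t
    rw [diagGL_xGL_comm chevF4 mem_F4 F h χ hχ hh s t]
    group
  unfold W6
  rw [conj6, e, e, e, e, e, e]

/-- the conjugates of `x_39(1) x_45(1)` under the Borel subgroup -/
theorem conj_B_v (b : GL chevF4.Idx F) (hb : b ∈ chevF4.borelSubgroup F) :
    ∃ c d a1 a2 a3 a4 : F, c ≠ 0 ∧ d ≠ 0 ∧ b * W6 F 1 1 0 0 0 0 * b⁻¹ = W6 F c d a1 a2 a3 a4 := by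
  have hb' : b ∈ ((chevF4.borelSubgroup F : Subgroup (GL chevF4.Idx F)) : Set (GL chevF4.Idx F)) := hb
  rw [borel_eq_mul chevF4 mem_F4 F] at hb'
  obtain ⟨h, hh, y, hy, rfl⟩ := Set.mem_mul.mp hb'
  obtain ⟨χ, hχ, hhm⟩ := mem_diagonalSubgroup_char chevF4 mem_F4 F h hh
  obtain ⟨a1, a2, a3, a4, e⟩ := conj_U_W6 F h2 y hy 1 1 0 0 0 0
  refine ⟨χ 39 * 1, χ 45 * 1, χ 40 * a1, χ 44 * a2, χ 46 * a3, χ 47 * a4, ?_, ?_, ?_⟩
  · simpa using hχ.ne0 39 (by decide)
  · simpa using hχ.ne0 45 (by decide)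
  · rw [← conj_T_W6 F h χ hχ hhm, ← e]
    group

end

end Cfsg.Agent.Lib.Helper25.F4Mix
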