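import Cfsg.Agent.Lib.Helper7.ChevCanon2
import Cfsg.Agent.Lib.Helper7.ChevTwistRank1
import Cfsg.Agent.Lib.Helper7.ChevTwist2
import Cfsg.Agent.Lib.Helper7.ChevPar
import Cfsg.Agent.Lib.Helper25.F4Mix2

/-! Type `F₄` in characteristic two: the centraliser of `x_39(1) x_45(1)` lies in the parabolic subgroup
`P_{1,4}` (helper25). -/

set_option autoImplicit false
set_option maxRecDepth 1000000

namespace Cfsg.Agent.Lib.Helper25.F4Mix

open Cfsg Cfsg.Lie Matrix
open Cfsg.Agent.Lib.Helper7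
open Cfsg.Agent.Lib.Helper25.HRow

theorem six_pair_tab : six.Pairwise (fun r r' => rfB r' (chevF4.negIdx.getD r 0) = true) := by
  decide +kernel

theorem coefAt_map {F : Type*} [Field F] (w : List (ℕ × F)) (f : ℕ → ℕ) (g : ℕ → F) (r : ℕ)
    (hinj : ∀ e ∈ w, f e.1 = f r → e.1 = r) :
    coefAt (w.map fun e => (f e.1, g e.1 * e.2)) (f r) = g r * coefAt w r := by
  induction w with
  | nil => simp [coefAt_nil]
  | cons e w ih =>
    rw [List.map_cons, coefAt_cons, coefAt_cons, ih (fun e' he' => hinj e' (List.mem_cons_of_mem _ he')),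
      mul_add]
    congr 1
    by_cases h : e.1 = r
    · rw [if_pos h, if_pos (by rw [h]), h]
    · rw [if_neg h, if_neg (fun h' => h (hinj e List.mem_cons_self h')), mul_zero]

section
variable (F : Type*) [Field F]

local notation "X" => xGL chevF4 mem_F4 F

theorem nonInt_of_roots (w : List (ℕ × F))
    (h : (w.map Prod.fst).Pairwise (fun r r' => rfB r' (chevF4.negIdx.getD r 0) = true)) :
    NonInt chevF4 F w := by
  unfold NonInt
  rw [List.pairwise_map] at h
  exact h.imp (fun hab => rfB_spec _ _ hab)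

/-- the key step: an element of `N` conjugating an element `x_39(c) x_45(d) ⋯` of `Q` to another one
sends `39` and `45` into the six roots -/
theorem key_perm (n : GL chevF4.Idx F) (L : List ℕ) (hL : ∀ i ∈ L, i < 4)
    (hact : ActsAs chevF4 mem_F4 F n (reflWord chevF4 L))
    (c d a1 a2 a3 a4 c' d' b1 b2 b3 b4 : F) (hc : c ≠ 0) (hd : d ≠ 0)
    (h : n * W6 F c d a1 a2 a3 a4 * n⁻¹ = W6 F c' d' b1 b2 b3 b4) :
    reflWord chevF4 L 39 ∈ six ∧ reflWord chevF4 L 45 ∈ six := by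
  obtain ⟨cc, hcc, hconj⟩ := conj_actsAs_wordGL chevF4 mem_F4 F n _ hact
  obtain ⟨w1, hw1⟩ : ∃ w1 : List (ℕ × F), w1 = [(39, c), (45, d), (40, a1), (44, a2), (46, a3), (47, a4)] :=
    ⟨_, rfl⟩
  obtain ⟨w2, hw2⟩ : ∃ w2 : List (ℕ × F),
      w2 = [(39, c'), (45, d'), (40, b1), (44, b2), (46, b3), (47, b4)] := ⟨_, rfl⟩
  have hr1 : w1.map Prod.fst = six := by rw [hw1]; rfl
  have hr2 : w2.map Prod.fst = six := by rw [hw2]; rfl
  have hlt1 : ∀ e ∈ w1, e.1 < chevF4.nroots := by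
    intro e he
    have : e.1 ∈ w1.map Prod.fst := List.mem_map.mpr ⟨e, he, rfl⟩
    rw [hr1] at this
    exact six_lt _ this
  have hlt2 : ∀ e ∈ w2, e.1 < chevF4.nroots := by
    intro e he
    have : e.1 ∈ w2.map Prod.fst := List.mem_map.mpr ⟨e, he, rfl⟩
    rw [hr2] at this
    exact six_lt _ this
  rw [W6_eq_word, W6_eq_word, ← hw1, ← hw2, hconj w1 hlt1] at h
  have hlt1' : ∀ e ∈ w1.map (fun e => (reflWord chevF4 L e.1, cc e.1 * e.2)), e.1 < chevF4.nroots := by
    intro e he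
    rw [List.mem_map] at he
    obtain ⟨e', he', rfl⟩ := he
    exact reflWord_lt' chevF4 mem_F4 L hL _ (hlt1 e' he')
  have hni2 : NonInt chevF4 F w2 := by
    apply nonInt_of_roots
    rw [hr2]
    exact six_pair_tab
  have hni1 : NonInt chevF4 F (w1.map (fun e => (reflWord chevF4 L e.1, cc e.1 * e.2))) := by
    apply nonInt_of_roots
    rw [List.map_map]
    have : (Prod.fst ∘ fun e : ℕ × F => (reflWord chevF4 L e.1, cc e.1 * e.2)) =
        (reflWord chevF4 L) ∘ Prod.fst := by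
      funext e; rfl
    rw [this, ← List.map_map, hr1, List.pairwise_map]
    apply six_pair_tab.imp_of_mem
    intro r r' hr hr' hrr
    have h1 := rfB_reflWord L hL r' (chevF4.negIdx.getD r 0) (six_lt _ hr')
      ((negOK_of_mem chevF4 mem_F4 r (six_lt _ hr)).1) hrr
    have h2 := reflWord_neg chevF4 mem_F4 L hL r (six_lt _ hr)
    have h3 : chevF4.neg r = chevF4.negIdx.getD r 0 := rfl
    have h4 : chevF4.neg (reflWord chevF4 L r) = chevF4.negIdx.getD (reflWord chevF4 L r) 0 := rfl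
    rw [← h3, h2, h4] at h1
    exact h1
  have hco := coefAt_eq_of_wordGL_eq chevF4 mem_F4 F _ _ hlt1' hlt2 hni1 hni2 h
  have hinj : ∀ r ∈ six, ∀ e ∈ w1, reflWord chevF4 L e.1 = reflWord chevF4 L r → e.1 = r := by
    intro r hr e he hee
    exact reflWord_inj L hL _ _ (hlt1 e he) (six_lt _ hr) hee
  have hmem : ∀ r ∈ six, coefAt w1 r ≠ 0 → reflWord chevF4 L r ∈ six := by
    intro r hr hne
    have h1 := hco (reflWord chevF4 L r) (reflWord_lt' chevF4 mem_F4 L hL _ (six_lt _ hr))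
    rw [coefAt_map w1 (reflWord chevF4 L) cc r (hinj r hr)] at h1
    have h2 : coefAt w2 (reflWord chevF4 L r) ≠ 0 := by
      rw [← h1]
      exact mul_ne_zero (hcc r (six_lt _ hr)) hne
    have h3 := mem_of_coefAt_ne_zero w2 _ h2
    rwa [hr2] at h3
  constructor
  · apply hmem 39 (by decide)
    rw [hw1]
    simpa [coefAt_cons, coefAt_nil] using hc
  · apply hmem 45 (by decide)
    rw [hw1]
    simpa [coefAt_cons, coefAt_nil] using hd

/-- an element of `N` acting on the roots as an element of `⟨w_{p₁}, w_{p₄}⟩` lies in `P_{1,4}` -/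
theorem mem_parabolic_of_acts (n : GL chevF4.Idx F) (hn : n ∈ chevF4.monomialSubgroup F) (L : List ℕ)
    (hact : ActsAs chevF4 mem_F4 F n (reflWord chevF4 L)) (M : List ℕ)
    (hM : M ∈ [[], [0], [3], [0, 3]]) (hp : ∀ s < 48, reflWord chevF4 L s = reflWord chevF4 M s) :
    n ∈ chevF4.parabolicSubgroup F {0, 3} := by
  have hM4 : ∀ i ∈ M, i < chevF4.rank ∧ i ∈ ({0, 3} : Set ℕ) := by
    simp only [List.mem_cons, List.not_mem_nil, or_false] at hM
    rcases hM with rfl | rfl | rfl | rfl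
    · intro i hi; simp at hi
    · intro i hi
      simp only [List.mem_cons, List.not_mem_nil, or_false] at hi
      subst hi
      exact ⟨by decide, by simp⟩
    · intro i hi
      simp only [List.mem_cons, List.not_mem_nil, or_false] at hi
      subst hi
      exact ⟨by decide, by simp⟩
    · intro i hi
      simp only [List.mem_cons, List.not_mem_nil, or_false] at hi
      rcases hi with rfl | rfl
      · exact ⟨by decide, by simp⟩
      · exact ⟨by decide, by simp⟩
  have hMr : ∀ i ∈ M, i < chevF4.rank := fun i hi => (hM4 i hi).1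
  obtain ⟨m, hmdef⟩ : ∃ m, m = nWordGL chevF4 mem_F4 F M := ⟨_, rfl⟩
  have hmN : m ∈ chevF4.monomialSubgroup F := by
    rw [hmdef]
    unfold nWordGL
    apply Subgroup.list_prod_mem
    intro x hx
    rw [List.mem_map] at hx
    obtain ⟨i, hi, rfl⟩ := hx
    exact nFund_mem_monomial chevF4 mem_F4 F i (hMr i hi)
  have hmP : m ∈ chevF4.parabolicSubgroup F {0, 3} := by
    rw [hmdef]
    unfold nWordGL
    apply Subgroup.list_prod_mem
    intro x hx
    rw [List.mem_map] at hx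
    obtain ⟨i, hi, rfl⟩ := hx
    exact nGL_mem_parabolic chevF4 mem_F4 F {0, 3} i (hM4 i hi).1 (hM4 i hi).2
  have h1 := ActsAs.mul chevF4 F hact (actsAs_nWordGL_inv chevF4 mem_F4 F M hMr)
  rw [← hmdef] at h1
  have hid : ∀ s < chevF4.nroots, (reflWord chevF4 L ∘ reflWord chevF4 M.reverse) s = s := by
    intro s hs
    have hMrev : ∀ i ∈ M.reverse, i < chevF4.rank := fun i hi => hMr i (List.mem_reverse.mp hi)
    show reflWord chevF4 L (reflWord chevF4 M.reverse s) = s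
    rw [hp _ (reflWord_lt' chevF4 mem_F4 M.reverse hMrev s hs)]
    exact reflWord_reverse_cancel chevF4 mem_F4 M hMr s hs
  have hT := mem_diagonal_of_actsAs_id chevF4 mem_F4 F (n * m⁻¹)
    (Subgroup.mul_mem _ hn (Subgroup.inv_mem _ hmN)) _ h1 hid
  have hTP : n * m⁻¹ ∈ chevF4.parabolicSubgroup F {0, 3} := by
    unfold ChevalleyDatum.parabolicSubgroup
    exact Subgroup.mem_sup_left (diagonal_le_borel chevF4 mem_F4 F hT)
  have : n = n * m⁻¹ * m := by group
  rw [this]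
  exact Subgroup.mul_mem _ hTP hmP

variable (h2 : ((2 : ℕ) : F) = 0)
include h2

/-- the centraliser of `x_39(1) x_45(1)` lies in `P_{1,4}` -/
theorem cent_le_parabolic (g : GL chevF4.Idx F) (hgG : g ∈ chevF4.group F)
    (hgv : g * W6 F 1 1 0 0 0 0 = W6 F 1 1 0 0 0 0 * g) : g ∈ chevF4.parabolicSubgroup F {0, 3} := by
  obtain ⟨b, hb, n, hn, u, hu, hgeq⟩ := canon_exists chevF4 mem_F4 F g hgG
  have huU := uMinus_le_posUnipotent chevF4 F n hu
  have huB := posUnipotent_le_borel chevF4 mem_F4 F huU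
  obtain ⟨L, hL, hact⟩ := exists_actsAs chevF4 mem_F4 F n hn
  have hL' : ∀ i ∈ L, i < 4 := hL
  obtain ⟨c1, d1, a1, a2, a3, a4, hc1, hd1, e1⟩ := conj_B_v F h2 u huB
  obtain ⟨c2, d2, b1, b2, b3, b4, hc2, hd2, e2⟩ := conj_B_v F h2 b⁻¹ (Subgroup.inv_mem _ hb)
  have keyeq : n * W6 F c1 d1 a1 a2 a3 a4 * n⁻¹ = W6 F c2 d2 b1 b2 b3 b4 := by
    rw [← e1, ← e2]
    have e3 : b * n * u * W6 F 1 1 0 0 0 0 = W6 F 1 1 0 0 0 0 * (b * n * u) := by rw [← hgeq]; exact hgv
    calc n * (u * W6 F 1 1 0 0 0 0 * u⁻¹) * n⁻¹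
        = b⁻¹ * (b * n * u * W6 F 1 1 0 0 0 0) * u⁻¹ * n⁻¹ := by group
      _ = b⁻¹ * (W6 F 1 1 0 0 0 0 * (b * n * u)) * u⁻¹ * n⁻¹ := by rw [e3]
      _ = b⁻¹ * W6 F 1 1 0 0 0 0 * b⁻¹⁻¹ := by group
  obtain ⟨h39, h45⟩ := key_perm F n L hL' hact _ _ _ _ _ _ _ _ _ _ _ _ hc1 hd1 keyeq
  obtain ⟨M, hM, hp⟩ := weylF4_pair L hL' h39 h45
  have hnP := mem_parabolic_of_acts F n hn L hact M hM hp
  have hBP : chevF4.borelSubgroup F ≤ chevF4.parabolicSubgroup F {0, 3} := by
    unfold ChevalleyDatum.parabolicSubgroup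
    exact le_sup_left
  rw [hgeq]
  exact Subgroup.mul_mem _ (Subgroup.mul_mem _ (hBP hb) hnP) (hBP huB)

end

end Cfsg.Agent.Lib.Helper25.F4Mix
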