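import Cfsg.Agent.Lib.Helper7.ChevLevi2
import Cfsg.Agent.Lib.Helper7.ChevOrdA
import Cfsg.Agent.Lib.Helper7.ChevOrdTab
import Cfsg.Agent.Lib.Helper25.F4Mix3

/-! Type `F₄` in characteristic two: the centraliser of `x_39(1) x_45(1)` (helper25). -/

set_option autoImplicit false
set_option maxRecDepth 1000000

namespace Cfsg.Agent.Lib.Helper25.F4Mix

open Cfsg Cfsg.Lie Matrix
open Cfsg.Agent.Lib.Helper7
open Cfsg.Agent.Lib.Helper25.HRow

/-- a functional ordering the positive roots with `p₁, p₄` first -/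
def A4 : ℕ → ℤ := linF chevF4 [2305, 4609, 6813, 3408]

/-- the positive roots outside the root subsystem `{±p₁, ±p₄}`, in increasing order -/
def lJ : List ℕ := [27, 34, 25, 26, 28, 35, 29, 36, 30, 37, 41, 31, 38, 42, 32, 39, 43, 40, 44, 45, 46, 47]

/-- the positive roots of level at least two -/
def l2 : List ℕ := [28, 35, 29, 36, 30, 37, 41, 31, 38, 42, 32, 39, 43, 40, 44, 45, 46, 47]

theorem A4_chainAdd : ChainAdd chevF4 A4 := chainAdd_linF chevF4 mem_F4 _

theorem A4_pos_aux : ∀ r < 48, chevF4.IsPosRoot r → 0 < A4 r := by decide +kernel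

theorem A4_posFacts : PosFacts chevF4 A4 :=
  ⟨fun r hr => A4_pos_aux r hr.1 hr, (ordFacts_of_ordOKB _ _ ordOKB_F4).prim⟩

theorem lJ_up_tab : (lJ.all fun r => (List.range 48).all fun s =>
    !decide (chevF4.IsPosRoot s) || !decide (A4 r < A4 s) || lJ.contains s) = true := by decide +kernel

theorem lJ_good : GoodLA chevF4 A4 lJ where
  sorted := by decide +kernel
  pos := by decide +kernel
  up := by
    intro r hr s hs hlt
    have h := lJ_up_tab
    simp only [List.all_eq_true, List.mem_range, Bool.or_eq_true, Bool.not_eq_true',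
      decide_eq_false_iff_not, List.contains_iff_mem] at h
    rcases h r hr s hs.1 with (h1 | h1) | h1
    · exact absurd hs h1
    · exact absurd hlt h1
    · exact h1

/-- the coroot of `r` has no component on `p₂`, `p₃` -/
def corB (r : ℕ) : Bool :=
  decide ((chevF4.coroot.getD r #[]).getD 1 0 = 0) && decide ((chevF4.coroot.getD r #[]).getD 2 0 = 0)

theorem levi_tab : ∀ r < 48, corB r = true → r ∈ [33, 14, 24, 23] := by decide +kernel

theorem uJ_tab : ∀ r < 48, chevF4.IsPosRoot r → r ∉ lJ → corB r = true := by decide +kernel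

theorem l2_tab : ∀ r ∈ l2, chevF4.IsPosRoot r ∧ r ∉ [27, 25, 34, 26] ∧ cmB 39 r = true ∧ cmB 45 r = true := by
  decide +kernel

theorem gen_tab : ∀ r < 48, (r ∈ [33, 14, 24, 23] ∨ (chevF4.IsPosRoot r ∧ r ∉ [27, 25, 34, 26])) →
    cmB 39 r = true ∧ cmB 45 r = true := by decide +kernel

theorem inRootSub_iff_corB (r : ℕ) : chevF4.InRootSub {0, 3} r ↔ r < 48 ∧ corB r = true := by
  unfold ChevalleyDatum.InRootSub corB
  constructor
  · rintro ⟨hr, h⟩
    refine ⟨hr, ?_⟩
    have h1 := h 1 (by decide) (by simp)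
    have h2 := h 2 (by decide) (by simp)
    rw [Bool.and_eq_true, decide_eq_true_eq, decide_eq_true_eq]
    exact ⟨h1, h2⟩
  · rintro ⟨hr, h⟩
    simp only [Bool.and_eq_true, decide_eq_true_eq] at h
    refine ⟨hr, ?_⟩
    intro i hi hiJ
    have hi4 : i < 4 := hi
    interval_cases i
    · exact absurd (by simp) hiJ
    · exact h.1
    · exact h.2
    · exact absurd (by simp) hiJ

theorem step_tab : chevF4.commTerms 26 45 = [(47, 1, 1, 1)] ∧ chevF4.commTerms 25 45 = [(46, 1, 1, 1)] ∧
    chevF4.commTerms 34 39 = [(44, 1, 1, 1)] ∧ chevF4.commTerms 27 39 = [(40, 1, 1, 1)] ∧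
    chevF4.neg 26 = 21 ∧ chevF4.neg 25 = 22 ∧ chevF4.neg 34 = 13 ∧ chevF4.neg 27 = 20 := by decide +kernel

theorem step_cm_tab : ([26, 25, 34, 27].all fun q => six.all fun s =>
    (q, s) ∈ [(26, 45), (25, 45), (34, 39), (27, 39)] || cmB s q) = true := by decide +kernel

theorem range_rank_F4' : List.range chevF4.rank = [0, 1, 2, 3] := by decide

theorem mem_six_of {F : Type*} (l : List ℕ) (hl : ∀ r ∈ l, r ∈ six) (w : List (ℕ × F))
    (hw : w.map Prod.fst = l) [Zero F] : ∀ e ∈ w, e.1 ∈ six ∨ e.2 = 0 := by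
  intro e he
  left
  apply hl
  rw [← hw]
  exact List.mem_map.mpr ⟨e, he, rfl⟩

section
variable (F : Type*) [Field F]

local notation "X" => xGL chevF4 mem_F4 F

/-- the subgroup claimed to be the centraliser of `x_39(1) x_45(1)` -/
def cent39 : Subgroup (GL chevF4.Idx F) :=
  chevF4.rootSubgroup F 33 ⊔ chevF4.rootSubgroup F 14 ⊔ chevF4.rootSubgroup F 24 ⊔ chevF4.rootSubgroup F 23 ⊔
    Subgroup.closure {g : GL chevF4.Idx F | ∃ (r : ℕ) (c : F), chevF4.IsPosRoot r ∧ r ∉ [27, 25, 34, 26] ∧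
      (g : Matrix chevF4.Idx chevF4.Idx F) = chevF4.x F r c}

theorem xGL_mem_rootSubgroup (r : ℕ) (t : F) : X r t ∈ chevF4.rootSubgroup F r :=
  Subgroup.subset_closure ⟨t, coe_xGL chevF4 mem_F4 F r t⟩

theorem xGL_mem_cent39 (r : ℕ) (hr : r ∈ [33, 14, 24, 23] ∨ (chevF4.IsPosRoot r ∧ r ∉ [27, 25, 34, 26]))
    (t : F) : X r t ∈ cent39 F := by
  unfold cent39
  rcases hr with hr | hr
  · simp only [List.mem_cons, List.not_mem_nil, or_false] at hr
    apply Subgroup.mem_sup_left
    rcases hr with rfl | rfl | rfl | rfl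
    · exact Subgroup.mem_sup_left (Subgroup.mem_sup_left (Subgroup.mem_sup_left (xGL_mem_rootSubgroup F _ t)))
    · exact Subgroup.mem_sup_left (Subgroup.mem_sup_left (Subgroup.mem_sup_right (xGL_mem_rootSubgroup F _ t)))
    · exact Subgroup.mem_sup_left (Subgroup.mem_sup_right (xGL_mem_rootSubgroup F _ t))
    · exact Subgroup.mem_sup_right (xGL_mem_rootSubgroup F _ t)
  · apply Subgroup.mem_sup_right
    apply Subgroup.subset_closure
    exact ⟨r, t, hr.1, hr.2, coe_xGL chevF4 mem_F4 F r t⟩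

theorem W6_cd (c d : F) : W6 F c d 0 0 0 0 = X 39 c * X 45 d := by
  unfold W6
  simp only [xGL_zero, mul_one]

theorem W6_inj (c d a1 a2 a3 a4 c' d' b1 b2 b3 b4 : F)
    (h : W6 F c d a1 a2 a3 a4 = W6 F c' d' b1 b2 b3 b4) :
    c = c' ∧ d = d' ∧ a1 = b1 ∧ a2 = b2 ∧ a3 = b3 ∧ a4 = b4 := by
  rw [W6_eq_word, W6_eq_word] at h
  have hlt : ∀ w : List (ℕ × F), w.map Prod.fst = six → ∀ e ∈ w, e.1 < chevF4.nroots := by
    intro w hw e he
    have : e.1 ∈ w.map Prod.fst := List.mem_map.mpr ⟨e, he, rfl⟩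
    rw [hw] at this
    exact six_lt _ this
  have hni : ∀ w : List (ℕ × F), w.map Prod.fst = six → NonInt chevF4 F w := by
    intro w hw
    apply nonInt_of_roots
    rw [hw]
    exact six_pair_tab
  have hco := coefAt_eq_of_wordGL_eq chevF4 mem_F4 F _ _ (hlt _ rfl) (hlt _ rfl) (hni _ rfl) (hni _ rfl) h
  refine ⟨?_, ?_, ?_, ?_, ?_, ?_⟩
  · simpa [coefAt_cons, coefAt_nil] using hco 39 (by decide)
  · simpa [coefAt_cons, coefAt_nil] using hco 45 (by decide)
  · simpa [coefAt_cons, coefAt_nil] using hco 40 (by decide)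
  · simpa [coefAt_cons, coefAt_nil] using hco 44 (by decide)
  · simpa [coefAt_cons, coefAt_nil] using hco 46 (by decide)
  · simpa [coefAt_cons, coefAt_nil] using hco 47 (by decide)

theorem conj_step (q s r' : ℕ) (hq : q < 48) (hs : s < 48) (hne : s ≠ q) (hnn : s ≠ chevF4.neg q)
    (hterm : chevF4.commTerms q s = [(r', 1, 1, 1)]) (u t : F) :
    X q u * X s t * (X q u)⁻¹ = X s t * X r' (u * t) := by
  rw [xGL_conj_xGL chevF4 mem_F4 F q s hq hs hne hnn u t]
  unfold ChevalleyDatum.commWord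
  rw [hterm]
  simp [wordGL]

/-- the diagonal subgroup normalises the root part of the Levi subgroup -/
theorem diag_le_normalizer_leviRoot : chevF4.diagonalSubgroup F ≤ Subgroup.normalizer
    ((Subgroup.closure {g : GL chevF4.Idx F | ∃ (r : ℕ) (t : F), chevF4.InRootSub {0, 3} r ∧
      (g : Matrix chevF4.Idx chevF4.Idx F) = chevF4.x F r t} : Subgroup (GL chevF4.Idx F)) :
        Set (GL chevF4.Idx F)) := by
  have key : ∀ h : GL chevF4.Idx F, h ∈ chevF4.diagonalSubgroup F →
      ∀ x ∈ {g : GL chevF4.Idx F | ∃ (r : ℕ) (t : F), chevF4.InRootSub {0, 3} r ∧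
        (g : Matrix chevF4.Idx chevF4.Idx F) = chevF4.x F r t},
      h * x * h⁻¹ ∈ Subgroup.closure {g : GL chevF4.Idx F | ∃ (r : ℕ) (t : F), chevF4.InRootSub {0, 3} r ∧
        (g : Matrix chevF4.Idx chevF4.Idx F) = chevF4.x F r t} := by
    intro h hh
    obtain ⟨χ, hχ, hhm⟩ := mem_diagonalSubgroup_char chevF4 mem_F4 F h hh
    rintro x ⟨r, t, hr, hxm⟩
    have hx : x = X r t := Units.ext (by rw [hxm, coe_xGL])
    have e : h * x * h⁻¹ = X r (χ r * t) := by
      rw [hx, diagGL_xGL_comm chevF4 mem_F4 F h χ hχ hhm r t]; group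
    rw [e]
    apply Subgroup.subset_closure
    exact ⟨r, χ r * t, hr, coe_xGL chevF4 mem_F4 F _ _⟩
  intro h hh
  apply mem_normalizer_closure
  · exact key h hh
  · exact key h⁻¹ (Subgroup.inv_mem _ hh)

variable (h2 : ((2 : ℕ) : F) = 0)
include h2

theorem comm_v (r : ℕ) (h39 : cmB 39 r = true) (h45 : cmB 45 r = true) (t c d : F) :
    X r t * (X 39 c * X 45 d) = X 39 c * X 45 d * X r t := by
  rw [← mul_assoc, comm_of_cmB F h2 39 r h39 c t, mul_assoc, comm_of_cmB F h2 45 r h45 d t, mul_assoc]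

theorem conj_comm_of_cmB (q s : ℕ) (h : cmB s q = true) (u t : F) : X q u * X s t * (X q u)⁻¹ = X s t := by
  rw [comm_of_cmB F h2 s q h t u]
  group

theorem step_cm (q s : ℕ) (hq : q ∈ [26, 25, 34, 27]) (hs : s ∈ six)
    (hne : (q, s) ∉ [(26, 45), (25, 45), (34, 39), (27, 39)]) (u t : F) :
    X q u * X s t * (X q u)⁻¹ = X s t := by
  apply conj_comm_of_cmB F h2
  have h := step_cm_tab
  simp only [List.all_eq_true, Bool.or_eq_true, decide_eq_true_eq] at h
  rcases h q hq s hs with h1 | h1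
  · exact absurd h1 hne
  · exact h1

theorem step26 (u c d a1 a2 a3 a4 : F) :
    X 26 u * W6 F c d a1 a2 a3 a4 * (X 26 u)⁻¹ = W6 F c d a1 a2 a3 (u * d + a4) := by
  have hw := wordGL_six F h2 [(39, c), (45, d), (47, u * d), (40, a1), (44, a2), (46, a3), (47, a4)]
    (mem_six_of [39, 45, 47, 40, 44, 46, 47] (by decide) _ rfl)
  unfold W6
  rw [conj6, step_cm F h2 26 39 (by decide) (by decide) (by decide),
    conj_step F 26 45 47 (by decide) (by decide) (by decide) (by rw [step_tab.2.2.2.2.1]; decide) step_tab.1,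
    step_cm F h2 26 40 (by decide) (by decide) (by decide),
    step_cm F h2 26 44 (by decide) (by decide) (by decide),
    step_cm F h2 26 46 (by decide) (by decide) (by decide),
    step_cm F h2 26 47 (by decide) (by decide) (by decide)]
  have e : X 39 c * (X 45 d * X 47 (u * d) * (X 40 a1 * (X 44 a2 * (X 46 a3 * X 47 a4)))) =
      wordGL chevF4 mem_F4 F [(39, c), (45, d), (47, u * d), (40, a1), (44, a2), (46, a3), (47, a4)] := by
    unfold wordGL
    simp [mul_assoc]
  rw [e, hw]
  unfold W6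
  simp [coefAt_cons, coefAt_nil]

theorem step25 (u c d a1 a2 a3 a4 : F) :
    X 25 u * W6 F c d a1 a2 a3 a4 * (X 25 u)⁻¹ = W6 F c d a1 a2 (u * d + a3) a4 := by
  have hw := wordGL_six F h2 [(39, c), (45, d), (46, u * d), (40, a1), (44, a2), (46, a3), (47, a4)]
    (mem_six_of [39, 45, 46, 40, 44, 46, 47] (by decide) _ rfl)
  unfold W6
  rw [conj6, step_cm F h2 25 39 (by decide) (by decide) (by decide),
    conj_step F 25 45 46 (by decide) (by decide) (by decide) (by rw [step_tab.2.2.2.2.2.1]; decide)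
      step_tab.2.1,
    step_cm F h2 25 40 (by decide) (by decide) (by decide),
    step_cm F h2 25 44 (by decide) (by decide) (by decide),
    step_cm F h2 25 46 (by decide) (by decide) (by decide),
    step_cm F h2 25 47 (by decide) (by decide) (by decide)]
  have e : X 39 c * (X 45 d * X 46 (u * d) * (X 40 a1 * (X 44 a2 * (X 46 a3 * X 47 a4)))) =
      wordGL chevF4 mem_F4 F [(39, c), (45, d), (46, u * d), (40, a1), (44, a2), (46, a3), (47, a4)] := by
    unfold wordGL
    simp [mul_assoc]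
  rw [e, hw]
  unfold W6
  simp [coefAt_cons, coefAt_nil]

theorem step34 (u c d a1 a2 a3 a4 : F) :
    X 34 u * W6 F c d a1 a2 a3 a4 * (X 34 u)⁻¹ = W6 F c d a1 (u * c + a2) a3 a4 := by
  have hw := wordGL_six F h2 [(39, c), (44, u * c), (45, d), (40, a1), (44, a2), (46, a3), (47, a4)]
    (mem_six_of [39, 44, 45, 40, 44, 46, 47] (by decide) _ rfl)
  unfold W6
  rw [conj6, conj_step F 34 39 44 (by decide) (by decide) (by decide) (by rw [step_tab.2.2.2.2.2.2.1]; decide)
      step_tab.2.2.1,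
    step_cm F h2 34 45 (by decide) (by decide) (by decide),
    step_cm F h2 34 40 (by decide) (by decide) (by decide),
    step_cm F h2 34 44 (by decide) (by decide) (by decide),
    step_cm F h2 34 46 (by decide) (by decide) (by decide),
    step_cm F h2 34 47 (by decide) (by decide) (by decide)]
  have e : X 39 c * X 44 (u * c) * (X 45 d * (X 40 a1 * (X 44 a2 * (X 46 a3 * X 47 a4)))) =
      wordGL chevF4 mem_F4 F [(39, c), (44, u * c), (45, d), (40, a1), (44, a2), (46, a3), (47, a4)] := by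
    unfold wordGL
    simp [mul_assoc]
  rw [e, hw]
  unfold W6
  simp [coefAt_cons, coefAt_nil]

theorem step27 (u c d a1 a2 a3 a4 : F) :
    X 27 u * W6 F c d a1 a2 a3 a4 * (X 27 u)⁻¹ = W6 F c d (u * c + a1) a2 a3 a4 := by
  have hw := wordGL_six F h2 [(39, c), (40, u * c), (45, d), (40, a1), (44, a2), (46, a3), (47, a4)]
    (mem_six_of [39, 40, 45, 40, 44, 46, 47] (by decide) _ rfl)
  unfold W6
  rw [conj6, conj_step F 27 39 40 (by decide) (by decide) (by decide) (by rw [step_tab.2.2.2.2.2.2.2]; decide)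
      step_tab.2.2.2.1,
    step_cm F h2 27 45 (by decide) (by decide) (by decide),
    step_cm F h2 27 40 (by decide) (by decide) (by decide),
    step_cm F h2 27 44 (by decide) (by decide) (by decide),
    step_cm F h2 27 46 (by decide) (by decide) (by decide),
    step_cm F h2 27 47 (by decide) (by decide) (by decide)]
  have e : X 39 c * X 40 (u * c) * (X 45 d * (X 40 a1 * (X 44 a2 * (X 46 a3 * X 47 a4)))) =
      wordGL chevF4 mem_F4 F [(39, c), (40, u * c), (45, d), (40, a1), (44, a2), (46, a3), (47, a4)] := by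
    unfold wordGL
    simp [mul_assoc]
  rw [e, hw]
  unfold W6
  simp [coefAt_cons, coefAt_nil]

/-- an ordered product of root elements commuting with `g` commutes with `g` -/
theorem ordProd_comm (l : List ℕ) (t : ℕ → F) (c d : F)
    (h : ∀ r ∈ l, cmB 39 r = true ∧ cmB 45 r = true) :
    ordProd chevF4 mem_F4 F l t * (X 39 c * X 45 d) = X 39 c * X 45 d * ordProd chevF4 mem_F4 F l t := by
  induction l with
  | nil => rw [ordProd_nil]; simp
  | cons r l ih =>
    rw [ordProd_cons, mul_assoc, ih (fun s hs => h s (List.mem_cons_of_mem _ hs)), ← mul_assoc,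
      comm_v F h2 r (h r List.mem_cons_self).1 (h r List.mem_cons_self).2, mul_assoc]

/-- the root part of the Levi subgroup lies in the centraliser -/
theorem leviRoot_le : Subgroup.closure {g : GL chevF4.Idx F | ∃ (r : ℕ) (t : F), chevF4.InRootSub {0, 3} r ∧
    (g : Matrix chevF4.Idx chevF4.Idx F) = chevF4.x F r t} ≤
      cent39 F ⊓ Subgroup.centralizer {X 39 1 * X 45 1} := by
  rw [Subgroup.closure_le]
  rintro g ⟨r, t, hr, hgm⟩
  have hg : g = X r t := Units.ext (by rw [hgm, coe_xGL])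
  rw [hg]
  have hr' := (inRootSub_iff_corB r).mp hr
  have hmem := levi_tab r hr'.1 hr'.2
  have hcm := gen_tab r hr'.1 (Or.inl hmem)
  show X r t ∈ cent39 F ⊓ Subgroup.centralizer {X 39 1 * X 45 1}
  rw [Subgroup.mem_inf, Subgroup.mem_centralizer_singleton_iff]
  exact ⟨xGL_mem_cent39 F r (Or.inl hmem) t, comm_v F h2 r hcm.1 hcm.2 t 1 1⟩

/-- the centraliser of `x_39(1) x_45(1)` -/
theorem centralizer_39_45 (v : GL chevF4.Idx F)
    (hv : (v : Matrix chevF4.Idx chevF4.Idx F) = chevF4.x F 39 1 * chevF4.x F 45 1) :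
    chevF4.group F ⊓ Subgroup.centralizer {v} = cent39 F := by
  have hv' : v = X 39 1 * X 45 1 := Units.ext (by rw [hv, Units.val_mul, coe_xGL, coe_xGL])
  have hvW : v = W6 F 1 1 0 0 0 0 := by rw [hv', W6_cd]
  apply le_antisymm
  · intro g hg
    rw [Subgroup.mem_inf, Subgroup.mem_centralizer_singleton_iff] at hg
    obtain ⟨hgG, hgv⟩ := hg
    have hgP := cent_le_parabolic F h2 g hgG (by rw [← hvW]; exact hgv)
    rw [← uJ_sup_levi chevF4 mem_F4 F {0, 3}] at hgP
    have hLN : chevF4.leviSubgroup F {0, 3} ≤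
        Subgroup.normalizer (chevF4.unipotentRadical F {0, 3} : Set (GL chevF4.Idx F)) := by
      refine le_trans ?_ (parabolic_le_normalizer_uJ chevF4 mem_F4 F coefW_F4 coefOKB_F4 {0, 3})
      rw [← uJ_sup_levi chevF4 mem_F4 F {0, 3}]
      exact le_sup_right
    have hgP' : g ∈ ((chevF4.unipotentRadical F {0, 3} ⊔ chevF4.leviSubgroup F {0, 3} :
        Subgroup (GL chevF4.Idx F)) : Set (GL chevF4.Idx F)) := hgP
    rw [Subgroup.coe_mul_of_right_le_normalizer_left _ _ hLN] at hgP'
    obtain ⟨y, hy, l, hl, hgeq⟩ := Set.mem_mul.mp hgP'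
    have hl' : l ∈ ((chevF4.diagonalSubgroup F ⊔ Subgroup.closure {g : GL chevF4.Idx F |
        ∃ (r : ℕ) (t : F), chevF4.InRootSub {0, 3} r ∧ (g : Matrix chevF4.Idx chevF4.Idx F) = chevF4.x F r t} :
        Subgroup (GL chevF4.Idx F)) : Set (GL chevF4.Idx F)) := hl
    rw [Subgroup.coe_mul_of_left_le_normalizer_right _ _ (diag_le_normalizer_leviRoot F)] at hl'
    obtain ⟨h, hh, k, hk, hleq⟩ := Set.mem_mul.mp hl'
    have hk' := leviRoot_le F h2 hk
    rw [Subgroup.mem_inf, Subgroup.mem_centralizer_singleton_iff] at hk'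
    obtain ⟨hkC, hkv⟩ := hk'
    rw [← hv'] at hkv
    -- `y h` centralises `v`
    have hyh : y * h * v = v * (y * h) := by
      have e1 : y * h * v * k = v * (y * h) * k := by
        calc y * h * v * k = y * h * (v * k) := by group
          _ = y * h * (k * v) := by rw [hkv]
          _ = (y * (h * k)) * v := by group
          _ = v * (y * (h * k)) := by rw [hleq, hgeq, hgv]
          _ = v * (y * h) * k := by group
      exact mul_right_cancel e1
    -- the ordered product decomposition of `y`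
    have hyL : y ∈ Subgroup.closure (gensL chevF4 F lJ) := by
      have hle : chevF4.unipotentRadical F {0, 3} ≤ Subgroup.closure (gensL chevF4 F lJ) := by
        unfold ChevalleyDatum.unipotentRadical
        apply Subgroup.closure_mono
        rintro x ⟨r, t, hr, hnr, hxm⟩
        refine ⟨r, ?_, t, hxm⟩
        by_contra hcon
        exact hnr ((inRootSub_iff_corB r).mpr ⟨hr.1, uJ_tab r hr.1 hr hcon⟩)
      exact hle hy
    obtain ⟨t, hyt⟩ := exists_ordProdA chevF4 mem_F4 F A4 A4_chainAdd A4_posFacts lJ lJ_good y hyL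
    have hlJ : lJ = 27 :: 34 :: 25 :: 26 :: l2 := rfl
    rw [hlJ, ordProd_cons, ordProd_cons, ordProd_cons, ordProd_cons] at hyt
    obtain ⟨u2, hu2⟩ : ∃ u2, u2 = ordProd chevF4 mem_F4 F l2 t := ⟨_, rfl⟩
    rw [← hu2] at hyt
    -- the diagonal part
    obtain ⟨cf, hcf, hhm⟩ := mem_diagonalSubgroup_prodChar chevF4 mem_F4 F h hh
    have hχ := chainChar_prodChar chevF4 mem_F4 F (List.range chevF4.rank)
      (fun i hi => List.mem_range.mp hi) cf hcf
    obtain ⟨χ, hχdef⟩ : ∃ χ, χ = prodChar chevF4 F (List.range chevF4.rank) cf := ⟨_, rfl⟩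
    rw [← hχdef] at hχ hhm
    have hconj : y * h * W6 F 1 1 0 0 0 0 * (y * h)⁻¹ = W6 F 1 1 0 0 0 0 := by
      rw [← hvW, hyh]; group
    have e1 : h * W6 F 1 1 0 0 0 0 * h⁻¹ = W6 F (χ 39) (χ 45) 0 0 0 0 := by
      rw [conj_T_W6 F h χ hχ hhm]
      simp only [mul_one, mul_zero]
    have e2 : u2 * W6 F (χ 39) (χ 45) 0 0 0 0 * u2⁻¹ = W6 F (χ 39) (χ 45) 0 0 0 0 := by
      rw [W6_cd, hu2, ordProd_comm F h2 l2 t _ _ (fun r hr => (l2_tab r hr).2.2)]
      group
    have e3 : y * h * W6 F 1 1 0 0 0 0 * (y * h)⁻¹ = W6 F (χ 39) (χ 45) (t 27 * χ 39 + 0) (t 34 * χ 39 + 0)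
        (t 25 * χ 45 + 0) (t 26 * χ 45 + 0) := by
      have e4 : y * h * W6 F 1 1 0 0 0 0 * (y * h)⁻¹ = X 27 (t 27) * (X 34 (t 34) * (X 25 (t 25) *
          (X 26 (t 26) * (u2 * (h * W6 F 1 1 0 0 0 0 * h⁻¹) * u2⁻¹) * (X 26 (t 26))⁻¹) * (X 25 (t 25))⁻¹) *
            (X 34 (t 34))⁻¹) * (X 27 (t 27))⁻¹ := by
        rw [hyt]; group
      rw [e4, e1, e2, step26 F h2, step25 F h2, step34 F h2, step27 F h2]
    rw [hconj] at e3
    obtain ⟨hc39, hc45, ht27, ht34, ht25, ht26⟩ := W6_inj F _ _ _ _ _ _ _ _ _ _ _ _ e3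
    have ht27' : t 27 = 0 := by rw [← hc39] at ht27; simpa using ht27.symm
    have ht34' : t 34 = 0 := by rw [← hc39] at ht34; simpa using ht34.symm
    have ht25' : t 25 = 0 := by rw [← hc45] at ht25; simpa using ht25.symm
    have ht26' : t 26 = 0 := by rw [← hc45] at ht26; simpa using ht26.symm
    have hyu : y = u2 := by
      rw [hyt, ht27', ht34', ht25', ht26']
      simp only [xGL_zero, one_mul]
    -- `u2` lies in the target
    have hu2C : u2 ∈ cent39 F := by
      rw [hu2]
      unfold ordProd wordGL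
      apply Subgroup.list_prod_mem
      intro x hx
      simp only [List.map_map, List.mem_map, Function.comp] at hx
      obtain ⟨r, hr, rfl⟩ := hx
      exact xGL_mem_cent39 F r (Or.inr ⟨(l2_tab r hr).1, (l2_tab r hr).2.1⟩) _
    -- the diagonal part lies in the target
    have hc1 : cf 1 = 1 ∧ cf 2 = 1 := by
      have h39 : χ 39 = 1 := hc39.symm
      have h45 : χ 45 = 1 := hc45.symm
      rw [hχdef] at h39 h45
      unfold prodChar at h39 h45
      rw [range_rank_F4'] at h39 h45
      have hcar : chevF4.cartan 0 39 = 0 ∧ chevF4.cartan 1 39 = -1 ∧ chevF4.cartan 2 39 = 1 ∧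
          chevF4.cartan 3 39 = 0 ∧ chevF4.cartan 0 45 = 0 ∧ chevF4.cartan 1 45 = 2 ∧
          chevF4.cartan 2 45 = -1 ∧ chevF4.cartan 3 45 = 0 := by decide
      simp only [List.map_cons, List.map_nil, List.prod_cons, List.prod_nil, hcar.1, hcar.2.1, hcar.2.2.1,
        hcar.2.2.2.1, hcar.2.2.2.2.1, hcar.2.2.2.2.2.1, hcar.2.2.2.2.2.2.1, hcar.2.2.2.2.2.2.2, zpow_zero,
        one_mul, mul_one, _root_.zpow_neg, zpow_one, zpow_two] at h39 h45
      have hne1 : cf 1 ≠ 0 := hcf 1
      have hne2 : cf 2 ≠ 0 := hcf 2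
      have e12 : cf 2 = cf 1 := ((inv_mul_eq_one₀ hne1).mp h39).symm
      have e11 : cf 1 = 1 := by
        have h3 := (mul_inv_eq_one₀ hne2).mp h45
        rw [e12] at h3
        have : cf 1 * cf 1 = cf 1 * 1 := by rw [mul_one]; exact h3
        exact mul_left_cancel₀ hne1 this
      exact ⟨e11, by rw [e12, e11]⟩
    have hhC : h ∈ cent39 F := by
      have hh' : h = wordGL chevF4 mem_F4 F
          ((List.range chevF4.rank).flatMap fun i => chevF4.hWord (chevF4.simple i) (cf i)) := by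
        apply Units.ext
        rw [coe_wordGL, hhm, hχdef, wordMat_flatMap_hWord chevF4 mem_F4 F cf _
          (fun i hi => ⟨List.mem_range.mp hi, hcf i⟩)]
      rw [hh', range_rank_F4']
      have : ([0, 1, 2, 3] : List ℕ).flatMap (fun i => chevF4.hWord (chevF4.simple i) (cf i)) =
          chevF4.hWord (chevF4.simple 0) (cf 0) ++ (chevF4.hWord (chevF4.simple 1) (cf 1) ++
            (chevF4.hWord (chevF4.simple 2) (cf 2) ++ chevF4.hWord (chevF4.simple 3) (cf 3))) := by
        simp
      rw [this, wordGL_append, wordGL_append, wordGL_append, hc1.1, hc1.2, hGL_one, hGL_one, one_mul, one_mul]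
      have hmem : ∀ i, i = 0 ∨ i = 3 →
          wordGL chevF4 mem_F4 F (chevF4.hWord (chevF4.simple i) (cf i)) ∈ cent39 F := by
        intro i hi
        unfold wordGL
        apply Subgroup.list_prod_mem
        intro x hx
        rw [List.mem_map] at hx
        obtain ⟨e, he, rfl⟩ := hx
        apply xGL_mem_cent39
        left
        have hsn : chevF4.simple 0 = 33 ∧ chevF4.neg 33 = 14 ∧ chevF4.simple 3 = 24 ∧ chevF4.neg 24 = 23 := by
          decide
        unfold ChevalleyDatum.hWord ChevalleyDatum.nWord at he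
        simp only [List.cons_append, List.nil_append, List.mem_cons, List.not_mem_nil, or_false] at he
        rcases hi with rfl | rfl
        · rw [hsn.1, hsn.2.1] at he
          rcases he with rfl | rfl | rfl | rfl | rfl | rfl <;> simp
        · rw [hsn.2.2.1, hsn.2.2.2] at he
          rcases he with rfl | rfl | rfl | rfl | rfl | rfl <;> simp
      exact Subgroup.mul_mem _ (hmem 0 (Or.inl rfl)) (hmem 3 (Or.inr rfl))
    rw [← hgeq, ← hleq, hyu]
    exact Subgroup.mul_mem _ hu2C (Subgroup.mul_mem _ hhC hkC)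
  · -- the generators centralise `v`
    have hle : cent39 F ≤ chevF4.group F ⊓ Subgroup.centralizer {v} := by
      have hgen : ∀ (r : ℕ) (t : F), (r ∈ [33, 14, 24, 23] ∨ (chevF4.IsPosRoot r ∧ r ∉ [27, 25, 34, 26])) →
          X r t ∈ chevF4.group F ⊓ Subgroup.centralizer {v} := by
        intro r t hr
        have hr48 : r < 48 := by
          rcases hr with hr | hr
          · simp only [List.mem_cons, List.not_mem_nil, or_false] at hr
            rcases hr with rfl | rfl | rfl | rfl <;> decide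
          · exact hr.1.1
        have hcm := gen_tab r hr48 hr
        rw [Subgroup.mem_inf, Subgroup.mem_centralizer_singleton_iff, hv']
        exact ⟨xGL_mem_group chevF4 mem_F4 F r t, comm_v F h2 r hcm.1 hcm.2 t 1 1⟩
      have hroot : ∀ r ∈ [33, 14, 24, 23], chevF4.rootSubgroup F r ≤
          chevF4.group F ⊓ Subgroup.centralizer {v} := by
        intro r hr
        unfold ChevalleyDatum.rootSubgroup
        rw [Subgroup.closure_le]
        rintro g ⟨t, hgm⟩
        have hg : g = X r t := Units.ext (by rw [hgm, coe_xGL])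
        rw [hg]
        exact hgen r t (Or.inl hr)
      unfold cent39
      refine sup_le (sup_le (sup_le (sup_le (hroot 33 (by simp)) (hroot 14 (by simp))) (hroot 24 (by simp)))
        (hroot 23 (by simp))) ?_
      rw [Subgroup.closure_le]
      rintro g ⟨r, t, hr, hnr, hgm⟩
      have hg : g = X r t := Units.ext (by rw [hgm, coe_xGL])
      rw [hg]
      exact hgen r t (Or.inr ⟨hr, hnr⟩)
    exact hle

end

end Cfsg.Agent.Lib.Helper25.F4Mix
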