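import Mathlib
import Cfsg.Agent.Lib.Helper25.YoshidaLocal

/-!
The global part of Yoshida's transfer theorem (helper25): if a Sylow `p`-subgroup `S` of `G` has no
quotient `Z_p ≀ Z_p`, then `S ∩ G' ≤ N_G(S)'`.
-/

set_option autoImplicit false

namespace Cfsg.Agent.Lib.Helper25

open Cfsg.Agent.S4216 (ext1 ext1_of_mem transfer_eq_prod_fixed out_conj_mem_of_fixed orderOf_conj_inv)
open MulAction Subgroup

/-- a product over a finite `H`-set is trivial if it is trivial over every orbit -/
theorem prod_eq_one_of_orbit_prod {H X : Type*} [Group H] [Finite H] [MulAction H X] [Fintype X]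
    {A : Type*} [CommMonoid A] (f : X → A)
    (hf : ∀ x : X, ∃ g : H ⧸ stabilizer H x → A,
      (∀ h : H, g (QuotientGroup.mk h) = f (h • x)) ∧
        ∀ [Fintype (H ⧸ stabilizer H x)], ∏ d, g d = 1) : ∏ x, f x = 1 := by
  classical
  let e := selfEquivSigmaOrbitsQuotientStabilizer H X
  let _ : Fintype (Quotient (orbitRel H X)) := Fintype.ofFinite _
  let _ : ∀ ω : Quotient (orbitRel H X), Fintype (H ⧸ stabilizer H ω.out) :=
    fun ω => Fintype.ofFinite _
  rw [← e.symm.prod_comp, Fintype.prod_sigma]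
  apply Finset.prod_eq_one
  intro ω _
  obtain ⟨g, hg1, hg2⟩ := hf ω.out
  rw [← hg2]
  apply Finset.prod_congr rfl
  intro d _
  obtain ⟨h, rfl⟩ := QuotientGroup.mk_surjective d
  rw [hg1]
  rfl

variable {G : Type*} [Group G] {A : Type*} [CommGroup A]

theorem mem_stabilizer_coset_iff (S : Subgroup G) (x : G ⧸ S) (q : S) :
    q ∈ stabilizer S x ↔ x.out⁻¹ * (q : G) * x.out ∈ S := by
  rw [mem_stabilizer_iff]
  conv_lhs => rw [← QuotientGroup.out_eq' x]
  exact smul_mk_eq_iff S (q : G) x.out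

/-- the hom `q ↦ λ(q)⁻¹ λ(t⁻¹ q t)` on the stabilizer of the coset `tS` -/
noncomputable def twistHom (S : Subgroup G) (lam : S →* A) (x : G ⧸ S) : stabilizer S x →* A where
  toFun q := (lam q)⁻¹ *
    lam ⟨x.out⁻¹ * ((q : S) : G) * x.out, (mem_stabilizer_coset_iff S x q).mp q.2⟩
  map_one' := by
    have : (⟨x.out⁻¹ * (((1 : stabilizer S x) : S) : G) * x.out,
        (mem_stabilizer_coset_iff S x _).mp (1 : stabilizer S x).2⟩ : S) = 1 := by
      apply Subtype.ext; simp
    rw [this]; simp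
  map_mul' q q' := by
    have : (⟨x.out⁻¹ * (((q * q' : stabilizer S x) : S) : G) * x.out,
        (mem_stabilizer_coset_iff S x _).mp (q * q').2⟩ : S) =
        ⟨x.out⁻¹ * ((q : S) : G) * x.out, (mem_stabilizer_coset_iff S x q).mp q.2⟩ *
        ⟨x.out⁻¹ * ((q' : S) : G) * x.out, (mem_stabilizer_coset_iff S x q').mp q'.2⟩ := by
      apply Subtype.ext
      push_cast
      group
    rw [this]
    push_cast
    rw [map_mul, map_mul, mul_inv, mul_mul_mul_comm]

theorem twistHom_apply (S : Subgroup G) (lam : S →* A) (x : G ⧸ S) (q : stabilizer S x) :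
    twistHom S lam x q = (lam q)⁻¹ *
      lam ⟨x.out⁻¹ * ((q : S) : G) * x.out, (mem_stabilizer_coset_iff S x q).mp q.2⟩ := rfl

/-- the corrected coset function -/
noncomputable def kappaFn (S : Subgroup G) (lam : S →* A) (u : S) (c : G ⧸ S) : A := by
  classical
  exact cosetFn S lam (u : G) c * (if (u : G) • c = c then (lam u)⁻¹ else 1)

theorem cosetFn_twistHom (S : Subgroup G) (lam : S →* A) (u : S) (x : G ⧸ S) (y : S) :
    cosetFn (stabilizer S x) (twistHom S lam x) u (QuotientGroup.mk y) =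
      kappaFn S lam u (y • x) := by
  classical
  rw [cosetFn_mk]
  have hx : y • x = (QuotientGroup.mk ((y : G) * x.out) : G ⧸ S) := by
    conv_lhs => rw [← QuotientGroup.out_eq' x]
    rfl
  unfold kappaFn
  rw [hx, cosetFn_mk]
  have e : ((y : G) * x.out)⁻¹ * (u : G) * ((y : G) * x.out) =
      x.out⁻¹ * ((y⁻¹ * u * y : S) : G) * x.out := by
    push_cast; group
  by_cases h : y⁻¹ * u * y ∈ stabilizer S x
  · have h' := (mem_stabilizer_coset_iff S x _).mp h
    have h'' : ((y : G) * x.out)⁻¹ * (u : G) * ((y : G) * x.out) ∈ S := by rw [e]; exact h'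
    rw [ext1_of_mem _ _ _ h, twistHom_apply, ext1_of_mem _ _ _ h'',
      if_pos ((smul_mk_eq_iff S (u : G) _).mpr h'')]
    have e1 : lam (y⁻¹ * u * y) = lam u := by
      rw [map_mul, map_mul, map_inv, mul_comm, ← mul_assoc, mul_inv_cancel, one_mul]
    have e2 : (⟨x.out⁻¹ * ((y⁻¹ * u * y : S) : G) * x.out, h'⟩ : S) =
        ⟨((y : G) * x.out)⁻¹ * (u : G) * ((y : G) * x.out), h''⟩ := Subtype.ext e.symm
    show (lam (y⁻¹ * u * y))⁻¹ * lam ⟨x.out⁻¹ * ((y⁻¹ * u * y : S) : G) * x.out, h'⟩ = _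
    rw [e1, e2, mul_comm]
  · have h' : ¬ ((y : G) * x.out)⁻¹ * (u : G) * ((y : G) * x.out) ∈ S := by
      rw [e]
      intro hc
      exact h ((mem_stabilizer_coset_iff S x _).mpr hc)
    rw [ext1_of_not_mem _ _ _ h, ext1_of_not_mem _ _ _ h',
      if_neg (fun hc => h' ((smul_mk_eq_iff S (u : G) _).mp hc)), one_mul]

/-- the inductive step of Yoshida's theorem -/
theorem yoshida_step [Finite G] {p : ℕ} [hp : Fact p.Prime] (S : Sylow p G)
    (hNW : NoWreath p (S : Subgroup G)) (lam : (S : Subgroup G) →* A)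
    (h1 : ∀ (q t : G) (hq : q ∈ (S : Subgroup G)), t ∈ normalizer ((S : Subgroup G) : Set G) →
      ∀ h : t⁻¹ * q * t ∈ (S : Subgroup G), lam ⟨_, h⟩ = lam ⟨q, hq⟩)
    (h2 : ∀ (q t : G) (hq : q ∈ (S : Subgroup G)) (h : t⁻¹ * q * t ∈ (S : Subgroup G)),
      lam ⟨_, h⟩ ^ p = lam ⟨q, hq⟩ ^ p)
    (u : G) (hu : u ∈ (S : Subgroup G)) (huG : u ∈ commutator G)
    (h3 : ∀ (v : G) (hv : v ∈ (S : Subgroup G)), v ∈ commutator G → orderOf v < orderOf u →
      lam ⟨v, hv⟩ = 1) :
    lam ⟨u, hu⟩ = 1 := by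
  classical
  set u' : (S : Subgroup G) := ⟨u, hu⟩ with hu'
  let _ := Fintype.ofFinite (G ⧸ (S : Subgroup G))
  have hu0 : 0 < orderOf u := orderOf_pos u
  have hsmall : ∀ (k : G) (n : ℕ), n ≠ 1 → n ∣ orderOf u → ∀ h : k⁻¹ * u ^ n * k ∈ (S : Subgroup G),
      lam ⟨_, h⟩ = 1 := by
    intro k n hn1 hnd h
    apply h3 _ h
    · exact (inferInstance : (commutator G).Normal).conj_mem' _ (Subgroup.pow_mem _ huG n) k
    · have hnpos : 0 < n := Nat.pos_of_dvd_of_pos hnd hu0
      rw [orderOf_conj_inv, orderOf_pow_of_dvd hnpos.ne' hnd]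
      have hn2 : 2 ≤ n := by omega
      exact Nat.div_lt_self hu0 hn2
  have htr := transfer_eq_prod_cosetFn (S : Subgroup G) lam u hsmall
  have hker : MonoidHom.transfer lam u = 1 :=
    Abelianization.commutator_subset_ker (MonoidHom.transfer lam) huG
  rw [hker] at htr
  set N : ℕ := (Finset.univ.filter (fun c : G ⧸ (S : Subgroup G) => u • c = c)).card with hN
  have hk1 : ∏ c, kappaFn (S : Subgroup G) lam u' c = ((lam u')⁻¹) ^ N := by
    unfold kappaFn
    rw [Finset.prod_mul_distrib, ← htr, one_mul, Finset.prod_ite, Finset.prod_const_one, mul_one,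
      Finset.prod_const]
  have hk2 : ∏ c, kappaFn (S : Subgroup G) lam u' c = 1 := by
    apply prod_eq_one_of_orbit_prod (H := (S : Subgroup G)) (kappaFn (S : Subgroup G) lam u')
    intro x
    refine ⟨cosetFn (stabilizer (S : Subgroup G) x) (twistHom (S : Subgroup G) lam x) u', ?_, ?_⟩
    · intro y
      exact cosetFn_twistHom (S : Subgroup G) lam u' x y
    · intro _inst
      by_cases hx : stabilizer (S : Subgroup G) x = ⊤
      · -- the coset is fixed by `S`, so its representative normalizes `S`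
        have hfix : (QuotientGroup.mk x.out : G ⧸ (S : Subgroup G)) ∈ fixedPoints (S : Subgroup G) (G ⧸ (S : Subgroup G)) := by
          rw [QuotientGroup.out_eq']
          intro y
          have : y ∈ stabilizer (S : Subgroup G) x := by rw [hx]; trivial
          exact this
        have hnorm : x.out ∈ normalizer ((S : Subgroup G) : Set G) :=
          Sylow.mem_fixedPoints_mul_left_cosets_iff_mem_normalizer.mp hfix
        apply Finset.prod_eq_one
        intro d _
        obtain ⟨y, rfl⟩ := QuotientGroup.mk_surjective d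
        rw [cosetFn_mk]
        have hmem : y⁻¹ * u' * y ∈ stabilizer (S : Subgroup G) x := by rw [hx]; trivial
        rw [ext1_of_mem _ _ _ hmem, twistHom_apply]
        rw [h1 _ x.out (y⁻¹ * u' * y).2 hnorm]
        exact inv_mul_cancel _
      · apply prod_cosetFn_eq_one_of_noWreath S.2 hNW (stabilizer (S : Subgroup G) x) hx
        · intro q
          rw [twistHom_apply, mul_pow, inv_pow, h2 _ x.out (q : (S : Subgroup G)).2]
          exact inv_mul_cancel _
        · intro x' n hn1 hnd h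
          rw [twistHom_apply]
          have hord : orderOf u' = orderOf u := Subgroup.orderOf_mk u hu
          rw [hord] at hnd
          have e1 : ((x'⁻¹ * u' ^ n * x' : (S : Subgroup G)) : G) = (x' : G)⁻¹ * u ^ n * (x' : G) := by
            push_cast; rfl
          have hm1 : (x' : G)⁻¹ * u ^ n * (x' : G) ∈ (S : Subgroup G) := by
            rw [← e1]; exact (x'⁻¹ * u' ^ n * x' : (S : Subgroup G)).2
          have e2 : x.out⁻¹ * ((x'⁻¹ * u' ^ n * x' : (S : Subgroup G)) : G) * x.out =
              ((x' : G) * x.out)⁻¹ * u ^ n * ((x' : G) * x.out) := by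
            rw [e1]; group
          have hm2 : ((x' : G) * x.out)⁻¹ * u ^ n * ((x' : G) * x.out) ∈ (S : Subgroup G) := by
            rw [← e2]
            exact (mem_stabilizer_coset_iff (S : Subgroup G) x _).mp h
          have r1 : lam (x'⁻¹ * u' ^ n * x') = 1 := by
            rw [← hsmall (x' : G) n hn1 hnd hm1]
            congr 1
          have r2 : lam ⟨x.out⁻¹ * ((x'⁻¹ * u' ^ n * x' : (S : Subgroup G)) : G) * x.out,
              (mem_stabilizer_coset_iff (S : Subgroup G) x _).mp h⟩ = 1 := by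
            rw [← hsmall ((x' : G) * x.out) n hn1 hnd hm2]
            congr 1
            exact Subtype.ext e2
          show (lam (x'⁻¹ * u' ^ n * x'))⁻¹ * _ = 1
          rw [r1, r2, inv_one, one_mul]
  rw [hk2] at hk1
  -- the exponent is prime to `p`
  have hm : ¬ p ∣ N := by
    have hZ : IsPGroup p (zpowers u) := S.2.to_le ((zpowers_le).mpr hu)
    have hc1 := hZ.card_modEq_card_fixedPoints (G ⧸ (S : Subgroup G))
    have hc2 : Nat.card (fixedPoints (zpowers u) (G ⧸ (S : Subgroup G))) = N := by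
      rw [Nat.card_coe_set_eq, hN, ← Set.ncard_coe_finset]
      congr 1
      ext c
      simp only [Finset.coe_filter, Finset.mem_univ, true_and, Set.mem_ofPred_eq]
      constructor
      · intro hc
        exact hc ⟨u, mem_zpowers u⟩
      · rintro hc ⟨z, hz⟩
        obtain ⟨i, rfl⟩ := Subgroup.mem_zpowers_iff.mp hz
        change u ^ i • c = c
        exact MulAction.mem_fixedBy.mp ((MulAction.stabilizer G c).zpow_mem hc i)
    rw [hc2] at hc1
    intro hd
    have : p ∣ Nat.card (G ⧸ (S : Subgroup G)) :=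
      (Nat.modEq_zero_iff_dvd.mp (hc1.trans (Nat.modEq_zero_iff_dvd.mpr hd)))
    rw [← Subgroup.index_eq_card] at this
    exact S.not_dvd_index this
  obtain ⟨j, hj⟩ := (IsPGroup.iff_orderOf.mp S.2) u'
  have hd1 : orderOf (lam u') ∣ N := by
    apply orderOf_dvd_of_pow_eq_one
    have := hk1.symm
    rwa [inv_pow, inv_eq_one] at this
  have hd2 : orderOf (lam u') ∣ p ^ j := by
    apply orderOf_dvd_of_pow_eq_one
    rw [← map_pow, ← hj, pow_orderOf_eq_one, map_one]
  have hcop : Nat.Coprime N (p ^ j) :=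
    Nat.Coprime.pow_right j ((Nat.Prime.coprime_iff_not_dvd hp.out).mpr hm).symm
  exact orderOf_eq_one_iff.mp (Nat.eq_one_of_dvd_coprimes hcop hd1 hd2)

open scoped commutatorElement in
/-- homs killing `S ∩ N_G(S)'` kill `S ∩ G'` -/
theorem yoshida_key [Finite G] {p : ℕ} [hp : Fact p.Prime] (S : Sylow p G)
    (hNW : NoWreath p (S : Subgroup G)) :
    ∀ (e : ℕ) (lam : (S : Subgroup G) →* A), (∀ x, lam x ^ (p ^ e) = 1) →
      (∀ x : (S : Subgroup G), (x : G) ∈ ⁅normalizer ((S : Subgroup G) : Set G),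
        normalizer ((S : Subgroup G) : Set G)⁆ → lam x = 1) →
      ∀ (u : G) (hu : u ∈ (S : Subgroup G)), u ∈ commutator G → lam ⟨u, hu⟩ = 1 := by
  intro e
  induction e with
  | zero =>
    intro lam hexp _ u hu _
    have := hexp ⟨u, hu⟩
    rwa [pow_zero, pow_one] at this
  | succ e ih =>
    intro lam hexp hK
    have hIH : ∀ (u : G) (hu : u ∈ (S : Subgroup G)), u ∈ commutator G → lam ⟨u, hu⟩ ^ p = 1 := by
      intro u hu huG
      have := ih ((powMonoidHom p).comp lam) (by
        intro x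
        simp only [MonoidHom.coe_comp, Function.comp_apply, powMonoidHom_apply]
        rw [← pow_mul, ← pow_succ']
        exact hexp x) (by
        intro x hx
        simp only [MonoidHom.coe_comp, Function.comp_apply, powMonoidHom_apply]
        rw [hK x hx, one_pow]) u hu huG
      simpa using this
    -- the commutator trick
    have hsplit : ∀ (q t : G) (hq : q ∈ (S : Subgroup G)) (h : t⁻¹ * q * t ∈ (S : Subgroup G)),
        ∃ hc : ⁅q⁻¹, t⁻¹⁆ ∈ (S : Subgroup G), lam ⟨_, h⟩ = lam ⟨q, hq⟩ * lam ⟨_, hc⟩ := by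
      intro q t hq h
      have e : ⁅q⁻¹, t⁻¹⁆ = q⁻¹ * (t⁻¹ * q * t) := by
        rw [commutatorElement_def]; group
      have hc : ⁅q⁻¹, t⁻¹⁆ ∈ (S : Subgroup G) := by
        rw [e]; exact (S : Subgroup G).mul_mem ((S : Subgroup G).inv_mem hq) h
      refine ⟨hc, ?_⟩
      rw [← map_mul]
      congr 1
      apply Subtype.ext
      show t⁻¹ * q * t = q * ⁅q⁻¹, t⁻¹⁆
      rw [e]; group
    have h1 : ∀ (q t : G) (hq : q ∈ (S : Subgroup G)),
        t ∈ normalizer ((S : Subgroup G) : Set G) →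
        ∀ h : t⁻¹ * q * t ∈ (S : Subgroup G), lam ⟨_, h⟩ = lam ⟨q, hq⟩ := by
      intro q t hq ht h
      obtain ⟨hc, hh⟩ := hsplit q t hq h
      rw [hh, hK ⟨_, hc⟩ (Subgroup.commutator_mem_commutator
        (Subgroup.le_normalizer ((S : Subgroup G).inv_mem hq))
        (Subgroup.inv_mem _ ht)), mul_one]
    have h2 : ∀ (q t : G) (hq : q ∈ (S : Subgroup G)) (h : t⁻¹ * q * t ∈ (S : Subgroup G)),
        lam ⟨_, h⟩ ^ p = lam ⟨q, hq⟩ ^ p := by
      intro q t hq h
      obtain ⟨hc, hh⟩ := hsplit q t hq h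
      have hcG : ⁅q⁻¹, t⁻¹⁆ ∈ commutator G := by
        rw [commutator_def]
        exact Subgroup.commutator_mem_commutator (Subgroup.mem_top _) (Subgroup.mem_top _)
      rw [hh, mul_pow, hIH _ hc hcG, mul_one]
    have key : ∀ n : ℕ, ∀ (u : G) (hu : u ∈ (S : Subgroup G)), u ∈ commutator G →
        orderOf u = n → lam ⟨u, hu⟩ = 1 := by
      intro n
      induction n using Nat.strong_induction_on with
      | _ n ihn =>
        intro u hu huG hn
        apply yoshida_step S hNW lam h1 h2 u hu huG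
        intro v hv hvG hlt
        exact ihn (orderOf v) (hn ▸ hlt) v hv hvG rfl
    intro u hu huG
    exact key _ u hu huG rfl

open scoped IsMulCommutative in
/-- **Yoshida's transfer theorem** (focal form): if the Sylow `p`-subgroup `S` has no quotient
`Z_p ≀ Z_p`, then `S ∩ G' ≤ N_G(S)'`. -/
theorem yoshida_focal [Finite G] {p : ℕ} [hp : Fact p.Prime] (S : Sylow p G)
    (hNW : NoWreath p (S : Subgroup G)) :
    (S : Subgroup G) ⊓ commutator G ≤
      ⁅normalizer ((S : Subgroup G) : Set G), normalizer ((S : Subgroup G) : Set G)⁆ := by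
  set N : Subgroup G := normalizer ((S : Subgroup G) : Set G) with hN
  set K : Subgroup G := (S : Subgroup G) ⊓ ⁅N, N⁆ with hK
  have hPN : (S : Subgroup G) ≤ N := Subgroup.le_normalizer
  have hPK : ⁅(S : Subgroup G), (S : Subgroup G)⁆ ≤ K :=
    le_inf (Subgroup.commutator_le_self _) (Subgroup.commutator_mono hPN hPN)
  set KP : Subgroup ↥(S : Subgroup G) := K.subgroupOf (S : Subgroup G) with hKPdef
  have hcle : commutator ↥(S : Subgroup G) ≤ KP := by
    rw [hKPdef, Subgroup.subgroupOf, ← Subgroup.map_le_iff_le_comap,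
      Subgroup.map_subtype_commutator]
    exact hPK
  have hKPn : KP.Normal := Subgroup.Normal.of_commutator_le (h := hcle)
  have hcomm : IsMulCommutative (↥(S : Subgroup G) ⧸ KP) :=
    Subgroup.Normal.quotient_commutative_iff_commutator_le.mpr hcle
  set ϕ : ↥(S : Subgroup G) →* ↥(S : Subgroup G) ⧸ KP := QuotientGroup.mk' KP with hϕ
  obtain ⟨e, he⟩ := IsPGroup.iff_card.mp S.2
  have hexp : ∀ x, ϕ x ^ (p ^ e) = 1 := by
    intro x
    rw [← map_pow, ← he, pow_card_eq_one', map_one]
  have hkill : ∀ x : (S : Subgroup G), (x : G) ∈ ⁅N, N⁆ → ϕ x = 1 := by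
    intro x hx
    rw [hϕ, QuotientGroup.mk'_apply, QuotientGroup.eq_one_iff, hKPdef, Subgroup.mem_subgroupOf]
    exact ⟨x.2, hx⟩
  rintro u ⟨hu, huG⟩
  have := yoshida_key S hNW e ϕ hexp hkill u hu huG
  rw [hϕ, QuotientGroup.mk'_apply, QuotientGroup.eq_one_iff, hKPdef, Subgroup.mem_subgroupOf] at this
  exact this.2

end Cfsg.Agent.Lib.Helper25
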