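import Mathlib
import Cfsg.Agent.Lib.Helper21.Frobenius

/-!
Frobenius' theorem on `n`-th roots of a conjugacy class (M. Hall, Theorem 9.1.1), helper25.

Main results: `gcd_dvd_rootCount` : `gcd n |C_G(c)| ∣ #{x | x ^ n = c}` and
`gcd_dvd_card_roots_class` : `gcd (h * n) |G| ∣ #{x | IsConj c (x ^ n)}`, `h` the class size of `c`.
-/

set_option autoImplicit false

namespace Cfsg.Agent.Lib.Helper25

open Cfsg.Agent.Lib.Helper21

universe u

/-- number of `n`-th roots of `c` -/
noncomputable def rootCount {G : Type*} [Group G] (n : ℕ) (c : G) : ℕ := Nat.card {x : G // x ^ n = c}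

theorem rootCount_conj {G : Type*} [Group G] (n : ℕ) (c g : G) :
    rootCount n (g * c * g⁻¹) = rootCount n c := by
  unfold rootCount
  apply Nat.card_congr
  refine ⟨fun x => ⟨g⁻¹ * x.1 * g, ?_⟩, fun x => ⟨g * x.1 * g⁻¹, ?_⟩, ?_, ?_⟩
  · have h := conj_pow (a := g⁻¹) (b := x.1) (i := n)
    rw [inv_inv] at h
    rw [h, x.2]; group
  · rw [conj_pow, x.2]
  · intro x; apply Subtype.ext; simp only; group
  · intro x; apply Subtype.ext; simp only; group

theorem rootCount_isConj {G : Type*} [Group G] (n : ℕ) (c c' : G) (h : IsConj c c') :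
    rootCount n c = rootCount n c' := by
  obtain ⟨g, rfl⟩ := isConj_iff.mp h
  exact (rootCount_conj n c g).symm

theorem self_mem_centralizer_singleton {G : Type*} [Group G] (c : G) :
    c ∈ Subgroup.centralizer ({c} : Set G) := by
  rw [Subgroup.mem_centralizer_singleton_iff]

theorem rootCount_centralizer {G : Type*} [Group G] (n : ℕ) (c : G) :
    rootCount n c =
      rootCount n (⟨c, self_mem_centralizer_singleton c⟩ : Subgroup.centralizer ({c} : Set G)) := by
  unfold rootCount
  apply Nat.card_congr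
  refine ⟨fun x => ⟨⟨x.1, ?_⟩, ?_⟩, fun x => ⟨x.1.1, ?_⟩, ?_, ?_⟩
  · rw [Subgroup.mem_centralizer_singleton_iff]
    have h := x.2
    calc x.1 * c = x.1 * x.1 ^ n := by rw [h]
      _ = x.1 ^ n * x.1 := by rw [← pow_succ, ← pow_succ']
      _ = c * x.1 := by rw [h]
  · apply Subtype.ext
    simpa using x.2
  · have := congrArg Subtype.val x.2
    simpa using this
  · intro x; rfl
  · intro x; rfl

theorem mk_mem_center_centralizer {G : Type*} [Group G] (c : G) :
    (⟨c, self_mem_centralizer_singleton c⟩ : Subgroup.centralizer ({c} : Set G)) ∈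
      Subgroup.center (Subgroup.centralizer ({c} : Set G)) := by
  rw [Subgroup.mem_center_iff]
  intro g
  apply Subtype.ext
  have : (g : G) ∈ Subgroup.centralizer ({c} : Set G) := g.2
  rw [Subgroup.mem_centralizer_singleton_iff] at this
  exact this

/-- Case (i): `n` coprime to the order of the central element `c`. -/
theorem rootCount_coprime_central {G : Type u} [Group G] [Finite G] (n : ℕ) (c : G)
    (hc : c ∈ Subgroup.center G) (hcop : Nat.Coprime n (orderOf c)) :
    Nat.gcd n (Nat.card G) ∣ rootCount n c := by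
  obtain ⟨k, hk⟩ := exists_pow_eq_self_of_coprime hcop
  obtain ⟨c₁, hc₁⟩ : ∃ c₁ : G, c₁ = c ^ k := ⟨_, rfl⟩
  have h1 : c₁ ^ n = c := by rw [hc₁, ← pow_mul, mul_comm, pow_mul]; exact hk
  have hc₁c : ∀ x : G, Commute x c₁ := fun x => by
    rw [hc₁]
    exact ((Subgroup.mem_center_iff.mp (Subgroup.pow_mem _ hc k)) x)
  have h2 : rootCount n c = Nat.card {x : G // x ^ n = 1} := by
    unfold rootCount
    apply Nat.card_congr
    refine ⟨fun x => ⟨x.1 * c₁⁻¹, ?_⟩, fun x => ⟨x.1 * c₁, ?_⟩, ?_, ?_⟩
    · rw [((hc₁c x.1).inv_right).mul_pow, x.2, inv_pow, h1, mul_inv_cancel]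
    · rw [(hc₁c x.1).mul_pow, x.2, one_mul, h1]
    · intro x; apply Subtype.ext; simp
    · intro x; apply Subtype.ext; simp
  rw [h2, card_pow_eq_one_gcd]
  exact frobenius_dvd_card_pow_eq_one _ (Nat.gcd_dvd_right _ _)

theorem orderOf_of_pow_prime_pow {G : Type*} [Group G] [Finite G] (p a : ℕ) (hp : p.Prime) (x : G)
    (h : p ∣ orderOf (x ^ (p ^ a))) : orderOf x = p ^ a * orderOf (x ^ (p ^ a)) := by
  have h1 := orderOf_pow' x (pow_ne_zero a hp.ne_zero)
  obtain ⟨b, hb, hgcd⟩ := (Nat.dvd_prime_pow hp).mp (Nat.gcd_dvd_right (orderOf x) (p ^ a))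
  have hdo : Nat.gcd (orderOf x) (p ^ a) ∣ orderOf x := Nat.gcd_dvd_left _ _
  have h2 : orderOf x = p ^ b * orderOf (x ^ (p ^ a)) := by
    rw [h1, hgcd]
    rw [hgcd] at hdo
    exact (Nat.mul_div_cancel' hdo).symm
  have hba : b = a := by
    by_contra hne
    have hlt : b + 1 ≤ a := by omega
    have h3 : p ^ (b + 1) ∣ p ^ a := pow_dvd_pow p hlt
    have h4 : p ^ (b + 1) ∣ orderOf x := by
      rw [h2, pow_succ]
      exact Nat.mul_dvd_mul_left _ h
    have h5 : p ^ (b + 1) ∣ p ^ b := by
      rw [← hgcd]; exact Nat.dvd_gcd h4 h3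
    have h6 := (Nat.pow_dvd_pow_iff_le_right hp.one_lt).mp h5
    omega
  rw [h2, hba]

theorem commute_of_mem_zpowers' {G : Type*} [Group G] (x y : G) (h : y ∈ Subgroup.zpowers x) :
    Commute x y := by
  obtain ⟨k, rfl⟩ := Subgroup.mem_zpowers_iff.mp h
  exact (Commute.refl x).zpow_right k

/-- Case (ii): if `p ∣ orderOf c` then `p ^ a ∣ #{x | x ^ (p ^ a) = c}`. -/
theorem prime_pow_dvd_rootCount {G : Type u} [Group G] [Finite G] (p a : ℕ) (hp : p.Prime) (c : G)
    (hpc : p ∣ orderOf c) : p ^ a ∣ rootCount (p ^ a) c := by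
  classical
  haveI : Fintype G := Fintype.ofFinite G
  let r : Setoid G := Setoid.ker (fun x : G => (Subgroup.zpowers x, x ^ (p ^ a)))
  have hr : ∀ x y : G, r.r x y ↔ (Subgroup.zpowers x = Subgroup.zpowers y ∧ x ^ (p ^ a) = y ^ (p ^ a)) := by
    intro x y
    show (Subgroup.zpowers x, x ^ (p ^ a)) = (Subgroup.zpowers y, y ^ (p ^ a)) ↔ _
    rw [Prod.mk.injEq]
  have hcount : rootCount (p ^ a) c = ∑ x ∈ Finset.univ.filter (fun x : G => x ^ (p ^ a) = c), 1 := by
    unfold rootCount
    rw [Finset.sum_const, smul_eq_mul, mul_one, Nat.card_eq_fintype_card, Fintype.card_subtype]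
  rw [hcount]
  apply dvd_sum_of_setoid' r _ (fun _ => 1) (p ^ a)
  · intro y y' hy hyy'
    rw [Finset.mem_filter] at hy ⊢
    refine ⟨Finset.mem_univ _, ?_⟩
    rw [← ((hr y y').mp hyy').2]; exact hy.2
  · intro _ _ _; rfl
  · intro x hx
    rw [Finset.mem_filter] at hx
    have hxc : x ^ (p ^ a) = c := hx.2
    rw [mul_one]
    have hox : orderOf x = p ^ a * orderOf c := by
      have := orderOf_of_pow_prime_pow p a hp x (by rw [hxc]; exact hpc)
      rw [hxc] at this; exact this
    have hcard : (Finset.univ.filter (fun y' => r.r x y')).card =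
        Nat.card {z : Subgroup.zpowers x // z ^ (p ^ a) = 1} := by
      rw [← Fintype.card_subtype, ← Nat.card_eq_fintype_card]
      apply Nat.card_congr
      refine ⟨fun y => ⟨⟨x⁻¹ * y.1, ?_⟩, ?_⟩, fun z => ⟨x * z.1.1, ?_⟩, ?_, ?_⟩
      · have h1 := ((hr x y.1).mp y.2).1
        exact mul_mem (inv_mem (Subgroup.mem_zpowers x)) (h1 ▸ Subgroup.mem_zpowers y.1)
      · have h1 := ((hr x y.1).mp y.2).1
        have h2 := ((hr x y.1).mp y.2).2
        have hy : y.1 ∈ Subgroup.zpowers x := h1 ▸ Subgroup.mem_zpowers y.1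
        have hcomm : Commute x⁻¹ y.1 := (commute_of_mem_zpowers' x y.1 hy).inv_left
        apply Subtype.ext
        show (x⁻¹ * y.1) ^ (p ^ a) = 1
        rw [hcomm.mul_pow, inv_pow, h2, inv_mul_cancel]
      · have hz : z.1.1 ∈ Subgroup.zpowers x := z.1.2
        have hz1 : z.1.1 ^ (p ^ a) = 1 := by
          have := congrArg Subtype.val z.2
          simpa using this
        have hcomm : Commute x z.1.1 := commute_of_mem_zpowers' x z.1.1 hz
        have hpow : (x * z.1.1) ^ (p ^ a) = c := by
          rw [hcomm.mul_pow, hz1, mul_one, hxc]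
        rw [hr]
        refine ⟨?_, ?_⟩
        · symm
          apply Subgroup.eq_of_le_of_card_ge
          · rw [Subgroup.zpowers_le]
            exact mul_mem (Subgroup.mem_zpowers x) hz
          · rw [Nat.card_zpowers, Nat.card_zpowers, hox]
            have := orderOf_of_pow_prime_pow p a hp (x * z.1.1) (by rw [hpow]; exact hpc)
            rw [hpow] at this
            rw [this]
        · rw [hpow, hxc]
      · intro y; apply Subtype.ext; simp
      · intro z; apply Subtype.ext; apply Subtype.ext; simp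
    rw [hcard]
    apply frobenius_dvd_card_pow_eq_one
    rw [Nat.card_zpowers, hox]; exact Dvd.intro _ rfl

theorem card_pow_pred_eq_sum {G : Type*} [Group G] [Fintype G] [DecidableEq G] (P : G → Prop)
    [DecidablePred P] (n : ℕ) :
    Nat.card {x : G // P (x ^ n)} = ∑ y ∈ Finset.univ.filter P, rootCount n y := by
  rw [Nat.card_eq_fintype_card, Fintype.card_subtype]
  rw [Finset.card_eq_sum_card_fiberwise (f := fun x => x ^ n) (t := Finset.univ.filter P)]
  · apply Finset.sum_congr rfl
    intro y hy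
    rw [Finset.mem_filter] at hy
    unfold rootCount
    rw [Nat.card_eq_fintype_card, Fintype.card_subtype]
    congr 1
    ext x
    simp only [Finset.mem_filter, Finset.mem_univ, true_and]
    constructor
    · rintro ⟨_, h⟩; exact h
    · intro h; exact ⟨h ▸ hy.2, h⟩
  · intro x hx
    have hx' := Finset.mem_coe.mp hx
    rw [Finset.mem_filter] at hx'
    apply Finset.mem_coe.mpr
    rw [Finset.mem_filter]
    exact ⟨Finset.mem_univ _, hx'.2⟩

/-- class-sum divisibility: the engine behind Hall's Theorem 9.1.1. -/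
theorem dvd_card_pow_pred {G : Type u} [Group G] [Finite G] (P : G → Prop)
    (hP : ∀ y g : G, P y → P (g * y * g⁻¹)) (n d : ℕ)
    (hT : ∀ y, P y → Nat.gcd n (Nat.card (Subgroup.centralizer ({y} : Set G))) ∣ rootCount n y)
    (hd : ∀ y, P y → d ∣ Nat.gcd ((Subgroup.centralizer ({y} : Set G)).index * n) (Nat.card G)) :
    d ∣ Nat.card {x : G // P (x ^ n)} := by
  classical
  haveI : Fintype G := Fintype.ofFinite G
  rw [card_pow_pred_eq_sum]
  apply dvd_sum_of_setoid' (IsConj.setoid G) _ (fun y => rootCount n y) d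
  · intro y y' hy hyy'
    rw [Finset.mem_filter] at hy ⊢
    obtain ⟨g, rfl⟩ := isConj_iff.mp hyy'
    exact ⟨Finset.mem_univ _, hP y g hy.2⟩
  · intro y y' hyy'
    exact rootCount_isConj n y y' hyy'
  · intro y hy
    rw [Finset.mem_filter] at hy
    rw [card_filter_isConj']
    refine dvd_trans (hd y hy.2) ?_
    have h1 : Nat.card G = (Subgroup.centralizer ({y} : Set G)).index *
        Nat.card (Subgroup.centralizer ({y} : Set G)) := (Subgroup.index_mul_card _).symm
    rw [h1, Nat.gcd_mul_left]
    exact Nat.mul_dvd_mul_left _ (hT y hy.2)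

/-- Case (iii), one half. -/
theorem rootCount_mul_dvd {G : Type u} [Group G] [Finite G] (n₁ n₂ : ℕ) (c : G)
    (hc : c ∈ Subgroup.center G)
    (hT : ∀ y : G, Nat.gcd n₁ (Nat.card (Subgroup.centralizer ({y} : Set G))) ∣ rootCount n₁ y) :
    Nat.gcd n₁ (Nat.card G) ∣ rootCount (n₁ * n₂) c := by
  have h1 : rootCount (n₁ * n₂) c = Nat.card {x : G // (fun y => y ^ n₂ = c) (x ^ n₁)} := by
    unfold rootCount
    apply Nat.card_congr
    apply Equiv.subtypeEquivRight
    intro x
    show x ^ (n₁ * n₂) = c ↔ (x ^ n₁) ^ n₂ = c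
    rw [pow_mul]
  rw [h1]
  apply dvd_card_pow_pred (fun y => y ^ n₂ = c) _ n₁ _ (fun y _ => hT y)
  · intro y _
    exact Nat.gcd_dvd_gcd_mul_left_left _ _ _
  · intro y g hy
    show (g * y * g⁻¹) ^ n₂ = c
    rw [conj_pow, hy]
    have := (Subgroup.mem_center_iff.mp hc) g
    rw [this]; group

theorem exists_prime_pow_mul_not_dvd (n : ℕ) (hn0 : n ≠ 0) (hn1 : n ≠ 1) :
    ∃ p e n', p.Prime ∧ 0 < e ∧ ¬ p ∣ n' ∧ n = p ^ e * n' := by
  have hp : (Nat.minFac n).Prime := Nat.minFac_prime hn1
  obtain ⟨e, n', hpn', hnen'⟩ := Nat.exists_eq_pow_mul_and_not_dvd hn0 (Nat.minFac n) hp.ne_one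
  refine ⟨Nat.minFac n, e, n', hp, ?_, hpn', hnen'⟩
  rcases Nat.eq_zero_or_pos e with he | he
  · exfalso
    rw [he, pow_zero, one_mul] at hnen'
    apply hpn'
    have := Nat.minFac_dvd n
    rw [← hnen']; exact this
  · exact he

theorem rootCount_central_aux : ∀ (N : ℕ) (G : Type u) [Group G] [Finite G], Nat.card G = N →
    ∀ (n : ℕ) (c : G), c ∈ Subgroup.center G → Nat.gcd n N ∣ rootCount n c := by
  intro N
  induction N using Nat.strong_induction_on with
  | _ N IHN =>
    intro G _ _ hN n
    induction n using Nat.strong_induction_on with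
    | _ n IHn =>
      intro c hc
      have hT : ∀ n' < n, ∀ y : G,
          Nat.gcd n' (Nat.card (Subgroup.centralizer ({y} : Set G))) ∣ rootCount n' y := by
        intro n' hn' y
        by_cases hlt : Nat.card (Subgroup.centralizer ({y} : Set G)) < N
        · rw [rootCount_centralizer]
          exact IHN _ hlt _ rfl n' _ (mk_mem_center_centralizer y)
        · have hle : Nat.card (Subgroup.centralizer ({y} : Set G)) ≤ N :=
            hN ▸ Subgroup.card_le_card_group _
          have heq : Nat.card (Subgroup.centralizer ({y} : Set G)) = Nat.card G := by omega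
          have htop : Subgroup.centralizer ({y} : Set G) = ⊤ := Subgroup.eq_top_of_card_eq _ heq
          have hyc : y ∈ Subgroup.center G := by
            rw [Subgroup.mem_center_iff]
            intro g
            have : g ∈ Subgroup.centralizer ({y} : Set G) := htop ▸ Subgroup.mem_top g
            rw [Subgroup.mem_centralizer_singleton_iff] at this
            exact this
          rw [heq, hN]
          exact IHn n' hn' y hyc
      rcases Nat.eq_zero_or_pos n with hn0 | hnpos
      · subst hn0
        rw [Nat.gcd_zero_left]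
        unfold rootCount
        by_cases hc1 : c = 1
        · have : Nat.card {x : G // x ^ 0 = c} = Nat.card G := by
            apply Nat.card_congr
            apply Equiv.subtypeUnivEquiv
            intro x; rw [pow_zero, hc1]
          rw [this, hN]
        · have : IsEmpty {x : G // x ^ 0 = c} := ⟨fun x => hc1 (by rw [← x.2, pow_zero])⟩
          rw [Nat.card_of_isEmpty]; exact dvd_zero _
      by_cases hcop : Nat.Coprime n (orderOf c)
      · rw [← hN]; exact rootCount_coprime_central n c hc hcop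
      have hn1 : n ≠ 1 := by rintro rfl; exact hcop (Nat.coprime_one_left _)
      obtain ⟨p, e, n', hp, he, hpn', hn⟩ := exists_prime_pow_mul_not_dvd n hnpos.ne' hn1
      have hpe2 : 2 ≤ p ^ e := by
        calc 2 ≤ p := hp.two_le
          _ = p ^ 1 := (pow_one p).symm
          _ ≤ p ^ e := Nat.pow_le_pow_right hp.pos he
      by_cases hn'1 : n' = 1
      · -- prime power
        rw [hn'1, mul_one] at hn
        have hpc : p ∣ orderOf c := by
          by_contra hpc
          apply hcop
          rw [hn]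
          exact Nat.Coprime.pow_left e ((Nat.Prime.coprime_iff_not_dvd hp).mpr hpc)
        rw [hn]
        exact dvd_trans (Nat.gcd_dvd_left _ _) (prime_pow_dvd_rootCount p e hp c hpc)
      · have hn'0 : n' ≠ 0 := by
          rintro rfl
          rw [mul_zero] at hn; omega
        have hn'2 : 2 ≤ n' := by omega
        have hlt1 : p ^ e < n := by rw [hn]; nlinarith
        have hlt2 : n' < n := by rw [hn]; nlinarith
        have hcop' : Nat.Coprime (p ^ e) n' :=
          Nat.Coprime.pow_left e ((Nat.Prime.coprime_iff_not_dvd hp).mpr hpn')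
        have h1 : Nat.gcd (p ^ e) (Nat.card G) ∣ rootCount (p ^ e * n') c :=
          rootCount_mul_dvd (p ^ e) n' c hc (hT _ hlt1)
        have h2 : Nat.gcd n' (Nat.card G) ∣ rootCount (n' * p ^ e) c :=
          rootCount_mul_dvd n' (p ^ e) c hc (hT _ hlt2)
        rw [mul_comm] at h2
        rw [hn, Nat.gcd_comm, Nat.Coprime.gcd_mul _ hcop', ← hN]
        apply Nat.Coprime.mul_dvd_of_dvd_of_dvd
        · exact Nat.Coprime.gcd_both _ _ hcop'
        · rw [Nat.gcd_comm]; exact h1
        · rw [Nat.gcd_comm]; exact h2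

/-- **Frobenius**: `gcd n |C_G(c)|` divides the number of `n`-th roots of `c`. -/
theorem gcd_dvd_rootCount {G : Type u} [Group G] [Finite G] (n : ℕ) (c : G) :
    Nat.gcd n (Nat.card (Subgroup.centralizer ({c} : Set G))) ∣ rootCount n c := by
  rw [rootCount_centralizer]
  exact rootCount_central_aux _ _ rfl n _ (mk_mem_center_centralizer c)

/-- **M. Hall, Theorem 9.1.1**: the number of `x` with `x ^ n` conjugate to `c` is a multiple of
`gcd (h * n) |G|`, `h` the size of the class of `c`. -/
theorem gcd_dvd_card_roots_class {G : Type u} [Group G] [Finite G] (c : G) (n : ℕ) :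
    Nat.gcd (Nat.card {y : G // IsConj c y} * n) (Nat.card G) ∣
      Nat.card {x : G // IsConj c (x ^ n)} := by
  apply dvd_card_pow_pred (fun y => IsConj c y) _ n _ (fun y _ => gcd_dvd_rootCount n y)
  · intro y hy
    have h1 : Nat.card {y' : G // IsConj c y'} = (Subgroup.centralizer ({y} : Set G)).index := by
      rw [index_centralizer_eq_ncard_setOf_isConj, ← Nat.card_coe_set_eq]
      apply Nat.card_congr
      apply Equiv.subtypeEquivRight
      intro y'
      constructor
      · intro h; exact (hy.symm).trans h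
      · intro h; exact hy.trans h
    rw [h1]
  · intro y g hy
    exact hy.trans (isConj_iff.mpr ⟨g, rfl⟩)

end Cfsg.Agent.Lib.Helper25
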