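import Cfsg.Agent.Lib.Helper7.ChevWeylPerm

/-! The rows of the Cartan coordinates of a product of root elements with pairwise
"non-interacting" roots: the coefficients can be read off (helper25). -/

set_option autoImplicit false

namespace Cfsg.Agent.Lib.Helper25.HRow

open Cfsg Cfsg.Lie Matrix
open Cfsg.Agent.Lib.Helper7

/-- `x_r(t)` fixes the coordinate `e_m`: no chain of `r` ends at `m` and `m ≠ r` -/
def rowFixB (D : ChevalleyDatum) (r m : ℕ) : Bool :=
  (m != r) && (List.range D.nroots).all fun s => (ccAll D r s).all fun x => x.1 != m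

theorem rowFixB_spec (D : ChevalleyDatum) (r m : ℕ) (h : rowFixB D r m = true) :
    m ≠ r ∧ ∀ s < D.nroots, ∀ x ∈ ccAll D r s, x.1 ≠ m := by
  unfold rowFixB at h
  simp only [Bool.and_eq_true, bne_iff_ne, List.all_eq_true, List.mem_range] at h
  exact ⟨h.1, fun s hs x hx => h.2 s hs x hx⟩

theorem polyAt_eq_zero {F : Type*} [Field F] (t : F) (T : List (ℕ × ℕ × ℤ)) (u : ℕ)
    (h : ∀ x ∈ T, x.1 ≠ u) : polyAt t T u = 0 := by
  unfold polyAt
  apply List.sum_eq_zero
  intro y hy
  rw [List.mem_map] at hy
  obtain ⟨x, hx, rfl⟩ := hy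
  rw [if_neg (h x hx)]

section
variable (D : ChevalleyDatum) (hD : D ∈ [chevG2, chevB2, chevD4, chevF4, chevE6, chevE7, chevE8])
variable (F : Type*) [Field F]

/-- the row `e_m` of `x_r(t)` is the unit row when `x_r` fixes the coordinate `e_m` -/
theorem xMat_row_fix (r : Fin D.nroots) (t : F) (m : Fin D.nroots) (h : rowFixB D r.val m.val = true)
    (col : D.Idx) : D.xMat F r t (Sum.inr m) col = if col = Sum.inr m then 1 else 0 := by
  obtain ⟨hmr, hch⟩ := rowFixB_spec D r.val m.val h
  have hmr' : m ≠ r := fun hh => hmr (congrArg Fin.val hh)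
  rcases col with i | s
  · rw [xMat_inr_inl, if_neg hmr', if_neg (by simp)]
  · by_cases hsr : s = r
    · subst hsr
      rw [xMat_inr_self, if_neg hmr', if_neg]
      intro hh
      exact hmr' (Sum.inr.inj hh).symm
    · by_cases hneg : s.val = D.negIdx.getD r.val 0
      · rw [xMat_inr_neg D F r t s hsr hneg, if_neg hmr']
        by_cases hms : m = s
        · subst hms; simp
        · rw [if_neg hms, if_neg]
          intro hh
          exact hms (Sum.inr.inj hh).symm
      · rw [xMat_inr_gen D F r t s hsr hneg, polyAt_eq_zero t _ _ (hch s.val s.isLt), add_zero]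
        by_cases hms : m = s
        · subst hms; simp
        · rw [if_neg hms, if_neg]
          intro hh
          exact hms (Sum.inr.inj hh).symm

/-- the row `e_m` of a word all of whose letters fix the coordinate `e_m` -/
theorem wordMat_row_fix (m : Fin D.nroots) (w : List (ℕ × F))
    (hw : ∀ e ∈ w, e.1 < D.nroots ∧ rowFixB D e.1 m.val = true) (col : D.Idx) :
    D.wordMat F w (Sum.inr m) col = if col = Sum.inr m then 1 else 0 := by
  induction w generalizing col with
  | nil =>
    show (1 : Matrix D.Idx D.Idx F) (Sum.inr m) col = _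
    rw [Matrix.one_apply]
    by_cases h : col = Sum.inr m
    · rw [if_pos h, if_pos h.symm]
    · rw [if_neg h, if_neg (fun hh => h hh.symm)]
  | cons e w ih =>
    have he := hw e List.mem_cons_self
    have hw' : ∀ e' ∈ w, e'.1 < D.nroots ∧ rowFixB D e'.1 m.val = true :=
      fun e' he' => hw e' (List.mem_cons_of_mem _ he')
    have e1 : D.wordMat F (e :: w) = D.x F e.1 e.2 * D.wordMat F w := by
      unfold ChevalleyDatum.wordMat
      rw [List.map_cons, List.prod_cons]
    rw [e1, Matrix.mul_apply, x_eq_xMat D F e.1 he.1]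
    have : ∀ k : D.Idx, D.xMat F ⟨e.1, he.1⟩ e.2 (Sum.inr m) k * D.wordMat F w k col =
        if k = Sum.inr m then D.wordMat F w k col else 0 := by
      intro k
      rw [xMat_row_fix D F ⟨e.1, he.1⟩ e.2 m he.2 k]
      split_ifs <;> simp
    rw [Finset.sum_congr rfl (fun k _ => this k), Finset.sum_ite_eq' Finset.univ (Sum.inr m),
      if_pos (Finset.mem_univ _), ih hw']

include hD

/-- the Cartan row `h_j` of `x_r(t) M` -/
theorem x_mul_row_inl (r : ℕ) (hr : r < D.nroots) (t : F) (M : Matrix D.Idx D.Idx F) (j : Fin D.rank)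
    (col : D.Idx) :
    (D.x F r t * M) (Sum.inl j) col = M (Sum.inl j) col +
      (((D.coroot.getD r #[]).getD j.val 0 : ℤ) : F) * t *
        M (Sum.inr ⟨D.negIdx.getD r 0, (negOK_of_mem D hD r hr).1⟩) col := by
  have hN := negOK_of_mem D hD r hr
  rw [x_eq_xMat D F r hr, Matrix.mul_apply, Fintype.sum_sum_type]
  have h1 : ∀ i : Fin D.rank, D.xMat F ⟨r, hr⟩ t (Sum.inl j) (Sum.inl i) * M (Sum.inl i) col =
      if i = j then M (Sum.inl i) col else 0 := by
    intro i
    rw [xMat_inl_inl]
    by_cases h : j = i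
    · rw [if_pos h, if_pos h.symm, one_mul]
    · rw [if_neg h, if_neg (fun hh => h hh.symm), zero_mul]
  have h2 : ∀ s : Fin D.nroots, D.xMat F ⟨r, hr⟩ t (Sum.inl j) (Sum.inr s) * M (Sum.inr s) col =
      if s = ⟨D.negIdx.getD r 0, hN.1⟩ then
        (((D.coroot.getD r #[]).getD j.val 0 : ℤ) : F) * t * M (Sum.inr s) col else 0 := by
    intro s
    by_cases hsr : s = ⟨r, hr⟩
    · subst hsr
      rw [xMat_inl_self, zero_mul, if_neg]
      intro hh
      exact hN.2 (congrArg Fin.val hh).symm
    · by_cases hneg : s.val = D.negIdx.getD r 0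
      · rw [xMat_inl_neg D F ⟨r, hr⟩ t s hsr hneg, if_pos (Fin.ext hneg)]
      · rw [xMat_inl_gen D F ⟨r, hr⟩ t s hsr hneg, zero_mul, if_neg]
        intro hh
        exact hneg (congrArg Fin.val hh)
  rw [Finset.sum_congr rfl (fun i _ => h1 i), Finset.sum_congr rfl (fun s _ => h2 s),
    Finset.sum_ite_eq' Finset.univ j, Finset.sum_ite_eq' Finset.univ, if_pos (Finset.mem_univ _),
    if_pos (Finset.mem_univ _)]

/-- pairwise non-interaction of the letters of a word: every later letter fixes the coordinate of the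
negative of every earlier root -/
def NonInt (w : List (ℕ × F)) : Prop :=
  w.Pairwise fun e e' => rowFixB D e'.1 (D.negIdx.getD e.1 0) = true

/-- the Cartan rows of a word with pairwise non-interacting letters -/
theorem wordMat_row_inl (w : List (ℕ × F)) (hlt : ∀ e ∈ w, e.1 < D.nroots) (hw : NonInt D F w)
    (j : Fin D.rank) (s : Fin D.nroots) :
    D.wordMat F w (Sum.inl j) (Sum.inr s) =
      (w.map fun e => if s.val = D.negIdx.getD e.1 0 then
        (((D.coroot.getD e.1 #[]).getD j.val 0 : ℤ) : F) * e.2 else 0).sum := by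
  induction w with
  | nil =>
    show (1 : Matrix D.Idx D.Idx F) (Sum.inl j) (Sum.inr s) = _
    rw [Matrix.one_apply, if_neg (by simp)]
    rfl
  | cons e w ih =>
    have he := hlt e List.mem_cons_self
    have hlt' : ∀ e' ∈ w, e'.1 < D.nroots := fun e' he' => hlt e' (List.mem_cons_of_mem _ he')
    obtain ⟨hew, hw'⟩ := List.pairwise_cons.mp hw
    have e1 : D.wordMat F (e :: w) = D.x F e.1 e.2 * D.wordMat F w := by
      unfold ChevalleyDatum.wordMat
      rw [List.map_cons, List.prod_cons]
    rw [e1, x_mul_row_inl D hD F e.1 he, ih hlt' hw', List.map_cons, List.sum_cons, add_comm]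
    congr 1
    rw [wordMat_row_fix D F ⟨D.negIdx.getD e.1 0, (negOK_of_mem D hD e.1 he).1⟩ w
      (fun e' he' => ⟨hlt' e' he', hew e' he'⟩)]
    by_cases h : s.val = D.negIdx.getD e.1 0
    · rw [if_pos h, if_pos (by rw [Sum.inr.injEq]; exact Fin.ext h), mul_one]
    · rw [if_neg h, if_neg (by rw [Sum.inr.injEq]; intro hh; exact h (congrArg Fin.val hh)), mul_zero]

end

end Cfsg.Agent.Lib.Helper25.HRow
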