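import Cfsg.Agent.Lib.Helper7.G2Tw4
import Cfsg.Agent.Lib.Helper7.ChevRootCentTab
import Cfsg.Agent.Lib.Helper25.HRow1

/-! Type `G₂` in characteristic two: the conjugates of the short root element `x_{2a+b}(1)`
under the Borel subgroup (helper25). -/

set_option autoImplicit false

namespace Cfsg.Agent.Lib.Helper25.G2Inv

open Cfsg Cfsg.Lie Matrix
open Cfsg.Agent.Lib.Helper7

theorem commTerms_G2_tab : chevG2.commTerms 9 10 = [] ∧ chevG2.commTerms 9 11 = [] ∧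
    chevG2.commTerms 9 6 = [] ∧ chevG2.commTerms 9 5 = [] ∧ chevG2.commTerms 10 11 = [] ∧
    chevG2.commTerms 7 10 = [] ∧ chevG2.commTerms 7 11 = [] ∧ chevG2.commTerms 8 10 = [] ∧
    chevG2.commTerms 8 11 = [] ∧ chevG2.commTerms 6 11 = [] ∧ chevG2.commTerms 6 9 = [] ∧
    chevG2.commTerms 8 9 = [(11, 3, 1, 1)] ∧ chevG2.commTerms 7 9 = [(10, 3, 1, 1)] := by
  decide +kernel

section
variable (F : Type*) [Field F]

local notation "X" => xGL chevG2 mem_G2 F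

theorem c9_10 (a b : F) : Commute (X 9 a) (X 10 b) :=
  xGL_comm_of_nil chevG2 mem_G2 F 9 10 (by decide) (by decide) (by decide) (by decide)
    commTerms_G2_tab.1 a b

theorem c9_11 (a b : F) : Commute (X 9 a) (X 11 b) :=
  xGL_comm_of_nil chevG2 mem_G2 F 9 11 (by decide) (by decide) (by decide) (by decide)
    commTerms_G2_tab.2.1 a b

theorem c9_6 (a b : F) : Commute (X 9 a) (X 6 b) :=
  xGL_comm_of_nil chevG2 mem_G2 F 9 6 (by decide) (by decide) (by decide) (by decide)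
    commTerms_G2_tab.2.2.1 a b

theorem c9_5 (a b : F) : Commute (X 9 a) (X 5 b) :=
  xGL_comm_of_nil chevG2 mem_G2 F 9 5 (by decide) (by decide) (by decide) (by decide)
    commTerms_G2_tab.2.2.2.1 a b

theorem c10_11 (a b : F) : Commute (X 10 a) (X 11 b) :=
  xGL_comm_of_nil chevG2 mem_G2 F 10 11 (by decide) (by decide) (by decide) (by decide)
    commTerms_G2_tab.2.2.2.2.1 a b

theorem c7_10 (a b : F) : Commute (X 7 a) (X 10 b) :=
  xGL_comm_of_nil chevG2 mem_G2 F 7 10 (by decide) (by decide) (by decide) (by decide)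
    commTerms_G2_tab.2.2.2.2.2.1 a b

theorem c7_11 (a b : F) : Commute (X 7 a) (X 11 b) :=
  xGL_comm_of_nil chevG2 mem_G2 F 7 11 (by decide) (by decide) (by decide) (by decide)
    commTerms_G2_tab.2.2.2.2.2.2.1 a b

theorem c8_10 (a b : F) : Commute (X 8 a) (X 10 b) :=
  xGL_comm_of_nil chevG2 mem_G2 F 8 10 (by decide) (by decide) (by decide) (by decide)
    commTerms_G2_tab.2.2.2.2.2.2.2.1 a b

theorem c8_11 (a b : F) : Commute (X 8 a) (X 11 b) :=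
  xGL_comm_of_nil chevG2 mem_G2 F 8 11 (by decide) (by decide) (by decide) (by decide)
    commTerms_G2_tab.2.2.2.2.2.2.2.2.1 a b

theorem c6_11 (a b : F) : Commute (X 6 a) (X 11 b) :=
  xGL_comm_of_nil chevG2 mem_G2 F 6 11 (by decide) (by decide) (by decide) (by decide)
    commTerms_G2_tab.2.2.2.2.2.2.2.2.2.1 a b

theorem c6_9 (a b : F) : Commute (X 6 a) (X 9 b) :=
  xGL_comm_of_nil chevG2 mem_G2 F 6 9 (by decide) (by decide) (by decide) (by decide)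
    commTerms_G2_tab.2.2.2.2.2.2.2.2.2.2.1 a b

/-- `x_{a+b}(s) x_{2a+b}(c) x_{a+b}(s)⁻¹ = x_{2a+b}(c) x_{3a+2b}(3sc)` -/
theorem conj8_9 (s c : F) : X 8 s * X 9 c * (X 8 s)⁻¹ = X 9 c * X 11 (3 * s * c) := by
  rw [xGL_conj_xGL chevG2 mem_G2 F 8 9 (by decide) (by decide) (by decide) (by decide) s c]
  unfold ChevalleyDatum.commWord
  rw [commTerms_G2_tab.2.2.2.2.2.2.2.2.2.2.2.1]
  simp only [List.map_cons, List.map_nil, wordGL, List.prod_cons, List.prod_nil, mul_one]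
  congr 2
  push_cast
  ring

/-- `x_a(s) x_{2a+b}(c) x_a(s)⁻¹ = x_{2a+b}(c) x_{3a+b}(3sc)` -/
theorem conj7_9 (s c : F) : X 7 s * X 9 c * (X 7 s)⁻¹ = X 9 c * X 10 (3 * s * c) := by
  rw [xGL_conj_xGL chevG2 mem_G2 F 7 9 (by decide) (by decide) (by decide) (by decide) s c]
  unfold ChevalleyDatum.commWord
  rw [commTerms_G2_tab.2.2.2.2.2.2.2.2.2.2.2.2]
  simp only [List.map_cons, List.map_nil, wordGL, List.prod_cons, List.prod_nil, mul_one]
  congr 2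
  push_cast
  ring

/-- the elements `x_{2a+b}(k) x_{3a+b}(α) x_{3a+2b}(β)` -/
noncomputable def q3 (k α β : F) : GL chevG2.Idx F := X 9 k * X 10 α * X 11 β

theorem q3_eq_word (k α β : F) : q3 F k α β = wordGL chevG2 mem_G2 F [(9, k), (10, α), (11, β)] := by
  unfold q3 wordGL
  simp [mul_assoc]

theorem q3_eq_ordProd (k α β : F) :
    q3 F k α β = ordProd chevG2 mem_G2 F l6G2 (c6fn 0 0 0 k α β) := by
  rw [ordProd_c6fn, xGL_zero, xGL_zero, xGL_zero]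
  unfold q3
  simp [mul_assoc]

theorem q3_inj (k α β k' α' β' : F) (h : q3 F k α β = q3 F k' α' β') : k = k' ∧ α = α' ∧ β = β' := by
  rw [q3_eq_ordProd, q3_eq_ordProd] at h
  obtain ⟨-, -, -, h1, h2, h3⟩ := c6_inj _ _ _ _ _ _ _ _ _ _ _ _ h
  exact ⟨h1, h2, h3⟩

/-- conjugating `x_{2a+b}(k)` by an element of `U` -/
theorem conj_c6 (a b c d e f k : F) :
    ordProd chevG2 mem_G2 F l6G2 (c6fn a b c d e f) * X 9 k *
      (ordProd chevG2 mem_G2 F l6G2 (c6fn a b c d e f))⁻¹ = q3 F k (3 * a * k) (3 * c * k) := by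
  rw [ordProd_c6fn]
  have h1 : X 8 c * X 9 d * X 10 e * X 11 f * X 9 k * (X 8 c * X 9 d * X 10 e * X 11 f)⁻¹ =
      X 9 k * X 11 (3 * c * k) := by
    have e1 : X 11 f * X 9 k = X 9 k * X 11 f := ((c9_11 F k f).symm).eq
    have e2 : X 10 e * X 9 k = X 9 k * X 10 e := ((c9_10 F k e).symm).eq
    have e3 : X 9 d * X 9 k = X 9 k * X 9 d := (commute_xGL_same chevG2 mem_G2 F 9 d k).eq
    calc X 8 c * X 9 d * X 10 e * X 11 f * X 9 k * (X 8 c * X 9 d * X 10 e * X 11 f)⁻¹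
        = X 8 c * X 9 d * X 10 e * (X 11 f * X 9 k) * (X 11 f)⁻¹ * (X 10 e)⁻¹ * (X 9 d)⁻¹ *
            (X 8 c)⁻¹ := by group
      _ = X 8 c * X 9 d * (X 10 e * X 9 k) * (X 10 e)⁻¹ * (X 9 d)⁻¹ * (X 8 c)⁻¹ := by
          rw [e1]; group
      _ = X 8 c * (X 9 d * X 9 k) * (X 9 d)⁻¹ * (X 8 c)⁻¹ := by rw [e2]; group
      _ = X 8 c * X 9 k * (X 8 c)⁻¹ := by rw [e3]; group
      _ = X 9 k * X 11 (3 * c * k) := conj8_9 F c k
  have h2 : X 6 b * (X 9 k * X 11 (3 * c * k)) * (X 6 b)⁻¹ = X 9 k * X 11 (3 * c * k) := by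
    have e1 : X 6 b * X 9 k = X 9 k * X 6 b := (c6_9 F b k).eq
    have e2 : X 6 b * X 11 (3 * c * k) = X 11 (3 * c * k) * X 6 b := (c6_11 F b _).eq
    calc X 6 b * (X 9 k * X 11 (3 * c * k)) * (X 6 b)⁻¹
        = (X 6 b * X 9 k) * X 11 (3 * c * k) * (X 6 b)⁻¹ := by group
      _ = X 9 k * (X 6 b * X 11 (3 * c * k)) * (X 6 b)⁻¹ := by rw [e1]; group
      _ = X 9 k * X 11 (3 * c * k) := by rw [e2]; group
  have h3 : X 7 a * (X 9 k * X 11 (3 * c * k)) * (X 7 a)⁻¹ =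
      X 9 k * X 10 (3 * a * k) * X 11 (3 * c * k) := by
    have e2 : X 7 a * X 11 (3 * c * k) = X 11 (3 * c * k) * X 7 a := (c7_11 F a _).eq
    calc X 7 a * (X 9 k * X 11 (3 * c * k)) * (X 7 a)⁻¹
        = (X 7 a * X 9 k * (X 7 a)⁻¹) * (X 7 a * X 11 (3 * c * k)) * (X 7 a)⁻¹ := by group
      _ = X 9 k * X 10 (3 * a * k) * (X 11 (3 * c * k) * X 7 a) * (X 7 a)⁻¹ := by
          rw [conj7_9, e2]
      _ = X 9 k * X 10 (3 * a * k) * X 11 (3 * c * k) := by group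
  unfold q3
  calc X 7 a * X 6 b * (X 8 c * X 9 d * X 10 e * X 11 f) * X 9 k *
        (X 7 a * X 6 b * (X 8 c * X 9 d * X 10 e * X 11 f))⁻¹
      = X 7 a * (X 6 b * (X 8 c * X 9 d * X 10 e * X 11 f * X 9 k *
          (X 8 c * X 9 d * X 10 e * X 11 f)⁻¹) * (X 6 b)⁻¹) * (X 7 a)⁻¹ := by group
    _ = X 9 k * X 10 (3 * a * k) * X 11 (3 * c * k) := by rw [h1, h2, h3]

/-- conjugating `x_{2a+b}(k)` by an element of `U` -/
theorem conj_posUnipotent (u : GL chevG2.Idx F) (hu : u ∈ chevG2.posUnipotent F) (k : F) :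
    ∃ a b c d e f : F, u = ordProd chevG2 mem_G2 F l6G2 (c6fn a b c d e f) ∧
      u * X 9 k * u⁻¹ = q3 F k (3 * a * k) (3 * c * k) := by
  obtain ⟨a, b, c, d, e, f, rfl⟩ := exists_c6 u hu
  exact ⟨a, b, c, d, e, f, rfl, conj_c6 F a b c d e f k⟩

/-- conjugating the elements `q3` by a diagonal element -/
theorem conj_diag_q3 (h : GL chevG2.Idx F) (χ : ℕ → F) (hχ : ChainChar chevG2 F χ)
    (hh : (h : Matrix chevG2.Idx chevG2.Idx F) = diagChar chevG2 F χ) (k α β : F) :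
    h * q3 F k α β * h⁻¹ = q3 F (χ 9 * k) (χ 10 * α) (χ 11 * β) := by
  unfold q3
  have e9 := diagGL_xGL_comm chevG2 mem_G2 F h χ hχ hh 9 k
  have e10 := diagGL_xGL_comm chevG2 mem_G2 F h χ hχ hh 10 α
  have e11 := diagGL_xGL_comm chevG2 mem_G2 F h χ hχ hh 11 β
  calc h * (X 9 k * X 10 α * X 11 β) * h⁻¹ = (h * X 9 k) * X 10 α * X 11 β * h⁻¹ := by group
    _ = X 9 (χ 9 * k) * (h * X 10 α) * X 11 β * h⁻¹ := by rw [e9]; group
    _ = X 9 (χ 9 * k) * X 10 (χ 10 * α) * (h * X 11 β) * h⁻¹ := by rw [e10]; group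
    _ = X 9 (χ 9 * k) * X 10 (χ 10 * α) * X 11 (χ 11 * β) := by rw [e11]; group

/-- the conjugates of `x_{2a+b}(1)` under the Borel subgroup -/
theorem conj_borel (b : GL chevG2.Idx F) (hb : b ∈ chevG2.borelSubgroup F) :
    ∃ k α β : F, k ≠ 0 ∧ b * X 9 1 * b⁻¹ = q3 F k α β := by
  have hb' : b ∈ ((chevG2.borelSubgroup F : Subgroup (GL chevG2.Idx F)) : Set (GL chevG2.Idx F)) := hb
  rw [borel_eq_mul chevG2 mem_G2 F] at hb'
  obtain ⟨h, hh, u, hu, rfl⟩ := Set.mem_mul.mp hb'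
  obtain ⟨χ, hχ, hhm⟩ := mem_diagonalSubgroup_char chevG2 mem_G2 F h hh
  obtain ⟨a, b', c, d, e, f, -, hconj⟩ := conj_posUnipotent F u hu 1
  refine ⟨χ 9 * 1, χ 10 * (3 * a * 1), χ 11 * (3 * c * 1), ?_, ?_⟩
  · rw [mul_one]; exact hχ.ne0 9 (by decide)
  · calc h * u * X 9 1 * (h * u)⁻¹ = h * (u * X 9 1 * u⁻¹) * h⁻¹ := by group
      _ = _ := by rw [hconj, conj_diag_q3 F h χ hχ hhm]

end

end Cfsg.Agent.Lib.Helper25.G2Inv
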