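import Cfsg.Agent.Lib.Helper25.G2Inv1

/-! Type `G₂`: an element of `N` conjugating one element `x_{2a+b}(k) x_{3a+b}(α) x_{3a+2b}(β)`, `k ≠ 0`,
to another one fixes the root `2a+b` (helper25). -/

set_option autoImplicit false
set_option maxRecDepth 100000

namespace Cfsg.Agent.Lib.Helper25.G2Inv

open Cfsg Cfsg.Lie Matrix
open Cfsg.Agent.Lib.Helper7
open Cfsg.Agent.Lib.Helper25.HRow

/-- table check for a triple of roots `(p₉, p₁₀, p₁₁)`, images of `(2a+b, 3a+b, 3a+2b)` under an
element of the Weyl group not fixing `2a+b` -/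
def triBadB (p9 p10 p11 : ℕ) : Bool :=
  decide (p9 < 12) && decide (p10 < 12) && decide (p11 < 12) &&
    rowFixB chevG2 p10 (chevG2.negIdx.getD p9 0) && rowFixB chevG2 p11 (chevG2.negIdx.getD p9 0) &&
    rowFixB chevG2 p11 (chevG2.negIdx.getD p10 0) &&
    (chevG2.negIdx.getD p9 0 != chevG2.negIdx.getD p10 0) &&
    (chevG2.negIdx.getD p9 0 != chevG2.negIdx.getD p11 0) &&
    (chevG2.negIdx.getD p9 0 != 2) && (chevG2.negIdx.getD p9 0 != 1) && (chevG2.negIdx.getD p9 0 != 0)

theorem weyl_tab : ∀ e ∈ nfFin weylChain_G2.levels,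
    triBadB ((nfPerm 12 weylChain_G2.levels e).getD 9 0) ((nfPerm 12 weylChain_G2.levels e).getD 10 0)
      ((nfPerm 12 weylChain_G2.levels e).getD 11 0) = true ∨
    nfPerm 12 weylChain_G2.levels e = List.range 12 ∨
    nfPerm 12 weylChain_G2.levels e = (List.range 12).map (chevG2.reflectRoot 1) := by decide +kernel

/-- an element of the Weyl group of `G₂` is the identity, the reflection in `b`, or moves `2a+b` to a
"bad" position -/
theorem weyl_cases (L : List ℕ) (hL : ∀ i ∈ L, i < 2) :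
    triBadB (reflWord chevG2 L 9) (reflWord chevG2 L 10) (reflWord chevG2 L 11) = true ∨
      (∀ s < 12, reflWord chevG2 L s = s) ∨ (∀ s < 12, reflWord chevG2 L s = chevG2.reflectRoot 1 s) := by
  have hE := weylEnum_of_chain chevG2 weylChain_G2 weylChainOKB_G2
  obtain ⟨e, he, hp⟩ := enum_word chevG2 _ _ _ _ hE L hL
  have hp' : nfPerm 12 weylChain_G2.levels e = (List.range 12).map (reflWord chevG2 L) := hp
  have h1 := weyl_tab e he
  rw [hp', getD_map_range _ _ _ (by decide : 9 < 12), getD_map_range _ _ _ (by decide : 10 < 12),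
    getD_map_range _ _ _ (by decide : 11 < 12)] at h1
  rcases h1 with h1 | h1 | h1
  · exact Or.inl h1
  · right; left
    intro s hs
    have := congrArg (fun l : List ℕ => l.getD s 0) h1
    simp only [getD_map_range _ _ _ hs] at this
    rw [this]
    simp [List.getD_eq_getElem?_getD, hs]
  · right; right
    intro s hs
    have := congrArg (fun l : List ℕ => l.getD s 0) h1
    simp only [getD_map_range _ _ _ hs] at this
    exact this

theorem rowFix_q3 : rowFixB chevG2 10 2 = true ∧ rowFixB chevG2 11 2 = true ∧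
    rowFixB chevG2 11 1 = true := by decide +kernel

section
variable (F : Type*) [Field F]

local notation "X" => xGL chevG2 mem_G2 F

theorem nonInt_q3 (k α β : F) : NonInt chevG2 F [(9, k), (10, α), (11, β)] := by
  unfold NonInt
  refine List.pairwise_cons.mpr ⟨?_, List.pairwise_cons.mpr ⟨?_, List.pairwise_cons.mpr ⟨?_, List.Pairwise.nil⟩⟩⟩
  · intro e he
    simp only [List.mem_cons, List.not_mem_nil, or_false] at he
    rcases he with rfl | rfl
    · exact rowFix_q3.1
    · exact rowFix_q3.2.1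
  · intro e he
    simp only [List.mem_cons, List.not_mem_nil, or_false] at he
    subst he
    exact rowFix_q3.2.2
  · intro e he
    simp at he

/-- the key uniqueness statement -/
theorem key (p9 p10 p11 : ℕ) (hbad : triBadB p9 p10 p11 = true) (e1 a2 a3 k α β : F)
    (heq : wordGL chevG2 mem_G2 F [(p9, e1), (p10, a2), (p11, a3)] = q3 F k α β) : e1 = 0 := by
  unfold triBadB at hbad
  simp only [Bool.and_eq_true, decide_eq_true_eq, bne_iff_ne] at hbad
  obtain ⟨⟨⟨⟨⟨⟨⟨⟨⟨⟨h9, h10⟩, h11⟩, hf1⟩, hf2⟩, hf3⟩, hn1⟩, hn2⟩, hn3⟩, hn4⟩, hn5⟩ := hbad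
  have hni : NonInt chevG2 F [(p9, e1), (p10, a2), (p11, a3)] := by
    unfold NonInt
    refine List.pairwise_cons.mpr ⟨?_, List.pairwise_cons.mpr ⟨?_, List.pairwise_cons.mpr ⟨?_, List.Pairwise.nil⟩⟩⟩
    · intro e he
      simp only [List.mem_cons, List.not_mem_nil, or_false] at he
      rcases he with rfl | rfl
      · exact hf1
      · exact hf2
    · intro e he
      simp only [List.mem_cons, List.not_mem_nil, or_false] at he
      subst he
      exact hf3
    · intro e he
      simp at he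
  have hlt1 : ∀ e ∈ [(p9, e1), (p10, a2), (p11, a3)], e.1 < chevG2.nroots := by
    intro e he
    simp only [List.mem_cons, List.not_mem_nil, or_false] at he
    rcases he with rfl | rfl | rfl
    · exact h9
    · exact h10
    · exact h11
  have hlt2 : ∀ e ∈ [((9 : ℕ), k), (10, α), (11, β)], e.1 < chevG2.nroots := by
    intro e he
    simp only [List.mem_cons, List.not_mem_nil, or_false] at he
    rcases he with rfl | rfl | rfl
    · show (9 : ℕ) < chevG2.nroots; decide
    · show (10 : ℕ) < chevG2.nroots; decide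
    · show (11 : ℕ) < chevG2.nroots; decide
  rw [q3_eq_word] at heq
  have hM : chevG2.wordMat F [(p9, e1), (p10, a2), (p11, a3)] =
      chevG2.wordMat F [(9, k), (10, α), (11, β)] := by
    rw [← coe_wordGL chevG2 mem_G2, ← coe_wordGL chevG2 mem_G2, heq]
  have hN := negOK_of_mem chevG2 mem_G2 p9 h9
  have hent : ∀ j : Fin chevG2.rank, (((chevG2.coroot.getD p9 #[]).getD j.val 0 : ℤ) : F) * e1 = 0 := by
    intro j
    have h1 := congrFun (congrFun hM (Sum.inl j)) (Sum.inr ⟨chevG2.negIdx.getD p9 0, hN.1⟩)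
    rw [wordMat_row_inl chevG2 mem_G2 F _ hlt1 hni, wordMat_row_inl chevG2 mem_G2 F _ hlt2 (nonInt_q3 F k α β)] at h1
    simp only [List.map_cons, List.map_nil, List.sum_cons, List.sum_nil] at h1
    have e9 : chevG2.negIdx.getD 9 0 = 2 := by decide
    have e10 : chevG2.negIdx.getD 10 0 = 1 := by decide
    have e11 : chevG2.negIdx.getD 11 0 = 0 := by decide
    rw [if_pos trivial, if_neg hn1, if_neg hn2, e9, e10, e11, if_neg hn3, if_neg hn4, if_neg hn5] at h1
    simpa using h1
  obtain ⟨w, hO⟩ := exists_ordW chevG2 mem_G2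
  have hg := gcdL_cast_mul_eq_zero e1 (corL chevG2 p9) (by
    intro x hx
    unfold corL at hx
    rw [List.mem_map] at hx
    obtain ⟨j, hj, rfl⟩ := hx
    exact hent ⟨j, List.mem_range.mp hj⟩)
  rw [hO.prim p9 h9] at hg
  simpa using hg

/-- conjugating the elements `q3` by an element of `N` -/
theorem conj_mono_q3 (n : GL chevG2.Idx F) (f : ℕ → ℕ) (hf : ActsAs chevG2 mem_G2 F n f) :
    ∃ c1 c2 c3 : F, c1 ≠ 0 ∧ c2 ≠ 0 ∧ c3 ≠ 0 ∧ ∀ k α β : F, n * q3 F k α β * n⁻¹ =
      wordGL chevG2 mem_G2 F [(f 9, c1 * k), (f 10, c2 * α), (f 11, c3 * β)] := by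
  obtain ⟨-, c1, hc1, h1⟩ := hf 9 (by decide)
  obtain ⟨-, c2, hc2, h2⟩ := hf 10 (by decide)
  obtain ⟨-, c3, hc3, h3⟩ := hf 11 (by decide)
  refine ⟨c1, c2, c3, hc1, hc2, hc3, fun k α β => ?_⟩
  unfold q3
  have e : n * (X 9 k * X 10 α * X 11 β) * n⁻¹ =
      (n * X 9 k * n⁻¹) * (n * X 10 α * n⁻¹) * (n * X 11 β * n⁻¹) := by group
  rw [e, h1, h2, h3]
  unfold wordGL
  simp [mul_assoc]

end

end Cfsg.Agent.Lib.Helper25.G2Inv
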