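import Cfsg.Agent.Lib.Helper25.G2Inv2

/-! Type `G₂`, `3 ≠ 0` in the field: the centraliser of the short root element `x_{2a+b}(1)`
(helper25). -/

set_option autoImplicit false
set_option maxRecDepth 100000

namespace Cfsg.Agent.Lib.Helper25.G2Inv

open Cfsg Cfsg.Lie Matrix
open Cfsg.Agent.Lib.Helper7
open scoped Pointwise

theorem refl1_invol : ∀ s < 12, chevG2.reflectRoot 1 s < 12 ∧
    chevG2.reflectRoot 1 (chevG2.reflectRoot 1 s) = s := by decide +kernel

theorem range_rank_G2 : List.range chevG2.rank = [0, 1] := by decide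

section
variable (F : Type*) [Field F]

local notation "X" => xGL chevG2 mem_G2 F

/-- `⟨X_{2a+b}, X_{3a+b}, X_{3a+2b}, X_b, X_{-b}⟩` -/
def cGen : Subgroup (GL chevG2.Idx F) :=
  Subgroup.closure {g : GL chevG2.Idx F | ∃ s ∈ [9, 10, 11, 6, 5], ∃ c : F,
    (g : Matrix chevG2.Idx chevG2.Idx F) = chevG2.x F s c}

theorem xGL_mem_cGen (s : ℕ) (hs : s ∈ [9, 10, 11, 6, 5]) (c : F) : X s c ∈ cGen F :=
  Subgroup.subset_closure ⟨s, hs, c, coe_xGL chevG2 mem_G2 F s c⟩

theorem wordGL_mem_cGen (w : List (ℕ × F)) (hw : ∀ e ∈ w, e.1 ∈ [9, 10, 11, 6, 5]) :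
    wordGL chevG2 mem_G2 F w ∈ cGen F := by
  unfold wordGL
  apply Subgroup.list_prod_mem
  intro g hg
  rw [List.mem_map] at hg
  obtain ⟨e, he, rfl⟩ := hg
  exact xGL_mem_cGen F e.1 (hw e he) e.2

theorem cGen_le_group : cGen F ≤ chevG2.group F := by
  unfold cGen
  rw [Subgroup.closure_le]
  rintro g ⟨s, -, c, hgm⟩
  have hg' : g = X s c := Units.ext (by rw [hgm, coe_xGL])
  rw [hg']
  exact xGL_mem_group chevG2 mem_G2 F s c

/-- `cGen` centralises `x_{2a+b}(1)` -/
theorem cGen_comm (r : GL chevG2.Idx F) (hr : r ∈ cGen F) : r * X 9 1 = X 9 1 * r := by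
  have hle : cGen F ≤ Subgroup.centralizer {X 9 1} := by
    unfold cGen
    rw [Subgroup.closure_le]
    rintro g ⟨s, hs, c, hgm⟩
    have hg' : g = X s c := Units.ext (by rw [hgm, coe_xGL])
    rw [hg']
    show X s c ∈ Subgroup.centralizer {X 9 1}
    rw [Subgroup.mem_centralizer_singleton_iff]
    simp only [List.mem_cons, List.not_mem_nil, or_false] at hs
    rcases hs with rfl | rfl | rfl | rfl | rfl
    · exact (commute_xGL_same chevG2 mem_G2 F 9 c 1).eq
    · exact ((c9_10 F 1 c).symm).eq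
    · exact ((c9_11 F 1 c).symm).eq
    · exact ((c9_6 F 1 c).symm).eq
    · exact ((c9_5 F 1 c).symm).eq
  have := hle hr
  rwa [Subgroup.mem_centralizer_singleton_iff] at this

theorem cartan_G2_9 : chevG2.cartan 0 9 = 1 ∧ chevG2.cartan 1 9 = 0 ∧ chevG2.simple 0 = 7 ∧
    chevG2.simple 1 = 6 ∧ chevG2.neg 6 = 5 ∧ chevG2.rank = 2 := by decide

variable (h3 : (3 : F) ≠ 0)
include h3

/-- the centraliser of `x_{2a+b}(1)` in the Borel subgroup -/
theorem borel_cent_le (b : GL chevG2.Idx F) (hb : b ∈ chevG2.borelSubgroup F)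
    (hbt : b * X 9 1 = X 9 1 * b) : b ∈ cGen F := by
  have hb' : b ∈ ((chevG2.borelSubgroup F : Subgroup (GL chevG2.Idx F)) : Set (GL chevG2.Idx F)) := hb
  rw [borel_eq_mul chevG2 mem_G2 F] at hb'
  obtain ⟨h, hh, u, hu, rfl⟩ := Set.mem_mul.mp hb'
  obtain ⟨c', hc', hhm⟩ := mem_diagonalSubgroup_prodChar chevG2 mem_G2 F h hh
  have hχ := chainChar_prodChar chevG2 mem_G2 F (List.range chevG2.rank)
    (fun i hi => List.mem_range.mp hi) c' hc'
  obtain ⟨a, b', c, d, e, f, hueq, hconj⟩ := conj_posUnipotent F u hu 1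
  have hq : q3 F (prodChar chevG2 F (List.range chevG2.rank) c' 9 * 1)
      (prodChar chevG2 F (List.range chevG2.rank) c' 10 * (3 * a * 1))
      (prodChar chevG2 F (List.range chevG2.rank) c' 11 * (3 * c * 1)) = q3 F 1 0 0 := by
    rw [← conj_diag_q3 F h _ hχ hhm, ← hconj]
    have e1 : h * (u * X 9 1 * u⁻¹) * h⁻¹ = (h * u * X 9 1) * (h * u)⁻¹ := by group
    rw [e1, hbt]
    unfold q3
    rw [xGL_zero, xGL_zero]
    group
  obtain ⟨hk, hα, hβ⟩ := q3_inj F _ _ _ _ _ _ hq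
  have hχ10 := hχ.ne0 10 (by decide)
  have hχ11 := hχ.ne0 11 (by decide)
  have ha : a = 0 := by
    rcases mul_eq_zero.mp hα with h0 | h0
    · exact absurd h0 hχ10
    · rcases mul_eq_zero.mp h0 with h1 | h1
      · rcases mul_eq_zero.mp h1 with h2 | h2
        · exact absurd h2 h3
        · exact h2
      · exact absurd h1 one_ne_zero
  have hc : c = 0 := by
    rcases mul_eq_zero.mp hβ with h0 | h0
    · exact absurd h0 hχ11
    · rcases mul_eq_zero.mp h0 with h1 | h1
      · rcases mul_eq_zero.mp h1 with h2 | h2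
        · exact absurd h2 h3
        · exact h2
      · exact absurd h1 one_ne_zero
  apply Subgroup.mul_mem
  · -- the diagonal part
    have hc0 : c' 0 = 1 := by
      have : prodChar chevG2 F (List.range chevG2.rank) c' 9 = c' 0 := by
        unfold prodChar
        rw [range_rank_G2]
        simp [cartan_G2_9.1, cartan_G2_9.2.1]
      rw [mul_one, this] at hk
      exact hk
    have hh' : h = wordGL chevG2 mem_G2 F
        ((List.range chevG2.rank).flatMap fun i => chevG2.hWord (chevG2.simple i) (c' i)) := by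
      apply Units.ext
      rw [coe_wordGL, hhm, wordMat_flatMap_hWord chevG2 mem_G2 F c' _
        (fun i hi => ⟨List.mem_range.mp hi, hc' i⟩)]
    rw [hh', range_rank_G2]
    have : ([0, 1] : List ℕ).flatMap (fun i => chevG2.hWord (chevG2.simple i) (c' i)) =
        chevG2.hWord (chevG2.simple 0) (c' 0) ++ chevG2.hWord (chevG2.simple 1) (c' 1) := by
      simp
    rw [this, wordGL_append, hc0, hGL_one, one_mul, cartan_G2_9.2.2.2.1]
    apply wordGL_mem_cGen
    intro e he
    unfold ChevalleyDatum.hWord ChevalleyDatum.nWord at he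
    rw [cartan_G2_9.2.2.2.2.1] at he
    simp only [List.cons_append, List.nil_append, List.mem_cons, List.not_mem_nil, or_false] at he
    rcases he with rfl | rfl | rfl | rfl | rfl | rfl <;> simp
  · -- the unipotent part
    rw [hueq, ha, hc, ordProd_c6fn, xGL_zero, xGL_zero, one_mul, one_mul]
    exact Subgroup.mul_mem _ (xGL_mem_cGen F 6 (by simp) _)
      (Subgroup.mul_mem _ (Subgroup.mul_mem _ (xGL_mem_cGen F 9 (by simp) _)
        (xGL_mem_cGen F 10 (by simp) _)) (xGL_mem_cGen F 11 (by simp) _))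

/-- the centraliser of `x_{2a+b}(1)` in `G₂(F)` -/
theorem cent_le (g : GL chevG2.Idx F) (hgG : g ∈ chevG2.group F) (hgt : g * X 9 1 = X 9 1 * g) :
    g ∈ cGen F := by
  obtain ⟨b, hb, n, hn, u, hu, hgeq⟩ := canon_exists chevG2 mem_G2 F g hgG
  have huU := uMinus_le_posUnipotent chevG2 F n hu
  obtain ⟨L, hL, hact⟩ := exists_actsAs chevG2 mem_G2 F n hn
  obtain ⟨a, b', c, d, e, f, -, hconj⟩ := conj_posUnipotent F u huU 1
  obtain ⟨k, α, β, hk, hbc⟩ := conj_borel F b⁻¹ (Subgroup.inv_mem _ hb)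
  obtain ⟨c1, c2, c3, hc1, hc2, hc3, hnc⟩ := conj_mono_q3 F n _ hact
  have keyeq : n * (u * X 9 1 * u⁻¹) * n⁻¹ = b⁻¹ * X 9 1 * b⁻¹⁻¹ := by
    have e1 : b * n * u * X 9 1 = X 9 1 * (b * n * u) := by rw [← hgeq]; exact hgt
    calc n * (u * X 9 1 * u⁻¹) * n⁻¹ = b⁻¹ * (b * n * u * X 9 1) * u⁻¹ * n⁻¹ := by group
      _ = b⁻¹ * (X 9 1 * (b * n * u)) * u⁻¹ * n⁻¹ := by rw [e1]
      _ = b⁻¹ * X 9 1 * b⁻¹⁻¹ := by group
  rw [hconj, hnc, hbc] at keyeq
  have hL' : ∀ i ∈ L, i < 2 := hL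
  -- the cases for the image of `n` in the Weyl group
  have hcases : g ∈ ((chevG2.borelSubgroup F : Subgroup (GL chevG2.Idx F)) : Set (GL chevG2.Idx F)) ∨
      ∃ b₁ ∈ chevG2.borelSubgroup F, ∃ u₁ ∈ chevG2.posUnipotent F,
        g = b₁ * nFund chevG2 mem_G2 F 1 * u₁ := by
    rcases weyl_cases L hL' with hbad | hid | hrefl
    · exfalso
      have := key F _ _ _ hbad _ _ _ _ _ _ keyeq
      rw [mul_one] at this
      exact hc1 this
    · left
      have hnH := mem_diagonal_of_actsAs_id chevG2 mem_G2 F n hn _ hact hid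
      rw [hgeq]
      exact Subgroup.mul_mem _ (Subgroup.mul_mem _ hb (diagonal_le_borel chevG2 mem_G2 F hnH))
        (posUnipotent_le_borel chevG2 mem_G2 F huU)
    · right
      have hact' : ActsAs chevG2 mem_G2 F (n * (nFund chevG2 mem_G2 F 1)⁻¹)
          (reflWord chevG2 L ∘ chevG2.reflectRoot 1) :=
        ActsAs.mul chevG2 F hact (actsAs_nFund_inv chevG2 mem_G2 F 1 (by decide))
      have hid : ∀ s < chevG2.nroots, (reflWord chevG2 L ∘ chevG2.reflectRoot 1) s = s := by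
        intro s hs
        have hs' : s < 12 := hs
        show reflWord chevG2 L (chevG2.reflectRoot 1 s) = s
        rw [hrefl _ (refl1_invol s hs').1, (refl1_invol s hs').2]
      have hnN : n * (nFund chevG2 mem_G2 F 1)⁻¹ ∈ chevG2.monomialSubgroup F :=
        Subgroup.mul_mem _ hn (Subgroup.inv_mem _ (nFund_mem_monomial chevG2 mem_G2 F 1 (by decide)))
      have hnH := mem_diagonal_of_actsAs_id chevG2 mem_G2 F _ hnN _ hact' hid
      refine ⟨b * (n * (nFund chevG2 mem_G2 F 1)⁻¹),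
        Subgroup.mul_mem _ hb (diagonal_le_borel chevG2 mem_G2 F hnH), u, huU, ?_⟩
      rw [hgeq]
      group
  rcases hcases with hgB | ⟨b₁, hb₁, u₁, hu₁, hg1⟩
  · exact borel_cent_le F h3 g hgB hgt
  · -- `u₁ = u' x` with `u' ∈ U_b` and `x ∈ X_b`
    have hu₁' : u₁ ∈ ((upSubgroup chevG2 F 1 ⊔ chevG2.rootSubgroup F (chevG2.simple 1) :
        Subgroup (GL chevG2.Idx F)) : Set (GL chevG2.Idx F)) := by
      rw [up_sup_rootSubgroup chevG2 mem_G2 F 1 (by decide)]
      exact hu₁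
    rw [Subgroup.coe_mul_of_right_le_normalizer_left _ _
      (le_trans le_sup_left (rootSubgroup_le_normalizer_up chevG2 mem_G2 F 1 (by decide)))] at hu₁'
    obtain ⟨u', hu', x, hx, rfl⟩ := Set.mem_mul.mp hu₁'
    obtain ⟨β', rfl⟩ := (mem_rootSubgroup_iff chevG2 mem_G2 F _ x).mp hx
    rw [cartan_G2_9.2.2.2.1] at hg1
    have hsn := nFund_mem_normalizer_up chevG2 mem_G2 F 1 (by decide)
    have hconj' : nFund chevG2 mem_G2 F 1 * u' * (nFund chevG2 mem_G2 F 1)⁻¹ ∈ upSubgroup chevG2 F 1 :=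
      (Subgroup.mem_normalizer_iff.mp hsn u').mp hu'
    have hupU : upSubgroup chevG2 F 1 ≤ chevG2.posUnipotent F := by
      rw [← up_sup_rootSubgroup chevG2 mem_G2 F 1 (by decide)]
      exact le_sup_left
    have hl : nFund chevG2 mem_G2 F 1 * X 6 β' ∈ cGen F := by
      apply Subgroup.mul_mem _ _ (xGL_mem_cGen F 6 (by simp) _)
      unfold nFund
      apply wordGL_mem_cGen
      intro e he
      unfold ChevalleyDatum.nWord at he
      rw [cartan_G2_9.2.2.2.1, cartan_G2_9.2.2.2.2.1] at he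
      simp only [List.mem_cons, List.not_mem_nil, or_false] at he
      rcases he with rfl | rfl | rfl <;> simp
    have hb₂ : b₁ * (nFund chevG2 mem_G2 F 1 * u' * (nFund chevG2 mem_G2 F 1)⁻¹) ∈
        chevG2.borelSubgroup F :=
      Subgroup.mul_mem _ hb₁ (posUnipotent_le_borel chevG2 mem_G2 F (hupU hconj'))
    have hg2 : g = b₁ * (nFund chevG2 mem_G2 F 1 * u' * (nFund chevG2 mem_G2 F 1)⁻¹) *
        (nFund chevG2 mem_G2 F 1 * X 6 β') := by
      rw [hg1]; group
    have hlt := cGen_comm F _ hl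
    have hb₂t : b₁ * (nFund chevG2 mem_G2 F 1 * u' * (nFund chevG2 mem_G2 F 1)⁻¹) * X 9 1 =
        X 9 1 * (b₁ * (nFund chevG2 mem_G2 F 1 * u' * (nFund chevG2 mem_G2 F 1)⁻¹)) := by
      have e1 : b₁ * (nFund chevG2 mem_G2 F 1 * u' * (nFund chevG2 mem_G2 F 1)⁻¹) =
          g * (nFund chevG2 mem_G2 F 1 * X 6 β')⁻¹ := by rw [hg2]; group
      rw [e1]
      have e2 : (nFund chevG2 mem_G2 F 1 * X 6 β')⁻¹ * X 9 1 =
          X 9 1 * (nFund chevG2 mem_G2 F 1 * X 6 β')⁻¹ := by
        rw [inv_mul_eq_iff_eq_mul, ← mul_assoc, hlt, mul_assoc, mul_inv_cancel, mul_one]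
      rw [mul_assoc, e2, ← mul_assoc, hgt, mul_assoc]
    rw [hg2]
    exact Subgroup.mul_mem _ (borel_cent_le F h3 _ hb₂ hb₂t) hl

omit h3 in
/-- `cGen` as a supremum of root subgroups -/
theorem cGen_eq_sup : cGen F = chevG2.rootSubgroup F 9 ⊔ chevG2.rootSubgroup F 10 ⊔
    chevG2.rootSubgroup F 11 ⊔ chevG2.rootSubgroup F 6 ⊔ chevG2.rootSubgroup F 5 := by
  unfold cGen ChevalleyDatum.rootSubgroup
  apply le_antisymm
  · rw [Subgroup.closure_le]
    rintro g ⟨s, hs, t, hg⟩
    simp only [List.mem_cons, List.not_mem_nil, or_false] at hs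
    rcases hs with rfl | rfl | rfl | rfl | rfl
    · exact (le_trans (le_trans (le_trans le_sup_left le_sup_left) le_sup_left) le_sup_left :
        Subgroup.closure _ ≤ _) (Subgroup.subset_closure ⟨t, hg⟩)
    · exact (le_trans (le_trans (le_trans le_sup_right le_sup_left) le_sup_left) le_sup_left :
        Subgroup.closure _ ≤ _) (Subgroup.subset_closure ⟨t, hg⟩)
    · exact (le_trans (le_trans le_sup_right le_sup_left) le_sup_left :
        Subgroup.closure _ ≤ _) (Subgroup.subset_closure ⟨t, hg⟩)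
    · exact (le_trans le_sup_right le_sup_left : Subgroup.closure _ ≤ _)
        (Subgroup.subset_closure ⟨t, hg⟩)
    · exact (le_sup_right : Subgroup.closure _ ≤ _) (Subgroup.subset_closure ⟨t, hg⟩)
  · have hsub : ∀ s ∈ [9, 10, 11, 6, 5], Subgroup.closure {g : GL chevG2.Idx F | ∃ t : F,
        (g : Matrix chevG2.Idx chevG2.Idx F) = chevG2.x F s t} ≤ Subgroup.closure
          {g : GL chevG2.Idx F | ∃ s ∈ [9, 10, 11, 6, 5], ∃ c : F,
            (g : Matrix chevG2.Idx chevG2.Idx F) = chevG2.x F s c} := by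
      intro s hs
      apply Subgroup.closure_mono
      rintro g ⟨t, hg⟩
      exact ⟨s, hs, t, hg⟩
    exact sup_le (sup_le (sup_le (sup_le (hsub 9 (by simp)) (hsub 10 (by simp))) (hsub 11 (by simp)))
      (hsub 6 (by simp))) (hsub 5 (by simp))

/-- the centraliser in `G₂(F)` of the short root element `x_{2a+b}(1)` -/
theorem centralizer_short (t : GL chevG2.Idx F)
    (ht : (t : Matrix chevG2.Idx chevG2.Idx F) = chevG2.x F 9 1) :
    chevG2.group F ⊓ Subgroup.centralizer {t} = chevG2.rootSubgroup F 9 ⊔ chevG2.rootSubgroup F 10 ⊔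
      chevG2.rootSubgroup F 11 ⊔ chevG2.rootSubgroup F 6 ⊔ chevG2.rootSubgroup F 5 := by
  have ht' : t = X 9 1 := Units.ext (by rw [ht, coe_xGL])
  rw [← cGen_eq_sup, ht']
  apply le_antisymm
  · intro g hg
    rw [Subgroup.mem_inf, Subgroup.mem_centralizer_singleton_iff] at hg
    exact cent_le F h3 g hg.1 hg.2
  · intro r hr
    rw [Subgroup.mem_inf, Subgroup.mem_centralizer_singleton_iff]
    exact ⟨cGen_le_group F hr, cGen_comm F r hr⟩

end

end Cfsg.Agent.Lib.Helper25.G2Inv
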