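import Cfsg.Agent.Lib.Helper25.MaxTS

set_option autoImplicit false

/-!
# Parity of maps of the subspace lattice preserving totally singular subspaces

An abstract version of the parity character: a map `Φ` on subspaces preserving total singularity,
dimensions and dimensions of intersections either fixes or interchanges the two families of
maximal totally singular subspaces of a hyperbolic quadratic space.
-/

namespace Cfsg.Agent.Lib.Helper25.GFld

open Module QuadraticMap Cfsg.Agent.Lib.Helper25.MaxTS

section abstract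

variable {F V : Type*} [Field F] [AddCommGroup V] [Module F V]
variable (Q : QuadraticForm F V)

/-- a map of the subspace lattice preserving total singularity, dimensions and dimensions of
intersections -/
structure IsGeo (Φ : Submodule F V → Submodule F V) : Prop where
  ts : ∀ U, TS Q U → TS Q (Φ U)
  rank : ∀ U, finrank F (Φ U) = finrank F U
  inf : ∀ U W, finrank F (Φ U ⊓ Φ W : Submodule F V) = finrank F (U ⊓ W : Submodule F V)

/-- the parity of `Φ` measured on `U` -/
def par (n : ℕ) (Φ : Submodule F V → Submodule F V) (U : Submodule F V) : Prop :=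
  Even (n - finrank F (U ⊓ Φ U : Submodule F V))

variable {Q}

theorem isGeo_id : IsGeo Q id := ⟨fun _ h => h, fun _ => rfl, fun _ _ => rfl⟩

theorem IsGeo.comp {Φ Ψ : Submodule F V → Submodule F V} (hΦ : IsGeo Q Φ) (hΨ : IsGeo Q Ψ) :
    IsGeo Q (Φ ∘ Ψ) :=
  ⟨fun U h => hΦ.ts _ (hΨ.ts U h), fun U => (hΦ.rank _).trans (hΨ.rank U),
    fun U W => (hΦ.inf _ _).trans (hΨ.inf U W)⟩

theorem par_id {n : ℕ} {U : Submodule F V} (hUm : finrank F U = n) : par n id U := by
  unfold par
  rw [id, inf_idem, hUm, Nat.sub_self]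
  exact Even.zero

variable [FiniteDimensional F V]

/-- the parity does not depend on the maximal totally singular subspace -/
theorem par_indep (hQ : (polarBilin Q).Nondegenerate) {n : ℕ} (hdim : finrank F V = n + n)
    {Φ : Submodule F V → Submodule F V} (hΦ : IsGeo Q Φ) {U W : Submodule F V} (hU : TS Q U)
    (hUm : finrank F U = n) (hW : TS Q W) (hWm : finrank F W = n) :
    par n Φ U ↔ par n Φ W := by
  unfold par
  have hgU := hΦ.ts U hU
  have hgW := hΦ.ts W hW
  have hgUm : finrank F (Φ U) = n := (hΦ.rank U).trans hUm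
  have hgWm : finrank F (Φ W) = n := (hΦ.rank W).trans hWm
  have p1 := parity hQ hdim hU hUm hW hWm hgW hgWm
  have p2 := parity hQ hdim hU hUm hgU hgUm hgW hgWm
  rw [hΦ.inf] at p2
  have b1 : finrank F (U ⊓ W : Submodule F V) ≤ n := by
    rw [← hUm]; exact Submodule.finrank_mono inf_le_left
  have b2 : finrank F (W ⊓ Φ W : Submodule F V) ≤ n := by
    rw [← hWm]; exact Submodule.finrank_mono inf_le_left
  have b3 : finrank F (U ⊓ Φ W : Submodule F V) ≤ n := by
    rw [← hUm]; exact Submodule.finrank_mono inf_le_left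
  have b4 : finrank F (U ⊓ Φ U : Submodule F V) ≤ n := by
    rw [← hUm]; exact Submodule.finrank_mono inf_le_left
  rw [Nat.even_iff] at p1 p2 ⊢
  rw [Nat.even_iff]
  omega

/-- multiplicativity of the parity -/
theorem par_comp (hQ : (polarBilin Q).Nondegenerate) {n : ℕ} (hdim : finrank F V = n + n)
    {Φ Ψ : Submodule F V → Submodule F V} (hΦ : IsGeo Q Φ) (hΨ : IsGeo Q Ψ)
    {U : Submodule F V} (hU : TS Q U) (hUm : finrank F U = n) :
    par n (Φ ∘ Ψ) U ↔ (par n Φ U ↔ par n Ψ U) := by
  unfold par
  rw [Function.comp_apply]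
  have hhU := hΨ.ts U hU
  have hhUm : finrank F (Ψ U) = n := (hΨ.rank U).trans hUm
  have hgU := hΦ.ts U hU
  have hgUm : finrank F (Φ U) = n := (hΦ.rank U).trans hUm
  have hghU := hΦ.ts _ hhU
  have hghUm : finrank F (Φ (Ψ U)) = n := (hΦ.rank _).trans hhUm
  have p := parity hQ hdim hU hUm hgU hgUm hghU hghUm
  rw [hΦ.inf] at p
  have b1 : finrank F (U ⊓ Φ U : Submodule F V) ≤ n := by
    rw [← hUm]; exact Submodule.finrank_mono inf_le_left
  have b2 : finrank F (U ⊓ Ψ U : Submodule F V) ≤ n := by
    rw [← hUm]; exact Submodule.finrank_mono inf_le_left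
  have b3 : finrank F (U ⊓ Φ (Ψ U) : Submodule F V) ≤ n := by
    rw [← hUm]; exact Submodule.finrank_mono inf_le_left
  rw [Nat.even_iff] at p ⊢
  rw [Nat.even_iff, Nat.even_iff]
  omega

end abstract

end Cfsg.Agent.Lib.Helper25.GFld
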