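import Cfsg.Agent.Lib.Helper25.GFld9

set_option autoImplicit false

/-!
# Conjugacy in the coset of a field or graph-field automorphism of order two (main theorem)
-/

namespace Cfsg.Agent.Lib.Helper25.GFld

open Module QuadraticMap Matrix Cfsg.Agent.Lib.Helper25.MaxTS Cfsg.Agent.Lib.Helper25.CD
  Cfsg.Agent.Lib.Helper25.GraphSplit Cfsg.Agent.Lib.Helper25.PSim Cfsg.Agent.Lib.Helper25.Spin
  Cfsg.Agent.Lib.Helper18.OrthFld Cfsg.Agent.Lib.Helper18.OrthPar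

universe u

section coset

variable {ι : Type} [Fintype ι] [DecidableEq ι] {F : Type u} [Field F] [Fintype F]
  (Q : QuadraticForm F (ι → F)) (k : ℕ) (L : (ι → F) ≃ₗ[F] (Fin (k + 1) ⊕ Fin (k + 1) → F))
  (hL : ∀ v, Cfsg.quadFormPlus (k + 1) F (L v) = Q v) (hQ : (polarBilin Q).Nondegenerate)
  (hn : 7 ≤ Fintype.card ι) (hcard : Fintype.card ι = 2 * (k + 1))
  {σ : RingAut F} (hfix : Qfix (⇑Q) σ) (hstd : SPres Q (k + 1) (1 : GL ι F) σ)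
  {φ : MulAut (Cfsg.POmega F ⇑Q)} (hφ : Cfsg.IsFieldAutPOmegaOf (⇑Q) σ φ)

include hL hQ hn hcard hfix hstd hφ in
/-- conjugacy by the image of the similarity group in the coset of `θ(t) φ` (order two) -/
theorem coset_conj_two_aux (hσ : orderOf σ = 2)
    (t : ↥(Cfsg.Geo.quadSimilarityGroup (F := F) ⇑Q)) (htσ : simF (⇑Q) hfix t = t)
    (ht2 : ∃ c : F, c ≠ 0 ∧ (((t * t).1 : GL ι F) : Matrix ι ι F) = c • (1 : Matrix ι ι F))
    (g : ↥(Cfsg.Geo.quadSimilarityGroup (F := F) ⇑Q))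
    (hg : Cfsg.PreservesSingularClasses ⇑Q ((g.1 : GL ι F) : Matrix ι ι F))
    (hord : (theta ⇑Q g * (theta ⇑Q t * φ)) ^ 2 = 1) :
    ∃ h : ↥(Cfsg.Geo.quadSimilarityGroup (F := F) ⇑Q),
      theta ⇑Q g * (theta ⇑Q t * φ) = theta ⇑Q h * (theta ⇑Q t * φ) * (theta ⇑Q h)⁻¹ := by
  have hne : Nonempty ι := by
    rw [← Fintype.card_pos_iff]
    omega
  have hφ2 : φ ^ 2 = 1 := by
    rw [pow_field_eq_one_iff Q hQ hn hfix hφ, ← hσ, pow_orderOf_eq_one]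
  set g' : ↥(Cfsg.Geo.quadSimilarityGroup (F := F) ⇑Q) := g * t with hg'
  have hgt : theta ⇑Q g * (theta ⇑Q t * φ) = theta ⇑Q g' * φ := by
    rw [hg', map_mul, mul_assoc]
  rw [hgt] at hord ⊢
  rw [pow_theta_field (⇑Q) hfix hφ, hφ2, mul_one] at hord
  obtain ⟨μ, hμ0, hμ⟩ := scalar_matrix_of_theta_eq_one Q hQ hn _ hord
  obtain ⟨c₁, hc₁⟩ := g'.2
  -- descent datum of `g'`
  obtain ⟨h₁, ν₁, a₁, hh₁, hν₁, ha₁, e₁, hfix₁, hnd₁⟩ := descent_datum σ 2 hσ (by norm_num) Q hQ hfix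
    (fun i => (((cocyc (⇑Q) hfix g' i).1 : GL ι F) : Matrix ι ι F))
    (by rw [cocyc_zero]; rfl)
    (by
      intro i
      rw [cocyc_succ, cocyc_one]
      rfl)
    μ hμ0 hμ (c₁ : F)
    (by
      intro v
      rw [cocyc_one]
      exact hc₁ v)
  rw [cocyc_one] at e₁
  -- descent datum of `t`
  obtain ⟨c₂, hc₂⟩ := t.2
  obtain ⟨ct, hct0, hct⟩ := ht2
  have hcoc2 : cocyc (⇑Q) hfix t 2 = t * t := by
    rw [cocyc_succ, cocyc_one, htσ]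
  obtain ⟨h₂, ν₂, a₂, hh₂, hν₂, ha₂, e₂, hfix₂, hnd₂⟩ := descent_datum σ 2 hσ (by norm_num) Q hQ hfix
    (fun i => (((cocyc (⇑Q) hfix t i).1 : GL ι F) : Matrix ι ι F))
    (by rw [cocyc_zero]; rfl)
    (by
      intro i
      rw [cocyc_succ, cocyc_one]
      rfl)
    ct hct0 (by rw [hcoc2]; exact hct) (c₂ : F)
    (by
      intro v
      rw [cocyc_one]
      exact hc₂ v)
  rw [cocyc_one] at e₂
  obtain ⟨H₁, rfl⟩ := hh₁
  obtain ⟨H₂, rfl⟩ := hh₂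
  -- the types agree
  have ht₁ := spres_descent_iff Q k L hL hQ hfix hstd g' H₁ ν₁ a₁ hν₁ ha₁ e₁
  have ht₂ := spres_descent_iff Q k L hL hQ hfix hstd t H₂ ν₂ a₂ hν₂ ha₂ e₂
  have hiff : SPres (a₁ • Q.comp (Matrix.toLin' (H₁ : Matrix ι ι F))) (k + 1) (1 : GL ι F) σ ↔
      SPres (a₂ • Q.comp (Matrix.toLin' (H₂ : Matrix ι ι F))) (k + 1) (1 : GL ι F) σ := by
    rw [ht₁, ht₂, hg', pres_mul' Q k L hL hQ g t]
    exact ⟨fun h => h.1 hg, fun h => ⟨fun _ => h, fun _ => hg⟩⟩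
  obtain ⟨M, d, hM, hMσ, hd, hMd⟩ := fixed_isometry_of_spres_iff σ _ hfix₁ _ hfix₂ hσ hnd₁ hnd₂ k
    hcard hiff
  obtain ⟨h, hh, hconj, hsimh⟩ := conj_of_similar σ Q ((g'.1 : GL ι F) : Matrix ι ι F)
    ((t.1 : GL ι F) : Matrix ι ι F) (H₁ : Matrix ι ι F) (H₂ : Matrix ι ι F) M ν₁ ν₂ a₁ a₂ d
    ⟨H₁, rfl⟩ ⟨H₂, rfl⟩ hM ⟨t.1, rfl⟩ hMσ hν₂ ha₁ e₁ e₂
    (by
      intro v
      have := hMd v
      rw [_root_.smul_apply, _root_.smul_apply, smul_eq_mul, smul_eq_mul, QuadraticMap.comp_apply,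
        QuadraticMap.comp_apply, Matrix.toLin'_apply, Matrix.toLin'_apply] at this
      exact this)
  obtain ⟨hG, rfl⟩ := hh
  have hmul0 : d * a₂ / a₁ ≠ 0 := div_ne_zero (mul_ne_zero hd ha₂) ha₁
  have hmem : hG ∈ Cfsg.Geo.quadSimilarityGroup (F := F) ⇑Q := ⟨Units.mk0 _ hmul0, hsimh⟩
  refine ⟨⟨hG, hmem⟩, ?_⟩
  rw [conj_theta_twisted Q hfix hφ]
  congr 1
  have h1 : theta ⇑Q (g' * (⟨hG, hmem⟩ * t * (simF (⇑Q) hfix ⟨hG, hmem⟩)⁻¹)⁻¹) = 1 := by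
    apply theta_eq_one_of_scalar_matrix Q _ (ν₁ / ν₂)
    have e : ((g' * (⟨hG, hmem⟩ * t * (simF (⇑Q) hfix ⟨hG, hmem⟩)⁻¹)⁻¹ :
        ↥(Cfsg.Geo.quadSimilarityGroup (F := F) ⇑Q)) : GL ι F) =
        g'.1 * sigmaGL σ hG * (hG * t.1)⁻¹ := by
      rw [_root_.mul_inv_rev, inv_inv, ← mul_assoc]
      rfl
    rw [e, Units.val_mul, Units.val_mul, sigmaGL_coe, hconj, Matrix.smul_mul, ← Units.val_mul,
      ← Units.val_mul, mul_inv_cancel, Units.val_one]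
  rw [map_mul, map_inv, mul_inv_eq_one] at h1
  exact h1

end coset

end Cfsg.Agent.Lib.Helper25.GFld
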