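import Cfsg.Agent.Lib.Helper25.GFld10

set_option autoImplicit false

/-!
# The class-preserving similarities of a hyperbolic form (any characteristic) and their
normality in the automorphism group
-/

namespace Cfsg.Agent.Lib.Helper25.GFld

open Module QuadraticMap Matrix Cfsg.Agent.Lib.Helper25.MaxTS Cfsg.Agent.Lib.Helper25.CD
  Cfsg.Agent.Lib.Helper25.GraphSplit Cfsg.Agent.Lib.Helper25.PSim Cfsg.Agent.Lib.Helper25.Spin
  Cfsg.Agent.Lib.Helper18.OrthFld Cfsg.Agent.Lib.Helper18.OrthPar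

universe u

section pres

variable {ι : Type} [Fintype ι] [DecidableEq ι] {F : Type u} [Field F]
  (Q : QuadraticForm F (ι → F)) (k : ℕ) (L : (ι → F) ≃ₗ[F] (Fin (k + 1) ⊕ Fin (k + 1) → F))
  (hL : ∀ v, Cfsg.quadFormPlus (k + 1) F (L v) = Q v) (hQ : (polarBilin Q).Nondegenerate)

include hL hQ in
theorem pres_one' :
    Cfsg.PreservesSingularClasses ⇑Q
      (((1 : ↥(Cfsg.Geo.quadSimilarityGroup (F := F) ⇑Q)).1 : GL ι F) : Matrix ι ι F) :=
  pres_one (k + 1) Q L hL hQ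

include hL hQ in
theorem pres_inv' (g : ↥(Cfsg.Geo.quadSimilarityGroup (F := F) ⇑Q)) :
    Cfsg.PreservesSingularClasses ⇑Q (((g⁻¹).1 : GL ι F) : Matrix ι ι F) ↔
      Cfsg.PreservesSingularClasses ⇑Q ((g.1 : GL ι F) : Matrix ι ι F) := by
  have h := pres_mul' Q k L hL hQ g g⁻¹
  rw [mul_inv_cancel] at h
  have h1 := pres_one' Q k L hL hQ
  exact ⟨fun h2 => (h.1 h1).2 h2, fun h2 => (h.1 h1).1 h2⟩

/-- the class-preserving similarities -/
def presSub : Subgroup ↥(Cfsg.Geo.quadSimilarityGroup (F := F) ⇑Q) where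
  carrier := {g | Cfsg.PreservesSingularClasses ⇑Q ((g.1 : GL ι F) : Matrix ι ι F)}
  mul_mem' {a b} ha hb := (pres_mul' Q k L hL hQ a b).2 ⟨fun _ => hb, fun _ => ha⟩
  one_mem' := pres_one' Q k L hL hQ
  inv_mem' {a} ha := (pres_inv' Q k L hL hQ a).2 ha

theorem mem_presSub (g : ↥(Cfsg.Geo.quadSimilarityGroup (F := F) ⇑Q)) :
    g ∈ presSub Q k L hL hQ ↔
      Cfsg.PreservesSingularClasses ⇑Q ((g.1 : GL ι F) : Matrix ι ι F) := Iff.rfl

/-- the image of the class-preserving similarities in the automorphism group -/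
noncomputable def presAut : Subgroup (MulAut (Cfsg.POmega F ⇑Q)) :=
  (presSub Q k L hL hQ).map (theta ⇑Q)

include hL hQ in
/-- scalar matrices preserve the classes -/
theorem pres_of_scalar (g : ↥(Cfsg.Geo.quadSimilarityGroup (F := F) ⇑Q)) (c : F) (hc : c ≠ 0)
    (h : ((g.1 : GL ι F) : Matrix ι ι F) = c • (1 : Matrix ι ι F)) :
    Cfsg.PreservesSingularClasses ⇑Q ((g.1 : GL ι F) : Matrix ι ι F) := by
  rw [h, pres_smul (⇑Q) hc]
  have := pres_one' Q k L hL hQ
  rwa [show (((1 : ↥(Cfsg.Geo.quadSimilarityGroup (F := F) ⇑Q)).1 : GL ι F) : Matrix ι ι F) = 1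
    from rfl] at this

variable [Fintype F]

include hL hQ in
/-- membership in the image can be tested on any representative -/
theorem theta_mem_presAut_iff (hn : 7 ≤ Fintype.card ι)
    (g : ↥(Cfsg.Geo.quadSimilarityGroup (F := F) ⇑Q)) :
    theta ⇑Q g ∈ presAut Q k L hL hQ ↔
      Cfsg.PreservesSingularClasses ⇑Q ((g.1 : GL ι F) : Matrix ι ι F) := by
  constructor
  · rintro ⟨g', hg', h⟩
    have h1 : theta ⇑Q (g'⁻¹ * g) = 1 := by rw [map_mul, map_inv, h, inv_mul_cancel]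
    obtain ⟨c, hc0, hc⟩ := scalar_matrix_of_theta_eq_one Q hQ hn _ h1
    have h2 := pres_of_scalar Q k L hL hQ _ c hc0 hc
    have h3 : g = g' * (g'⁻¹ * g) := by rw [mul_inv_cancel_left]
    rw [h3]
    exact (presSub Q k L hL hQ).mul_mem hg' h2
  · intro h
    exact ⟨g, h, rfl⟩

end pres

section plus

variable {F : Type u} [Field F] (m : ℕ)

/-- `Inndiag(PΩ⁺_{2m}(F))` is the image of the class-preserving similarities (any
characteristic) -/
theorem inndiag_plus_eq (k : ℕ) :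
    Cfsg.inndiagPOmegaPlus (k + 1) F =
      presAut (Qp (k + 1) F) k (LinearEquiv.refl F _) (fun _ => rfl) (qfOf_nondeg _) := by
  unfold Cfsg.inndiagPOmegaPlus Cfsg.autSubgroupOf
  have hset : {β : MulAut (Cfsg.POmega F (Cfsg.quadFormPlus (k + 1) F)) |
      Cfsg.IsInnerDiagonalAutPOmegaPlus (k + 1) β} =
      ((presAut (Qp (k + 1) F) k (LinearEquiv.refl F _) (fun _ => rfl) (qfOf_nondeg _) :
        Subgroup (MulAut (Cfsg.POmega F ⇑(Qp (k + 1) F)))) :
        Set (MulAut (Cfsg.POmega F ⇑(Qp (k + 1) F)))) := by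
    ext β
    constructor
    · rintro ⟨g, hg, hpres, hind⟩
      have hβ := (induced_iff (⇑(Qp (k + 1) F)) g hg β).1 hind
      exact ⟨⟨g, hg⟩, hpres, hβ.symm⟩
    · rintro ⟨g, hg, rfl⟩
      exact ⟨g.1, g.2, hg, (induced_iff (⇑(Qp (k + 1) F)) g.1 g.2 _).2 rfl⟩
  rw [hset]
  exact Subgroup.closure_eq _

end plus

end Cfsg.Agent.Lib.Helper25.GFld
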