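import Cfsg.Agent.Lib.Helper25.GFld11

set_option autoImplicit false

/-!
# Invariance of the class-preserving condition under field automorphisms; normality of the
image of the class-preserving similarities
-/

namespace Cfsg.Agent.Lib.Helper25.GFld

open Module QuadraticMap Matrix Cfsg.Agent.Lib.Helper25.MaxTS Cfsg.Agent.Lib.Helper25.CD
  Cfsg.Agent.Lib.Helper25.GraphSplit Cfsg.Agent.Lib.Helper25.PSim Cfsg.Agent.Lib.Helper25.Spin
  Cfsg.Agent.Lib.Helper18.OrthFld Cfsg.Agent.Lib.Helper18.OrthPar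

universe u

section inv

variable {ι : Type} [Fintype ι] [DecidableEq ι] {F : Type u} [Field F]
  (Q : QuadraticForm F (ι → F)) (k : ℕ) (L : (ι → F) ≃ₗ[F] (Fin (k + 1) ⊕ Fin (k + 1) → F))
  (hL : ∀ v, Cfsg.quadFormPlus (k + 1) F (L v) = Q v) (hQ : (polarBilin Q).Nondegenerate)

include hL hQ in
/-- the Galois action preserves the class-preserving condition -/
theorem pres_sigma_iff {τ : RingAut F} (hfix : Qfix (⇑Q) τ)
    (hstd : SPres Q (k + 1) (1 : GL ι F) τ)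
    (g : ↥(Cfsg.Geo.quadSimilarityGroup (F := F) ⇑Q)) :
    Cfsg.PreservesSingularClasses ⇑Q (((simF (⇑Q) hfix g).1 : GL ι F) : Matrix ι ι F) ↔
      Cfsg.PreservesSingularClasses ⇑Q ((g.1 : GL ι F) : Matrix ι ι F) := by
  have hdim : finrank F (ι → F) = (k + 1) + (k + 1) := by
    rw [L.finrank_eq]
    exact finrank_plus (k + 1)
  have hp1 := pair_one (⇑Q) hfix
  have hpg := pair_of_sim (⇑Q) g.2
  have hpg' := pair_of_sim (⇑Q) (simF (⇑Q) hfix g).2
  have A := spres_mul hQ hdim hp1 hpg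
  have B := spres_mul hQ hdim hpg' hp1
  have e : (1 : GL ι F) * sigmaGL τ g.1 = (simF (⇑Q) hfix g).1 * sigmaGL (RingEquiv.refl F) 1 := by
    rw [one_mul, map_one, mul_one, simF_val]
  have e' : (RingEquiv.refl F).trans (τ : F ≃+* F) = (τ : F ≃+* F).trans (RingEquiv.refl F) := by
    apply RingEquiv.ext
    intro x
    rfl
  rw [e, e'] at A
  rw [A, spres_refl_iff (k + 1) Q L hL, spres_refl_iff (k + 1) Q L hL] at B
  constructor
  · intro h
    exact (B.2 ⟨fun _ => hstd, fun _ => h⟩).1 hstd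
  · intro h
    exact (B.1 ⟨fun _ => h, fun _ => hstd⟩).2 hstd

include hL hQ in
/-- conjugation inside the similarity group preserves the class-preserving condition -/
theorem pres_conj_iff (a b : ↥(Cfsg.Geo.quadSimilarityGroup (F := F) ⇑Q)) :
    Cfsg.PreservesSingularClasses ⇑Q (((a * b * a⁻¹).1 : GL ι F) : Matrix ι ι F) ↔
      Cfsg.PreservesSingularClasses ⇑Q ((b.1 : GL ι F) : Matrix ι ι F) := by
  have h1 := pres_mul' Q k L hL hQ (a * b) a⁻¹
  have h2 := pres_mul' Q k L hL hQ a b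
  have h3 := pres_inv' Q k L hL hQ a
  rw [h1, h2, h3]
  tauto

end inv

section normal

variable {ι : Type} [Fintype ι] [DecidableEq ι] {F : Type u} [Field F] [Fintype F]
  (Q : QuadraticForm F (ι → F)) (k : ℕ) (L : (ι → F) ≃ₗ[F] (Fin (k + 1) ⊕ Fin (k + 1) → F))
  (hL : ∀ v, Cfsg.quadFormPlus (k + 1) F (L v) = Q v) (hQ : (polarBilin Q).Nondegenerate)

/-- a semisimilarity of a form fixed by the field automorphism is a similarity -/
theorem sim_of_pair_fixed {g : GL ι F} {τ : F ≃+* F} (hfix : Qfix (⇑Q) (τ : RingAut F))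
    (h : Cfsg.IsSemisimilarityPair (⇑Q) g τ) :
    g ∈ Cfsg.Geo.quadSimilarityGroup (F := F) ⇑Q := by
  obtain ⟨c, hc⟩ := h
  refine ⟨c, fun w => ?_⟩
  have h1 := hc (fun i => τ.symm (w i))
  have e : (fun i => τ (τ.symm (w i))) = w := by
    funext i
    exact τ.apply_symm_apply _
  rw [e] at h1
  rw [h1, ← hfix, e]

/-- conjugating by an automorphism induced by a semisimilarity, explicit form -/
theorem pairAut_conj_theta_eq {β : MulAut (Cfsg.POmega F ⇑Q)} {g : GL ι F} {τ : F ≃+* F}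
    (hp : Cfsg.IsSemisimilarityPair (⇑Q) g τ)
    (hind : Cfsg.IsInducedBySemilinearPOmega (⇑Q) g τ β)
    (d : ↥(Cfsg.Geo.quadSimilarityGroup (F := F) ⇑Q)) :
    β * theta ⇑Q d * β⁻¹ = theta ⇑Q ⟨g * sigmaGL τ d.1 * g⁻¹, semi_conj_mem_sim (⇑Q) hp d.2⟩ := by
  have hmem := semi_conj_mem_sim (⇑Q) hp d.2
  rw [mul_inv_eq_iff_eq_mul]
  have hpk := pair_of_sim (⇑Q) d.2
  have hpk' := pair_of_sim (⇑Q) hmem
  have e1 := induced_mul (⇑Q) hp hpk hind (theta_induced (⇑Q) d)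
  have e2 := induced_mul (⇑Q) hpk' hp (theta_induced (⇑Q) ⟨_, hmem⟩) hind
  have hpair := pair_mul (⇑Q) hp hpk
  have e3 : (g * sigmaGL τ d.1 * g⁻¹) * sigmaGL (RingEquiv.refl F) g = g * sigmaGL τ d.1 := by
    rw [sigmaGL_refl, inv_mul_cancel_right]
  have e4 : τ.trans (RingEquiv.refl F) = (RingEquiv.refl F).trans τ := by
    apply RingEquiv.ext
    intro x
    rfl
  rw [e3, e4] at e2
  exact induced_unique (⇑Q) hpair e1 e2

include hL hQ in
/-- the image of the class-preserving similarities is normal in the automorphism group -/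
theorem presAut_normal (hn : 7 ≤ Fintype.card ι) (hqf : ∀ τ : RingAut F, Qfix (⇑Q) τ)
    (hstd : ∀ τ : RingAut F, SPres Q (k + 1) (1 : GL ι F) τ)
    (hgam : Cfsg.gammaPOmega F (⇑Q) = ⊤) : (presAut Q k L hL hQ).Normal := by
  constructor
  rintro _ ⟨d, hd, rfl⟩ α
  have hα : α ∈ Cfsg.gammaPOmega F (⇑Q) := by rw [hgam]; trivial
  obtain ⟨g, τ, hp, hind⟩ := isPairAut_of_mem_gamma (⇑Q) hα
  rw [pairAut_conj_theta_eq Q hp hind d, theta_mem_presAut_iff Q k L hL hQ hn]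
  have hg : g ∈ Cfsg.Geo.quadSimilarityGroup (F := F) ⇑Q := sim_of_pair_fixed Q (hqf τ) hp
  have e : (⟨g * sigmaGL τ d.1 * g⁻¹, semi_conj_mem_sim (⇑Q) hp d.2⟩ :
      ↥(Cfsg.Geo.quadSimilarityGroup (F := F) ⇑Q)) =
      ⟨g, hg⟩ * simF (⇑Q) (hqf τ) d * ⟨g, hg⟩⁻¹ := by
    apply Subtype.ext
    rfl
  rw [e, pres_conj_iff Q k L hL hQ, pres_sigma_iff Q k L hL hQ (hqf τ) (hstd τ)]
  exact hd

end normal

end Cfsg.Agent.Lib.Helper25.GFld
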