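import Cfsg.Agent.Lib.Helper25.GFld12

set_option autoImplicit false

/-!
# Conjugacy under the class-preserving similarities in the coset of a standard field or
graph-field automorphism of prime order
-/

namespace Cfsg.Agent.Lib.Helper25.GFld

open Module QuadraticMap Matrix Cfsg.Agent.Lib.Helper25.MaxTS Cfsg.Agent.Lib.Helper25.CD
  Cfsg.Agent.Lib.Helper25.GraphSplit Cfsg.Agent.Lib.Helper25.PSim Cfsg.Agent.Lib.Helper25.Spin
  Cfsg.Agent.Lib.Helper18.OrthFld Cfsg.Agent.Lib.Helper18.OrthPar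

universe u

section coset

variable {ι : Type} [Fintype ι] [DecidableEq ι] {F : Type u} [Field F] [Fintype F]
  (Q : QuadraticForm F (ι → F)) (k : ℕ) (L : (ι → F) ≃ₗ[F] (Fin (k + 1) ⊕ Fin (k + 1) → F))
  (hL : ∀ v, Cfsg.quadFormPlus (k + 1) F (L v) = Q v) (hQ : (polarBilin Q).Nondegenerate)
  (hn : 7 ≤ Fintype.card ι) (hcard : Fintype.card ι = 2 * (k + 1))
  {σ : RingAut F} (hfix : Qfix (⇑Q) σ) (hstd : SPres Q (k + 1) (1 : GL ι F) σ)
  {φ : MulAut (Cfsg.POmega F ⇑Q)} (hφ : Cfsg.IsFieldAutPOmegaOf (⇑Q) σ φ)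

include hL hQ hφ in
/-- the conjugating element can be taken class-preserving -/
theorem pres_adjust (t t' : ↥(Cfsg.Geo.quadSimilarityGroup (F := F) ⇑Q))
    (ht'σ : simF (⇑Q) hfix t' = t') (hcomm : t' * t = t * t')
    (ht' : ¬ Cfsg.PreservesSingularClasses ⇑Q ((t'.1 : GL ι F) : Matrix ι ι F))
    (h : ↥(Cfsg.Geo.quadSimilarityGroup (F := F) ⇑Q)) :
    ∃ h' ∈ presSub Q k L hL hQ, theta ⇑Q h' * (theta ⇑Q t * φ) * (theta ⇑Q h')⁻¹ =
      theta ⇑Q h * (theta ⇑Q t * φ) * (theta ⇑Q h)⁻¹ := by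
  by_cases hp : Cfsg.PreservesSingularClasses ⇑Q ((h.1 : GL ι F) : Matrix ι ι F)
  · exact ⟨h, hp, rfl⟩
  · refine ⟨h * t', ?_, ?_⟩
    · rw [mem_presSub, pres_mul' Q k L hL hQ]
      exact ⟨fun h1 => absurd h1 hp, fun h1 => absurd h1 ht'⟩
    · have h1 : theta ⇑Q t' * (theta ⇑Q t * φ) * (theta ⇑Q t')⁻¹ = theta ⇑Q t * φ := by
        rw [conj_theta_twisted Q hfix hφ, ht'σ, hcomm, mul_inv_cancel_right]
      rw [map_mul, _root_.mul_inv_rev]
      calc theta ⇑Q h * theta ⇑Q t' * (theta ⇑Q t * φ) * ((theta ⇑Q t')⁻¹ * (theta ⇑Q h)⁻¹)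
          = theta ⇑Q h * (theta ⇑Q t' * (theta ⇑Q t * φ) * (theta ⇑Q t')⁻¹) * (theta ⇑Q h)⁻¹ := by
            simp only [mul_assoc]
        _ = _ := by rw [h1]

include hL hQ hn hcard hfix hstd hφ in
/-- **order two**: an involution in the coset of `θ(t) φ` under the class-preserving
similarities is conjugate to `θ(t) φ` by a class-preserving similarity -/
theorem coset_conj_two (hσ : orderOf σ = 2)
    (t : ↥(Cfsg.Geo.quadSimilarityGroup (F := F) ⇑Q)) (htσ : simF (⇑Q) hfix t = t)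
    (ht2 : ∃ c : F, c ≠ 0 ∧ (((t * t).1 : GL ι F) : Matrix ι ι F) = c • (1 : Matrix ι ι F))
    (t' : ↥(Cfsg.Geo.quadSimilarityGroup (F := F) ⇑Q))
    (ht'σ : simF (⇑Q) hfix t' = t') (hcomm : t' * t = t * t')
    (ht' : ¬ Cfsg.PreservesSingularClasses ⇑Q ((t'.1 : GL ι F) : Matrix ι ι F))
    (g : ↥(Cfsg.Geo.quadSimilarityGroup (F := F) ⇑Q))
    (hg : Cfsg.PreservesSingularClasses ⇑Q ((g.1 : GL ι F) : Matrix ι ι F))
    (hord : (theta ⇑Q g * (theta ⇑Q t * φ)) ^ 2 = 1) :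
    ∃ h ∈ presSub Q k L hL hQ,
      theta ⇑Q g * (theta ⇑Q t * φ) = theta ⇑Q h * (theta ⇑Q t * φ) * (theta ⇑Q h)⁻¹ := by
  obtain ⟨h, hh⟩ := coset_conj_two_aux Q k L hL hQ hn hcard hfix hstd hφ hσ t htσ ht2 g hg hord
  obtain ⟨h', hh', e⟩ := pres_adjust Q k L hL hQ hfix hφ t t' ht'σ hcomm ht' h
  exact ⟨h', hh', by rw [e, hh]⟩

include hL hQ hn hcard hfix hφ in
/-- **odd order**: an element of order `r` in the coset of the standard field automorphism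
under the class-preserving similarities is conjugate to it by a class-preserving similarity -/
theorem coset_conj_odd (r : ℕ) (hσ : orderOf σ = r) (hr : Odd r)
    (t' : ↥(Cfsg.Geo.quadSimilarityGroup (F := F) ⇑Q))
    (ht'σ : simF (⇑Q) hfix t' = t')
    (ht' : ¬ Cfsg.PreservesSingularClasses ⇑Q ((t'.1 : GL ι F) : Matrix ι ι F))
    (g : ↥(Cfsg.Geo.quadSimilarityGroup (F := F) ⇑Q))
    (hord : (theta ⇑Q g * φ) ^ r = 1) :
    ∃ h ∈ presSub Q k L hL hQ, theta ⇑Q g * φ = theta ⇑Q h * φ * (theta ⇑Q h)⁻¹ := by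
  have hne : Nonempty ι := by
    rw [← Fintype.card_pos_iff]
    omega
  have hr0 : 0 < r := hr.pos
  obtain ⟨h, hh⟩ := field_coset_conj Q hQ hn hfix hφ r hσ hr0
    (fun Q' hQ' hfix' hsim =>
      fixed_similar_of_odd σ Q' Q hfix' hfix (by rw [hσ]; exact hr) hQ' hQ k hcard hsim)
    g hord
  obtain ⟨h', hh', e⟩ := pres_adjust Q k L hL hQ hfix hφ 1 t' ht'σ (by rw [mul_one, one_mul]) ht' h
  rw [map_one, one_mul] at e
  exact ⟨h', hh', by rw [e, hh]⟩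

end coset

end Cfsg.Agent.Lib.Helper25.GFld
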