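import Cfsg.Agent.Lib.Helper25.GFld13
import Cfsg.Agent.Lib.Helper18.OrthFldF

set_option autoImplicit false

/-!
# Reflections with fixed entries; graph-field automorphisms of prime order have order two
-/

namespace Cfsg.Agent.Lib.Helper25.GFld

open Module QuadraticMap Matrix Cfsg.Agent.Lib.Helper25.MaxTS Cfsg.Agent.Lib.Helper25.CD
  Cfsg.Agent.Lib.Helper25.GraphSplit Cfsg.Agent.Lib.Helper25.PSim Cfsg.Agent.Lib.Helper25.Spin
  Cfsg.Agent.Lib.Helper18.OrthFld Cfsg.Agent.Lib.Helper18.OrthPar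

universe u

section refl

variable {ι : Type} [Fintype ι] [DecidableEq ι] {F : Type u} [Field F]
  (Q : QuadraticForm F (ι → F)) {σ : RingAut F} (hfix : Qfix (⇑Q) σ)

/-- the reflection in `v` as a similarity -/
noncomputable def tRefl (v : ι → F) : ↥(Cfsg.Geo.quadSimilarityGroup (F := F) ⇑Q) :=
  incl (⇑Q) (reflM Q v)

theorem tRefl_coe (v : ι → F) :
    (((tRefl Q v).1 : GL ι F) : Matrix ι ι F) = Cfsg.reflectionMatrix (⇑Q) v := by
  unfold tRefl
  rw [incl_val, reflM_coe]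

theorem tRefl_mul_self (v : ι → F) : tRefl Q v * tRefl Q v = 1 := by
  unfold tRefl
  rw [← map_mul, reflM_mul_self, map_one]

theorem tRefl_sigma {v : ι → F} (hv : ∀ i, σ (v i) = v i) :
    simF (⇑Q) hfix (tRefl Q v) = tRefl Q v := by
  apply Subtype.ext
  apply Units.ext
  rw [simF_val, sigmaGL_coe, tRefl_coe]
  have h := reflectionMatrix_map ((σ : F ≃+* F) : F →+* F) Q Q (fun w => hfix w) v
  have e : ev ((σ : F ≃+* F) : F →+* F) v = v := by
    funext i
    exact hv i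
  rw [e] at h
  exact h

/-- an element of `GL` with the matrix of a reflection induces `θ` of the reflection -/
theorem induced_refl_eq {v : ι → F} {r : GL ι F}
    (hr : (r : Matrix ι ι F) = Cfsg.reflectionMatrix (⇑Q) v)
    {γ : MulAut (Cfsg.POmega F ⇑Q)}
    (hγ : Cfsg.IsInducedBySemilinearPOmega (⇑Q) r (RingEquiv.refl F) γ) :
    γ = theta ⇑Q (tRefl Q v) := by
  have e : r = (tRefl Q v).1 := by
    apply Units.ext
    rw [hr, tRefl_coe]
  subst e
  exact (induced_iff (⇑Q) _ (tRefl Q v).2 γ).1 hγ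

variable (k : ℕ) (L : (ι → F) ≃ₗ[F] (Fin (k + 1) ⊕ Fin (k + 1) → F))
  (hL : ∀ v, Cfsg.quadFormPlus (k + 1) F (L v) = Q v) (hQ : (polarBilin Q).Nondegenerate)

include hL hQ in
theorem not_pres_tRefl {v : ι → F} (hv : Q v ≠ 0) :
    ¬ Cfsg.PreservesSingularClasses ⇑Q (((tRefl Q v).1 : GL ι F) : Matrix ι ι F) :=
  not_pres_reflM (k + 1) Q L hL hQ hv

end refl

section order

variable {ι : Type} [Fintype ι] [DecidableEq ι] {F : Type u} [Field F] [Fintype F]
  (Q : QuadraticForm F (ι → F)) (k : ℕ) (L : (ι → F) ≃ₗ[F] (Fin (k + 1) ⊕ Fin (k + 1) → F))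
  (hL : ∀ v, Cfsg.quadFormPlus (k + 1) F (L v) = Q v) (hQ : (polarBilin Q).Nondegenerate)
  (hn : 7 ≤ Fintype.card ι)
  {σ : RingAut F} (hfix : Qfix (⇑Q) σ)
  {φ : MulAut (Cfsg.POmega F ⇑Q)} (hφ : Cfsg.IsFieldAutPOmegaOf (⇑Q) σ φ)

include hφ in
theorem commute_theta_field {t : ↥(Cfsg.Geo.quadSimilarityGroup (F := F) ⇑Q)}
    (ht : simF (⇑Q) hfix t = t) : Commute (theta ⇑Q t) φ := by
  have := field_mul_theta (⇑Q) hfix hφ t
  rw [ht] at this
  exact this.symm

include hfix in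
theorem qfix_pow (i : ℕ) : Qfix (⇑Q) (σ ^ i) := by
  induction i with
  | zero => intro v; rfl
  | succ i ih =>
    intro v
    rw [pow_succ]
    show Q (fun j => (σ ^ i) (σ (v j))) = (σ ^ i) (σ (Q v))
    rw [← hfix v, ← ih]

include hL hQ hn hfix hφ in
/-- a graph-field automorphism `θ(t) φ` (`t` a reflection with fixed entries) of prime order
has order two, and so has the field automorphism -/
theorem graph_field_order {v : ι → F} (hv : ∀ i, σ (v i) = v i) (hQv : Q v ≠ 0)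
    (hσ1 : σ ≠ 1) {r : ℕ} (hr : r.Prime) (hord : orderOf (theta ⇑Q (tRefl Q v) * φ) = r) :
    r = 2 ∧ orderOf σ = 2 := by
  set t := tRefl Q v with ht
  have htσ : simF (⇑Q) hfix t = t := tRefl_sigma Q hfix hv
  have hcomm := commute_theta_field Q hfix hφ htσ
  have hγ2 : theta ⇑Q t ^ 2 = 1 := by
    rw [pow_two, ← map_mul, ht, tRefl_mul_self, map_one]
  have hpow : (theta ⇑Q t * φ) ^ r = 1 := by rw [← hord, pow_orderOf_eq_one]
  rw [hcomm.mul_pow] at hpow
  have hnotpres := not_pres_tRefl Q k L hL hQ hQv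
  rcases hr.eq_two_or_odd' with h2 | hodd
  · subst h2
    refine ⟨rfl, ?_⟩
    rw [hγ2, one_mul, pow_field_eq_one_iff Q hQ hn hfix hφ] at hpow
    have hdvd : orderOf σ ∣ 2 := orderOf_dvd_of_pow_eq_one hpow
    rcases (Nat.dvd_prime Nat.prime_two).1 hdvd with h1 | h1
    · exact absurd (orderOf_eq_one_iff.1 h1) hσ1
    · exact h1
  · exfalso
    obtain ⟨j, hj⟩ := hodd
    have hγr : theta ⇑Q t ^ r = theta ⇑Q t := by
      rw [hj, pow_succ, pow_mul, hγ2, one_pow, one_mul]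
    rw [hγr] at hpow
    -- `θ(t) φ^r = 1` forces `σ^r = 1`
    have hp1 : Cfsg.IsSemisimilarityPair (⇑Q) 1 (σ ^ r : RingAut F) :=
      pair_one (⇑Q) (qfix_pow Q hfix r)
    have hpt := pair_of_sim (⇑Q) t.2
    have hind := induced_mul (⇑Q) hpt hp1 (theta_induced (⇑Q) t)
      (pow_field_induced (⇑Q) hfix hφ r)
    rw [hpow] at hind
    have hσr := sigma_eq_refl_of_induced_one Q hQ hn (pair_mul (⇑Q) hpt hp1) hind
    have hσr' : σ ^ r = 1 := by
      apply RingEquiv.ext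
      intro x
      have := congrArg (fun τ : F ≃+* F => τ x) hσr
      exact this
    have hφr : φ ^ r = 1 := (pow_field_eq_one_iff Q hQ hn hfix hφ r).2 hσr'
    rw [hφr, mul_one] at hpow
    obtain ⟨c, hc0, hc⟩ := scalar_matrix_of_theta_eq_one Q hQ hn t hpow
    exact hnotpres (pres_of_scalar Q k L hL hQ t c hc0 hc)

end order

section group

variable {X : Type*} [Group X]

/-- transfer of coset conjugacy along a conjugation normalising the subgroup -/
theorem conj_transfer (G : Subgroup X) [hG : G.Normal] (α x x₀ δ : X)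
    (hα : α * x * α⁻¹ = x₀) (hδ : δ ∈ G)
    (H : ∀ δ' ∈ G, orderOf (δ' * x₀) = orderOf (δ * x) → ∃ h ∈ G, δ' * x₀ = h * x₀ * h⁻¹) :
    ∃ h ∈ G, δ * x = h * x * h⁻¹ := by
  have h1 : α * (δ * x) * α⁻¹ = (α * δ * α⁻¹) * x₀ := by
    rw [← hα]
    group
  have h2 : orderOf ((α * δ * α⁻¹) * x₀) = orderOf (δ * x) := by
    rw [← h1]
    have e : α * (δ * x) * α⁻¹ = MulAut.conj α (δ * x) := rfl
    rw [e, MulEquiv.orderOf_eq]
  obtain ⟨h, hh, he⟩ := H _ (hG.conj_mem δ hδ α) h2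
  refine ⟨α⁻¹ * h * α, ?_, ?_⟩
  · have := hG.conj_mem h hh α⁻¹
    rwa [inv_inv] at this
  · have h3 : δ * x = α⁻¹ * ((α * δ * α⁻¹) * x₀) * α := by
      rw [← h1]
      group
    rw [h3, he, ← hα]
    group

end group

end Cfsg.Agent.Lib.Helper25.GFld
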