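import Cfsg.Agent.Lib.Helper25.GFld14

set_option autoImplicit false

/-!
# Coset conjugacy for field and graph-field automorphisms of prime order of `PΩ⁺_{2m}(F)`
-/

namespace Cfsg.Agent.Lib.Helper25.GFld

open Module QuadraticMap Matrix Cfsg.Agent.Lib.Helper25.MaxTS Cfsg.Agent.Lib.Helper25.CD
  Cfsg.Agent.Lib.Helper25.GraphSplit Cfsg.Agent.Lib.Helper25.PSim Cfsg.Agent.Lib.Helper25.Spin
  Cfsg.Agent.Lib.Helper18.OrthFld Cfsg.Agent.Lib.Helper18.OrthPar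

universe u

section main

variable {F : Type u} [Field F] (k : ℕ)

/-- a nonsingular vector with entries in the prime field -/
def uStd : Fin (k + 1) ⊕ Fin (k + 1) → F :=
  Pi.single (Sum.inl 0) 1 + Pi.single (Sum.inr 0) 1

theorem Q_uStd : Qp (k + 1) F (uStd k) = 1 := by
  show Cfsg.quadFormPlus (k + 1) F (uStd k) = 1
  unfold Cfsg.quadFormPlus uStd
  rw [Finset.sum_eq_single (0 : Fin (k + 1))]
  · simp
  · intro i _ hi
    simp [Pi.single_apply, hi]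
  · intro h
    exact absurd (Finset.mem_univ _) h

theorem uStd_fixed (σ : RingAut F) (i : Fin (k + 1) ⊕ Fin (k + 1)) :
    σ (uStd k i) = uStd k (F := F) i := by
  unfold uStd
  rcases i with i | i
  · by_cases hi : i = 0
    · subst hi
      simp
    · simp [Pi.single_apply, hi]
  · by_cases hi : i = 0
    · subst hi
      simp
    · simp [Pi.single_apply, hi]

theorem card_plus_idx : Fintype.card (Fin (k + 1) ⊕ Fin (k + 1)) = 2 * (k + 1) := by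
  simp only [Fintype.card_sum, Fintype.card_fin]
  ring

variable [Fintype F]

/-- the inner-diagonal group as the image of the class-preserving similarities -/
noncomputable abbrev GPlus : Subgroup (MulAut (Cfsg.POmega F ⇑(Qp (k + 1) F))) :=
  presAut (Qp (k + 1) F) k (LinearEquiv.refl F _) (fun _ => rfl) (qfOf_nondeg _)

theorem gPlus_normal (hn : 7 ≤ Fintype.card (Fin (k + 1) ⊕ Fin (k + 1)))
    (hgam : Cfsg.gammaPOmega F (Cfsg.quadFormPlus (k + 1) F) = ⊤) : (GPlus (F := F) k).Normal :=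
  presAut_normal (Qp (k + 1) F) k (LinearEquiv.refl F _) (fun _ => rfl) (qfOf_nondeg _) hn
    (qfix_plus (k + 1)) (spres_plus_std (k + 1)) hgam

/-- coset conjugacy for the standard field automorphism -/
theorem std_field_coset (hn : 7 ≤ Fintype.card (Fin (k + 1) ⊕ Fin (k + 1)))
    {σ : RingAut F} {φ : MulAut (Cfsg.POmega F ⇑(Qp (k + 1) F))}
    (hφ : Cfsg.IsFieldAutPOmegaOf (⇑(Qp (k + 1) F)) σ φ) {r : ℕ} (hr : r.Prime)
    (hσ : orderOf σ = r) (δ' : MulAut (Cfsg.POmega F ⇑(Qp (k + 1) F)))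
    (hδ' : δ' ∈ GPlus (F := F) k) (hord : orderOf (δ' * φ) = r) :
    ∃ h ∈ GPlus (F := F) k, δ' * φ = h * φ * h⁻¹ := by
  have hQ : (polarBilin (Qp (k + 1) F)).Nondegenerate := qfOf_nondeg _
  have hfix := qfix_plus (F := F) (k + 1) σ
  obtain ⟨g, hg, rfl⟩ := hδ'
  have hQu : Qp (k + 1) F (uStd k) ≠ 0 := by rw [Q_uStd]; exact one_ne_zero
  have ht'σ := tRefl_sigma (Qp (k + 1) F) hfix (uStd_fixed k σ)
  have ht' := not_pres_tRefl (Qp (k + 1) F) k (LinearEquiv.refl F _) (fun _ => rfl) hQ hQu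
  have hpow : (theta ⇑(Qp (k + 1) F) g * φ) ^ r = 1 := by rw [← hord, pow_orderOf_eq_one]
  rcases hr.eq_two_or_odd' with h2 | hodd
  · subst h2
    obtain ⟨h, hh, he⟩ := coset_conj_two (Qp (k + 1) F) k (LinearEquiv.refl F _) (fun _ => rfl) hQ
      hn (card_plus_idx k) hfix (spres_plus_std (k + 1) σ) hφ hσ 1 (map_one _)
      ⟨1, one_ne_zero, by rw [mul_one, one_smul]; rfl⟩
      (tRefl (Qp (k + 1) F) (uStd k)) ht'σ (by rw [mul_one, one_mul]) ht' g hg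
      (by rw [map_one, one_mul]; exact hpow)
    rw [map_one, one_mul] at he
    exact ⟨theta _ h, ⟨h, hh, rfl⟩, he⟩
  · obtain ⟨h, hh, he⟩ := coset_conj_odd (Qp (k + 1) F) k (LinearEquiv.refl F _) (fun _ => rfl) hQ
      hn (card_plus_idx k) hfix hφ r hσ hodd
      (tRefl (Qp (k + 1) F) (uStd k)) ht'σ ht' g hpow
    exact ⟨theta _ h, ⟨h, hh, rfl⟩, he⟩

/-- coset conjugacy for the standard graph-field automorphism -/
theorem std_graph_field_coset (hn : 7 ≤ Fintype.card (Fin (k + 1) ⊕ Fin (k + 1)))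
    {σ : RingAut F} {φ : MulAut (Cfsg.POmega F ⇑(Qp (k + 1) F))}
    (hφ : Cfsg.IsFieldAutPOmegaOf (⇑(Qp (k + 1) F)) σ φ)
    {v : Fin (k + 1) ⊕ Fin (k + 1) → F} (hv : ∀ i, σ (v i) = v i) (hQv : Qp (k + 1) F v ≠ 0)
    (hσ : orderOf σ = 2) (δ' : MulAut (Cfsg.POmega F ⇑(Qp (k + 1) F)))
    (hδ' : δ' ∈ GPlus (F := F) k)
    (hord : orderOf (δ' * (theta ⇑(Qp (k + 1) F) (tRefl (Qp (k + 1) F) v) * φ)) = 2) :
    ∃ h ∈ GPlus (F := F) k, δ' * (theta ⇑(Qp (k + 1) F) (tRefl (Qp (k + 1) F) v) * φ) =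
      h * (theta ⇑(Qp (k + 1) F) (tRefl (Qp (k + 1) F) v) * φ) * h⁻¹ := by
  have hQ : (polarBilin (Qp (k + 1) F)).Nondegenerate := qfOf_nondeg _
  have hfix := qfix_plus (F := F) (k + 1) σ
  obtain ⟨g, hg, rfl⟩ := hδ'
  have htσ := tRefl_sigma (Qp (k + 1) F) hfix hv
  have ht' := not_pres_tRefl (Qp (k + 1) F) k (LinearEquiv.refl F _) (fun _ => rfl) hQ hQv
  obtain ⟨h, hh, he⟩ := coset_conj_two (Qp (k + 1) F) k (LinearEquiv.refl F _) (fun _ => rfl) hQ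
    hn (card_plus_idx k) hfix (spres_plus_std (k + 1) σ) hφ hσ (tRefl (Qp (k + 1) F) v) htσ
    ⟨1, one_ne_zero, by rw [tRefl_mul_self, one_smul]; rfl⟩
    (tRefl (Qp (k + 1) F) v) htσ rfl ht' g hg (by rw [← hord, pow_orderOf_eq_one])
  exact ⟨theta _ h, ⟨h, hh, rfl⟩, he⟩

/-- core of S2736 with normalised hypotheses -/
theorem plus_coset_core (hn : 7 ≤ Fintype.card (Fin (k + 1) ⊕ Fin (k + 1)))
    (hgam : Cfsg.gammaPOmega F (Cfsg.quadFormPlus (k + 1) F) = ⊤)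
    (x δ : MulAut (Cfsg.POmega F ⇑(Qp (k + 1) F)))
    (hx : (∃ (α φ : MulAut (Cfsg.POmega F ⇑(Qp (k + 1) F))) (σ : RingAut F), σ ≠ 1 ∧
        Cfsg.IsFieldAutPOmegaOf (⇑(Qp (k + 1) F)) σ φ ∧ α * x * α⁻¹ = φ) ∨
      (∃ (α φ : MulAut (Cfsg.POmega F ⇑(Qp (k + 1) F))) (σ : RingAut F)
        (v : Fin (k + 1) ⊕ Fin (k + 1) → F), σ ≠ 1 ∧ Qp (k + 1) F v ≠ 0 ∧ (∀ i, σ (v i) = v i) ∧
        Cfsg.IsFieldAutPOmegaOf (⇑(Qp (k + 1) F)) σ φ ∧
        α * x * α⁻¹ = theta ⇑(Qp (k + 1) F) (tRefl (Qp (k + 1) F) v) * φ))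
    {r : ℕ} (hr : r.Prime) (hxr : orderOf x = r) (hδ : δ ∈ GPlus (F := F) k)
    (hord : orderOf (δ * x) = r) : ∃ h ∈ GPlus (F := F) k, δ * x = h * x * h⁻¹ := by
  have hQ : (polarBilin (Qp (k + 1) F)).Nondegenerate := qfOf_nondeg _
  haveI := gPlus_normal k hn hgam
  rcases hx with ⟨α, φ, σ, hσ1, hφ, hα⟩ | ⟨α, φ, σ, v, hσ1, hQv, hv, hφ, hα⟩
  · have hfix := qfix_plus (F := F) (k + 1) σ
    have hoφ : orderOf φ = r := by
      rw [← hα, ← hxr]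
      have e2 : α * x * α⁻¹ = MulAut.conj α x := rfl
      rw [e2, MulEquiv.orderOf_eq]
    have hoσ : orderOf (σ : RingAut F) = r := by
      rw [← hoφ]
      exact (orderOf_field (Qp (k + 1) F) hQ hn hfix hφ).symm
    exact conj_transfer (GPlus (F := F) k) α x φ δ hα hδ
      (fun δ' hδ' ho => std_field_coset k hn hφ hr hoσ δ' hδ' (by rw [ho, hord]))
  · have hfix := qfix_plus (F := F) (k + 1) σ
    have hox : orderOf (theta ⇑(Qp (k + 1) F) (tRefl (Qp (k + 1) F) v) * φ) = r := by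
      rw [← hα, ← hxr]
      have e2 : α * x * α⁻¹ = MulAut.conj α x := rfl
      rw [e2, MulEquiv.orderOf_eq]
    obtain ⟨hr2, hoσ⟩ := graph_field_order (Qp (k + 1) F) k (LinearEquiv.refl F _)
      (fun _ => rfl) hQ hn hfix hφ hv hQv hσ1 hr hox
    subst hr2
    exact conj_transfer (GPlus (F := F) k) α x _ δ hα hδ
      (fun δ' hδ' ho => std_graph_field_coset k hn hφ hv hQv hoσ δ' hδ' (by rw [ho, hord]))

/-- normalising the hypothesis of S2736 -/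
theorem normalise_class (x : MulAut (Cfsg.POmega F ⇑(Qp (k + 1) F)))
    (hx : Cfsg.IsFieldAutClassPOmega (Cfsg.quadFormPlus (k + 1) F) x ∨
      Cfsg.IsGraphFieldAutClassPOmegaPlus (k + 1) x) :
    (∃ (α φ : MulAut (Cfsg.POmega F ⇑(Qp (k + 1) F))) (σ : RingAut F), σ ≠ 1 ∧
        Cfsg.IsFieldAutPOmegaOf (⇑(Qp (k + 1) F)) σ φ ∧ α * x * α⁻¹ = φ) ∨
      (∃ (α φ : MulAut (Cfsg.POmega F ⇑(Qp (k + 1) F))) (σ : RingAut F)
        (v : Fin (k + 1) ⊕ Fin (k + 1) → F), σ ≠ 1 ∧ Qp (k + 1) F v ≠ 0 ∧ (∀ i, σ (v i) = v i) ∧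
        Cfsg.IsFieldAutPOmegaOf (⇑(Qp (k + 1) F)) σ φ ∧
        α * x * α⁻¹ = theta ⇑(Qp (k + 1) F) (tRefl (Qp (k + 1) F) v) * φ) := by
  have hx' : (∃ (α φ : MulAut (Cfsg.POmega F ⇑(Qp (k + 1) F))) (σ : F ≃+* F),
        σ ≠ RingEquiv.refl F ∧ Cfsg.IsFieldAutPOmegaOf (⇑(Qp (k + 1) F)) σ φ ∧ α * x * α⁻¹ = φ) ∨
      (∃ (α γ φ : MulAut (Cfsg.POmega F ⇑(Qp (k + 1) F))) (σ : F ≃+* F)
        (v : Fin (k + 1) ⊕ Fin (k + 1) → F) (rr : GL (Fin (k + 1) ⊕ Fin (k + 1)) F),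
        σ ≠ RingEquiv.refl F ∧ Qp (k + 1) F v ≠ 0 ∧ (∀ i, σ (v i) = v i) ∧
        (rr : Matrix (Fin (k + 1) ⊕ Fin (k + 1)) (Fin (k + 1) ⊕ Fin (k + 1)) F) =
          Cfsg.reflectionMatrix (⇑(Qp (k + 1) F)) v ∧
        Cfsg.IsInducedBySemilinearPOmega (⇑(Qp (k + 1) F)) rr (RingEquiv.refl F) γ ∧
        Cfsg.IsFieldAutPOmegaOf (⇑(Qp (k + 1) F)) σ φ ∧ α * x * α⁻¹ = γ * φ) := hx
  rcases hx' with ⟨α, φ, σ, hσ1, hφ, hα⟩ | ⟨α, γ, φ, σ, v, rr, hσ1, hQv, hv, hrr, hγ, hφ, hα⟩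
  · left
    exact ⟨α, φ, σ, hσ1, hφ, hα⟩
  · right
    have hγe := induced_refl_eq (Qp (k + 1) F) hrr hγ
    refine ⟨α, φ, σ, v, hσ1, hQv, hv, hφ, ?_⟩
    rw [hα, hγe]

/-- **S2736**, in terms of `k = m - 1` -/
theorem plus_coset_main (hn : 7 ≤ Fintype.card (Fin (k + 1) ⊕ Fin (k + 1)))
    (hgam : Cfsg.gammaPOmega F (Cfsg.quadFormPlus (k + 1) F) = ⊤)
    (x δ : MulAut (Cfsg.POmega F (Cfsg.quadFormPlus (k + 1) F)))
    (hx : Cfsg.IsFieldAutClassPOmega (Cfsg.quadFormPlus (k + 1) F) x ∨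
      Cfsg.IsGraphFieldAutClassPOmegaPlus (k + 1) x) {r : ℕ} (hr : r.Prime)
    (hxr : orderOf x = r) (hδ : δ ∈ Cfsg.inndiagPOmegaPlus (k + 1) F) :
    orderOf (δ * x) = r ↔ Cfsg.IsConjUnder (Cfsg.inndiagPOmegaPlus (k + 1) F) x (δ * x) := by
  constructor
  · intro hord
    rw [inndiag_plus_eq] at hδ ⊢
    obtain ⟨h, hh, he⟩ := plus_coset_core k hn hgam x δ (normalise_class k x hx) hr hxr hδ hord
    exact ⟨h, hh, he⟩
  · rintro ⟨h, -, he⟩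
    rw [he, ← hxr]
    have e2 : h * x * h⁻¹ = MulAut.conj h x := rfl
    rw [e2, MulEquiv.orderOf_eq]

end main

end Cfsg.Agent.Lib.Helper25.GFld
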