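import Cfsg.Agent.Lib.Helper25.GFld15
import Cfsg.Agent.Lib.Helper25.AutOut1
import Cfsg.Agent.Lib.Helper18.PSL2AutOut
import Cfsg.Agent.Lib.Helper18.PSLnFldF

set_option autoImplicit false

/-!
# Involutory graph-field automorphisms of `PΩ⁺_{2m}(F)`: the standard form
-/

namespace Cfsg.Agent.Lib.Helper25.GFld

open Module QuadraticMap Matrix Cfsg.Agent.Lib.Helper25.MaxTS Cfsg.Agent.Lib.Helper25.CD
  Cfsg.Agent.Lib.Helper25.GraphSplit Cfsg.Agent.Lib.Helper25.PSim Cfsg.Agent.Lib.Helper25.Spin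
  Cfsg.Agent.Lib.Helper18.OrthFld Cfsg.Agent.Lib.Helper18.OrthPar

universe u

section cyclic

variable {F : Type u} [Field F] [Fintype F]

theorem ringAut_isCyclic : IsCyclic (RingAut F) := by
  haveI : Fact (ringChar F).Prime := ⟨CharP.char_is_prime F (ringChar F)⟩
  exact Cfsg.Agent.Lib.Helper18.PSL2Aut.ringAut_cyclic (ringChar F)

theorem ringAut_comm (σ τ : RingAut F) : σ * τ = τ * σ := by
  haveI := ringAut_isCyclic (F := F)
  obtain ⟨g, hg⟩ := IsCyclic.exists_generator (α := RingAut F)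
  obtain ⟨i, rfl⟩ := Subgroup.mem_zpowers_iff.1 (hg σ)
  obtain ⟨j, rfl⟩ := Subgroup.mem_zpowers_iff.1 (hg τ)
  rw [← _root_.zpow_add, ← _root_.zpow_add, add_comm]

theorem ringAut_invol_unique {σ τ : RingAut F} (hσ : orderOf σ = 2) (hτ : orderOf τ = 2) :
    σ = τ := by
  classical
  haveI := ringAut_isCyclic (F := F)
  haveI : Finite (RingAut F) := Cfsg.Agent.Lib.Helper18.PSLnFld.finite_ringAut
  haveI : Fintype (RingAut F) := Fintype.ofFinite _
  have hd : 2 ∣ Fintype.card (RingAut F) := by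
    rw [← hσ]
    exact orderOf_dvd_card
  have h1 := IsCyclic.card_orderOf_eq_totient (α := RingAut F) hd
  rw [Nat.totient_two] at h1
  have h2 := Finset.card_le_one.1 h1.le σ (by simp [hσ]) τ (by simp [hτ])
  exact h2

end cyclic

section decomp

variable {ι : Type} [Fintype ι] [DecidableEq ι] {F : Type u} [Field F] [Fintype F]
  (Q : QuadraticForm F (ι → F)) (k : ℕ) (L : (ι → F) ≃ₗ[F] (Fin (k + 1) ⊕ Fin (k + 1) → F))
  (hL : ∀ v, Cfsg.quadFormPlus (k + 1) F (L v) = Q v) (hQ : (polarBilin Q).Nondegenerate)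
  (hqf : ∀ τ : RingAut F, Qfix (⇑Q) τ)

/-- the standard field automorphism attached to `τ` -/
noncomputable def stdField (τ : RingAut F) : MulAut (Cfsg.POmega F ⇑Q) :=
  Cfsg.Agent.Lib.Helper25.AutOut.semiAut (⇑Q) (pair_one (⇑Q) (hqf τ))

theorem stdField_induced (τ : RingAut F) :
    Cfsg.IsInducedBySemilinearPOmega (⇑Q) 1 τ (stdField Q hqf τ) :=
  Cfsg.Agent.Lib.Helper25.AutOut.semiAut_induced (⇑Q) (pair_one (⇑Q) (hqf τ))

theorem stdField_spec (τ : RingAut F) :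
    Cfsg.IsFieldAutPOmegaOf (⇑Q) τ (stdField Q hqf τ) :=
  (fieldAut_iff_induced (⇑Q) τ _).2 (stdField_induced Q hqf τ)

theorem stdField_unique {τ : RingAut F} {φ : MulAut (Cfsg.POmega F ⇑Q)}
    (hφ : Cfsg.IsFieldAutPOmegaOf (⇑Q) τ φ) : φ = stdField Q hqf τ :=
  induced_unique (⇑Q) (pair_one (⇑Q) (hqf τ)) ((fieldAut_iff_induced (⇑Q) τ _).1 hφ)
    (stdField_induced Q hqf τ)

theorem stdField_comm (σ τ : RingAut F) :
    stdField Q hqf σ * stdField Q hqf τ = stdField Q hqf τ * stdField Q hqf σ := by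
  have h1 := induced_mul (⇑Q) (pair_one (⇑Q) (hqf σ)) (pair_one (⇑Q) (hqf τ))
    (stdField_induced Q hqf σ) (stdField_induced Q hqf τ)
  have h2 := induced_mul (⇑Q) (pair_one (⇑Q) (hqf τ)) (pair_one (⇑Q) (hqf σ))
    (stdField_induced Q hqf τ) (stdField_induced Q hqf σ)
  have hp := pair_mul (⇑Q) (pair_one (⇑Q) (hqf σ)) (pair_one (⇑Q) (hqf τ))
  have e1 : (1 : GL ι F) * sigmaGL (τ : F ≃+* F) 1 = 1 * sigmaGL (σ : F ≃+* F) 1 := by
    rw [map_one, map_one]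
  have e2 : (σ : F ≃+* F).trans (τ : F ≃+* F) = (τ : F ≃+* F).trans (σ : F ≃+* F) :=
    ringAut_comm τ σ
  rw [e1, e2] at h2
  exact induced_unique (⇑Q) hp h1 h2

include hL hQ in
/-- every automorphism is the product of an inner-diagonal one and one commuting with the
standard graph-field automorphism attached to a vector with entries in the prime field -/
theorem aut_decomp (hn : 7 ≤ Fintype.card ι) (hgam : Cfsg.gammaPOmega F (⇑Q) = ⊤)
    {u : ι → F} (hu : ∀ (τ : RingAut F) (i : ι), τ (u i) = u i) (hQu : Q u ≠ 0)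
    (σ : RingAut F) (α : MulAut (Cfsg.POmega F ⇑Q)) :
    ∃ g ∈ presAut Q k L hL hQ, ∃ c : MulAut (Cfsg.POmega F ⇑Q), α = g * c ∧
      Commute c (theta ⇑Q (tRefl Q u) * stdField Q hqf σ) := by
  have hα : α ∈ Cfsg.gammaPOmega F (⇑Q) := by rw [hgam]; trivial
  obtain ⟨a, τ, hp, hind⟩ := isPairAut_of_mem_gamma (⇑Q) hα
  have ha : a ∈ Cfsg.Geo.quadSimilarityGroup (F := F) ⇑Q := sim_of_pair_fixed Q (hqf τ) hp
  have hαe : α = theta ⇑Q ⟨a, ha⟩ * stdField Q hqf τ := by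
    have h1 := induced_mul (⇑Q) (pair_of_sim (⇑Q) ha) (pair_one (⇑Q) (hqf τ))
      (theta_induced (⇑Q) ⟨a, ha⟩) (stdField_induced Q hqf τ)
    have e1 : a * sigmaGL (RingEquiv.refl F) 1 = a := by rw [map_one, mul_one]
    have e2 : (τ : F ≃+* F).trans (RingEquiv.refl F) = τ := by
      apply RingEquiv.ext
      intro x
      rfl
    rw [e1, e2] at h1
    exact induced_unique (⇑Q) hp hind h1
  set t := tRefl Q u with ht
  have htτ : ∀ τ' : RingAut F, simF (⇑Q) (hqf τ') t = t :=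
    fun τ' => tRefl_sigma Q (hqf τ') (hu τ')
  have hcomm : ∀ τ' : RingAut F, Commute (theta ⇑Q t) (stdField Q hqf τ') :=
    fun τ' => commute_theta_field Q (hqf τ') (stdField_spec Q hqf τ') (htτ τ')
  have hnt := not_pres_tRefl Q k L hL hQ hQu
  by_cases hpres : Cfsg.PreservesSingularClasses ⇑Q ((a : GL ι F) : Matrix ι ι F)
  · refine ⟨theta ⇑Q ⟨a, ha⟩, ⟨⟨a, ha⟩, hpres, rfl⟩, stdField Q hqf τ, hαe, ?_⟩
    show stdField Q hqf τ * (theta ⇑Q t * stdField Q hqf σ) =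
      theta ⇑Q t * stdField Q hqf σ * stdField Q hqf τ
    rw [← mul_assoc, ← (hcomm τ).eq, mul_assoc, stdField_comm Q hqf τ σ, mul_assoc]
  · obtain ⟨ag, hag⟩ : ∃ ag : ↥(Cfsg.Geo.quadSimilarityGroup (F := F) ⇑Q), ag = ⟨a, ha⟩ :=
      ⟨_, rfl⟩
    rw [← hag] at hαe
    have hpres' : ¬ Cfsg.PreservesSingularClasses ⇑Q ((ag.1 : GL ι F) : Matrix ι ι F) := by
      rw [hag]
      exact hpres
    refine ⟨theta ⇑Q (ag * t), ⟨ag * t, ?_, rfl⟩, theta ⇑Q t * stdField Q hqf τ, ?_, ?_⟩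
    · rw [SetLike.mem_coe, mem_presSub, pres_mul' Q k L hL hQ]
      exact ⟨fun h => absurd h hpres', fun h => absurd h hnt⟩
    · rw [hαe, map_mul, mul_assoc, ← mul_assoc (theta ⇑Q t), ← map_mul, ht, tRefl_mul_self,
        map_one, one_mul]
    · show theta ⇑Q t * stdField Q hqf τ * (theta ⇑Q t * stdField Q hqf σ) =
        theta ⇑Q t * stdField Q hqf σ * (theta ⇑Q t * stdField Q hqf τ)
      rw [mul_assoc, ← mul_assoc (stdField Q hqf τ), ← (hcomm τ).eq, mul_assoc,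
        stdField_comm Q hqf τ σ]
      rw [mul_assoc (theta ⇑Q t) (stdField Q hqf σ), ← mul_assoc (stdField Q hqf σ),
        ← (hcomm σ).eq, mul_assoc]

end decomp

section stdform

variable {F : Type u} [Field F] (k : ℕ)

theorem swapVec_fixed (τ : RingAut F) (i : Fin (k + 1) ⊕ Fin (k + 1)) :
    τ (swapVec k i) = swapVec k (F := F) i := by
  unfold swapVec
  rcases i with i | i
  · by_cases hi : i = Fin.last k
    · subst hi
      simp
    · simp [Pi.single_apply, hi]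
  · by_cases hi : i = Fin.last k
    · subst hi
      simp
    · simp [Pi.single_apply, hi]

variable [Fintype F]

/-- the standard involutory graph-field automorphism -/
noncomputable def stdGF (σ : RingAut F) : MulAut (Cfsg.POmega F ⇑(Qp (k + 1) F)) :=
  theta ⇑(Qp (k + 1) F) (tRefl (Qp (k + 1) F) (swapVec k)) *
    stdField (Qp (k + 1) F) (qfix_plus (k + 1)) σ

/-- an involutory graph-field automorphism exists only if the field has an automorphism of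
order two -/
theorem graph_field_sigma (hn : 7 ≤ Fintype.card (Fin (k + 1) ⊕ Fin (k + 1)))
    (x : MulAut (Cfsg.POmega F ⇑(Qp (k + 1) F)))
    (hx : Cfsg.IsGraphFieldAutClassPOmegaPlus (k + 1) x) (hx2 : orderOf x = 2) :
    ∃ σ : RingAut F, orderOf σ = 2 := by
  have hQ : (polarBilin (Qp (k + 1) F)).Nondegenerate := qfOf_nondeg _
  have hx' : ∃ (α γ φ : MulAut (Cfsg.POmega F ⇑(Qp (k + 1) F))) (σ : F ≃+* F)
        (v : Fin (k + 1) ⊕ Fin (k + 1) → F) (rr : GL (Fin (k + 1) ⊕ Fin (k + 1)) F),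
        σ ≠ RingEquiv.refl F ∧ Qp (k + 1) F v ≠ 0 ∧ (∀ i, σ (v i) = v i) ∧
        (rr : Matrix (Fin (k + 1) ⊕ Fin (k + 1)) (Fin (k + 1) ⊕ Fin (k + 1)) F) =
          Cfsg.reflectionMatrix (⇑(Qp (k + 1) F)) v ∧
        Cfsg.IsInducedBySemilinearPOmega (⇑(Qp (k + 1) F)) rr (RingEquiv.refl F) γ ∧
        Cfsg.IsFieldAutPOmegaOf (⇑(Qp (k + 1) F)) σ φ ∧ α * x * α⁻¹ = γ * φ := hx
  obtain ⟨α, γ, φ, σ', v, rr, hσ1, hQv, hv, hrr, hγ, hφ, hα⟩ := hx'
  have hγe := induced_refl_eq (Qp (k + 1) F) hrr hγ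
  rw [hγe] at hα
  have hfix := qfix_plus (F := F) (k + 1)
  have hox : orderOf (theta ⇑(Qp (k + 1) F) (tRefl (Qp (k + 1) F) v) * φ) = 2 := by
    rw [← hα, ← hx2]
    have e2 : α * x * α⁻¹ = MulAut.conj α x := rfl
    rw [e2, MulEquiv.orderOf_eq]
  have hσ1' : (σ' : RingAut F) ≠ 1 := hσ1
  obtain ⟨-, hoσ'⟩ := graph_field_order (Qp (k + 1) F) k (LinearEquiv.refl F _)
    (fun _ => rfl) hQ hn (hfix σ') hφ hv hQv hσ1' Nat.prime_two hox
  exact ⟨σ', hoσ'⟩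

/-- every involutory graph-field automorphism is conjugate under `Inndiag` to the standard
one -/
theorem graph_field_std (hn : 7 ≤ Fintype.card (Fin (k + 1) ⊕ Fin (k + 1)))
    (hgam : Cfsg.gammaPOmega F (Cfsg.quadFormPlus (k + 1) F) = ⊤)
    (x : MulAut (Cfsg.POmega F ⇑(Qp (k + 1) F)))
    (hx : Cfsg.IsGraphFieldAutClassPOmegaPlus (k + 1) x) (hx2 : orderOf x = 2)
    {σ : RingAut F} (hσ : orderOf σ = 2) :
    ∃ h ∈ GPlus (F := F) k, x = h * stdGF k σ * h⁻¹ := by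
  have hQ : (polarBilin (Qp (k + 1) F)).Nondegenerate := qfOf_nondeg _
  haveI := gPlus_normal k hn hgam
  have hx' : ∃ (α γ φ : MulAut (Cfsg.POmega F ⇑(Qp (k + 1) F))) (σ : F ≃+* F)
        (v : Fin (k + 1) ⊕ Fin (k + 1) → F) (rr : GL (Fin (k + 1) ⊕ Fin (k + 1)) F),
        σ ≠ RingEquiv.refl F ∧ Qp (k + 1) F v ≠ 0 ∧ (∀ i, σ (v i) = v i) ∧
        (rr : Matrix (Fin (k + 1) ⊕ Fin (k + 1)) (Fin (k + 1) ⊕ Fin (k + 1)) F) =
          Cfsg.reflectionMatrix (⇑(Qp (k + 1) F)) v ∧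
        Cfsg.IsInducedBySemilinearPOmega (⇑(Qp (k + 1) F)) rr (RingEquiv.refl F) γ ∧
        Cfsg.IsFieldAutPOmegaOf (⇑(Qp (k + 1) F)) σ φ ∧ α * x * α⁻¹ = γ * φ := hx
  obtain ⟨α, γ, φ, σ', v, rr, hσ1, hQv, hv, hrr, hγ, hφ, hα⟩ := hx'
  have hγe := induced_refl_eq (Qp (k + 1) F) hrr hγ
  rw [hγe] at hα
  have hfix := qfix_plus (F := F) (k + 1)
  have hox : orderOf (theta ⇑(Qp (k + 1) F) (tRefl (Qp (k + 1) F) v) * φ) = 2 := by
    rw [← hα, ← hx2]
    have e2 : α * x * α⁻¹ = MulAut.conj α x := rfl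
    rw [e2, MulEquiv.orderOf_eq]
  have hσ1' : (σ' : RingAut F) ≠ 1 := hσ1
  obtain ⟨-, hoσ'⟩ := graph_field_order (Qp (k + 1) F) k (LinearEquiv.refl F _)
    (fun _ => rfl) hQ hn (hfix σ') hφ hv hQv hσ1' Nat.prime_two hox
  have hσσ' : (σ' : RingAut F) = σ := ringAut_invol_unique hoσ' hσ
  subst hσσ'
  have hφe : φ = stdField (Qp (k + 1) F) hfix σ' := stdField_unique (Qp (k + 1) F) hfix hφ
  -- the standard element
  have hsw : Qp (k + 1) F (swapVec k) ≠ 0 := by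
    rw [Qp_swapVec]
    exact neg_ne_zero.2 one_ne_zero
  have hntv := not_pres_tRefl (Qp (k + 1) F) k (LinearEquiv.refl F _) (fun _ => rfl) hQ hQv
  have hnts := not_pres_tRefl (Qp (k + 1) F) k (LinearEquiv.refl F _) (fun _ => rfl) hQ hsw
  set tv := tRefl (Qp (k + 1) F) v with htv
  set ts := tRefl (Qp (k + 1) F) (swapVec k) with hts
  have hδ' : theta ⇑(Qp (k + 1) F) (tv * ts) ∈ GPlus (F := F) k := by
    refine ⟨tv * ts, ?_, rfl⟩
    exact (pres_mul' (Qp (k + 1) F) k (LinearEquiv.refl F _) (fun _ => rfl) hQ tv ts).2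
      ⟨fun h => absurd h hntv, fun h => absurd h hnts⟩
  have hx0 : theta ⇑(Qp (k + 1) F) tv * φ =
      theta ⇑(Qp (k + 1) F) (tv * ts) * (theta ⇑(Qp (k + 1) F) ts * φ) := by
    rw [map_mul, mul_assoc, ← mul_assoc (theta ⇑(Qp (k + 1) F) ts), ← map_mul, hts,
      tRefl_mul_self, map_one, one_mul]
  obtain ⟨h, hh, he⟩ := std_graph_field_coset k hn hφ (swapVec_fixed k σ') hsw hσ
    (theta ⇑(Qp (k + 1) F) (tv * ts)) hδ' (by rw [← hx0]; exact hox)
  rw [← hx0] at he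
  -- decompose `α⁻¹ * h`
  obtain ⟨g, hg, c, hgc, hcomm⟩ := aut_decomp (Qp (k + 1) F) k (LinearEquiv.refl F _)
    (fun _ => rfl) hQ hfix hn hgam (fun τ i => swapVec_fixed k τ i) hsw σ' (α⁻¹ * h)
  refine ⟨g, hg, ?_⟩
  have hxe : x = (α⁻¹ * h) * stdGF k σ' * (α⁻¹ * h)⁻¹ := by
    have h1 : x = α⁻¹ * (α * x * α⁻¹) * α := by group
    rw [h1, hα, he, hφe]
    unfold stdGF
    group
  rw [hxe, hgc]
  have h2 : c * stdGF k σ' * c⁻¹ = stdGF k σ' := by
    rw [mul_inv_eq_iff_eq_mul]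
    exact hcomm.eq
  calc g * c * stdGF k σ' * (g * c)⁻¹ = g * (c * stdGF k σ' * c⁻¹) * g⁻¹ := by group
    _ = _ := by rw [h2]

end stdform

end Cfsg.Agent.Lib.Helper25.GFld
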