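import Cfsg.Agent.Lib.Helper25.GFld16
import Cfsg.Agent.Lib.Helper18.OrthIsoA

set_option autoImplicit false

/-!
# The isomorphism `PΩ(Q) ≃* PΩ(Q')` induced by a linear isometry between forms on different
index types, and its compatibility with automorphisms induced by semisimilarities
-/

namespace Cfsg.Agent.Lib.Helper25.GFld

open Module QuadraticMap Matrix Cfsg.Agent.Lib.Helper25.MaxTS Cfsg.Agent.Lib.Helper25.CD
  Cfsg.Agent.Lib.Helper25.GraphSplit Cfsg.Agent.Lib.Helper25.PSim Cfsg.Agent.Lib.Helper25.Spin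
  Cfsg.Agent.Lib.Helper18.OrthFld Cfsg.Agent.Lib.Helper18.OrthPar
  Cfsg.Agent.Lib.Helper18.OrthIso

universe u

section rect

variable {ι κ : Type} [Fintype ι] [DecidableEq ι] [Fintype κ] [DecidableEq κ]
  {F : Type u} [Field F] (L : (ι → F) ≃ₗ[F] (κ → F))

/-- the matrix of a linear equivalence between coordinate spaces -/
noncomputable def matL : Matrix κ ι F := LinearMap.toMatrix' (L : (ι → F) →ₗ[F] (κ → F))

theorem matL_mulVec (v : ι → F) : matL L *ᵥ v = L v := by
  unfold matL
  rw [LinearMap.toMatrix'_mulVec]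
  rfl

theorem matL_mul_symm : matL L * matL L.symm = 1 := by
  unfold matL
  rw [← LinearMap.toMatrix'_comp]
  have : (L : (ι → F) →ₗ[F] (κ → F)).comp (L.symm : (κ → F) →ₗ[F] (ι → F)) = LinearMap.id := by
    ext x
    simp
  rw [this, LinearMap.toMatrix'_id]

theorem matL_symm_mul : matL L.symm * matL L = 1 := by
  have := matL_mul_symm L.symm
  rwa [LinearEquiv.symm_symm] at this

theorem rect_mul (X Y : Matrix ι ι F) :
    (matL L * X * matL L.symm) * (matL L * Y * matL L.symm) =
      matL L * (X * Y) * matL L.symm := by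
  calc (matL L * X * matL L.symm) * (matL L * Y * matL L.symm)
      = matL L * (X * (matL L.symm * matL L) * Y) * matL L.symm := by
        simp only [Matrix.mul_assoc]
    _ = _ := by rw [matL_symm_mul, Matrix.mul_one]

/-- conjugation by a linear equivalence, on the general linear groups -/
noncomputable def conjGL : GL ι F →* GL κ F where
  toFun s := ⟨matL L * (s : Matrix ι ι F) * matL L.symm,
    matL L * ((s⁻¹ : GL ι F) : Matrix ι ι F) * matL L.symm, by
      rw [rect_mul, ← Units.val_mul, mul_inv_cancel, Units.val_one, Matrix.mul_one,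
        matL_mul_symm], by
      rw [rect_mul, ← Units.val_mul, inv_mul_cancel, Units.val_one, Matrix.mul_one,
        matL_mul_symm]⟩
  map_one' := by
    apply Units.ext
    show matL L * ((1 : GL ι F) : Matrix ι ι F) * matL L.symm = 1
    rw [Units.val_one, Matrix.mul_one, matL_mul_symm]
  map_mul' s t := by
    apply Units.ext
    show matL L * ((s * t : GL ι F) : Matrix ι ι F) * matL L.symm =
      (matL L * (s : Matrix ι ι F) * matL L.symm) * (matL L * (t : Matrix ι ι F) * matL L.symm)
    rw [rect_mul, Units.val_mul]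

theorem conjGL_coe (s : GL ι F) :
    ((conjGL L s : GL κ F) : Matrix κ κ F) = matL L * (s : Matrix ι ι F) * matL L.symm := rfl

theorem conjGL_mulVec (s : GL ι F) (w : κ → F) :
    ((conjGL L s : GL κ F) : Matrix κ κ F) *ᵥ w = L ((s : Matrix ι ι F) *ᵥ (L.symm w)) := by
  rw [conjGL_coe, ← Matrix.mulVec_mulVec, ← Matrix.mulVec_mulVec, matL_mulVec, matL_mulVec]

theorem conjGL_symm_conjGL (s : GL ι F) : conjGL L.symm (conjGL L s) = s := by
  apply Units.ext
  rw [conjGL_coe, conjGL_coe, LinearEquiv.symm_symm]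
  calc matL L.symm * (matL L * (s : Matrix ι ι F) * matL L.symm) * matL L
      = (matL L.symm * matL L) * (s : Matrix ι ι F) * (matL L.symm * matL L) := by
        simp only [Matrix.mul_assoc]
    _ = _ := by rw [matL_symm_mul, Matrix.one_mul, Matrix.mul_one]

theorem conjGL_conjGL_symm (s : GL κ F) : conjGL L (conjGL L.symm s) = s := by
  have := conjGL_symm_conjGL L.symm s
  rwa [LinearEquiv.symm_symm] at this

variable (Q : (ι → F) → F) (Q' : (κ → F) → F) (hL : ∀ v, Q' (L v) = Q v)

include hL in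
theorem hL_symm (w : κ → F) : Q (L.symm w) = Q' w := by
  rw [← hL, LinearEquiv.apply_symm_apply]

include hL in
theorem conjGL_sim {g : GL ι F} {c : F}
    (hg : ∀ v, Q ((g : Matrix ι ι F) *ᵥ v) = c * Q v) (w : κ → F) :
    Q' (((conjGL L g : GL κ F) : Matrix κ κ F) *ᵥ w) = c * Q' w := by
  rw [conjGL_mulVec, hL, hg, hL_symm L Q Q' hL]

include hL in
theorem conjGL_mem_sim {g : GL ι F} (hg : g ∈ Cfsg.Geo.quadSimilarityGroup (F := F) Q) :
    conjGL L g ∈ Cfsg.Geo.quadSimilarityGroup (F := F) Q' := by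
  obtain ⟨c, hc⟩ := hg
  exact ⟨c, conjGL_sim L Q Q' hL hc⟩

include hL in
theorem conjGL_mem_iso {s : GL ι F} (hs : s ∈ Cfsg.isometryGroup F Q) :
    conjGL L s ∈ Cfsg.isometryGroup F Q' := by
  rw [mem_iso_iff'] at hs ⊢
  intro w
  have := conjGL_sim L Q Q' hL (g := s) (c := 1) (fun v => by rw [hs v, one_mul]) w
  rw [this, one_mul]

/-- conjugation by a linear isometry, on the isometry groups -/
noncomputable def isoConjR : ↥(Cfsg.isometryGroup F Q) ≃* ↥(Cfsg.isometryGroup F Q') where
  toFun s := ⟨conjGL L s.1, conjGL_mem_iso L Q Q' hL s.2⟩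
  invFun s := ⟨conjGL L.symm s.1, conjGL_mem_iso L.symm Q' Q (hL_symm L Q Q' hL) s.2⟩
  left_inv s := Subtype.ext (conjGL_symm_conjGL L s.1)
  right_inv s := Subtype.ext (conjGL_conjGL_symm L s.1)
  map_mul' s t := Subtype.ext (map_mul (conjGL L) s.1 t.1)

theorem isoConjR_val (s : ↥(Cfsg.isometryGroup F Q)) :
    (isoConjR L Q Q' hL s : GL κ F) = conjGL L s.1 := rfl

theorem isoConjR_symm_val (s : ↥(Cfsg.isometryGroup F Q')) :
    ((isoConjR L Q Q' hL).symm s : GL ι F) = conjGL L.symm s.1 := rfl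

/-- the isomorphism `PΩ(Q) ≃* PΩ(Q')` induced by a linear isometry -/
noncomputable def pomegaConjR : Cfsg.POmega F Q ≃* Cfsg.POmega F Q' :=
  pcEquiv (isoConjR L Q Q' hL)

theorem pomegaConjR_mk (s : ↥(Cfsg.Omega F Q)) :
    pomegaConjR L Q Q' hL (QuotientGroup.mk s) =
      QuotientGroup.mk (commEquiv (isoConjR L Q Q' hL) s) := rfl

theorem pomegaConjR_symm_mk (s : ↥(Cfsg.Omega F Q')) :
    (pomegaConjR L Q Q' hL).symm (QuotientGroup.mk s) =
      QuotientGroup.mk (commEquiv (isoConjR L Q Q' hL).symm s) := by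
  apply (pomegaConjR L Q Q' hL).injective
  rw [MulEquiv.apply_symm_apply, pomegaConjR_mk]
  congr 1
  apply Subtype.ext
  rw [commEquiv_coe, commEquiv_coe, MulEquiv.apply_symm_apply]

/-- the transported similarity -/
noncomputable def simConjR : ↥(Cfsg.Geo.quadSimilarityGroup (F := F) Q) ≃*
    ↥(Cfsg.Geo.quadSimilarityGroup (F := F) Q') where
  toFun g := ⟨conjGL L g.1, conjGL_mem_sim L Q Q' hL g.2⟩
  invFun g := ⟨conjGL L.symm g.1, conjGL_mem_sim L.symm Q' Q (hL_symm L Q Q' hL) g.2⟩
  left_inv g := Subtype.ext (conjGL_symm_conjGL L g.1)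
  right_inv g := Subtype.ext (conjGL_conjGL_symm L g.1)
  map_mul' g h := Subtype.ext (map_mul (conjGL L) g.1 h.1)

theorem simConjR_val (g : ↥(Cfsg.Geo.quadSimilarityGroup (F := F) Q)) :
    (simConjR L Q Q' hL g : GL κ F) = conjGL L g.1 := rfl

/-- compatibility of the isomorphism with the automorphisms induced by similarities -/
theorem pomegaConjR_theta (g : ↥(Cfsg.Geo.quadSimilarityGroup (F := F) Q))
    (t : Cfsg.POmega F Q) :
    pomegaConjR L Q Q' hL (theta Q g t) =
      theta Q' (simConjR L Q Q' hL g) (pomegaConjR L Q Q' hL t) := by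
  induction t using QuotientGroup.induction_on with
  | H s =>
    rw [theta_mk, pomegaConjR_mk, pomegaConjR_mk, theta_mk]
    congr 1
    apply Subtype.ext
    apply Subtype.ext
    rw [char_val, commEquiv_coe, commEquiv_coe, isoConjR_val, isoConjR_val, simConjR_val]
    have : (((MulAut.characteristic (Cfsg.Omega F Q) (conjSub Q g) s : ↥(Cfsg.Omega F Q)) :
      ↥(Cfsg.isometryGroup F Q)) : GL ι F) = g.1 * s.1.1 * g.1⁻¹ := rfl
    rw [this, map_mul, map_mul, map_inv]

/-- conjugating by the isomorphism carries `θ_Q(g)` to `θ_{Q'}(L g L⁻¹)` -/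
theorem congr_thetaR (g : ↥(Cfsg.Geo.quadSimilarityGroup (F := F) Q)) :
    MulAut.congr (pomegaConjR L Q Q' hL) (theta Q g) = theta Q' (simConjR L Q Q' hL g) := by
  apply MulEquiv.ext
  intro t
  show pomegaConjR L Q Q' hL (theta Q g ((pomegaConjR L Q Q' hL).symm t)) = _
  rw [pomegaConjR_theta, MulEquiv.apply_symm_apply]

/-- the matrix form of the intertwining relation -/
theorem intertwine_matrix {g : GL ι F} {g' : GL κ F} {σ : F ≃+* F}
    (hcomm : ∀ v, L (semiMap g σ v) = semiMap g' σ (L v)) :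
    matL L * (g : Matrix ι ι F) = (g' : Matrix κ κ F) * (matL L).map σ := by
  apply Matrix.toLin'.injective
  apply LinearMap.ext
  intro w
  rw [Matrix.toLin'_apply, Matrix.toLin'_apply]
  have h := hcomm (fun i => σ.symm (w i))
  unfold semiMap at h
  have e : (fun i => σ ((fun i => σ.symm (w i)) i)) = w := by
    funext i
    exact σ.apply_symm_apply _
  rw [e, ← matL_mulVec, Matrix.mulVec_mulVec] at h
  rw [h, ← matL_mulVec, ← Matrix.mulVec_mulVec]
  congr 1
  funext i
  have h2 := RingHom.map_mulVec ((σ : F ≃+* F) : F →+* F) (matL L) (fun i => σ.symm (w i)) i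
  have e2 : (((σ : F ≃+* F) : F →+* F) : F → F) ∘ (fun i => σ.symm (w i)) = w := by
    funext j
    exact σ.apply_symm_apply _
  rw [e2] at h2
  exact h2

theorem map_matL_mul_symm (σ : F ≃+* F) : (matL L).map σ * (matL L.symm).map σ = 1 := by
  have h : (matL L * matL L.symm).map σ = (1 : Matrix κ κ F).map σ := by
    rw [matL_mul_symm]
  rw [Matrix.map_mul] at h
  rw [h]
  ext i j
  by_cases hij : i = j
  · subst hij
    simp
  · simp [Matrix.one_apply_ne hij]

/-- transport of automorphisms induced by semisimilarities -/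
theorem congr_induced {g : GL ι F} {g' : GL κ F} {σ : F ≃+* F}
    (hcomm : ∀ v, L (semiMap g σ v) = semiMap g' σ (L v))
    {β : MulAut (Cfsg.POmega F Q)} (hind : Cfsg.IsInducedBySemilinearPOmega Q g σ β) :
    Cfsg.IsInducedBySemilinearPOmega Q' g' σ (MulAut.congr (pomegaConjR L Q Q' hL) β) := by
  have hM := intertwine_matrix L hcomm
  intro s s' hs
  show pomegaConjR L Q Q' hL (β ((pomegaConjR L Q Q' hL).symm (QuotientGroup.mk s))) = _
  rw [pomegaConjR_symm_mk]
  set t := commEquiv (isoConjR L Q Q' hL).symm s with ht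
  set t' := commEquiv (isoConjR L Q Q' hL).symm s' with ht'
  have htm : (((t : ↥(Cfsg.isometryGroup F Q)) : GL ι F) : Matrix ι ι F) =
      matL L.symm * (((s : ↥(Cfsg.isometryGroup F Q')) : GL κ F) : Matrix κ κ F) * matL L := by
    rw [ht, commEquiv_coe, isoConjR_symm_val, conjGL_coe, LinearEquiv.symm_symm]
  have htm' : (((t' : ↥(Cfsg.isometryGroup F Q)) : GL ι F) : Matrix ι ι F) =
      matL L.symm * (((s' : ↥(Cfsg.isometryGroup F Q')) : GL κ F) : Matrix κ κ F) * matL L := by
    rw [ht', commEquiv_coe, isoConjR_symm_val, conjGL_coe, LinearEquiv.symm_symm]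
  -- auxiliary matrix identities
  have h1 : matL L.symm * (g' : Matrix κ κ F) = (g : Matrix ι ι F) * (matL L.symm).map σ := by
    calc matL L.symm * (g' : Matrix κ κ F)
        = matL L.symm * ((g' : Matrix κ κ F) * ((matL L).map σ * (matL L.symm).map σ)) := by
          rw [map_matL_mul_symm, Matrix.mul_one]
      _ = matL L.symm * (((g' : Matrix κ κ F) * (matL L).map σ) * (matL L.symm).map σ) := by
          simp only [Matrix.mul_assoc]
      _ = (matL L.symm * matL L) * (g : Matrix ι ι F) * (matL L.symm).map σ := by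
          rw [← hM]
          simp only [Matrix.mul_assoc]
      _ = _ := by rw [matL_symm_mul, Matrix.one_mul]
  have h2 : ((g'⁻¹ : GL κ F) : Matrix κ κ F) * matL L =
      (matL L).map σ * ((g⁻¹ : GL ι F) : Matrix ι ι F) := by
    calc ((g'⁻¹ : GL κ F) : Matrix κ κ F) * matL L
        = ((g'⁻¹ : GL κ F) : Matrix κ κ F) * (matL L * ((g : Matrix ι ι F) *
            ((g⁻¹ : GL ι F) : Matrix ι ι F))) := by
          rw [← Units.val_mul, mul_inv_cancel, Units.val_one, Matrix.mul_one]
      _ = ((g'⁻¹ : GL κ F) : Matrix κ κ F) * ((matL L * (g : Matrix ι ι F)) *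
            ((g⁻¹ : GL ι F) : Matrix ι ι F)) := by
          simp only [Matrix.mul_assoc]
      _ = (((g'⁻¹ : GL κ F) : Matrix κ κ F) * (g' : Matrix κ κ F)) * (matL L).map σ *
            ((g⁻¹ : GL ι F) : Matrix ι ι F) := by
          rw [hM]
          simp only [Matrix.mul_assoc]
      _ = _ := by rw [← Units.val_mul, inv_mul_cancel, Units.val_one, Matrix.one_mul]
  have hkey : (((t' : ↥(Cfsg.isometryGroup F Q)) : GL ι F) : Matrix ι ι F) =
      (g : Matrix ι ι F) * ((((t : ↥(Cfsg.isometryGroup F Q)) : GL ι F) : Matrix ι ι F)).map σ *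
        ((g⁻¹ : GL ι F) : Matrix ι ι F) := by
    rw [htm', htm, hs, Matrix.map_mul, Matrix.map_mul]
    calc matL L.symm * ((g' : Matrix κ κ F) *
          ((((s : ↥(Cfsg.isometryGroup F Q')) : GL κ F) : Matrix κ κ F)).map σ *
          ((g'⁻¹ : GL κ F) : Matrix κ κ F)) * matL L
        = (matL L.symm * (g' : Matrix κ κ F)) *
          ((((s : ↥(Cfsg.isometryGroup F Q')) : GL κ F) : Matrix κ κ F)).map σ *
          (((g'⁻¹ : GL κ F) : Matrix κ κ F) * matL L) := by
          simp only [Matrix.mul_assoc]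
      _ = _ := by
          rw [h1, h2]
          simp only [Matrix.mul_assoc]
  rw [hind t t' hkey, pomegaConjR_mk]
  congr 1
  apply Subtype.ext
  rw [commEquiv_coe, ht', commEquiv_coe, MulEquiv.apply_symm_apply]

end rect

end Cfsg.Agent.Lib.Helper25.GFld
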