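import Cfsg.Agent.Lib.Helper25.GFld17
import Cfsg.Agent.Lib.Helper18.OrthMinJ

set_option autoImplicit false

/-!
# The centralizer of the standard involutory graph-field automorphism of `PΩ⁺_{2m}(F)`
-/

namespace Cfsg.Agent.Lib.Helper25.GFld

open Module QuadraticMap Matrix Cfsg.Agent.Lib.Helper25.MaxTS Cfsg.Agent.Lib.Helper25.CD
  Cfsg.Agent.Lib.Helper25.GraphSplit Cfsg.Agent.Lib.Helper25.PSim Cfsg.Agent.Lib.Helper25.Spin
  Cfsg.Agent.Lib.Helper18.OrthFld Cfsg.Agent.Lib.Helper18.OrthPar Cfsg.Agent.Lib.Helper14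
  Cfsg.Agent.Lib.Helper14.OrthMinus Cfsg.Agent.Lib.Helper14.QuadExt
  Cfsg.Agent.Lib.Helper18.OrthIso Cfsg.Agent.Lib.Helper18.OrthMin
  Cfsg.Agent.Lib.Helper15.QuadType

universe u v

section model

variable {F : Type u} [Field F] [Fintype F] (k : ℕ) (a b ζ : F)
  (hζ : ζ ^ 2 + a * ζ + b = 0) (hD : a ^ 2 - 4 * b ≠ 0)

/-- the split isometry from the minus-type coordinates to the hyperbolic coordinates -/
theorem hLL (v : Idx k → F) :
    (⇑(Qp (k + 1) F) : (Fin (k + 1) ⊕ Fin (k + 1) → F) → F) (toPlusEquiv k a b ζ hζ hD v) =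
      (⇑(Qm k a b hD) : (Idx k → F) → F) v := by
  rw [toPlusEquiv_apply]
  exact plus_toPlus k a b ζ hζ v

/-- the isomorphism from the group in minus-type coordinates to the group in hyperbolic
coordinates -/
noncomputable def psiM : Cfsg.POmega F ⇑(Qm k a b hD) ≃* Cfsg.POmega F ⇑(Qp (k + 1) F) :=
  pomegaConjR (toPlusEquiv k a b ζ hζ hD) (⇑(Qm k a b hD)) (⇑(Qp (k + 1) F)) (hLL k a b ζ hζ hD)

/-- the standard field automorphism in minus-type coordinates becomes the standard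
graph-field automorphism in hyperbolic coordinates -/
theorem congr_field_eq (σ : RingAut F) (ha : σ a = a) (hb : σ b = b) (hσζ : σ ζ ≠ ζ)
    {φ₁ : MulAut (Cfsg.POmega F ⇑(Qm k a b hD))}
    (hφ₁ : Cfsg.IsFieldAutPOmegaOf (⇑(Qm k a b hD)) σ φ₁) :
    MulAut.congr (psiM k a b ζ hζ hD) φ₁ = stdGF k σ := by
  have hσζ' : σ ζ = -a - ζ := by
    have h1 : (σ ζ) ^ 2 + a * σ ζ + b = 0 := by
      have := congrArg σ hζ
      rwa [map_add, map_add, map_mul, map_pow, ha, hb, map_zero] at this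
    have h2 : (σ ζ - ζ) * (σ ζ + a + ζ) = 0 := by linear_combination h1 - hζ
    rcases mul_eq_zero.1 h2 with h | h
    · exact absurd (sub_eq_zero.1 h) hσζ
    · linear_combination h
  set s : GL (Fin (k + 1) ⊕ Fin (k + 1)) F :=
    ((reflM (Qp (k + 1) F) (swapVec k) : ↥(Cfsg.isometryGroup F ⇑(Qp (k + 1) F))) :
      GL (Fin (k + 1) ⊕ Fin (k + 1)) F) with hs
  have hcomm : ∀ v, toPlusEquiv k a b ζ hζ hD (semiMap (1 : GL (Idx k) F) σ v) =
      semiMap s σ (toPlusEquiv k a b ζ hζ hD v) := by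
    intro v
    rw [toPlusEquiv_apply, toPlusEquiv_apply]
    exact toPlus_sigma k a ζ σ ha hσζ' v
  have h1 := congr_induced (toPlusEquiv k a b ζ hζ hD) (⇑(Qm k a b hD)) (⇑(Qp (k + 1) F))
    (hLL k a b ζ hζ hD) hcomm ((fieldAut_iff_induced _ _ _).1 hφ₁)
  have hfix := qfix_plus (F := F) (k + 1)
  have hpt := pair_of_sim (⇑(Qp (k + 1) F)) (tRefl (Qp (k + 1) F) (swapVec k)).2
  have hp1 := pair_one (⇑(Qp (k + 1) F)) (hfix σ)
  have h2 := induced_mul (⇑(Qp (k + 1) F)) hpt hp1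
    (theta_induced (⇑(Qp (k + 1) F)) (tRefl (Qp (k + 1) F) (swapVec k)))
    (stdField_induced (Qp (k + 1) F) hfix σ)
  have hpair := pair_mul (⇑(Qp (k + 1) F)) hpt hp1
  have e1 : ((tRefl (Qp (k + 1) F) (swapVec k)).1 : GL (Fin (k + 1) ⊕ Fin (k + 1)) F) *
      sigmaGL (RingEquiv.refl F) 1 = s := by
    rw [map_one, mul_one]
    rfl
  have e2 : (σ : F ≃+* F).trans (RingEquiv.refl F) = σ := by
    apply RingEquiv.ext
    intro x
    rfl
  rw [e1, e2] at h2 hpair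
  exact induced_unique (⇑(Qp (k + 1) F)) hpair h1 h2

end model

section cent

variable {F₀ : Type v} {F : Type u} [Field F₀] [Field F] [Fintype F₀] [Fintype F]
  (k : ℕ) (e : F₀ →+* F) (a₀ b₀ : F₀) (hab₀ : Aniso a₀ b₀) (ζ : F)
  (hζ : ζ ^ 2 + e a₀ * ζ + e b₀ = 0)

include hζ in
/-- base change from the subfield: the class-preserving condition over `F` (where the form is
hyperbolic) detects the inner-diagonal automorphisms of the minus-type group over `F₀` -/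
theorem pres_simMap_iff (hk : 3 ≤ k)
    (g₀ : ↥(Cfsg.Geo.quadSimilarityGroup (F := F₀) ⇑(Qm k a₀ b₀ (disc_ne_zero hab₀)))) :
    Cfsg.PreservesSingularClasses ⇑(Qm k (e a₀) (e b₀) (disc_map e (disc_ne_zero hab₀)))
        (((simMap e (Qm k a₀ b₀ (disc_ne_zero hab₀))
          (Qm k (e a₀) (e b₀) (disc_map e (disc_ne_zero hab₀)))
          (hcompat k e a₀ b₀ (disc_ne_zero hab₀)) g₀).1 : GL (Idx k) F) :
          Matrix (Idx k) (Idx k) F) ↔
      theta ⇑(Qm k a₀ b₀ (disc_ne_zero hab₀)) g₀ ∈ inndiagQ k a₀ b₀ (disc_ne_zero hab₀) := by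
  have hD₀ := disc_ne_zero hab₀
  have hD := disc_map e hD₀
  have hc := hcompat k e a₀ b₀ hD₀
  have hQ₀ : (polarBilin (Qm k a₀ b₀ hD₀)).Nondegenerate := qfOf_nondeg _
  have hQ₁ : (polarBilin (Qm k (e a₀) (e b₀) hD)).Nondegenerate := qfOf_nondeg _
  rw [simMap_coe]
  by_cases h2₀ : (2 : F₀) = 0
  · rw [inndiagQ_eq_inn k a₀ b₀ hab₀ h2₀ (by omega), theta_mem_inn_iff_pres k a₀ b₀ h2₀ hk hab₀]
    have hex : Fintype.card F₀ ≠ 2 ∨ Fintype.card (Idx k) ≠ 4 := by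
      right
      rw [card_Idx]
      omega
    obtain ⟨z₀, vs₀, hz₀, hvs₀, hgz⟩ := sim_eq_smul_word h2₀ _ hQ₀ hex g₀.1 g₀.2
    have hmap : ((g₀.1 : GL (Idx k) F₀) : Matrix (Idx k) (Idx k) F₀).map e =
        e z₀ • (((wordG (Qm k (e a₀) (e b₀) hD) (vs₀.map (ev e)) :
          ↥(Cfsg.isometryGroup F ⇑(Qm k (e a₀) (e b₀) hD))) :
          GL (Idx k) F) : Matrix (Idx k) (Idx k) F) := by
      rw [← isoMap_wordG e (Qm k a₀ b₀ hD₀) _ hc, isoMap_coe, hgz]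
      ext i j
      simp [Matrix.map_apply, Matrix.smul_apply]
    have hz : e z₀ ≠ 0 := by
      intro h
      apply hz₀
      apply e.injective
      rw [h, map_zero]
    have hvs : ∀ w ∈ vs₀.map (ev e), Qm k (e a₀) (e b₀) hD w ≠ 0 := by
      intro w hw
      obtain ⟨v, hv, rfl⟩ := List.mem_map.1 hw
      have := hc v
      intro h0
      apply hvs₀ v hv
      apply e.injective
      rw [map_zero, ← this]
      exact h0
    rw [hmap, pres_smul _ hz, hgz, presMinus_word_iff k a₀ b₀ hab₀ z₀ hz₀ vs₀ hvs₀,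
      pres_wordG (k + 1) (Qm k (e a₀) (e b₀) hD) (toPlusEquiv k (e a₀) (e b₀) ζ hζ hD)
        (fun v => by rw [toPlusEquiv_apply]; exact plus_toPlus k _ _ ζ hζ v) hQ₁ _ hvs,
      List.length_map]
  · have h2 : (2 : F) ≠ 0 := by
      intro h
      apply h2₀
      apply e.injective
      rw [map_ofNat, h, map_zero]
    rw [inndiagQ_eq_proper k a₀ b₀ hab₀ h2₀, theta_mem_properAut_iff k a₀ b₀ _ h2₀ hk,
      mem_properSub_iff]
    unfold IsProper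
    set μ₀ : F₀ := (mult (Qm k a₀ b₀ hD₀) (v0 k) (Qm_v0 k _ _ _) g₀ : F₀) with hμ₀
    have hμ0 : μ₀ ≠ 0 := Units.ne_zero _
    have hsim : ∀ v, Cfsg.quadFormMinus k F (e a₀) (e b₀)
        ((((g₀.1 : GL (Idx k) F₀) : Matrix (Idx k) (Idx k) F₀).map e) *ᵥ v) =
        e μ₀ * Cfsg.quadFormMinus k F (e a₀) (e b₀) v := by
      intro v
      have h1 := Q_sim (Qm k (e a₀) (e b₀) hD) (v0 k) (Qm_v0 k _ _ _)
        (simMap e (Qm k a₀ b₀ hD₀) (Qm k (e a₀) (e b₀) hD) hc g₀) v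
      rw [mult_simMap k e a₀ b₀ hD₀ g₀, simMap_coe] at h1
      exact h1
    have hiff := preserves_split_iff k (e a₀) (e b₀) ζ h2 hζ hD
      (((g₀.1 : GL (Idx k) F₀) : Matrix (Idx k) (Idx k) F₀).map e) (e μ₀)
      (by intro h; apply hμ0; apply e.injective; rw [h, map_zero]) hsim
    have hdet : (((g₀.1 : GL (Idx k) F₀) : Matrix (Idx k) (Idx k) F₀).map e).det =
        e ((g₀.1 : GL (Idx k) F₀) : Matrix (Idx k) (Idx k) F₀).det := by
      have := RingHom.map_det e ((g₀.1 : GL (Idx k) F₀) : Matrix (Idx k) (Idx k) F₀)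
      rw [RingHom.mapMatrix_apply] at this
      exact this.symm
    rw [hdet, ← map_pow] at hiff
    exact hiff.trans e.injective.eq_iff

theorem conjGL_eq_conjM {ι : Type} [Fintype ι] [DecidableEq ι] (n : ℕ)
    (L : (ι → F) ≃ₗ[F] (Fin n ⊕ Fin n → F)) (g : GL ι F) :
    ((conjGL L g : GL (Fin n ⊕ Fin n) F) : Matrix (Fin n ⊕ Fin n) (Fin n ⊕ Fin n) F) =
      conjM n L (g : Matrix ι ι F) := by
  apply matrix_eq_of_mulVec
  intro x
  rw [conjGL_mulVec, conjM_mulVec]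

/-- the action of the similarity group of the minus-type form over the subfield on
`PΩ⁺_{2m}(F)` -/
noncomputable def gfHom :
    ↥(Cfsg.Geo.quadSimilarityGroup (F := F₀) ⇑(Qm k a₀ b₀ (disc_ne_zero hab₀))) →*
      MulAut (Cfsg.POmega F ⇑(Qp (k + 1) F)) :=
  (MulAut.congr (psiM k (e a₀) (e b₀) ζ hζ (disc_map e (disc_ne_zero hab₀)))).toMonoidHom.comp
    (PsiF e (Qm k a₀ b₀ (disc_ne_zero hab₀)) (Qm k (e a₀) (e b₀) (disc_map e (disc_ne_zero hab₀)))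
      (hcompat k e a₀ b₀ (disc_ne_zero hab₀)))

theorem gfHom_apply
    (g₀ : ↥(Cfsg.Geo.quadSimilarityGroup (F := F₀) ⇑(Qm k a₀ b₀ (disc_ne_zero hab₀)))) :
    gfHom k e a₀ b₀ hab₀ ζ hζ g₀ =
      MulAut.congr (psiM k (e a₀) (e b₀) ζ hζ (disc_map e (disc_ne_zero hab₀)))
        (theta _ (simMap e (Qm k a₀ b₀ (disc_ne_zero hab₀))
          (Qm k (e a₀) (e b₀) (disc_map e (disc_ne_zero hab₀)))
          (hcompat k e a₀ b₀ (disc_ne_zero hab₀)) g₀)) := rfl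

/-- explicit form: `θ` of the conjugated base-changed similarity -/
theorem gfHom_eq_theta
    (g₀ : ↥(Cfsg.Geo.quadSimilarityGroup (F := F₀) ⇑(Qm k a₀ b₀ (disc_ne_zero hab₀)))) :
    gfHom k e a₀ b₀ hab₀ ζ hζ g₀ = theta ⇑(Qp (k + 1) F)
      (simConjR (toPlusEquiv k (e a₀) (e b₀) ζ hζ (disc_map e (disc_ne_zero hab₀))) _ _
        (hLL k (e a₀) (e b₀) ζ hζ (disc_map e (disc_ne_zero hab₀)))
        (simMap e (Qm k a₀ b₀ (disc_ne_zero hab₀))
          (Qm k (e a₀) (e b₀) (disc_map e (disc_ne_zero hab₀)))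
          (hcompat k e a₀ b₀ (disc_ne_zero hab₀)) g₀)) := by
  rw [gfHom_apply]
  exact congr_thetaR _ _ _ (hLL k (e a₀) (e b₀) ζ hζ (disc_map e (disc_ne_zero hab₀))) _

theorem gfHom_ker (hk : 3 ≤ k) :
    (gfHom k e a₀ b₀ hab₀ ζ hζ).ker = (theta ⇑(Qm k a₀ b₀ (disc_ne_zero hab₀))).ker := by
  have hD₀ := disc_ne_zero hab₀
  have hD := disc_map e hD₀
  have hc := hcompat k e a₀ b₀ hD₀
  have hQ₀ : (polarBilin (Qm k a₀ b₀ hD₀)).Nondegenerate := qfOf_nondeg _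
  have hQ₁ : (polarBilin (Qm k (e a₀) (e b₀) hD)).Nondegenerate := qfOf_nondeg _
  have hn := seven_le_card_Idx k hk
  ext g₀
  rw [MonoidHom.mem_ker, ← ker_PsiF e (Qm k a₀ b₀ hD₀) (Qm k (e a₀) (e b₀) hD) hc hQ₀ hQ₁ hn,
    MonoidHom.mem_ker, gfHom_apply, PsiF_apply]
  exact (MulAut.congr _).map_eq_one_iff

/-- the image of `gfHom` centralizes the standard graph-field automorphism; it lies in
`Inndiag` exactly for the inner-diagonal elements over the subfield -/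
theorem gfHom_mem_iff (hk : 3 ≤ k) (σ : RingAut F)
    (he' : ∀ b, σ (e b) = e b) (hσζ : σ ζ ≠ ζ)
    (g₀ : ↥(Cfsg.Geo.quadSimilarityGroup (F := F₀) ⇑(Qm k a₀ b₀ (disc_ne_zero hab₀)))) :
    gfHom k e a₀ b₀ hab₀ ζ hζ g₀ ∈ GPlus (F := F) k ⊓ Subgroup.centralizer {stdGF k σ} ↔
      theta ⇑(Qm k a₀ b₀ (disc_ne_zero hab₀)) g₀ ∈ inndiagQ k a₀ b₀ (disc_ne_zero hab₀) := by
  have hD₀ := disc_ne_zero hab₀
  have hD := disc_map e hD₀
  have hc := hcompat k e a₀ b₀ hD₀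
  have hQp : (polarBilin (Qp (k + 1) F)).Nondegenerate := qfOf_nondeg _
  have hnp : 7 ≤ Fintype.card (Fin (k + 1) ⊕ Fin (k + 1)) := by
    rw [card_plus_idx]
    omega
  have hfix₁ : Qfix (⇑(Qm k (e a₀) (e b₀) hD)) σ :=
    qfix_minus k (e a₀) (e b₀) σ _ (he' a₀) (he' b₀)
  obtain ⟨φ₁, hφ₁d⟩ : ∃ φ₁, φ₁ = Cfsg.Agent.Lib.Helper25.AutOut.semiAut
      (⇑(Qm k (e a₀) (e b₀) hD)) (pair_one _ hfix₁) := ⟨_, rfl⟩
  have hφ₁ : Cfsg.IsFieldAutPOmegaOf (⇑(Qm k (e a₀) (e b₀) hD)) σ φ₁ := by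
    rw [hφ₁d, fieldAut_iff_induced]
    exact Cfsg.Agent.Lib.Helper25.AutOut.semiAut_induced _ _
  have hcg := congr_field_eq k (e a₀) (e b₀) ζ hζ hD σ (he' a₀) (he' b₀) hσζ hφ₁
  have hLL := hLL k (e a₀) (e b₀) ζ hζ hD
  rw [Subgroup.mem_inf, ← pres_simMap_iff k e a₀ b₀ hab₀ ζ hζ hk g₀]
  have hcen : gfHom k e a₀ b₀ hab₀ ζ hζ g₀ ∈ Subgroup.centralizer {stdGF k σ} := by
    have h1 := PsiF_mem_centralizer e (Qm k a₀ b₀ hD₀) (Qm k (e a₀) (e b₀) hD) hc hfix₁ hφ₁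
      he' g₀
    rw [PsiF_apply, Subgroup.mem_centralizer_iff] at h1
    rw [Subgroup.mem_centralizer_iff]
    intro y hy
    rw [Set.mem_singleton_iff] at hy
    subst hy
    rw [gfHom_apply, ← hcg, ← map_mul, ← map_mul, h1 _ rfl]
  have hpres : gfHom k e a₀ b₀ hab₀ ζ hζ g₀ ∈ GPlus (F := F) k ↔
      Cfsg.PreservesSingularClasses ⇑(Qm k (e a₀) (e b₀) hD)
        (((simMap e (Qm k a₀ b₀ hD₀) (Qm k (e a₀) (e b₀) hD) hc g₀).1 : GL (Idx k) F) :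
          Matrix (Idx k) (Idx k) F) := by
    rw [gfHom_eq_theta, theta_mem_presAut_iff (Qp (k + 1) F) k (LinearEquiv.refl F _)
      (fun _ => rfl) hQp hnp, simConjR_val, conjGL_eq_conjM]
    exact preserves_conj_iff (k + 1) _ (toPlusEquiv k (e a₀) (e b₀) ζ hζ hD) hLL _
  constructor
  · rintro ⟨h1, -⟩
    exact hpres.1 h1
  · intro h1
    exact ⟨hpres.2 h1, hcen⟩

/-- every element of `Inndiag` centralizing the standard graph-field automorphism comes from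
the subfield -/
theorem le_range_gfHom (hk : 3 ≤ k) (σ : RingAut F) (hσ : orderOf σ = 2)
    (he : ∀ x : F, σ x = x ↔ x ∈ Set.range e) (hσζ : σ ζ ≠ ζ) :
    GPlus (F := F) k ⊓ Subgroup.centralizer {stdGF k σ} ≤
      (gfHom k e a₀ b₀ hab₀ ζ hζ).range := by
  have hD₀ := disc_ne_zero hab₀
  have hD := disc_map e hD₀
  have hc := hcompat k e a₀ b₀ hD₀
  have hQ₁ : (polarBilin (Qm k (e a₀) (e b₀) hD)).Nondegenerate := qfOf_nondeg _
  have hn := seven_le_card_Idx k hk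
  have he' : ∀ b, σ (e b) = e b := fun b => (he _).2 ⟨b, rfl⟩
  have hfix₁ : Qfix (⇑(Qm k (e a₀) (e b₀) hD)) σ :=
    qfix_minus k (e a₀) (e b₀) σ _ (he' a₀) (he' b₀)
  obtain ⟨φ₁, hφ₁d⟩ : ∃ φ₁, φ₁ = Cfsg.Agent.Lib.Helper25.AutOut.semiAut
      (⇑(Qm k (e a₀) (e b₀) hD)) (pair_one _ hfix₁) := ⟨_, rfl⟩
  have hφ₁ : Cfsg.IsFieldAutPOmegaOf (⇑(Qm k (e a₀) (e b₀) hD)) σ φ₁ := by
    rw [hφ₁d, fieldAut_iff_induced]
    exact Cfsg.Agent.Lib.Helper25.AutOut.semiAut_induced _ _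
  have hcg := congr_field_eq k (e a₀) (e b₀) ζ hζ hD σ (he' a₀) (he' b₀) hσζ hφ₁
  have hLL := hLL k (e a₀) (e b₀) ζ hζ hD
  rintro d ⟨hdG, hdC⟩
  obtain ⟨h, hh, rfl⟩ := hdG
  set g := (simConjR (toPlusEquiv k (e a₀) (e b₀) ζ hζ hD) _ _ hLL).symm h with hg
  have hgh : theta ⇑(Qp (k + 1) F) h =
      MulAut.congr (psiM k (e a₀) (e b₀) ζ hζ hD) (theta _ g) := by
    have := congr_thetaR (toPlusEquiv k (e a₀) (e b₀) ζ hζ hD) _ _ hLL g
    rw [hg, MulEquiv.apply_symm_apply] at this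
    rw [hg]
    exact this.symm
  have hmem : theta ⇑(Qm k (e a₀) (e b₀) hD) g ∈
      (theta ⇑(Qm k (e a₀) (e b₀) hD)).range ⊓ Subgroup.centralizer {φ₁} := by
    refine ⟨⟨g, rfl⟩, ?_⟩
    show theta ⇑(Qm k (e a₀) (e b₀) hD) g ∈ Subgroup.centralizer {φ₁}
    rw [Subgroup.mem_centralizer_iff]
    intro y hy
    rw [Set.mem_singleton_iff] at hy
    subst hy
    apply (MulAut.congr (psiM k (e a₀) (e b₀) ζ hζ hD)).injective
    rw [map_mul, map_mul, hcg, ← hgh]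
    have hdC' : theta ⇑(Qp (k + 1) F) h ∈ Subgroup.centralizer {stdGF k σ} := hdC
    rw [Subgroup.mem_centralizer_iff] at hdC'
    exact hdC' _ rfl
  rw [← range_PsiF e (Qm k a₀ b₀ hD₀) (Qm k (e a₀) (e b₀) hD) hc hfix₁ hφ₁ hQ₁ hn 2 hσ
    (by norm_num) he] at hmem
  obtain ⟨g₀, hg₀⟩ := hmem
  refine ⟨g₀, ?_⟩
  rw [gfHom_apply, ← PsiF_apply, hg₀, hgh]

include hζ in
/-- **the centralizer** of the standard involutory graph-field automorphism in `Inndiag` -/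
theorem cent_equiv (hk : 3 ≤ k) (σ : RingAut F) (hσ : orderOf σ = 2)
    (he : ∀ x : F, σ x = x ↔ x ∈ Set.range e) (hσζ : σ ζ ≠ ζ) :
    Nonempty (↥(GPlus (F := F) k ⊓ Subgroup.centralizer {stdGF k σ}) ≃*
      ↥(inndiagQ k a₀ b₀ (disc_ne_zero hab₀))) := by
  have he' : ∀ b, σ (e b) = e b := fun b => (he _).2 ⟨b, rfl⟩
  exact nonempty_equiv_of_ker_eq (gfHom k e a₀ b₀ hab₀ ζ hζ)
    (theta ⇑(Qm k a₀ b₀ (disc_ne_zero hab₀))) (gfHom_ker k e a₀ b₀ hab₀ ζ hζ hk) _ _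
    (le_range_gfHom k e a₀ b₀ hab₀ ζ hζ hk σ hσ he hσζ)
    (inndiagQ_le_range k a₀ b₀ hab₀ (by omega))
    (gfHom_mem_iff k e a₀ b₀ hab₀ ζ hζ hk σ he' hσζ)

end cent

end Cfsg.Agent.Lib.Helper25.GFld
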