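import Cfsg.Agent.Lib.Helper25.GFld18

set_option autoImplicit false

/-!
# Involutory graph-field automorphisms of `PΩ⁺_{2m}(F)`: the field data, conjugacy and the
centralizer
-/

namespace Cfsg.Agent.Lib.Helper25.GFld

open Module QuadraticMap Matrix Cfsg.Agent.Lib.Helper25.MaxTS Cfsg.Agent.Lib.Helper25.CD
  Cfsg.Agent.Lib.Helper25.GraphSplit Cfsg.Agent.Lib.Helper25.PSim Cfsg.Agent.Lib.Helper25.Spin
  Cfsg.Agent.Lib.Helper18.OrthFld Cfsg.Agent.Lib.Helper18.OrthPar Cfsg.Agent.Lib.Helper14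
  Cfsg.Agent.Lib.Helper14.OrthMinus Cfsg.Agent.Lib.Helper14.QuadExt
  Cfsg.Agent.Lib.Helper18.OrthIso Cfsg.Agent.Lib.Helper18.OrthMin
  Cfsg.Agent.Lib.Helper15.QuadType

universe u v

section data

variable {F₀ : Type v} {F : Type u} [Field F₀] [Field F] [Fintype F₀] [Fintype F]

/-- the field data attached to an automorphism of order two -/
theorem exists_field_data {p f : ℕ} [Fact p.Prime] (hF : Fintype.card F = p ^ f)
    (hF₀ : Fintype.card F₀ = p ^ (f / 2)) (σ : RingAut F) (hσ : orderOf σ = 2) :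
    2 ∣ f ∧ ∃ (e : F₀ →+* F) (a₀ b₀ : F₀) (ζ : F), (∀ x : F, σ x = x ↔ x ∈ Set.range e) ∧
      Aniso a₀ b₀ ∧ ζ ^ 2 + e a₀ * ζ + e b₀ = 0 ∧ σ ζ ≠ ζ ∧
      Fintype.card F = Fintype.card F₀ ^ 2 := by
  obtain ⟨hdvd, e, he⟩ := Cfsg.Agent.Lib.Helper18.PSLnFld.exists_fixed_embedding hF σ 2 hσ
    (by norm_num) F₀ hF₀
  refine ⟨hdvd, e, ?_⟩
  obtain ⟨a₀, b₀, hab₀⟩ := exists_aniso (F := F₀)
  have hcard : Fintype.card F = Fintype.card F₀ ^ 2 := by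
    rw [hF, hF₀, ← pow_mul, Nat.div_mul_cancel hdvd]
  letI : Algebra F₀ F := e.toAlgebra
  have hfr : Module.finrank F₀ F = 2 := by
    have h1 : Fintype.card F = Fintype.card F₀ ^ Module.finrank F₀ F :=
      Module.card_eq_pow_finrank
    rw [hcard] at h1
    exact (Nat.pow_right_injective Fintype.one_lt_card h1).symm
  obtain ⟨ζ, hζ⟩ := exists_root_ext (F := F₀) (K := F) hfr a₀ b₀
  have h3 : algebraMap F₀ F = e := rfl
  rw [h3] at hζ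
  refine ⟨a₀, b₀, ζ, he, hab₀, hζ, ?_, hcard⟩
  intro h
  obtain ⟨z, rfl⟩ := (he ζ).1 h
  have h4 : z ^ 2 + a₀ * z * 1 + b₀ * 1 ^ 2 = 0 := by
    apply e.injective
    rw [map_zero, ← hζ]
    simp only [map_add, map_mul, map_pow, map_one]
    ring
  exact one_ne_zero (hab₀ z 1 h4).2

end data

section main

variable {F₀ : Type v} {F : Type u} [Field F₀] [Field F] [Fintype F₀] [Fintype F] (k : ℕ)

/-- parts (1)-(3) of S2717 in terms of `k = m - 1` -/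
theorem gf_main_123 {p f : ℕ} [Fact p.Prime] (hF : Fintype.card F = p ^ f)
    (hk : 3 ≤ k) (hgam : Cfsg.gammaPOmega F (Cfsg.quadFormPlus (k + 1) F) = ⊤)
    (x : MulAut (Cfsg.POmega F ⇑(Qp (k + 1) F)))
    (hx : Cfsg.IsGraphFieldAutClassPOmegaPlus (k + 1) x) (hx2 : orderOf x = 2)
    (hF₀ : Fintype.card F₀ = p ^ (f / 2)) :
    Even f ∧
    (∀ y : MulAut (Cfsg.POmega F ⇑(Qp (k + 1) F)),
      Cfsg.IsGraphFieldAutClassPOmegaPlus (k + 1) y → orderOf y = 2 →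
        Cfsg.IsConjUnder (GPlus (F := F) k) x y) ∧
    (∃ a₀ b₀ : F₀, Aniso a₀ b₀ ∧
      Nonempty (↥(GPlus (F := F) k ⊓ Subgroup.centralizer {x}) ≃*
        ↥(Cfsg.inndiagPOmegaMinus k F₀ a₀ b₀))) := by
  have hn : 7 ≤ Fintype.card (Fin (k + 1) ⊕ Fin (k + 1)) := by
    rw [card_plus_idx]
    omega
  haveI := gPlus_normal k hn hgam
  obtain ⟨σ, hσ⟩ := graph_field_sigma k hn x hx hx2
  obtain ⟨hdvd, e, a₀, b₀, ζ, he, hab₀, hζ, hσζ, hcard⟩ := exists_field_data hF hF₀ σ hσ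
  obtain ⟨h, hh, hxe⟩ := graph_field_std k hn hgam x hx hx2 hσ
  refine ⟨(even_iff_two_dvd).2 hdvd, ?_, a₀, b₀, hab₀, ?_⟩
  · intro y hy hy2
    obtain ⟨h', hh', hye⟩ := graph_field_std k hn hgam y hy hy2 hσ
    refine ⟨h' * h⁻¹, (GPlus (F := F) k).mul_mem hh' ((GPlus (F := F) k).inv_mem hh), ?_⟩
    rw [hye, hxe]
    group
  · obtain ⟨e1⟩ := cent_equiv k e a₀ b₀ hab₀ ζ hζ hk σ hσ he hσζ
    obtain ⟨e2⟩ := Cfsg.Agent.Lib.Helper18.PSLnFld.nonempty_centralizer_conj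
      (GPlus (F := F) k) h (stdGF k σ)
    rw [← hxe] at e2
    exact ⟨e2.symm.trans e1⟩

end main

end Cfsg.Agent.Lib.Helper25.GFld
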