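import Cfsg.Agent.Lib.Helper25.GFld1

set_option autoImplicit false

/-!
# Semilinear bijections and images of subspaces
-/

namespace Cfsg.Agent.Lib.Helper25.GFld

open Module QuadraticMap Cfsg.Agent.Lib.Helper25.MaxTS

section slin

variable {F : Type*} [Field F]

/-- a bijective `σ`-semilinear map -/
structure SLin (σ : F ≃+* F) (V V' : Type*) [AddCommGroup V] [Module F V] [AddCommGroup V']
    [Module F V'] where
  toFun : V → V'
  map_add' : ∀ x y, toFun (x + y) = toFun x + toFun y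
  map_smul' : ∀ (c : F) x, toFun (c • x) = σ c • toFun x
  bij : Function.Bijective toFun

variable {V V' V'' : Type*} [AddCommGroup V] [Module F V] [AddCommGroup V'] [Module F V']
  [AddCommGroup V''] [Module F V'']

namespace SLin

variable {σ τ : F ≃+* F}

theorem map_zero' (T : SLin σ V V') : T.toFun 0 = 0 := by
  have := T.map_smul' 0 0
  rwa [zero_smul, map_zero, zero_smul] at this

/-- the image of a subspace -/
def img (T : SLin σ V V') (U : Submodule F V) : Submodule F V' where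
  carrier := T.toFun '' U
  add_mem' := by
    rintro _ _ ⟨x, hx, rfl⟩ ⟨y, hy, rfl⟩
    exact ⟨x + y, U.add_mem hx hy, T.map_add' x y⟩
  zero_mem' := ⟨0, U.zero_mem, T.map_zero'⟩
  smul_mem' := by
    rintro c _ ⟨x, hx, rfl⟩
    refine ⟨σ.symm c • x, U.smul_mem _ hx, ?_⟩
    rw [T.map_smul', RingEquiv.apply_symm_apply]

theorem mem_img (T : SLin σ V V') (U : Submodule F V) (y : V') :
    y ∈ T.img U ↔ ∃ x ∈ U, T.toFun x = y := Iff.rfl

theorem apply_mem_img (T : SLin σ V V') {U : Submodule F V} {x : V} :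
    T.toFun x ∈ T.img U ↔ x ∈ U := by
  constructor
  · rintro ⟨x', hx', h⟩
    rwa [← T.bij.injective h]
  · intro h
    exact ⟨x, h, rfl⟩

theorem img_inf (T : SLin σ V V') (U W : Submodule F V) :
    T.img (U ⊓ W) = T.img U ⊓ T.img W := by
  ext y
  constructor
  · rintro ⟨x, ⟨hxU, hxW⟩, rfl⟩
    exact ⟨⟨x, hxU, rfl⟩, ⟨x, hxW, rfl⟩⟩
  · rintro ⟨⟨x, hxU, rfl⟩, hW⟩
    exact ⟨x, ⟨hxU, T.apply_mem_img.1 hW⟩, rfl⟩

theorem img_mono (T : SLin σ V V') {U W : Submodule F V} (h : U ≤ W) : T.img U ≤ T.img W := by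
  rintro _ ⟨x, hx, rfl⟩
  exact ⟨x, h hx, rfl⟩

/-- the additive equivalence between a subspace and its image -/
noncomputable def restr (T : SLin σ V V') (U : Submodule F V) : ↥U ≃+ ↥(T.img U) :=
  AddEquiv.ofBijective
    ({ toFun := fun x => ⟨T.toFun x.1, ⟨x.1, x.2, rfl⟩⟩
       map_zero' := Subtype.ext T.map_zero'
       map_add' := fun x y => Subtype.ext (T.map_add' x.1 y.1) } : ↥U →+ ↥(T.img U))
    ⟨fun x y h => Subtype.ext (T.bij.injective (congrArg Subtype.val h)),
      fun ⟨y, x, hx, hxy⟩ => ⟨⟨x, hx⟩, Subtype.ext hxy⟩⟩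

theorem finrank_img (T : SLin σ V V') (U : Submodule F V) :
    finrank F (T.img U) = finrank F U := by
  have h := lift_rank_eq_of_equiv_equiv (R := F) (R' := F) (M := ↥U) (M' := ↥(T.img U))
    (σ : F → F) (T.restr U) σ.bijective (fun c x => Subtype.ext (T.map_smul' c x.1))
  have h2 := congrArg Cardinal.toNat h
  rw [Cardinal.toNat_lift, Cardinal.toNat_lift] at h2
  exact h2.symm

theorem finrank_img_inf (T : SLin σ V V') (U W : Submodule F V) :
    finrank F (T.img U ⊓ T.img W : Submodule F V') = finrank F (U ⊓ W : Submodule F V) := by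
  rw [← img_inf, finrank_img]

/-- composition -/
def comp (T : SLin τ V' V'') (S : SLin σ V V') : SLin (σ.trans τ) V V'' where
  toFun := T.toFun ∘ S.toFun
  map_add' x y := by
    show T.toFun (S.toFun (x + y)) = _
    rw [S.map_add', T.map_add']
    rfl
  map_smul' c x := by
    show T.toFun (S.toFun (c • x)) = _
    rw [S.map_smul', T.map_smul']
    rfl
  bij := T.bij.comp S.bij

theorem comp_apply (T : SLin τ V' V'') (S : SLin σ V V') (x : V) :
    (T.comp S).toFun x = T.toFun (S.toFun x) := rfl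

theorem img_comp (T : SLin τ V' V'') (S : SLin σ V V') (U : Submodule F V) :
    (T.comp S).img U = T.img (S.img U) := by
  ext y
  constructor
  · rintro ⟨x, hx, rfl⟩
    exact ⟨S.toFun x, ⟨x, hx, rfl⟩, rfl⟩
  · rintro ⟨_, ⟨x, hx, rfl⟩, rfl⟩
    exact ⟨x, hx, rfl⟩

/-- the inverse -/
noncomputable def inv (T : SLin σ V V') : SLin σ.symm V' V where
  toFun := Function.surjInv T.bij.surjective
  map_add' x y := by
    apply T.bij.injective
    rw [T.map_add', Function.surjInv_eq T.bij.surjective, Function.surjInv_eq T.bij.surjective,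
      Function.surjInv_eq T.bij.surjective]
  map_smul' c x := by
    apply T.bij.injective
    rw [T.map_smul', Function.surjInv_eq T.bij.surjective, Function.surjInv_eq T.bij.surjective,
      RingEquiv.apply_symm_apply]
  bij := ⟨Function.injective_surjInv T.bij.surjective, fun x => ⟨T.toFun x, by
    apply T.bij.injective
    rw [Function.surjInv_eq T.bij.surjective]⟩⟩

theorem apply_inv (T : SLin σ V V') (y : V') : T.toFun (T.inv.toFun y) = y :=
  Function.surjInv_eq T.bij.surjective y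

theorem inv_apply (T : SLin σ V V') (x : V) : T.inv.toFun (T.toFun x) = x := by
  apply T.bij.injective
  rw [apply_inv]

theorem img_inv_img (T : SLin σ V V') (U : Submodule F V) : T.inv.img (T.img U) = U := by
  ext x
  constructor
  · rintro ⟨_, ⟨x', hx', rfl⟩, rfl⟩
    rwa [inv_apply]
  · intro hx
    exact ⟨T.toFun x, ⟨x, hx, rfl⟩, T.inv_apply x⟩

theorem img_img_inv (T : SLin σ V V') (U : Submodule F V') : T.img (T.inv.img U) = U := by
  ext y
  constructor
  · rintro ⟨_, ⟨y', hy', rfl⟩, rfl⟩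
    rwa [apply_inv]
  · intro hy
    exact ⟨T.inv.toFun y, ⟨y, hy, rfl⟩, T.apply_inv y⟩

/-- a linear equivalence as a semilinear bijection -/
def ofLE (L : V ≃ₗ[F] V') : SLin (RingEquiv.refl F) V V' where
  toFun := L
  map_add' := L.map_add
  map_smul' c x := by rw [L.map_smul]; rfl
  bij := L.bijective

theorem ofLE_apply (L : V ≃ₗ[F] V') (x : V) : (ofLE L).toFun x = L x := rfl

theorem img_ofLE (L : V ≃ₗ[F] V') (U : Submodule F V) :
    (ofLE L).img U = U.map (L : V →ₗ[F] V') := by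
  ext y
  rfl

end SLin

end slin

section geo

variable {F : Type*} [Field F] {V V' : Type*} [AddCommGroup V] [Module F V] [AddCommGroup V']
  [Module F V'] {σ : F ≃+* F}

/-- a semilinear bijection scaling the quadratic form -/
def IsSemiSim (Q : QuadraticForm F V) (Q' : QuadraticForm F V') (T : SLin σ V V') : Prop :=
  ∃ c : F, c ≠ 0 ∧ ∀ v, Q' (T.toFun v) = c * σ (Q v)

theorem IsSemiSim.ts {Q : QuadraticForm F V} {Q' : QuadraticForm F V'} {T : SLin σ V V'}
    (h : IsSemiSim Q Q' T) {U : Submodule F V} (hU : TS Q U) : TS Q' (T.img U) := by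
  obtain ⟨c, -, hc⟩ := h
  rintro _ ⟨x, hx, rfl⟩
  rw [hc, hU x hx, map_zero, mul_zero]

theorem IsSemiSim.ts_iff {Q : QuadraticForm F V} {Q' : QuadraticForm F V'} {T : SLin σ V V'}
    (h : IsSemiSim Q Q' T) {U : Submodule F V} : TS Q' (T.img U) ↔ TS Q U := by
  refine ⟨fun hU x hx => ?_, h.ts⟩
  obtain ⟨c, hc0, hc⟩ := h
  have h1 := hU _ ⟨x, hx, rfl⟩
  rw [hc] at h1
  have h2 : σ (Q x) = 0 := (mul_eq_zero.1 h1).resolve_left hc0
  have h3 : σ (Q x) = σ 0 := by rw [h2, map_zero]
  exact σ.injective h3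

theorem IsSemiSim.isGeo {Q : QuadraticForm F V} {T : SLin σ V V} (h : IsSemiSim Q Q T) :
    IsGeo Q T.img :=
  ⟨fun _ hU => h.ts hU, fun U => T.finrank_img U, fun U W => T.finrank_img_inf U W⟩

theorem IsSemiSim.comp {V'' : Type*} [AddCommGroup V''] [Module F V''] {τ : F ≃+* F}
    {Q : QuadraticForm F V} {Q' : QuadraticForm F V'} {Q'' : QuadraticForm F V''}
    {T : SLin τ V' V''} {S : SLin σ V V'} (hT : IsSemiSim Q' Q'' T) (hS : IsSemiSim Q Q' S) :
    IsSemiSim Q Q'' (T.comp S) := by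
  obtain ⟨c, hc0, hc⟩ := hT
  obtain ⟨d, hd0, hd⟩ := hS
  refine ⟨c * τ d, mul_ne_zero hc0 ((map_ne_zero τ).2 hd0), fun v => ?_⟩
  rw [SLin.comp_apply, hc, hd, map_mul, mul_assoc]
  rfl

theorem IsSemiSim.inv {Q : QuadraticForm F V} {Q' : QuadraticForm F V'} {T : SLin σ V V'}
    (h : IsSemiSim Q Q' T) : IsSemiSim Q' Q T.inv := by
  obtain ⟨c, hc0, hc⟩ := h
  refine ⟨σ.symm c⁻¹, (map_ne_zero σ.symm).2 (inv_ne_zero hc0), fun v => ?_⟩
  have h1 := hc (T.inv.toFun v)
  rw [T.apply_inv] at h1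
  apply σ.injective
  rw [map_mul, RingEquiv.apply_symm_apply, RingEquiv.apply_symm_apply, h1, ← mul_assoc,
    inv_mul_cancel₀ hc0, one_mul]

/-- conjugating a geometric map by a semisimilarity between two spaces does not change the
parity -/
theorem par_conj {Q : QuadraticForm F V} {Q' : QuadraticForm F V'} (P : SLin σ V V')
    (n : ℕ) (Φ : Submodule F V → Submodule F V) (U : Submodule F V) :
    par n (fun X => P.img (Φ (P.inv.img X))) (P.img U) ↔ par n Φ U := by
  unfold par
  show Even (n - finrank F ↥(P.img U ⊓ P.img (Φ (P.inv.img (P.img U))))) ↔ _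
  rw [P.img_inv_img, P.finrank_img_inf]

end geo

end Cfsg.Agent.Lib.Helper25.GFld
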