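import Cfsg.Agent.Lib.Helper25.GFld19
import Cfsg.Agent.Lib.Helper18.OrthFldI

set_option autoImplicit false

/-!
# Tools for counting the classes of involutory graph-field automorphisms: inner
automorphisms induced by isometries, base change of special isometries from a subfield of index
two, squares in a quadratic extension
-/

namespace Cfsg.Agent.Lib.Helper25.GFld

open Module QuadraticMap Matrix Cfsg.Agent.Lib.Helper25.MaxTS Cfsg.Agent.Lib.Helper25.CD
  Cfsg.Agent.Lib.Helper25.GraphSplit Cfsg.Agent.Lib.Helper25.PSim Cfsg.Agent.Lib.Helper25.Spin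
  Cfsg.Agent.Lib.Helper18.OrthFld Cfsg.Agent.Lib.Helper18.OrthPar

universe u v

section inn

variable {ι : Type} [Fintype ι] [DecidableEq ι] {F : Type u} [Field F] [Fintype F]
  (Q : QuadraticForm F (ι → F))

/-- when `-1 ∈ Ω`, an isometry induces an inner automorphism iff it lies in `Ω` -/
theorem theta_incl_mem_inn_iff (hQ : (polarBilin Q).Nondegenerate) (hn : 7 ≤ Fintype.card ι)
    (hneg : ∃ g : ↥(Cfsg.isometryGroup F ⇑Q), g ∈ Cfsg.Omega F ⇑Q ∧
      ((g : GL ι F) : Matrix ι ι F) = -1)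
    (s : ↥(Cfsg.isometryGroup F ⇑Q)) :
    theta ⇑Q (incl ⇑Q s) ∈ Cfsg.Inn (Cfsg.POmega F ⇑Q) ↔ s ∈ Cfsg.Omega F ⇑Q := by
  constructor
  · intro h
    rw [inn_eq'] at h
    obtain ⟨_, ⟨t, ht, rfl⟩, hθ⟩ := h
    have h1 : theta ⇑Q (incl ⇑Q (s * t⁻¹)) = 1 := by
      rw [map_mul, map_mul, map_inv, map_inv, hθ, mul_inv_cancel]
    obtain ⟨ν, hν0, hν⟩ := scalar_matrix_of_theta_eq_one Q hQ hn _ h1
    rw [incl_val] at hν
    have hfin : 2 ≤ finrank F (ι → F) := by
      rw [Module.finrank_fintype_fun_eq_card]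
      omega
    obtain ⟨u, hu⟩ := exists_rep Q hQ hfin 1
    have hiso := (mem_iso_iff' (⇑Q) (s * t⁻¹).1).1 (s * t⁻¹).2 u
    rw [hν, Matrix.smul_mulVec, Matrix.one_mulVec, QuadraticMap.map_smul, hu, smul_eq_mul,
      mul_one] at hiso
    have hν2 : (ν - 1) * (ν + 1) = 0 := by linear_combination hiso
    have hst : s * t⁻¹ ∈ Cfsg.Omega F ⇑Q := by
      rcases mul_eq_zero.1 hν2 with h | h
      · have hν1 : ν = 1 := by linear_combination h
        have : s * t⁻¹ = 1 := by
          apply Subtype.ext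
          apply Units.ext
          rw [hν, hν1, one_smul]
          rfl
        rw [this]
        exact one_mem _
      · have hν1 : ν = -1 := by linear_combination h
        obtain ⟨g, hg, hgm⟩ := hneg
        have : s * t⁻¹ = g := by
          apply Subtype.ext
          apply Units.ext
          rw [hν, hν1, hgm, neg_smul, one_smul]
        rw [this]
        exact hg
    have := mul_mem hst ht
    rwa [inv_mul_cancel_right] at this
  · intro hs
    rw [inn_eq']
    exact ⟨_, ⟨s, hs, rfl⟩, rfl⟩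

end inn

section basechange

variable {κ : Type} [Fintype κ] [DecidableEq κ] {F₀ : Type v} {F : Type u} [Field F₀] [Field F]
  [Fintype F₀] [Fintype F] (e : F₀ →+* F)
  (Q₀ : QuadraticForm F₀ (κ → F₀)) (Q : QuadraticForm F (κ → F))
  (hc : Compat e (⇑Q₀) (⇑Q))

/-- special isometries over a subfield of index two lie in `Ω` after base change -/
theorem isoMap_special_mem_omega (h2 : (2 : F) ≠ 0) (hQ₀ : (polarBilin Q₀).Nondegenerate)
    (hQ : (polarBilin Q).Nondegenerate) (hcardF : Fintype.card F = Fintype.card F₀ ^ 2)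
    (s₀ : ↥(Cfsg.isometryGroup F₀ ⇑Q₀)) (hs₀ : s₀ ∈ Cfsg.specialIsometryGroup F₀ ⇑Q₀) :
    isoMap e Q₀ Q hc s₀ ∈ Cfsg.Omega F ⇑Q := by
  have h2' : (2 : F₀) ≠ 0 := by
    intro h
    apply h2
    have := congrArg e h
    rwa [map_ofNat, map_zero] at this
  obtain ⟨vs, hvs, hword⟩ := exists_word Q₀ h2' hQ₀ s₀
  have hev : Even vs.length := by
    rw [← mem_special_iff Q₀ h2' hvs, hword]
    exact hs₀
  rw [← hword, isoMap_wordG]
  have hvs' : ∀ v ∈ vs.map (ev e), Q v ≠ 0 := by
    intro v hv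
    obtain ⟨v₀, hv₀, rfl⟩ := List.mem_map.1 hv
    rw [hc]
    intro h
    apply hvs v₀ hv₀
    apply e.injective
    rw [h, map_zero]
  rw [mem_omega_iff Q h2 hQ hvs', List.length_map, normProd_map e Q₀ Q hc]
  exact ⟨hev, isSquare_of_two e h2 hcardF _⟩

end basechange

section squares

variable {F₀ : Type v} {F : Type u} [Field F₀] [Field F] [Fintype F₀] [Fintype F]
  (e : F₀ →+* F)

/-- an element of the quadratic extension whose norm is a nonsquare of the subfield is a
nonsquare -/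
theorem not_isSquare_of_norm (σ : RingAut F) (hσ : orderOf σ = 2)
    (he : ∀ x : F, σ x = x ↔ x ∈ Set.range e) {ν : F₀} (hν : ¬ IsSquare ν) {w : F}
    (hw : w * σ w = e ν) : ¬ IsSquare w := by
  rintro ⟨t, rfl⟩
  have hσ2 : ∀ y : F, σ (σ y) = y := by
    intro y
    have h1 : σ ^ 2 = 1 := by rw [← hσ, pow_orderOf_eq_one]
    have h2 := congrArg (fun τ : RingAut F => τ y) h1
    exact h2
  have hfix : σ (t * σ t) = t * σ t := by
    rw [map_mul, hσ2, mul_comm]
  obtain ⟨s, hs⟩ := (he _).1 hfix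
  apply hν
  refine ⟨s, ?_⟩
  apply e.injective
  rw [map_mul, hs, ← hw, map_mul]
  ring

/-- a square root (in the quadratic extension) of a nonsquare of the subfield is a square iff
the subfield has order `3` modulo `4` -/
theorem isSquare_sqrt_iff (h2 : (2 : F) ≠ 0) (hcard : Fintype.card F = Fintype.card F₀ ^ 2)
    {ν : F₀} (hν : ¬ IsSquare ν) {c : F} (hc : c ^ 2 = e ν) :
    IsSquare c ↔ Fintype.card F₀ % 4 = 3 := by
  have h2' : (2 : F₀) ≠ 0 := by
    intro h
    apply h2
    have := congrArg e h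
    rwa [map_ofNat, map_zero] at this
  have hν0 : ν ≠ 0 := by
    rintro rfl
    exact hν ⟨0, by simp⟩
  have hc0 : c ≠ 0 := by
    rintro rfl
    apply hν0
    apply e.injective
    rw [map_zero, ← hc]
    simp
  have hchF : ringChar F ≠ 2 := ringChar_ne_two h2
  have hchF₀ : ringChar F₀ ≠ 2 := ringChar_ne_two h2'
  obtain ⟨n₀, hn₀⟩ : ∃ n₀, Fintype.card F₀ = 2 * n₀ + 1 := by
    have hodd : Odd (Fintype.card F₀) := by
      rcases Nat.even_or_odd (Fintype.card F₀) with h | h
      · exfalso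
        exact hchF₀ ((FiniteField.even_card_iff_char_two).2 (Nat.even_iff.1 h))
      · exact h
    obtain ⟨n, hn⟩ := hodd
    exact ⟨n, hn⟩
  have hdiv₀ : Fintype.card F₀ / 2 = n₀ := by omega
  have hdiv : Fintype.card F / 2 = 2 * (n₀ * (n₀ + 1)) := by
    rw [hcard, hn₀]
    have : (2 * n₀ + 1) ^ 2 = 2 * (2 * (n₀ * (n₀ + 1))) + 1 := by ring
    omega
  have hνp : ν ^ n₀ = -1 := by
    rcases FiniteField.pow_dichotomy hchF₀ hν0 with h | h
    · exfalso
      apply hν
      rw [FiniteField.isSquare_iff hchF₀ hν0, hdiv₀] at *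
      rw [hdiv₀] at h
      exact h
    · rw [hdiv₀] at h
      exact h
  rw [FiniteField.isSquare_iff hchF hc0, hdiv, pow_mul, hc, pow_mul, ← map_pow, hνp, map_neg,
    map_one]
  have hne : (-1 : F) ≠ 1 := by
    intro h
    apply h2
    linear_combination -h
  rw [neg_one_pow_eq_one_iff_even hne, hn₀]
  constructor
  · rintro ⟨j, hj⟩
    omega
  · intro h
    exact ⟨(n₀ + 1) / 2, by omega⟩

end squares

end Cfsg.Agent.Lib.Helper25.GFld
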