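import Cfsg.Agent.Lib.Helper25.GFld20
import Cfsg.Agent.Lib.Helper25.InndiagMinus3
import Cfsg.Agent.Lib.Helper25.SpinGL

set_option autoImplicit false

/-!
# The standard proper similarity of the split minus-type form in hyperbolic coordinates
-/

namespace Cfsg.Agent.Lib.Helper25.GFld

open Module QuadraticMap Matrix Cfsg.Agent.Lib.Helper25.MaxTS Cfsg.Agent.Lib.Helper25.CD
  Cfsg.Agent.Lib.Helper25.GraphSplit Cfsg.Agent.Lib.Helper25.PSim Cfsg.Agent.Lib.Helper25.Spin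
  Cfsg.Agent.Lib.Helper18.OrthFld Cfsg.Agent.Lib.Helper18.OrthPar Cfsg.Agent.Lib.Helper14
  Cfsg.Agent.Lib.Helper14.OrthMinus Cfsg.Agent.Lib.Helper14.QuadExt
  Cfsg.Agent.Lib.Helper18.OrthIso Cfsg.Agent.Lib.Helper18.OrthMin
  Cfsg.Agent.Lib.Helper15.QuadType

universe u v

section levi

variable {F : Type u} [Field F] [Fintype F] (k : ℕ) (a b ζ : F) (hζ : ζ ^ 2 + a * ζ + b = 0) (x y c : F)
  (hc : c ^ 2 = x ^ 2 + a * x * y + b * y ^ 2) (hc0 : c ≠ 0)

/-- the diagonal entries of the Levi element -/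
noncomputable def leviD : Fin (k + 1) → F :=
  Fin.snoc (α := fun _ => F) (fun _ : Fin k => c) ((x - ζ * y) / c)

include hζ hc hc0 in
theorem w_ne_zero : x - ζ * y ≠ 0 := by
  intro h
  apply hc0
  have h1 : c ^ 2 = 0 := by
    rw [hc]
    have hx : x = ζ * y := by linear_combination h
    rw [hx]
    linear_combination (y ^ 2) * hζ
  exact pow_eq_zero_iff (two_ne_zero) |>.1 h1

include hζ hc hc0 in
theorem leviD_ne_zero (i : Fin (k + 1)) : leviD k ζ x y c i ≠ 0 := by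
  unfold leviD
  refine Fin.lastCases ?_ (fun j => ?_) i
  · rw [Fin.snoc_last]
    exact div_ne_zero (w_ne_zero a b ζ hζ x y c hc hc0) hc0
  · rw [Fin.snoc_castSucc]
    exact hc0

theorem prod_leviD : ∏ i, leviD k ζ x y c i = c ^ k * ((x - ζ * y) / c) := by
  unfold leviD
  rw [Fin.prod_univ_castSucc]
  simp only [Fin.snoc_castSucc, Fin.snoc_last, Finset.prod_const, Finset.card_univ,
    Fintype.card_fin]

include hζ hc hc0 in
/-- in hyperbolic coordinates the standard similarity is a scalar multiple of a Levi element -/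
theorem toPlus_minusSim (v : Idx k → F) :
    toPlusFun k a ζ (minusSimMatrix k a b x y *ᵥ v) =
      c • (((phiGL (dG (leviD k ζ x y c) (leviD_ne_zero k a b ζ hζ x y c hc hc0)) :
        GL (Fin (k + 1) ⊕ Fin (k + 1)) F) : Matrix _ _ F) *ᵥ toPlusFun k a ζ v) := by
  have hw0 := w_ne_zero a b ζ hζ x y c hc hc0
  rw [phiGL_dG_apply]
  funext j
  rw [Pi.smul_apply, smul_eq_mul]
  unfold scaleS leviD
  rcases j with i | i
  · refine Fin.lastCases ?_ (fun l => ?_) i
    · simp only [Sum.elim_inl, Finset.mem_univ, if_true, Fin.snoc_last]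
      rw [toPlusFun_inl_last, toPlusFun_inl_last, minusSim_inr_zero, minusSim_inr_one]
      have e1 : c * ((x - ζ * y) / c * (v (Sum.inr 0) - ζ * v (Sum.inr 1))) =
          (x - ζ * y) * (v (Sum.inr 0) - ζ * v (Sum.inr 1)) := by
        rw [← mul_assoc, mul_div_cancel₀ _ hc0]
      rw [e1]
      linear_combination (-(y * v (Sum.inr 1))) * hζ
    · simp only [Sum.elim_inl, Finset.mem_univ, if_true, Fin.snoc_castSucc]
      rw [toPlusFun_inl_castSucc, toPlusFun_inl_castSucc, minusSim_inl_inl, ← hc]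
      ring
  · refine Fin.lastCases ?_ (fun l => ?_) i
    · simp only [Sum.elim_inr, Finset.mem_univ, if_true, Fin.snoc_last]
      rw [toPlusFun_inr_last, toPlusFun_inr_last, minusSim_inr_zero, minusSim_inr_one]
      have hww : (x - ζ * y) * (x - (-a - ζ) * y) = c ^ 2 := by
        rw [hc]
        linear_combination (-(y ^ 2)) * hζ
      have e1 : c * (((x - ζ * y) / c)⁻¹ * (v (Sum.inr 0) - (-a - ζ) * v (Sum.inr 1))) =
          (x - (-a - ζ) * y) * (v (Sum.inr 0) - (-a - ζ) * v (Sum.inr 1)) := by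
        rw [inv_div]
        have h3 : c * (c / (x - ζ * y) * (v (Sum.inr 0) - (-a - ζ) * v (Sum.inr 1))) =
            c ^ 2 / (x - ζ * y) * (v (Sum.inr 0) - (-a - ζ) * v (Sum.inr 1)) := by ring
        rw [h3, ← hww, mul_div_cancel_left₀ _ hw0]
      rw [e1]
      linear_combination (-(y * v (Sum.inr 1))) * hζ
    · simp only [Sum.elim_inr, Finset.mem_univ, if_true, Fin.snoc_castSucc]
      rw [toPlusFun_inr_castSucc, toPlusFun_inr_castSucc, minusSim_inl_inr,
        mul_inv_cancel_left₀ hc0]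

end levi

section mapsim

variable {F₀ : Type v} {F : Type u} [Field F₀] [Field F] (k : ℕ) (e : F₀ →+* F)

theorem minusSimMatrix_map (a₀ b₀ x y : F₀) :
    (minusSimMatrix k a₀ b₀ x y).map e = minusSimMatrix k (e a₀) (e b₀) (e x) (e y) := by
  unfold minusSimMatrix
  ext i j
  rcases i with (i | i) | i <;> rcases j with (j | j) | j
  · by_cases hij : i = j
    · subst hij
      simp
    · simp [Matrix.diagonal_apply, hij]
  · simp [Matrix.diagonal_apply]
  · simp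
  · simp [Matrix.diagonal_apply]
  · by_cases hij : i = j
    · subst hij
      simp
    · simp [Matrix.diagonal_apply, hij]
  · simp
  · simp
  · simp
  · fin_cases i <;> fin_cases j <;> simp

end mapsim

section crit

variable {F₀ : Type v} {F : Type u} [Field F₀] [Field F] [Fintype F₀] [Fintype F]
  (k : ℕ) (e : F₀ →+* F) (a₀ b₀ : F₀) (hab₀ : Aniso a₀ b₀) (ζ : F)
  (hζ : ζ ^ 2 + e a₀ * ζ + e b₀ = 0)

/-- the image of the standard proper similarity with nonsquare multiplier is inner exactly when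
`m` is odd and `|F₀| ≡ 1 (mod 4)` -/
theorem gfHom_delta_mem_inn_iff (hk : 3 ≤ k) (h2 : (2 : F) ≠ 0)
    (hneg : ∃ g : ↥(Cfsg.isometryGroup F ⇑(Qp (k + 1) F)), g ∈ Cfsg.Omega F ⇑(Qp (k + 1) F) ∧
      ((g : GL (Fin (k + 1) ⊕ Fin (k + 1)) F) :
        Matrix (Fin (k + 1) ⊕ Fin (k + 1)) (Fin (k + 1) ⊕ Fin (k + 1)) F) = -1)
    (σ : RingAut F) (hσ : orderOf σ = 2) (he : ∀ x : F, σ x = x ↔ x ∈ Set.range e)
    (hσζ : σ ζ ≠ ζ) (hcard : Fintype.card F = Fintype.card F₀ ^ 2)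
    (x y : F₀) (hν : ¬ IsSquare (x ^ 2 + a₀ * x * y + b₀ * y ^ 2))
    (δ₀ : ↥(Cfsg.Geo.quadSimilarityGroup (F := F₀) ⇑(Qm k a₀ b₀ (disc_ne_zero hab₀))))
    (hδ₀ : ((δ₀.1 : GL (Idx k) F₀) : Matrix (Idx k) (Idx k) F₀) = minusSimMatrix k a₀ b₀ x y) :
    gfHom k e a₀ b₀ hab₀ ζ hζ δ₀ ∈ Cfsg.Inn (Cfsg.POmega F ⇑(Qp (k + 1) F)) ↔
      (Odd (k + 1) ∧ Fintype.card F₀ % 4 = 1) := by
  have hD₀ := disc_ne_zero hab₀
  have hD := disc_map e hD₀
  have hQp : (polarBilin (Qp (k + 1) F)).Nondegenerate := qfOf_nondeg _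
  have hnp : 7 ≤ Fintype.card (Fin (k + 1) ⊕ Fin (k + 1)) := by
    rw [card_plus_idx]
    omega
  have he' : ∀ b, σ (e b) = e b := fun b => (he _).2 ⟨b, rfl⟩
  set ν : F₀ := x ^ 2 + a₀ * x * y + b₀ * y ^ 2 with hνd
  have hν0 : ν ≠ 0 := by
    intro h
    apply hν
    rw [h]
    exact ⟨0, by simp⟩
  obtain ⟨c, hcc⟩ := isSquare_of_two e h2 hcard ν
  have hc : c ^ 2 = (e x) ^ 2 + e a₀ * e x * e y + e b₀ * (e y) ^ 2 := by
    rw [pow_two, ← hcc, hνd]
    simp only [map_add, map_mul, map_pow]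
  have hc' : c ^ 2 = e ν := by rw [pow_two, ← hcc]
  have hc0 : c ≠ 0 := by
    rintro rfl
    apply hν0
    apply e.injective
    rw [map_zero, ← hc']
    simp
  have hDne := leviD_ne_zero k (e a₀) (e b₀) ζ hζ (e x) (e y) c hc hc0
  set s : ↥(Cfsg.isometryGroup F (Cfsg.quadFormPlus (k + 1) F)) :=
    phiGL (dG (leviD k ζ (e x) (e y) c) hDne) with hs
  have hLL := hLL k (e a₀) (e b₀) ζ hζ hD
  -- the matrix identity
  have hM : (((simConjR (toPlusEquiv k (e a₀) (e b₀) ζ hζ hD) _ _ hLL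
      (simMap e (Qm k a₀ b₀ hD₀) (Qm k (e a₀) (e b₀) hD) (hcompat k e a₀ b₀ hD₀) δ₀)).1 :
      GL (Fin (k + 1) ⊕ Fin (k + 1)) F) :
        Matrix (Fin (k + 1) ⊕ Fin (k + 1)) (Fin (k + 1) ⊕ Fin (k + 1)) F) =
      c • ((s.1 : GL (Fin (k + 1) ⊕ Fin (k + 1)) F) :
        Matrix (Fin (k + 1) ⊕ Fin (k + 1)) (Fin (k + 1) ⊕ Fin (k + 1)) F) := by
    apply matrix_eq_of_mulVec
    intro u
    rw [simConjR_val, conjGL_mulVec, simMap_coe, hδ₀, minusSimMatrix_map, toPlusEquiv_apply,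
      toPlus_minusSim k (e a₀) (e b₀) ζ hζ (e x) (e y) c hc hc0, Matrix.smul_mulVec]
    congr 2
    rw [← toPlusEquiv_apply k (e a₀) (e b₀) ζ hζ hD, LinearEquiv.apply_symm_apply]
  have hθ : gfHom k e a₀ b₀ hab₀ ζ hζ δ₀ =
      theta ⇑(Qp (k + 1) F) (incl ⇑(Qp (k + 1) F) s) := by
    rw [gfHom_eq_theta]
    exact theta_eq_of_smul (Qp (k + 1) F) _ s c hM
  rw [hθ, theta_incl_mem_inn_iff (Qp (k + 1) F) hQp hnp hneg s]
  have hmem : s ∈ Cfsg.Omega F ⇑(Qp (k + 1) F) ↔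
      IsSquare (∏ i, leviD k ζ (e x) (e y) c i) := phiGL_dG_mem_iff h2 _ hDne
  refine Iff.trans hmem ?_
  rw [prod_leviD]
  -- squares
  have hσζ' : σ ζ = -(e a₀) - ζ := by
    have h1 : (σ ζ) ^ 2 + e a₀ * σ ζ + e b₀ = 0 := by
      have := congrArg σ hζ
      rwa [map_add, map_add, map_mul, map_pow, he', he', map_zero] at this
    have h3 : (σ ζ - ζ) * (σ ζ + e a₀ + ζ) = 0 := by linear_combination h1 - hζ
    rcases mul_eq_zero.1 h3 with h | h
    · exact absurd (sub_eq_zero.1 h) hσζ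
    · linear_combination h
  set w : F := e x - ζ * e y with hw
  have hw0 : w ≠ 0 := w_ne_zero (e a₀) (e b₀) ζ hζ (e x) (e y) c hc hc0
  have hwσ : w * σ w = e ν := by
    rw [hw, map_sub, map_mul, he', he', hσζ', ← hc', hc]
    linear_combination (-(e y ^ 2)) * hζ
  have hwns : ¬ IsSquare w := not_isSquare_of_norm e σ hσ he hν hwσ
  have hcsq : IsSquare c ↔ Fintype.card F₀ % 4 = 3 := isSquare_sqrt_iff e h2 hcard hν hc'
  have h2₀ : (2 : F₀) ≠ 0 := by
    intro h
    apply h2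
    have := congrArg e h
    rwa [map_ofNat, map_zero] at this
  have hodd₀ : Odd (Fintype.card F₀) := odd_card_of_two_ne_zero h2₀
  have hq : Fintype.card F₀ % 4 = 1 ∨ Fintype.card F₀ % 4 = 3 := by
    obtain ⟨j, hj⟩ := hodd₀
    omega
  have hwc : IsSquare (w / c) ↔ ¬ IsSquare c := by
    rw [div_eq_mul_inv, isSquare_mul_iff hw0 (inv_ne_zero hc0), isSquare_inv]
    constructor
    · intro h hcs
      exact hwns (h.2 hcs)
    · intro h
      exact ⟨fun h' => absurd h' hwns, fun h' => absurd h' h⟩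
  have hck : IsSquare (c ^ k) ↔ (Even k ∨ IsSquare c) := by
    rcases Nat.even_or_odd k with hk' | hk'
    · exact ⟨fun _ => Or.inl hk', fun _ => Even.isSquare_pow hk' c⟩
    · obtain ⟨j, hj⟩ := hk'
      have e1 : c ^ k = (c ^ j * c ^ j) * c := by
        rw [hj]
        ring
      rw [e1, isSquare_mul_iff (mul_ne_zero (pow_ne_zero _ hc0) (pow_ne_zero _ hc0)) hc0]
      constructor
      · intro h
        exact Or.inr (h.1 ⟨c ^ j, rfl⟩)
      · rintro (h | h)
        · exfalso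
          rw [hj] at h
          exact (Nat.not_even_iff_odd.2 ⟨j, rfl⟩) h
        · exact ⟨fun _ => h, fun _ => ⟨c ^ j, rfl⟩⟩
  rw [isSquare_mul_iff (pow_ne_zero _ hc0) (div_ne_zero hw0 hc0), hck, hwc, hcsq]
  have hkodd : Odd (k + 1) ↔ Even k := by
    rw [Nat.odd_add_one, Nat.not_odd_iff_even]
  rw [hkodd]
  rcases hq with h | h
  · rw [h]
    constructor
    · intro hh
      refine ⟨?_, rfl⟩
      rcases hh.2 (by norm_num) with h' | h'
      · exact h'
      · exact absurd h' (by norm_num)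
    · rintro ⟨h1, -⟩
      exact ⟨fun _ => by norm_num, fun _ => Or.inl h1⟩
  · rw [h]
    constructor
    · intro hh
      exfalso
      exact (hh.1 (Or.inr rfl)) rfl
    · rintro ⟨-, h1⟩
      exact absurd h1 (by norm_num)

end crit

end Cfsg.Agent.Lib.Helper25.GFld
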