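import Cfsg.Agent.Lib.Helper25.GFld21
import Cfsg.Agent.Lib.Helper25.InndiagPlus2
import Cfsg.Agent.Lib.Helper18.OrthMinI

set_option autoImplicit false

/-!
# Inner automorphisms inside `Inndiag(PΩ⁺)`; the square-multiplier part of the centralizer
-/

namespace Cfsg.Agent.Lib.Helper25.GFld

open Module QuadraticMap Matrix Cfsg.Agent.Lib.Helper25.MaxTS Cfsg.Agent.Lib.Helper25.CD
  Cfsg.Agent.Lib.Helper25.GraphSplit Cfsg.Agent.Lib.Helper25.PSim Cfsg.Agent.Lib.Helper25.Spin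
  Cfsg.Agent.Lib.Helper18.OrthFld Cfsg.Agent.Lib.Helper18.OrthPar Cfsg.Agent.Lib.Helper14
  Cfsg.Agent.Lib.Helper14.OrthMinus Cfsg.Agent.Lib.Helper14.QuadExt
  Cfsg.Agent.Lib.Helper18.OrthIso Cfsg.Agent.Lib.Helper18.OrthMin
  Cfsg.Agent.Lib.Helper15.QuadType

universe u v

section innle

variable {ι : Type} [Fintype ι] [DecidableEq ι] {F : Type u} [Field F]
  (Q : QuadraticForm F (ι → F)) (k : ℕ) (L : (ι → F) ≃ₗ[F] (Fin (k + 1) ⊕ Fin (k + 1) → F))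
  (hL : ∀ v, Cfsg.quadFormPlus (k + 1) F (L v) = Q v) (hQ : (polarBilin Q).Nondegenerate)

include hL hQ in
/-- elements of `Ω` preserve the two classes -/
theorem pres_of_mem_omega (s : ↥(Cfsg.isometryGroup F ⇑Q)) (hs : s ∈ Cfsg.Omega F ⇑Q) :
    Cfsg.PreservesSingularClasses ⇑Q ((s.1 : GL ι F) : Matrix ι ι F) := by
  have hle : Cfsg.Omega F ⇑Q ≤ (presSub Q k L hL hQ).comap (incl ⇑Q) := by
    show commutator ↥(Cfsg.isometryGroup F ⇑Q) ≤ _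
    rw [commutator_def, Subgroup.commutator_le]
    intro g₁ _ g₂ _
    rw [Subgroup.mem_comap, map_commutatorElement, mem_presSub, commutatorElement_def,
      pres_mul' Q k L hL hQ, pres_conj_iff Q k L hL hQ, pres_inv' Q k L hL hQ]
  exact hle hs

include hL hQ in
theorem inn_le_presAut : Cfsg.Inn (Cfsg.POmega F ⇑Q) ≤ presAut Q k L hL hQ := by
  rw [inn_eq']
  rintro _ ⟨_, ⟨s, hs, rfl⟩, rfl⟩
  exact ⟨incl ⇑Q s, pres_of_mem_omega Q k L hL hQ s hs, rfl⟩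

variable [Fintype F]

include hL hQ in
/-- in characteristic two the image of the class-preserving similarities is the group of inner
automorphisms -/
theorem presAut_eq_inn_char2 (h2 : (2 : F) = 0)
    (hex : Fintype.card F ≠ 2 ∨ Fintype.card ι ≠ 4) :
    presAut Q k L hL hQ = Cfsg.Inn (Cfsg.POmega F ⇑Q) := by
  haveI : CharP F 2 := CharTwo.of_one_ne_zero_of_two_eq_zero one_ne_zero h2
  apply le_antisymm
  · rintro _ ⟨g, hg, rfl⟩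
    have hg' : Cfsg.PreservesSingularClasses ⇑Q ((g.1 : GL ι F) : Matrix ι ι F) := hg
    obtain ⟨z, vs, hz, hvs, hgz⟩ := sim_eq_smul_word h2 Q hQ hex g.1 g.2
    rw [hgz, pres_smul _ hz, pres_wordG (k + 1) Q L hL hQ vs hvs] at hg'
    rw [theta_eq_of_smul Q g (wordG Q vs) z hgz, inn_eq']
    exact ⟨_, ⟨wordG Q vs, (mem_omega_iff_char2 Q hQ hex hvs).2 hg', rfl⟩, rfl⟩
  · exact inn_le_presAut Q k L hL hQ

end innle

section sq

variable {F₀ : Type v} {F : Type u} [Field F₀] [Field F] [Fintype F₀] [Fintype F]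
  (k : ℕ) (e : F₀ →+* F) (a₀ b₀ : F₀) (hab₀ : Aniso a₀ b₀) (ζ : F)
  (hζ : ζ ^ 2 + e a₀ * ζ + e b₀ = 0)

/-- proper similarities over the subfield with square multiplier induce inner automorphisms -/
theorem gfHom_mem_inn_of_sq (hk : 3 ≤ k) (h2 : (2 : F) ≠ 0) (h2₀ : (2 : F₀) ≠ 0)
    (hcard : Fintype.card F = Fintype.card F₀ ^ 2)
    (g₀ : ↥(Cfsg.Geo.quadSimilarityGroup (F := F₀) ⇑(Qm k a₀ b₀ (disc_ne_zero hab₀))))
    (hg₀ : g₀ ∈ properSub (Qm k a₀ b₀ (disc_ne_zero hab₀)) (v0 k) (Qm_v0 k _ _ _) h2₀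
      (qfOf_nondeg _) (card_minus k))
    (hsq : IsSquare (mult (Qm k a₀ b₀ (disc_ne_zero hab₀)) (v0 k) (Qm_v0 k _ _ _) g₀ : F₀)) :
    gfHom k e a₀ b₀ hab₀ ζ hζ g₀ ∈ Cfsg.Inn (Cfsg.POmega F ⇑(Qp (k + 1) F)) := by
  have hD₀ := disc_ne_zero hab₀
  have hD := disc_map e hD₀
  have hc := hcompat k e a₀ b₀ hD₀
  have hQ₀ : (polarBilin (Qm k a₀ b₀ hD₀)).Nondegenerate := qfOf_nondeg _
  have hQ₁ : (polarBilin (Qm k (e a₀) (e b₀) hD)).Nondegenerate := qfOf_nondeg _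
  obtain ⟨s₀, hs₀, hθ⟩ := exists_special_of_proper_sq k a₀ b₀ hD₀ h2₀ g₀ hg₀ hsq
  have hker : g₀⁻¹ * incl _ s₀ ∈ (theta ⇑(Qm k a₀ b₀ hD₀)).ker := by
    rw [MonoidHom.mem_ker, map_mul, map_inv, hθ, inv_mul_cancel]
  rw [← gfHom_ker k e a₀ b₀ hab₀ ζ hζ hk, MonoidHom.mem_ker, map_mul, map_inv,
    inv_mul_eq_one] at hker
  rw [hker, gfHom_apply, theta_simMap_incl]
  apply congr_mem_inn
  rw [inn_eq']
  exact ⟨_, ⟨isoMap e _ _ hc s₀, isoMap_special_mem_omega e _ _ hc h2 hQ₀ hQ₁ hcard s₀ hs₀, rfl⟩,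
    rfl⟩

/-- every element of the centralizer is inner, or becomes inner after multiplication by the
image of a fixed proper similarity with nonsquare multiplier -/
theorem cent_mem_inn_or (hk : 3 ≤ k) (h2 : (2 : F) ≠ 0) (h2₀ : (2 : F₀) ≠ 0)
    (hcard : Fintype.card F = Fintype.card F₀ ^ 2)
    (σ : RingAut F) (hσ : orderOf σ = 2) (he : ∀ x : F, σ x = x ↔ x ∈ Set.range e)
    (hσζ : σ ζ ≠ ζ)
    (δ₀ : ↥(Cfsg.Geo.quadSimilarityGroup (F := F₀) ⇑(Qm k a₀ b₀ (disc_ne_zero hab₀))))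
    (hδp : δ₀ ∈ properSub (Qm k a₀ b₀ (disc_ne_zero hab₀)) (v0 k) (Qm_v0 k _ _ _) h2₀
      (qfOf_nondeg _) (card_minus k))
    (hδns : ¬ IsSquare (mult (Qm k a₀ b₀ (disc_ne_zero hab₀)) (v0 k) (Qm_v0 k _ _ _) δ₀ : F₀))
    (c : MulAut (Cfsg.POmega F ⇑(Qp (k + 1) F)))
    (hc : c ∈ GPlus (F := F) k ⊓ Subgroup.centralizer {stdGF k σ}) :
    c ∈ Cfsg.Inn (Cfsg.POmega F ⇑(Qp (k + 1) F)) ∨
      c * gfHom k e a₀ b₀ hab₀ ζ hζ δ₀ ∈ Cfsg.Inn (Cfsg.POmega F ⇑(Qp (k + 1) F)) := by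
  have he' : ∀ b, σ (e b) = e b := fun b => (he _).2 ⟨b, rfl⟩
  obtain ⟨g₀, rfl⟩ := le_range_gfHom k e a₀ b₀ hab₀ ζ hζ hk σ hσ he hσζ hc
  have h1 := (gfHom_mem_iff k e a₀ b₀ hab₀ ζ hζ hk σ he' hσζ g₀).1 hc
  rw [inndiagQ_eq_proper k a₀ b₀ hab₀ h2₀, theta_mem_properAut_iff k a₀ b₀ _ h2₀ hk] at h1
  by_cases hsq : IsSquare (mult (Qm k a₀ b₀ (disc_ne_zero hab₀)) (v0 k) (Qm_v0 k _ _ _) g₀ : F₀)
  · left
    exact gfHom_mem_inn_of_sq k e a₀ b₀ hab₀ ζ hζ hk h2 h2₀ hcard g₀ h1 hsq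
  · right
    rw [← map_mul]
    apply gfHom_mem_inn_of_sq k e a₀ b₀ hab₀ ζ hζ hk h2 h2₀ hcard _ (mul_mem h1 hδp)
    rw [map_mul, Units.val_mul, isSquare_mul_iff (Units.ne_zero _) (Units.ne_zero _)]
    exact ⟨fun h => absurd h hsq, fun h => absurd h hδns⟩

end sq

end Cfsg.Agent.Lib.Helper25.GFld
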