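import Cfsg.Agent.Lib.Helper25.GFld23

set_option autoImplicit false

/-!
# Involutory graph-field automorphisms of `PΩ⁺_{2m}(F)`: the final assembly
-/

namespace Cfsg.Agent.Lib.Helper25.GFld

open Module QuadraticMap Matrix Cfsg.Agent.Lib.Helper25.MaxTS Cfsg.Agent.Lib.Helper25.CD
  Cfsg.Agent.Lib.Helper25.GraphSplit Cfsg.Agent.Lib.Helper25.PSim Cfsg.Agent.Lib.Helper25.Spin
  Cfsg.Agent.Lib.Helper18.OrthFld Cfsg.Agent.Lib.Helper18.OrthPar Cfsg.Agent.Lib.Helper14
  Cfsg.Agent.Lib.Helper14.OrthMinus Cfsg.Agent.Lib.Helper14.QuadExt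
  Cfsg.Agent.Lib.Helper18.OrthIso Cfsg.Agent.Lib.Helper18.OrthMin
  Cfsg.Agent.Lib.Helper15.QuadType

universe u v

section final

variable {F₀ : Type v} {F : Type u} [Field F₀] [Field F] [Fintype F₀] [Fintype F] (k : ℕ)

/-- part (4) of S2717 in terms of `k = m - 1` -/
theorem gf_main_4 {p f : ℕ} [Fact p.Prime] (hF : Fintype.card F = p ^ f)
    (hk : 3 ≤ k) (hgam : Cfsg.gammaPOmega F (Cfsg.quadFormPlus (k + 1) F) = ⊤)
    (x : MulAut (Cfsg.POmega F ⇑(Qp (k + 1) F)))
    (hx : Cfsg.IsGraphFieldAutClassPOmegaPlus (k + 1) x) (hx2 : orderOf x = 2)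
    (hF₀ : Fintype.card F₀ = p ^ (f / 2)) :
    (p = 2 → Cfsg.splitClassCount (GPlus (F := F) k)
      (Cfsg.Inn (Cfsg.POmega F ⇑(Qp (k + 1) F))) x = 1) ∧
    ((p ≠ 2 ∧ Odd (k + 1) ∧ p ^ (f / 2) % 4 = 1) →
      Cfsg.splitClassCount (GPlus (F := F) k)
        (Cfsg.Inn (Cfsg.POmega F ⇑(Qp (k + 1) F))) x = 4) ∧
    ((p ≠ 2 ∧ ¬ (Odd (k + 1) ∧ p ^ (f / 2) % 4 = 1)) →
      Cfsg.splitClassCount (GPlus (F := F) k)
        (Cfsg.Inn (Cfsg.POmega F ⇑(Qp (k + 1) F))) x = 2) := by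
  have hn : 7 ≤ Fintype.card (Fin (k + 1) ⊕ Fin (k + 1)) := by
    rw [card_plus_idx]
    omega
  haveI := gPlus_normal k hn hgam
  haveI hcp : CharP F p := charP_of_card_eq_prime_pow hF
  have h2iff : (2 : F) = 0 ↔ p = 2 := by
    constructor
    · intro h
      have h' : ((2 : ℕ) : F) = 0 := by exact_mod_cast h
      rw [CharP.cast_eq_zero_iff F p] at h'
      exact (Nat.prime_dvd_prime_iff_eq (Fact.out : p.Prime) Nat.prime_two).1 h'
    · rintro rfl
      have : ((2 : ℕ) : F) = 0 := CharP.cast_eq_zero F 2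
      exact_mod_cast this
  refine ⟨?_, ?_, ?_⟩
  · intro hp
    exact split_char2 k (h2iff.2 hp) hk x
  all_goals
    rintro ⟨hp, hcond⟩
    have h2 : (2 : F) ≠ 0 := fun h => hp (h2iff.1 h)
    obtain ⟨σ, hσ⟩ := graph_field_sigma k hn x hx hx2
    obtain ⟨hdvd, e, a₀, b₀, ζ, he, hab₀, hζ, hσζ, hcard⟩ := exists_field_data hF hF₀ σ hσ
    obtain ⟨h, hh, hxe⟩ := graph_field_std k hn hgam x hx hx2 hσ
    have hcount : Cfsg.splitClassCount (GPlus (F := F) k)
        (Cfsg.Inn (Cfsg.POmega F ⇑(Qp (k + 1) F))) x =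
        Cfsg.splitClassCount (GPlus (F := F) k)
        (Cfsg.Inn (Cfsg.POmega F ⇑(Qp (k + 1) F))) (stdGF k σ) := by
      rw [hxe]
      apply Cfsg.Agent.Lib.Helper18.PSLnFld.splitClassCount_conj
      · intro g
        constructor
        · intro hg
          exact (GPlus (F := F) k).mul_mem ((GPlus (F := F) k).mul_mem hh hg)
            ((GPlus (F := F) k).inv_mem hh)
        · intro hg
          have := (GPlus (F := F) k).mul_mem ((GPlus (F := F) k).mul_mem
            ((GPlus (F := F) k).inv_mem hh) hg) hh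
          convert this using 1
          group
      · intro g
        haveI := Cfsg.innNormal (Cfsg.POmega F ⇑(Qp (k + 1) F))
        constructor
        · intro hg
          exact Subgroup.Normal.conj_mem inferInstance g hg h
        · intro hg
          have := Subgroup.Normal.conj_mem
            (inferInstance : (Cfsg.Inn (Cfsg.POmega F ⇑(Qp (k + 1) F))).Normal) _ hg h⁻¹
          convert this using 1
          group
    rw [hcount]
    have hstd := split_odd_std k hk h2 e a₀ b₀ hab₀ ζ hζ σ hσ he hσζ hcard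
    rw [hF₀] at hstd
  · exact hstd.1 hcond
  · exact hstd.2 hcond

end final

end Cfsg.Agent.Lib.Helper25.GFld
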