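import Cfsg.Agent.Lib.Helper25.GFld2
import Cfsg.Agent.Lib.Helper18.OrthParB
import Cfsg.Agent.Lib.Helper25.GraphSplit6

set_option autoImplicit false

/-!
# Parity of semisimilarities of a quadratic form in matrix coordinates
-/

namespace Cfsg.Agent.Lib.Helper25.GFld

open Module QuadraticMap Matrix Cfsg.Agent.Lib.Helper25.MaxTS Cfsg.Agent.Lib.Helper25.CD
  Cfsg.Agent.Lib.Helper25.GraphSplit Cfsg.Agent.Lib.Helper25.PSim Cfsg.Agent.Lib.Helper18.OrthPar

universe u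

section mat

variable {ι : Type} [Fintype ι] [DecidableEq ι] {F : Type u} [Field F]

/-- the semilinear map `v ↦ g σ(v)` as a semilinear bijection -/
def semiS (g : GL ι F) (σ : F ≃+* F) : SLin σ (ι → F) (ι → F) where
  toFun := semiMap g σ
  map_add' := semiMap_add g σ
  map_smul' := semiMap_smul g σ
  bij := ⟨semiMap_injective g σ, semiMap_surjective g σ⟩

theorem semiS_apply (g : GL ι F) (σ : F ≃+* F) (v : ι → F) :
    (semiS g σ).toFun v = semiMap g σ v := rfl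

/-- image of a subspace under `v ↦ g σ(v)` -/
def simg (g : GL ι F) (σ : F ≃+* F) (U : Submodule F (ι → F)) : Submodule F (ι → F) :=
  (semiS g σ).img U

theorem mem_simg (g : GL ι F) (σ : F ≃+* F) (U : Submodule F (ι → F)) (y : ι → F) :
    y ∈ simg g σ U ↔ ∃ x ∈ U, semiMap g σ x = y := Iff.rfl

theorem simg_comp (g₁ g₂ : GL ι F) (σ₁ σ₂ : F ≃+* F) (U : Submodule F (ι → F)) :
    simg (g₁ * sigmaGL σ₁ g₂) (σ₂.trans σ₁) U = simg g₁ σ₁ (simg g₂ σ₂ U) := by
  ext y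
  constructor
  · rintro ⟨x, hx, rfl⟩
    exact ⟨semiMap g₂ σ₂ x, ⟨x, hx, rfl⟩, (semiMap_comp g₁ g₂ σ₁ σ₂ x).symm⟩
  · rintro ⟨_, ⟨x, hx, rfl⟩, rfl⟩
    exact ⟨x, hx, semiMap_comp g₁ g₂ σ₁ σ₂ x⟩

theorem simg_refl (g : GL ι F) (U : Submodule F (ι → F)) :
    simg g (RingEquiv.refl F) U = Cfsg.imageSubmodule (g : Matrix ι ι F) U := by
  ext y
  unfold Cfsg.imageSubmodule
  rw [mem_simg, Submodule.mem_map]
  constructor
  · rintro ⟨x, hx, rfl⟩
    exact ⟨x, hx, by rw [Matrix.toLin'_apply]; rfl⟩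
  · rintro ⟨x, hx, rfl⟩
    exact ⟨x, hx, by rw [Matrix.toLin'_apply]; rfl⟩

theorem simg_smul (g g' : GL ι F) (σ : F ≃+* F) (c : F) (hc : c ≠ 0)
    (h : (g' : Matrix ι ι F) = c • (g : Matrix ι ι F)) (U : Submodule F (ι → F)) :
    simg g' σ U = simg g σ U := by
  have key : ∀ x, semiMap g' σ x = c • semiMap g σ x := by
    intro x
    unfold semiMap
    rw [h, Matrix.smul_mulVec]
  ext y
  constructor
  · rintro ⟨x, hx, rfl⟩
    refine ⟨σ.symm c • x, U.smul_mem _ hx, ?_⟩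
    show semiMap g σ (σ.symm c • x) = semiMap g' σ x
    rw [semiMap_smul, RingEquiv.apply_symm_apply, key]
  · rintro ⟨x, hx, rfl⟩
    refine ⟨σ.symm c⁻¹ • x, U.smul_mem _ hx, ?_⟩
    show semiMap g' σ (σ.symm c⁻¹ • x) = semiMap g σ x
    rw [key, semiMap_smul, RingEquiv.apply_symm_apply, smul_smul, mul_inv_cancel₀ hc, one_smul]

variable (Q : QuadraticForm F (ι → F))

theorem isSemiSim_of_pair {g : GL ι F} {σ : F ≃+* F}
    (h : Cfsg.IsSemisimilarityPair (⇑Q) g σ) : IsSemiSim Q Q (semiS g σ) := by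
  obtain ⟨c, hc⟩ := pair_apply (⇑Q) h
  exact ⟨c, c.ne_zero, hc⟩

theorem isGeo_of_pair {g : GL ι F} {σ : F ≃+* F}
    (h : Cfsg.IsSemisimilarityPair (⇑Q) g σ) : IsGeo Q (simg g σ) :=
  (isSemiSim_of_pair Q h).isGeo

/-- the semisimilarity `(g, σ)` preserves the two families of totally singular `n`-spaces -/
def SPres (n : ℕ) (g : GL ι F) (σ : F ≃+* F) : Prop :=
  ∀ U : Submodule F (ι → F), TS Q U → finrank F U = n → par n (simg g σ) U

variable {Q}

theorem spres_iff_one (hQ : (polarBilin Q).Nondegenerate) {n : ℕ}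
    (hdim : finrank F (ι → F) = n + n) {g : GL ι F} {σ : F ≃+* F}
    (h : Cfsg.IsSemisimilarityPair (⇑Q) g σ) {U : Submodule F (ι → F)} (hU : TS Q U)
    (hUm : finrank F U = n) : SPres Q n g σ ↔ par n (simg g σ) U := by
  constructor
  · intro hs
    exact hs U hU hUm
  · intro hp W hW hWm
    exact (par_indep hQ hdim (isGeo_of_pair Q h) hU hUm hW hWm).1 hp

/-- multiplicativity -/
theorem spres_mul (hQ : (polarBilin Q).Nondegenerate) {n : ℕ}
    (hdim : finrank F (ι → F) = n + n) {g₁ g₂ : GL ι F} {σ₁ σ₂ : F ≃+* F}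
    (h₁ : Cfsg.IsSemisimilarityPair (⇑Q) g₁ σ₁) (h₂ : Cfsg.IsSemisimilarityPair (⇑Q) g₂ σ₂) :
    SPres Q n (g₁ * sigmaGL σ₁ g₂) (σ₂.trans σ₁) ↔ (SPres Q n g₁ σ₁ ↔ SPres Q n g₂ σ₂) := by
  by_cases hex : ∃ U : Submodule F (ι → F), TS Q U ∧ finrank F U = n
  · obtain ⟨U, hU, hUm⟩ := hex
    rw [spres_iff_one hQ hdim (pair_mul (⇑Q) h₁ h₂) hU hUm, spres_iff_one hQ hdim h₁ hU hUm,
      spres_iff_one hQ hdim h₂ hU hUm]
    have e : simg (g₁ * sigmaGL σ₁ g₂) (σ₂.trans σ₁) = simg g₁ σ₁ ∘ simg g₂ σ₂ := by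
      funext X
      exact simg_comp g₁ g₂ σ₁ σ₂ X
    rw [e]
    exact par_comp hQ hdim (isGeo_of_pair Q h₁) (isGeo_of_pair Q h₂) hU hUm
  · have hv : ∀ (g : GL ι F) (σ : F ≃+* F), SPres Q n g σ := by
      intro g σ U hU hUm
      exact absurd ⟨U, hU, hUm⟩ hex
    exact ⟨fun _ => ⟨fun _ => hv _ _, fun _ => hv _ _⟩, fun _ => hv _ _⟩

theorem spres_smul {n : ℕ} (g g' : GL ι F) (σ : F ≃+* F) (c : F) (hc : c ≠ 0)
    (h : (g' : Matrix ι ι F) = c • (g : Matrix ι ι F)) : SPres Q n g' σ ↔ SPres Q n g σ := by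
  unfold SPres
  have e : simg g' σ = simg g σ := by
    funext U
    exact simg_smul g g' σ c hc h U
  rw [e]

end mat

section hyper

variable {ι : Type} [Fintype ι] [DecidableEq ι] {F : Type u} [Field F] (n : ℕ)
  (Q : QuadraticForm F (ι → F)) (L : (ι → F) ≃ₗ[F] (Fin n ⊕ Fin n → F))
  (hL : ∀ v, Cfsg.quadFormPlus n F (L v) = Q v)

include hL in
/-- for a linear similarity, `SPres` is the class-preserving condition -/
theorem spres_refl_iff (g : GL ι F) :
    SPres Q n g (RingEquiv.refl F) ↔ Cfsg.PreservesSingularClasses (⇑Q) (g : Matrix ι ι F) := by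
  unfold SPres Cfsg.PreservesSingularClasses
  constructor
  · intro h U hU
    obtain ⟨hts, hm⟩ := (isMax_iff_of_equiv n Q L hL U).1 hU
    have := h U hts hm
    unfold par at this
    rw [simg_refl] at this
    unfold Cfsg.SameParityClass
    rwa [hm]
  · intro h U hU hUm
    have := h U ((isMax_iff_of_equiv n Q L hL U).2 ⟨hU, hUm⟩)
    unfold Cfsg.SameParityClass at this
    rw [hUm] at this
    unfold par
    rwa [simg_refl]

end hyper

end Cfsg.Agent.Lib.Helper25.GFld
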