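import Cfsg.Agent.Lib.Helper25.GFld3

set_option autoImplicit false

/-!
# Transport of the parity of semisimilarities along similarities of quadratic spaces
-/

namespace Cfsg.Agent.Lib.Helper25.GFld

open Module QuadraticMap Matrix Cfsg.Agent.Lib.Helper25.MaxTS Cfsg.Agent.Lib.Helper25.CD
  Cfsg.Agent.Lib.Helper25.GraphSplit Cfsg.Agent.Lib.Helper25.PSim

universe u

section abstract

variable {F : Type*} [Field F] {V V' : Type*} [AddCommGroup V] [Module F V] [AddCommGroup V']
  [Module F V'] {τ : F ≃+* F}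

/-- transport of the parity condition along a semisimilarity between two spaces -/
theorem par_transport {Q : QuadraticForm F V} {Q' : QuadraticForm F V'} (P : SLin τ V V')
    (hP : IsSemiSim Q Q' P) (Φ : Submodule F V → Submodule F V)
    (Φ' : Submodule F V' → Submodule F V') (hcomm : ∀ U, Φ' (P.img U) = P.img (Φ U)) (n : ℕ) :
    (∀ U, TS Q U → finrank F U = n → par n Φ U) ↔
      (∀ W, TS Q' W → finrank F W = n → par n Φ' W) := by
  have key : ∀ U, par n Φ' (P.img U) ↔ par n Φ U := by
    intro U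
    unfold par
    rw [hcomm, P.finrank_img_inf]
  constructor
  · intro h W hW hWm
    have h1 := h (P.inv.img W) (hP.inv.ts hW) ((P.inv.finrank_img W).trans hWm)
    rw [← key, P.img_img_inv] at h1
    exact h1
  · intro h U hU hUm
    rw [← key]
    exact h (P.img U) (hP.ts hU) ((P.finrank_img U).trans hUm)

end abstract

section mat

variable {ι ι' : Type} [Fintype ι] [DecidableEq ι] [Fintype ι'] [DecidableEq ι'] {F : Type u}
  [Field F]

/-- transport of `SPres` along a linear similarity intertwining two semilinear maps -/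
theorem spres_transport (Q' : QuadraticForm F (ι → F)) (Q'' : QuadraticForm F (ι' → F))
    (L : (ι → F) ≃ₗ[F] (ι' → F)) (d : F) (hd : d ≠ 0) (hL : ∀ v, Q'' (L v) = d * Q' v)
    (g : GL ι F) (g' : GL ι' F) (σ : F ≃+* F)
    (hcomm : ∀ v, L (semiMap g σ v) = semiMap g' σ (L v)) (n : ℕ) :
    SPres Q' n g σ ↔ SPres Q'' n g' σ := by
  unfold SPres
  apply par_transport (SLin.ofLE L) ⟨d, hd, fun v => hL v⟩
  intro U
  ext y
  constructor
  · rintro ⟨_, ⟨x, hx, rfl⟩, rfl⟩
    exact ⟨semiMap g σ x, ⟨x, hx, rfl⟩, hcomm x⟩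
  · rintro ⟨_, ⟨x, hx, rfl⟩, rfl⟩
    exact ⟨L x, ⟨x, hx, rfl⟩, (hcomm x).symm⟩

/-- transport along a change of coordinates `h` with rescaling -/
theorem spres_comp (Q : QuadraticForm F (ι → F)) (h : GL ι F) (a : F) (ha : a ≠ 0)
    (g : GL ι F) (σ : F ≃+* F) (n : ℕ) :
    SPres (a • Q.comp (Matrix.toLin' (h : Matrix ι ι F))) n g σ ↔
      SPres Q n (h * g * (sigmaGL σ h)⁻¹) σ := by
  apply spres_transport _ Q (toLE h) a⁻¹ (inv_ne_zero ha)
  · intro v
    rw [_root_.smul_apply, smul_eq_mul, QuadraticMap.comp_apply, Matrix.toLin'_apply,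
      ← mul_assoc, inv_mul_cancel₀ ha, one_mul, toLE_apply]
  · intro v
    rw [toLE_apply, toLE_apply]
    unfold semiMap
    rw [Matrix.mulVec_mulVec, map_mulVec_equiv, Matrix.mulVec_mulVec]
    congr 1
    rw [← sigmaGL_coe, ← Units.val_mul, ← Units.val_mul, inv_mul_cancel_right]

end mat

end Cfsg.Agent.Lib.Helper25.GFld
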