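import Cfsg.Agent.Lib.Helper25.InndiagMinus1
import Cfsg.Agent.Lib.Helper25.SpinMinus

set_option autoImplicit false

/-!
# Base change of similarities; the minus form becomes hyperbolic over a quadratic extension;
`PreservesSingularClassesMinus` for a similarity means `det = μ^(m+1)`.
-/

namespace Cfsg.Agent.Lib.Helper25.PSim

open Module QuadraticMap Matrix Cfsg.Agent.Lib.Helper25.MaxTS Cfsg.Agent.Lib.Helper25.Spin
  Cfsg.Agent.Lib.Helper14 Cfsg.Agent.Lib.Helper14.OrthMinus

universe u v

section basechange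

variable {ι : Type} [Fintype ι] [DecidableEq ι] {F : Type u} [Field F] {K : Type v} [Field K]
  [Algebra F K]

theorem comp_eq_of_sim (QF : QuadraticForm F (ι → F)) (g : Matrix ι ι F) (c : F)
    (hg : ∀ v, QF (g *ᵥ v) = c * QF v) :
    LinearMap.BilinForm.comp (polarBilin QF) (Matrix.toLin' g) (Matrix.toLin' g) =
      c • polarBilin QF := by
  apply LinearMap.ext
  intro x
  apply LinearMap.ext
  intro y
  rw [LinearMap.BilinForm.comp_apply, Matrix.toLin'_apply, Matrix.toLin'_apply,
    polarBilin_apply_apply]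
  show polar QF (g *ᵥ x) (g *ᵥ y) = c * polar QF x y
  unfold polar
  rw [← Matrix.mulVec_add, hg, hg, hg]
  ring

/-- A similarity stays a similarity after extension of scalars. -/
theorem sim_map (h2 : (2 : K) ≠ 0) (QF : QuadraticForm F (ι → F)) (QK : QuadraticForm K (ι → K))
    (hgram : ∀ i j : ι, polar QK (Pi.single i 1) (Pi.single j 1) =
      algebraMap F K (polar QF (Pi.single i 1) (Pi.single j 1)))
    (g : Matrix ι ι F) (c : F) (hg : ∀ v, QF (g *ᵥ v) = c * QF v) (v : ι → K) :
    QK (g.map (algebraMap F K) *ᵥ v) = algebraMap F K c * QK v := by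
  have h1 := congrArg LinearMap.BilinForm.toMatrix' (comp_eq_of_sim QF g c hg)
  rw [LinearMap.BilinForm.toMatrix'_comp, map_smul] at h1
  have hS : LinearMap.BilinForm.toMatrix' (polarBilin QK) =
      (LinearMap.BilinForm.toMatrix' (polarBilin QF)).map (algebraMap F K) := by
    ext i j
    rw [Matrix.map_apply, LinearMap.BilinForm.toMatrix'_apply, LinearMap.BilinForm.toMatrix'_apply,
      polarBilin_apply_apply, polarBilin_apply_apply, hgram]
  rw [LinearMap.toMatrix'_toLin'] at h1
  have h3 : (gᵀ * LinearMap.BilinForm.toMatrix' (polarBilin QF) * g).map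
      (algebraMap F K) = (c • LinearMap.BilinForm.toMatrix' (polarBilin QF)).map
      (algebraMap F K) := by rw [h1]
  rw [Matrix.map_mul, Matrix.map_mul, Matrix.transpose_map,
    Matrix.map_smul' _ _ _ (map_mul (algebraMap F K)), ← hS] at h3
  have hcomp : LinearMap.BilinForm.comp (polarBilin QK)
      (Matrix.toLin' (g.map (algebraMap F K))) (Matrix.toLin' (g.map (algebraMap F K))) =
      algebraMap F K c • polarBilin QK := by
    apply LinearMap.BilinForm.toMatrix'.injective
    rw [LinearMap.BilinForm.toMatrix'_comp, LinearMap.toMatrix'_toLin', map_smul]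
    exact h3
  have h4 := LinearMap.congr_fun (LinearMap.congr_fun hcomp v) v
  rw [LinearMap.BilinForm.comp_apply, Matrix.toLin'_apply, polarBilin_apply_apply] at h4
  have h5 : polar QK (g.map (algebraMap F K) *ᵥ v) (g.map (algebraMap F K) *ᵥ v) =
      algebraMap F K c * polar QK v v := h4
  rw [MaxTS.polar_self, MaxTS.polar_self] at h5
  apply mul_left_cancel₀ h2
  linear_combination h5

end basechange

section minus

variable {F : Type u} [Field F] {K : Type v} [Field K] [Algebra F K] (m : ℕ) (a b : F)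

theorem single_map (i : Idx m) :
    (Pi.single i (1 : K) : Idx m → K) = fun k => algebraMap F K ((Pi.single i (1 : F) : Idx m → F) k) := by
  funext k
  by_cases h : k = i
  · subst h
    simp
  · simp [h]

theorem minusPolar_map (x y : Idx m → F) :
    minusPolar m K (algebraMap F K a) (algebraMap F K b) (fun k => algebraMap F K (x k))
      (fun k => algebraMap F K (y k)) = algebraMap F K (minusPolar m F a b x y) := by
  unfold minusPolar
  simp only [map_add, map_sum, map_mul, map_ofNat]

theorem minus_sim_map (h2 : (2 : K) ≠ 0) (hD : a ^ 2 - 4 * b ≠ 0)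
    (g : Matrix (Idx m) (Idx m) F) (c : F)
    (hg : ∀ v, Cfsg.quadFormMinus m F a b (g *ᵥ v) = c * Cfsg.quadFormMinus m F a b v)
    (v : Idx m → K) :
    Cfsg.quadFormMinus m K (algebraMap F K a) (algebraMap F K b)
        (g.map (algebraMap F K) *ᵥ v) =
      algebraMap F K c * Cfsg.quadFormMinus m K (algebraMap F K a) (algebraMap F K b) v := by
  have hD' : (algebraMap F K a) ^ 2 - 4 * algebraMap F K b ≠ 0 := by
    intro h
    apply hD
    apply (algebraMap F K).injective
    rw [map_sub, map_mul, map_pow, map_ofNat, map_zero]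
    exact h
  exact sim_map h2 (qfOf (isQF_minus (n := m) hD)) (qfOf (isQF_minus (n := m) hD'))
    (fun i j => by
      rw [polar_qfOf, polar_qfOf, single_map (F := F) (K := K) m i,
        single_map (F := F) (K := K) m j, minusPolar_map])
    g c hg v

end minus

section hyp

variable {K : Type u} [Field K] (m : ℕ) (a b ζ : K)

/-- The isometry from the minus form (split by a root `ζ`) to the hyperbolic form. -/
def toPlusFun (v : Idx m → K) : Fin (m + 1) ⊕ Fin (m + 1) → K :=
  Sum.elim
    (Fin.snoc (α := fun _ => K) (fun i : Fin m => v (.inl (.inl i)))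
      (v (.inr 0) - ζ * v (.inr 1)))
    (Fin.snoc (α := fun _ => K) (fun i : Fin m => v (.inl (.inr i)))
      (v (.inr 0) - (-a - ζ) * v (.inr 1)))

theorem toPlusFun_inl_castSucc (v : Idx m → K) (i : Fin m) :
    toPlusFun m a ζ v (.inl i.castSucc) = v (.inl (.inl i)) := by
  simp [toPlusFun]

theorem toPlusFun_inr_castSucc (v : Idx m → K) (i : Fin m) :
    toPlusFun m a ζ v (.inr i.castSucc) = v (.inl (.inr i)) := by
  simp [toPlusFun]

theorem toPlusFun_inl_last (v : Idx m → K) :
    toPlusFun m a ζ v (.inl (Fin.last m)) = v (.inr 0) - ζ * v (.inr 1) := by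
  simp [toPlusFun]

theorem toPlusFun_inr_last (v : Idx m → K) :
    toPlusFun m a ζ v (.inr (Fin.last m)) = v (.inr 0) - (-a - ζ) * v (.inr 1) := by
  simp [toPlusFun]

/-- as a linear map -/
def toPlusLin : (Idx m → K) →ₗ[K] (Fin (m + 1) ⊕ Fin (m + 1) → K) where
  toFun := toPlusFun m a ζ
  map_add' v w := by
    funext k
    rcases k with i | i
    · refine Fin.lastCases ?_ (fun j => ?_) i
      · rw [Pi.add_apply, toPlusFun_inl_last, toPlusFun_inl_last, toPlusFun_inl_last]
        simp only [Pi.add_apply]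
        ring
      · rw [Pi.add_apply, toPlusFun_inl_castSucc, toPlusFun_inl_castSucc, toPlusFun_inl_castSucc]
        rfl
    · refine Fin.lastCases ?_ (fun j => ?_) i
      · rw [Pi.add_apply, toPlusFun_inr_last, toPlusFun_inr_last, toPlusFun_inr_last]
        simp only [Pi.add_apply]
        ring
      · rw [Pi.add_apply, toPlusFun_inr_castSucc, toPlusFun_inr_castSucc, toPlusFun_inr_castSucc]
        rfl
  map_smul' c v := by
    funext k
    rcases k with i | i
    · refine Fin.lastCases ?_ (fun j => ?_) i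
      · rw [Pi.smul_apply, toPlusFun_inl_last, toPlusFun_inl_last]
        simp only [Pi.smul_apply, smul_eq_mul, RingHom.id_apply]
        ring
      · rw [Pi.smul_apply, toPlusFun_inl_castSucc, toPlusFun_inl_castSucc]
        rfl
    · refine Fin.lastCases ?_ (fun j => ?_) i
      · rw [Pi.smul_apply, toPlusFun_inr_last, toPlusFun_inr_last]
        simp only [Pi.smul_apply, smul_eq_mul, RingHom.id_apply]
        ring
      · rw [Pi.smul_apply, toPlusFun_inr_castSucc, toPlusFun_inr_castSucc]
        rfl

theorem toPlusLin_apply (v : Idx m → K) : toPlusLin m a ζ v = toPlusFun m a ζ v := rfl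

theorem plus_toPlus (hζ : ζ ^ 2 + a * ζ + b = 0) (v : Idx m → K) :
    Cfsg.quadFormPlus (m + 1) K (toPlusFun m a ζ v) = Cfsg.quadFormMinus m K a b v := by
  unfold Cfsg.quadFormPlus Cfsg.quadFormMinus
  rw [Fin.sum_univ_castSucc]
  simp only [toPlusFun_inl_castSucc, toPlusFun_inr_castSucc, toPlusFun_inl_last,
    toPlusFun_inr_last]
  congr 1
  linear_combination (-(v (.inr 1)) ^ 2) * hζ

theorem toPlusLin_injective (hζ : ζ ^ 2 + a * ζ + b = 0) (hD : a ^ 2 - 4 * b ≠ 0) :
    Function.Injective (toPlusLin m a ζ) := by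
  rw [injective_iff_map_eq_zero]
  intro v hv
  rw [toPlusLin_apply] at hv
  have h1 : ∀ i : Fin m, v (.inl (.inl i)) = 0 := by
    intro i
    rw [← toPlusFun_inl_castSucc m a ζ v i, hv]
    rfl
  have h2 : ∀ i : Fin m, v (.inl (.inr i)) = 0 := by
    intro i
    rw [← toPlusFun_inr_castSucc m a ζ v i, hv]
    rfl
  have h3 : v (.inr 0) - ζ * v (.inr 1) = 0 := by
    rw [← toPlusFun_inl_last m a ζ v, hv]
    rfl
  have h4 : v (.inr 0) - (-a - ζ) * v (.inr 1) = 0 := by
    rw [← toPlusFun_inr_last m a ζ v, hv]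
    rfl
  have hne : 2 * ζ + a ≠ 0 := by
    intro h
    apply hD
    linear_combination (2 * ζ + a) * h - 4 * hζ
  have h5 : v (.inr 1) = 0 := by
    have : (2 * ζ + a) * v (.inr 1) = 0 := by linear_combination h4 - h3
    exact (mul_eq_zero.1 this).resolve_left hne
  have h6 : v (.inr 0) = 0 := by
    rw [h5, mul_zero, sub_zero] at h3
    exact h3
  funext k
  rcases k with (i | i) | i
  · exact h1 i
  · exact h2 i
  · fin_cases i
    · exact h6
    · exact h5

/-- The linear isometry. -/
noncomputable def toPlusEquiv (hζ : ζ ^ 2 + a * ζ + b = 0) (hD : a ^ 2 - 4 * b ≠ 0) :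
    (Idx m → K) ≃ₗ[K] (Fin (m + 1) ⊕ Fin (m + 1) → K) :=
  LinearMap.linearEquivOfInjective (toPlusLin m a ζ) (toPlusLin_injective m a b ζ hζ hD) (by
    rw [Module.finrank_fintype_fun_eq_card, Module.finrank_fintype_fun_eq_card]
    simp only [Fintype.card_sum, Fintype.card_fin]
    ring)

theorem toPlusEquiv_apply (hζ : ζ ^ 2 + a * ζ + b = 0) (hD : a ^ 2 - 4 * b ≠ 0) (v : Idx m → K) :
    toPlusEquiv m a b ζ hζ hD v = toPlusFun m a ζ v := rfl

/-- For a split minus form: preserving the two families means being proper. -/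
theorem preserves_split_iff (h2 : (2 : K) ≠ 0) (hζ : ζ ^ 2 + a * ζ + b = 0)
    (hD : a ^ 2 - 4 * b ≠ 0) (g : Matrix (Idx m) (Idx m) K) (c : K) (hc : c ≠ 0)
    (hg : ∀ v, Cfsg.quadFormMinus m K a b (g *ᵥ v) = c * Cfsg.quadFormMinus m K a b v) :
    Cfsg.PreservesSingularClasses (Cfsg.quadFormMinus m K a b) g ↔ g.det = c ^ (m + 1) :=
  preserves_iff_of_equiv (m + 1) (Cfsg.quadFormMinus m K a b) (toPlusEquiv m a b ζ hζ hD)
    (fun v => by rw [toPlusEquiv_apply]; exact plus_toPlus m a b ζ hζ v) h2 g c hc hg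

end hyp

section main

variable {F : Type u} [Field F] [Fintype F] (m : ℕ) (a b : F)

/-- For a similarity of the minus form over a finite field of odd order, the class-preserving
condition over a quadratic extension is `det = μ^(m+1)`. -/
theorem preserves_minus_iff (hodd : Odd (Fintype.card F))
    (hab : ∀ z₁ z₂ : F, z₁ ^ 2 + a * z₁ * z₂ + b * z₂ ^ 2 = 0 → z₁ = 0 ∧ z₂ = 0)
    (g : Matrix (Idx m) (Idx m) F) (c : F) (hc : c ≠ 0)
    (hg : ∀ v, Cfsg.quadFormMinus m F a b (g *ᵥ v) = c * Cfsg.quadFormMinus m F a b v) :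
    Cfsg.PreservesSingularClassesMinus m a b g ↔ g.det = c ^ (m + 1) := by
  have hD : a ^ 2 - 4 * b ≠ 0 := disc_ne_zero hab
  have key : ∀ (K : Type u) [Field K] [Algebra F K], Module.finrank F K = 2 →
      (Cfsg.PreservesSingularClasses
        (Cfsg.quadFormMinus m K (algebraMap F K a) (algebraMap F K b))
        (g.map (algebraMap F K)) ↔ g.det = c ^ (m + 1)) := by
    intro K _ _ hK
    have h2 : (2 : K) ≠ 0 := QExt.two_ne_zero_ext (F := F) hodd
    obtain ⟨ζ, hζ⟩ := QExt.exists_root (K := K) hodd hK a b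
    have hD' : (algebraMap F K a) ^ 2 - 4 * algebraMap F K b ≠ 0 := by
      intro h
      apply hD
      apply (algebraMap F K).injective
      rw [map_sub, map_mul, map_pow, map_ofNat, map_zero]
      exact h
    have hc' : algebraMap F K c ≠ 0 := by
      intro h
      apply hc
      apply (algebraMap F K).injective
      rw [h, map_zero]
    rw [preserves_split_iff m _ _ ζ h2 hζ hD' _ (algebraMap F K c) hc'
      (minus_sim_map m a b h2 hD g c hg)]
    have e : (g.map (algebraMap F K)).det = algebraMap F K g.det := by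
      rw [RingHom.map_det]
      rfl
    rw [e, ← map_pow]
    exact (algebraMap F K).injective.eq_iff
  constructor
  · rintro ⟨K, hKf, hKa, hK, hpres⟩
    exact (@key K hKf hKa hK).1 hpres
  · intro hdet
    have hroot : ∀ z : F, z ^ 2 + a * z + b ≠ 0 := by
      intro z hz
      have := hab z 1 (by linear_combination hz)
      exact one_ne_zero this.2
    obtain ⟨K, hKf, hKa, hK⟩ := QExt.exists_ext a b hroot
    exact ⟨K, hKf, hKa, hK, (@key K hKf hKa hK).2 hdet⟩

end main

end Cfsg.Agent.Lib.Helper25.PSim
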