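import Cfsg.Agent.Lib.Helper25.GFld4
import Cfsg.Agent.Lib.Helper25.InndiagMinus2
import Cfsg.Agent.Lib.Helper18.OrthFldK
import Cfsg.Agent.Lib.Helper18.OrthParC

set_option autoImplicit false

/-!
# The two models: the standard field automorphism on the hyperbolic form and on the split
minus-type form
-/

namespace Cfsg.Agent.Lib.Helper25.GFld

open Module QuadraticMap Matrix Cfsg.Agent.Lib.Helper25.MaxTS Cfsg.Agent.Lib.Helper25.CD
  Cfsg.Agent.Lib.Helper25.GraphSplit Cfsg.Agent.Lib.Helper25.PSim Cfsg.Agent.Lib.Helper25.Spin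
  Cfsg.Agent.Lib.Helper18.OrthFld Cfsg.Agent.Lib.Helper18.OrthPar Cfsg.Agent.Lib.Helper14
  Cfsg.Agent.Lib.Helper14.OrthMinus

universe u

section plus

variable {F : Type u} [Field F] (n : ℕ)

theorem mem_stdE_iff (v : Fin n ⊕ Fin n → F) : v ∈ stdE n (F := F) ↔ ∀ i, v (Sum.inr i) = 0 := by
  unfold stdE
  rw [LinearMap.mem_ker]
  constructor
  · intro h i
    exact congrFun h i
  · intro h
    funext i
    exact h i

theorem qfix_plus (σ : RingAut F) : Qfix (⇑(Qp n F)) σ := by
  intro v
  have e : ∀ w, (Qp n F) w = Cfsg.quadFormPlus n F w := fun w => rfl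
  rw [e, e]
  unfold Cfsg.quadFormPlus
  simp only [map_sum, map_mul]

theorem semiMap_one (σ : F ≃+* F) {ι : Type} [Fintype ι] [DecidableEq ι] (v : ι → F) :
    semiMap (1 : GL ι F) σ v = fun i => σ (v i) := by
  unfold semiMap
  rw [Units.val_one, Matrix.one_mulVec]

theorem stdE_ts' : TS (Qp n F) (stdE n) := by
  intro u hu
  have := stdE_ts n u hu
  rwa [plusQ_apply] at this

theorem simg_one_stdE (σ : F ≃+* F) : simg (1 : GL (Fin n ⊕ Fin n) F) σ (stdE n) = stdE n := by
  ext y
  rw [mem_simg]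
  constructor
  · rintro ⟨x, hx, rfl⟩
    rw [semiMap_one, mem_stdE_iff]
    intro i
    rw [(mem_stdE_iff n x).1 hx i, map_zero]
  · intro hy
    refine ⟨fun i => σ.symm (y i), ?_, ?_⟩
    · rw [mem_stdE_iff]
      intro i
      rw [(mem_stdE_iff n y).1 hy i, map_zero]
    · rw [semiMap_one]
      funext i
      exact σ.apply_symm_apply _

/-- the standard field automorphism preserves the two families of the standard hyperbolic
form -/
theorem spres_plus_std (σ : RingAut F) :
    SPres (Qp n F) n (1 : GL (Fin n ⊕ Fin n) F) σ := by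
  have hQ : (polarBilin (Qp n F)).Nondegenerate := qfOf_nondeg _
  rw [spres_iff_one hQ (finrank_plus n) (pair_one _ (qfix_plus n σ)) (stdE_ts' n)
    (stdE_finrank n)]
  unfold par
  rw [simg_one_stdE, inf_idem, stdE_finrank, Nat.sub_self]
  exact Even.zero

end plus

section minus

variable {F : Type u} [Field F] (k : ℕ) (a b ζ : F)

/-- the vector `e - f` in the last hyperbolic pair -/
def swapVec : Fin (k + 1) ⊕ Fin (k + 1) → F :=
  Pi.single (Sum.inl (Fin.last k)) 1 - Pi.single (Sum.inr (Fin.last k)) 1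

theorem Qp_swapVec : Qp (k + 1) F (swapVec k) = -1 := by
  show Cfsg.quadFormPlus (k + 1) F (swapVec k) = -1
  unfold Cfsg.quadFormPlus swapVec
  rw [Finset.sum_eq_single (Fin.last k)]
  · simp
  · intro i _ hi
    simp [Pi.single_apply, hi]
  · intro h
    exact absurd (Finset.mem_univ _) h

theorem polar_swapVec (x : Fin (k + 1) ⊕ Fin (k + 1) → F) :
    polar (Qp (k + 1) F) (swapVec k) x = x (Sum.inr (Fin.last k)) - x (Sum.inl (Fin.last k)) := by
  rw [polar_qfOf]
  unfold plusPolar swapVec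
  rw [Finset.sum_eq_single (Fin.last k)]
  · simp
    ring
  · intro i _ hi
    simp [Pi.single_apply, hi]
  · intro h
    exact absurd (Finset.mem_univ _) h

/-- the reflection in `e - f` interchanges the last two coordinates -/
theorem refl_swapVec (x : Fin (k + 1) ⊕ Fin (k + 1) → F) :
    (((reflM (Qp (k + 1) F) (swapVec k) : ↥(Cfsg.isometryGroup F ⇑(Qp (k + 1) F))) :
      GL (Fin (k + 1) ⊕ Fin (k + 1)) F) : Matrix _ _ F) *ᵥ x =
      fun j => Sum.elim
        (fun i => if i = Fin.last k then x (Sum.inr (Fin.last k)) else x (Sum.inl i))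
        (fun i => if i = Fin.last k then x (Sum.inl (Fin.last k)) else x (Sum.inr i)) j := by
  rw [← toOG_apply, toOG_reflM, reflE_apply, Qp_swapVec, polar_swapVec]
  funext j
  rcases j with i | i
  · simp only [Pi.sub_apply, Pi.smul_apply, smul_eq_mul, Sum.elim_inl, swapVec]
    by_cases hi : i = Fin.last k
    · subst hi
      simp
    · simp [Pi.single_apply, hi]
  · simp only [Pi.sub_apply, Pi.smul_apply, smul_eq_mul, Sum.elim_inr, swapVec]
    by_cases hi : i = Fin.last k
    · subst hi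
      simp
    · simp [Pi.single_apply, hi]

variable (σ : RingAut F)

/-- the split isometry intertwines the standard field automorphism with the reflection in
`e - f` followed by the standard field automorphism -/
theorem toPlus_sigma (ha : σ a = a) (hσζ : σ ζ = -a - ζ) (v : Idx k → F) :
    toPlusFun k a ζ (semiMap (1 : GL (Idx k) F) σ v) =
      semiMap ((reflM (Qp (k + 1) F) (swapVec k) : ↥(Cfsg.isometryGroup F ⇑(Qp (k + 1) F))) :
        GL (Fin (k + 1) ⊕ Fin (k + 1)) F) σ (toPlusFun k a ζ v) := by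
  rw [semiMap_one]
  unfold semiMap
  rw [refl_swapVec]
  funext j
  rcases j with i | i
  · refine Fin.lastCases ?_ (fun l => ?_) i
    · rw [toPlusFun_inl_last, Sum.elim_inl, if_pos rfl, toPlusFun_inr_last, map_sub, map_mul,
        map_sub, map_neg, ha, hσζ]
      ring
    · rw [toPlusFun_inl_castSucc, Sum.elim_inl, if_neg (Fin.castSucc_lt_last l).ne,
        toPlusFun_inl_castSucc]
  · refine Fin.lastCases ?_ (fun l => ?_) i
    · rw [toPlusFun_inr_last, Sum.elim_inr, if_pos rfl, toPlusFun_inl_last, map_sub, map_mul,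
        hσζ]
    · rw [toPlusFun_inr_castSucc, Sum.elim_inr, if_neg (Fin.castSucc_lt_last l).ne,
        toPlusFun_inr_castSucc]

/-- on the split minus-type form whose splitting root is moved by `σ`, the standard field
automorphism interchanges the two families -/
theorem not_spres_minus_std (ha : σ a = a) (hb : σ b = b) (hζ : ζ ^ 2 + a * ζ + b = 0)
    (hσζ : σ ζ ≠ ζ) (hD : a ^ 2 - 4 * b ≠ 0) :
    ¬ SPres (qfOf (isQF_minus (n := k) hD)) (k + 1) (1 : GL (Idx k) F) σ := by
  have hσζ' : σ ζ = -a - ζ := by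
    have h1 : (σ ζ) ^ 2 + a * σ ζ + b = 0 := by
      have := congrArg σ hζ
      rwa [map_add, map_add, map_mul, map_pow, ha, hb, map_zero] at this
    have h2 : (σ ζ - ζ) * (σ ζ + a + ζ) = 0 := by linear_combination h1 - hζ
    rcases mul_eq_zero.1 h2 with h | h
    · exact absurd (sub_eq_zero.1 h) hσζ
    · linear_combination h
  have hQ : (polarBilin (Qp (k + 1) F)).Nondegenerate := qfOf_nondeg _
  set s : GL (Fin (k + 1) ⊕ Fin (k + 1)) F :=
    ((reflM (Qp (k + 1) F) (swapVec k) : ↥(Cfsg.isometryGroup F ⇑(Qp (k + 1) F))) :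
      GL (Fin (k + 1) ⊕ Fin (k + 1)) F) with hs
  rw [spres_transport (qfOf (isQF_minus (n := k) hD)) (Qp (k + 1) F) (toPlusEquiv k a b ζ hζ hD) 1
    one_ne_zero (fun v => by
      rw [one_mul, toPlusEquiv_apply]
      exact plus_toPlus k a b ζ hζ v) 1 s σ (fun v => by
      rw [toPlusEquiv_apply, toPlusEquiv_apply]
      exact toPlus_sigma k a ζ σ ha hσζ' v)]
  have hps : Cfsg.IsSemisimilarityPair (⇑(Qp (k + 1) F)) s (RingEquiv.refl F) :=
    pair_of_sim _ (Cfsg.Agent.Lib.Helper25.PSim.incl (⇑(Qp (k + 1) F))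
      (reflM (Qp (k + 1) F) (swapVec k))).2
  have hp1 : Cfsg.IsSemisimilarityPair (⇑(Qp (k + 1) F)) 1 σ := pair_one _ (qfix_plus (k + 1) σ)
  have hmul := spres_mul hQ (finrank_plus (k + 1)) hps hp1
  have e1 : s * sigmaGL (RingEquiv.refl F) 1 = s := by rw [map_one, mul_one]
  have e2 : (σ : F ≃+* F).trans (RingEquiv.refl F) = σ := by
    apply RingEquiv.ext
    intro x
    rfl
  rw [e1, e2] at hmul
  rw [hmul]
  intro h
  have h1 := h.2 (spres_plus_std (k + 1) σ)
  rw [spres_refl_iff (k + 1) (Qp (k + 1) F) (LinearEquiv.refl F _) (fun v => rfl)] at h1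
  exact not_pres_reflM (k + 1) (Qp (k + 1) F) (LinearEquiv.refl F _) (fun v => rfl) hQ
    (by rw [Qp_swapVec]; exact neg_ne_zero.2 one_ne_zero) h1

end minus

end Cfsg.Agent.Lib.Helper25.GFld
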