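import Cfsg.Agent.Lib.Helper25.GFld5
import Cfsg.Agent.Lib.Helper15.QuadType

set_option autoImplicit false

/-!
# Descent of a form fixed by a field automorphism: the two types, and the parity of the
standard field automorphism (P4)
-/

namespace Cfsg.Agent.Lib.Helper25.GFld

open Module QuadraticMap Matrix Cfsg.Agent.Lib.Helper25.MaxTS Cfsg.Agent.Lib.Helper25.CD
  Cfsg.Agent.Lib.Helper25.GraphSplit Cfsg.Agent.Lib.Helper25.PSim Cfsg.Agent.Lib.Helper25.Spin
  Cfsg.Agent.Lib.Helper18.OrthFld Cfsg.Agent.Lib.Helper18.OrthPar Cfsg.Agent.Lib.Helper14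
  Cfsg.Agent.Lib.Helper14.OrthMinus Cfsg.Agent.Lib.Helper14.QuadExt
  Cfsg.Agent.Lib.Helper18.PSpAut

universe u

section basechange

variable {F₀ F : Type*} [Field F₀] [Field F] (e : F₀ →+* F)
  {ι κ : Type*} [Fintype ι] [DecidableEq ι] [Fintype κ] [DecidableEq κ]

/-- entrywise embedding of vectors -/
def evv (v : ι → F₀) : ι → F := fun i => e (v i)

theorem map_one_rect : (1 : Matrix ι ι F₀).map e = 1 := by
  ext i j
  by_cases hij : i = j
  · subst hij
    simp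
  · simp [hij]

/-- base change of a linear equivalence between coordinate spaces -/
noncomputable def bcE (E₀ : (ι → F₀) ≃ₗ[F₀] (κ → F₀)) : (ι → F) ≃ₗ[F] (κ → F) :=
  LinearEquiv.ofLinear
    (Matrix.toLin' ((LinearMap.toMatrix' (E₀ : (ι → F₀) →ₗ[F₀] (κ → F₀))).map e))
    (Matrix.toLin' ((LinearMap.toMatrix' (E₀.symm : (κ → F₀) →ₗ[F₀] (ι → F₀))).map e))
    (by
      rw [← Matrix.toLin'_mul, ← Matrix.map_mul, ← LinearMap.toMatrix'_comp]
      have : (E₀ : (ι → F₀) →ₗ[F₀] (κ → F₀)) ∘ₗ (E₀.symm : (κ → F₀) →ₗ[F₀] (ι → F₀)) =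
          LinearMap.id := by
        apply LinearMap.ext
        intro x
        exact E₀.apply_symm_apply x
      rw [this, LinearMap.toMatrix'_id, map_one_rect, Matrix.toLin'_one])
    (by
      rw [← Matrix.toLin'_mul, ← Matrix.map_mul, ← LinearMap.toMatrix'_comp]
      have : (E₀.symm : (κ → F₀) →ₗ[F₀] (ι → F₀)) ∘ₗ (E₀ : (ι → F₀) →ₗ[F₀] (κ → F₀)) =
          LinearMap.id := by
        apply LinearMap.ext
        intro x
        exact E₀.symm_apply_apply x
      rw [this, LinearMap.toMatrix'_id, map_one_rect, Matrix.toLin'_one])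

theorem bcE_apply (E₀ : (ι → F₀) ≃ₗ[F₀] (κ → F₀)) (v : ι → F) :
    bcE e E₀ v = ((LinearMap.toMatrix' (E₀ : (ι → F₀) →ₗ[F₀] (κ → F₀))).map e) *ᵥ v := by
  unfold bcE
  rw [LinearEquiv.ofLinear_apply, Matrix.toLin'_apply]

theorem bcE_evv (E₀ : (ι → F₀) ≃ₗ[F₀] (κ → F₀)) (v : ι → F₀) :
    bcE e E₀ (evv e v) = evv e (E₀ v) := by
  rw [bcE_apply]
  funext j
  have h1 := RingHom.map_mulVec e (LinearMap.toMatrix' (E₀ : (ι → F₀) →ₗ[F₀] (κ → F₀))) v j
  rw [LinearMap.toMatrix'_mulVec] at h1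
  exact h1.symm

theorem bcE_sigma (E₀ : (ι → F₀) ≃ₗ[F₀] (κ → F₀)) (σ : F ≃+* F) (hσ : ∀ x, σ (e x) = e x)
    (v : ι → F) : bcE e E₀ (fun i => σ (v i)) = fun j => σ (bcE e E₀ v j) := by
  rw [bcE_apply, bcE_apply]
  funext j
  have h1 := RingHom.map_mulVec (σ : F →+* F)
    ((LinearMap.toMatrix' (E₀ : (ι → F₀) →ₗ[F₀] (κ → F₀))).map e) v j
  have h2 : ((LinearMap.toMatrix' (E₀ : (ι → F₀) →ₗ[F₀] (κ → F₀))).map e).map
      ((σ : F →+* F) : F → F) = (LinearMap.toMatrix' (E₀ : (ι → F₀) →ₗ[F₀] (κ → F₀))).map e := by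
    ext a b
    exact hσ _
  rw [h2] at h1
  exact h1.symm

end basechange

section descent

variable {ι : Type} [Fintype ι] [DecidableEq ι] {F : Type u} [Field F] [Fintype F]
  (σ : RingAut F) (Q' : QuadraticForm F (ι → F)) (hfix : Qfix (⇑Q') σ)

theorem emb_eq_evv {κ : Type*} (v : κ → Kf σ) : emb σ v = evv (Kf σ).subtype v := rfl

theorem sigma_subtype (x : Kf σ) : σ ((Kf σ).subtype x) = (Kf σ).subtype x :=
  (mem_fixedK σ _).1 x.2

/-- a form on another coordinate space which agrees with `Q'` on the fixed vectors after a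
change of coordinates over the fixed field agrees with `Q'` everywhere -/
theorem bc_form {κ : Type} [Fintype κ] [DecidableEq κ] (Q'' : QuadraticForm F (κ → F))
    (E₀ : (ι → Kf σ) ≃ₗ[Kf σ] (κ → Kf σ))
    (h : ∀ v : ι → Kf σ, Q'' (emb σ (E₀ v)) = Q' (emb σ v)) (v : ι → F) :
    Q'' (bcE (Kf σ).subtype E₀ v) = Q' v := by
  have hq : Q''.comp ((bcE (Kf σ).subtype E₀ : (ι → F) ≃ₗ[F] (κ → F)) : (ι → F) →ₗ[F] (κ → F)) =
      Q' := by
    apply quad_ext_fixed σ
    intro w hw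
    obtain ⟨w₀, rfl⟩ := exists_emb_of_vfix σ hw
    rw [QuadraticMap.comp_apply, LinearEquiv.coe_coe, emb_eq_evv, bcE_evv, ← emb_eq_evv, h]
    rfl
  have := DFunLike.congr_fun hq v
  rwa [QuadraticMap.comp_apply] at this

theorem card_kf_fintype : Nonempty (Fintype (Kf σ)) := ⟨Fintype.ofFinite _⟩

/-- the two types of a nondegenerate even-dimensional form fixed by `σ`: over the fixed field
it is hyperbolic, or of minus type with a prescribed anisotropic binary part -/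
theorem descent_cases (hQ' : (polarBilin Q').Nondegenerate) (k : ℕ)
    (hcard : Fintype.card ι = 2 * (k + 1)) (a₀ c₀ : Kf σ) (hac : Aniso a₀ c₀) :
    (∃ b : Basis (Fin (k + 1) ⊕ Fin (k + 1)) (Kf σ) (ι → Kf σ),
      ∀ v, Cfsg.quadFormPlus (k + 1) (Kf σ) (b.equivFun v) = descQ σ Q' hfix v) ∨
    (∃ b : Basis (Idx k) (Kf σ) (ι → Kf σ),
      ∀ v, Cfsg.quadFormMinus k (Kf σ) a₀ c₀ (b.equivFun v) = descQ σ Q' hfix v) := by
  haveI : Fintype (Kf σ) := Fintype.ofFinite _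
  exact Cfsg.Agent.Lib.Helper15.QuadType.classify (descQ σ Q' hfix)
    (descQ_nondeg σ Q' hfix hQ') k (by rw [Module.finrank_fintype_fun_eq_card, hcard]) hac

include hfix in
/-- hyperbolic descent: coordinates over `F` commuting with `σ` in which `Q'` is the standard
hyperbolic form -/
theorem plus_coords_of_basis (k : ℕ)
    (b : Basis (Fin (k + 1) ⊕ Fin (k + 1)) (Kf σ) (ι → Kf σ))
    (hb : ∀ v, Cfsg.quadFormPlus (k + 1) (Kf σ) (b.equivFun v) = descQ σ Q' hfix v) :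
    ∃ L : (ι → F) ≃ₗ[F] (Fin (k + 1) ⊕ Fin (k + 1) → F),
      (∀ v, Qp (k + 1) F (L v) = Q' v) ∧
      ∀ v, L (fun i => σ (v i)) = fun j => σ (L v j) := by
  refine ⟨bcE (Kf σ).subtype b.equivFun, ?_, ?_⟩
  · apply bc_form σ Q' (Qp (k + 1) F) b.equivFun
    intro v
    rw [← descQ_apply σ Q' hfix, ← hb]
    show Cfsg.quadFormPlus (k + 1) F (evv (Kf σ).subtype (b.equivFun v)) =
      (Kf σ).subtype (Cfsg.quadFormPlus (k + 1) (Kf σ) (b.equivFun v))
    unfold Cfsg.quadFormPlus evv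
    simp only [map_sum, map_mul]
  · intro v
    exact bcE_sigma (Kf σ).subtype b.equivFun σ (sigma_subtype σ) v

include hfix in
/-- minus-type descent -/
theorem minus_coords_of_basis (k : ℕ) (a₀ c₀ : Kf σ)
    (hD : ((a₀ : F)) ^ 2 - 4 * (c₀ : F) ≠ 0)
    (b : Basis (Idx k) (Kf σ) (ι → Kf σ))
    (hb : ∀ v, Cfsg.quadFormMinus k (Kf σ) a₀ c₀ (b.equivFun v) = descQ σ Q' hfix v) :
    ∃ L : (ι → F) ≃ₗ[F] (Idx k → F),
      (∀ v, qfOf (isQF_minus (n := k) hD) (L v) = Q' v) ∧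
      ∀ v, L (fun i => σ (v i)) = fun j => σ (L v j) := by
  refine ⟨bcE (Kf σ).subtype b.equivFun, ?_, ?_⟩
  · apply bc_form σ Q' (qfOf (isQF_minus (n := k) hD)) b.equivFun
    intro v
    rw [← descQ_apply σ Q' hfix, ← hb]
    exact compat_minus k (Kf σ).subtype a₀ c₀ (b.equivFun v)
  · intro v
    exact bcE_sigma (Kf σ).subtype b.equivFun σ (sigma_subtype σ) v

end descent

end Cfsg.Agent.Lib.Helper25.GFld
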