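import Cfsg.Agent.Lib.Helper25.GFld6

set_option autoImplicit false

/-!
# P4: the parity of the standard field automorphism of order two detects the type of the
descended form; forms of the same type are isometric by a fixed matrix
-/

namespace Cfsg.Agent.Lib.Helper25.GFld

open Module QuadraticMap Matrix Cfsg.Agent.Lib.Helper25.MaxTS Cfsg.Agent.Lib.Helper25.CD
  Cfsg.Agent.Lib.Helper25.GraphSplit Cfsg.Agent.Lib.Helper25.PSim Cfsg.Agent.Lib.Helper25.Spin
  Cfsg.Agent.Lib.Helper18.OrthFld Cfsg.Agent.Lib.Helper18.OrthPar Cfsg.Agent.Lib.Helper14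
  Cfsg.Agent.Lib.Helper14.OrthMinus Cfsg.Agent.Lib.Helper14.QuadExt
  Cfsg.Agent.Lib.Helper18.PSpAut

universe u

section p4

variable {ι : Type} [Fintype ι] [DecidableEq ι] {F : Type u} [Field F] [Fintype F]
  (σ : RingAut F) (Q' : QuadraticForm F (ι → F)) (hfix : Qfix (⇑Q') σ)

include hfix in
/-- hyperbolic descent: the standard field automorphism preserves the two families -/
theorem spres_std_of_plus (k : ℕ)
    (b : Basis (Fin (k + 1) ⊕ Fin (k + 1)) (Kf σ) (ι → Kf σ))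
    (hb : ∀ v, Cfsg.quadFormPlus (k + 1) (Kf σ) (b.equivFun v) = descQ σ Q' hfix v) :
    SPres Q' (k + 1) (1 : GL ι F) σ := by
  obtain ⟨L, hL, hLσ⟩ := plus_coords_of_basis σ Q' hfix k b hb
  rw [spres_transport Q' (Qp (k + 1) F) L 1 one_ne_zero (fun v => by rw [one_mul]; exact hL v)
    1 1 σ (fun v => by rw [semiMap_one, semiMap_one]; exact hLσ v)]
  exact spres_plus_std (k + 1) σ

theorem finrank_kf_two (hσ : orderOf σ = 2) : Module.finrank (Kf σ) F = 2 := by
  classical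
  have : Finite (RingAut F) :=
    Finite.of_injective (fun e : F ≃+* F => (e : F → F)) DFunLike.coe_injective
  have : Fintype (Subgroup.zpowers σ) := Fintype.ofFinite _
  rw [FixedPoints.finrank_eq_card, ← Nat.card_eq_fintype_card, Nat.card_zpowers, hσ]

include hfix in
/-- minus-type descent: the standard field automorphism of order two interchanges the two
families -/
theorem not_spres_std_of_minus (hσ : orderOf σ = 2) (k : ℕ) (a₀ c₀ : Kf σ) (hac : Aniso a₀ c₀)
    (b : Basis (Idx k) (Kf σ) (ι → Kf σ))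
    (hb : ∀ v, Cfsg.quadFormMinus k (Kf σ) a₀ c₀ (b.equivFun v) = descQ σ Q' hfix v) :
    ¬ SPres Q' (k + 1) (1 : GL ι F) σ := by
  haveI : Finite (Kf σ) := inferInstance
  have hD₀ : a₀ ^ 2 - 4 * c₀ ≠ 0 := disc_ne_zero hac
  have hD : ((a₀ : F)) ^ 2 - 4 * (c₀ : F) ≠ 0 := by
    intro h
    apply hD₀
    apply Subtype.ext
    push_cast
    exact h
  obtain ⟨L, hL, hLσ⟩ := minus_coords_of_basis σ Q' hfix k a₀ c₀ hD b hb
  obtain ⟨ζ, hζ⟩ := exists_root_ext (F := Kf σ) (K := F) (finrank_kf_two σ hσ) a₀ c₀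
  have hζ' : ζ ^ 2 + (a₀ : F) * ζ + (c₀ : F) = 0 := hζ
  have hσζ : σ ζ ≠ ζ := by
    intro h
    have hmem : ζ ∈ Kf σ := (mem_fixedK σ ζ).2 h
    have h1 := hac ⟨ζ, hmem⟩ 1 (by
      apply Subtype.ext
      push_cast
      linear_combination hζ')
    exact one_ne_zero h1.2
  rw [spres_transport Q' (qfOf (isQF_minus (n := k) hD)) L 1 one_ne_zero
    (fun v => by rw [one_mul]; exact hL v)
    1 1 σ (fun v => by rw [semiMap_one, semiMap_one]; exact hLσ v)]
  exact not_spres_minus_std k (a₀ : F) (c₀ : F) ζ σ (sigma_subtype σ a₀) (sigma_subtype σ c₀) hζ'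
    hσζ hD

/-- an anisotropic pair over the fixed field -/
theorem exists_aniso_kf : ∃ a₀ c₀ : Kf σ, Aniso a₀ c₀ := by
  haveI : Fintype (Kf σ) := Fintype.ofFinite _
  exact Cfsg.Agent.Lib.Helper15.QuadType.exists_aniso

variable (Q'' : QuadraticForm F (ι → F)) (hfix' : Qfix (⇑Q'') σ)

include hfix hfix' in
/-- **forms of the same type are isometric by a `σ`-fixed matrix** (order two) -/
theorem fixed_isometry_of_spres_iff (hσ : orderOf σ = 2)
    (hQ' : (polarBilin Q').Nondegenerate) (hQ'' : (polarBilin Q'').Nondegenerate) (k : ℕ)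
    (hcard : Fintype.card ι = 2 * (k + 1))
    (h : SPres Q' (k + 1) (1 : GL ι F) σ ↔ SPres Q'' (k + 1) (1 : GL ι F) σ) :
    ∃ (M : Matrix ι ι F) (d : F), IsUnit M ∧ M.map σ = M ∧ d ≠ 0 ∧ ∀ v, Q' (M *ᵥ v) = d * Q'' v := by
  obtain ⟨a₀, c₀, hac⟩ := exists_aniso_kf σ
  rcases descent_cases σ Q' hfix hQ' k hcard a₀ c₀ hac with ⟨b₁, hb₁⟩ | ⟨b₁, hb₁⟩ <;>
    rcases descent_cases σ Q'' hfix' hQ'' k hcard a₀ c₀ hac with ⟨b₂, hb₂⟩ | ⟨b₂, hb₂⟩
  · apply lift_similarity σ Q'' Q' hfix' hfix (b₂.equivFun.trans b₁.equivFun.symm) 1 one_ne_zero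
    intro v
    rw [← hb₁, LinearEquiv.trans_apply, LinearEquiv.apply_symm_apply, hb₂, one_mul]
  · exfalso
    exact not_spres_std_of_minus σ Q'' hfix' hσ k a₀ c₀ hac b₂ hb₂
      (h.1 (spres_std_of_plus σ Q' hfix k b₁ hb₁))
  · exfalso
    exact not_spres_std_of_minus σ Q' hfix hσ k a₀ c₀ hac b₁ hb₁
      (h.2 (spres_std_of_plus σ Q'' hfix' k b₂ hb₂))
  · apply lift_similarity σ Q'' Q' hfix' hfix (b₂.equivFun.trans b₁.equivFun.symm) 1 one_ne_zero
    intro v
    rw [← hb₁, LinearEquiv.trans_apply, LinearEquiv.apply_symm_apply, hb₂, one_mul]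

end p4

end Cfsg.Agent.Lib.Helper25.GFld
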