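import Cfsg.Agent.Lib.Helper25.GFld7

set_option autoImplicit false

/-!
# Automorphisms of odd order: similar fixed forms are similar by a fixed matrix
-/

namespace Cfsg.Agent.Lib.Helper25.GFld

open Module QuadraticMap Matrix Cfsg.Agent.Lib.Helper25.MaxTS Cfsg.Agent.Lib.Helper25.CD
  Cfsg.Agent.Lib.Helper25.GraphSplit Cfsg.Agent.Lib.Helper25.PSim Cfsg.Agent.Lib.Helper25.Spin
  Cfsg.Agent.Lib.Helper18.OrthFld Cfsg.Agent.Lib.Helper18.OrthPar Cfsg.Agent.Lib.Helper14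
  Cfsg.Agent.Lib.Helper14.OrthMinus Cfsg.Agent.Lib.Helper14.QuadExt
  Cfsg.Agent.Lib.Helper18.PSpAut Cfsg.Agent.Lib.Helper15.QuadType

universe u

section hastype

variable {F : Type*} [Field F] [Fintype F]

theorem hasType_smul {ε : ℤ} {n : ℕ} {W : Type*} {Q : W → F} (h : HasType ε n Q) (a : F)
    (ha : a ≠ 0) : HasType ε n (fun v => a * Q v) := by
  have key : ∀ c : F, Nat.card {v : W // a * Q v = c} = Nat.card {v : W // Q v = a⁻¹ * c} := by
    intro c
    apply Nat.card_congr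
    refine Equiv.subtypeEquivRight ?_
    intro v
    constructor
    · intro hv
      rw [← hv, ← mul_assoc, inv_mul_cancel₀ ha, one_mul]
    · intro hv
      rw [hv, ← mul_assoc, mul_inv_cancel₀ ha, one_mul]
  constructor
  · rw [key, mul_zero]
    exact h.1
  · intro c hc
    rw [key]
    exact h.2 _ (mul_ne_zero (inv_ne_zero ha) hc)

end hastype

section odd

variable {F : Type u} [Field F] [Fintype F] (σ : RingAut F)

/-- a binary form anisotropic over the fixed field of an automorphism of odd order stays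
anisotropic -/
theorem aniso_of_odd (hσ : Odd (orderOf σ)) (a₀ c₀ : Kf σ) (hac : Aniso a₀ c₀) :
    Aniso ((a₀ : F)) ((c₀ : F)) := by
  intro z₁ z₂ hz
  by_cases hz₂ : z₂ = 0
  · rw [hz₂] at hz
    refine ⟨?_, hz₂⟩
    have : z₁ ^ 2 = 0 := by linear_combination hz
    exact pow_eq_zero_iff (two_ne_zero) |>.1 this
  exfalso
  set t : F := z₁ / z₂ with ht
  have hroot : t ^ 2 + (a₀ : F) * t + (c₀ : F) = 0 := by
    rw [ht]
    field_simp
    linear_combination hz
  have hσa : σ (a₀ : F) = a₀ := sigma_subtype σ a₀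
  have hσc : σ (c₀ : F) = c₀ := sigma_subtype σ c₀
  have hnotfix : σ t ≠ t := by
    intro h
    have hmem : t ∈ Kf σ := (mem_fixedK σ t).2 h
    have h1 := hac ⟨t, hmem⟩ 1 (by
      apply Subtype.ext
      push_cast
      linear_combination hroot)
    exact one_ne_zero h1.2
  have hσroot : (σ t) ^ 2 + (a₀ : F) * σ t + (c₀ : F) = 0 := by
    have := congrArg σ hroot
    rwa [map_add, map_add, map_mul, map_pow, hσa, hσc, map_zero] at this
  have hσt : σ t = -(a₀ : F) - t := by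
    have h2 : (σ t - t) * (σ t + (a₀ : F) + t) = 0 := by linear_combination hσroot - hroot
    rcases mul_eq_zero.1 h2 with h | h
    · exact absurd (sub_eq_zero.1 h) hnotfix
    · linear_combination h
  have hσσt : σ (σ t) = t := by
    rw [hσt, map_sub, map_neg, hσa, hσt]
    ring
  have hpow : ∀ j : ℕ, (σ ^ (2 * j)) t = t := by
    intro j
    induction j with
    | zero => rfl
    | succ j ih =>
      have e : 2 * (j + 1) = 2 * j + 2 := by ring
      rw [e, pow_add]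
      show (σ ^ (2 * j)) ((σ ^ 2) t) = t
      have e2 : (σ ^ 2) t = σ (σ t) := by
        rw [pow_two]
        rfl
      rw [e2, hσσt, ih]
  obtain ⟨j, hj⟩ := hσ
  have h1 : (σ ^ (2 * j + 1)) t = t := by
    rw [← hj, pow_orderOf_eq_one]
    rfl
  rw [pow_succ] at h1
  have h2 : (σ ^ (2 * j)) (σ t) = t := h1
  have h3 : (σ ^ (2 * j)) (σ t) = σ ((σ ^ (2 * j)) t) := by
    have : σ ^ (2 * j) * σ = σ * σ ^ (2 * j) := (Commute.pow_self σ (2 * j)).eq.symm ▸ rfl
    show (σ ^ (2 * j) * σ) t = (σ * σ ^ (2 * j)) t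
    rw [this]
  rw [h3, hpow] at h2
  exact hnotfix h2

variable {ι : Type} [Fintype ι] [DecidableEq ι]
  (Q' Q'' : QuadraticForm F (ι → F)) (hfix : Qfix (⇑Q') σ) (hfix' : Qfix (⇑Q'') σ)

include hfix in
/-- for `σ` of odd order the type of the descended form is the type over `F` -/
theorem hasType_of_descent (hσ : Odd (orderOf σ)) (hQ' : (polarBilin Q').Nondegenerate) (k : ℕ)
    (hcard : Fintype.card ι = 2 * (k + 1)) (a₀ c₀ : Kf σ) (hac : Aniso a₀ c₀) :
    ((∃ b : Basis (Fin (k + 1) ⊕ Fin (k + 1)) (Kf σ) (ι → Kf σ),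
      ∀ v, Cfsg.quadFormPlus (k + 1) (Kf σ) (b.equivFun v) = descQ σ Q' hfix v) ∧
        HasType 1 (k + 1) (⇑Q')) ∨
    ((∃ b : Basis (Idx k) (Kf σ) (ι → Kf σ),
      ∀ v, Cfsg.quadFormMinus k (Kf σ) a₀ c₀ (b.equivFun v) = descQ σ Q' hfix v) ∧
        HasType (-1) (k + 1) (⇑Q')) := by
  rcases descent_cases σ Q' hfix hQ' k hcard a₀ c₀ hac with ⟨b, hb⟩ | ⟨b, hb⟩
  · left
    refine ⟨⟨b, hb⟩, ?_⟩
    obtain ⟨L, hL, -⟩ := plus_coords_of_basis σ Q' hfix k b hb
    apply (hasType_plus (F := F) (k + 1)).congr L.symm.toEquiv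
    intro v
    show Q' (L.symm v) = _
    rw [← hL, LinearEquiv.apply_symm_apply]
    rfl
  · right
    refine ⟨⟨b, hb⟩, ?_⟩
    haveI : Finite (Kf σ) := inferInstance
    have hD₀ : a₀ ^ 2 - 4 * c₀ ≠ 0 := disc_ne_zero hac
    have hD : ((a₀ : F)) ^ 2 - 4 * (c₀ : F) ≠ 0 := by
      intro h
      apply hD₀
      apply Subtype.ext
      push_cast
      exact h
    obtain ⟨L, hL, -⟩ := minus_coords_of_basis σ Q' hfix k a₀ c₀ hD b hb
    apply (hasType_minus (aniso_of_odd σ hσ a₀ c₀ hac) k).congr L.symm.toEquiv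
    intro v
    show Q' (L.symm v) = _
    rw [← hL, LinearEquiv.apply_symm_apply]
    rfl

include hfix hfix' in
/-- **odd order: `F`-similar fixed forms are similar by a fixed matrix** -/
theorem fixed_similar_of_odd (hσ : Odd (orderOf σ)) (hQ' : (polarBilin Q').Nondegenerate)
    (hQ'' : (polarBilin Q'').Nondegenerate) (k : ℕ) (hcard : Fintype.card ι = 2 * (k + 1))
    (hsim : ∃ (h₁ : Matrix ι ι F) (a : F), IsUnit h₁ ∧ a ≠ 0 ∧ ∀ v, Q' v = a * Q'' (h₁ *ᵥ v)) :
    ∃ (M : Matrix ι ι F) (d : F), IsUnit M ∧ M.map σ = M ∧ d ≠ 0 ∧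
      ∀ v, Q' (M *ᵥ v) = d * Q'' v := by
  obtain ⟨a₀, c₀, hac⟩ := exists_aniso_kf σ
  obtain ⟨h₁, a, hh₁, ha, hsim⟩ := hsim
  obtain ⟨H, rfl⟩ := hh₁
  -- the types of `Q'` and `Q''` over `F` agree
  have htype : ∀ ε : ℤ, HasType ε (k + 1) (⇑Q'') → HasType ε (k + 1) (⇑Q') := by
    intro ε h
    have h1 := (hasType_smul h a ha).congr (toLE H).symm.toEquiv (Q' := ⇑Q') (fun v => by
      show Q' ((toLE H).symm v) = a * Q'' v
      rw [hsim, ← toLE_apply, LinearEquiv.apply_symm_apply])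
    exact h1
  rcases hasType_of_descent σ Q' hfix hσ hQ' k hcard a₀ c₀ hac with ⟨⟨b₁, hb₁⟩, ht₁⟩ | ⟨⟨b₁, hb₁⟩, ht₁⟩ <;>
    rcases hasType_of_descent σ Q'' hfix' hσ hQ'' k hcard a₀ c₀ hac with
      ⟨⟨b₂, hb₂⟩, ht₂⟩ | ⟨⟨b₂, hb₂⟩, ht₂⟩
  · apply lift_similarity σ Q'' Q' hfix' hfix (b₂.equivFun.trans b₁.equivFun.symm) 1 one_ne_zero
    intro v
    rw [← hb₁, LinearEquiv.trans_apply, LinearEquiv.apply_symm_apply, hb₂, one_mul]
  · exfalso
    have := ht₁.unique (htype _ ht₂)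
    omega
  · exfalso
    have := ht₁.unique (htype _ ht₂)
    omega
  · apply lift_similarity σ Q'' Q' hfix' hfix (b₂.equivFun.trans b₁.equivFun.symm) 1 one_ne_zero
    intro v
    rw [← hb₁, LinearEquiv.trans_apply, LinearEquiv.apply_symm_apply, hb₂, one_mul]

end odd

end Cfsg.Agent.Lib.Helper25.GFld
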