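import Cfsg.Agent.Lib.Helper25.GFld8
import Cfsg.Agent.Lib.Helper18.OrthFldD

set_option autoImplicit false

/-!
# Conjugacy in the coset of a field or graph-field automorphism of order two
-/

namespace Cfsg.Agent.Lib.Helper25.GFld

open Module QuadraticMap Matrix Cfsg.Agent.Lib.Helper25.MaxTS Cfsg.Agent.Lib.Helper25.CD
  Cfsg.Agent.Lib.Helper25.GraphSplit Cfsg.Agent.Lib.Helper25.PSim Cfsg.Agent.Lib.Helper25.Spin
  Cfsg.Agent.Lib.Helper18.OrthFld Cfsg.Agent.Lib.Helper18.OrthPar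

universe u

section coset

variable {ι : Type} [Fintype ι] [DecidableEq ι] {F : Type u} [Field F]
  (Q : QuadraticForm F (ι → F))

theorem isSimE_of_mem {g : GL ι F} (hg : g ∈ Cfsg.Geo.quadSimilarityGroup (F := F) ⇑Q) :
    IsSimE Q (toLE g) := by
  obtain ⟨c, hc⟩ := hg
  exact ⟨c, c.ne_zero, fun v => hc v⟩

variable (k : ℕ) (L : (ι → F) ≃ₗ[F] (Fin (k + 1) ⊕ Fin (k + 1) → F))
  (hL : ∀ v, Cfsg.quadFormPlus (k + 1) F (L v) = Q v) (hQ : (polarBilin Q).Nondegenerate)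

include hL hQ in
theorem pres_mul' (g h : ↥(Cfsg.Geo.quadSimilarityGroup (F := F) ⇑Q)) :
    Cfsg.PreservesSingularClasses ⇑Q (((g * h).1 : GL ι F) : Matrix ι ι F) ↔
      (Cfsg.PreservesSingularClasses ⇑Q ((g.1 : GL ι F) : Matrix ι ι F) ↔
        Cfsg.PreservesSingularClasses ⇑Q ((h.1 : GL ι F) : Matrix ι ι F)) :=
  pres_mul (k + 1) Q L hL hQ g.1 h.1 (isSimE_of_mem Q g.2) (isSimE_of_mem Q h.2)

variable {σ : RingAut F} (hfix : Qfix (⇑Q) σ) (hstd : SPres Q (k + 1) (1 : GL ι F) σ)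

include hL hQ hfix hstd in
/-- the type of the descended form of a cocycle is read off from the class-preserving
condition -/
theorem spres_descent_iff (g' : ↥(Cfsg.Geo.quadSimilarityGroup (F := F) ⇑Q)) (H : GL ι F)
    (ν a : F) (hν : ν ≠ 0) (ha : a ≠ 0)
    (hH : ((g'.1 : GL ι F) : Matrix ι ι F) * (H : Matrix ι ι F).map σ = ν • (H : Matrix ι ι F)) :
    SPres (a • Q.comp (Matrix.toLin' (H : Matrix ι ι F))) (k + 1) (1 : GL ι F) σ ↔
      Cfsg.PreservesSingularClasses ⇑Q ((g'.1 : GL ι F) : Matrix ι ι F) := by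
  have hdim : finrank F (ι → F) = (k + 1) + (k + 1) := by
    rw [L.finrank_eq]
    exact finrank_plus (k + 1)
  rw [spres_comp Q H a ha 1 σ (k + 1)]
  have e1 : ((H * 1 * (sigmaGL σ H)⁻¹ : GL ι F) : Matrix ι ι F) =
      ν⁻¹ • ((g'.1 : GL ι F) : Matrix ι ι F) := by
    have h0 : (H : Matrix ι ι F).map σ * (((sigmaGL σ H)⁻¹ : GL ι F) : Matrix ι ι F) = 1 := by
      rw [← sigmaGL_coe, ← Units.val_mul, mul_inv_cancel, Units.val_one]
    have h1 : ν • ((H : Matrix ι ι F) * (((sigmaGL σ H)⁻¹ : GL ι F) : Matrix ι ι F)) =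
        ((g'.1 : GL ι F) : Matrix ι ι F) := by
      rw [← Matrix.smul_mul, ← hH, Matrix.mul_assoc, h0, Matrix.mul_one]
    rw [mul_one, Units.val_mul, ← h1, smul_smul, inv_mul_cancel₀ hν, one_smul]
  rw [spres_smul g'.1 _ σ ν⁻¹ (inv_ne_zero hν) e1]
  have hmul := spres_mul hQ hdim (pair_of_sim (⇑Q) g'.2) (pair_one (⇑Q) hfix)
  have e2 : g'.1 * sigmaGL (RingEquiv.refl F) 1 = g'.1 := by rw [map_one, mul_one]
  have e3 : (σ : F ≃+* F).trans (RingEquiv.refl F) = σ := by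
    apply RingEquiv.ext
    intro x
    rfl
  rw [e2, e3] at hmul
  rw [hmul, spres_refl_iff (k + 1) Q L hL]
  exact ⟨fun h => h.2 hstd, fun h => ⟨fun _ => hstd, fun _ => h⟩⟩

variable {φ : MulAut (Cfsg.POmega F ⇑Q)} (hφ : Cfsg.IsFieldAutPOmegaOf (⇑Q) σ φ)

include hφ in
/-- conjugating `θ(t) φ` by `θ(h)` -/
theorem conj_theta_twisted (h t : ↥(Cfsg.Geo.quadSimilarityGroup (F := F) ⇑Q)) :
    theta ⇑Q h * (theta ⇑Q t * φ) * (theta ⇑Q h)⁻¹ =
      theta ⇑Q (h * t * (simF (⇑Q) hfix h)⁻¹) * φ := by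
  have key : (theta ⇑Q (simF (⇑Q) hfix h))⁻¹ * φ = φ * (theta ⇑Q h)⁻¹ := by
    rw [inv_mul_eq_iff_eq_mul, ← mul_assoc, ← field_mul_theta (⇑Q) hfix hφ, mul_inv_cancel_right]
  rw [map_mul, map_mul, map_inv, mul_assoc (theta ⇑Q h * theta ⇑Q t), key]
  simp only [mul_assoc]

end coset

end Cfsg.Agent.Lib.Helper25.GFld
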