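/-
Characters vanishing off two conjugacy classes (Gagola characters), part 2: the normal subgroup `N = {1} ∪ cl(a)`,
its minimality, elementary abelian structure (helper25).
-/
import Mathlib
import Cfsg.Prelude.Def_Blocks
import Cfsg.Prelude.Def_Transfer
import Cfsg.Agent.Lib.Helper25.Gagola

set_option autoImplicit false

namespace Cfsg.Agent.Lib.Helper25

open Cfsg Cfsg.Agent.CharLib Cfsg.Agent.Lib.Helper24 Representation Module
open scoped ComplexConjugate

universe u
variable {G : Type u} [Group G]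

/-- the intersection of the kernels of the irreducible characters other than `χ` -/
noncomputable def otherKer [Finite G] (χ : IrrCharacter G) : Subgroup G :=
  ⨅ ψ : {ψ : IrrCharacter G // ψ ≠ χ}, irrKer ψ.1

instance otherKer_normal [Finite G] (χ : IrrCharacter G) : (otherKer χ).Normal :=
  Subgroup.normal_iInf_normal (fun ψ => irrKer_normal ψ.1)

theorem mem_otherKer [Finite G] (χ : IrrCharacter G) (g : G) :
    g ∈ otherKer χ ↔ ∀ ψ : IrrCharacter G, ψ ≠ χ → (ψ : G → ℂ) g = (ψ : G → ℂ) 1 := by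
  unfold otherKer
  rw [Subgroup.mem_iInf]
  constructor
  · intro h ψ hψ
    exact (mem_irrKer ψ g).mp (h ⟨ψ, hψ⟩)
  · intro h ψ
    exact (mem_irrKer ψ.1 g).mpr (h ψ.1 ψ.2)

/-- for `g ≠ 1` in the intersection of the other kernels, `χ 1 * (χ g - χ 1) = -|G|` -/
theorem apply_of_mem_otherKer [Finite G] (χ : IrrCharacter G) (g : G) (hg : g ∈ otherKer χ) (hg1 : g ≠ 1) :
    (χ : G → ℂ) 1 * ((χ : G → ℂ) g - (χ : G → ℂ) 1) = - (Nat.card G : ℂ) := by
  classical
  let _ := Fintype.ofFinite G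
  let _ := fintypeIrr G
  have h1 := sum_irr_degree_mul g
  have h2 := sum_irr_degree_mul (1 : G)
  rw [if_neg hg1] at h1
  rw [if_pos rfl] at h2
  have h3 : ∑ ψ : IrrCharacter G, (ψ : G → ℂ) 1 * ((ψ : G → ℂ) g - (ψ : G → ℂ) 1) =
      (χ : G → ℂ) 1 * ((χ : G → ℂ) g - (χ : G → ℂ) 1) := by
    apply Finset.sum_eq_single χ
    · intro ψ _ hψ
      rw [(mem_otherKer χ g).mp hg ψ hψ, sub_self, mul_zero]
    · intro h; exact absurd (Finset.mem_univ _) h
  rw [← h3]
  simp only [mul_sub, Finset.sum_sub_distrib, h1, h2, Nat.card_eq_fintype_card]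
  ring

section TwoClass

variable [Finite G] (χ : IrrCharacter G) (a : G) (ha : a ≠ 1)
  (hsupp : ∀ g, (χ : G → ℂ) g ≠ 0 → g = 1 ∨ IsConj g a)

include ha hsupp

theorem rep_mem_otherKer (hG : 2 < Nat.card G) : a ∈ otherKer χ := by
  classical
  let _ := Fintype.ofFinite G
  rw [mem_otherKer]
  intro ψ hψ
  exact gagola_other χ a ha hsupp (ne_one_of_twoClass χ a ha hsupp hG) ψ hψ

theorem mem_otherKer_iff (hG : 2 < Nat.card G) (g : G) : g ∈ otherKer χ ↔ g = 1 ∨ IsConj g a := by
  classical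
  let _ := Fintype.ofFinite G
  constructor
  · intro hg
    by_cases hg1 : g = 1
    · exact Or.inl hg1
    · apply hsupp
      intro h0
      have h1 := apply_of_mem_otherKer χ g hg hg1
      have hχ1 := ne_one_of_twoClass χ a ha hsupp hG
      have h2 := gagola_card χ a ha hsupp hχ1
      rw [h0, zero_sub] at h1
      have h3 : (Nat.card G : ℂ) = (χ : G → ℂ) 1 ^ 2 := by linear_combination h1
      rw [← h3] at h2
      have h4 : (Nat.card G : ℂ) = 0 := by linear_combination -h2
      exact card_ne_zero_complex h4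
  · rintro (rfl | h)
    · exact one_mem _
    · obtain ⟨c, hc⟩ := isConj_iff.mp h.symm
      rw [← hc]
      exact (otherKer_normal χ).conj_mem a (rep_mem_otherKer χ a ha hsupp hG) c

theorem apply_ne_zero_iff (hG : 2 < Nat.card G) (ha0 : (χ : G → ℂ) a ≠ 0) (g : G) :
    (χ : G → ℂ) g ≠ 0 ↔ g ∈ otherKer χ := by
  rw [mem_otherKer_iff χ a ha hsupp hG]
  constructor
  · exact hsupp g
  · rintro (rfl | h)
    · exact irr_apply_one_ne_zero χ
    · rw [← irr_eq_of_isConj χ h]; exact ha0

theorem otherKer_ne_bot (hG : 2 < Nat.card G) : otherKer χ ≠ ⊥ := by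
  intro h
  have := rep_mem_otherKer χ a ha hsupp hG
  rw [h, Subgroup.mem_bot] at this
  exact ha this

theorem otherKer_le (hG : 2 < Nat.card G) (hfaith : ∀ g : G, (χ : G → ℂ) g = (χ : G → ℂ) 1 → g = 1)
    (K : Subgroup G) (hK : K.Normal) (hK1 : K ≠ ⊥) : otherKer χ ≤ K := by
  classical
  have haK : a ∈ K := by
    by_contra haK
    apply hK1
    rw [Subgroup.eq_bot_iff_forall]
    intro k₀ hk₀
    let _ := Fintype.ofFinite K
    have hvan : ∀ k : K, k ≠ 1 → (χ : G → ℂ) (k : G) = 0 := by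
      intro k hk1
      by_contra h0
      rcases hsupp k h0 with h | h
      · exact hk1 (Subtype.ext h)
      · obtain ⟨c, hc⟩ := isConj_iff.mp h
        apply haK
        rw [← hc]
        exact hK.conj_mem k k.2 c
    have hsum : ∑ k : K, (χ : G → ℂ) (k : G) = (χ : G → ℂ) 1 := by
      rw [Finset.sum_eq_single (1 : K)]
      · rfl
      · intro k _ hk; exact hvan k hk
      · intro h; exact absurd (Finset.mem_univ _) h
    have h := apply_mul_sum_normal χ K ⟨k₀, hk₀⟩
    rw [hsum] at h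
    have h1 := irr_apply_one_ne_zero χ
    exact hfaith k₀ (mul_right_cancel₀ h1 h)
  intro g hg
  rcases (mem_otherKer_iff χ a ha hsupp hG g).mp hg with rfl | h
  · exact one_mem _
  · obtain ⟨c, hc⟩ := isConj_iff.mp h.symm
    rw [← hc]
    exact hK.conj_mem a haK c

theorem otherKer_conj (hG : 2 < Nat.card G) (x y : G) (hx : x ∈ otherKer χ) (hy : y ∈ otherKer χ)
    (hx1 : x ≠ 1) (hy1 : y ≠ 1) : ∃ g : G, g * x * g⁻¹ = y := by
  rcases (mem_otherKer_iff χ a ha hsupp hG x).mp hx with h | h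
  · exact absurd h hx1
  · rcases (mem_otherKer_iff χ a ha hsupp hG y).mp hy with h' | h'
    · exact absurd h' hy1
    · exact isConj_iff.mp (h.trans h'.symm)

theorem otherKer_elemAb (hG : 2 < Nat.card G) :
    ∃ p : ℕ, p.Prime ∧ IsElementaryAbelian p (otherKer χ) := by
  classical
  have hne := otherKer_ne_bot χ a ha hsupp hG
  have hcard : 1 < Nat.card (otherKer χ) := (Subgroup.one_lt_card_iff_ne_bot _).mpr hne
  obtain ⟨p, hp, hpd⟩ := Nat.exists_prime_and_dvd (Nat.ne_of_gt hcard)
  haveI : Fact p.Prime := ⟨hp⟩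
  let _ := Fintype.ofFinite (otherKer χ)
  rw [Nat.card_eq_fintype_card] at hpd
  obtain ⟨x, hx⟩ := exists_prime_orderOf_dvd_card p hpd
  have hx1 : (x : G) ≠ 1 := by
    intro h
    have : x = 1 := Subtype.ext h
    rw [this, orderOf_one] at hx
    exact hp.one_lt.ne hx
  have hxp : (x : G) ^ p = 1 := by
    have := pow_orderOf_eq_one x
    rw [hx] at this
    exact_mod_cast congrArg Subtype.val this
  have hexp : ∀ y ∈ otherKer χ, y ^ p = 1 := by
    intro y hy
    by_cases hy1 : y = 1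
    · rw [hy1, one_pow]
    · obtain ⟨g, hg⟩ := otherKer_conj χ a ha hsupp hG x y x.2 hy hx1 hy1
      rw [← hg, conj_pow, hxp, mul_one, mul_inv_cancel]
  have hPG : IsPGroup p (otherKer χ) := by
    intro y
    refine ⟨1, ?_⟩
    rw [pow_one]
    exact Subtype.ext (hexp y y.2)
  haveI : Nontrivial (otherKer χ) := (Subgroup.nontrivial_iff_ne_bot _).mpr hne
  haveI : Nontrivial (Subgroup.center (otherKer χ)) := IsPGroup.center_nontrivial hPG
  obtain ⟨z, hz⟩ := exists_ne (1 : Subgroup.center (otherKer χ))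
  have hz1 : ((z : otherKer χ) : G) ≠ 1 := by
    intro h
    apply hz
    exact Subtype.ext (Subtype.ext h)
  have hzc : ∀ w ∈ otherKer χ, w * ((z : otherKer χ) : G) = ((z : otherKer χ) : G) * w := by
    intro w hw
    have := Subgroup.mem_center_iff.mp z.2 ⟨w, hw⟩
    exact congrArg Subtype.val this
  refine ⟨p, hp, ⟨⟨fun y w => ?_⟩⟩, hexp⟩
  by_cases hy1 : (y : G) = 1
  · have : y = 1 := Subtype.ext hy1
    rw [this, one_mul, mul_one]
  · obtain ⟨g, hg⟩ := otherKer_conj χ a ha hsupp hG _ y (z : otherKer χ).2 y.2 hz1 hy1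
    apply Subtype.ext
    show (y : G) * (w : G) = (w : G) * (y : G)
    have hw' : g⁻¹ * (w : G) * g ∈ otherKer χ := by
      have := (otherKer_normal χ).conj_mem (w : G) w.2 g⁻¹
      simpa using this
    have h2 := hzc _ hw'
    rw [← hg]
    calc g * ((z : otherKer χ) : G) * g⁻¹ * (w : G)
        = g * (((z : otherKer χ) : G) * (g⁻¹ * (w : G) * g)) * g⁻¹ := by group
      _ = g * ((g⁻¹ * (w : G) * g) * ((z : otherKer χ) : G)) * g⁻¹ := by rw [h2]
      _ = (w : G) * (g * ((z : otherKer χ) : G) * g⁻¹) := by group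

end TwoClass

end Cfsg.Agent.Lib.Helper25
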