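/-
Characters vanishing off two conjugacy classes (Gagola characters), part 3: arithmetic, centralizers of
elements of `N` are Sylow `p`-subgroups (helper25).
-/
import Mathlib
import Cfsg.Prelude.Def_Blocks
import Cfsg.Prelude.Def_Transfer
import Cfsg.Agent.Lib.Helper25.Gagola2

set_option autoImplicit false

namespace Cfsg.Agent.Lib.Helper25

open Cfsg Cfsg.Agent.CharLib Cfsg.Agent.Lib.Helper24 Representation Module
open scoped ComplexConjugate

universe u
variable {G : Type u} [Group G]

/-- key arithmetic: if `c z = n`, `c + 1 = p^k` with `k ≥ 1`, `n c = d² (c + 1)`, and `v_q(n) ≤ v_q(d)` for all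
primes `q ≠ p`, then `z = p ^ v_p(n)`. -/
theorem arith_key (p : ℕ) (hp : p.Prime) (n c z d k : ℕ) (hn : n ≠ 0) (hd : d ≠ 0) (hcz : c * z = n)
    (hk : 1 ≤ k) (hc : c + 1 = p ^ k) (hncd : n * c = d ^ 2 * (c + 1))
    (hq : ∀ q : ℕ, q.Prime → q ≠ p → n.factorization q ≤ d.factorization q) :
    z = p ^ n.factorization p := by
  have hc0 : c ≠ 0 := by rintro rfl; rw [zero_mul] at hcz; exact hn hcz.symm
  have hz0 : z ≠ 0 := by rintro rfl; rw [mul_zero] at hcz; exact hn hcz.symm
  have hpc : ¬ p ∣ c := by
    intro h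
    have h1 : p ∣ c + 1 := by rw [hc]; exact dvd_pow_self p (by omega)
    have : p ∣ 1 := (Nat.dvd_add_right h).mp h1
    exact hp.one_lt.ne' (Nat.dvd_one.mp this)
  have hfn : n.factorization = c.factorization + z.factorization := by
    rw [← hcz, Nat.factorization_mul hc0 hz0]
  have hf2 : n.factorization + c.factorization = 2 • d.factorization + k • p.factorization := by
    have := congrArg Nat.factorization hncd
    rw [Nat.factorization_mul hn hc0, hc, Nat.factorization_mul (pow_ne_zero 2 hd)
      (pow_ne_zero k hp.ne_zero), Nat.factorization_pow, Nat.factorization_pow] at this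
    exact this
  have hzq : ∀ q : ℕ, q.Prime → q ≠ p → z.factorization q = 0 := by
    intro q hqp hne
    have h1 := DFunLike.congr_fun hfn q
    have h2 := DFunLike.congr_fun hf2 q
    have h3 := hq q hqp hne
    simp only [Finsupp.coe_add, Pi.add_apply, Finsupp.coe_smul, Pi.smul_apply, smul_eq_mul,
      hp.factorization, Finsupp.single_apply, if_neg (Ne.symm hne)] at h1 h2
    omega
  have hzp : z.factorization p = n.factorization p := by
    have h1 := DFunLike.congr_fun hfn p
    simp only [Finsupp.coe_add, Pi.add_apply, Nat.factorization_eq_zero_of_not_dvd hpc] at h1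
    omega
  apply Nat.eq_pow_of_factorization_eq_single hz0
  ext q
  rw [Finsupp.single_apply]
  by_cases hqp : p = q
  · subst hqp; rw [if_pos rfl, hzp]
  · rw [if_neg hqp]
    by_cases hqpr : q.Prime
    · exact hzq q hqpr (Ne.symm hqp)
    · exact Nat.factorization_eq_zero_of_not_prime z hqpr


section TwoClass

variable [Finite G] (χ : IrrCharacter G) (a : G) (ha : a ≠ 1)
  (hsupp : ∀ g, (χ : G → ℂ) g ≠ 0 → g = 1 ∨ IsConj g a)

include ha hsupp

/-- `|N| = |cl(a)| + 1` -/
theorem card_otherKer (hG : 2 < Nat.card G) :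
    Nat.card (otherKer χ) = Nat.card {g : G // IsConj g a} + 1 := by
  classical
  let _ := Fintype.ofFinite G
  have hmem := mem_otherKer_iff χ a ha hsupp hG
  have h1 := sum_eq_of_support a ha (fun g => if g ∈ otherKer χ then (1 : ℂ) else 0)
    (fun g h => by
      have : h * g * h⁻¹ ∈ otherKer χ ↔ g ∈ otherKer χ := by
        constructor
        · intro hh
          have := (otherKer_normal χ).conj_mem _ hh h⁻¹
          simpa [mul_assoc] using this
        · intro hh
          exact (otherKer_normal χ).conj_mem _ hh h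
      simp only [this])
    (fun g hg => by
      apply (hmem g).mp
      by_contra h
      simp [h] at hg)
  rw [if_pos (one_mem _), if_pos (rep_mem_otherKer χ a ha hsupp hG), mul_one] at h1
  rw [Finset.sum_boole] at h1
  have h2 : Nat.card (otherKer χ) = (Finset.univ.filter (fun g : G => g ∈ otherKer χ)).card := by
    rw [Nat.card_eq_fintype_card, Fintype.card_subtype]
  rw [h2]
  have h3 : ((Finset.univ.filter (fun g : G => g ∈ otherKer χ)).card : ℂ) =
      ((Nat.card {g : G // IsConj g a} + 1 : ℕ) : ℂ) := by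
    rw [h1]; push_cast; ring
  exact_mod_cast h3

/-- `|G| c = χ(1)² (c + 1)` in `ℕ` -/
theorem gagola_card_nat (hG : 2 < Nat.card G) :
    Nat.card G * Nat.card {g : G // IsConj g a} =
      charDegree (χ : G → ℂ) ^ 2 * (Nat.card {g : G // IsConj g a} + 1) := by
  classical
  let _ := Fintype.ofFinite G
  have h := gagola_card χ a ha hsupp (ne_one_of_twoClass χ a ha hsupp hG)
  rw [irr_apply_one] at h
  exact_mod_cast h

/-- for `q ≠ p` the `q`-part of `|G|` divides `χ(1)`, when the nonvanishing set is a `p`-group -/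
theorem factorization_le_of_ne (hG : 2 < Nat.card G) (p : ℕ) [Fact p.Prime]
    (hNp : IsPGroup p (otherKer χ)) (ha0 : (χ : G → ℂ) a ≠ 0) (q : ℕ) [hq : Fact q.Prime] (hqp : q ≠ p) :
    (Nat.card G).factorization q ≤ (charDegree (χ : G → ℂ)).factorization q := by
  classical
  obtain ⟨Q⟩ : Nonempty (Sylow q G) := inferInstance
  let _ := Fintype.ofFinite (Q : Subgroup G)
  have hvan : ∀ z : (Q : Subgroup G), z ≠ 1 → (χ : G → ℂ) (z : G) = 0 := by
    intro z hz1
    by_contra h0
    have hzN : (z : G) ∈ otherKer χ := (apply_ne_zero_iff χ a ha hsupp hG ha0 _).mp h0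
    obtain ⟨k, hk⟩ := hNp ⟨z, hzN⟩
    obtain ⟨j, hj⟩ := Q.isPGroup' z
    have hk' : (z : G) ^ (p ^ k) = 1 := by
      have := congrArg Subtype.val hk
      simpa using this
    have hj' : (z : G) ^ (q ^ j) = 1 := by
      have := congrArg Subtype.val hj
      simpa using this
    have hcop : Nat.gcd (p ^ k) (q ^ j) = 1 := by
      apply Nat.Coprime.pow
      exact (Nat.coprime_primes (Fact.out) hq.out).mpr (Ne.symm hqp)
    have := pow_gcd_eq_one.mpr ⟨hk', hj'⟩
    rw [hcop, pow_one] at this
    exact hz1 (Subtype.ext this)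
  have hsum : ∑ z : (Q : Subgroup G), (χ : G → ℂ) (z : G) = (χ : G → ℂ) 1 := by
    rw [Finset.sum_eq_single (1 : (Q : Subgroup G))]
    · rfl
    · intro z _ hz; exact hvan z hz
    · intro h; exact absurd (Finset.mem_univ _) h
  obtain ⟨m, hm⟩ := irr_sum_subgroup χ (Q : Subgroup G)
  rw [hsum, irr_apply_one] at hm
  have hm' : charDegree (χ : G → ℂ) = Nat.card (Q : Subgroup G) * m := by exact_mod_cast hm
  have hd0 : charDegree (χ : G → ℂ) ≠ 0 := (irr_charDegree_pos χ).ne'
  rw [← Nat.Prime.pow_dvd_iff_le_factorization hq.out hd0, ← Q.card_eq_multiplicity, hm']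
  exact Dvd.intro _ rfl

/-- the centralizer of a nonidentity element of `N` has the order of a Sylow `p`-subgroup -/
theorem card_centralizer_of_mem (hG : 2 < Nat.card G) (p : ℕ) [Fact p.Prime]
    (hNp : IsPGroup p (otherKer χ)) (ha0 : (χ : G → ℂ) a ≠ 0) (x : G) (hx : x ∈ otherKer χ) (hx1 : x ≠ 1) :
    Nat.card (Subgroup.centralizer ({x} : Set G)) = p ^ (Nat.card G).factorization p := by
  classical
  have hxa : IsConj x a := by
    rcases (mem_otherKer_iff χ a ha hsupp hG x).mp hx with h | h
    · exact absurd h hx1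
    · exact h
  have hcard : Nat.card {g : G // IsConj g x} = Nat.card {g : G // IsConj g a} := by
    apply Nat.card_congr
    apply Equiv.subtypeEquivRight
    intro g
    exact ⟨fun h => h.trans hxa, fun h => h.trans hxa.symm⟩
  have h1 := card_conj_mul_card_centralizer x
  rw [hcard] at h1
  obtain ⟨k, hk⟩ := hNp.exists_card_eq
  have hk1 : 1 ≤ k := by
    by_contra h
    have hk0 : k = 0 := by omega
    rw [hk0, pow_zero] at hk
    have := (Subgroup.one_lt_card_iff_ne_bot _).mpr (otherKer_ne_bot χ a ha hsupp hG)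
    omega
  have hN := card_otherKer χ a ha hsupp hG
  exact arith_key p Fact.out (Nat.card G) (Nat.card {g : G // IsConj g a})
    (Nat.card (Subgroup.centralizer ({x} : Set G))) (charDegree (χ : G → ℂ)) k
    Nat.card_pos.ne' (irr_charDegree_pos χ).ne' h1 hk1 (by rw [← hN, hk])
    (gagola_card_nat χ a ha hsupp hG)
    (fun q hq hqp => by
      haveI : Fact q.Prime := ⟨hq⟩
      exact factorization_le_of_ne χ a ha hsupp hG p hNp ha0 q hqp)

end TwoClass

end Cfsg.Agent.Lib.Helper25
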