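/-
Characters vanishing off two conjugacy classes (Gagola characters), part 4: inertia groups of the nonprincipal
characters of `N` are Sylow `p`-subgroups (helper25).
-/
import Mathlib
import Cfsg.Prelude.Def_Blocks
import Cfsg.Prelude.Def_Transfer
import Cfsg.Agent.Lib.Helper25.Gagola3
import Cfsg.Agent.Lib.Helper6.Clifford

set_option autoImplicit false

namespace Cfsg.Agent.Lib.Helper25

open Cfsg Cfsg.Agent.CharLib Cfsg.Agent.Lib.Helper24 Cfsg.Agent.Lib.Helper6 Representation Module
open scoped ComplexConjugate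

universe u
variable {G : Type u} [Group G]

/-- the stabilizer of a function on a normal subgroup under conjugation, as a subgroup -/
def inertiaSub (H : Subgroup G) [hN : H.Normal] (μ : H → ℂ) : Subgroup G where
  carrier := {g | conjFun H g μ = μ}
  mul_mem' := by
    intro x y hx hy
    show conjFun H (x * y) μ = μ
    rw [conjFun_mul, show conjFun H x μ = μ from hx, show conjFun H y μ = μ from hy]
  one_mem' := conjFun_one H μ
  inv_mem' := by
    intro x hx
    show conjFun H x⁻¹ μ = μ
    have h1 : conjFun H x μ = μ := hx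
    conv_lhs => rw [← h1]
    exact conjFun_inv_conjFun H x μ

theorem mem_inertiaSub (H : Subgroup G) [hN : H.Normal] (μ : H → ℂ) (g : G) :
    g ∈ inertiaSub H μ ↔ conjFun H g μ = μ := Iff.rfl

theorem mem_inertiaSub_iff (H : Subgroup G) [hN : H.Normal] (μ : H → ℂ) (g : G) :
    g ∈ inertiaSub H μ ↔ ∀ n n' : H, (n' : G) = g * n * g⁻¹ → μ n' = μ n := by
  rw [mem_inertiaSub]
  constructor
  · intro h n n' hn
    have h1 := congrFun h n
    rw [conjFun_apply] at h1
    rw [← h1]
    congr 1
    exact Subtype.ext hn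
  · intro h
    funext n
    rw [conjFun_apply]
    exact h n ⟨g * n * g⁻¹, hN.conj_mem n n.2 g⟩ rfl

/-- the number of irreducible characters of a finite group in which all elements commute -/
theorem card_irr_of_comm {A : Type u} [Group A] [Finite A] (hA : ∀ x y : A, x * y = y * x) :
    Nat.card (IrrCharacter A) = Nat.card A := by
  rw [card_irrCharacter]
  symm
  apply Nat.card_congr
  refine Equiv.ofBijective ConjClasses.mk ⟨?_, ConjClasses.mk_surjective⟩
  intro x y hxy
  obtain ⟨c, hc⟩ := isConj_iff.mp (ConjClasses.mk_eq_mk_iff_isConj.mp hxy)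
  rw [← hc, hA c x, mul_assoc, mul_inv_cancel, mul_one]

section TwoClass

variable [Finite G] (χ : IrrCharacter G) (a : G) (ha : a ≠ 1)
  (hsupp : ∀ g, (χ : G → ℂ) g ≠ 0 → g = 1 ∨ IsConj g a)

include ha hsupp

theorem apply_rep_ne (hG : 2 < Nat.card G) : (χ : G → ℂ) 1 - (χ : G → ℂ) a ≠ 0 := by
  classical
  let _ := Fintype.ofFinite G
  intro h
  have h1 : (χ : G → ℂ) a = (χ : G → ℂ) 1 := (sub_eq_zero.mp h).symm
  have h2 := gagola_sum_zero χ a ha hsupp (ne_one_of_twoClass χ a ha hsupp hG)
  rw [h1] at h2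
  have h3 : (χ : G → ℂ) 1 * ((Nat.card {g : G // IsConj g a} : ℂ) + 1) = 0 := by
    linear_combination h2
  rcases mul_eq_zero.mp h3 with h | h
  · exact irr_apply_one_ne_zero χ h
  · exact Nat.cast_add_one_ne_zero _ h

/-- every nonprincipal irreducible character of `N` is a constituent of the restriction of `χ` -/
theorem classInner_res_ne_zero (hG : 2 < Nat.card G) [Fintype (otherKer χ)]
    (μ : IrrCharacter (otherKer χ)) (hμ : (μ : otherKer χ → ℂ) ≠ 1) :
    classInner (resFun (otherKer χ) (χ : G → ℂ)) (μ : otherKer χ → ℂ) ≠ 0 := by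
  classical
  have hsum0 : ∑ n : otherKer χ, (μ : otherKer χ → ℂ) n = 0 := by
    have h := classInner_irr μ.2 (isIrrCharacter_one (G := otherKer χ))
    rw [if_neg hμ] at h
    simp only [classInner, Pi.one_apply, map_one, mul_one] at h
    rcases mul_eq_zero.mp h with h | h
    · exact absurd (inv_eq_zero.mp h) card_ne_zero_complex
    · exact h
  have hval : ∀ n : otherKer χ, (χ : G → ℂ) n =
      (χ : G → ℂ) a + (if n = 1 then (χ : G → ℂ) 1 - (χ : G → ℂ) a else 0) := by
    intro n
    by_cases hn : n = 1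
    · subst hn; simp
    · rw [if_neg hn, add_zero]
      rcases (mem_otherKer_iff χ a ha hsupp hG n).mp n.2 with h | h
      · exact absurd (Subtype.ext h) hn
      · exact (irr_eq_of_isConj χ h).symm
  have hμ1 : conj ((μ : otherKer χ → ℂ) 1) = (μ : otherKer χ → ℂ) 1 :=
    IsCharacter.conj_apply_one (IsIrrCharacter.isCharacter μ.2)
  have hcalc : ∑ n : otherKer χ, resFun (otherKer χ) (χ : G → ℂ) n * conj ((μ : otherKer χ → ℂ) n) =
      ((χ : G → ℂ) 1 - (χ : G → ℂ) a) * (μ : otherKer χ → ℂ) 1 := by
    simp only [resFun_apply]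
    rw [Finset.sum_congr rfl (fun n _ => by rw [hval n, add_mul])]
    rw [Finset.sum_add_distrib, ← Finset.mul_sum, ← map_sum, hsum0, map_zero, mul_zero, zero_add]
    simp only [ite_mul, zero_mul]
    rw [Finset.sum_ite_eq' Finset.univ (1 : otherKer χ), if_pos (Finset.mem_univ _), hμ1]
  unfold classInner
  rw [hcalc]
  apply mul_ne_zero
  · exact inv_ne_zero card_ne_zero_complex
  · exact mul_ne_zero (apply_rep_ne χ a ha hsupp hG) (irr_apply_one_ne_zero μ)

/-- `conjFun` of the constant function one -/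
theorem conjFun_const_one (H : Subgroup G) [hN : H.Normal] (g : G) : conjFun H g (1 : H → ℂ) = 1 := rfl

/-- the conjugation orbit of a nonprincipal irreducible character of `N` has `|N| - 1` elements -/
theorem card_conjOrbit_nonprincipal [Fintype G] (hG : 2 < Nat.card G)
    (hcomm : ∀ x y : otherKer χ, x * y = y * x)
    (μ : IrrCharacter (otherKer χ)) (hμ : (μ : otherKer χ → ℂ) ≠ 1) :
    (conjOrbit (otherKer χ) (μ : otherKer χ → ℂ)).card + 1 = Nat.card (otherKer χ) := by
  classical
  let _ := Fintype.ofFinite (otherKer χ)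
  let _ := fintypeIrr (otherKer χ)
  let triv : IrrCharacter (otherKer χ) := ⟨1, isIrrCharacter_one⟩
  have hS : conjOrbit (otherKer χ) (μ : otherKer χ → ℂ) =
      ((Finset.univ : Finset (IrrCharacter (otherKer χ))).erase triv).map
        ⟨Subtype.val, Subtype.val_injective⟩ := by
    ext ψ
    rw [mem_conjOrbit, Finset.mem_map]
    constructor
    · rintro ⟨g, rfl⟩
      refine ⟨⟨conjFun (otherKer χ) g μ, isIrrCharacter_conjFun (otherKer χ) μ.2 g⟩, ?_, rfl⟩
      rw [Finset.mem_erase]
      refine ⟨?_, Finset.mem_univ _⟩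
      intro h
      have h1 : conjFun (otherKer χ) g (μ : otherKer χ → ℂ) = 1 := congrArg Subtype.val h
      apply hμ
      have h2 := conjFun_inv_conjFun (otherKer χ) g (μ : otherKer χ → ℂ)
      rw [h1] at h2
      rw [← h2]
      rfl
    · rintro ⟨ψ', hψ', rfl⟩
      rw [Finset.mem_erase] at hψ'
      have hne : (ψ' : otherKer χ → ℂ) ≠ 1 := by
        intro h
        exact hψ'.1 (Subtype.ext h)
      exact exists_conjFun_eq_of_constituent (otherKer χ) χ.2 μ.2 ψ'.2
        (classInner_res_ne_zero χ a ha hsupp hG μ hμ) (classInner_res_ne_zero χ a ha hsupp hG ψ' hne)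
  rw [hS, Finset.card_map, Finset.card_erase_of_mem (Finset.mem_univ _), Finset.card_univ,
    ← Nat.card_eq_fintype_card, card_irr_of_comm hcomm]
  have : 0 < Nat.card (otherKer χ) := Nat.card_pos
  omega

/-- the inertia group of a nonprincipal irreducible character of `N` has the order of a Sylow `p`-subgroup -/
theorem card_inertiaSub (hG : 2 < Nat.card G) (p : ℕ) [Fact p.Prime]
    (hNp : IsPGroup p (otherKer χ)) (ha0 : (χ : G → ℂ) a ≠ 0)
    (μ : IrrCharacter (otherKer χ)) (hμ : (μ : otherKer χ → ℂ) ≠ 1) :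
    Nat.card (inertiaSub (otherKer χ) (μ : otherKer χ → ℂ)) = p ^ (Nat.card G).factorization p := by
  classical
  let _ := Fintype.ofFinite G
  obtain ⟨p', hp', hcomm, -⟩ := otherKer_elemAb χ a ha hsupp hG
  have hcomm' : ∀ x y : otherKer χ, x * y = y * x := fun x y => hcomm.is_comm.comm x y
  have h1 := card_conjOrbit_mul (otherKer χ) (μ : otherKer χ → ℂ)
  have h2 := card_conjOrbit_nonprincipal χ a ha hsupp hG hcomm' μ hμ
  have hN := card_otherKer χ a ha hsupp hG
  have h3 : (conjOrbit (otherKer χ) (μ : otherKer χ → ℂ)).card = Nat.card {g : G // IsConj g a} := by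
    omega
  rw [h3] at h1
  obtain ⟨k, hk⟩ := hNp.exists_card_eq
  have hk1 : 1 ≤ k := by
    by_contra h
    have hk0 : k = 0 := by omega
    rw [hk0, pow_zero] at hk
    have := (Subgroup.one_lt_card_iff_ne_bot _).mpr (otherKer_ne_bot χ a ha hsupp hG)
    omega
  have hcard : Nat.card (inertiaSub (otherKer χ) (μ : otherKer χ → ℂ)) =
      Nat.card {g : G // conjFun (otherKer χ) g (μ : otherKer χ → ℂ) = μ} := rfl
  rw [hcard]
  exact arith_key p Fact.out (Nat.card G) (Nat.card {g : G // IsConj g a})
    _ (charDegree (χ : G → ℂ)) k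
    Nat.card_pos.ne' (irr_charDegree_pos χ).ne' h1 hk1 (by rw [← hN, hk])
    (gagola_card_nat χ a ha hsupp hG)
    (fun q hq hqp => by
      haveI : Fact q.Prime := ⟨hq⟩
      exact factorization_le_of_ne χ a ha hsupp hG p hNp ha0 q hqp)

end TwoClass

end Cfsg.Agent.Lib.Helper25
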