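/-
Characters vanishing off two conjugacy classes (Gagola characters), part 5: centralizers of elements outside `N`,
the centre of a Sylow `p`-subgroup, `N` as a term of the upper central series (helper25).
-/
import Mathlib
import Cfsg.Prelude.Def_Blocks
import Cfsg.Prelude.Def_Transfer
import Cfsg.Agent.Lib.Helper25.Gagola3
import Cfsg.Agent.Lib.Helper25.Inflate

set_option autoImplicit false

namespace Cfsg.Agent.Lib.Helper25

open Cfsg Cfsg.Agent.CharLib Cfsg.Agent.Lib.Helper24 Representation Module
open scoped ComplexConjugate commutatorElement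

universe u
variable {G : Type u} [Group G]

section TwoClass

variable [Finite G] (χ : IrrCharacter G) (a : G) (ha : a ≠ 1)
  (hsupp : ∀ g, (χ : G → ℂ) g ≠ 0 → g = 1 ∨ IsConj g a)

include ha hsupp

/-- for `x ∉ N` the centralizers of `x` in `G` and of its image in `G ⧸ N` have the same order -/
theorem card_centralizer_quotient (hG : 2 < Nat.card G) (x : G) (hx : x ∉ otherKer χ) :
    Nat.card (Subgroup.centralizer ({x} : Set G)) =
      Nat.card (Subgroup.centralizer ({(x : G ⧸ otherKer χ)} : Set (G ⧸ otherKer χ))) := by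
  classical
  let _ := Fintype.ofFinite G
  let _ := fintypeIrr G
  let _ := Fintype.ofFinite (G ⧸ otherKer χ)
  let _ := fintypeIrr (G ⧸ otherKer χ)
  have hχx : (χ : G → ℂ) x = 0 := by
    by_contra h
    exact hx ((mem_otherKer_iff χ a ha hsupp hG x).mpr (hsupp x h))
  have h1 := sum_irr_mul_conj x x
  have h2 := sum_irr_mul_conj (x : G ⧸ otherKer χ) (x : G ⧸ otherKer χ)
  have hci : ∀ {H : Type u} [Group H] (y : H), classIndicator y y = 1 := by
    intro H _ y
    unfold classIndicator
    rw [if_pos (IsConj.refl y)]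
  rw [hci, one_mul] at h1 h2
  have h3 : ∑ θ : IrrCharacter (G ⧸ otherKer χ),
      (θ : G ⧸ otherKer χ → ℂ) (x : G ⧸ otherKer χ) * conj ((θ : G ⧸ otherKer χ → ℂ) (x : G ⧸ otherKer χ)) =
      ∑ θ : IrrCharacter (G ⧸ otherKer χ),
        (fun ψ : IrrCharacter G => (ψ : G → ℂ) x * conj ((ψ : G → ℂ) x)) (inflateIrr (otherKer χ) θ) := rfl
  rw [h3, sum_irr_quotient (otherKer χ)
    (fun ψ : IrrCharacter G => (ψ : G → ℂ) x * conj ((ψ : G → ℂ) x))] at h2
  rw [Finset.sum_subset (Finset.filter_subset _ _) (by
    intro ψ _ hψ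
    rw [Finset.mem_filter, not_and] at hψ
    have hψ' := hψ (Finset.mem_univ _)
    have : ψ = χ := by
      by_contra hne
      apply hψ'
      intro n hn
      exact (mem_otherKer χ n).mp hn ψ hne
    rw [this, hχx, zero_mul]), h1] at h2
  exact_mod_cast h2

/-- a subgroup centralizing an element outside `N`: its order times `|N|` divides `|G|` -/
theorem card_mul_card_dvd (hG : 2 < Nat.card G) (z : G) (hz : z ∉ otherKer χ) (H : Subgroup G)
    (hH : H ≤ Subgroup.centralizer ({z} : Set G)) :
    Nat.card H * Nat.card (otherKer χ) ∣ Nat.card G := by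
  have h1 := Subgroup.card_dvd_of_le hH
  rw [card_centralizer_quotient χ a ha hsupp hG z hz] at h1
  have h2 := Subgroup.card_subgroup_dvd_card
    (Subgroup.centralizer ({(z : G ⧸ otherKer χ)} : Set (G ⧸ otherKer χ)))
  rw [Subgroup.card_eq_card_quotient_mul_card_subgroup (otherKer χ)]
  exact Nat.mul_dvd_mul (h1.trans h2) (dvd_refl _)

/-- a `p`-subgroup centralizing an element outside `N`: its order times `|N|` is at most `|P|` -/
theorem card_mul_card_le_sylow (hG : 2 < Nat.card G) (p : ℕ) [Fact p.Prime]
    (hNp : IsPGroup p (otherKer χ)) (P : Sylow p G) (z : G) (hz : z ∉ otherKer χ) (H : Subgroup G)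
    (hHp : IsPGroup p H) (hH : H ≤ Subgroup.centralizer ({z} : Set G)) :
    Nat.card H * Nat.card (otherKer χ) ≤ Nat.card (P : Subgroup G) := by
  have h1 := card_mul_card_dvd χ a ha hsupp hG z hz H hH
  obtain ⟨j, hj⟩ := hHp.exists_card_eq
  obtain ⟨k, hk⟩ := hNp.exists_card_eq
  rw [hj, hk, ← pow_add] at h1 ⊢
  rw [P.card_eq_multiplicity]
  have hp : p.Prime := Fact.out
  exact Nat.pow_le_pow_right hp.pos
    ((Nat.Prime.pow_dvd_iff_le_factorization hp Nat.card_pos.ne').mp h1)

theorem one_le_log_card_otherKer (hG : 2 < Nat.card G) (p : ℕ) [Fact p.Prime]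
    (hNp : IsPGroup p (otherKer χ)) : p ∣ Nat.card (otherKer χ) := by
  obtain ⟨k, hk⟩ := hNp.exists_card_eq
  have hk1 : 1 ≤ k := by
    by_contra h
    have hk0 : k = 0 := by omega
    rw [hk0, pow_zero] at hk
    have := (Subgroup.one_lt_card_iff_ne_bot _).mpr (otherKer_ne_bot χ a ha hsupp hG)
    omega
  rw [hk]
  exact dvd_pow_self p (by omega)

/-- the centre of a Sylow `p`-subgroup lies in `N` -/
theorem center_sylow_le (hG : 2 < Nat.card G) (p : ℕ) [Fact p.Prime]
    (hNp : IsPGroup p (otherKer χ)) (P : Sylow p G) :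
    (Subgroup.center (P : Subgroup G)).map (P : Subgroup G).subtype ≤ otherKer χ := by
  intro z hz
  obtain ⟨z', hz', rfl⟩ := Subgroup.mem_map.mp hz
  by_contra hzN
  have hPle : (P : Subgroup G) ≤ Subgroup.centralizer ({((P : Subgroup G).subtype z')} : Set G) := by
    intro y hy
    rw [Subgroup.mem_centralizer_iff]
    intro w hw
    rw [Set.mem_singleton_iff.mp hw]
    have := Subgroup.mem_center_iff.mp hz' ⟨y, hy⟩
    exact (congrArg Subtype.val this).symm
  have h1 := card_mul_card_le_sylow χ a ha hsupp hG p hNp P _ hzN (P : Subgroup G) P.isPGroup' hPle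
  have h2 := one_le_log_card_otherKer χ a ha hsupp hG p hNp
  have h3 : 2 ≤ Nat.card (otherKer χ) := by
    have hp : p.Prime := Fact.out
    exact le_trans hp.two_le (Nat.le_of_dvd Nat.card_pos h2)
  have h4 : 0 < Nat.card (P : Subgroup G) := Nat.card_pos
  nlinarith

/-- the centre of a Sylow `p`-subgroup equals `N` iff the Sylow subgroup is normal -/
theorem center_sylow_eq_iff (hG : 2 < Nat.card G) (hfaith : ∀ g : G, (χ : G → ℂ) g = (χ : G → ℂ) 1 → g = 1)
    (p : ℕ) [Fact p.Prime]
    (hNp : IsPGroup p (otherKer χ)) (ha0 : (χ : G → ℂ) a ≠ 0) (P : Sylow p G) :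
    (Subgroup.center (P : Subgroup G)).map (P : Subgroup G).subtype = otherKer χ ↔
      (P : Subgroup G).Normal := by
  have hNP : otherKer χ ≤ (P : Subgroup G) := hNp.le_sylow_of_normal P
  constructor
  · intro hZ
    -- `P` centralizes every element of `N`, so `P = C_G(x)` for `x ∈ N`, `x ≠ 1`
    have hcent : ∀ x ∈ otherKer χ, x ≠ 1 → (P : Subgroup G) = Subgroup.centralizer ({x} : Set G) := by
      intro x hx hx1
      apply Subgroup.eq_of_le_of_card_ge
      · intro y hy
        rw [Subgroup.mem_centralizer_iff]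
        intro w hw
        rw [Set.mem_singleton_iff.mp hw]
        rw [← hZ] at hx
        obtain ⟨x', hx', rfl⟩ := Subgroup.mem_map.mp hx
        have := Subgroup.mem_center_iff.mp hx' ⟨y, hy⟩
        exact (congrArg Subtype.val this).symm
      · rw [card_centralizer_of_mem χ a ha hsupp hG p hNp ha0 x hx hx1, P.card_eq_multiplicity]
    refine ⟨fun y hy g => ?_⟩
    have haN := rep_mem_otherKer χ a ha hsupp hG
    have hgN : g * a * g⁻¹ ∈ otherKer χ := (otherKer_normal χ).conj_mem a haN g
    have hg1 : g * a * g⁻¹ ≠ 1 := by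
      intro h
      apply ha
      have : a = g⁻¹ * (g * a * g⁻¹) * g := by group
      rw [this, h]; group
    rw [hcent _ hgN hg1, Subgroup.mem_centralizer_iff]
    intro w hw
    rw [Set.mem_singleton_iff.mp hw]
    have hya : a * y = y * a := by
      have h1 : y ∈ Subgroup.centralizer ({a} : Set G) := by rw [← hcent a haN ha]; exact hy
      exact Subgroup.mem_centralizer_iff.mp h1 a rfl
    calc g * a * g⁻¹ * (g * y * g⁻¹) = g * (a * y) * g⁻¹ := by group
      _ = g * (y * a) * g⁻¹ := by rw [hya]
      _ = g * y * g⁻¹ * (g * a * g⁻¹) := by group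
  · intro hPn
    apply le_antisymm (center_sylow_le χ a ha hsupp hG p hNp P)
    apply otherKer_le χ a ha hsupp hG hfaith
    · -- the centre of the normal subgroup `P` is normal
      refine ⟨fun z hz g => ?_⟩
      obtain ⟨z', hz', rfl⟩ := Subgroup.mem_map.mp hz
      have hmem : g * (z' : G) * g⁻¹ ∈ (P : Subgroup G) := hPn.conj_mem _ z'.2 g
      refine Subgroup.mem_map.mpr ⟨⟨_, hmem⟩, ?_, rfl⟩
      rw [Subgroup.mem_center_iff]
      intro y
      apply Subtype.ext
      show (y : G) * (g * (z' : G) * g⁻¹) = g * (z' : G) * g⁻¹ * (y : G)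
      have hy' : g⁻¹ * (y : G) * g ∈ (P : Subgroup G) := by
        have := hPn.conj_mem _ y.2 g⁻¹
        simpa using this
      have h1 := Subgroup.mem_center_iff.mp hz' ⟨_, hy'⟩
      have h2 : g⁻¹ * (y : G) * g * (z' : G) = (z' : G) * (g⁻¹ * (y : G) * g) := congrArg Subtype.val h1
      calc (y : G) * (g * (z' : G) * g⁻¹) = g * (g⁻¹ * (y : G) * g * (z' : G)) * g⁻¹ := by group
        _ = g * ((z' : G) * (g⁻¹ * (y : G) * g)) * g⁻¹ := by rw [h2]
        _ = g * (z' : G) * g⁻¹ * (y : G) := by group
    · -- the centre of the nontrivial `p`-group `P` is nontrivial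
      have hPne : (P : Subgroup G) ≠ ⊥ := by
        intro h
        apply otherKer_ne_bot χ a ha hsupp hG
        rw [eq_bot_iff, ← h]
        exact hNP
      haveI : Nontrivial (P : Subgroup G) := (Subgroup.nontrivial_iff_ne_bot _).mpr hPne
      haveI : Nontrivial (Subgroup.center (P : Subgroup G)) := IsPGroup.center_nontrivial P.isPGroup'
      obtain ⟨z, hz⟩ := exists_ne (1 : Subgroup.center (P : Subgroup G))
      intro hbot
      apply hz
      have hmem : ((z : (P : Subgroup G)) : G) ∈
          (Subgroup.center (P : Subgroup G)).map (P : Subgroup G).subtype :=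
        Subgroup.mem_map.mpr ⟨z, z.2, rfl⟩
      rw [hbot, Subgroup.mem_bot] at hmem
      exact Subtype.ext (Subtype.ext hmem)

/-- key step: if `Z_i(P) < N` then `Z_{i+1}(P) ≤ N` -/
theorem upperCentralSeries_succ_le (hG : 2 < Nat.card G) (p : ℕ) [Fact p.Prime]
    (hNp : IsPGroup p (otherKer χ)) (P : Sylow p G) (i : ℕ)
    (hle : Subgroup.upperCentralSeries (P : Subgroup G) i ≤ (otherKer χ).subgroupOf (P : Subgroup G))
    (hne : Subgroup.upperCentralSeries (P : Subgroup G) i ≠ (otherKer χ).subgroupOf (P : Subgroup G)) :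
    Subgroup.upperCentralSeries (P : Subgroup G) (i + 1) ≤ (otherKer χ).subgroupOf (P : Subgroup G) := by
  classical
  have hNP : otherKer χ ≤ (P : Subgroup G) := hNp.le_sylow_of_normal P
  intro z hz
  rw [Subgroup.mem_subgroupOf]
  by_contra hzN
  rw [Subgroup.mem_upperCentralSeries_succ_iff] at hz
  -- the class of `z` in `P` injects into `Z_i`
  have hcl : Nat.card {w : (P : Subgroup G) // IsConj w z} ≤
      Nat.card (Subgroup.upperCentralSeries (P : Subgroup G) i) := by
    apply Nat.card_le_card_of_injective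
      (fun w : {w : (P : Subgroup G) // IsConj w z} =>
        (⟨w.1 * z⁻¹, by
          obtain ⟨c, hc⟩ := isConj_iff.mp w.2
          have h1 := hz c⁻¹
          have h2 := inv_mem h1
          have hw : w.1 = c⁻¹ * z * c := by
            have h0 : c⁻¹ * (c * w.1 * c⁻¹) * c = c⁻¹ * z * c := by rw [hc]
            rw [← h0]; group
          have h3 : w.1 * z⁻¹ = (⁅z, c⁻¹⁆)⁻¹ := by
            rw [commutatorElement_def, hw]
            group
          rw [h3]
          exact h2⟩ : Subgroup.upperCentralSeries (P : Subgroup G) i))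
    intro w w' hww'
    apply Subtype.ext
    have := congrArg Subtype.val hww'
    exact mul_right_cancel this
  have hcc := card_conj_mul_card_centralizer z
  -- the centralizer of `z` in `P`, mapped to `G`
  have hH := card_mul_card_le_sylow χ a ha hsupp hG p hNp P (z : G) hzN
    ((Subgroup.centralizer ({z} : Set (P : Subgroup G))).map (P : Subgroup G).subtype)
    ((P.isPGroup'.to_subgroup _).map _)
    (by
      intro y hy
      obtain ⟨y', hy', rfl⟩ := Subgroup.mem_map.mp hy
      rw [Subgroup.mem_centralizer_iff]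
      intro w hw
      rw [Set.mem_singleton_iff.mp hw]
      have := Subgroup.mem_centralizer_iff.mp hy' z rfl
      exact congrArg Subtype.val this)
  rw [Subgroup.card_map_of_injective (Subgroup.subtype_injective _)] at hH
  -- strict inequality of orders
  have hlt : Nat.card (Subgroup.upperCentralSeries (P : Subgroup G) i) < Nat.card (otherKer χ) := by
    have h1 : Nat.card ((otherKer χ).subgroupOf (P : Subgroup G)) = Nat.card (otherKer χ) :=
      Nat.card_congr (Subgroup.subgroupOfEquivOfLe hNP).toEquiv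
    rw [← h1]
    by_contra hge
    push Not at hge
    exact hne (Subgroup.eq_of_le_of_card_ge hle hge)
  have hpos : 0 < Nat.card (Subgroup.centralizer ({z} : Set (P : Subgroup G))) := Nat.card_pos
  nlinarith

/-- `N` (inside a Sylow `p`-subgroup `P`) is a term of the upper central series of `P` -/
theorem exists_upperCentralSeries_eq (hG : 2 < Nat.card G) (p : ℕ) [Fact p.Prime]
    (hNp : IsPGroup p (otherKer χ)) (P : Sylow p G) :
    ∃ i : ℕ, Subgroup.upperCentralSeries (P : Subgroup G) i = (otherKer χ).subgroupOf (P : Subgroup G) := by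
  by_contra hno
  push Not at hno
  have hall : ∀ i : ℕ, Subgroup.upperCentralSeries (P : Subgroup G) i ≤
      (otherKer χ).subgroupOf (P : Subgroup G) := by
    intro i
    induction i with
    | zero => rw [Subgroup.upperCentralSeries_zero]; exact bot_le
    | succ i ih => exact upperCentralSeries_succ_le χ a ha hsupp hG p hNp P i ih (hno i)
  haveI : Group.IsNilpotent (P : Subgroup G) := P.isPGroup'.isNilpotent
  obtain ⟨c, hc⟩ := Group.IsNilpotent.nilpotent (P : Subgroup G)
  apply hno c
  apply le_antisymm (hall c)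
  rw [hc]
  exact le_top

end TwoClass

end Cfsg.Agent.Lib.Helper25
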