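/-
helper25: linear characters acting on an irreducible character induced from an inertia group
(Clifford correspondence + Gallagher), and counting homomorphisms trivial on a subgroup.
-/
import Mathlib
import Cfsg.Agent.Lib.Helper6.CliffordCorr
import Cfsg.Agent.Lib.Helper6.Gallagher2
import Cfsg.Agent.Lib.Helper6.AbelianQuot
import Cfsg.Agent.Lib.Helper6.LinChar

set_option autoImplicit false

namespace Cfsg.Agent.Lib.Helper25

open Cfsg Cfsg.Agent.CharLib Cfsg.Agent.Lib.Helper6
open scoped ComplexConjugate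

universe u

/-- The number of homomorphisms `G →* ℂˣ` trivial on `I` is at most the index of `I`. -/
theorem card_hom_trivial_on_le {G : Type u} [Group G] [Finite G] (I : Subgroup G) :
    Nat.card {ρ : G →* ℂˣ // ∀ i ∈ I, ρ i = 1} ≤ I.index := by
  classical
  set M := Subgroup.normalClosure (I : Set G) with hM
  have hIM : I ≤ M := Subgroup.le_normalClosure
  have hle : ∀ ρ : {ρ : G →* ℂˣ // ∀ i ∈ I, ρ i = 1}, M ≤ ρ.1.ker := by
    intro ρ
    apply Subgroup.normalClosure_le_normal
    intro i hi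
    exact MonoidHom.mem_ker.mpr (ρ.2 i hi)
  let f : {ρ : G →* ℂˣ // ∀ i ∈ I, ρ i = 1} → (G ⧸ M →* ℂˣ) :=
    fun ρ => QuotientGroup.lift M ρ.1 (hle ρ)
  have hf : Function.Injective f := by
    intro ρ σ h
    apply Subtype.ext
    ext g
    have := DFunLike.congr_fun h (g : G ⧸ M)
    simpa [f] using congrArg (fun x : ℂˣ => (x : ℂ)) this
  have h2 : Nat.card (G ⧸ M →* ℂˣ) = (commutator (G ⧸ M)).index := card_hom_units
  have hfin : Finite (G ⧸ M →* ℂˣ) := by
    apply Nat.finite_of_card_ne_zero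
    rw [h2]
    exact Subgroup.FiniteIndex.index_ne_zero
  have h1 : Nat.card {ρ : G →* ℂˣ // ∀ i ∈ I, ρ i = 1} ≤ Nat.card (G ⧸ M →* ℂˣ) :=
    Nat.card_le_card_of_injective f hf
  have h3 : (commutator (G ⧸ M)).index ≤ Nat.card (G ⧸ M) :=
    Nat.le_of_dvd Nat.card_pos (Subgroup.index_dvd_card _)
  have h4 : Nat.card (G ⧸ M) = M.index := (Subgroup.index_eq_card M).symm
  have h5 : M.index ≤ I.index :=
    Nat.le_of_dvd (Nat.pos_of_ne_zero Subgroup.FiniteIndex.index_ne_zero)
      (Subgroup.index_dvd_of_le hIM)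
  omega

section gal
variable {G : Type u} [Group G] [Fintype G]

/-- the complex-valued function of a homomorphism to the units. -/
def homFun (ρ : G →* ℂˣ) : G → ℂ := fun g => ((ρ g : ℂˣ) : ℂ)

theorem homFun_apply (ρ : G →* ℂˣ) (g : G) : homFun ρ g = ((ρ g : ℂˣ) : ℂ) := rfl

theorem homFun_one_apply (ρ : G →* ℂˣ) : homFun ρ 1 = 1 := by simp [homFun]

theorem homFun_mul (ρ σ : G →* ℂˣ) : homFun (ρ * σ) = homFun ρ * homFun σ := by
  funext g; simp [homFun]

theorem homFun_inv_mul (ρ : G →* ℂˣ) : homFun ρ⁻¹ * homFun ρ = 1 := by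
  funext g; simp [homFun]

/-- If a linear character `ρ` fixes (by multiplication) the irreducible character induced from an
extension `ψ` of `φ` to its inertia group `I`, then `ρ` is trivial on `I`. -/
theorem hom_trivial_on_inertia (N I : Subgroup G) [hN : N.Normal] (hNI : N ≤ I)
    {φ : N → ℂ} (hφ : IsIrrCharacter N φ) (hI : ∀ g : G, g ∈ I ↔ conjFun N g φ = φ)
    {ψ : I → ℂ} (hψ : IsIrrCharacter I ψ) (hext : resLE hNI ψ = φ)
    (ρ : G →* ℂˣ) (hρN : ∀ n ∈ N, ρ n = 1)
    (h : homFun ρ * indFun I ψ = indFun I ψ) : ∀ i ∈ I, ρ i = 1 := by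
  classical
  have hρc : IsCharacter G (homFun ρ) := isCharacter_of_hom ρ
  have hρcf : IsClassFunction G (homFun ρ) := IsCharacter.isClassFunction hρc
  set β : I → ℂ := resFun I (homFun ρ) with hβ
  have hβeq : β = homFun (ρ.comp I.subtype) := rfl
  have hβirr : IsIrrCharacter I β := by rw [hβeq]; exact isIrrCharacter_of_hom _
  have hβc : IsCharacter I β := IsIrrCharacter.isCharacter hβirr
  have hβ1 : β 1 = 1 := by rw [hβeq]; exact homFun_one_apply _
  have hψ' : IsIrrCharacter I (β * ψ) := isIrrCharacter_linear_mul hβc hβ1 hψ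
  have hind : indFun I (β * ψ) = indFun I ψ := by
    rw [mul_comm β ψ, hβ, indFun_mul_resFun I ψ hρcf, mul_comm]
    exact h
  have hf : classInner (resLE hNI ψ) φ ≠ 0 := by
    rw [hext, classInner_irr hφ hφ, if_pos rfl]; exact one_ne_zero
  have hres' : resLE hNI (β * ψ) = φ := by
    funext n
    rw [resLE_apply, Pi.mul_apply]
    have h1 : β ⟨n, hNI n.2⟩ = 1 := by
      show ((ρ (n : G) : ℂˣ) : ℂ) = 1
      rw [hρN n n.2]; rfl
    rw [h1, one_mul, ← resLE_apply hNI ψ n, hext]
  have hf' : classInner (resLE hNI (β * ψ)) φ ≠ 0 := by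
    rw [hres', classInner_irr hφ hφ, if_pos rfl]; exact one_ne_zero
  have heq : β * ψ = ψ := indFun_inertia_injective hNI hφ hI hψ' hψ hf' hf hind
  -- Gallagher on I with normal subgroup N.subgroupOf I
  haveI : (N.subgroupOf I).Normal := Subgroup.Normal.subgroupOf hN I
  have hψN : IsIrrCharacter (N.subgroupOf I) (resFun (N.subgroupOf I) ψ) := by
    rw [resFun_subgroupOf hNI ψ, hext]
    exact isIrrCharacter_comp_mulEquiv' _ hφ
  have hbij := gallagher_bijOn (N.subgroupOf I) hψ hψN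
  have hmem : ∀ γ : I → ℂ, IsIrrCharacter I γ → (∀ n : N.subgroupOf I, γ n = 1) →
      γ ∈ {β : I → ℂ | IsIrrCharacter I β ∧
        classInner (indFun (N.subgroupOf I) (1 : N.subgroupOf I → ℂ)) β ≠ 0} := by
    intro γ hγ hγ1
    refine ⟨hγ, ?_⟩
    rw [classInner_indFun_one (N.subgroupOf I)
      (IsCharacter.isClassFunction (IsIrrCharacter.isCharacter hγ))]
    rw [Finset.sum_congr rfl (fun n _ => hγ1 n), Finset.sum_const, Finset.card_univ,
      nsmul_eq_mul, mul_one, map_natCast, ← Nat.card_eq_fintype_card]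
    have h0 : (Nat.card (N.subgroupOf I) : ℂ) ≠ 0 := Nat.cast_ne_zero.mpr Nat.card_pos.ne'
    rw [inv_mul_cancel₀ h0]
    exact one_ne_zero
  have hβmem := hmem β hβirr (by
    intro n
    show ((ρ ((n : I) : G) : ℂˣ) : ℂ) = 1
    have hn : ((n : I) : G) ∈ N := n.2
    rw [hρN _ hn]; rfl)
  have h1mem := hmem 1 (isIrrCharacter_one I) (fun n => rfl)
  have hβone : β = 1 := hbij.injOn hβmem h1mem (by
    show β * ψ = 1 * ψ
    rw [heq, one_mul])
  intro i hi
  have := congrFun hβone ⟨i, hi⟩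
  apply Units.ext
  exact this

end gal

end Cfsg.Agent.Lib.Helper25
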