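import Cfsg.Agent.Lib.Helper25.InvTrans2
import Cfsg.Agent.Lib.Helper18.PSLnFldD
import Cfsg.Agent.Lib.Helper15.AltIso

set_option autoImplicit false

/-!
# Involutory graph automorphisms of `PSL_n`: the automorphisms `x ↦ M⁻¹ x^{-T} M`
-/

namespace Cfsg.Agent.Lib.Helper25.GraphInv

open Matrix Cfsg Cfsg.Agent.Lib.Helper18.PSLnAut Cfsg.Agent.Lib.Helper18.PSLnFld
  Cfsg.Agent.Lib.Helper25.InvTrans

section tau

variable {n : ℕ} {F : Type*} [Field F]

/-- The graph automorphism `x ↦ M⁻¹ x^{-T} M`. -/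
noncomputable def tauG (M : GL (Fin n) F) : MulAut (ProjectiveSpecialLinearGroup (Fin n) F) :=
  conjAHom M⁻¹ * itA

theorem gti_inv (g : GL (Fin n) F) : gti g⁻¹ = (gti g)⁻¹ := map_inv gtiHom g

theorem gti_mul (g h : GL (Fin n) F) : gti (g * h) = gti g * gti h := map_mul gtiHom g h

theorem conj_tauG (h M : GL (Fin n) F) :
    conjAHom h * tauG M * (conjAHom h)⁻¹ = tauG (gti h * M * h⁻¹) := by
  unfold tauG
  have e1 : (conjAHom h)⁻¹ = conjAHom (n := n) (F := F) h⁻¹ := (map_inv conjAHom h).symm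
  have e2 : (itA : MulAut (ProjectiveSpecialLinearGroup (Fin n) F)) * conjAHom h⁻¹ =
      conjAHom (gti h)⁻¹ * itA := by rw [it_mul_conj, gti_inv]
  calc conjAHom h * (conjAHom M⁻¹ * itA) * (conjAHom h)⁻¹
      = conjAHom h * conjAHom M⁻¹ * (itA * conjAHom h⁻¹) := by rw [e1]; group
    _ = conjAHom h * conjAHom M⁻¹ * conjAHom (gti h)⁻¹ * itA := by rw [e2]; group
    _ = conjAHom (gti h * M * h⁻¹)⁻¹ * itA := by
      rw [← map_mul, ← map_mul]
      congr 2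
      group

theorem tauG_mul_self (M : GL (Fin n) F) : tauG M * tauG M = conjAHom (M⁻¹ * gti M⁻¹) := by
  unfold tauG
  calc conjAHom M⁻¹ * itA * (conjAHom M⁻¹ * itA)
      = conjAHom M⁻¹ * (itA * conjAHom M⁻¹) * itA := by group
    _ = conjAHom M⁻¹ * (conjAHom (gti M⁻¹) * itA) * itA := by rw [it_mul_conj]
    _ = conjAHom M⁻¹ * conjAHom (gti M⁻¹) * (itA * itA) := by group
    _ = conjAHom (M⁻¹ * gti M⁻¹) := by rw [it_mul_it, mul_one, map_mul]

theorem mem_scalars_iff' (g : GL (Fin n) F) :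
    g ∈ Geo.scalars (Fin n) F ↔ ∃ c : Fˣ, g = scalarGL c := by
  constructor
  · rintro ⟨c, rfl⟩
    exact ⟨c, rfl⟩
  · rintro ⟨c, rfl⟩
    exact ⟨c, rfl⟩

theorem conjAHom_eq_one_iff (hn : 2 ≤ n) (g : GL (Fin n) F) :
    conjAHom g = 1 ↔ ∃ c : Fˣ, g = scalarGL c := by
  have h : conjAHom g = 1 ↔ g ∈ (conjAHom (n := n) (F := F)).ker := Iff.rfl
  rw [h, ker_conjAHom hn, center_eq_scalars (by omega), mem_scalars_iff']

theorem tauG_eq_iff (hn : 2 ≤ n) (M M' : GL (Fin n) F) :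
    tauG M = tauG M' ↔ ∃ c : Fˣ, M' = M * scalarGL c := by
  unfold tauG
  rw [mul_left_inj, map_inv, map_inv, _root_.inv_inj]
  have h : conjAHom M = conjAHom M' ↔ conjAHom (M⁻¹ * M') = 1 := by
    rw [map_mul, map_inv, inv_mul_eq_one]
  rw [h, conjAHom_eq_one_iff hn]
  constructor
  · rintro ⟨c, hc⟩
    exact ⟨c, by rw [← hc]; group⟩
  · rintro ⟨c, hc⟩
    exact ⟨c, by rw [hc]; group⟩

theorem tauG_ne_one (hn : 3 ≤ n) (M : GL (Fin n) F) : tauG M ≠ 1 := by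
  intro h
  unfold tauG at h
  have h1 : (itA : MulAut (ProjectiveSpecialLinearGroup (Fin n) F)) = conjAHom M := by
    rw [map_inv, inv_mul_eq_one] at h
    exact h.symm
  have h2 : fgHom (n := n) (F := F) ((1 : RingAut F), Multiplicative.ofAdd (1 : ZMod 2)) =
      itA := by
    rw [fgHom_apply, map_one, one_mul]
    rcases itHom_one_or (n := n) (F := F) (Multiplicative.ofAdd (1 : ZMod 2)) with ⟨h3, -⟩ | ⟨-, h3⟩
    · exact absurd h3 (by decide)
    · exact h3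
  have h3 := eq_one_of_fgHom_mem hn ((1 : RingAut F), Multiplicative.ofAdd (1 : ZMod 2))
    ⟨M, by rw [h2, h1]⟩
  have h4 : (Multiplicative.ofAdd (1 : ZMod 2)) = 1 := congrArg Prod.snd h3
  exact absurd h4 (by decide)

theorem exists_tauG_of_graph (γ : MulAut (ProjectiveSpecialLinearGroup (Fin n) F))
    (hγ : Cfsg.IsGraphAutClassPSL γ) : ∃ M : GL (Fin n) F, γ = tauG M := by
  obtain ⟨-, δ, ι, hδ, hι, rfl⟩ := hγ
  obtain ⟨g, rfl⟩ := (isInnerDiagonal_iff δ).1 hδ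
  obtain rfl := (isInverseTranspose_iff ι).1 hι
  exact ⟨g⁻¹, by unfold tauG; rw [inv_inv]⟩

theorem isGraph_tauG (hn : 3 ≤ n) (M : GL (Fin n) F) : Cfsg.IsGraphAutClassPSL (tauG M) :=
  ⟨hn, conjAHom M⁻¹, itA, (isInnerDiagonal_iff _).2 ⟨_, rfl⟩, (isInverseTranspose_iff _).2 rfl,
    rfl⟩

theorem coe_inv_mul_gti_inv (M : GL (Fin n) F) :
    ((M⁻¹ * gti M⁻¹ : GL (Fin n) F) : Matrix (Fin n) (Fin n) F) =
      ((M⁻¹ : GL (Fin n) F) : Matrix (Fin n) (Fin n) F) * (M.1)ᵀ := by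
  rw [Units.val_mul, gti_coe, inv_inv]

/-- An involutory graph automorphism comes from a symmetric or skew-symmetric matrix. -/
theorem transpose_eq_of_mul_self (hn : 2 ≤ n) (M : GL (Fin n) F) (h : tauG M * tauG M = 1) :
    (M.1)ᵀ = M.1 ∨ (M.1)ᵀ = -M.1 := by
  rw [tauG_mul_self, conjAHom_eq_one_iff hn] at h
  obtain ⟨c, hc⟩ := h
  have h1 : ((M⁻¹ * gti M⁻¹ : GL (Fin n) F) : Matrix (Fin n) (Fin n) F) =
      ((scalarGL c : GL (Fin n) F) : Matrix (Fin n) (Fin n) F) := by rw [hc]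
  rw [coe_inv_mul_gti_inv, scalarGL_coe] at h1
  have h2 : (M.1)ᵀ = (c : F) • M.1 := by
    have h3 : M.1 * (((M⁻¹ : GL (Fin n) F) : Matrix (Fin n) (Fin n) F) * (M.1)ᵀ) =
        M.1 * ((c : F) • (1 : Matrix (Fin n) (Fin n) F)) := by rw [h1]
    rw [← Matrix.mul_assoc, gl_mul_inv, Matrix.one_mul, Matrix.mul_smul, Matrix.mul_one] at h3
    exact h3
  have h3 : M.1 = ((c : F) * (c : F)) • M.1 := by
    have h4 := congrArg Matrix.transpose h2
    rw [Matrix.transpose_transpose, Matrix.transpose_smul, h2, smul_smul] at h4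
    exact h4
  have h4 : (c : F) * (c : F) = 1 := by
    have h5 : M.1 * ((M⁻¹ : GL (Fin n) F) : Matrix (Fin n) (Fin n) F) =
        (((c : F) * (c : F)) • M.1) * ((M⁻¹ : GL (Fin n) F) : Matrix (Fin n) (Fin n) F) := by
      rw [← h3]
    rw [Matrix.smul_mul, gl_mul_inv] at h5
    have h6 := congrFun (congrFun h5 ⟨0, by omega⟩) ⟨0, by omega⟩
    rw [Matrix.smul_apply, Matrix.one_apply_eq, smul_eq_mul, mul_one] at h6
    exact h6.symm
  rcases mul_self_eq_one_iff.1 h4 with h5 | h5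
  · left
    rw [h2, h5, one_smul]
  · right
    rw [h2, h5, neg_smul, one_smul]

theorem tauG_mul_self_of_transpose (hn : 2 ≤ n) (M : GL (Fin n) F)
    (h : (M.1)ᵀ = M.1 ∨ (M.1)ᵀ = -M.1) : tauG M * tauG M = 1 := by
  rw [tauG_mul_self, conjAHom_eq_one_iff hn]
  rcases h with h | h
  · refine ⟨1, Units.ext ?_⟩
    rw [coe_inv_mul_gti_inv, h, gl_inv_mul, scalarGL_coe, Units.val_one, one_smul]
  · refine ⟨-1, Units.ext ?_⟩
    rw [coe_inv_mul_gti_inv, h, Matrix.mul_neg, gl_inv_mul, scalarGL_coe, Units.val_neg,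
      Units.val_one, neg_smul, one_smul]

theorem orderOf_tauG (hn : 3 ≤ n) (M : GL (Fin n) F)
    (h : (M.1)ᵀ = M.1 ∨ (M.1)ᵀ = -M.1) : orderOf (tauG M) = 2 := by
  haveI : Fact (Nat.Prime 2) := ⟨Nat.prime_two⟩
  refine orderOf_eq_prime ?_ (tauG_ne_one hn M)
  rw [pow_two]
  exact tauG_mul_self_of_transpose (by omega) M h

theorem transpose_eq_of_orderOf (hn : 2 ≤ n) (M : GL (Fin n) F) (h : orderOf (tauG M) = 2) :
    (M.1)ᵀ = M.1 ∨ (M.1)ᵀ = -M.1 := by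
  apply transpose_eq_of_mul_self hn
  have h3 := pow_orderOf_eq_one (tauG M)
  rw [h, pow_two] at h3
  exact h3

end tau

end Cfsg.Agent.Lib.Helper25.GraphInv
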