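import Cfsg.Agent.Lib.Helper25.GraphInv9

set_option autoImplicit false

/-!
# Characteristic two, even dimension: isometry groups of the canonical forms
-/

namespace Cfsg.Agent.Lib.Helper25.GraphInv

open Module Matrix Cfsg Cfsg.Agent.Lib.Helper15.SymIso Cfsg.Agent.Lib.Helper5
  Cfsg.Agent.Lib.Helper14.SpPerfect

section spgl

variable {F : Type*} [Field F] {m : ℕ}

/-- The inclusion of the symplectic group into the general linear group. -/
def spGL (m : ℕ) (F : Type*) [Field F] :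
    Matrix.symplecticGroup (Fin m) F →* GL (Fin m ⊕ Fin m) F where
  toFun s := ⟨s.1, (s⁻¹).1, sp_val_mul_inv s, sp_val_inv_mul s⟩
  map_one' := Units.ext rfl
  map_mul' _ _ := Units.ext rfl

theorem spGL_coe (s : Matrix.symplecticGroup (Fin m) F) : (spGL m F s).1 = s.1 := rfl

theorem spGL_injective : Function.Injective (spGL m F) := by
  intro a b hab
  apply Subtype.ext
  rw [← spGL_coe, ← spGL_coe, hab]

theorem range_spGL : (spGL m F).range = isoB (Matrix.J (Fin m) F) := by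
  ext g
  constructor
  · rintro ⟨s, rfl⟩
    rw [mem_isoB, spGL_coe]
    exact SymplecticGroup.mem_iff'.1 s.2
  · intro hg
    rw [mem_isoB] at hg
    exact ⟨⟨g.1, SymplecticGroup.mem_iff'.2 hg⟩, Units.ext rfl⟩

/-- The isometry group of `J` is the symplectic group. -/
theorem nonempty_isoB_J_equiv :
    Nonempty (↥(isoB (Matrix.J (Fin m) F)) ≃* ↥(Matrix.symplecticGroup (Fin m) F)) :=
  ⟨((MonoidHom.ofInjective spGL_injective).trans (MulEquiv.subgroupCongr range_spGL)).symm⟩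

theorem J_ne_zero (hm : 0 < m) : Matrix.J (Fin m) F ≠ 0 := by
  intro h
  have h1 := congrFun (congrFun h (Sum.inr ⟨0, hm⟩)) (Sum.inl ⟨0, hm⟩)
  rw [Matrix.J, Matrix.fromBlocks_apply₂₁, Matrix.one_apply_eq, Matrix.zero_apply] at h1
  exact one_ne_zero h1

theorem sympForm_right_nondeg (w : Fin m ⊕ Fin m → F)
    (h : ∀ u, Cfsg.sympForm m F u w = 0) : w = 0 := by
  by_contra hw
  obtain ⟨u, hu⟩ := sympForm_nondeg w hw
  apply hu
  rw [sympForm_swap, h, neg_zero]

theorem exists_sympForm_eq_one (a : Fin m ⊕ Fin m → F) (ha : a ≠ 0) :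
    ∃ x, Cfsg.sympForm m F x a = 1 := by
  obtain ⟨u, hu⟩ := sympForm_nondeg a ha
  have hu' : Cfsg.sympForm m F u a ≠ 0 := by
    rw [sympForm_swap]
    exact neg_ne_zero.2 hu
  exact ⟨(Cfsg.sympForm m F u a)⁻¹ • u, by rw [sympForm_smul_left, inv_mul_cancel₀ hu']⟩

variable [Finite F] [CharP F 2]

/-- In characteristic two the centraliser of the transvection `T_a(1)` is the stabiliser of `a`. -/
theorem mem_centralizer_Tr_iff (a : Fin m ⊕ Fin m → F) (ha : a ≠ 0)
    (s : Matrix.symplecticGroup (Fin m) F) :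
    s ∈ Subgroup.centralizer {Tr a (1 : F)} ↔ s.1 *ᵥ a = a := by
  have key : s ∈ Subgroup.centralizer {Tr a (1 : F)} ↔ Tr (s.1 *ᵥ a) (1 : F) = Tr a 1 := by
    rw [← conj_Tr, Subgroup.mem_centralizer_iff]
    constructor
    · intro h
      rw [← h _ (Set.mem_singleton _), mul_inv_cancel_right]
    · intro h y hy
      rw [Set.mem_singleton_iff] at hy
      subst hy
      nth_rewrite 1 [← h]
      group
  rw [key]
  constructor
  · intro h
    obtain ⟨x, hx⟩ := exists_sympForm_eq_one a ha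
    have hall : ∀ y, Cfsg.sympForm m F y (s.1 *ᵥ a) • (s.1 *ᵥ a) = Cfsg.sympForm m F y a • a := by
      intro y
      have h1 : (Tr (s.1 *ᵥ a) (1 : F)).1 *ᵥ y = (Tr a (1 : F)).1 *ᵥ y := by rw [h]
      rw [Tr_mulVec, Tr_mulVec, one_mul, one_mul] at h1
      exact add_left_cancel h1
    have h1 := hall x
    rw [hx, one_smul] at h1
    obtain ⟨μ, hμ⟩ : ∃ μ : F, μ = Cfsg.sympForm m F x (s.1 *ᵥ a) := ⟨_, rfl⟩
    rw [← hμ] at h1
    have hμ0 : μ ≠ 0 := by
      rintro rfl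
      rw [zero_smul] at h1
      exact ha h1.symm
    have hsa : s.1 *ᵥ a = μ⁻¹ • a := by
      nth_rewrite 2 [← h1]
      rw [smul_smul, inv_mul_cancel₀ hμ0, one_smul]
    have h2 := hμ
    rw [hsa, sympForm_smul_right, hx, mul_one] at h2
    have h3 : μ = 1 := by
      apply sq_inj
      rw [one_mul]
      nth_rewrite 1 [h2]
      exact inv_mul_cancel₀ hμ0
    rw [hsa, h3, inv_one, one_smul]
  · intro h
    rw [h]

/-- `T_a(1)` preserves `a`-adapted form: an element of `Sp` fixing `a` is an isometry of `N0 a`. -/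
theorem spGL_mem_isoB_N0 (a : Fin m ⊕ Fin m → F) (s : Matrix.symplecticGroup (Fin m) F)
    (hs : s.1 *ᵥ a = a) : spGL m F s ∈ isoB (N0 a) := by
  rw [mem_isoB, spGL_coe]
  apply bil_ext
  intro u v
  rw [← dot_congr]
  show bilM (N0 a) (s.1 *ᵥ u) (s.1 *ᵥ v) = bilM (N0 a) u v
  rw [bilM_N0, bilM_N0, sympForm_mulVec_of_mem s.2]
  nth_rewrite 1 [← hs]
  nth_rewrite 2 [← hs]
  rw [sympForm_mulVec_of_mem s.2, sympForm_mulVec_of_mem s.2]

/-- An isometry of `N0 a` is a symplectic matrix fixing `a`. -/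
theorem exists_spGL_eq_of_mem_isoB_N0 (a : Fin m ⊕ Fin m → F)
    (g : GL (Fin m ⊕ Fin m) F) (hg : g ∈ isoB (N0 a)) :
    ∃ s : Matrix.symplecticGroup (Fin m) F, s.1 *ᵥ a = a ∧ spGL m F s = g := by
  rw [mem_isoB] at hg
  have hpres : ∀ u v, bilM (N0 a) (g.1 *ᵥ u) (g.1 *ᵥ v) = bilM (N0 a) u v := by
    intro u v
    unfold bilM
    rw [dot_congr, hg]
  have hl : ∀ u, Cfsg.sympForm m F (g.1 *ᵥ u) a = Cfsg.sympForm m F u a := by
    intro u
    apply sq_inj
    have h1 := hpres u u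
    rw [bilM_N0, bilM_N0, sympForm_self, sympForm_self, zero_add, zero_add] at h1
    exact h1
  have hsp : ∀ u v, Cfsg.sympForm m F (g.1 *ᵥ u) (g.1 *ᵥ v) = Cfsg.sympForm m F u v := by
    intro u v
    have h1 := hpres u v
    rw [bilM_N0, bilM_N0, hl, hl] at h1
    exact add_right_cancel h1
  have hmem := Cfsg.Agent.Lib.Helper15.mem_symplectic_of_preserves g.1 hsp
  refine ⟨⟨g.1, hmem⟩, ?_, Units.ext rfl⟩
  show g.1 *ᵥ a = a
  have h1 : a - g.1 *ᵥ a = 0 := by
    apply sympForm_right_nondeg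
    intro u
    have h2 : u = g.1 *ᵥ (((g⁻¹ : GL (Fin m ⊕ Fin m) F) : Matrix _ _ F) *ᵥ u) := by
      rw [Matrix.mulVec_mulVec, gl_mul_inv', Matrix.one_mulVec]
    rw [h2, sub_eq_add_neg, sympForm_add_right, hl, ← Matrix.mulVec_neg, hsp, ← sympForm_add_right,
      add_neg_cancel]
    unfold Cfsg.sympForm
    rw [Matrix.mulVec_zero, dotProduct_zero]
  exact (sub_eq_zero.1 h1).symm

/-- The isometry group of `N0 a` is the centraliser of a transvection in the symplectic group. -/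
theorem nonempty_isoB_N0_equiv (a : Fin m ⊕ Fin m → F) (ha : a ≠ 0) :
    Nonempty (↥(isoB (N0 a)) ≃*
      ↥(Subgroup.centralizer ({Tr a (1 : F)} : Set ↥(Matrix.symplecticGroup (Fin m) F)))) := by
  obtain ⟨Ψ, hΨ⟩ : ∃ Ψ : ↥(Subgroup.centralizer
      ({Tr a (1 : F)} : Set ↥(Matrix.symplecticGroup (Fin m) F))) →* GL (Fin m ⊕ Fin m) F,
      ∀ s, Ψ s = spGL m F s.1 := ⟨(spGL m F).comp (Subgroup.subtype _), fun s => rfl⟩
  have hinj : Function.Injective Ψ := by
    intro x y hxy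
    rw [hΨ, hΨ] at hxy
    exact Subtype.ext (spGL_injective hxy)
  have hrange : Ψ.range = isoB (N0 a) := by
    ext g
    constructor
    · rintro ⟨s, rfl⟩
      rw [hΨ]
      exact spGL_mem_isoB_N0 a s.1 ((mem_centralizer_Tr_iff a ha s.1).1 s.2)
    · intro hg
      obtain ⟨s, hsa, hsg⟩ := exists_spGL_eq_of_mem_isoB_N0 a g hg
      exact ⟨⟨s, (mem_centralizer_Tr_iff a ha s).2 hsa⟩, by rw [hΨ, hsg]⟩
  exact ⟨((MonoidHom.ofInjective hinj).trans (MulEquiv.subgroupCongr hrange)).symm⟩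

end spgl

end Cfsg.Agent.Lib.Helper25.GraphInv
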