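import Cfsg.Agent.Lib.Helper25.GraphInv10

set_option autoImplicit false

/-!
# Characteristic two, even dimension: the two classes of involutory graph automorphisms of `PSL_n`
-/

namespace Cfsg.Agent.Lib.Helper25.GraphInv

open Module Matrix Cfsg Cfsg.Agent.Lib.Helper15.SymIso Cfsg.Agent.Lib.Helper5
  Cfsg.Agent.Lib.Helper14.SpPerfect Cfsg.Agent.Lib.Helper18.PSLnAut Cfsg.Agent.Lib.Helper18.PSLnFld

section trans

variable {F : Type*} [Field F] {m : ℕ}

theorem vecMulVec_J_ne_zero (a : Fin m ⊕ Fin m → F) (ha : a ≠ 0) :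
    Matrix.vecMulVec a (Matrix.J (Fin m) F *ᵥ a) ≠ 0 := by
  intro h
  obtain ⟨x, hx⟩ := exists_sympForm_eq_one a ha
  have h1 : Matrix.vecMulVec a (Matrix.J (Fin m) F *ᵥ a) *ᵥ x = 0 := by
    rw [h, Matrix.zero_mulVec]
  rw [Matrix.vecMulVec_mulVec, dotProduct_comm] at h1
  have h2 : (Matrix.J (Fin m) F *ᵥ a) ⬝ᵥ x = x ⬝ᵥ Matrix.J (Fin m) F *ᵥ a := dotProduct_comm _ _
  have hx' : x ⬝ᵥ Matrix.J (Fin m) F *ᵥ a = 1 := hx
  rw [hx'] at h1
  apply ha
  ext i
  have h3 := congrFun h1 i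
  simpa using h3

/-- The symplectic transvection `T_a(1)`, `a ≠ 0`, is a transvection. -/
theorem isTransvection_Tr (a : Fin m ⊕ Fin m → F) (ha : a ≠ 0) :
    Cfsg.IsTransvection ((Tr a (1 : F) : Matrix.symplecticGroup (Fin m) F) :
      Matrix (Fin m ⊕ Fin m) (Fin m ⊕ Fin m) F) := by
  have h1 : ((Tr a (1 : F) : Matrix.symplecticGroup (Fin m) F) :
      Matrix (Fin m ⊕ Fin m) (Fin m ⊕ Fin m) F) - 1 =
      Matrix.vecMulVec a (Matrix.J (Fin m) F *ᵥ a) := by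
    show Cfsg.sympTransvection m a 1 - 1 = _
    unfold Cfsg.sympTransvection
    rw [one_smul, add_sub_cancel_left]
  unfold Cfsg.IsTransvection
  rw [h1]
  refine ⟨?_, sympN_mul_sympN m a⟩
  apply le_antisymm (Matrix.rank_vecMulVec_le _ _)
  rw [Nat.one_le_iff_ne_zero]
  intro h0
  apply vecMulVec_J_ne_zero a ha
  have h2 : LinearMap.range (Matrix.vecMulVec a (Matrix.J (Fin m) F *ᵥ a)).mulVecLin = ⊥ :=
    Submodule.finrank_eq_zero.1 h0
  apply Matrix.ext_iff_mulVec.2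
  intro x
  have h3 : (Matrix.vecMulVec a (Matrix.J (Fin m) F *ᵥ a)).mulVecLin x ∈
      LinearMap.range (Matrix.vecMulVec a (Matrix.J (Fin m) F *ᵥ a)).mulVecLin :=
    LinearMap.mem_range_self _ x
  rw [h2, Submodule.mem_bot] at h3
  rw [Matrix.zero_mulVec]
  exact h3

theorem N0_ne_zero [CharP F 2] (a : Fin m ⊕ Fin m → F) (ha : a ≠ 0) : N0 a ≠ 0 := by
  intro h
  obtain ⟨x, hx⟩ := exists_sympForm_eq_one a ha
  have h1 : bilM (N0 a) x x = 0 := by
    unfold bilM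
    rw [h, Matrix.zero_mulVec, dotProduct_zero]
  rw [bilM_N0, sympForm_self, hx, zero_add, mul_one] at h1
  exact one_ne_zero h1

end trans

section cent

variable {F : Type*} [Field F] [Finite F] [CharP F 2] {n m : ℕ}

/-- Characteristic two: the centraliser of the graph automorphism of an alternating matrix is the
symplectic group. -/
theorem nonempty_centralizer_char2_alt (hn : 2 ≤ n) (hm : 0 < m)
    (P : Matrix (Fin m ⊕ Fin m) (Fin n) F) (P' : Matrix (Fin n) (Fin m ⊕ Fin m) F)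
    (h1 : P * P' = 1) (h1' : P' * P = 1) (M : GL (Fin n) F)
    (hM : M.1 = Pᵀ * Matrix.J (Fin m) F * P) :
    Nonempty (↥(Cfsg.inndiagPSL n F ⊓ Subgroup.centralizer {tauG M}) ≃*
      ↥(Matrix.symplecticGroup (Fin m) F)) := by
  obtain ⟨e1⟩ := nonempty_centralizer_bil hn (Matrix.J (Fin m) F) P P' h1 h1' M hM
  obtain ⟨e2⟩ := projQuot_sim_bil_char2 (Matrix.J (Fin m) F) (J_ne_zero hm)
  obtain ⟨e3⟩ := nonempty_isoB_J_equiv (F := F) (m := m)
  exact ⟨(e1.trans e2).trans e3⟩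

/-- Characteristic two: the centraliser of the graph automorphism of a non-alternating symmetric
matrix is the centraliser of a transvection in the symplectic group. -/
theorem nonempty_centralizer_char2_nonalt (hn : 2 ≤ n) (a : Fin m ⊕ Fin m → F) (ha : a ≠ 0)
    (P : Matrix (Fin m ⊕ Fin m) (Fin n) F) (P' : Matrix (Fin n) (Fin m ⊕ Fin m) F)
    (h1 : P * P' = 1) (h1' : P' * P = 1) (M : GL (Fin n) F)
    (hM : M.1 = Pᵀ * N0 a * P) :
    Nonempty (↥(Cfsg.inndiagPSL n F ⊓ Subgroup.centralizer {tauG M}) ≃*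
      ↥(Subgroup.centralizer ({Tr a (1 : F)} : Set ↥(Matrix.symplecticGroup (Fin m) F)))) := by
  obtain ⟨e1⟩ := nonempty_centralizer_bil hn (N0 a) P P' h1 h1' M hM
  obtain ⟨e2⟩ := projQuot_sim_bil_char2 (N0 a) (N0_ne_zero a ha)
  obtain ⟨e3⟩ := nonempty_isoB_N0_equiv a ha
  exact ⟨(e1.trans e2).trans e3⟩

omit [Finite F] [CharP F 2] in
/-- Being alternating is invariant under conjugacy of the graph automorphisms. -/
theorem alt_of_conj (hn : 2 ≤ n) (M₀ M : GL (Fin n) F) (h₀ : ∀ v, v ⬝ᵥ M₀.1 *ᵥ v = 0)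
    (h : Cfsg.IsConjUnder (Cfsg.inndiagPSL n F) (tauG M₀) (tauG M)) :
    ∀ v, v ⬝ᵥ M.1 *ᵥ v = 0 := by
  obtain ⟨k, c, hc⟩ := congr_of_conj hn M₀ M h
  intro v
  have h1 : v ⬝ᵥ ((c : F) • M.1) *ᵥ v = 0 := by
    rw [← hc, ← dot_congr]
    exact h₀ _
  rw [Matrix.smul_mulVec, dotProduct_smul, smul_eq_mul] at h1
  exact (mul_eq_zero.1 h1).resolve_left c.ne_zero

end cent

end Cfsg.Agent.Lib.Helper25.GraphInv
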