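import Cfsg.Agent.Lib.Helper25.GraphInv11

set_option autoImplicit false

/-!
# Characteristic two, even dimension: assembly
-/

namespace Cfsg.Agent.Lib.Helper25.GraphInv

open Module Matrix Cfsg Cfsg.Agent.Lib.Helper15.SymIso Cfsg.Agent.Lib.Helper5
  Cfsg.Agent.Lib.Helper14.SpPerfect Cfsg.Agent.Lib.Helper18.PSLnAut Cfsg.Agent.Lib.Helper18.PSLnFld

section assembly

variable {F : Type*} [Field F] {n m : ℕ}

/-- A congruence transform of an invertible matrix is invertible. -/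
theorem exists_gl_congr {ι₂ : Type} [Fintype ι₂] [DecidableEq ι₂]
    (P : Matrix ι₂ (Fin n) F) (P' : Matrix (Fin n) ι₂ F)
    (h1 : P * P' = 1) (h1' : P' * P = 1) (N N' : Matrix ι₂ ι₂ F) (hN : N * N' = 1)
    (hN' : N' * N = 1) : ∃ M : GL (Fin n) F, M.1 = Pᵀ * N * P := by
  have hT : Pᵀ * P'ᵀ = 1 := by rw [← Matrix.transpose_mul, h1', Matrix.transpose_one]
  have hT' : P'ᵀ * Pᵀ = 1 := by rw [← Matrix.transpose_mul, h1, Matrix.transpose_one]
  refine ⟨⟨Pᵀ * N * P, P' * N' * P'ᵀ, ?_, ?_⟩, rfl⟩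
  · calc Pᵀ * N * P * (P' * N' * P'ᵀ) = Pᵀ * (N * ((P * P') * (N' * P'ᵀ))) := by
          simp only [Matrix.mul_assoc]
      _ = 1 := by rw [h1, Matrix.one_mul, ← Matrix.mul_assoc N, hN, Matrix.one_mul, hT]
  · calc P' * N' * P'ᵀ * (Pᵀ * N * P) = P' * (N' * ((P'ᵀ * Pᵀ) * (N * P))) := by
          simp only [Matrix.mul_assoc]
      _ = 1 := by rw [hT', Matrix.one_mul, ← Matrix.mul_assoc N', hN', Matrix.one_mul, h1']

/-- `N0 a = J * T_a(1)`. -/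
theorem N0_eq (a : Fin m ⊕ Fin m → F) :
    N0 a = Matrix.J (Fin m) F * (Tr a (1 : F)).1 := by
  apply bil_ext
  intro u v
  have h1 : u ⬝ᵥ N0 a *ᵥ v = bilM (N0 a) u v := rfl
  rw [h1, bilM_N0, ← Matrix.mulVec_mulVec, Tr_mulVec, one_mul]
  show _ = Cfsg.sympForm m F u (v + Cfsg.sympForm m F v a • a)
  rw [sympForm_add_right, sympForm_smul_right]
  ring

theorem N0_invertible (a : Fin m ⊕ Fin m → F) :
    ∃ N' : Matrix (Fin m ⊕ Fin m) (Fin m ⊕ Fin m) F, N0 a * N' = 1 ∧ N' * N0 a = 1 := by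
  refine ⟨((Tr a (1 : F))⁻¹).1 * -Matrix.J (Fin m) F, ?_, ?_⟩
  · rw [N0_eq]
    calc Matrix.J (Fin m) F * (Tr a (1 : F)).1 * (((Tr a (1 : F))⁻¹).1 * -Matrix.J (Fin m) F)
        = Matrix.J (Fin m) F * (((Tr a (1 : F)).1 * ((Tr a (1 : F))⁻¹).1) *
          -Matrix.J (Fin m) F) := by simp only [Matrix.mul_assoc]
      _ = 1 := by rw [sp_val_mul_inv, Matrix.one_mul, Matrix.mul_neg, Matrix.J_squared, neg_neg]
  · rw [N0_eq]
    calc ((Tr a (1 : F))⁻¹).1 * -Matrix.J (Fin m) F * (Matrix.J (Fin m) F * (Tr a (1 : F)).1)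
        = ((Tr a (1 : F))⁻¹).1 * ((-Matrix.J (Fin m) F * Matrix.J (Fin m) F) *
          (Tr a (1 : F)).1) := by simp only [Matrix.mul_assoc]
      _ = 1 := by rw [Matrix.neg_mul, Matrix.J_squared, neg_neg, Matrix.one_mul, sp_val_inv_mul]

theorem N0_transpose [CharP F 2] (a : Fin m ⊕ Fin m → F) : (N0 a)ᵀ = N0 a := by
  unfold N0
  rw [Matrix.transpose_add, Matrix.J_transpose, Matrix.transpose_vecMulVec]
  congr 1
  ext i j
  rw [Matrix.neg_apply, CharTwo.neg_eq]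

variable [Finite F] [CharP F 2]

/-- The classification of involutory graph automorphisms of `PSL_{2m}` in characteristic two, in
terms of matrices. -/
theorem main_char2_even (hm : 2 ≤ m) (hnm : n = 2 * m) :
    ∃ (M₁ M₃ : GL (Fin n) F) (a : Fin m ⊕ Fin m → F), a ≠ 0 ∧ (M₁.1)ᵀ = M₁.1 ∧
      (M₃.1)ᵀ = M₃.1 ∧
      ¬ Cfsg.IsConjUnder (Cfsg.inndiagPSL n F) (tauG M₁) (tauG M₃) ∧
      (∀ γ : MulAut (Matrix.ProjectiveSpecialLinearGroup (Fin n) F),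
        Cfsg.IsGraphAutClassPSL γ → orderOf γ = 2 →
        Cfsg.IsConjUnder (Cfsg.inndiagPSL n F) (tauG M₁) γ ∨
          Cfsg.IsConjUnder (Cfsg.inndiagPSL n F) (tauG M₃) γ) ∧
      Nonempty (↥(Cfsg.inndiagPSL n F ⊓ Subgroup.centralizer {tauG M₁}) ≃*
        ↥(Matrix.symplecticGroup (Fin m) F)) ∧
      Nonempty (↥(Cfsg.inndiagPSL n F ⊓ Subgroup.centralizer {tauG M₃}) ≃*
        ↥(Subgroup.centralizer ({Tr a (1 : F)} : Set ↥(Matrix.symplecticGroup (Fin m) F)))) := by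
  have hn2 : 2 ≤ n := by omega
  have hcardS : Fintype.card (Fin m ⊕ Fin m) = Fintype.card (Fin n) := by
    simp only [Fintype.card_sum, Fintype.card_fin]
    omega
  obtain ⟨P, P', h1, h1', -⟩ := exists_mat_of_linearEquiv
    (LinearEquiv.funCongrLeft F F (Fintype.equivOfCardEq hcardS))
  have hPP : ∀ x : Fin m ⊕ Fin m → F, P *ᵥ (P' *ᵥ x) = x := by
    intro x
    rw [Matrix.mulVec_mulVec, h1, Matrix.one_mulVec]
  obtain ⟨a, ha⟩ : ∃ a : Fin m ⊕ Fin m → F, a ≠ 0 := by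
    refine ⟨Pi.single (Sum.inl ⟨0, by omega⟩) 1, ?_⟩
    intro h
    have h3 := congrFun h (Sum.inl ⟨0, by omega⟩)
    rw [Pi.single_eq_same, Pi.zero_apply] at h3
    exact one_ne_zero h3
  obtain ⟨M₁, hM₁, hM₁s⟩ := exists_skew m P P' h1 h1'
  have hM₁s' : (M₁.1)ᵀ = M₁.1 := by
    rw [hM₁s]
    ext i j
    rw [Matrix.neg_apply, CharTwo.neg_eq]
  obtain ⟨N', hN, hN'⟩ := N0_invertible a
  obtain ⟨M₃, hM₃⟩ := exists_gl_congr P P' h1 h1' (N0 a) N' hN hN'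
  have hM₃s : (M₃.1)ᵀ = M₃.1 := by
    rw [hM₃, Matrix.transpose_mul, Matrix.transpose_mul, Matrix.transpose_transpose,
      N0_transpose, Matrix.mul_assoc]
  have halt₁ : ∀ v, v ⬝ᵥ M₁.1 *ᵥ v = 0 := by
    intro v
    rw [hM₁, ← dot_congr_rect]
    exact sympForm_self m _
  have hna₃ : ∃ v, v ⬝ᵥ M₃.1 *ᵥ v ≠ 0 := by
    obtain ⟨x, hx⟩ := exists_sympForm_eq_one a ha
    refine ⟨P' *ᵥ x, ?_⟩
    rw [hM₃, ← dot_congr_rect, hPP]
    have h3 : x ⬝ᵥ N0 a *ᵥ x = bilM (N0 a) x x := rfl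
    rw [h3, bilM_N0, sympForm_self, hx, zero_add, mul_one]
    exact one_ne_zero
  refine ⟨M₁, M₃, a, ha, hM₁s', hM₃s, ?_, ?_, ?_, ?_⟩
  · intro h
    obtain ⟨v, hv⟩ := hna₃
    exact hv (alt_of_conj hn2 M₁ M₃ halt₁ h v)
  · intro γ hγ hγ2
    obtain ⟨M, rfl⟩ := exists_tauG_of_graph γ hγ
    have hMs : (M.1)ᵀ = M.1 := by
      rcases transpose_eq_of_orderOf hn2 M hγ2 with h | h
      · exact h
      · rw [h]
        ext i j
        rw [Matrix.neg_apply, CharTwo.neg_eq]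
    by_cases halt : ∀ v, v ⬝ᵥ M.1 *ᵥ v = 0
    · left
      obtain ⟨R, R', h3, h3', hR⟩ := exists_canon_even_alt hnm M.1
        (Matrix.GeneralLinearGroup.det_ne_zero M) halt
      exact conj_of_canon (Matrix.J (Fin m) F) P P' h1 h1' R R' h3 h3' M₁ M hM₁ hR
    · right
      push Not at halt
      obtain ⟨R, R', h3, h3', hR⟩ := exists_canon_even_nonalt hnm a ha M.1 hMs
        (Matrix.GeneralLinearGroup.det_ne_zero M) halt
      exact conj_of_canon (N0 a) P P' h1 h1' R R' h3 h3' M₃ M hM₃ hR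
  · exact nonempty_centralizer_char2_alt hn2 (by omega) P P' h1 h1' M₁ hM₁
  · exact nonempty_centralizer_char2_nonalt hn2 a ha P P' h1 h1' M₃ hM₃

end assembly

end Cfsg.Agent.Lib.Helper25.GraphInv
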