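import Cfsg.Agent.Lib.Helper25.GraphInv12
import Cfsg.Agent.Lib.Helper18.PSLnFldF

set_option autoImplicit false

/-!
# The number of `PSL_n`-classes in the `PGL_n`-class of a graph automorphism, as an index in `Fˣ`
-/

namespace Cfsg.Agent.Lib.Helper25.GraphInv

open Module Matrix Cfsg Cfsg.Agent.Lib.Helper18.PSLnAut Cfsg.Agent.Lib.Helper18.PSLnFld
  Cfsg.Agent.Lib.Helper25.InvTrans

section split

variable {n : ℕ} {F : Type*} [Field F]

/-- The similarity group of an invertible matrix. -/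
def simG (M : GL (Fin n) F) : Subgroup (GL (Fin n) F) :=
  Geo.similarityGroup (F := F) (bilM M.1)

theorem mem_simG_iff (M g : GL (Fin n) F) :
    g ∈ simG M ↔ ∃ c : Fˣ, (g.1)ᵀ * M.1 * g.1 = (c : F) • M.1 :=
  mem_similarityGroup_iff M.1 g

theorem conjAHom_mem_centralizer_iff_simG (hn : 2 ≤ n) (M g : GL (Fin n) F) :
    conjAHom g ∈ Subgroup.centralizer {tauG M} ↔ g ∈ simG M := by
  rw [conjAHom_mem_centralizer_tauG_iff hn, mem_simG_iff]

/-- The subgroup of determinants attached to `tauG M`. -/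
def detSub (M : GL (Fin n) F) : Subgroup Fˣ :=
  (powMonoidHom n : Fˣ →* Fˣ).range ⊔
    (simG M).map (Matrix.GeneralLinearGroup.det : GL (Fin n) F →* Fˣ)

theorem mem_map_comap_det_iff_tauG (hn : 2 ≤ n) (M : GL (Fin n) F)
    (x : MulAut (ProjectiveSpecialLinearGroup (Fin n) F)) :
    x ∈ ((detSub M).comap
      (Matrix.GeneralLinearGroup.det : GL (Fin n) F →* Fˣ)).map conjAHom ↔
    ∃ k ∈ Cfsg.Inn (ProjectiveSpecialLinearGroup (Fin n) F),
      ∃ c ∈ (conjAHom (n := n) (F := F)).range ⊓ Subgroup.centralizer {tauG M},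
        x = k * c := by
  constructor
  · rintro ⟨g, hg, rfl⟩
    rw [SetLike.mem_coe, Subgroup.mem_comap] at hg
    obtain ⟨y, ⟨lam, rfl⟩, z, ⟨h, hh, rfl⟩, hyz⟩ := Subgroup.mem_sup.1 hg
    let zl : GL (Fin n) F := Matrix.GeneralLinearGroup.scalar (Fin n) lam
    have hdet : Matrix.GeneralLinearGroup.det (g * (zl * h)⁻¹) = 1 := by
      rw [map_mul, map_inv, map_mul, Matrix.GeneralLinearGroup.det_scalar, Fintype.card_fin,
        ← hyz]
      exact mul_inv_cancel _
    obtain ⟨s, hs⟩ := exists_toGL_eq _ hdet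
    have hg' : g = Matrix.SpecialLinearGroup.toGL s * (zl * h) := by
      rw [hs, inv_mul_cancel_right]
    have hz : zl ∈ (conjAHom (n := n) (F := F)).ker := by
      rw [ker_conjAHom hn, Matrix.GeneralLinearGroup.center_eq_range_scalar]
      exact ⟨_, rfl⟩
    refine ⟨MulAut.conj (pi s), ⟨_, rfl⟩, conjAHom h, ⟨⟨_, rfl⟩, ?_⟩, ?_⟩
    · exact (conjAHom_mem_centralizer_iff_simG hn M h).2 hh
    · rw [hg', map_mul, map_mul, MonoidHom.mem_ker.1 hz, one_mul, conj_pi_eq_conjA]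
  · rintro ⟨k, ⟨t, rfl⟩, c, ⟨⟨g₀, rfl⟩, hc⟩, rfl⟩
    obtain ⟨s, rfl⟩ := pi_surjective t
    have hc' : conjAHom g₀ ∈ Subgroup.centralizer {tauG M} := hc
    rw [conjAHom_mem_centralizer_iff_simG hn] at hc'
    refine ⟨Matrix.SpecialLinearGroup.toGL s * g₀, ?_, ?_⟩
    · rw [SetLike.mem_coe, Subgroup.mem_comap, map_mul, det_toGL, one_mul]
      exact Subgroup.mem_sup_right ⟨g₀, hc', rfl⟩
    · rw [map_mul, conj_pi_eq_conjA]

/-- The class of `tauG M` under `Inndiag` splits into `|Fˣ : detSub M|` classes under `PSL_n`. -/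
theorem splitClassCount_tauG (hn : 2 ≤ n) (M : GL (Fin n) F) :
    Cfsg.splitClassCount (Cfsg.inndiagPSL n F)
      (Cfsg.Inn (ProjectiveSpecialLinearGroup (Fin n) F)) (tauG M) = (detSub M).index := by
  rw [inndiag_eq, splitClassCount_eq _ _ inn_le_range
    (fun h _ k hk => (Cfsg.innNormal _).conj_mem k hk h) _ _
    (mem_map_comap_det_iff_tauG hn M)]
  exact relIndex_map_comap_det hn (detSub M) le_sup_left

end split

end Cfsg.Agent.Lib.Helper25.GraphInv
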