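import Cfsg.Agent.Lib.Helper25.GraphInv13

set_option autoImplicit false

/-!
# Determinants of similarities of symmetric and alternating matrices
-/

namespace Cfsg.Agent.Lib.Helper25.GraphInv

open Module Matrix Cfsg Cfsg.Agent.Lib.Helper18.PSLnAut Cfsg.Agent.Lib.Helper18.PSLnFld
  Cfsg.Agent.Lib.Helper25.InvTrans Cfsg.Agent.Lib.Helper15.SymIso

section det

variable {n : ℕ} {F : Type*} [Field F]

theorem det_mul_self_of_sim (M h : GL (Fin n) F) (c : Fˣ)
    (hc : (h.1)ᵀ * M.1 * h.1 = (c : F) • M.1) : h.1.det * h.1.det = (c : F) ^ n := by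
  have h1 := congrArg Matrix.det hc
  rw [Matrix.det_mul, Matrix.det_mul, Matrix.det_transpose, Matrix.det_smul,
    Fintype.card_fin] at h1
  have hM : M.1.det ≠ 0 := Matrix.GeneralLinearGroup.det_ne_zero M
  apply mul_right_cancel₀ hM
  linear_combination h1

theorem det_mem_powRange_of_eq (h : GL (Fin n) F) (e : Fˣ) (k : ℕ)
    (he : h.1.det = (e : F) ^ k) :
    Matrix.GeneralLinearGroup.det h ∈ (powMonoidHom k : Fˣ →* Fˣ).range := by
  refine ⟨e, Units.ext ?_⟩
  show ((e ^ k : Fˣ) : F) = h.1.det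
  rw [Units.val_pow_eq_pow_val, he]

/-- In characteristic two the determinants of similarities are `n`-th powers. -/
theorem detSub_eq_of_char2 [Finite F] [CharP F 2] (M : GL (Fin n) F) :
    detSub M = (powMonoidHom n : Fˣ →* Fˣ).range := by
  unfold detSub
  rw [sup_eq_left]
  rintro _ ⟨h, hh, rfl⟩
  obtain ⟨c, hc⟩ := (mem_simG_iff M h).1 hh
  have h1 := det_mul_self_of_sim M h c hc
  have he : sqrt2 (c : F) * sqrt2 (c : F) = c := sqrt2_mul_self _
  have he0 : sqrt2 (c : F) ≠ 0 := by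
    intro h0
    rw [h0, zero_mul] at he
    exact c.ne_zero he.symm
  apply det_mem_powRange_of_eq h (Units.mk0 _ he0) n
  apply sq_inj
  rw [h1, Units.val_mk0, ← mul_pow, he]

/-- In odd dimension the determinants of similarities are `n`-th powers. -/
theorem detSub_eq_of_odd (hodd : Odd n) (M : GL (Fin n) F) :
    detSub M = (powMonoidHom n : Fˣ →* Fˣ).range := by
  unfold detSub
  rw [sup_eq_left]
  rintro _ ⟨h, hh, rfl⟩
  obtain ⟨c, hc⟩ := (mem_simG_iff M h).1 hh
  have h1 := det_mul_self_of_sim M h c hc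
  obtain ⟨j, hj⟩ := hodd
  have hd : h.1.det ≠ 0 := Matrix.GeneralLinearGroup.det_ne_zero h
  have hcj : ((c : F) ^ j) ≠ 0 := pow_ne_zero _ c.ne_zero
  obtain ⟨e, he⟩ : ∃ e : Fˣ, (e : F) = h.1.det / (c : F) ^ j :=
    ⟨Units.mk0 _ (div_ne_zero hd hcj), rfl⟩
  have hee : (e : F) * (e : F) = c := by
    rw [he, div_mul_div_comm, h1, hj, pow_succ, ← pow_add, two_mul]
    field_simp
  have h3 : h.1.det * h.1.det = ((e : F) ^ n) * ((e : F) ^ n) := by
    rw [h1, ← mul_pow, hee]
  rcases mul_self_eq_mul_self_iff.1 h3 with h4 | h4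
  · exact det_mem_powRange_of_eq h e n h4
  · apply det_mem_powRange_of_eq h (-e) n
    have hoddn : Odd n := ⟨j, hj⟩
    rw [h4, Units.val_neg, hoddn.neg_pow]

end det

section alt

variable {n m : ℕ} {F : Type*} [Field F]

/-- The diagonal similarity of `J` with multiplier `e`. -/
def ddM (m : ℕ) (e : F) : Matrix (Fin m ⊕ Fin m) (Fin m ⊕ Fin m) F :=
  Matrix.fromBlocks (e • (1 : Matrix (Fin m) (Fin m) F)) 0 0 1

theorem ddM_J (e : F) : (ddM m e)ᵀ * Matrix.J (Fin m) F * ddM m e = e • Matrix.J (Fin m) F := by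
  unfold ddM Matrix.J
  rw [Matrix.fromBlocks_transpose, Matrix.fromBlocks_multiply, Matrix.fromBlocks_multiply,
    Matrix.fromBlocks_smul]
  simp

theorem det_ddM (e : F) : (ddM m e).det = e ^ m := by
  unfold ddM
  rw [Matrix.det_fromBlocks_zero₂₁, Matrix.det_smul]
  simp


theorem ddM_mul (e e' : F) : ddM m e * ddM m e' = ddM m (e * e') := by
  unfold ddM
  rw [Matrix.fromBlocks_multiply]
  simp [smul_smul, mul_comm]

theorem ddM_one : ddM m (1 : F) = 1 := by
  unfold ddM
  rw [one_smul, Matrix.fromBlocks_one]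

/-- The determinants of the similarities of an alternating matrix of size `2m` are the `m`-th
powers. -/
theorem map_det_simG_alt (hnm : n = 2 * m) (M : GL (Fin n) F)
    (halt : ∀ v, v ⬝ᵥ M.1 *ᵥ v = 0) :
    (simG M).map (Matrix.GeneralLinearGroup.det : GL (Fin n) F →* Fˣ) =
      (powMonoidHom m : Fˣ →* Fˣ).range := by
  obtain ⟨P, P', h1, h1', hM⟩ := exists_canon_even_alt hnm M.1
    (Matrix.GeneralLinearGroup.det_ne_zero M) halt
  apply le_antisymm
  · rintro _ ⟨h, hh, rfl⟩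
    obtain ⟨c, hc⟩ := (mem_simG_iff M h).1 hh
    rw [hM] at hc
    have hg := (congr_transport P P' h1 h1' (Matrix.J (Fin m) F) h.1 (c : F)).2 hc
    have hdg : (P * h.1 * P').det = h.1.det := Matrix.det_conj_of_mul_eq_one h1 h1'
    have hs : (P * h.1 * P' * ddM m ((c⁻¹ : Fˣ) : F)) ∈ Matrix.symplecticGroup (Fin m) F := by
      rw [SymplecticGroup.mem_iff', Matrix.transpose_mul]
      calc (ddM m ((c⁻¹ : Fˣ) : F))ᵀ * (P * h.1 * P')ᵀ * Matrix.J (Fin m) F *
            (P * h.1 * P' * ddM m ((c⁻¹ : Fˣ) : F))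
          = (ddM m ((c⁻¹ : Fˣ) : F))ᵀ * ((P * h.1 * P')ᵀ * Matrix.J (Fin m) F * (P * h.1 * P')) *
            ddM m ((c⁻¹ : Fˣ) : F) := by simp only [Matrix.mul_assoc]
        _ = Matrix.J (Fin m) F := by
          rw [hg, Matrix.mul_smul, Matrix.smul_mul, ddM_J, smul_smul, ← Units.val_mul,
            mul_inv_cancel, Units.val_one, one_smul]
    have hdet := SymplecticGroup.det_eq_one hs
    rw [Matrix.det_mul, hdg, det_ddM] at hdet
    apply det_mem_powRange_of_eq h c m
    have hc0 : (((c⁻¹ : Fˣ) : F)) ^ m ≠ 0 := pow_ne_zero _ (Units.ne_zero _)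
    apply mul_right_cancel₀ hc0
    rw [hdet, ← mul_pow, ← Units.val_mul, mul_inv_cancel, Units.val_one, one_pow]
  · rintro _ ⟨e, rfl⟩
    have hmul : ∀ a b : F, a * b = 1 →
        (P' * ddM m a * P) * (P' * ddM m b * P) = 1 := by
      intro a b hab
      calc (P' * ddM m a * P) * (P' * ddM m b * P)
          = P' * (ddM m a * ((P * P') * (ddM m b * P))) := by simp only [Matrix.mul_assoc]
        _ = 1 := by
          rw [h1, Matrix.one_mul, ← Matrix.mul_assoc (ddM m a), ddM_mul, hab, ddM_one,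
            Matrix.one_mul, h1']
    obtain ⟨h, hh⟩ : ∃ h : GL (Fin n) F, h.1 = P' * ddM m (e : F) * P :=
      ⟨⟨P' * ddM m (e : F) * P, P' * ddM m ((e⁻¹ : Fˣ) : F) * P,
        hmul _ _ (by rw [← Units.val_mul, mul_inv_cancel, Units.val_one]),
        hmul _ _ (by rw [← Units.val_mul, inv_mul_cancel, Units.val_one])⟩, rfl⟩
    have hPhP : P * h.1 * P' = ddM m (e : F) := by
      rw [hh]
      calc P * (P' * ddM m (e : F) * P) * P' = (P * P') * ddM m (e : F) * (P * P') := by
            simp only [Matrix.mul_assoc]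
        _ = ddM m (e : F) := by rw [h1, Matrix.one_mul, Matrix.mul_one]
    refine ⟨h, ?_, ?_⟩
    · rw [SetLike.mem_coe, mem_simG_iff]
      refine ⟨e, ?_⟩
      rw [hM]
      apply (congr_transport P P' h1 h1' (Matrix.J (Fin m) F) h.1 (e : F)).1
      rw [hPhP, ddM_J]
    · apply Units.ext
      show h.1.det = ((e ^ m : Fˣ) : F)
      rw [hh, Matrix.det_conj_of_mul_eq_one h1' h1, det_ddM, Units.val_pow_eq_pow_val]

end alt

end Cfsg.Agent.Lib.Helper25.GraphInv
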