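import Cfsg.Agent.Lib.Helper25.GraphInv14

set_option autoImplicit false

/-!
# Determinants of similarities of symmetric matrices of even size; index computations
-/

namespace Cfsg.Agent.Lib.Helper25.GraphInv

open Module Matrix Cfsg Cfsg.Agent.Lib.Helper18.PSLnAut Cfsg.Agent.Lib.Helper18.PSLnFld
  Cfsg.Agent.Lib.Helper25.InvTrans

section sym

variable {n m : ℕ} {F : Type*} [Field F]

/-- An isometry of determinant `-1` of a symmetric matrix. -/
theorem exists_isometry_det_neg_one [Finite F] (h2 : (2 : F) ≠ 0) (hn : 0 < n)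
    (M : GL (Fin n) F) (hM : (M.1)ᵀ = M.1) :
    ∃ h : GL (Fin n) F, (h.1)ᵀ * M.1 * h.1 = M.1 ∧ Matrix.GeneralLinearGroup.det h = -1 := by
  have hdM : M.1.det ≠ 0 := Matrix.GeneralLinearGroup.det_ne_zero M
  obtain ⟨w, hw⟩ : ∃ w : Fin n → F, w = Function.update (fun _ => (1 : F)) ⟨0, hn⟩ M.1.det :=
    ⟨_, rfl⟩
  obtain ⟨ε, hε⟩ : ∃ ε : Fin n → F, ε = Function.update (fun _ => (1 : F)) ⟨0, hn⟩ (-1) :=
    ⟨_, rfl⟩
  have hdw : (Matrix.diagonal w).det = M.1.det := by
    rw [Matrix.det_diagonal, hw, Finset.prod_update_of_mem (Finset.mem_univ _)]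
    simp
  have hdε : (Matrix.diagonal ε).det = -1 := by
    rw [Matrix.det_diagonal, hε, Finset.prod_update_of_mem (Finset.mem_univ _)]
    simp
  have hεε : ∀ i, ε i * ε i = 1 := by
    intro i
    rw [hε]
    by_cases hi : i = ⟨0, hn⟩
    · rw [hi, Function.update_self]
      ring
    · rw [Function.update_of_ne hi]
      ring
  obtain ⟨k, hk⟩ := exists_congr_of_disc h2 M.1 (Matrix.diagonal w) hM
    (Matrix.diagonal_transpose _) hdM (by rw [hdw]; exact hdM) ⟨M.1.det, by rw [hdw]⟩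
  have hdε0 : (Matrix.diagonal ε).det ≠ 0 := by
    rw [hdε]
    exact neg_ne_zero.2 one_ne_zero
  obtain ⟨E, hE⟩ : ∃ E : GL (Fin n) F, E.1 = Matrix.diagonal ε :=
    ⟨Matrix.GeneralLinearGroup.mkOfDetNeZero _ hdε0, rfl⟩
  have hEDE : (E.1)ᵀ * Matrix.diagonal w * E.1 = Matrix.diagonal w := by
    rw [hE, Matrix.diagonal_transpose, Matrix.diagonal_mul_diagonal, Matrix.diagonal_mul_diagonal]
    congr 1
    funext i
    rw [mul_comm (ε i) (w i), mul_assoc, hεε, mul_one]
  refine ⟨k⁻¹ * E * k, ?_, ?_⟩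
  · rw [Units.val_mul, Units.val_mul, Matrix.transpose_mul, Matrix.transpose_mul]
    nth_rewrite 1 [← hk]
    calc (k.1)ᵀ * ((E.1)ᵀ * ((k⁻¹ : GL (Fin n) F).1)ᵀ) * ((k.1)ᵀ * Matrix.diagonal w * k.1) *
          ((k⁻¹ : GL (Fin n) F).1 * E.1 * k.1)
        = (k.1)ᵀ * ((E.1)ᵀ * ((((k⁻¹ : GL (Fin n) F).1)ᵀ * (k.1)ᵀ) * Matrix.diagonal w *
          (k.1 * (k⁻¹ : GL (Fin n) F).1)) * E.1) * k.1 := by simp only [Matrix.mul_assoc]
      _ = M.1 := by
        rw [← Matrix.transpose_mul, gl_mul_inv, Matrix.transpose_one, Matrix.one_mul,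
          Matrix.mul_one, hEDE, hk]
  · rw [map_mul, map_mul, map_inv, mul_comm, ← mul_assoc, mul_inv_cancel, one_mul]
    apply Units.ext
    show E.1.det = ((-1 : Fˣ) : F)
    rw [hE, hdε, Units.val_neg, Units.val_one]

/-- The determinants of similarities of a symmetric matrix of even size, together with the `n`-th
powers, generate `⟨-1⟩ (Fˣ)^m`. -/
theorem detSub_eq_of_sym [Finite F] (h2 : (2 : F) ≠ 0) (hnm : n = 2 * m) (hm : 0 < m)
    (M : GL (Fin n) F) (hM : (M.1)ᵀ = M.1) :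
    detSub M = Subgroup.zpowers (-1 : Fˣ) ⊔ (powMonoidHom m : Fˣ →* Fˣ).range := by
  have hn : 0 < n := by omega
  have hdM : M.1.det ≠ 0 := Matrix.GeneralLinearGroup.det_ne_zero M
  obtain ⟨r, hr1, hr2⟩ := exists_isometry_det_neg_one h2 hn M hM
  have hrmem : r ∈ simG M := (mem_simG_iff M r).2 ⟨1, by rw [hr1, Units.val_one, one_smul]⟩
  apply le_antisymm
  · unfold detSub
    rw [sup_le_iff]
    constructor
    · rintro _ ⟨e, rfl⟩
      apply Subgroup.mem_sup_right
      refine ⟨e ^ 2, ?_⟩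
      show (e ^ 2) ^ m = e ^ n
      rw [← pow_mul, hnm]
    · rintro _ ⟨h, hh, rfl⟩
      obtain ⟨c, hc⟩ := (mem_simG_iff M h).1 hh
      have h1 := det_mul_self_of_sim M h c hc
      have h3 : h.1.det * h.1.det = ((c : F) ^ m) * ((c : F) ^ m) := by
        rw [h1, ← pow_add, hnm, two_mul]
      rcases mul_self_eq_mul_self_iff.1 h3 with h4 | h4
      · exact Subgroup.mem_sup_right (det_mem_powRange_of_eq h c m h4)
      · have h5 : Matrix.GeneralLinearGroup.det h = (-1 : Fˣ) * c ^ m := by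
          apply Units.ext
          show h.1.det = _
          rw [h4, Units.val_mul, Units.val_neg, Units.val_one, Units.val_pow_eq_pow_val]
          ring
        rw [h5]
        exact Subgroup.mul_mem _ (Subgroup.mem_sup_left (Subgroup.mem_zpowers _))
          (Subgroup.mem_sup_right ⟨c, rfl⟩)
  · rw [sup_le_iff]
    constructor
    · rw [Subgroup.zpowers_le]
      unfold detSub
      exact Subgroup.mem_sup_right ⟨r, hrmem, hr2⟩
    · rintro _ ⟨e, rfl⟩
      unfold detSub
      apply Subgroup.mem_sup_right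
      have hMe : (((e : F) • M.1 : Matrix (Fin n) (Fin n) F))ᵀ = (e : F) • M.1 := by
        rw [Matrix.transpose_smul, hM]
      have hde : ((e : F) • M.1 : Matrix (Fin n) (Fin n) F).det = (e : F) ^ n * M.1.det := by
        rw [Matrix.det_smul, Fintype.card_fin]
      have hen : (e : F) ^ n = (e : F) ^ m * (e : F) ^ m := by rw [← pow_add, hnm, two_mul]
      obtain ⟨k, hk⟩ := exists_congr_of_disc h2 ((e : F) • M.1) M.1 hMe hM
        (by rw [hde]; exact mul_ne_zero (pow_ne_zero _ e.ne_zero) hdM) hdM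
        ⟨(e : F) ^ m * M.1.det, by rw [hde, hen]; ring⟩
      have hkmem : k ∈ simG M := (mem_simG_iff M k).2 ⟨e, hk⟩
      have h1 := det_mul_self_of_sim M k e hk
      have h3 : k.1.det * k.1.det = ((e : F) ^ m) * ((e : F) ^ m) := by
        rw [h1, ← pow_add, hnm, two_mul]
      rcases mul_self_eq_mul_self_iff.1 h3 with h4 | h4
      · refine ⟨k, hkmem, Units.ext ?_⟩
        show k.1.det = ((e ^ m : Fˣ) : F)
        rw [h4, Units.val_pow_eq_pow_val]
      · refine ⟨r * k, Subgroup.mul_mem _ hrmem hkmem, ?_⟩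
        rw [map_mul, hr2]
        apply Units.ext
        show ((-1 : Fˣ) : F) * k.1.det = ((e ^ m : Fˣ) : F)
        rw [h4, Units.val_neg, Units.val_one, Units.val_pow_eq_pow_val]
        ring

end sym

section index

variable {F : Type*} [Field F] [Fintype F]

theorem card_units_eq : Nat.card Fˣ = Fintype.card F - 1 := by
  rw [Nat.card_units, Nat.card_eq_fintype_card]

theorem index_powRange (k : ℕ) :
    (powMonoidHom k : Fˣ →* Fˣ).range.index = Nat.gcd k (Fintype.card F - 1) := by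
  rw [IsCyclic.index_powMonoidHom_range, card_units_eq, Nat.gcd_comm]

/-- The index of `⟨-1⟩ (Fˣ)^m` for a field of odd order. -/
theorem index_neg_one_sup (h2 : (2 : F) ≠ 0) (m : ℕ) :
    (Subgroup.zpowers (-1 : Fˣ) ⊔ (powMonoidHom m : Fˣ →* Fˣ).range).index =
      Nat.gcd ((Fintype.card F - 1) / 2) m := by
  have hne : (-1 : Fˣ) ≠ 1 := by
    intro h
    have h3 := congrArg Units.val h
    rw [Units.val_neg, Units.val_one] at h3
    apply h2
    linear_combination -h3
  have ho : orderOf (-1 : Fˣ) = 2 := by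
    haveI : Fact (Nat.Prime 2) := ⟨Nat.prime_two⟩
    exact orderOf_eq_prime (by rw [neg_one_sq]) hne
  have hcz : Nat.card (Subgroup.zpowers (-1 : Fˣ)) = 2 := by
    rw [Nat.card_zpowers, ho]
  have hdvd : 2 ∣ Nat.card Fˣ := by
    rw [← hcz]
    exact Subgroup.card_subgroup_dvd_card _
  have hcard : Nat.card Fˣ = (Fintype.card F - 1) / 2 * Nat.card (Subgroup.zpowers (-1 : Fˣ)) := by
    rw [hcz, ← card_units_eq, Nat.div_mul_cancel hdvd]
  rw [eq_range_pow_of_card (Subgroup.zpowers (-1 : Fˣ)) _ hcard, range_pow_sup]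
  apply index_range_pow
  apply (Nat.gcd_dvd_left _ _).trans
  rw [← card_units_eq]
  exact Nat.div_dvd_of_dvd hdvd

end index

end Cfsg.Agent.Lib.Helper25.GraphInv
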