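import Cfsg.Agent.Lib.Helper25.GraphInv15

set_option autoImplicit false

/-!
# Abelian quotients of `PGSp_{2m}(q)`, `q` odd, have order at most two
-/

namespace Cfsg.Agent.Lib.Helper25.GraphInv

open Module Matrix Cfsg Cfsg.Agent.Lib.Helper15.SymIso

section pgsp

variable {F : Type*} [Field F] {m : ℕ}

theorem GSp_eq : Cfsg.GSp m F = Geo.similarityGroup (F := F) (bilM (Matrix.J (Fin m) F)) := rfl

theorem mem_GSp_iff' (g : GL (Fin m ⊕ Fin m) F) :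
    g ∈ Cfsg.GSp m F ↔ ∃ c : Fˣ, (g.1)ᵀ * Matrix.J (Fin m) F * g.1 = (c : F) • Matrix.J (Fin m) F := by
  rw [GSp_eq, mem_similarityGroup_iff]

theorem spGL_mem_GSp (s : Matrix.symplecticGroup (Fin m) F) : spGL m F s ∈ Cfsg.GSp m F := by
  rw [mem_GSp_iff']
  refine ⟨1, ?_⟩
  rw [spGL_coe, Units.val_one, one_smul]
  exact SymplecticGroup.mem_iff'.1 s.2

/-- A homomorphism from a perfect group to a commutative group is trivial. -/
theorem hom_eq_one_of_perfect {G A : Type*} [Group G] [CommGroup A] (h : commutator G = ⊤)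
    (φ : G →* A) (x : G) : φ x = 1 := by
  have h1 : commutator G ≤ φ.ker := Abelianization.commutator_subset_ker φ
  rw [h] at h1
  exact h1 (Subgroup.mem_top x)

/-- The multiplier of a product with an inverse. -/
theorem sim_mul_inv (M : Matrix (Fin m ⊕ Fin m) (Fin m ⊕ Fin m) F)
    (g g₀ : GL (Fin m ⊕ Fin m) F) (c c₀ : Fˣ)
    (hg : (g.1)ᵀ * M * g.1 = (c : F) • M) (hg₀ : (g₀.1)ᵀ * M * g₀.1 = (c₀ : F) • M) :
    ((g * g₀⁻¹ : GL (Fin m ⊕ Fin m) F).1)ᵀ * M * (g * g₀⁻¹ : GL (Fin m ⊕ Fin m) F).1 =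
      ((c * c₀⁻¹ : Fˣ) : F) • M := by
  have h1 : ((g₀⁻¹ : GL (Fin m ⊕ Fin m) F).1)ᵀ * M * (g₀⁻¹ : GL (Fin m ⊕ Fin m) F).1 =
      ((c₀⁻¹ : Fˣ) : F) • M := by
    have h2 : ((g₀⁻¹ : GL (Fin m ⊕ Fin m) F).1)ᵀ * ((c₀ : F) • M) *
        (g₀⁻¹ : GL (Fin m ⊕ Fin m) F).1 = M := by
      rw [← hg₀]
      calc ((g₀⁻¹ : GL (Fin m ⊕ Fin m) F).1)ᵀ * ((g₀.1)ᵀ * M * g₀.1) *
            (g₀⁻¹ : GL (Fin m ⊕ Fin m) F).1
          = (((g₀⁻¹ : GL (Fin m ⊕ Fin m) F).1)ᵀ * (g₀.1)ᵀ) * M *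
            (g₀.1 * (g₀⁻¹ : GL (Fin m ⊕ Fin m) F).1) := by simp only [Matrix.mul_assoc]
        _ = M := by
          rw [← Matrix.transpose_mul, gl_mul_inv', Matrix.transpose_one, Matrix.one_mul,
            Matrix.mul_one]
    rw [Matrix.mul_smul, Matrix.smul_mul] at h2
    nth_rewrite 2 [← h2]
    rw [smul_smul, ← Units.val_mul, inv_mul_cancel, Units.val_one, one_smul]
  rw [Units.val_mul, Matrix.transpose_mul]
  calc ((g₀⁻¹ : GL (Fin m ⊕ Fin m) F).1)ᵀ * (g.1)ᵀ * M * (g.1 * (g₀⁻¹ : GL (Fin m ⊕ Fin m) F).1)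
      = ((g₀⁻¹ : GL (Fin m ⊕ Fin m) F).1)ᵀ * ((g.1)ᵀ * M * g.1) *
        (g₀⁻¹ : GL (Fin m ⊕ Fin m) F).1 := by simp only [Matrix.mul_assoc]
    _ = ((c * c₀⁻¹ : Fˣ) : F) • M := by
      rw [hg, Matrix.mul_smul, Matrix.smul_mul, h1, smul_smul, Units.val_mul]

variable [Fintype F]

/-- Every homomorphism from `PGSp_{2m}(q)`, `q` odd, `m ≥ 2`, to a commutative group has at most
two values. -/
theorem pgsp_hom_values (h2 : (2 : F) ≠ 0) (hm : 2 ≤ m) {A : Type*} [CommGroup A]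
    (f : Cfsg.PGSp m F →* A) : ∃ a₀ : A, ∀ x, f x = 1 ∨ f x = a₀ := by
  obtain ⟨F', hF'⟩ : ∃ F' : ↥(Cfsg.GSp m F) →* A, ∀ g, F' g = f (QuotientGroup.mk g) :=
    ⟨f.comp (QuotientGroup.mk' _), fun g => rfl⟩
  have hcard3 : 3 ≤ Fintype.card F := by
    by_contra hlt
    push Not at hlt
    have h1 : 1 < Fintype.card F := Fintype.one_lt_card
    have h3 : Fintype.card F = 2 := by omega
    apply h2
    have h4 : ((Fintype.card F : ℕ) : F) = 0 := Nat.cast_card_eq_zero F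
    rw [h3] at h4
    exact_mod_cast h4
  have hperf : commutator (Matrix.symplecticGroup (Fin m) F) = ⊤ := by
    apply Cfsg.Agent.Lib.Helper14.SpPerfect.commutator_symplecticGroup_eq_top
    by_cases h3 : 3 ≤ m
    · exact Or.inl h3
    · exact Or.inr (Or.inl ⟨by omega, hcard3⟩)
  -- scalars
  have hscal : ∀ (e : Fˣ) (he : scal (Fin m ⊕ Fin m) e ∈ Cfsg.GSp m F),
      F' ⟨scal (Fin m ⊕ Fin m) e, he⟩ = 1 := by
    intro e he
    rw [hF']
    have : (QuotientGroup.mk (⟨scal (Fin m ⊕ Fin m) e, he⟩ : ↥(Cfsg.GSp m F)) :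
        Cfsg.PGSp m F) = 1 := by
      rw [QuotientGroup.eq_one_iff, Subgroup.mem_subgroupOf]
      exact scal_mem e
    rw [this, map_one]
  -- the symplectic group
  have hsp : ∀ s : Matrix.symplecticGroup (Fin m) F, F' ⟨spGL m F s, spGL_mem_GSp s⟩ = 1 := by
    intro s
    exact hom_eq_one_of_perfect hperf
      (F'.comp ((spGL m F).codRestrict (Cfsg.GSp m F) spGL_mem_GSp)) s
  -- square multipliers
  have hsq : ∀ (g : ↥(Cfsg.GSp m F)) (c : Fˣ),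
      (g.1.1)ᵀ * Matrix.J (Fin m) F * g.1.1 = (c : F) • Matrix.J (Fin m) F →
      IsSquare (c : F) → F' g = 1 := by
    intro g c hc ⟨e, he⟩
    have he0 : e ≠ 0 := by
      rintro rfl
      rw [mul_zero] at he
      exact c.ne_zero he
    obtain ⟨eu, heu⟩ : ∃ eu : Fˣ, (eu : F) = e := ⟨Units.mk0 e he0, rfl⟩
    have hs : (g.1 * scal (Fin m ⊕ Fin m) eu⁻¹).1 ∈ Matrix.symplecticGroup (Fin m) F := by
      rw [SymplecticGroup.mem_iff', coe_mul_scal, Matrix.transpose_smul, Matrix.smul_mul,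
        Matrix.smul_mul, Matrix.mul_smul, hc, smul_smul, smul_smul, Units.val_inv_eq_inv_val,
        heu, he]
      have : e⁻¹ * e⁻¹ * (e * e) = 1 := by field_simp
      rw [this, one_smul]
    have hzmem : scal (Fin m ⊕ Fin m) eu ∈ Cfsg.GSp m F := by
      rw [mem_GSp_iff']
      refine ⟨eu * eu, ?_⟩
      rw [scal_coe, Matrix.transpose_smul, Matrix.transpose_one, Matrix.smul_mul, Matrix.one_mul,
        Matrix.mul_smul, Matrix.mul_one, smul_smul, Units.val_mul]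
    have hg : g = ⟨spGL m F ⟨_, hs⟩, spGL_mem_GSp _⟩ * ⟨scal (Fin m ⊕ Fin m) eu, hzmem⟩ := by
      apply Subtype.ext
      apply Units.ext
      show g.1.1 = (g.1 * scal (Fin m ⊕ Fin m) eu⁻¹).1 * (scal (Fin m ⊕ Fin m) eu).1
      rw [← Units.val_mul, mul_assoc]
      have : scal (Fin m ⊕ Fin m) eu⁻¹ * scal (Fin m ⊕ Fin m) eu =
          (1 : GL (Fin m ⊕ Fin m) F) := by
        unfold scal
        rw [← map_mul, inv_mul_cancel, map_one]
      rw [this, mul_one]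
    rw [hg, map_mul, hsp, hscal, one_mul]
  by_cases hex : ∃ (g₀ : ↥(Cfsg.GSp m F)) (c₀ : Fˣ),
      (g₀.1.1)ᵀ * Matrix.J (Fin m) F * g₀.1.1 = (c₀ : F) • Matrix.J (Fin m) F ∧
      ¬ IsSquare (c₀ : F)
  · obtain ⟨g₀, c₀, hc₀, hns₀⟩ := hex
    refine ⟨F' g₀, fun x => ?_⟩
    obtain ⟨g, rfl⟩ := QuotientGroup.mk_surjective x
    rw [← hF']
    obtain ⟨c, hc⟩ := (mem_GSp_iff' g.1).1 g.2
    by_cases hcs : IsSquare (c : F)
    · exact Or.inl (hsq g c hc hcs)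
    · right
      have h3 := sim_mul_inv (Matrix.J (Fin m) F) g.1 g₀.1 c c₀ hc hc₀
      have h4 : IsSquare (((c * c₀⁻¹ : Fˣ)) : F) := by
        rw [Units.val_mul, Cfsg.Agent.Lib.Helper25.Spin.isSquare_mul_iff c.ne_zero
          (Units.ne_zero _), Units.val_inv_eq_inv_val, isSquare_inv]
        exact ⟨fun h => absurd h hcs, fun h => absurd h hns₀⟩
      have h5 := hsq (g * g₀⁻¹) (c * c₀⁻¹) h3 h4
      rw [map_mul, map_inv, mul_inv_eq_one] at h5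
      exact h5
  · push Not at hex
    refine ⟨1, fun x => ?_⟩
    obtain ⟨g, rfl⟩ := QuotientGroup.mk_surjective x
    rw [← hF']
    obtain ⟨c, hc⟩ := (mem_GSp_iff' g.1).1 g.2
    exact Or.inl (hsq g c hc (hex g c hc))

end pgsp

end Cfsg.Agent.Lib.Helper25.GraphInv
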