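import Cfsg.Agent.Lib.Helper25.GraphInv1

set_option autoImplicit false

/-!
# Involutory graph automorphisms of `PSL_n`: centralisers and conjugacy in terms of matrices
-/

namespace Cfsg.Agent.Lib.Helper25.GraphInv

open Matrix Cfsg Cfsg.Agent.Lib.Helper18.PSLnAut Cfsg.Agent.Lib.Helper18.PSLnFld
  Cfsg.Agent.Lib.Helper25.InvTrans

section conj

variable {n : ℕ} {F : Type*} [Field F]

theorem coe_gti_mul_mul_inv (h M : GL (Fin n) F) :
    ((gti h * M * h⁻¹ : GL (Fin n) F) : Matrix (Fin n) (Fin n) F) =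
      (((h⁻¹ : GL (Fin n) F) : Matrix (Fin n) (Fin n) F))ᵀ * M.1 *
        ((h⁻¹ : GL (Fin n) F) : Matrix (Fin n) (Fin n) F) := by
  rw [Units.val_mul, Units.val_mul, gti_coe]

theorem coe_mul_scalarGL (M : GL (Fin n) F) (c : Fˣ) :
    ((M * scalarGL c : GL (Fin n) F) : Matrix (Fin n) (Fin n) F) = (c : F) • M.1 := by
  rw [Units.val_mul, scalarGL_coe, Matrix.mul_smul, Matrix.mul_one]

/-- Cancelling `h` against `h⁻¹` in a congruence. -/
theorem congr_cancel (h : GL (Fin n) F) (X : Matrix (Fin n) (Fin n) F) :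
    (h.1)ᵀ * ((((h⁻¹ : GL (Fin n) F) : Matrix (Fin n) (Fin n) F))ᵀ * X *
        ((h⁻¹ : GL (Fin n) F) : Matrix (Fin n) (Fin n) F)) * h.1 = X := by
  calc (h.1)ᵀ * ((((h⁻¹ : GL (Fin n) F) : Matrix (Fin n) (Fin n) F))ᵀ * X *
        ((h⁻¹ : GL (Fin n) F) : Matrix (Fin n) (Fin n) F)) * h.1
      = ((h.1)ᵀ * (((h⁻¹ : GL (Fin n) F) : Matrix (Fin n) (Fin n) F))ᵀ) * X *
        (((h⁻¹ : GL (Fin n) F) : Matrix (Fin n) (Fin n) F) * h.1) := by
          simp only [Matrix.mul_assoc]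
    _ = X := by
      rw [← Matrix.transpose_mul, gl_inv_mul, Matrix.transpose_one, Matrix.one_mul,
        Matrix.mul_one]

theorem congr_cancel' (h : GL (Fin n) F) (X : Matrix (Fin n) (Fin n) F) :
    (((h⁻¹ : GL (Fin n) F) : Matrix (Fin n) (Fin n) F))ᵀ * ((h.1)ᵀ * X * h.1) *
        ((h⁻¹ : GL (Fin n) F) : Matrix (Fin n) (Fin n) F) = X := by
  calc (((h⁻¹ : GL (Fin n) F) : Matrix (Fin n) (Fin n) F))ᵀ * ((h.1)ᵀ * X * h.1) *
        ((h⁻¹ : GL (Fin n) F) : Matrix (Fin n) (Fin n) F)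
      = ((((h⁻¹ : GL (Fin n) F) : Matrix (Fin n) (Fin n) F))ᵀ * (h.1)ᵀ) * X *
        (h.1 * ((h⁻¹ : GL (Fin n) F) : Matrix (Fin n) (Fin n) F)) := by
          simp only [Matrix.mul_assoc]
    _ = X := by
      rw [← Matrix.transpose_mul, gl_mul_inv, Matrix.transpose_one, Matrix.one_mul,
        Matrix.mul_one]

/-- The automorphism induced by `h` commutes with `tauG M` iff `h` is a similarity of `M`. -/
theorem conjAHom_mem_centralizer_tauG_iff (hn : 2 ≤ n) (M h : GL (Fin n) F) :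
    conjAHom h ∈ Subgroup.centralizer {tauG M} ↔
      ∃ c : Fˣ, (h.1)ᵀ * M.1 * h.1 = (c : F) • M.1 := by
  have key : conjAHom h ∈ Subgroup.centralizer {tauG M} ↔
      tauG (gti h * M * h⁻¹) = tauG M := by
    rw [Subgroup.mem_centralizer_iff, ← conj_tauG]
    constructor
    · intro hc
      have h1 := hc (tauG M) (Set.mem_singleton _)
      rw [← h1, mul_inv_cancel_right]
    · intro hc y hy
      rw [Set.mem_singleton_iff] at hy
      subst hy
      have h1 : conjAHom h * tauG M = tauG M * conjAHom h := by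
        nth_rewrite 2 [← hc]
        group
      exact h1.symm
  rw [key, tauG_eq_iff hn]
  constructor
  · rintro ⟨c, hc⟩
    refine ⟨c, ?_⟩
    have h1 : M.1 = (c : F) • ((((h⁻¹ : GL (Fin n) F) : Matrix (Fin n) (Fin n) F))ᵀ * M.1 *
        ((h⁻¹ : GL (Fin n) F) : Matrix (Fin n) (Fin n) F)) := by
      rw [← coe_gti_mul_mul_inv, ← coe_mul_scalarGL, ← hc]
    have h2 : (h.1)ᵀ * M.1 * h.1 = (h.1)ᵀ * ((c : F) •
        ((((h⁻¹ : GL (Fin n) F) : Matrix (Fin n) (Fin n) F))ᵀ * M.1 *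
        ((h⁻¹ : GL (Fin n) F) : Matrix (Fin n) (Fin n) F))) * h.1 := by rw [← h1]
    rw [h2, Matrix.mul_smul, Matrix.smul_mul, congr_cancel]
  · rintro ⟨c, hc⟩
    refine ⟨c, Units.ext ?_⟩
    rw [coe_mul_scalarGL, coe_gti_mul_mul_inv]
    have h1 : (c : F) • ((((h⁻¹ : GL (Fin n) F) : Matrix (Fin n) (Fin n) F))ᵀ * M.1 *
        ((h⁻¹ : GL (Fin n) F) : Matrix (Fin n) (Fin n) F)) =
        (((h⁻¹ : GL (Fin n) F) : Matrix (Fin n) (Fin n) F))ᵀ * ((c : F) • M.1) *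
        ((h⁻¹ : GL (Fin n) F) : Matrix (Fin n) (Fin n) F) := by
      rw [Matrix.mul_smul, Matrix.smul_mul]
    rw [h1, ← hc, congr_cancel']

/-- Congruent matrices give conjugate graph automorphisms. -/
theorem conj_of_congr (M₀ M k : GL (Fin n) F) (hk : (k.1)ᵀ * M₀.1 * k.1 = M.1) :
    Cfsg.IsConjUnder (Cfsg.inndiagPSL n F) (tauG M₀) (tauG M) := by
  refine ⟨conjAHom k⁻¹, ?_, ?_⟩
  · rw [inndiag_eq]
    exact ⟨_, rfl⟩
  · rw [conj_tauG]
    congr 1
    apply Units.ext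
    rw [coe_gti_mul_mul_inv, inv_inv, hk]

/-- Scaling the matrix does not change the automorphism. -/
theorem tauG_smul (hn : 2 ≤ n) (M M' : GL (Fin n) F) (c : Fˣ) (h : M'.1 = (c : F) • M.1) :
    tauG M' = tauG M := by
  rw [eq_comm, tauG_eq_iff hn]
  exact ⟨c, Units.ext (by rw [coe_mul_scalarGL, h])⟩

/-- Conjugate graph automorphisms have congruent matrices, up to a scalar. -/
theorem congr_of_conj (hn : 2 ≤ n) (M₀ M : GL (Fin n) F)
    (h : Cfsg.IsConjUnder (Cfsg.inndiagPSL n F) (tauG M₀) (tauG M)) :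
    ∃ (k : GL (Fin n) F) (c : Fˣ), (k.1)ᵀ * M₀.1 * k.1 = (c : F) • M.1 := by
  obtain ⟨x, hx, hxe⟩ := h
  rw [inndiag_eq] at hx
  obtain ⟨g, rfl⟩ := hx
  rw [conj_tauG, tauG_eq_iff hn] at hxe
  obtain ⟨c, hc⟩ := hxe
  refine ⟨g⁻¹, c, ?_⟩
  rw [← coe_mul_scalarGL, ← hc, coe_gti_mul_mul_inv]

/-- A skew matrix and a symmetric matrix give non-conjugate automorphisms. -/
theorem not_conj_skew_sym (hn : 2 ≤ n) (h2 : (2 : F) ≠ 0) (M₀ M : GL (Fin n) F)
    (h₀ : (M₀.1)ᵀ = -M₀.1) (hM : (M.1)ᵀ = M.1) :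
    ¬ Cfsg.IsConjUnder (Cfsg.inndiagPSL n F) (tauG M₀) (tauG M) := by
  intro h
  obtain ⟨k, c, hc⟩ := congr_of_conj hn M₀ M h
  have h1 := congrArg Matrix.transpose hc
  rw [Matrix.transpose_mul, Matrix.transpose_mul, Matrix.transpose_transpose, h₀,
    Matrix.transpose_smul, hM, ← Matrix.mul_assoc, Matrix.mul_neg, Matrix.neg_mul, hc] at h1
  have h3 : (2 : F) • ((c : F) • M.1) = 0 := by
    rw [two_smul]
    nth_rewrite 1 [← h1]
    exact neg_add_cancel _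
  rw [smul_smul] at h3
  have h4 : M.1 = 0 := by
    have h5 : (2 * (c : F)) ≠ 0 := mul_ne_zero h2 c.ne_zero
    have h6 := congrArg (fun X => (2 * (c : F))⁻¹ • X) h3
    simp only [smul_smul, inv_mul_cancel₀ h5, one_smul, smul_zero] at h6
    exact h6
  have h5 := gl_mul_inv M
  rw [h4, Matrix.zero_mul] at h5
  have h6 := congrFun (congrFun h5 ⟨0, by omega⟩) ⟨0, by omega⟩
  rw [Matrix.zero_apply, Matrix.one_apply_eq] at h6
  exact zero_ne_one h6

/-- In even dimension, conjugate graph automorphisms have the same discriminant class. -/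
theorem isSquare_det_of_conj (hn : 2 ≤ n) (heven : Even n) (M₀ M : GL (Fin n) F)
    (h : Cfsg.IsConjUnder (Cfsg.inndiagPSL n F) (tauG M₀) (tauG M)) :
    IsSquare (M₀.1.det * M.1.det) := by
  obtain ⟨k, c, hc⟩ := congr_of_conj hn M₀ M h
  have h1 := congrArg Matrix.det hc
  rw [Matrix.det_mul, Matrix.det_mul, Matrix.det_transpose, Matrix.det_smul,
    Fintype.card_fin] at h1
  obtain ⟨j, hj⟩ := heven
  have hdk : k.1.det ≠ 0 := by
    have := Matrix.GeneralLinearGroup.det_ne_zero k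
    exact this
  have hc0 : ((c : F) ^ j) ≠ 0 := pow_ne_zero _ c.ne_zero
  refine ⟨M₀.1.det * k.1.det / (c : F) ^ j, ?_⟩
  have h4 : (c : F) ^ n = (c : F) ^ j * (c : F) ^ j := by rw [hj, pow_add]
  rw [h4] at h1
  have h3 : M.1.det = k.1.det * M₀.1.det * k.1.det / ((c : F) ^ j * (c : F) ^ j) := by
    rw [h1]
    field_simp
  rw [h3]
  field_simp

end conj

end Cfsg.Agent.Lib.Helper25.GraphInv
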