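import Cfsg.Agent.Lib.Helper25.GraphInv5
import Cfsg.Agent.Lib.Helper15.SymIso

set_option autoImplicit false

/-!
# Symmetric bilinear forms of odd dimension in characteristic two: the canonical form `⟨1⟩ ⊕ J`
-/

namespace Cfsg.Agent.Lib.Helper25.GraphInv

open Module Matrix Cfsg Cfsg.Agent.Lib.Helper15.SymIso

section canon

variable {F : Type*} [Field F]

theorem dot_congr_rect {ι₁ ι₂ : Type} [Fintype ι₁] [Fintype ι₂] (P : Matrix ι₂ ι₁ F)
    (A : Matrix ι₂ ι₂ F) (u v : ι₁ → F) :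
    (P *ᵥ u) ⬝ᵥ A *ᵥ (P *ᵥ v) = u ⬝ᵥ (Pᵀ * A * P) *ᵥ v := by
  rw [← Matrix.mulVec_mulVec, ← Matrix.mulVec_mulVec, Matrix.dotProduct_mulVec u,
    Matrix.vecMul_transpose]

/-- The canonical symmetric matrix `⟨1⟩ ⊕ J`. -/
def M0 (m : ℕ) (F : Type*) [Field F] :
    Matrix (Unit ⊕ (Fin m ⊕ Fin m)) (Unit ⊕ (Fin m ⊕ Fin m)) F :=
  Matrix.fromBlocks 1 0 0 (Matrix.J (Fin m) F)

theorem bilM_M0 (m : ℕ) (u v : Unit ⊕ (Fin m ⊕ Fin m) → F) :
    bilM (M0 m F) u v = u (Sum.inl ()) * v (Sum.inl ()) +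
      Cfsg.sympForm m F (u ∘ Sum.inr) (v ∘ Sum.inr) := by
  unfold bilM M0 Cfsg.sympForm
  rw [Matrix.fromBlocks_mulVec]
  simp only [dotProduct, Fintype.sum_sum_type, Sum.elim_inl, Sum.elim_inr, Matrix.zero_mulVec,
    add_zero, zero_add, Matrix.one_mulVec, Function.comp_apply, Finset.univ_unique,
    Finset.sum_singleton]

variable [Finite F] [CharP F 2]

/-- In characteristic two, a nondegenerate symmetric bilinear form of odd dimension `2m+1` has the
canonical form `⟨1⟩ ⊕ J`. -/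
theorem exists_canon_odd {n m : ℕ} (hnm : n = 2 * m + 1) (M : Matrix (Fin n) (Fin n) F)
    (hM : Mᵀ = M) (hdet : M.det ≠ 0) :
    ∃ (P : Matrix (Unit ⊕ (Fin m ⊕ Fin m)) (Fin n) F)
      (P' : Matrix (Fin n) (Unit ⊕ (Fin m ⊕ Fin m)) F), P * P' = 1 ∧ P' * P = 1 ∧
      M = Pᵀ * M0 m F * P := by
  classical
  obtain ⟨B, hB⟩ : ∃ B : LinearMap.BilinForm F (Fin n → F), B = Matrix.toBilin' M := ⟨_, rfl⟩
  have hBa : ∀ x y, B x y = x ⬝ᵥ M *ᵥ y := by
    intro x y
    rw [hB, Matrix.toBilin'_apply']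
  have hs : ∀ x y, B x y = B y x := by
    intro x y
    rw [hBa, hBa, Matrix.dotProduct_mulVec, ← Matrix.mulVec_transpose, hM, dotProduct_comm]
  have hnd : ∀ x, (∀ y, B x y = 0) → x = 0 := by
    intro x hx
    apply (Matrix.nondegenerate_of_det_ne_zero hdet).eq_zero_of_ortho
    intro w
    rw [← hBa]
    exact hx w
  have hfrV : finrank F (Fin n → F) = n := by
    rw [Module.finrank_fintype_fun_eq_card, Fintype.card_fin]
  obtain ⟨z, hz⟩ := exists_z B hs hnd
  have hlz : lam B hs z = 1 := by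
    rcases lam_z_cases B hs z hz with h0 | h1
    · exfalso
      by_cases hz0 : z = 0
      · have halt : ∀ x, B x x = 0 := by
          intro x
          rw [← lam_sq B hs, ← hz, hz0, map_zero, LinearMap.zero_apply, zero_mul]
        obtain ⟨k', φ, hk', -⟩ := exists_symp_equiv (Fin n → F) B halt hnd
        omega
      · obtain ⟨k', hk', -⟩ := case_zero B hs hnd z hz hz0 h0
        omega
    · exact h1
  have hBzz : B z z = 1 := by rw [hz, hlz]
  -- the hyperplane
  obtain ⟨H, hH⟩ : ∃ H : Submodule F (Fin n → F), H = LinearMap.ker (lam B hs) := ⟨_, rfl⟩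
  have hHmem : ∀ x, x ∈ H ↔ lam B hs x = 0 := by
    intro x
    rw [hH, LinearMap.mem_ker]
  have hpr : ∀ x : Fin n → F, x - lam B hs x • z ∈ H := by
    intro x
    rw [hHmem, map_sub, map_smul, hlz, smul_eq_mul, mul_one, sub_self]
  have halt : ∀ x : H, (B.restrict H) x x = 0 := by
    intro x
    show B x.1 x.1 = 0
    rw [← lam_sq B hs, (hHmem x.1).1 x.2, zero_mul]
  have hBHz : ∀ x : H, B x.1 z = 0 := by
    intro x
    rw [hs, hz, (hHmem x.1).1 x.2]
  have hndH : ∀ x : H, (∀ y : H, (B.restrict H) x y = 0) → x = 0 := by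
    intro x hx
    apply Subtype.ext
    apply hnd
    intro v
    have h1 : v = (v - lam B hs v • z) + lam B hs v • z := by abel
    rw [h1, map_add, map_smul, hBHz, smul_zero, add_zero]
    exact hx ⟨_, hpr v⟩
  obtain ⟨k, φH, hk, hφH⟩ := exists_symp_equiv H (B.restrict H) halt hndH
  have hfrH : finrank F H + 1 = n := by
    have h1 := LinearMap.finrank_range_add_finrank_ker (lam B hs)
    have h2 : LinearMap.range (lam B hs) = ⊤ := by
      rw [LinearMap.range_eq_top]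
      intro c
      exact ⟨c • z, by rw [map_smul, hlz, smul_eq_mul, mul_one]⟩
    rw [h2, finrank_top, Module.finrank_self, hfrV, ← hH] at h1
    omega
  have hkm : k = m := by omega
  subst hkm
  -- the projection
  obtain ⟨pr, hprdef⟩ : ∃ pr : (Fin n → F) →ₗ[F] H, ∀ x, (pr x : Fin n → F) = x - lam B hs x • z :=
    ⟨LinearMap.codRestrict H (LinearMap.id - (lam B hs).smulRight z) (fun x => by
      show x - lam B hs x • z ∈ H
      exact hpr x), fun x => rfl⟩
  -- the coordinate map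
  obtain ⟨φ, hφl, hφr⟩ : ∃ φ : (Fin n → F) →ₗ[F] (Unit ⊕ (Fin k ⊕ Fin k) → F),
      (∀ x, φ x (Sum.inl ()) = lam B hs x) ∧ (∀ x, φ x ∘ Sum.inr = φH (pr x)) :=
    ⟨LinearMap.pi (fun i => Sum.elim (fun _ => lam B hs)
      (fun j => (LinearMap.proj j) ∘ₗ (φH : H →ₗ[F] (Fin k ⊕ Fin k → F)) ∘ₗ pr) i),
      fun x => rfl, fun x => rfl⟩
  have hform : ∀ x y, B x y = bilM (M0 k F) (φ x) (φ y) := by
    intro x y
    rw [bilM_M0, hφl, hφl, hφr, hφr, hφH]
    show B x y = lam B hs x * lam B hs y + B (pr x).1 (pr y).1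
    have hx : x = (pr x).1 + lam B hs x • z := by rw [hprdef]; abel
    have hy : y = (pr y).1 + lam B hs y • z := by rw [hprdef]; abel
    have e1 : B (pr x).1 z = 0 := hBHz (pr x)
    have e2 : B z (pr y).1 = 0 := by rw [hs]; exact hBHz (pr y)
    nth_rewrite 1 [hx, hy]
    simp only [map_add, map_smul, LinearMap.add_apply, LinearMap.smul_apply, smul_eq_mul, e1, e2,
      hBzz]
    ring
  have hinj : Function.Injective φ := by
    rw [← LinearMap.ker_eq_bot, LinearMap.ker_eq_bot']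
    intro x hx
    have h1 : lam B hs x = 0 := by rw [← hφl, hx]; rfl
    have h2 : φH (pr x) = 0 := by rw [← hφr, hx]; rfl
    have h3 : pr x = 0 := (LinearEquiv.map_eq_zero_iff φH).1 h2
    have h4 := hprdef x
    rw [h3, h1, zero_smul, sub_zero] at h4
    exact h4.symm
  have hdim : finrank F (Fin n → F) = finrank F (Unit ⊕ (Fin k ⊕ Fin k) → F) := by
    rw [hfrV, Module.finrank_fintype_fun_eq_card]
    simp only [Fintype.card_sum, Fintype.card_fin, Fintype.card_unit]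
    omega
  obtain ⟨P, P', h1, h1', hP⟩ := exists_mat_of_linearEquiv
    (LinearMap.linearEquivOfInjective φ hinj hdim)
  refine ⟨P, P', h1, h1', bil_ext _ _ fun u v => ?_⟩
  rw [← hBa, hform]
  show bilM (M0 k F) (φ u) (φ v) = u ⬝ᵥ (Pᵀ * M0 k F * P) *ᵥ v
  rw [← dot_congr_rect, hP, hP]
  rfl

end canon

end Cfsg.Agent.Lib.Helper25.GraphInv
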