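import Cfsg.Agent.Lib.Helper25.GraphInv6
import Cfsg.Agent.Lib.Helper14.OddChar2
import Cfsg.Agent.Lib.Helper5.Symp

set_option autoImplicit false

/-!
# Characteristic two: similarity groups modulo scalars are isometry groups; the isometry group of
`⟨1⟩ ⊕ J` is the symplectic group
-/

namespace Cfsg.Agent.Lib.Helper25.GraphInv

open Module Matrix Cfsg Cfsg.Agent.Lib.Helper15.SymIso

section iso

variable {ι : Type} [Fintype ι] [DecidableEq ι] {F : Type*} [Field F]

theorem gl_mul_inv' (g : GL ι F) : g.1 * ((g⁻¹ : GL ι F) : Matrix ι ι F) = 1 := by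
  rw [← Units.val_mul, mul_inv_cancel, Units.val_one]

theorem gl_inv_mul' (g : GL ι F) : ((g⁻¹ : GL ι F) : Matrix ι ι F) * g.1 = 1 := by
  rw [← Units.val_mul, inv_mul_cancel, Units.val_one]

/-- The isometry group of a matrix. -/
def isoB (M : Matrix ι ι F) : Subgroup (GL ι F) where
  carrier := {g | (g.1)ᵀ * M * g.1 = M}
  mul_mem' {a b} ha hb := by
    have ha' : (a.1)ᵀ * M * a.1 = M := ha
    have hb' : (b.1)ᵀ * M * b.1 = M := hb
    show ((a * b : GL ι F) : Matrix ι ι F)ᵀ * M * ((a * b : GL ι F) : Matrix ι ι F) = M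
    rw [Units.val_mul, Matrix.transpose_mul]
    calc (b.1)ᵀ * (a.1)ᵀ * M * (a.1 * b.1) = (b.1)ᵀ * ((a.1)ᵀ * M * a.1) * b.1 := by
          simp only [Matrix.mul_assoc]
      _ = M := by rw [ha', hb']
  one_mem' := by
    show ((1 : GL ι F) : Matrix ι ι F)ᵀ * M * ((1 : GL ι F) : Matrix ι ι F) = M
    rw [Units.val_one, Matrix.transpose_one, Matrix.one_mul, Matrix.mul_one]
  inv_mem' {a} ha := by
    have ha' : (a.1)ᵀ * M * a.1 = M := ha
    show ((a⁻¹ : GL ι F) : Matrix ι ι F)ᵀ * M * ((a⁻¹ : GL ι F) : Matrix ι ι F) = M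
    nth_rewrite 1 [← ha']
    calc ((a⁻¹ : GL ι F) : Matrix ι ι F)ᵀ * ((a.1)ᵀ * M * a.1) * ((a⁻¹ : GL ι F) : Matrix ι ι F)
        = (((a⁻¹ : GL ι F) : Matrix ι ι F)ᵀ * (a.1)ᵀ) * M *
          (a.1 * ((a⁻¹ : GL ι F) : Matrix ι ι F)) := by simp only [Matrix.mul_assoc]
      _ = M := by
        rw [← Matrix.transpose_mul, gl_mul_inv', Matrix.transpose_one, Matrix.one_mul,
          Matrix.mul_one]

theorem mem_isoB (M : Matrix ι ι F) (g : GL ι F) : g ∈ isoB M ↔ (g.1)ᵀ * M * g.1 = M := Iff.rfl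

/-- The scalar matrix of a unit, any index type. -/
def scal (ι : Type) [Fintype ι] [DecidableEq ι] {F : Type*} [Field F] (c : Fˣ) : GL ι F :=
  Units.map (Matrix.scalar ι : F →+* Matrix ι ι F).toMonoidHom c

theorem scal_coe (c : Fˣ) :
    ((scal ι c : GL ι F) : Matrix ι ι F) = (c : F) • (1 : Matrix ι ι F) := by
  show Matrix.scalar ι (c : F) = _
  rw [Matrix.scalar_apply, Matrix.smul_one_eq_diagonal]

theorem scal_mem (c : Fˣ) : (scal ι c : GL ι F) ∈ Geo.scalars ι F := ⟨c, rfl⟩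

theorem coe_mul_scal (g : GL ι F) (c : Fˣ) :
    ((g * scal ι c : GL ι F) : Matrix ι ι F) = (c : F) • g.1 := by
  rw [Units.val_mul, scal_coe, Matrix.mul_smul, Matrix.mul_one]

variable [Finite F] [CharP F 2]

/-- In characteristic two the similarity group of a nonzero matrix, modulo scalars, is its
isometry group. -/
theorem projQuot_sim_bil_char2 (M : Matrix ι ι F) (hM0 : M ≠ 0) :
    Nonempty (Cfsg.projQuot (Geo.similarityGroup (F := F) (bilM M)) ≃* ↥(isoB M)) := by
  apply projQuot_equiv_of_compl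
  · intro g hg
    rw [mem_similarityGroup_iff]
    exact ⟨1, by rw [(mem_isoB M g).1 hg, Units.val_one, one_smul]⟩
  · intro g hg
    rw [mem_similarityGroup_iff] at hg
    obtain ⟨c, hc⟩ := hg
    have he : sqrt2 (c : F) * sqrt2 (c : F) = c := sqrt2_mul_self _
    have he0 : sqrt2 (c : F) ≠ 0 := by
      intro h
      rw [h, zero_mul] at he
      exact c.ne_zero he.symm
    refine ⟨scal ι (Units.mk0 _ he0)⁻¹, scal_mem _, ?_⟩
    rw [mem_isoB, coe_mul_scal, Matrix.transpose_smul, Matrix.smul_mul, Matrix.smul_mul,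
      Matrix.mul_smul, hc, smul_smul, smul_smul, Units.val_inv_eq_inv_val, Units.val_mk0]
    have : (sqrt2 (c : F))⁻¹ * (sqrt2 (c : F))⁻¹ * (c : F) = 1 := by
      nth_rewrite 3 [← he]
      field_simp
    rw [this, one_smul]
  · intro g hg hgs
    rw [Geo.mem_scalars_iff] at hgs
    obtain ⟨c, hc⟩ := hgs
    rw [mem_isoB, hc, Matrix.transpose_smul, Matrix.transpose_one, Matrix.smul_mul,
      Matrix.one_mul, Matrix.mul_smul, Matrix.mul_one, smul_smul] at hg
    have h1 : (c : F) * (c : F) = 1 := by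
      by_contra hne
      apply hM0
      have h3 : ((c : F) * (c : F) - 1) • M = 0 := by
        rw [sub_smul, one_smul, hg, sub_self]
      rcases smul_eq_zero.1 h3 with h | h
      · exact absurd (sub_eq_zero.1 h) hne
      · exact h
    have h2 : (c : F) = 1 := sq_inj _ _ (by rw [h1, one_mul])
    apply Units.ext
    rw [hc, h2, one_smul]
    rfl

/-- In characteristic two the similarity group of a quadratic function, modulo scalars, is its
isometry group. -/
theorem projQuot_quadSim_char2 (Q : (ι → F) → F) (hQs : ∀ (c : F) v, Q (c • v) = c * c * Q v)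
    (v₀ : ι → F) (hv₀ : Q v₀ ≠ 0) :
    Nonempty (Cfsg.PGO F Q ≃* ↥(Cfsg.isometryGroup F Q)) := by
  apply projQuot_equiv_of_compl
  · intro g hg
    rw [Cfsg.Agent.Lib.Helper14.mem_isometryGroup_iff] at hg
    exact ⟨1, fun v => by rw [hg, Units.val_one, one_mul]⟩
  · rintro g ⟨c, hc⟩
    have he : sqrt2 (c : F) * sqrt2 (c : F) = c := sqrt2_mul_self _
    have he0 : sqrt2 (c : F) ≠ 0 := by
      intro h
      rw [h, zero_mul] at he
      exact c.ne_zero he.symm
    refine ⟨scal ι (Units.mk0 _ he0)⁻¹, scal_mem _, ?_⟩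
    rw [Cfsg.Agent.Lib.Helper14.mem_isometryGroup_iff]
    intro v
    rw [coe_mul_scal, Matrix.smul_mulVec, ← Matrix.mulVec_smul, hc, hQs,
      Units.val_inv_eq_inv_val, Units.val_mk0]
    have : (c : F) * ((sqrt2 (c : F))⁻¹ * (sqrt2 (c : F))⁻¹ * Q v) = Q v := by
      nth_rewrite 1 [← he]
      field_simp
    exact this
  · intro g hg hgs
    rw [Geo.mem_scalars_iff] at hgs
    obtain ⟨c, hc⟩ := hgs
    rw [Cfsg.Agent.Lib.Helper14.mem_isometryGroup_iff] at hg
    have h3 := hg v₀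
    rw [hc, Matrix.smul_mulVec, Matrix.one_mulVec, hQs] at h3
    have h1 : (c : F) * (c : F) = 1 := by
      have h4 : ((c : F) * (c : F) - 1) * Q v₀ = 0 := by linear_combination h3
      rcases mul_eq_zero.1 h4 with h | h
      · exact sub_eq_zero.1 h
      · exact absurd h hv₀
    have h2 : (c : F) = 1 := sq_inj _ _ (by rw [h1, one_mul])
    apply Units.ext
    rw [hc, h2, one_smul]
    rfl

end iso

end Cfsg.Agent.Lib.Helper25.GraphInv
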