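import Cfsg.Agent.Lib.Helper25.GraphInv7

set_option autoImplicit false

/-!
# Characteristic two, odd dimension: the isometry group of `⟨1⟩ ⊕ J` is the symplectic group,
and the centraliser of an involutory graph automorphism of `PSL_{2m+1}`
-/

namespace Cfsg.Agent.Lib.Helper25.GraphInv

open Module Matrix Cfsg Cfsg.Agent.Lib.Helper15.SymIso
  Cfsg.Agent.Lib.Helper18.PSLnAut Cfsg.Agent.Lib.Helper18.PSLnFld

section emb

variable {F : Type*} [Field F] {m : ℕ}

/-- The embedding `s ↦ 1 ⊕ s` of the symplectic group. -/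
def embSp (m : ℕ) (F : Type*) [Field F] :
    Matrix.symplecticGroup (Fin m) F →* GL (Unit ⊕ (Fin m ⊕ Fin m)) F where
  toFun s := ⟨Matrix.fromBlocks 1 0 0 s.1, Matrix.fromBlocks 1 0 0 (s⁻¹).1, by
      rw [Matrix.fromBlocks_multiply]
      simp only [Matrix.mul_one, Matrix.mul_zero, Matrix.zero_mul, add_zero, zero_add,
        sp_val_mul_inv, Matrix.fromBlocks_one], by
      rw [Matrix.fromBlocks_multiply]
      simp only [Matrix.mul_one, Matrix.mul_zero, Matrix.zero_mul, add_zero, zero_add,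
        sp_val_inv_mul, Matrix.fromBlocks_one]⟩
  map_one' := Units.ext (by
    show Matrix.fromBlocks 1 0 0 (1 : Matrix.symplecticGroup (Fin m) F).1 = 1
    rw [Submonoid.coe_one, Matrix.fromBlocks_one])
  map_mul' a b := Units.ext (by
    show Matrix.fromBlocks 1 0 0 (a * b : Matrix.symplecticGroup (Fin m) F).1 =
      Matrix.fromBlocks 1 0 0 a.1 * Matrix.fromBlocks 1 0 0 b.1
    rw [Matrix.fromBlocks_multiply, Submonoid.coe_mul]
    simp only [Matrix.mul_one, Matrix.mul_zero, Matrix.zero_mul, add_zero, zero_add])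

theorem embSp_coe (s : Matrix.symplecticGroup (Fin m) F) :
    (embSp m F s).1 = Matrix.fromBlocks 1 0 0 s.1 := rfl

theorem embSp_injective : Function.Injective (embSp m F) := by
  intro a b hab
  have h1 : Matrix.fromBlocks (1 : Matrix Unit Unit F) 0 0 a.1 = Matrix.fromBlocks 1 0 0 b.1 := by
    rw [← embSp_coe, ← embSp_coe, hab]
  exact Subtype.ext (Matrix.fromBlocks_inj.1 h1).2.2.2

theorem embSp_mem (s : Matrix.symplecticGroup (Fin m) F) : embSp m F s ∈ isoB (M0 m F) := by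
  rw [mem_isoB, embSp_coe, M0, Matrix.fromBlocks_transpose, Matrix.fromBlocks_multiply,
    Matrix.fromBlocks_multiply]
  have h1 : (s.1)ᵀ * Matrix.J (Fin m) F * s.1 = Matrix.J (Fin m) F :=
    SymplecticGroup.mem_iff'.1 s.2
  simp only [Matrix.transpose_one, Matrix.transpose_zero, Matrix.mul_one, Matrix.mul_zero,
    Matrix.zero_mul, Matrix.one_mul, add_zero, zero_add, h1]

variable [Finite F] [CharP F 2]

theorem bilM_M0_self (u : Unit ⊕ (Fin m ⊕ Fin m) → F) :
    bilM (M0 m F) u u = u (Sum.inl ()) * u (Sum.inl ()) := by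
  rw [bilM_M0, Cfsg.Agent.Lib.Helper5.sympForm_self, add_zero]

/-- An isometry of `⟨1⟩ ⊕ J` in characteristic two comes from the symplectic group. -/
theorem exists_embSp_eq (g : GL (Unit ⊕ (Fin m ⊕ Fin m)) F) (hg : g ∈ isoB (M0 m F)) :
    ∃ s, embSp m F s = g := by
  rw [mem_isoB] at hg
  have hrow : ∀ x : Unit ⊕ (Fin m ⊕ Fin m) → F, (g.1 *ᵥ x) (Sum.inl ()) = x (Sum.inl ()) := by
    intro x
    apply sq_inj
    rw [← bilM_M0_self, ← bilM_M0_self]
    unfold bilM
    rw [dot_congr, hg]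
  have hent : ∀ j, g.1 (Sum.inl ()) j = if j = Sum.inl () then 1 else 0 := by
    intro j
    have h1 := hrow (Pi.single j 1)
    rw [Matrix.mulVec_single_one] at h1
    rw [show g.1 (Sum.inl ()) j = (g.1).col j (Sum.inl ()) from rfl, h1, Pi.single_apply]
    by_cases hj : j = Sum.inl ()
    · rw [if_pos hj, if_pos hj.symm]
    · rw [if_neg hj, if_neg (fun h => hj h.symm)]
  have h11 : (g.1).toBlocks₁₁ = 1 := by
    ext i j
    rw [Matrix.toBlocks₁₁, Matrix.of_apply, hent]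
    simp
  have h12 : (g.1).toBlocks₁₂ = 0 := by
    ext i j
    rw [Matrix.toBlocks₁₂, Matrix.of_apply, hent]
    simp
  obtain ⟨c, hc⟩ : ∃ c, c = (g.1).toBlocks₂₁ := ⟨_, rfl⟩
  obtain ⟨d, hd⟩ : ∃ d, d = (g.1).toBlocks₂₂ := ⟨_, rfl⟩
  have hgb : g.1 = Matrix.fromBlocks 1 0 c d := by
    rw [← h11, ← h12, hc, hd, Matrix.fromBlocks_toBlocks]
  rw [hgb, M0, Matrix.fromBlocks_transpose, Matrix.fromBlocks_multiply,
    Matrix.fromBlocks_multiply] at hg
  simp only [Matrix.transpose_one, Matrix.transpose_zero, Matrix.mul_one, Matrix.mul_zero,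
    Matrix.zero_mul, Matrix.one_mul, add_zero, zero_add] at hg
  obtain ⟨-, h2, -, h4⟩ := Matrix.fromBlocks_inj.1 hg
  have hds : d ∈ Matrix.symplecticGroup (Fin m) F := SymplecticGroup.mem_iff'.2 h4
  have hc0 : c = 0 := by
    have h5 : cᵀ * Matrix.J (Fin m) F = 0 := by
      have h6 : cᵀ * Matrix.J (Fin m) F * d *
          ((⟨d, hds⟩ : Matrix.symplecticGroup (Fin m) F)⁻¹).1 = 0 := by
        rw [h2, Matrix.zero_mul]
      rw [Matrix.mul_assoc, sp_val_mul_inv ⟨d, hds⟩, Matrix.mul_one] at h6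
      exact h6
    have h6 : cᵀ = 0 := by
      have h7 : cᵀ * Matrix.J (Fin m) F * -Matrix.J (Fin m) F = 0 := by
        rw [h5, Matrix.zero_mul]
      rw [Matrix.mul_assoc, Matrix.mul_neg, Matrix.J_squared, neg_neg, Matrix.mul_one] at h7
      exact h7
    exact Matrix.transpose_eq_zero.1 h6
  refine ⟨⟨d, hds⟩, Units.ext ?_⟩
  rw [embSp_coe, hgb, hc0]

theorem range_embSp : (embSp m F).range = isoB (M0 m F) := by
  ext g
  constructor
  · rintro ⟨s, rfl⟩
    exact embSp_mem s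
  · intro hg
    exact exists_embSp_eq g hg

/-- The isometry group of `⟨1⟩ ⊕ J` in characteristic two is the symplectic group. -/
theorem nonempty_isoB_M0_equiv :
    Nonempty (↥(isoB (M0 m F)) ≃* ↥(Matrix.symplecticGroup (Fin m) F)) :=
  ⟨((MonoidHom.ofInjective embSp_injective).trans (MulEquiv.subgroupCongr range_embSp)).symm⟩

theorem M0_ne_zero : M0 m F ≠ 0 := by
  intro h
  have h1 := congrFun (congrFun h (Sum.inl ())) (Sum.inl ())
  rw [M0, Matrix.fromBlocks_apply₁₁, Matrix.one_apply_eq, Matrix.zero_apply] at h1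
  exact one_ne_zero h1

theorem quadFormOdd_smul (c : F) (v : Unit ⊕ (Fin m ⊕ Fin m) → F) :
    Cfsg.quadFormOdd m F (c • v) = c * c * Cfsg.quadFormOdd m F v := by
  unfold Cfsg.quadFormOdd
  rw [mul_add, Finset.mul_sum]
  congr 1
  · simp only [Pi.smul_apply, smul_eq_mul]
    ring
  · apply Finset.sum_congr rfl
    intro i _
    simp only [Pi.smul_apply, smul_eq_mul]
    ring

theorem quadFormOdd_single : Cfsg.quadFormOdd m F (Pi.single (Sum.inl ()) 1) = 1 := by
  unfold Cfsg.quadFormOdd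
  simp

/-- In characteristic two, `PGO_{2m+1}` is the symplectic group. -/
theorem nonempty_pgo_odd_equiv :
    Nonempty (Cfsg.PGO F (Cfsg.quadFormOdd m F) ≃* ↥(Matrix.symplecticGroup (Fin m) F)) := by
  obtain ⟨e1⟩ := projQuot_quadSim_char2 (Cfsg.quadFormOdd m F) quadFormOdd_smul
    (Pi.single (Sum.inl ()) 1) (by rw [quadFormOdd_single]; exact one_ne_zero)
  obtain ⟨e2⟩ := Cfsg.Agent.Lib.Helper14.OddChar2.main (F := F) (m := m)
  exact ⟨e1.trans e2⟩

/-- Characteristic two, dimension `2m+1`: the centraliser of the graph automorphism of a symmetric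
matrix is `PGO_{2m+1}`. -/
theorem nonempty_centralizer_char2_odd {n : ℕ} (hn : 2 ≤ n) (hnm : n = 2 * m + 1)
    (M : GL (Fin n) F) (hM : (M.1)ᵀ = M.1) :
    Nonempty (↥(Cfsg.inndiagPSL n F ⊓ Subgroup.centralizer {tauG M}) ≃*
      Cfsg.PGO F (Cfsg.quadFormOdd m F)) := by
  obtain ⟨P, P', h1, h1', hP⟩ := exists_canon_odd hnm M.1 hM
    (Matrix.GeneralLinearGroup.det_ne_zero M)
  obtain ⟨e1⟩ := nonempty_centralizer_bil hn (M0 m F) P P' h1 h1' M hP
  obtain ⟨e2⟩ := projQuot_sim_bil_char2 (M0 m F) M0_ne_zero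
  obtain ⟨e3⟩ := nonempty_isoB_M0_equiv (F := F) (m := m)
  obtain ⟨e4⟩ := nonempty_pgo_odd_equiv (F := F) (m := m)
  exact ⟨((e1.trans e2).trans e3).trans e4.symm⟩

/-- Characteristic two, odd dimension: all graph automorphisms of symmetric matrices are
conjugate. -/
theorem conj_char2_odd {n : ℕ} (hnm : n = 2 * m + 1)
    (M M' : GL (Fin n) F) (hM : (M.1)ᵀ = M.1) (hM' : (M'.1)ᵀ = M'.1) :
    Cfsg.IsConjUnder (Cfsg.inndiagPSL n F) (tauG M) (tauG M') := by
  obtain ⟨P, P', h1, h1', hP⟩ := exists_canon_odd hnm M.1 hM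
    (Matrix.GeneralLinearGroup.det_ne_zero M)
  obtain ⟨R, R', h3, h3', hR⟩ := exists_canon_odd hnm M'.1 hM'
    (Matrix.GeneralLinearGroup.det_ne_zero M')
  exact conj_of_canon (M0 m F) P P' h1 h1' R R' h3 h3' M M' hP hR

end emb

end Cfsg.Agent.Lib.Helper25.GraphInv
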