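import Cfsg.Agent.Lib.Helper25.GraphInv8
import Cfsg.Agent.Lib.Helper14.SpPerfect

set_option autoImplicit false

/-!
# Symmetric bilinear forms of even dimension in characteristic two: canonical forms
-/

namespace Cfsg.Agent.Lib.Helper25.GraphInv

open Module Matrix Cfsg Cfsg.Agent.Lib.Helper15.SymIso Cfsg.Agent.Lib.Helper5

section canon

variable {F : Type*} [Field F] {m : ℕ}

/-- The canonical non-alternating symmetric matrix `J + (Ja)(Ja)ᵀ`. -/
def N0 (a : Fin m ⊕ Fin m → F) : Matrix (Fin m ⊕ Fin m) (Fin m ⊕ Fin m) F :=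
  Matrix.J (Fin m) F + Matrix.vecMulVec (Matrix.J (Fin m) F *ᵥ a) (Matrix.J (Fin m) F *ᵥ a)

theorem bilM_J (x y : Fin m ⊕ Fin m → F) :
    bilM (Matrix.J (Fin m) F) x y = Cfsg.sympForm m F x y := rfl

theorem bilM_N0 (a x y : Fin m ⊕ Fin m → F) :
    bilM (N0 a) x y = Cfsg.sympForm m F x y + Cfsg.sympForm m F x a * Cfsg.sympForm m F y a := by
  unfold bilM N0 Cfsg.sympForm
  have h1 : Matrix.vecMulVec (Matrix.J (Fin m) F *ᵥ a) (Matrix.J (Fin m) F *ᵥ a) *ᵥ y =
      ((Matrix.J (Fin m) F *ᵥ a) ⬝ᵥ y) • (Matrix.J (Fin m) F *ᵥ a) := by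
    rw [Matrix.vecMulVec_mulVec]
    ext i
    simp only [Pi.smul_apply, smul_eq_mul, MulOpposite.smul_eq_mul_unop, MulOpposite.unop_op]
    ring
  rw [Matrix.add_mulVec, dotProduct_add, h1, dotProduct_smul, smul_eq_mul,
    dotProduct_comm (Matrix.J (Fin m) F *ᵥ a) y]
  ring

/-- An alternating nondegenerate form of dimension `2m` has the canonical form `J`. -/
theorem exists_canon_even_alt {n : ℕ} (hnm : n = 2 * m) (M : Matrix (Fin n) (Fin n) F)
    (hdet : M.det ≠ 0) (halt : ∀ v, v ⬝ᵥ M *ᵥ v = 0) :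
    ∃ (P : Matrix (Fin m ⊕ Fin m) (Fin n) F) (P' : Matrix (Fin n) (Fin m ⊕ Fin m) F),
      P * P' = 1 ∧ P' * P = 1 ∧ M = Pᵀ * Matrix.J (Fin m) F * P := by
  classical
  obtain ⟨B, hB⟩ : ∃ B : LinearMap.BilinForm F (Fin n → F), B = Matrix.toBilin' M := ⟨_, rfl⟩
  have hBa : ∀ x y, B x y = x ⬝ᵥ M *ᵥ y := by
    intro x y
    rw [hB, Matrix.toBilin'_apply']
  have hnd : ∀ x, (∀ y, B x y = 0) → x = 0 := by
    intro x hx
    apply (Matrix.nondegenerate_of_det_ne_zero hdet).eq_zero_of_ortho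
    intro w
    rw [← hBa]
    exact hx w
  have hfrV : finrank F (Fin n → F) = n := by
    rw [Module.finrank_fintype_fun_eq_card, Fintype.card_fin]
  obtain ⟨k, φ, hk, hφ⟩ := exists_symp_equiv (Fin n → F) B
    (fun x => by rw [hBa]; exact halt x) hnd
  have hkm : k = m := by omega
  subst hkm
  obtain ⟨P, P', h1, h1', hP⟩ := exists_mat_of_linearEquiv φ
  refine ⟨P, P', h1, h1', bil_ext _ _ fun u v => ?_⟩
  rw [← dot_congr_rect, hP, hP, ← hBa, ← hφ]
  rfl

variable [Finite F] [CharP F 2]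

theorem sympForm_comm2 (x y : Fin m ⊕ Fin m → F) :
    Cfsg.sympForm m F x y = Cfsg.sympForm m F y x := by
  rw [sympForm_swap, CharTwo.neg_eq]

/-- In characteristic two, a nondegenerate non-alternating symmetric bilinear form of dimension
`2m` has the canonical form `J + (Ja)(Ja)ᵀ`, for any nonzero `a`. -/
theorem exists_canon_even_nonalt {n : ℕ} (hnm : n = 2 * m) (a : Fin m ⊕ Fin m → F) (ha : a ≠ 0)
    (M : Matrix (Fin n) (Fin n) F) (hM : Mᵀ = M) (hdet : M.det ≠ 0)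
    (hna : ∃ v, v ⬝ᵥ M *ᵥ v ≠ 0) :
    ∃ (P : Matrix (Fin m ⊕ Fin m) (Fin n) F) (P' : Matrix (Fin n) (Fin m ⊕ Fin m) F),
      P * P' = 1 ∧ P' * P = 1 ∧ M = Pᵀ * N0 a * P := by
  classical
  obtain ⟨B, hB⟩ : ∃ B : LinearMap.BilinForm F (Fin n → F), B = Matrix.toBilin' M := ⟨_, rfl⟩
  have hBa : ∀ x y, B x y = x ⬝ᵥ M *ᵥ y := by
    intro x y
    rw [hB, Matrix.toBilin'_apply']
  have hs : ∀ x y, B x y = B y x := by
    intro x y
    rw [hBa, hBa, Matrix.dotProduct_mulVec, ← Matrix.mulVec_transpose, hM, dotProduct_comm]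
  have hnd : ∀ x, (∀ y, B x y = 0) → x = 0 := by
    intro x hx
    apply (Matrix.nondegenerate_of_det_ne_zero hdet).eq_zero_of_ortho
    intro w
    rw [← hBa]
    exact hx w
  have hfrV : finrank F (Fin n → F) = n := by
    rw [Module.finrank_fintype_fun_eq_card, Fintype.card_fin]
  obtain ⟨z, hz⟩ := exists_z B hs hnd
  have hlz : lam B hs z = 0 := by
    rcases lam_z_cases B hs z hz with h0 | h1
    · exact h0
    · exfalso
      obtain ⟨k', hk', -⟩ := case_one B hs hnd z hz h1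
      omega
  have hz0 : z ≠ 0 := by
    intro h
    obtain ⟨v, hv⟩ := hna
    apply hv
    rw [← hBa, ← lam_sq B hs, ← hz, h, map_zero, LinearMap.zero_apply, zero_mul]
  -- the alternating form
  obtain ⟨A', hA'⟩ : ∃ A' : LinearMap.BilinForm F (Fin n → F),
      ∀ x y, A' x y = B x y + lam B hs x * lam B hs y :=
    ⟨B + (lam B hs).smulRight (lam B hs), fun x y => by
      rw [LinearMap.add_apply, LinearMap.add_apply, LinearMap.smulRight_apply,
        LinearMap.smul_apply, smul_eq_mul]⟩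
  have halt' : ∀ x, A' x x = 0 := by
    intro x
    rw [hA', lam_sq]
    exact CharTwo.add_self_eq_zero _
  have hnd' : ∀ x, (∀ y, A' x y = 0) → x = 0 := by
    intro x hx
    have h1 : x + lam B hs x • z = 0 := by
      apply hnd
      intro y
      rw [map_add, LinearMap.add_apply, map_smul, LinearMap.smul_apply, hz, smul_eq_mul, ← hA']
      exact hx y
    have h2 : lam B hs x = 0 := by
      have h3 := congrArg (lam B hs) h1
      rw [map_add, map_smul, hlz, smul_zero, add_zero, map_zero] at h3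
      exact h3
    rw [h2, zero_smul, add_zero] at h1
    exact h1
  obtain ⟨k, φ, hk, hφ⟩ := exists_symp_equiv (Fin n → F) A' halt' hnd'
  have hkm : k = m := by omega
  subst hkm
  have hφz : φ z ≠ 0 := by
    intro h
    exact hz0 ((LinearEquiv.map_eq_zero_iff φ).1 h)
  obtain ⟨s, -, hs'⟩ := transv_trans1 (φ z) a hφz ha
  have hlam : ∀ x, lam B hs x = Cfsg.sympForm k F (φ x) (φ z) := by
    intro x
    rw [sympForm_comm2, hφ, hA', hlz, zero_mul, add_zero, hz]
  obtain ⟨P₁, P₁', h1, h1', hP₁⟩ := exists_mat_of_linearEquiv φ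
  refine ⟨s.1 * P₁, P₁' * (s⁻¹).1, ?_, ?_, bil_ext _ _ fun u v => ?_⟩
  · calc s.1 * P₁ * (P₁' * (s⁻¹).1) = s.1 * ((P₁ * P₁') * (s⁻¹).1) := by
          simp only [Matrix.mul_assoc]
      _ = 1 := by rw [h1, Matrix.one_mul, sp_val_mul_inv]
  · calc P₁' * (s⁻¹).1 * (s.1 * P₁) = P₁' * (((s⁻¹).1 * s.1) * P₁) := by
          simp only [Matrix.mul_assoc]
      _ = 1 := by rw [sp_val_inv_mul, Matrix.one_mul, h1']
  · rw [← dot_congr_rect, ← Matrix.mulVec_mulVec, ← Matrix.mulVec_mulVec, hP₁, hP₁]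
    show _ = bilM (N0 a) (s.1 *ᵥ φ u) (s.1 *ᵥ φ v)
    rw [bilM_N0, sympForm_mulVec_of_mem s.2, ← hs', sympForm_mulVec_of_mem s.2,
      sympForm_mulVec_of_mem s.2, ← hlam, ← hlam, hφ, hA', ← hBa, add_assoc,
      CharTwo.add_self_eq_zero, add_zero]

end canon

end Cfsg.Agent.Lib.Helper25.GraphInv
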