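import Cfsg.Agent.Lib.Helper25.ReflClass
import Cfsg.Agent.Lib.Helper15.QuadClass

set_option autoImplicit false

/-!
# Linear algebra for involutory graph automorphisms of orthogonal groups (odd characteristic)

Similarities whose square is a scalar: eigenvectors of involutive isometries, and vectors
orthogonal to their image.
-/

namespace Cfsg.Agent.Lib.Helper25.GraphSplit

open Module QuadraticMap Cfsg.Agent.Lib.Helper25.CD Cfsg.Agent.Lib.Helper25.Spin
  Cfsg.Agent.Lib.Helper25.ReflClass

section lin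

variable {F : Type*} [Field F] {V : Type*} [AddCommGroup V] [Module F V] (Q : QuadraticForm F V)

/-- The polar form under a similarity. -/
theorem polar_map (f : V →ₗ[F] V) (μ : F) (hf : ∀ x, Q (f x) = μ * Q x) (x y : V) :
    polar Q (f x) (f y) = μ * polar Q x y := by
  unfold polar
  rw [← map_add, hf, hf, hf]
  ring

/-- An involutive isometry other than `-1` fixes a nonsingular vector. -/
theorem exists_fixed_nonsingular (h2 : (2 : F) ≠ 0) (hQ : (polarBilin Q).Nondegenerate)
    (σ : V →ₗ[F] V) (hσ : ∀ x, Q (σ x) = Q x) (hσσ : ∀ x, σ (σ x) = x)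
    (hne : ∃ x, σ x ≠ -x) : ∃ u, σ u = u ∧ Q u ≠ 0 := by
  obtain ⟨v, hv⟩ := hne
  have hpol : ∀ x y, polar Q (σ x) (σ y) = polar Q x y := fun x y => by
    have := polar_map Q σ 1 (fun x => by rw [hσ, one_mul]) x y
    rwa [one_mul] at this
  have hadj : ∀ x y, polar Q x (σ y) = polar Q (σ x) y := fun x y => by
    rw [← hpol x (σ y), hσσ]
  have hfix : ∀ y, σ (y + σ y) = y + σ y := fun y => by rw [map_add, hσσ, add_comm]
  obtain ⟨u₀, hu₀⟩ : ∃ u₀, u₀ = v + σ v := ⟨_, rfl⟩
  have hfu : σ u₀ = u₀ := by rw [hu₀]; exact hfix v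
  have hu₀0 : u₀ ≠ 0 := by
    intro h
    apply hv
    rw [hu₀] at h
    exact eq_neg_of_add_eq_zero_right h
  obtain ⟨y, hy⟩ : ∃ y, polar Q u₀ y ≠ 0 := by
    by_contra hcon
    push Not at hcon
    exact hu₀0 (hQ.1 u₀ hcon)
  have h3 : polar Q u₀ (y + σ y) = 2 * polar Q u₀ y := by
    rw [polar_add_right, hadj, hfu]
    ring
  by_cases h4 : Q u₀ = 0
  · by_cases h5 : Q (y + σ y) = 0
    · refine ⟨u₀ + (y + σ y), by rw [map_add, hfix, hfu], ?_⟩
      rw [QuadraticMap.map_add (⇑Q), h4, h5, h3, zero_add, zero_add]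
      exact mul_ne_zero h2 hy
    · exact ⟨y + σ y, hfix y, h5⟩
  · exact ⟨u₀, hfu, h4⟩

/-- Two orthogonal nonsingular eigenvectors for the same eigenvalue give an eigenvector whose
norm lies in the other square class. -/
theorem exists_eigen_nonsquare [Fintype F] (h2 : (2 : F) ≠ 0) (σ : V →ₗ[F] V) (e : F)
    {u x : V} (hu : σ u = e • u) (hx : σ x = e • x) (hQu : Q u ≠ 0) (hQx : Q x ≠ 0)
    (hux : polar Q u x = 0) :
    ∃ w, σ w = e • w ∧ Q w ≠ 0 ∧ ¬ IsSquare (Q u * Q w) := by
  obtain ⟨ε, hε⟩ := FiniteField.exists_nonsquare (F := F) (ringChar_ne_two h2)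
  have hε0 : ε ≠ 0 := by
    rintro rfl
    exact hε ⟨0, by simp⟩
  have hd : 4 * Q u * Q x - polar Q u x ^ 2 ≠ 0 := by
    rw [hux]
    have h4 : (4 : F) ≠ 0 := by
      have : (4 : F) = 2 * 2 := by norm_num
      rw [this]
      exact mul_ne_zero h2 h2
    simpa using mul_ne_zero (mul_ne_zero h4 hQu) hQx
  obtain ⟨s, t, hst⟩ := exists_plane_rep Q hd (ε * Q u)
  refine ⟨s • u + t • x, ?_, ?_, ?_⟩
  · rw [map_add, map_smul, map_smul, hu, hx, smul_add, smul_comm s e u, smul_comm t e x]
  · rw [hst]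
    exact mul_ne_zero hε0 hQu
  · rw [hst]
    intro h
    apply hε
    have e1 : Q u * (ε * Q u) = Q u ^ 2 * ε := by ring
    rw [e1] at h
    exact (isSquare_sq_mul_iff' hQu).1 h

/-- An involutive isometry other than `±1` has two nonsingular eigenvectors for the same
eigenvalue whose norms lie in different square classes. -/
theorem exists_eigen_pair [Fintype F] [FiniteDimensional F V] (h2 : (2 : F) ≠ 0)
    (hQ : (polarBilin Q).Nondegenerate) (hdim : 4 ≤ finrank F V)
    (σ : V →ₗ[F] V) (hσ : ∀ x, Q (σ x) = Q x) (hσσ : ∀ x, σ (σ x) = x)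
    (hne1 : ∃ x, σ x ≠ x) (hne2 : ∃ x, σ x ≠ -x) :
    ∃ (e : F) (u w : V), e ≠ 0 ∧ σ u = e • u ∧ σ w = e • w ∧ Q u ≠ 0 ∧ Q w ≠ 0 ∧
      ¬ IsSquare (Q u * Q w) := by
  have hpol : ∀ x y, polar Q (σ x) (σ y) = polar Q x y := fun x y => by
    have := polar_map Q σ 1 (fun x => by rw [hσ, one_mul]) x y
    rwa [one_mul] at this
  have hadj : ∀ x y, polar Q x (σ y) = polar Q (σ x) y := fun x y => by
    rw [← hpol x (σ y), hσσ]
  obtain ⟨up, hup, hQup⟩ := exists_fixed_nonsingular Q h2 hQ σ hσ hσσ hne2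
  obtain ⟨um, hum, hQum⟩ := exists_fixed_nonsingular Q h2 hQ (-σ)
    (fun x => by rw [LinearMap.neg_apply, QuadraticMap.map_neg, hσ])
    (fun x => by
      rw [LinearMap.neg_apply, LinearMap.neg_apply, map_neg, neg_neg, hσσ])
    (by
      obtain ⟨x, hx⟩ := hne1
      refine ⟨x, fun h => hx ?_⟩
      rw [LinearMap.neg_apply] at h
      exact neg_injective h)
  have hum' : σ um = -um := by
    rw [LinearMap.neg_apply, neg_eq_iff_eq_neg] at hum
    exact hum
  have horth : polar Q up um = 0 := by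
    have h1 := hpol up um
    rw [hup, hum', polar_neg_right] at h1
    have h3 : (2 : F) * polar Q up um = 0 := by linear_combination -h1
    exact (mul_eq_zero.1 h3).resolve_left h2
  obtain ⟨x, hQx, hperp⟩ := exists_perp_rep Q h2 hQ ![up, um]
    (by
      intro i
      fin_cases i
      · exact hQup
      · exact hQum)
    (by
      intro i j hij
      fin_cases i <;> fin_cases j
      · exact absurd rfl hij
      · exact horth
      · show polar Q um up = 0
        rw [polar_comm]
        exact horth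
      · exact absurd rfl hij)
    (by omega) 1
  have hxp : polar Q up x = 0 := hperp 0
  have hxm : polar Q um x = 0 := hperp 1
  have hsum : Q (x + σ x) + Q (x - σ x) = 4 := by
    rw [sub_eq_add_neg, QuadraticMap.map_add (⇑Q), QuadraticMap.map_add (⇑Q) x (-σ x),
      QuadraticMap.map_neg, hσ, hQx, polar_neg_right]
    ring
  have h4 : (4 : F) ≠ 0 := by
    have : (4 : F) = 2 * 2 := by norm_num
    rw [this]
    exact mul_ne_zero h2 h2
  by_cases hp : Q (x + σ x) = 0
  · have hm : Q (x - σ x) ≠ 0 := by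
      intro hm
      rw [hp, hm, add_zero] at hsum
      exact h4 hsum.symm
    have hfix : σ (x - σ x) = (-1 : F) • (x - σ x) := by
      rw [map_sub, hσσ, neg_one_smul, neg_sub]
    have hum'' : σ um = (-1 : F) • um := by rw [hum', neg_one_smul]
    have hperp' : polar Q um (x - σ x) = 0 := by
      rw [polar_sub_right, hadj, hum', polar_neg_left, hxm]
      ring
    obtain ⟨w, hw1, hw2, hw3⟩ := exists_eigen_nonsquare Q h2 σ (-1) hum'' hfix hQum hm hperp'
    exact ⟨-1, um, w, by simp, hum'', hw1, hQum, hw2, hw3⟩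
  · have hfix : σ (x + σ x) = (1 : F) • (x + σ x) := by
      rw [map_add, hσσ, one_smul, add_comm]
    have hup'' : σ up = (1 : F) • up := by rw [hup, one_smul]
    have hperp' : polar Q up (x + σ x) = 0 := by
      rw [polar_add_right, hadj, hup, hxp]
      ring
    obtain ⟨w, hw1, hw2, hw3⟩ := exists_eigen_nonsquare Q h2 σ 1 hup'' hfix hQup hp hperp'
    exact ⟨1, up, w, one_ne_zero, hup'', hw1, hQup, hw2, hw3⟩

/-- A similarity with nonsquare multiplier `μ` whose square is the scalar `±μ` maps some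
nonsingular vector to a vector orthogonal to it. -/
theorem exists_perp_image [Fintype F] [FiniteDimensional F V] (h2 : (2 : F) ≠ 0)
    (hQ : (polarBilin Q).Nondegenerate) (hdim : 3 ≤ finrank F V)
    (f : V →ₗ[F] V) (μ lam : F) (hμ : ¬ IsSquare μ) (hf : ∀ x, Q (f x) = μ * Q x)
    (hff : ∀ x, f (f x) = lam • x) (hlam : lam = μ ∨ lam = -μ) :
    ∃ u, Q u ≠ 0 ∧ polar Q u (f u) = 0 := by
  have hμ0 : μ ≠ 0 := by
    rintro rfl
    exact hμ ⟨0, by simp⟩
  have hpol := polar_map Q f μ hf
  rcases hlam with hl | hl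
  · -- the self-adjoint case
    rw [hl] at hff
    have hadj : ∀ x y, polar Q (f x) y = polar Q x (f y) := by
      intro x y
      have h1 := hpol x (f y)
      rw [hff, polar_smul_right, smul_eq_mul] at h1
      exact mul_left_cancel₀ hμ0 h1
    obtain ⟨R, hR⟩ : ∃ R : QuadraticForm F V, ∀ x, R x = polar Q x (f x) :=
      ⟨LinearMap.BilinMap.toQuadraticMap ((polarBilin Q).compl₂ f), fun x => by
        rw [LinearMap.BilinMap.toQuadraticMap_apply, LinearMap.compl₂_apply]
        rfl⟩
    obtain ⟨x, hx0, hRx⟩ := Cfsg.Agent.Lib.Helper15.exists_singular_of_three_le R hdim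
    rw [hR] at hRx
    by_cases hQx : Q x = 0
    · obtain ⟨y, hy⟩ : ∃ y, polar Q x y ≠ 0 := by
        by_contra hcon
        push Not at hcon
        exact hx0 (hQ.1 x hcon)
      obtain ⟨p, hp⟩ : ∃ p, p = polar Q x y := ⟨_, rfl⟩
      obtain ⟨s, hs⟩ : ∃ s, s = polar Q x (f y) := ⟨_, rfl⟩
      obtain ⟨r, hr⟩ : ∃ r, r = polar Q y (f y) := ⟨_, rfl⟩
      obtain ⟨q, hq⟩ : ∃ q, q = Q y := ⟨_, rfl⟩
      have hp0 : p ≠ 0 := by rw [hp]; exact hy
      have hΔ : μ * p ^ 2 - s ^ 2 ≠ 0 := by
        intro h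
        apply hμ
        refine ⟨s / p, ?_⟩
        field_simp
        linear_combination h
      have h2Δ : 2 * (μ * p ^ 2 - s ^ 2) ≠ 0 := mul_ne_zero h2 hΔ
      obtain ⟨a, ha⟩ : ∃ a, a = ((1 - q) * (2 * μ * p) + r * s) / (2 * (μ * p ^ 2 - s ^ 2)) :=
        ⟨_, rfl⟩
      obtain ⟨b, hb⟩ : ∃ b, b = (-(p * r) - 2 * s * (1 - q)) / (2 * (μ * p ^ 2 - s ^ 2)) :=
        ⟨_, rfl⟩
      have e1 : a * p + b * s = 1 - q := by
        rw [ha, hb]
        field_simp
        ring
      have e2 : 2 * (a * s + b * (μ * p)) = -r := by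
        rw [ha, hb]
        field_simp
        ring
      have hQfx : Q (f x) = 0 := by rw [hf, hQx, mul_zero]
      have k1 : polar Q x (f x) = 0 := hRx
      have k2 : polar Q (f x) y = s := by rw [hadj, hs]
      have k3 : polar Q (f x) (f y) = μ * p := by rw [hpol, hp]
      have k4 : polar Q y (f x) = s := by rw [polar_comm, k2]
      have k5 : polar Q y x = p := by rw [polar_comm, hp]
      have k6 : polar Q (f x) x = 0 := by rw [polar_comm, k1]
      have k7 : polar Q x x = 0 := by rw [polar_self', hQx, mul_zero]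
      have k8 : polar Q (f x) (f x) = 0 := by rw [polar_self', hQfx, mul_zero]
      refine ⟨a • x + b • f x + y, ?_, ?_⟩
      · have : Q (a • x + b • f x + y) = 1 := by
          rw [QuadraticMap.map_add (⇑Q), Q_lin, polar_add_left, polar_smul_left,
            polar_smul_left, hQx, hQfx, k1, k2, ← hp, ← hq, smul_eq_mul, smul_eq_mul]
          linear_combination e1
        rw [this]
        exact one_ne_zero
      · have efz : f (a • x + b • f x + y) = a • f x + (b * μ) • x + f y := by
          rw [map_add, map_add, map_smul, map_smul, hff, smul_smul]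
        rw [efz]
        simp only [polar_add_left, polar_add_right, polar_smul_left, polar_smul_right,
          smul_eq_mul]
        rw [k1, k3, k4, k5, k6, k7, k8, ← hs, ← hr]
        linear_combination (1 : F) * e2
    · exact ⟨x, hQx, hRx⟩
  · -- the skew-adjoint case
    rw [hl] at hff
    have hfin : 2 ≤ finrank F V := by omega
    obtain ⟨u, hu⟩ := exists_rep Q hQ hfin 1
    refine ⟨u, by rw [hu]; exact one_ne_zero, ?_⟩
    have h1 := hpol u (f u)
    rw [hff, polar_smul_right, smul_eq_mul, polar_comm] at h1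
    have h3 : (2 * μ) * polar Q u (f u) = 0 := by linear_combination -h1
    exact (mul_eq_zero.1 h3).resolve_left (mul_ne_zero h2 hμ0)

end lin

end Cfsg.Agent.Lib.Helper25.GraphSplit
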