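import Cfsg.Agent.Lib.Helper25.GraphSplit1
import Cfsg.Agent.Lib.Helper25.POmegaSim6
import Cfsg.Agent.Lib.Helper25.ReflF3

set_option autoImplicit false

/-!
# An improper similarity with scalar square commutes with an element of `SO ∖ Ω`
-/

namespace Cfsg.Agent.Lib.Helper25.GraphSplit

open Module QuadraticMap Matrix Cfsg.Agent.Lib.Helper25.CD Cfsg.Agent.Lib.Helper25.Spin
  Cfsg.Agent.Lib.Helper25.PSim Cfsg.Agent.Lib.Helper25.PAut Cfsg.Agent.Lib.Helper25.ReflClass

universe u

section key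

variable {ι : Type} [Fintype ι] [DecidableEq ι] {F : Type u} [Field F]
  (Q : QuadraticForm F (ι → F)) (u₀ : ι → F) (hu₀ : Q u₀ = 1)

/-- A scalar similarity is proper. -/
theorem proper_of_scalar {m : ℕ} (hcard : Fintype.card ι = 2 * m)
    (g : ↥(Cfsg.Geo.quadSimilarityGroup (F := F) ⇑Q)) (c : F)
    (hc : ∀ x, (g.1 : Matrix ι ι F) *ᵥ x = c • x) : IsProper Q u₀ hu₀ m g := by
  unfold IsProper
  have hG : (g.1 : Matrix ι ι F) = c • (1 : Matrix ι ι F) := by
    apply matrix_eq_of_mulVec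
    intro x
    rw [hc, Matrix.smul_mulVec, Matrix.one_mulVec]
  rw [mult_val, hc, QuadraticMap.map_smul, hu₀, hG, Matrix.det_smul, Matrix.det_one, hcard,
    smul_eq_mul]
  ring

/-- A similarity with multiplier `c²` and square `-c²` is proper. -/
theorem proper_of_sq_neg (hQ : (polarBilin Q).Nondegenerate) (h2 : (2 : F) ≠ 0) {m : ℕ}
    (hcard : Fintype.card ι = 2 * m)
    (g : ↥(Cfsg.Geo.quadSimilarityGroup (F := F) ⇑Q)) (c : F)
    (hc : (mult Q u₀ hu₀ g : F) = c * c)
    (hsq : ∀ x, (g.1 : Matrix ι ι F) *ᵥ ((g.1 : Matrix ι ι F) *ᵥ x) = (-(c * c)) • x) :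
    IsProper Q u₀ hu₀ m g := by
  unfold IsProper
  obtain ⟨G, hG⟩ : ∃ G : Matrix ι ι F, G = (g.1 : Matrix ι ι F) := ⟨_, rfl⟩
  obtain ⟨J, hJ⟩ : ∃ J : Matrix ι ι F, J = LinearMap.BilinForm.toMatrix' (polarBilin Q) :=
    ⟨_, rfl⟩
  have hc0 : c ≠ 0 := by
    intro h
    have := Units.ne_zero (mult Q u₀ hu₀ g)
    rw [hc, h, mul_zero] at this
    exact this rfl
  have hT : Gᵀ * J * G = (c * c) • J := by
    have hcomp : LinearMap.BilinForm.comp (polarBilin Q) (Matrix.toLin' G) (Matrix.toLin' G) =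
        (c * c) • polarBilin Q := by
      apply LinearMap.ext
      intro x
      apply LinearMap.ext
      intro y
      rw [LinearMap.BilinForm.comp_apply, Matrix.toLin'_apply, Matrix.toLin'_apply,
        polarBilin_apply_apply, hG, polar_sim Q u₀ hu₀, hc]
      rfl
    have h1 := congrArg LinearMap.BilinForm.toMatrix' hcomp
    rw [LinearMap.BilinForm.toMatrix'_comp, LinearMap.toMatrix'_toLin', map_smul] at h1
    rw [hJ]
    exact h1
  have hGG : G * G = (-(c * c)) • (1 : Matrix ι ι F) := by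
    apply matrix_eq_of_mulVec
    intro x
    rw [← Matrix.mulVec_mulVec, hG, hsq, Matrix.smul_mulVec, Matrix.one_mulVec]
  have hJdet : J.det ≠ 0 := by
    rw [hJ, ← Matrix.nondegenerate_iff_det_ne_zero]
    exact LinearMap.BilinForm.nondegenerate_toMatrix'_iff.2 hQ
  have hGdet : G.det ≠ 0 := by
    rw [hG]
    have := (Matrix.isUnit_iff_isUnit_det _).1 (g.1.isUnit)
    exact this.ne_zero
  obtain ⟨P, hP⟩ : ∃ P : Matrix ι ι F, P = c • (1 : Matrix ι ι F) + G := ⟨_, rfl⟩
  obtain ⟨M, hM⟩ : ∃ M : Matrix ι ι F, M = c • (1 : Matrix ι ι F) - G := ⟨_, rfl⟩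
  have e1 : Pᵀ * J * G = J * M * G := by
    have a1 : Pᵀ * J * G = c • (J * G) + Gᵀ * J * G := by
      rw [hP, Matrix.transpose_add, Matrix.transpose_smul, Matrix.transpose_one, Matrix.add_mul,
        Matrix.add_mul, Matrix.smul_mul, Matrix.smul_mul, Matrix.one_mul]
    have a2 : J * M * G = c • (J * G) - J * (G * G) := by
      rw [hM, Matrix.mul_sub, Matrix.sub_mul, Matrix.mul_smul, Matrix.smul_mul, Matrix.mul_one,
        Matrix.mul_assoc J G G]
    rw [a1, a2, hT, hGG, Matrix.mul_smul, Matrix.mul_one, neg_smul, sub_neg_eq_add]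
  have e2 : P.det = M.det := by
    have := congrArg Matrix.det e1
    rw [Matrix.det_mul, Matrix.det_mul, Matrix.det_mul, Matrix.det_mul, Matrix.det_transpose]
      at this
    have h3 : P.det * (J.det * G.det) = M.det * (J.det * G.det) := by linear_combination this
    exact mul_right_cancel₀ (mul_ne_zero hJdet hGdet) h3
  have e3 : P * G = (-c) • M := by
    rw [hP, hM, Matrix.add_mul, Matrix.smul_mul, Matrix.one_mul, hGG, smul_sub, smul_smul]
    have e : (-c) * c = -(c * c) := by ring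
    rw [e]
    simp only [neg_smul]
    abel
  have e4 : P * M = (2 * (c * c)) • (1 : Matrix ι ι F) := by
    rw [hP, hM, Matrix.add_mul, Matrix.mul_sub, Matrix.mul_sub, hGG, Matrix.smul_mul,
      Matrix.smul_mul, Matrix.one_mul, Matrix.one_mul, Matrix.mul_smul, Matrix.mul_one,
      smul_smul, neg_smul]
    rw [two_mul, add_smul]
    abel
  have hPdet : P.det ≠ 0 := by
    intro h
    have := congrArg Matrix.det e4
    rw [Matrix.det_mul, h, zero_mul, Matrix.det_smul, Matrix.det_one, mul_one] at this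
    exact pow_ne_zero _ (mul_ne_zero h2 (mul_ne_zero hc0 hc0)) this.symm
  have e5 := congrArg Matrix.det e3
  rw [Matrix.det_mul, Matrix.det_smul, ← e2, hcard] at e5
  have e6 : G.det = (-c) ^ (2 * m) := by
    apply mul_left_cancel₀ hPdet
    rw [e5]
    ring
  rw [← hG, e6, hc]
  rw [pow_mul, neg_sq, pow_two]

end key

section key2

variable {ι : Type} [Fintype ι] [DecidableEq ι] {F : Type u} [Field F] [Fintype F]
  (Q : QuadraticForm F (ι → F)) (u₀ : ι → F) (hu₀ : Q u₀ = 1)

include hu₀ in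
/-- Conjugating a product of two reflections by a similarity. -/
theorem conj_pair (d : ↥(Cfsg.Geo.quadSimilarityGroup (F := F) ⇑Q)) (u w : ι → F) :
    d * incl ⇑Q (reflM Q u * reflM Q w) * d⁻¹ =
      incl ⇑Q (reflM Q ((d.1 : Matrix ι ι F) *ᵥ u) * reflM Q ((d.1 : Matrix ι ι F) *ᵥ w)) := by
  rw [map_mul, map_mul, ← conj_refl Q u₀ hu₀ d u, ← conj_refl Q u₀ hu₀ d w]
  group

/-- An improper similarity whose square is a scalar commutes with a product of two reflections
whose spinor norm is not a square. -/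
theorem exists_commuting_pair (h2 : (2 : F) ≠ 0) (hQ : (polarBilin Q).Nondegenerate) {m : ℕ}
    (hcard : Fintype.card ι = 2 * m) (hn : 4 ≤ Fintype.card ι)
    (g : ↥(Cfsg.Geo.quadSimilarityGroup (F := F) ⇑Q)) (hg : ¬ IsProper Q u₀ hu₀ m g) (lam : F)
    (hsq : ∀ x, (g.1 : Matrix ι ι F) *ᵥ ((g.1 : Matrix ι ι F) *ᵥ x) = lam • x) :
    ∃ u w : ι → F, Q u ≠ 0 ∧ Q w ≠ 0 ∧ ¬ IsSquare (Q u * Q w) ∧
      g * incl ⇑Q (reflM Q u * reflM Q w) * g⁻¹ = incl ⇑Q (reflM Q u * reflM Q w) := by
  obtain ⟨μ, hμ⟩ : ∃ μ : F, μ = (mult Q u₀ hu₀ g : F) := ⟨_, rfl⟩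
  have hμ0 : μ ≠ 0 := by rw [hμ]; exact Units.ne_zero _
  obtain ⟨f, hfdef⟩ : ∃ f : (ι → F) →ₗ[F] (ι → F), f = (toLE g.1).toLinearMap := ⟨_, rfl⟩
  have hfa : ∀ x, f x = (g.1 : Matrix ι ι F) *ᵥ x := fun x => by rw [hfdef]; rfl
  have hf : ∀ x, Q (f x) = μ * Q x := fun x => by rw [hfa, Q_sim Q u₀ hu₀, hμ]
  have hff : ∀ x, f (f x) = lam • x := fun x => by rw [hfa, hfa, hsq]
  have hfin : finrank F (ι → F) = Fintype.card ι := Module.finrank_fintype_fun_eq_card F
  have hlam : lam = μ ∨ lam = -μ := by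
    have h1 : Q (f (f u₀)) = μ * μ := by rw [hf, hf, hu₀, mul_one]
    rw [hff, QuadraticMap.map_smul, hu₀, smul_eq_mul, mul_one] at h1
    have h3 : (lam - μ) * (lam + μ) = 0 := by linear_combination h1
    rcases mul_eq_zero.1 h3 with h | h
    · left; linear_combination h
    · right; linear_combination h
  have hlam0 : lam ≠ 0 := by
    rcases hlam with h | h
    · rw [h]; exact hμ0
    · rw [h]; exact neg_ne_zero.2 hμ0
  by_cases hsqμ : IsSquare μ
  · obtain ⟨c, hc⟩ := hsqμ
    have hc0 : c ≠ 0 := by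
      rintro rfl
      rw [mul_zero] at hc
      exact hμ0 hc
    rcases hlam with hl | hl
    · -- involution case
      obtain ⟨σ, hσdef⟩ : ∃ σ : (ι → F) →ₗ[F] (ι → F), σ = c⁻¹ • f := ⟨_, rfl⟩
      have hσa : ∀ x, σ x = c⁻¹ • f x := fun x => by rw [hσdef]; rfl
      have hσ : ∀ x, Q (σ x) = Q x := by
        intro x
        rw [hσa, QuadraticMap.map_smul, hf, hc, smul_eq_mul]
        field_simp
      have hσσ : ∀ x, σ (σ x) = x := by
        intro x
        rw [hσa, hσa, map_smul, hff, smul_smul, smul_smul, hl, hc]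
        have : c⁻¹ * c⁻¹ * (c * c) = 1 := by field_simp
        rw [this, one_smul]
      have hne1 : ∃ x, σ x ≠ x := by
        by_contra hcon
        push Not at hcon
        apply hg
        apply proper_of_scalar Q u₀ hu₀ hcard g c
        intro x
        rw [← hfa]
        have := hcon x
        rw [hσa] at this
        rw [inv_smul_eq_iff₀ hc0] at this
        exact this
      have hne2 : ∃ x, σ x ≠ -x := by
        by_contra hcon
        push Not at hcon
        apply hg
        apply proper_of_scalar Q u₀ hu₀ hcard g (-c)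
        intro x
        rw [← hfa]
        have := hcon x
        rw [hσa, inv_smul_eq_iff₀ hc0] at this
        rw [this, smul_neg, neg_smul]
      obtain ⟨e, u, w, he0, hu, hw, hQu, hQw, hns⟩ :=
        exists_eigen_pair Q h2 hQ (by rw [hfin]; exact hn) σ hσ hσσ hne1 hne2
      refine ⟨u, w, hQu, hQw, hns, ?_⟩
      have hgu : (g.1 : Matrix ι ι F) *ᵥ u = (c * e) • u := by
        rw [← hfa]
        rw [hσa, inv_smul_eq_iff₀ hc0] at hu
        rw [hu, smul_smul]
      have hgw : (g.1 : Matrix ι ι F) *ᵥ w = (c * e) • w := by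
        rw [← hfa]
        rw [hσa, inv_smul_eq_iff₀ hc0] at hw
        rw [hw, smul_smul]
      rw [conj_pair Q u₀ hu₀, hgu, hgw, reflM_smul Q (mul_ne_zero hc0 he0),
        reflM_smul Q (mul_ne_zero hc0 he0)]
    · exfalso
      apply hg
      apply proper_of_sq_neg Q u₀ hu₀ hQ h2 hcard g c (by rw [← hμ, hc])
      intro x
      rw [hsq, hl, hc]
  · obtain ⟨u, hQu, hperp⟩ := exists_perp_image Q h2 hQ (by rw [hfin]; omega) f μ lam hsqμ hf hff
      hlam
    refine ⟨u, f u, hQu, ?_, ?_, ?_⟩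
    · rw [hf]
      exact mul_ne_zero hμ0 hQu
    · rw [hf]
      intro h
      apply hsqμ
      have e1 : Q u * (μ * Q u) = Q u ^ 2 * μ := by ring
      rw [e1] at h
      exact (isSquare_sq_mul_iff' hQu).1 h
    · rw [conj_pair Q u₀ hu₀, ← hfa, ← hfa, hff, reflM_smul Q hlam0]
      rw [reflM_comm_of_perp Q hperp]

end key2

end Cfsg.Agent.Lib.Helper25.GraphSplit
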