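import Cfsg.Agent.Lib.Helper25.GraphSplit2
import Cfsg.Agent.Lib.Helper18.PSLnFldE

set_option autoImplicit false

/-!
# Splitting of the class of an involutory graph automorphism of `PΩ` (even dimension, odd `q`)
-/

namespace Cfsg.Agent.Lib.Helper25.GraphSplit

open Module QuadraticMap Matrix Cfsg.Agent.Lib.Helper25.CD Cfsg.Agent.Lib.Helper25.Spin
  Cfsg.Agent.Lib.Helper25.PSim Cfsg.Agent.Lib.Helper25.PAut Cfsg.Agent.Lib.Helper25.ReflClass

universe u

section abstract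

theorem d8_central : ∀ x : DihedralGroup 4, (∀ y, x * y = y * x) →
    x = 1 ∨ x = DihedralGroup.r 2 := by
  decide

theorem d8_r_sq : (DihedralGroup.r 1 * DihedralGroup.r 1 : DihedralGroup 4) =
    DihedralGroup.r 2 := by
  decide

/-- In a group mapping onto `D₈` with kernel inside a subgroup `N` of index two, an element
outside `N` fails to commute, modulo the kernel, with some element of `N`. -/
theorem exists_noncommuting {A : Type*} [Group A] (N : Subgroup A) (hN : N.index = 2)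
    (φ : A →* DihedralGroup 4) (hφs : Function.Surjective φ) (hker : φ.ker ≤ N) (c : A)
    (hc : c ∉ N) : ∃ h ∈ N, φ h * φ c ≠ φ c * φ h := by
  by_contra hcon
  push Not at hcon
  have hall : ∀ x : A, φ x * φ c = φ c * φ x := by
    intro x
    by_cases hx : x ∈ N
    · exact hcon x hx
    · have h1 : x * c⁻¹ ∈ N := by
        rw [Subgroup.mul_mem_iff_of_index_two hN]
        constructor
        · intro h
          exact absurd h hx
        · intro h
          exact absurd (by simpa using N.inv_mem h) hc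
      have h3 := hcon _ h1
      rw [map_mul, map_inv] at h3
      calc φ x * φ c = (φ x * (φ c)⁻¹ * φ c) * φ c := by group
        _ = (φ c * (φ x * (φ c)⁻¹)) * φ c := by rw [h3]
        _ = φ c * φ x := by group
  have hcen : ∀ y : DihedralGroup 4, φ c * y = y * φ c := by
    intro y
    obtain ⟨x, rfl⟩ := hφs y
    exact (hall x).symm
  rcases d8_central _ hcen with h | h
  · exact hc (hker (MonoidHom.mem_ker.2 h))
  · obtain ⟨y, hy⟩ := hφs (DihedralGroup.r 1)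
    have hyy : y * y ∈ N := Subgroup.mul_self_mem_of_index_two hN y
    have h5 : φ ((y * y)⁻¹ * c) = 1 := by
      rw [map_mul, map_inv, map_mul, hy, h, d8_r_sq, inv_mul_cancel]
    have h6 : (y * y)⁻¹ * c ∈ N := hker (MonoidHom.mem_ker.2 h5)
    apply hc
    have := N.mul_mem hyy h6
    rwa [mul_inv_cancel_left] at this

/-- The number of `T`-classes in the `G`-class of `γ`, as an index. -/
theorem exists_split_subgroup {X : Type*} [Group X] (T G : Subgroup X) [T.Normal] (hTG : T ≤ G)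
    (γ : X) :
    ∃ M : Subgroup X, T ≤ M ∧ M ≤ G ∧ Cfsg.splitClassCount G T γ = M.relIndex G ∧
      (∀ x, x ∈ M ↔ ∃ k ∈ T, ∃ c ∈ G ⊓ Subgroup.centralizer {γ}, x = k * c) := by
  have hmem : ∀ x, x ∈ T ⊔ (G ⊓ Subgroup.centralizer {γ}) ↔
      ∃ k ∈ T, ∃ c ∈ G ⊓ Subgroup.centralizer {γ}, x = k * c := by
    intro x
    rw [Subgroup.mem_sup_of_normal_left]
    constructor
    · rintro ⟨k, hk, c, hc, rfl⟩
      exact ⟨k, hk, c, hc, rfl⟩
    · rintro ⟨k, hk, c, hc, rfl⟩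
      exact ⟨k, hk, c, hc, rfl⟩
  refine ⟨T ⊔ (G ⊓ Subgroup.centralizer {γ}), le_sup_left, sup_le hTG inf_le_left, ?_, hmem⟩
  exact Cfsg.Agent.Lib.Helper18.PSLnFld.splitClassCount_eq G T hTG
    (fun h _ k hk => Subgroup.Normal.conj_mem inferInstance k hk h) γ _ hmem

/-- The abstract counting argument: index four, a dihedral quotient, and a centralising element
outside `T` give exactly two classes. -/
theorem split_count_two {X : Type*} [Group X] (T G Gt : Subgroup X) [T.Normal] (hTG : T ≤ G)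
    (hGGt : G ≤ Gt) (h4 : T.relIndex G = 4) (h2 : G.relIndex Gt = 2) (γ : X) (hγ : γ ∈ Gt)
    (hγG : γ ∉ G) (φ : ↥Gt →* DihedralGroup 4) (hφs : Function.Surjective φ)
    (hφk : φ.ker = T.subgroupOf Gt) (σ : X) (hσG : σ ∈ G) (hσT : σ ∉ T)
    (hσγ : σ * γ * σ⁻¹ = γ) : Cfsg.splitClassCount G T γ = 2 := by
  obtain ⟨M, hTM, hMG, hcount, hM⟩ := exists_split_subgroup T G hTG γ
  rw [hcount]
  have hmul := Subgroup.relIndex_mul_relIndex T M G hTM hMG
  rw [h4] at hmul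
  have hσM : σ ∈ M := by
    rw [hM]
    refine ⟨1, T.one_mem, σ, ⟨hσG, ?_⟩, (one_mul σ).symm⟩
    show σ ∈ Subgroup.centralizer {γ}
    rw [Subgroup.mem_centralizer_iff]
    intro y hy
    rw [Set.mem_singleton_iff] at hy
    subst hy
    calc y * σ = (σ * y * σ⁻¹) * σ := by rw [hσγ]
      _ = σ * y := by group
  have h1 : T.relIndex M ≠ 1 := by
    intro h
    exact hσT (Subgroup.relIndex_eq_one.1 h hσM)
  have h3 : M.relIndex G ≠ 1 := by
    intro h
    have hGM : G ≤ M := Subgroup.relIndex_eq_one.1 h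
    obtain ⟨x, hxN, hx⟩ := exists_noncommuting (G.subgroupOf Gt) h2 φ hφs
      (by
        rw [hφk]
        intro y hy
        exact hTG hy) ⟨γ, hγ⟩ hγG
    apply hx
    obtain ⟨k, hk, c, ⟨hcG, hcC⟩, hxkc⟩ := (hM _).1 (hGM hxN)
    have hkGt : k ∈ Gt := hGGt (hTG hk)
    have hcGt : c ∈ Gt := hGGt hcG
    have e1 : x = ⟨k, hkGt⟩ * ⟨c, hcGt⟩ := Subtype.ext hxkc
    have e2 : φ ⟨k, hkGt⟩ = 1 := by
      rw [← MonoidHom.mem_ker, hφk]
      exact hk
    have e3 : (⟨c, hcGt⟩ : ↥Gt) * ⟨γ, hγ⟩ = ⟨γ, hγ⟩ * ⟨c, hcGt⟩ := by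
      apply Subtype.ext
      have hcC' : c ∈ Subgroup.centralizer {γ} := hcC
      rw [Subgroup.mem_centralizer_iff] at hcC'
      exact (hcC' γ rfl).symm
    rw [e1, map_mul, e2, one_mul, ← map_mul, e3, map_mul]
  have h5 : M.relIndex G ∣ 4 := ⟨_, by rw [← hmul, mul_comm]⟩
  have h6 : M.relIndex G ≤ 4 := Nat.le_of_dvd (by norm_num) h5
  have h7 : M.relIndex G ≠ 4 := by
    intro h
    rw [h] at hmul
    apply h1
    omega
  have h8 : M.relIndex G ≠ 0 := by
    intro h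
    rw [h, mul_zero] at hmul
    omega
  have h9 : M.relIndex G ≠ 3 := by
    intro h
    rw [h] at h5
    omega
  omega

/-- When `T` has index two in `G` the count is one or two. -/
theorem split_count_le_two {X : Type*} [Group X] (T G : Subgroup X) [T.Normal] (hTG : T ≤ G)
    (h2 : T.relIndex G = 2) (γ : X) :
    Cfsg.splitClassCount G T γ = 1 ∨ Cfsg.splitClassCount G T γ = 2 := by
  obtain ⟨M, hTM, hMG, hcount, -⟩ := exists_split_subgroup T G hTG γ
  rw [hcount]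
  have hmul := Subgroup.relIndex_mul_relIndex T M G hTM hMG
  rw [h2] at hmul
  have h5 : M.relIndex G ∣ 2 := ⟨_, by rw [← hmul, mul_comm]⟩
  have h6 : M.relIndex G ≤ 2 := Nat.le_of_dvd (by norm_num) h5
  have h8 : M.relIndex G ≠ 0 := by
    intro h
    rw [h, mul_zero] at hmul
    omega
  omega

end abstract

section concrete

variable {ι : Type} [Fintype ι] [DecidableEq ι] {F : Type u} [Field F] [Fintype F]
  (Q : QuadraticForm F (ι → F)) (u₀ : ι → F) (hu₀ : Q u₀ = 1)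
  (h2 : (2 : F) ≠ 0) (hQ : (polarBilin Q).Nondegenerate) {m : ℕ}
  (hcard : Fintype.card ι = 2 * m)

/-- A similarity inducing an element of the image of the proper similarities is proper. -/
theorem proper_of_theta_mem (hn : 7 ≤ Fintype.card ι)
    (g : ↥(Cfsg.Geo.quadSimilarityGroup (F := F) ⇑Q))
    (h : theta ⇑Q g ∈ properAut Q u₀ hu₀ h2 hQ hcard) : IsProper Q u₀ hu₀ m g := by
  obtain ⟨g', hg', hgg⟩ := h
  have h1 : theta ⇑Q (g'⁻¹ * g) = 1 := by
    rw [map_mul, map_inv, hgg, inv_mul_cancel]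
  obtain ⟨c, hc⟩ := scalar_of_theta_eq_one Q hQ hn _ h1
  have h3 : g'⁻¹ * g ∈ properSub Q u₀ hu₀ h2 hQ hcard := by
    rw [mem_properSub_iff]
    exact proper_of_scalar Q u₀ hu₀ hcard _ c hc
  rw [← mem_properSub_iff Q u₀ hu₀ h2 hQ hcard]
  have := (properSub Q u₀ hu₀ h2 hQ hcard).mul_mem hg' h3
  rwa [mul_inv_cancel_left] at this

/-- An improper similarity inducing an involution of `PΩ` is centralised by an automorphism
induced by an element of `SO ∖ Ω`. -/
theorem exists_centralizing_aut (hn : 7 ≤ Fintype.card ι)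
    (hneg : ∃ g : ↥(Cfsg.isometryGroup F ⇑Q), g ∈ Cfsg.Omega F ⇑Q ∧
        ((g : GL ι F) : Matrix ι ι F) = -1)
    (g : ↥(Cfsg.Geo.quadSimilarityGroup (F := F) ⇑Q)) (hg : ¬ IsProper Q u₀ hu₀ m g)
    (hγ2 : theta ⇑Q g * theta ⇑Q g = 1) :
    ∃ σ ∈ properAut Q u₀ hu₀ h2 hQ hcard, σ ∉ Cfsg.Inn (Cfsg.POmega F ⇑Q) ∧
      σ * theta ⇑Q g * σ⁻¹ = theta ⇑Q g := by
  have h1 : theta ⇑Q (g * g) = 1 := by rw [map_mul]; exact hγ2
  obtain ⟨lam, hlam⟩ := scalar_of_theta_eq_one Q hQ hn _ h1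
  have hsq : ∀ x, (g.1 : Matrix ι ι F) *ᵥ ((g.1 : Matrix ι ι F) *ᵥ x) = lam • x := by
    intro x
    rw [← hlam x, Matrix.mulVec_mulVec]
    rfl
  obtain ⟨u, w, hQu, hQw, hns, hcomm⟩ :=
    exists_commuting_pair Q u₀ hu₀ h2 hQ hcard (by omega) g hg lam hsq
  have hword : reflM Q u * reflM Q w = wordG Q [u, w] := by
    rw [wordG_cons, wordG_cons, wordG_nil, mul_one]
  have hvs : ∀ v ∈ [u, w], Q v ≠ 0 := by
    intro v hv
    rcases List.mem_cons.1 hv with rfl | hv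
    · exact hQu
    · rcases List.mem_cons.1 hv with rfl | hv
      · exact hQw
      · exact absurd hv List.not_mem_nil
  have hspec : reflM Q u * reflM Q w ∈ Cfsg.specialIsometryGroup F ⇑Q := by
    rw [hword]
    exact (mem_special_iff Q h2 hvs).2 ⟨1, rfl⟩
  refine ⟨theta ⇑Q (incl ⇑Q (reflM Q u * reflM Q w)),
    ⟨_, incl_special_mem_proper Q u₀ hu₀ h2 hQ hcard _ hspec, rfl⟩, ?_, ?_⟩
  · intro h
    have h3 := mem_omega_of_theta_mem_inn Q u₀ hu₀ hQ hn hneg _ h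
    rw [hword, mem_omega_iff Q h2 hQ hvs] at h3
    apply hns
    have := h3.2
    rwa [normProd_cons, normProd_cons, normProd_nil, mul_one] at this
  · have h3 := congrArg (theta ⇑Q) hcomm
    rw [map_mul, map_mul, map_inv] at h3
    obtain ⟨a, ha⟩ : ∃ a, a = theta ⇑Q g := ⟨_, rfl⟩
    obtain ⟨b, hb⟩ : ∃ b, b = theta ⇑Q (incl ⇑Q (reflM Q u * reflM Q w)) := ⟨_, rfl⟩
    rw [← ha, ← hb] at h3 ⊢
    calc b * a * b⁻¹ = (a * b * a⁻¹) * a * b⁻¹ := by rw [h3]
      _ = a := by group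

/-- The class of an involutory graph automorphism under the image of the proper similarities
splits into at most two classes under the inner automorphisms, and into exactly two when
`-1 ∈ Ω`. -/
theorem split_main (hn : 7 ≤ Fintype.card ι)
    (d : ↥(Cfsg.Geo.quadSimilarityGroup (F := F) ⇑Q))
    (hd : ¬ IsSquare (mult Q u₀ hu₀ d : F))
    (g : ↥(Cfsg.Geo.quadSimilarityGroup (F := F) ⇑Q)) (hg : ¬ IsProper Q u₀ hu₀ m g)
    (hγ2 : theta ⇑Q g * theta ⇑Q g = 1) :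
    (Cfsg.splitClassCount (properAut Q u₀ hu₀ h2 hQ hcard) (Cfsg.Inn (Cfsg.POmega F ⇑Q))
        (theta ⇑Q g) = 1 ∨
      Cfsg.splitClassCount (properAut Q u₀ hu₀ h2 hQ hcard) (Cfsg.Inn (Cfsg.POmega F ⇑Q))
        (theta ⇑Q g) = 2) ∧
    ((∃ g : ↥(Cfsg.isometryGroup F ⇑Q), g ∈ Cfsg.Omega F ⇑Q ∧
        ((g : GL ι F) : Matrix ι ι F) = -1) →
      Cfsg.splitClassCount (properAut Q u₀ hu₀ h2 hQ hcard) (Cfsg.Inn (Cfsg.POmega F ⇑Q))
        (theta ⇑Q g) = 2) := by
  have hidx := relIndex_inn_proper Q u₀ hu₀ h2 hQ hcard hn d hd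
  have key : (∃ g : ↥(Cfsg.isometryGroup F ⇑Q), g ∈ Cfsg.Omega F ⇑Q ∧
        ((g : GL ι F) : Matrix ι ι F) = -1) →
      Cfsg.splitClassCount (properAut Q u₀ hu₀ h2 hQ hcard) (Cfsg.Inn (Cfsg.POmega F ⇑Q))
        (theta ⇑Q g) = 2 := by
    intro hneg
    obtain ⟨φ, hφs, hφk⟩ := exists_hom_pgo_inn_D8 Q u₀ hu₀ h2 hQ hcard hn d hd hneg
    obtain ⟨σ, hσG, hσT, hσγ⟩ :=
      exists_centralizing_aut Q u₀ hu₀ h2 hQ hcard hn hneg g hg hγ2
    exact split_count_two (Cfsg.Inn (Cfsg.POmega F ⇑Q)) (properAut Q u₀ hu₀ h2 hQ hcard)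
      (Cfsg.pgoAut F ⇑Q) (inn_le_properAut Q u₀ hu₀ h2 hQ hcard)
      (properAut_le_pgoAut Q u₀ hu₀ h2 hQ hcard) (hidx.1 hneg)
      (relIndex_proper_pgo Q u₀ hu₀ h2 hQ hcard hn) (theta ⇑Q g)
      (by rw [pgoAut_eq]; exact ⟨g, rfl⟩)
      (fun h => hg (proper_of_theta_mem Q u₀ hu₀ h2 hQ hcard hn g h))
      φ hφs hφk σ hσG hσT hσγ
  refine ⟨?_, key⟩
  by_cases hneg : ∃ g : ↥(Cfsg.isometryGroup F ⇑Q), g ∈ Cfsg.Omega F ⇑Q ∧
        ((g : GL ι F) : Matrix ι ι F) = -1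
  · right
    exact key hneg
  · exact split_count_le_two _ _ (inn_le_properAut Q u₀ hu₀ h2 hQ hcard) (hidx.2 hneg) _

end concrete

end Cfsg.Agent.Lib.Helper25.GraphSplit
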