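import Cfsg.Agent.Lib.Helper25.GraphSplit3
import Cfsg.Agent.Lib.Helper25.GraphSplit4

set_option autoImplicit false

/-!
# Centralisers of involutory graph automorphisms when `-1 ∉ Ω` and the dimension is `0 mod 4`
-/

namespace Cfsg.Agent.Lib.Helper25.GraphSplit

open Module QuadraticMap Matrix Cfsg.Agent.Lib.Helper25.CD Cfsg.Agent.Lib.Helper25.Spin
  Cfsg.Agent.Lib.Helper25.PSim Cfsg.Agent.Lib.Helper25.PAut Cfsg.Agent.Lib.Helper25.ReflClass
  Cfsg.Agent.Lib.Helper25.MaxTS

universe u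

section words

variable {ι : Type} [Fintype ι] [DecidableEq ι] {F : Type u} [Field F] [Fintype F]
  (Q : QuadraticForm F (ι → F)) (u₀ : ι → F) (hu₀ : Q u₀ = 1)

include hu₀ in
/-- Conjugating a word of reflections by a similarity. -/
theorem conj_word (d : ↥(Cfsg.Geo.quadSimilarityGroup (F := F) ⇑Q)) (vs : List (ι → F)) :
    d * incl ⇑Q (wordG Q vs) * d⁻¹ =
      incl ⇑Q (wordG Q (vs.map (fun v => (d.1 : Matrix ι ι F) *ᵥ v))) := by
  induction vs with
  | nil =>
    rw [List.map_nil, wordG_nil, map_one, mul_one, mul_inv_cancel]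
  | cons v vs ih =>
    rw [List.map_cons, wordG_cons, wordG_cons, map_mul, map_mul, ← ih,
      ← conj_refl Q u₀ hu₀ d v]
    group

theorem normProd_map (d : ↥(Cfsg.Geo.quadSimilarityGroup (F := F) ⇑Q)) (vs : List (ι → F)) :
    normProd Q (vs.map (fun v => (d.1 : Matrix ι ι F) *ᵥ v)) =
      (mult Q u₀ hu₀ d : F) ^ vs.length * normProd Q vs := by
  induction vs with
  | nil => simp [normProd_nil]
  | cons v vs ih =>
    rw [List.map_cons, normProd_cons, normProd_cons, ih, Q_sim Q u₀ hu₀, List.length_cons,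
      pow_succ]
    ring

theorem isSquare_of_odd_pow {a : F} (ha : a ≠ 0) {n : ℕ} (hn : Odd n) (h : IsSquare (a ^ n)) :
    IsSquare a := by
  obtain ⟨k, rfl⟩ := hn
  have e : a ^ (2 * k + 1) = (a ^ k) ^ 2 * a := by ring
  rw [e] at h
  exact (isSquare_sq_mul_iff' (pow_ne_zero k ha)).1 h

include hu₀ in
/-- A similarity commuting with an improper isometry has a square multiplier. -/
theorem isSquare_mult_of_commute (h2 : (2 : F) ≠ 0) (hQ : (polarBilin Q).Nondegenerate)
    (s : ↥(Cfsg.isometryGroup F ⇑Q)) (hs : ((s : GL ι F) : Matrix ι ι F).det = -1)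
    (d : ↥(Cfsg.Geo.quadSimilarityGroup (F := F) ⇑Q))
    (hcomm : d * incl ⇑Q s * d⁻¹ = incl ⇑Q s) : IsSquare (mult Q u₀ hu₀ d : F) := by
  obtain ⟨vs, hvs, hword⟩ := exists_word Q h2 hQ s
  have hodd : Odd vs.length := by
    have h3 := det_wordG Q h2 hvs
    rw [hword, hs] at h3
    rcases Nat.even_or_odd vs.length with he | ho
    · exfalso
      rw [he.neg_one_pow] at h3
      apply h2
      linear_combination -h3
    · exact ho
  have hη0 : (mult Q u₀ hu₀ d : F) ≠ 0 := Units.ne_zero _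
  have h3 := conj_word Q u₀ hu₀ d vs
  rw [hword, hcomm] at h3
  have h4 : wordG Q (vs.map (fun v => (d.1 : Matrix ι ι F) *ᵥ v)) = wordG Q vs := by
    rw [hword]
    exact (Subgroup.inclusion_injective (iso_le_sim ⇑Q) h3).symm
  have hvs' : ∀ v ∈ vs.map (fun v => (d.1 : Matrix ι ι F) *ᵥ v), Q v ≠ 0 := by
    intro v hv
    obtain ⟨w, hw, rfl⟩ := List.mem_map.1 hv
    rw [Q_sim Q u₀ hu₀]
    exact mul_ne_zero hη0 (hvs w hw)
  have h5 : wordG Q (vs.map (fun v => (d.1 : Matrix ι ι F) *ᵥ v) ++ vs.reverse) = 1 := by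
    rw [wordG_append, ← wordG_inv, h4, mul_inv_cancel]
  have hall : ∀ v ∈ vs.map (fun v => (d.1 : Matrix ι ι F) *ᵥ v) ++ vs.reverse, Q v ≠ 0 := by
    intro v hv
    rcases List.mem_append.1 hv with h | h
    · exact hvs' v h
    · exact hvs v (List.mem_reverse.1 h)
  obtain ⟨-, h6⟩ := wd Q h2 hQ hall h5
  rw [normProd_append, normProd_reverse, normProd_map Q u₀ hu₀] at h6
  have hnp : normProd Q vs ≠ 0 := normProd_ne_zero Q hvs
  have e : (mult Q u₀ hu₀ d : F) ^ vs.length * normProd Q vs * normProd Q vs =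
      normProd Q vs ^ 2 * (mult Q u₀ hu₀ d : F) ^ vs.length := by ring
  rw [e, isSquare_sq_mul_iff' hnp] at h6
  exact isSquare_of_odd_pow hη0 hodd h6

end words

end Cfsg.Agent.Lib.Helper25.GraphSplit
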