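/-
helper25: S3928, the assembly.  `card_le_bd1` (LEAF I), the induction `exists_bound` and the
bridge to the frozen `MulAut` statement.  Plan: `notes/S3928_plan.md`.
-/
import Cfsg.Agent.Lib.Helper25.InvAutDefs
import Cfsg.Agent.Lib.Helper8.BaerGen
import Cfsg.Agent.Lib.Helper19.IAA
import Cfsg.Agent.Lib.Helper19.IAB
import Cfsg.Agent.Lib.Helper22.IAC
import Cfsg.Agent.Lib.Helper22.IAD
import Cfsg.Agent.Lib.Helper20.IAE
import Cfsg.Agent.Lib.Helper13.IAF
import Cfsg.Agent.Lib.Helper24.IAG
import Cfsg.Agent.Lib.Helper23.IAH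
import Cfsg.Agent.Lib.Helper16.IAK

set_option autoImplicit false
universe u

namespace Cfsg.Agent.Lib.Helper25.IAMain

open Cfsg.Agent.Lib.Helper25.InvAut
open Cfsg.Agent.Lib.Helper19.IAA Cfsg.Agent.Lib.Helper19.IAB Cfsg.Agent.Lib.Helper22.IAC
  Cfsg.Agent.Lib.Helper22.IAD Cfsg.Agent.Lib.Helper20.IAE Cfsg.Agent.Lib.Helper13.IAF
  Cfsg.Agent.Lib.Helper24.IAG Cfsg.Agent.Lib.Helper23.IAH Cfsg.Agent.Lib.Helper16.IAK

/-! ### the pair passes to quotients -/

theorem isPair_quotient {H : Type*} [Group H] {a : H} (h : IsPair a) (N : Subgroup H)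
    [N.Normal] : IsPair (QuotientGroup.mk' N a) := by
  refine ⟨by rw [← map_mul, h.sq, map_one], ?_⟩
  have h1 := Subgroup.map_normalClosure ({a} : Set H) (QuotientGroup.mk' N)
    (QuotientGroup.mk'_surjective N)
  rw [h.gen, Set.image_singleton] at h1
  rw [← h1]
  exact Subgroup.map_top_of_surjective _ (QuotientGroup.mk'_surjective N)

theorem mk_mem_JJ {H : Type*} [Group H] [Finite H] {a x : H} (N : Subgroup H) [N.Normal]
    (hx : x ∈ JJ a) : QuotientGroup.mk' N x ∈ JJ (QuotientGroup.mk' N a) := by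
  obtain ⟨h1, h2⟩ := hx
  refine ⟨?_, ?_⟩
  · exact Odd.of_dvd_nat h1 (orderOf_map_dvd (QuotientGroup.mk' N) x)
  · rw [← map_inv, ← map_mul, ← map_mul, h2, map_inv]

/-! ### LEAF I -/

theorem exists_minimal_normal {H : Type*} [Group H] [Finite H] [Nontrivial H] :
    ∃ N : Subgroup H, N.Normal ∧ N ≠ ⊥ ∧
      ∀ M : Subgroup H, M.Normal → M ≤ N → M = ⊥ ∨ M = N := by
  classical
  have hne : {N : Subgroup H | N.Normal ∧ N ≠ ⊥}.Nonempty :=
    ⟨⊤, inferInstance, top_ne_bot⟩
  obtain ⟨N, hN, hmin⟩ := Set.Finite.exists_minimalFor (fun N : Subgroup H => Nat.card N) _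
    (Set.toFinite {N : Subgroup H | N.Normal ∧ N ≠ ⊥}) hne
  refine ⟨N, hN.1, hN.2, ?_⟩
  intro M hM hMN
  by_cases hM0 : M = ⊥
  · exact Or.inl hM0
  · right
    have h1 : Nat.card N ≤ Nat.card M := hmin ⟨hM, hM0⟩ (Subgroup.card_le_of_le hMN)
    exact Subgroup.eq_of_le_of_card_ge hMN h1

theorem card_le_bd1 {H : Type u} [Group H] [Finite H] {a : H} (h : IsPair a)
    (hZ : Subgroup.center H = ⊥) (B : ℕ)
    (hB : ∀ M : Subgroup H, M.Normal → M ≠ ⊥ → M.index ≤ B) :
    Nat.card H ≤ bd1 (Nat.card (JJ a)) B := by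
  classical
  rcases subsingleton_or_nontrivial H with hs | hnt
  · have : Nat.card H = 1 := Nat.card_unique
    unfold bd1
    omega
  obtain ⟨N, hNn, hN1, hmin⟩ := exists_minimal_normal (H := H)
  have hidx := hB N hNn hN1
  set m := Nat.card (JJ a) with hm
  have hcardN : Nat.card N ≤ (max 2 m) ^ B + (m.factorial * (m.factorial + 1)).factorial := by
    by_cases hab : ∀ x ∈ N, ∀ y ∈ N, x * y = y * x
    · have h1 := card_le_of_minimal_normal_abelian h hZ N hN1 hmin hab
      have h2 : (max 2 m) ^ N.index ≤ (max 2 m) ^ B := Nat.pow_le_pow_right (by simp) hidx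
      exact le_trans (le_trans h1 h2) (Nat.le_add_right _ _)
    · have hc : Nat.card (Subgroup.centralizer ({a} : Set H)) ≤ m.factorial := by
        have h1 := card_centralizer_le (closure_insert_JJ h)
        rw [hZ, Subgroup.card_bot, mul_one] at h1
        exact h1
      have h1 := card_le_of_minimal_normal_nonabelian a h.sq _ hc N hmin hab
      exact le_trans h1 (Nat.le_add_left _ _)
  have hcard : Nat.card H = Nat.card N * N.index := (Subgroup.card_mul_index N).symm
  unfold bd1
  calc Nat.card H = Nat.card N * N.index := hcard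
    _ ≤ ((max 2 m) ^ B + (m.factorial * (m.factorial + 1)).factorial) * B :=
        Nat.mul_le_mul hcardN hidx
    _ = B * ((max 2 m) ^ B + (m.factorial * (m.factorial + 1)).factorial) := Nat.mul_comm _ _
    _ ≤ _ := Nat.le_succ _

/-! ### the induction -/

theorem InjMod_bot {H : Type*} [Group H] (a : H) : InjMod a ⊥ := by
  intro x _ x' _ hxx
  rw [Subgroup.mem_bot] at hxx
  exact inv_mul_eq_one.mp hxx

theorem exists_bound : ∀ m : ℕ, ∃ B : ℕ, ∀ (H : Type) [Group H] [Finite H] (a : H),
    IsPair a → Nat.card (JJ a) ≤ m → Nat.card H ≤ B := by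
  intro m
  induction m with
  | zero =>
    refine ⟨0, ?_⟩
    intro H _ _ a _ hm
    exfalso
    have : Finite (JJ a) := Subtype.finite
    have hpos : 0 < Nat.card (JJ a) := by
      haveI : Nonempty (JJ a) := ⟨⟨1, one_mem_JJ a⟩⟩
      exact Nat.card_pos
    omega
  | succ m ih =>
    obtain ⟨B₀, hB₀⟩ := ih
    refine ⟨2 * bd2 (m + 1) (bd1 (m + 1) B₀), ?_⟩
    intro H _ _ a h hm
    classical
    -- a maximal normal subgroup with `InjMod`
    have hne : {N : Subgroup H | N.Normal ∧ InjMod a N}.Nonempty :=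
      ⟨⊥, inferInstance, InjMod_bot a⟩
    obtain ⟨N, hN, hmax⟩ := Set.Finite.exists_maximal
      (Set.toFinite {N : Subgroup H | N.Normal ∧ InjMod a N}) hne
    obtain ⟨hNn, hNinj⟩ := hN
    have := hNn
    have hmax' : ∀ M : Subgroup H, M.Normal → InjMod a M → N ≤ M → M = N := by
      intro M hM hMi hNM
      exact le_antisymm (hmax ⟨hM, hMi⟩ hNM) hNM
    set π := QuotientGroup.mk' N with hπ
    have hπs : Function.Surjective π := QuotientGroup.mk'_surjective N
    have hpair : IsPair (π a) := isPair_quotient h N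
    -- the centre of the quotient is trivial
    have hZ : Subgroup.center (H ⧸ N) = ⊥ := by
      have hM : ((Subgroup.center (H ⧸ N)).comap π).Normal := inferInstance
      have hMi : InjMod a ((Subgroup.center (H ⧸ N)).comap π) := by
        intro x hx x' hx' hxx
        rw [Subgroup.mem_comap, map_mul, map_inv] at hxx
        have h1 : π x = π x' := eq_of_inv_mul_mem_center (mk_mem_JJ N hx) (mk_mem_JJ N hx') hxx
        apply hNinj x hx x' hx'
        have h2 : π (x⁻¹ * x') = 1 := by rw [map_mul, map_inv, h1, inv_mul_cancel]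
        rw [hπ, QuotientGroup.mk'_apply, QuotientGroup.eq_one_iff] at h2
        exact h2
      have hNM : N ≤ (Subgroup.center (H ⧸ N)).comap π := by
        intro n hn
        rw [Subgroup.mem_comap]
        have : π n = 1 := by
          rw [hπ, QuotientGroup.mk'_apply, QuotientGroup.eq_one_iff]; exact hn
        rw [this]; exact Subgroup.one_mem _
      have h1 := hmax' _ hM hMi hNM
      rw [eq_bot_iff]
      intro q hq
      obtain ⟨g, rfl⟩ := hπs q
      have h2 : g ∈ (Subgroup.center (H ⧸ N)).comap π := hq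
      rw [h1] at h2
      rw [Subgroup.mem_bot, hπ, QuotientGroup.mk'_apply, QuotientGroup.eq_one_iff]
      exact h2
    -- nontrivial normal subgroups of the quotient have bounded index
    have hBq : ∀ M : Subgroup (H ⧸ N), M.Normal → M ≠ ⊥ → M.index ≤ B₀ := by
      intro M hM hM1
      have := hM
      have hMc : (M.comap π).Normal := inferInstance
      have hNM : N ≤ M.comap π := by
        intro n hn
        rw [Subgroup.mem_comap]
        have : π n = 1 := by
          rw [hπ, QuotientGroup.mk'_apply, QuotientGroup.eq_one_iff]; exact hn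
        rw [this]; exact Subgroup.one_mem _
      have hni : ¬ InjMod a (M.comap π) := by
        intro hi
        have h1 := hmax' _ hMc hi hNM
        apply hM1
        rw [eq_bot_iff]
        intro q hq
        obtain ⟨g, rfl⟩ := hπs q
        have h2 : g ∈ M.comap π := hq
        rw [h1] at h2
        rw [Subgroup.mem_bot, hπ, QuotientGroup.mk'_apply, QuotientGroup.eq_one_iff]
        exact h2
      have h2 := card_JJ_quotient_lt h.sq (M.comap π) hni
      have h3 : Nat.card (JJ (QuotientGroup.mk' (M.comap π) a)) ≤ m := by omega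
      have h4 := hB₀ (H ⧸ M.comap π) (QuotientGroup.mk' (M.comap π) a)
        (isPair_quotient h (M.comap π)) h3
      have h5 : (M.comap π).index = M.index := Subgroup.index_comap_of_surjective M hπs
      rw [← h5, Subgroup.index_eq_card]
      exact h4
    have hq1 := card_le_bd1 hpair hZ B₀ hBq
    have hq2 : Nat.card (JJ (π a)) ≤ m + 1 := le_trans (card_JJ_quotient_le h.sq N) hm
    have hidx : N.index ≤ bd1 (m + 1) B₀ := by
      rw [Subgroup.index_eq_card]
      exact le_trans hq1 (bd1_mono hq2 le_rfl)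
    -- the normal 2-subgroup
    have hN1 : ∀ x ∈ JJ a, x ∈ N → x = 1 := by
      intro x hx hxN
      have := hNinj 1 (one_mem_JJ a) x hx (by simpa using hxN)
      exact this.symm
    obtain ⟨P, hPn, hPN, hP2, hNa⟩ := exists_normal_two_subgroup h.sq N hN1
    have := hPn
    have hPJ : ∀ x ∈ JJ a, ∀ u ∈ P, u * x = x * u := by
      intro x hx u hu
      by_contra hux
      obtain ⟨x', hx', hne', hxx⟩ := exists_ne_mem_JJ_of_not_commute h.sq P hP2 hx hu hux
      exact hne' (hNinj x hx x' hx' (hPN hxx)).symm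
    have hfin := card_le_of_almost_central h (closure_insert_JJ h) N P hPN hNa hPJ _ hidx
    exact le_trans hfin (Nat.mul_le_mul_left 2 (bd2_mono hm le_rfl))

end Cfsg.Agent.Lib.Helper25.IAMain

namespace Cfsg.Agent.Lib.Helper25.IAMain

open Cfsg.Agent.Lib.Helper25.InvAut Cfsg.Agent.Lib.Helper8.BaerGen

theorem bridge : ∃ f : ℕ → ℕ, ∀ (G : Type) [Group G] [Finite G] [Nontrivial G] (α : MulAut G),
    orderOf α = 2 → Subgroup.closure (Set.range (fun c : G => c * (α c)⁻¹)) = ⊤ →
      Nat.card G ≤ f (Nat.card {g : G // Odd (orderOf g) ∧ α g = g⁻¹}) := by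
  classical
  refine ⟨fun m => Classical.choose (exists_bound m), ?_⟩
  intro G _ _ _ α hα hG
  have hspec := Classical.choose_spec
    (exists_bound (Nat.card {g : G // Odd (orderOf g) ∧ α g = g⁻¹}))
  have hfin : Finite (Hα α) :=
    Finite.of_equiv _ (SemidirectProduct.equivProd (φ := (Subgroup.zpowers α).subtype)).symm
  have hαα : α * α = 1 := by
    have := pow_orderOf_eq_one α
    rwa [hα, pow_two] at this
  -- the pair
  have hsq : aα α * aα α = 1 := by
    show SemidirectProduct.inr (⟨α, Subgroup.mem_zpowers α⟩ : Subgroup.zpowers α) *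
      SemidirectProduct.inr ⟨α, Subgroup.mem_zpowers α⟩ = (1 : Hα α)
    rw [← map_mul]
    have : (⟨α, Subgroup.mem_zpowers α⟩ : Subgroup.zpowers α) * ⟨α, Subgroup.mem_zpowers α⟩ = 1 :=
      Subtype.ext hαα
    rw [this, map_one]
  have hpair : IsPair (aα α) := ⟨hsq, ncl α hG⟩
  -- every element of the cyclic group has square one
  have hzsq : ∀ z : Subgroup.zpowers α, z * z = 1 := by
    intro z
    obtain ⟨k, hk⟩ := Subgroup.mem_zpowers_iff.mp z.2
    apply Subtype.ext
    show (z : MulAut G) * z = 1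
    rw [← hk, ← zpow_add, ← two_mul, zpow_mul, zpow_two, hαα, one_zpow]
  -- `JJ` is covered
  have hsurj : ∀ h : JJ (aα α), ∃ g : {g : G // Odd (orderOf g) ∧ α g = g⁻¹}, il α g.1 = h.1 := by
    rintro ⟨h, hodd, hinv⟩
    have hr : h.right = 1 := by
      have h1 : orderOf (SemidirectProduct.rightHom h) ∣ orderOf h :=
        orderOf_map_dvd SemidirectProduct.rightHom h
      have h2 : orderOf (SemidirectProduct.rightHom h) ∣ 2 := by
        apply orderOf_dvd_of_pow_eq_one
        rw [pow_two]
        exact hzsq _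
      have h3 : Odd (orderOf (SemidirectProduct.rightHom h)) := Odd.of_dvd_nat hodd h1
      have h4 : orderOf (SemidirectProduct.rightHom h) = 1 := by
        rcases (Nat.dvd_prime Nat.prime_two).mp h2 with h5 | h5
        · exact h5
        · rw [h5] at h3; exact absurd h3 (by decide)
      exact orderOf_eq_one_iff.mp h4
    have hh : h = il α h.left := by
      have := SemidirectProduct.inl_left_mul_inr_right h
      rw [hr, map_one, mul_one] at this
      exact this.symm
    refine ⟨⟨h.left, ?_, ?_⟩, hh.symm⟩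
    · have : orderOf (il α h.left) = orderOf h.left :=
        orderOf_injective (il α) (il_injective α) _
      rw [← this, ← hh]; exact hodd
    · apply il_injective α
      rw [← act, ← hh, hinv, map_inv, ← hh]
  have hcard : Nat.card (JJ (aα α)) ≤ Nat.card {g : G // Odd (orderOf g) ∧ α g = g⁻¹} := by
    let F : JJ (aα α) → {g : G // Odd (orderOf g) ∧ α g = g⁻¹} := fun h =>
      Classical.choose (hsurj h)
    have hF : ∀ h, il α (F h).1 = h.1 := fun h => Classical.choose_spec (hsurj h)
    have : Finite {g : G // Odd (orderOf g) ∧ α g = g⁻¹} := Subtype.finite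
    refine Nat.card_le_card_of_injective F ?_
    intro h h' hFF
    apply Subtype.ext
    rw [← hF h, ← hF h', hFF]
  have h1 := hspec (Hα α) (aα α) hpair hcard
  have h2 : Nat.card G ≤ Nat.card (Hα α) := Nat.card_le_card_of_injective _ (il_injective α)
  exact le_trans h2 h1

end Cfsg.Agent.Lib.Helper25.IAMain
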