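import Mathlib

/-!
# Iterated cores of two conjugate maximal subgroups: the abstract skeleton (helper25)

Given a maximal subgroup `P`, an element `n` with `n * n ∈ P` and a descending chain `W 0 = P ≥ W 1 ≥ …`
of `P`-invariant subgroups such that `W (i + 1)` is the largest `P`-invariant subgroup of
`W i ∩ n (W i) n⁻¹`, the two sequences of iterated cores are `A i = W i` and `B i = n (W i) n⁻¹`.
-/

set_option autoImplicit false

namespace Cfsg.Agent.Lib.Helper25.IC

variable {G : Type*} [Group G]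

/-- the core in `M` of `X` -/
def coreIn (M X : Subgroup G) : Subgroup G := (X.subgroupOf M).normalCore.map M.subtype

theorem mem_coreIn {M X : Subgroup G} {g : G} :
    g ∈ coreIn M X ↔ ∃ h : g ∈ M, (⟨g, h⟩ : M) ∈ (X.subgroupOf M).normalCore := by
  unfold coreIn
  rw [Subgroup.mem_map]
  constructor
  · rintro ⟨y, hy, rfl⟩
    exact ⟨y.2, hy⟩
  · rintro ⟨h, hy⟩
    exact ⟨⟨g, h⟩, hy, rfl⟩

theorem coreIn_le_left (M X : Subgroup G) : coreIn M X ≤ M := by
  intro g hg
  obtain ⟨h, -⟩ := mem_coreIn.mp hg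
  exact h

theorem coreIn_le_right (M X : Subgroup G) : coreIn M X ≤ X := by
  intro g hg
  obtain ⟨h, hy⟩ := mem_coreIn.mp hg
  have := Subgroup.normalCore_le _ hy
  rw [Subgroup.mem_subgroupOf] at this
  exact this

theorem conj_mem_coreIn {M X : Subgroup G} {p g : G} (hp : p ∈ M) (hg : g ∈ coreIn M X) :
    p * g * p⁻¹ ∈ coreIn M X := by
  obtain ⟨h, hy⟩ := mem_coreIn.mp hg
  rw [mem_coreIn]
  refine ⟨M.mul_mem (M.mul_mem hp h) (M.inv_mem hp), ?_⟩
  have hn : ((X.subgroupOf M).normalCore).Normal := Subgroup.normalCore_normal _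
  have := hn.conj_mem _ hy ⟨p, hp⟩
  exact this

theorem le_coreIn {M X N : Subgroup G} (h1 : N ≤ M) (h2 : N ≤ X)
    (h3 : ∀ p ∈ M, ∀ g ∈ N, p * g * p⁻¹ ∈ N) : N ≤ coreIn M X := by
  intro g hg
  rw [mem_coreIn]
  refine ⟨h1 hg, ?_⟩
  have hnorm : (N.subgroupOf M).Normal := by
    constructor
    intro x hx y
    rw [Subgroup.mem_subgroupOf] at hx ⊢
    exact h3 y.1 y.2 x.1 hx
  have hle : N.subgroupOf M ≤ X.subgroupOf M := by
    intro x hx
    rw [Subgroup.mem_subgroupOf] at hx ⊢
    exact h2 hx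
  have := (Subgroup.normal_le_normalCore (H := X.subgroupOf M) (N := N.subgroupOf M)).mpr hle
  apply this
  rw [Subgroup.mem_subgroupOf]
  exact hg

/-- conjugate of a subgroup -/
abbrev cj (g : G) (X : Subgroup G) : Subgroup G := X.map (MulAut.conj g).toMonoidHom

theorem mem_cj {g x : G} {X : Subgroup G} : x ∈ cj g X ↔ g⁻¹ * x * g ∈ X := by
  unfold cj
  rw [Subgroup.mem_map]
  constructor
  · rintro ⟨y, hy, rfl⟩
    have : g⁻¹ * ((MulAut.conj g).toMonoidHom y) * g = y := by
      simp [MulAut.conj_apply]; group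
    rw [this]; exact hy
  · intro h
    refine ⟨g⁻¹ * x * g, h, ?_⟩
    simp [MulAut.conj_apply]; group

/-- the abstract skeleton -/
theorem skeleton {G : Type} [Group G] [Finite G] (P : Subgroup G) (n : G) (W : ℕ → Subgroup G)
    (hco : IsCoatom P) (hW0 : W 0 = P)
    (hmono : ∀ i, W (i + 1) ≤ W i)
    (hnorm : ∀ i, ∀ p ∈ P, ∀ g ∈ W i, p * g * p⁻¹ ∈ W i)
    (hnn : n * n ∈ P)
    (hlow : ∀ i, ∀ g ∈ W (i + 1), n⁻¹ * g * n ∈ W i)
    (hup : ∀ i (N : Subgroup G), N ≤ W i → (∀ g ∈ N, n⁻¹ * g * n ∈ W i) →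
      (∀ p ∈ P, ∀ g ∈ N, p * g * p⁻¹ ∈ N) → N ≤ W (i + 1))
    (h6 : W 6 = ⊥) (h5 : W 5 ≠ ⊥) :
    ∃ (M₁ M₂ : Subgroup G) (g : G) (A B : ℕ → Subgroup G),
      IsCoatom M₁ ∧ M₂ = M₁.map (MulAut.conj g).toMonoidHom ∧ M₁ ≠ M₂ ∧ M₁.normalCore = ⊥ ∧
      A 0 = M₁ ∧ B 0 = M₂ ∧
      (∀ i, A (i + 1) = ((A i ⊓ B i).subgroupOf M₁).normalCore.map M₁.subtype) ∧
      (∀ i, B (i + 1) = ((A i ⊓ B i).subgroupOf M₂).normalCore.map M₂.subtype) ∧ A 6 = ⊥ ∧ A 5 ≠ ⊥ := by
  have hWP : ∀ i, W i ≤ P := by
    intro i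
    induction i with
    | zero => rw [hW0]
    | succ i ih => exact le_trans (hmono i) ih
  -- `n * n` and its inverse normalise each `W i`
  have hsq : ∀ i, ∀ g ∈ W i, (n * n) * g * (n * n)⁻¹ ∈ W i := fun i g hg => hnorm i _ hnn g hg
  have hsq' : ∀ i, ∀ g ∈ W i, (n * n)⁻¹ * g * (n * n) ∈ W i := by
    intro i g hg
    have := hnorm i _ (P.inv_mem hnn) g hg
    rwa [inv_inv] at this
  -- `n w n⁻¹ ∈ W i` for `w ∈ W (i+1)`
  have hlow' : ∀ i, ∀ g ∈ W (i + 1), n * g * n⁻¹ ∈ W i := by
    intro i g hg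
    have h1 := hsq i _ (hlow i g hg)
    have e : n * n * (n⁻¹ * g * n) * (n * n)⁻¹ = n * g * n⁻¹ := by group
    rwa [e] at h1
  have hA : ∀ i, W (i + 1) = coreIn P (W i ⊓ cj n (W i)) := by
    intro i
    apply le_antisymm
    · apply le_coreIn (hWP _)
      · apply le_inf (hmono i)
        intro g hg
        rw [mem_cj]
        exact hlow i g hg
      · exact hnorm (i + 1)
    · apply hup i
      · exact le_trans (coreIn_le_right _ _) inf_le_left
      · intro g hg
        have h1 : g ∈ W i ⊓ cj n (W i) := coreIn_le_right _ _ hg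
        have h2 : g ∈ cj n (W i) := (Subgroup.mem_inf.mp h1).2
        rwa [mem_cj] at h2
      · intro p hp g hg
        exact conj_mem_coreIn hp hg
  have hB : ∀ i, cj n (W (i + 1)) = coreIn (cj n P) (W i ⊓ cj n (W i)) := by
    intro i
    apply le_antisymm
    · apply le_coreIn
      · intro g hg
        rw [mem_cj] at hg ⊢
        exact hWP _ hg
      · apply le_inf
        · intro g hg
          rw [mem_cj] at hg
          have := hlow' i _ hg
          have e : n * (n⁻¹ * g * n) * n⁻¹ = g := by group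
          rwa [e] at this
        · intro g hg
          rw [mem_cj] at hg ⊢
          exact hmono i hg
      · intro q hq g hg
        rw [mem_cj] at hq hg ⊢
        have := hnorm (i + 1) _ hq _ hg
        have e : n⁻¹ * q * n * (n⁻¹ * g * n) * (n⁻¹ * q * n)⁻¹ = n⁻¹ * (q * g * q⁻¹) * n := by group
        rwa [e] at this
    · -- the conjugate back
      obtain ⟨N, hN⟩ : ∃ N : Subgroup G, N = coreIn (cj n P) (W i ⊓ cj n (W i)) := ⟨_, rfl⟩
      rw [← hN]
      have hNW : N ≤ W i := by rw [hN]; exact le_trans (coreIn_le_right _ _) inf_le_left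
      have hNc : N ≤ cj n (W i) := by rw [hN]; exact le_trans (coreIn_le_right _ _) inf_le_right
      have hNn : ∀ q ∈ cj n P, ∀ g ∈ N, q * g * q⁻¹ ∈ N := by
        intro q hq g hg
        rw [hN] at hg ⊢
        exact conj_mem_coreIn hq hg
      have key : cj n⁻¹ N ≤ W (i + 1) := by
        apply hup i
        · intro g hg
          rw [mem_cj, inv_inv] at hg
          have := hNc hg
          rw [mem_cj] at this
          have e : n⁻¹ * (n * g * n⁻¹) * n = g := by group
          rwa [e] at this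
        · intro g hg
          rw [mem_cj, inv_inv] at hg
          have h1 := hsq' i _ (hNW hg)
          have e : (n * n)⁻¹ * (n * g * n⁻¹) * (n * n) = n⁻¹ * g * n := by group
          rwa [e] at h1
        · intro p hp g hg
          rw [mem_cj, inv_inv] at hg ⊢
          have hq : n * p * n⁻¹ ∈ cj n P := by
            rw [mem_cj]
            have e : n⁻¹ * (n * p * n⁻¹) * n = p := by group
            rwa [e]
          have := hNn _ hq _ hg
          have e : n * p * n⁻¹ * (n * g * n⁻¹) * (n * p * n⁻¹)⁻¹ = n * (p * g * p⁻¹) * n⁻¹ := by group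
          rwa [e] at this
      intro g hg
      rw [mem_cj]
      apply key
      rw [mem_cj, inv_inv]
      have e : n * (n⁻¹ * g * n) * n⁻¹ = g := by group
      rwa [e]
  refine ⟨P, cj n P, n, W, fun i => cj n (W i), hco, rfl, ?_, ?_, hW0, by show cj n (W 0) = cj n P; rw [hW0], ?_, ?_, h6, h5⟩
  · -- `P ≠ n P n⁻¹`
    intro heq
    have hall : ∀ i, P ≤ W i := by
      intro i
      induction i with
      | zero => rw [hW0]
      | succ i ih =>
        apply hup i P ih
        · intro g hg
          rw [heq] at hg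
          rw [mem_cj] at hg
          exact ih hg
        · intro p hp g hg
          exact P.mul_mem (P.mul_mem hp hg) (P.inv_mem hp)
    have hP : P = ⊥ := by
      rw [eq_bot_iff, ← h6]; exact hall 6
    apply h5
    rw [eq_bot_iff, ← hP]
    exact hWP 5
  · -- the core of `P` is trivial
    have hK : ∀ i, P.normalCore ≤ W i := by
      intro i
      induction i with
      | zero => rw [hW0]; exact Subgroup.normalCore_le P
      | succ i ih =>
        apply hup i _ ih
        · intro g hg
          have hn : (P.normalCore).Normal := Subgroup.normalCore_normal _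
          have := hn.conj_mem _ hg n⁻¹
          rw [inv_inv] at this
          exact ih this
        · intro p _ g hg
          have hn : (P.normalCore).Normal := Subgroup.normalCore_normal _
          exact hn.conj_mem _ hg p
    rw [eq_bot_iff, ← h6]
    exact hK 6
  · intro i
    exact hA i
  · intro i
    exact hB i

end Cfsg.Agent.Lib.Helper25.IC
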