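import Cfsg.Agent.Lib.Helper25.WkClC

/-! Weakly closed unipotent subgroups, part D: the pair oracle for `G₂` (where for `q = 4` the long
root subgroups are not separated by the torus, and `U` is used as well) (helper25). -/

set_option autoImplicit false

namespace Cfsg.Agent.Lib.Helper25.WkCl

open Cfsg Cfsg.Lie Matrix
open Cfsg.Agent.Lib.Helper7

theorem split_unique {α : Type*} : ∀ (a pre : List α) (s : α) (b l₂ : List α), s ∉ a → s ∉ pre →
    a ++ s :: b = pre ++ s :: l₂ → a = pre ∧ b = l₂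
  | [], [], s, b, l₂, _, _, h => by
    simp only [List.nil_append, List.cons.injEq, true_and] at h
    exact ⟨rfl, h⟩
  | [], y :: pre, s, b, l₂, _, hp, h => by
    simp only [List.nil_append, List.cons_append, List.cons.injEq] at h
    exact absurd (h.1 ▸ List.mem_cons_self ..) hp
  | x :: a, [], s, b, l₂, ha, _, h => by
    simp only [List.nil_append, List.cons_append, List.cons.injEq] at h
    exact absurd (h.1 ▸ List.mem_cons_self ..) ha
  | x :: a, y :: pre, s, b, l₂, ha, hp, h => by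
    simp only [List.cons_append, List.cons.injEq] at h
    obtain ⟨h1, h2⟩ := split_unique a pre s b l₂ (fun hh => ha (List.mem_cons_of_mem _ hh))
      (fun hh => hp (List.mem_cons_of_mem _ hh)) h.2
    exact ⟨by rw [h.1, h1], h2⟩

theorem posRoots_G2 : chevG2.posRoots = [6, 7, 8, 9, 10, 11] := by decide +kernel

/-- every pair of positive roots of `G₂` other than the pairs of long roots is separated by a torus
element acting through a power of absolute value at most `2` -/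
theorem g2_tab : ∀ p ∈ pairsL chevG2.posRoots, p = (6, 10) ∨ p = (6, 11) ∨ p = (10, 11) ∨
    ∃ γ < 12, critB chevG2 2 p.1 p.2 γ = true := by decide +kernel

section
variable (hD : chevG2 ∈ [chevG2, chevB2, chevD4, chevF4, chevE6, chevE7, chevE8])
variable (F : Type*) [Field F]

theorem g2_conj_6_10 (u t : F) :
    xGL chevG2 hD F 6 u * xGL chevG2 hD F 10 t * (xGL chevG2 hD F 6 u)⁻¹ =
      xGL chevG2 hD F 10 t * xGL chevG2 hD F 11 (u * t) := by
  rw [xGL_conj_xGL chevG2 hD F 6 10 (by decide) (by decide) (by decide) (by decide) u t]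
  have e : chevG2.commTerms 6 10 = [(11, 1, 1, 1)] := by decide +kernel
  unfold ChevalleyDatum.commWord
  rw [e]
  simp [wordGL]

theorem g2_conj_6_11 (u t : F) :
    xGL chevG2 hD F 6 u * xGL chevG2 hD F 11 t * (xGL chevG2 hD F 6 u)⁻¹ = xGL chevG2 hD F 11 t := by
  rw [xGL_conj_xGL chevG2 hD F 6 11 (by decide) (by decide) (by decide) (by decide) u t]
  have e : chevG2.commTerms 6 11 = [] := by decide +kernel
  unfold ChevalleyDatum.commWord
  rw [e]
  simp [wordGL]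

theorem g2_conj_10_6 (u t : F) :
    xGL chevG2 hD F 10 u * xGL chevG2 hD F 6 t * (xGL chevG2 hD F 10 u)⁻¹ =
      xGL chevG2 hD F 6 t * xGL chevG2 hD F 11 (-(u * t)) := by
  rw [xGL_conj_xGL chevG2 hD F 10 6 (by decide) (by decide) (by decide) (by decide) u t]
  have e : chevG2.commTerms 10 6 = [(11, -1, 1, 1)] := by decide +kernel
  unfold ChevalleyDatum.commWord
  rw [e]
  simp [wordGL]

theorem g2_conj_10_11 (u t : F) :
    xGL chevG2 hD F 10 u * xGL chevG2 hD F 11 t * (xGL chevG2 hD F 10 u)⁻¹ = xGL chevG2 hD F 11 t := by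
  rw [xGL_conj_xGL chevG2 hD F 10 11 (by decide) (by decide) (by decide) (by decide) u t]
  have e : chevG2.commTerms 10 11 = [] := by decide +kernel
  unfold ChevalleyDatum.commWord
  rw [e]
  simp [wordGL]

theorem g2_conj_7_6 (t : F) :
    xGL chevG2 hD F 7 1 * xGL chevG2 hD F 6 t * (xGL chevG2 hD F 7 1)⁻¹ =
      xGL chevG2 hD F 6 t * (xGL chevG2 hD F 8 (-t) * (xGL chevG2 hD F 9 t *
        (xGL chevG2 hD F 10 t * xGL chevG2 hD F 11 (t ^ 2)))) := by
  rw [xGL_conj_xGL chevG2 hD F 7 6 (by decide) (by decide) (by decide) (by decide) 1 t]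
  have e : chevG2.commTerms 7 6 = [(8, -1, 1, 1), (9, 1, 2, 1), (10, 1, 3, 1), (11, 1, 3, 2)] := by
    decide +kernel
  unfold ChevalleyDatum.commWord
  rw [e]
  simp [wordGL]

theorem g2_conj_7_10 (u t : F) :
    xGL chevG2 hD F 7 u * xGL chevG2 hD F 10 t * (xGL chevG2 hD F 7 u)⁻¹ = xGL chevG2 hD F 10 t := by
  rw [xGL_conj_xGL chevG2 hD F 7 10 (by decide) (by decide) (by decide) (by decide) u t]
  have e : chevG2.commTerms 7 10 = [] := by decide +kernel
  unfold ChevalleyDatum.commWord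
  rw [e]
  simp [wordGL]

theorem g2_isPos (r : ℕ) (hr : r ∈ [6, 7, 8, 9, 10, 11]) : chevG2.IsPosRoot r := by
  rw [← mem_posRoots, posRoots_G2]; exact hr

/-- the pair `(3a+b, 3a+2b)` -/
theorem g2_ex_10_11 (Y : Subgroup (GL chevG2.Idx F))
    (hU : chevG2.posUnipotent F ≤ Subgroup.normalizer (Y : Set (GL chevG2.Idx F)))
    (hs0 : ∀ u : F, xGL chevG2 hD F 11 u ∈ Y → u = 0) (c d : F)
    (h : xGL chevG2 hD F 10 c * xGL chevG2 hD F 11 d ∈ Y) : xGL chevG2 hD F 10 c ∈ Y := by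
  have hx := hU (xGL_pos_mem chevG2 hD F 6 (g2_isPos 6 (by simp)) 1)
  have h1 := conj_mem_of_mem_normalizer Y _ _ hx h
  have e1 : xGL chevG2 hD F 6 1 * (xGL chevG2 hD F 10 c * xGL chevG2 hD F 11 d) *
      (xGL chevG2 hD F 6 1)⁻¹ =
      (xGL chevG2 hD F 6 1 * xGL chevG2 hD F 10 c * (xGL chevG2 hD F 6 1)⁻¹) *
      (xGL chevG2 hD F 6 1 * xGL chevG2 hD F 11 d * (xGL chevG2 hD F 6 1)⁻¹) := by group
  rw [e1, g2_conj_6_10, g2_conj_6_11, one_mul] at h1
  have h2 := Y.mul_mem (Y.inv_mem h) h1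
  have e2 : (xGL chevG2 hD F 10 c * xGL chevG2 hD F 11 d)⁻¹ *
      (xGL chevG2 hD F 10 c * xGL chevG2 hD F 11 c * xGL chevG2 hD F 11 d) =
      xGL chevG2 hD F 11 c := by
    have : (xGL chevG2 hD F 10 c * xGL chevG2 hD F 11 d)⁻¹ *
        (xGL chevG2 hD F 10 c * xGL chevG2 hD F 11 c * xGL chevG2 hD F 11 d) =
        (xGL chevG2 hD F 11 d)⁻¹ * (xGL chevG2 hD F 11 c * xGL chevG2 hD F 11 d) := by group
    rw [this, xGL_inv, xGL_mul, xGL_mul]
    congr 1; ring
  rw [e2] at h2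
  rw [hs0 c h2, xGL_zero]
  exact Y.one_mem

/-- the pair `(b, 3a+2b)` -/
theorem g2_ex_6_11 (Y : Subgroup (GL chevG2.Idx F))
    (hU : chevG2.posUnipotent F ≤ Subgroup.normalizer (Y : Set (GL chevG2.Idx F)))
    (hs0 : ∀ u : F, xGL chevG2 hD F 11 u ∈ Y → u = 0) (c d : F)
    (h : xGL chevG2 hD F 6 c * xGL chevG2 hD F 11 d ∈ Y) : xGL chevG2 hD F 6 c ∈ Y := by
  have hx := hU (xGL_pos_mem chevG2 hD F 10 (g2_isPos 10 (by simp)) 1)
  have h1 := conj_mem_of_mem_normalizer Y _ _ hx h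
  have e1 : xGL chevG2 hD F 10 1 * (xGL chevG2 hD F 6 c * xGL chevG2 hD F 11 d) *
      (xGL chevG2 hD F 10 1)⁻¹ =
      (xGL chevG2 hD F 10 1 * xGL chevG2 hD F 6 c * (xGL chevG2 hD F 10 1)⁻¹) *
      (xGL chevG2 hD F 10 1 * xGL chevG2 hD F 11 d * (xGL chevG2 hD F 10 1)⁻¹) := by group
  rw [e1, g2_conj_10_6, g2_conj_10_11, one_mul] at h1
  have h2 := Y.mul_mem (Y.inv_mem h) h1
  have e2 : (xGL chevG2 hD F 6 c * xGL chevG2 hD F 11 d)⁻¹ *
      (xGL chevG2 hD F 6 c * xGL chevG2 hD F 11 (-c) * xGL chevG2 hD F 11 d) =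
      xGL chevG2 hD F 11 (-c) := by
    have : (xGL chevG2 hD F 6 c * xGL chevG2 hD F 11 d)⁻¹ *
        (xGL chevG2 hD F 6 c * xGL chevG2 hD F 11 (-c) * xGL chevG2 hD F 11 d) =
        (xGL chevG2 hD F 11 d)⁻¹ * (xGL chevG2 hD F 11 (-c) * xGL chevG2 hD F 11 d) := by group
    rw [this, xGL_inv, xGL_mul, xGL_mul]
    congr 1; ring
  rw [e2] at h2
  have hc : c = 0 := neg_eq_zero.mp (hs0 _ h2)
  rw [hc, xGL_zero]
  exact Y.one_mem

/-- the pair `(b, 3a+b)` -/
theorem g2_ex_6_10 [Fintype F] (hq : 3 < Fintype.card F) (Y : Subgroup (GL chevG2.Idx F))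
    (hYB : chevG2.borelSubgroup F ≤ Subgroup.normalizer (Y : Set (GL chevG2.Idx F)))
    (hTY : Subgroup.closure (gensL chevG2 F [11]) ≤ Y)
    (hs0 : ∀ u : F, xGL chevG2 hD F 10 u ∈ Y → u = 0)
    (hIH : ∀ t : ℕ → F, ordProd chevG2 hD F [6, 7, 8, 9] t ∈
        Y ⊔ Subgroup.closure (gensL chevG2 F (10 :: [11])) →
      ∀ r ∈ [6, 7, 8, 9], ∃ d : F, xGL chevG2 hD F r (t r) * xGL chevG2 hD F 10 d ∈ Y)
    (c d : F) (h : xGL chevG2 hD F 6 c * xGL chevG2 hD F 10 d ∈ Y) : xGL chevG2 hD F 6 c ∈ Y := by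
  have hU : chevG2.posUnipotent F ≤ Subgroup.normalizer (Y : Set (GL chevG2.Idx F)) :=
    le_trans le_sup_left hYB
  have hH : chevG2.diagonalSubgroup F ≤ Subgroup.normalizer (Y : Set (GL chevG2.Idx F)) :=
    le_trans le_sup_right hYB
  have hx := hU (xGL_pos_mem chevG2 hD F 7 (g2_isPos 7 (by simp)) 1)
  have h1 := conj_mem_of_mem_normalizer Y _ _ hx h
  have e1 : xGL chevG2 hD F 7 1 * (xGL chevG2 hD F 6 c * xGL chevG2 hD F 10 d) *
      (xGL chevG2 hD F 7 1)⁻¹ =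
      (xGL chevG2 hD F 7 1 * xGL chevG2 hD F 6 c * (xGL chevG2 hD F 7 1)⁻¹) *
      (xGL chevG2 hD F 7 1 * xGL chevG2 hD F 10 d * (xGL chevG2 hD F 7 1)⁻¹) := by group
  rw [e1, g2_conj_7_6, g2_conj_7_10] at h1
  -- the element `z`
  obtain ⟨z, hz⟩ : ∃ z : GL chevG2.Idx F, z = xGL chevG2 hD F 8 (-c) * (xGL chevG2 hD F 9 c *
      (xGL chevG2 hD F 10 c * xGL chevG2 hD F 11 (c ^ 2))) := ⟨_, rfl⟩
  rw [← hz] at h1
  have h2 := Y.mul_mem h1 (Y.inv_mem h)
  have e2 : xGL chevG2 hD F 6 c * z * xGL chevG2 hD F 10 d *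
      (xGL chevG2 hD F 6 c * xGL chevG2 hD F 10 d)⁻¹ =
      xGL chevG2 hD F 6 c * z * (xGL chevG2 hD F 6 c)⁻¹ := by group
  rw [e2] at h2
  have hx6 := hU (xGL_pos_mem chevG2 hD F 6 (g2_isPos 6 (by simp)) c)
  have h3 := conj_mem_of_mem_normalizer Y _ _ (Subgroup.inv_mem _ hx6) h2
  have e3 : (xGL chevG2 hD F 6 c)⁻¹ * (xGL chevG2 hD F 6 c * z * (xGL chevG2 hD F 6 c)⁻¹) *
      ((xGL chevG2 hD F 6 c)⁻¹)⁻¹ = z := by group
  rw [e3] at h3
  have hx11 : xGL chevG2 hD F 11 (c ^ 2) ∈ Y :=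
    hTY (Subgroup.subset_closure ⟨11, by simp, _, coe_xGL chevG2 hD F _ _⟩)
  have hz1 : xGL chevG2 hD F 8 (-c) * xGL chevG2 hD F 9 c * xGL chevG2 hD F 10 c ∈ Y := by
    have : xGL chevG2 hD F 8 (-c) * xGL chevG2 hD F 9 c * xGL chevG2 hD F 10 c =
        z * (xGL chevG2 hD F 11 (c ^ 2))⁻¹ := by rw [hz]; group
    rw [this]
    exact Y.mul_mem h3 (Y.inv_mem hx11)
  -- apply the induction hypothesis
  classical
  obtain ⟨t', ht'⟩ : ∃ t' : ℕ → F, t' = fun r => if r = 8 then -c else if r = 9 then c else 0 :=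
    ⟨_, rfl⟩
  have ht8 : t' 8 = -c := by rw [ht']; simp
  have ht9 : t' 9 = c := by rw [ht']; simp
  have ht6 : t' 6 = 0 := by rw [ht']; simp
  have ht7 : t' 7 = 0 := by rw [ht']; simp
  have hord : ordProd chevG2 hD F [6, 7, 8, 9] t' = xGL chevG2 hD F 8 (-c) * xGL chevG2 hD F 9 c := by
    simp only [ordProd_cons, ordProd_nil, ht6, ht7, ht8, ht9, xGL_zero, one_mul, mul_one]
  have hmem : ordProd chevG2 hD F [6, 7, 8, 9] t' ∈
      Y ⊔ Subgroup.closure (gensL chevG2 F (10 :: [11])) := by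
    have : ordProd chevG2 hD F [6, 7, 8, 9] t' =
        (xGL chevG2 hD F 8 (-c) * xGL chevG2 hD F 9 c * xGL chevG2 hD F 10 c) *
          (xGL chevG2 hD F 10 c)⁻¹ := by rw [hord]; group
    rw [this]
    apply Subgroup.mul_mem _ (Subgroup.mem_sup_left hz1)
    apply Subgroup.inv_mem
    apply Subgroup.mem_sup_right
    exact Subgroup.subset_closure ⟨10, by simp, _, coe_xGL chevG2 hD F _ _⟩
  have hsep : ∀ r ∈ [8, 9], ∀ c' d' : F, xGL chevG2 hD F r c' * xGL chevG2 hD F 10 d' ∈ Y →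
      xGL chevG2 hD F r c' ∈ Y := by
    intro r hr c' d' h'
    have hp : (r, 10) ∈ pairsL chevG2.posRoots := by
      rw [posRoots_G2]
      simp only [List.mem_cons, List.not_mem_nil, or_false] at hr
      rcases hr with rfl | rfl <;> decide
    rcases g2_tab _ hp with h' | h' | h' | ⟨γ, -, hγ⟩
    · simp only [Prod.mk.injEq] at h'
      simp only [List.mem_cons, List.not_mem_nil, or_false] at hr
      omega
    · simp only [Prod.mk.injEq] at h'; omega
    · simp only [Prod.mk.injEq] at h'; omega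
    · have hr' : r < chevG2.nroots := by
        simp only [List.mem_cons, List.not_mem_nil, or_false] at hr
        rcases hr with rfl | rfl <;> decide
      exact pairSep_of_critB chevG2 hD F 2 (by omega) Y hH r 10 hr' hs0 γ hγ c' d' ‹_›
  obtain ⟨d₁, hd₁⟩ := hIH t' hmem 8 (by simp)
  obtain ⟨d₂, hd₂⟩ := hIH t' hmem 9 (by simp)
  rw [ht8] at hd₁
  rw [ht9] at hd₂
  have h8 := hsep 8 (by simp) _ _ hd₁
  have h9 := hsep 9 (by simp) _ _ hd₂
  have h10 : xGL chevG2 hD F 10 c ∈ Y := by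
    have : xGL chevG2 hD F 10 c = (xGL chevG2 hD F 9 c)⁻¹ * ((xGL chevG2 hD F 8 (-c))⁻¹ *
        (xGL chevG2 hD F 8 (-c) * xGL chevG2 hD F 9 c * xGL chevG2 hD F 10 c)) := by group
    rw [this]
    exact Y.mul_mem (Y.inv_mem h9) (Y.mul_mem (Y.inv_mem h8) hz1)
  rw [hs0 c h10, xGL_zero]
  exact Y.one_mem

/-- the pair oracle for `G₂(q)`, `q ≥ 4` -/
theorem pairOracle_G2 [Fintype F] (hq : 3 < Fintype.card F) : PairOracle chevG2 hD F := by
  intro pre s l₂ hsplit Y hYU hYB hTY hs0 hIH r hr c d h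
  have hU : chevG2.posUnipotent F ≤ Subgroup.normalizer (Y : Set (GL chevG2.Idx F)) :=
    le_trans le_sup_left hYB
  have hH : chevG2.diagonalSubgroup F ≤ Subgroup.normalizer (Y : Set (GL chevG2.Idx F)) :=
    le_trans le_sup_right hYB
  have hmem : (r, s) ∈ pairsL chevG2.posRoots := by
    rw [hsplit]; exact mem_pairsL_append s l₂ r pre hr
  have hsort := (goodL_posRoots chevG2).sorted
  rw [hsplit, List.pairwise_append] at hsort
  have hspre : s ∉ pre := by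
    intro hh
    have := hsort.2.2 s hh s (List.mem_cons_self ..)
    omega
  have hrpos : chevG2.IsPosRoot r := by
    rw [← mem_posRoots, hsplit]
    exact List.mem_append_left _ hr
  rcases g2_tab _ hmem with h' | h' | h' | ⟨γ, -, hγ⟩
  · -- `(6, 10)`
    simp only [Prod.mk.injEq] at h'
    obtain ⟨rfl, rfl⟩ := h'
    have hsp : [6, 7, 8, 9] ++ 10 :: [11] = pre ++ 10 :: l₂ := by
      rw [← hsplit, posRoots_G2]; rfl
    obtain ⟨rfl, rfl⟩ := split_unique _ _ _ _ _ (by simp) hspre hsp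
    exact g2_ex_6_10 hD F hq Y hYB hTY hs0 hIH c d h
  · simp only [Prod.mk.injEq] at h'
    obtain ⟨rfl, rfl⟩ := h'
    exact g2_ex_6_11 hD F Y hU hs0 c d h
  · simp only [Prod.mk.injEq] at h'
    obtain ⟨rfl, rfl⟩ := h'
    exact g2_ex_10_11 hD F Y hU hs0 c d h
  · exact pairSep_of_critB chevG2 hD F 2 (by omega) Y hH r s hrpos.1 hs0 γ hγ c d h

end

end Cfsg.Agent.Lib.Helper25.WkCl
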