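import Cfsg.Agent.Lib.Helper25.WkClE

/-! Weakly closed unipotent subgroups: table checks for the descent of positive roots under
fundamental reflections and for building positive roots by commutators with coefficient `±1`
(helper25). -/

set_option autoImplicit false
set_option maxRecDepth 100000

namespace Cfsg.Agent.Lib.Helper25.WkCl

open Cfsg Cfsg.Lie
open Cfsg.Agent.Lib.Helper7

def upCert_G2 : List (ℕ × ℕ × ℕ) :=
  [(8, 0, 6), (9, 0, 6), (10, 0, 6), (11, 0, 6)]

theorem upCertB_G2 : upCertB chevG2 upCert_G2 = true := by decide +kernel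

theorem descB_G2 : descB chevG2 = true := by decide +kernel

def upCert_B2 : List (ℕ × ℕ × ℕ) :=
  [(6, 0, 4), (7, 0, 4)]

theorem upCertB_B2 : upCertB chevB2 upCert_B2 = true := by decide +kernel

theorem descB_B2 : descB chevB2 = true := by decide +kernel

def upCert_D4 : List (ℕ × ℕ × ℕ) :=
  [(15, 1, 12), (16, 1, 13), (17, 2, 15), (19, 0, 14), (20, 0, 15), (21, 0, 16), (22, 0, 17),
   (23, 1, 22)]

theorem upCertB_D4 : upCertB chevD4 upCert_D4 = true := by decide +kernel

theorem descB_D4 : descB chevD4 = true := by decide +kernel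

def upCert_F4 : List (ℕ × ℕ × ℕ) :=
  [(26, 2, 24), (28, 1, 25), (29, 1, 26), (30, 1, 25), (31, 1, 26), (32, 2, 31), (34, 0, 27),
   (35, 0, 28), (36, 0, 29), (37, 0, 30), (38, 0, 31), (39, 0, 32), (40, 1, 39), (41, 0, 30),
   (42, 0, 31), (43, 0, 32), (44, 0, 40), (45, 1, 43), (46, 2, 45), (47, 2, 38)]

theorem upCertB_F4 : upCertB chevF4 upCert_F4 = true := by decide +kernel

theorem descB_F4 : descB chevF4 = true := by decide +kernel

def upCert_E6 : List (ℕ × ℕ × ℕ) :=
  [(38, 4, 36), (40, 3, 37), (41, 3, 38), (43, 2, 39), (44, 2, 40), (45, 2, 41), (47, 1, 39),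
   (48, 1, 40), (49, 1, 41), (50, 1, 43), (51, 1, 44), (52, 1, 45), (53, 3, 51), (54, 3, 52),
   (55, 4, 54), (57, 0, 42), (58, 0, 43), (59, 0, 44), (60, 0, 45), (61, 0, 50), (62, 0, 51),
   (63, 0, 52), (64, 0, 53), (65, 0, 54), (66, 0, 55), (67, 2, 64), (68, 2, 65), (69, 2, 66),
   (70, 3, 69), (71, 1, 70)]

theorem upCertB_E6 : upCertB chevE6 upCert_E6 = true := by decide +kernel

theorem descB_E6 : descB chevE6 = true := by decide +kernel

def upCert_E7 : List (ℕ × ℕ × ℕ) :=
  [(65, 5, 63), (67, 4, 64), (68, 4, 65), (70, 3, 66), (71, 3, 67), (72, 3, 68), (74, 2, 69),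
   (75, 2, 70), (76, 2, 71), (77, 2, 72), (79, 1, 69), (80, 1, 70), (81, 1, 71), (82, 1, 72),
   (83, 1, 74), (84, 1, 75), (85, 1, 76), (86, 1, 77), (87, 3, 84), (88, 3, 85), (89, 3, 86),
   (90, 4, 88), (91, 4, 89), (92, 5, 91), (94, 0, 73), (95, 0, 74), (96, 0, 75), (97, 0, 76),
   (98, 0, 77), (99, 0, 83), (100, 0, 84), (101, 0, 85), (102, 0, 86), (103, 0, 87), (104, 0, 88),
   (105, 0, 89), (106, 0, 90), (107, 0, 91), (108, 0, 92), (109, 2, 103), (110, 2, 104),
   (111, 2, 105), (112, 2, 106), (113, 2, 107), (114, 2, 108), (115, 3, 112), (116, 3, 113),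
   (117, 3, 114), (118, 4, 117), (119, 1, 115), (120, 1, 116), (121, 1, 117), (122, 1, 118),
   (123, 3, 122), (124, 2, 123), (125, 0, 124)]

theorem upCertB_E7 : upCertB chevE7 upCert_E7 = true := by decide +kernel

theorem descB_E7 : descB chevE7 = true := by decide +kernel

def upCert_E8 : List (ℕ × ℕ × ℕ) :=
  [(122, 6, 120), (124, 5, 121), (125, 5, 122), (127, 4, 123), (128, 4, 124), (129, 4, 125),
   (131, 3, 126), (132, 3, 127), (133, 3, 128), (134, 3, 129), (136, 2, 130), (137, 2, 131),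
   (138, 2, 132), (139, 2, 133), (140, 2, 134), (142, 1, 130), (143, 1, 131), (144, 1, 132),
   (145, 1, 133), (146, 1, 134), (147, 1, 136), (148, 1, 137), (149, 1, 138), (150, 1, 139),
   (151, 1, 140), (152, 3, 148), (153, 3, 149), (154, 3, 150), (155, 3, 151), (156, 4, 153),
   (157, 4, 154), (158, 4, 155), (159, 5, 157), (160, 5, 158), (161, 6, 160), (163, 0, 135),
   (164, 0, 136), (165, 0, 137), (166, 0, 138), (167, 0, 139), (168, 0, 140), (169, 0, 147),
   (170, 0, 148), (171, 0, 149), (172, 0, 150), (173, 0, 151), (174, 0, 152), (175, 0, 153),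
   (176, 0, 154), (177, 0, 155), (178, 0, 156), (179, 0, 157), (180, 0, 158), (181, 0, 159),
   (182, 0, 160), (183, 0, 161), (184, 2, 174), (185, 2, 175), (186, 2, 176), (187, 2, 177),
   (188, 2, 178), (189, 2, 179), (190, 2, 180), (191, 2, 181), (192, 2, 182), (193, 2, 183),
   (194, 3, 188), (195, 3, 189), (196, 3, 190), (197, 3, 191), (198, 3, 192), (199, 3, 193),
   (200, 4, 197), (201, 4, 198), (202, 4, 199), (203, 5, 202), (204, 1, 194), (205, 1, 195),
   (206, 1, 196), (207, 1, 197), (208, 1, 198), (209, 1, 199), (210, 1, 200), (211, 1, 201),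
   (212, 1, 202), (213, 1, 203), (214, 3, 210), (215, 3, 211), (216, 3, 212), (217, 3, 213),
   (218, 4, 217), (219, 2, 214), (220, 2, 215), (221, 2, 216), (222, 2, 217), (223, 2, 218),
   (224, 3, 223), (225, 1, 224), (226, 0, 219), (227, 0, 220), (228, 0, 221), (229, 0, 222),
   (230, 0, 223), (231, 0, 224), (232, 2, 231), (233, 0, 225), (234, 1, 232), (235, 3, 234),
   (236, 4, 235), (237, 5, 236), (238, 6, 237), (239, 7, 238)]

theorem upCertB_E8 : upCertB chevE8 upCert_E8 = true := by decide +kernel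

theorem descB_E8 : descB chevE8 = true := by decide +kernel

theorem descFacts_of_mem (D : ChevalleyDatum)
    (hD : D ∈ [chevG2, chevB2, chevD4, chevF4, chevE6, chevE7, chevE8]) : DescFacts D :=
  mem_seven_cases (P := DescFacts)
    (descFacts_of_descB _ descB_G2) (descFacts_of_descB _ descB_B2) (descFacts_of_descB _ descB_D4)
    (descFacts_of_descB _ descB_F4) (descFacts_of_descB _ descB_E6) (descFacts_of_descB _ descB_E7)
    (descFacts_of_descB _ descB_E8) D hD

theorem upCertFacts_of_mem (D : ChevalleyDatum)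
    (hD : D ∈ [chevG2, chevB2, chevD4, chevF4, chevE6, chevE7, chevE8]) : UpCertFacts D :=
  mem_seven_cases (P := UpCertFacts)
    (upCertFacts_of_upCertB _ _ upCertB_G2) (upCertFacts_of_upCertB _ _ upCertB_B2)
    (upCertFacts_of_upCertB _ _ upCertB_D4) (upCertFacts_of_upCertB _ _ upCertB_F4)
    (upCertFacts_of_upCertB _ _ upCertB_E6) (upCertFacts_of_upCertB _ _ upCertB_E7)
    (upCertFacts_of_upCertB _ _ upCertB_E8) D hD

end Cfsg.Agent.Lib.Helper25.WkCl
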