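import Cfsg.Agent.Lib.Helper25.WkClTabA
import Cfsg.Agent.Lib.Helper25.WkClD
import Cfsg.Agent.Lib.Helper25.WkClTab2

/-! Weakly closed unipotent subgroups, part F: a subgroup of `U` that is weakly closed in `U` with
respect to the Chevalley group is the unipotent radical of a standard parabolic subgroup (helper25). -/

set_option autoImplicit false

namespace Cfsg.Agent.Lib.Helper25.WkCl

open Cfsg Cfsg.Lie Matrix
open Cfsg.Agent.Lib.Helper7

/-- the pair oracle for the seven types -/
theorem pairOracle_of_mem (F : Type*) [Field F] [Fintype F] (D : ChevalleyDatum)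
    (hD : D ∈ [chevG2, chevB2, chevD4, chevF4, chevE6, chevE7, chevE8])
    (h2 : Fintype.card F ≠ 2)
    (h3 : D ∈ [chevG2, chevB2, chevD4, chevF4] → Fintype.card F ≠ 3) : PairOracle D hD F := by
  have h1 : 1 < Fintype.card F := Fintype.one_lt_card
  have key : ∀ D : ChevalleyDatum, D ∈ [chevG2, chevB2, chevD4, chevF4, chevE6, chevE7, chevE8] →
      ∀ hD : D ∈ [chevG2, chevB2, chevD4, chevF4, chevE6, chevE7, chevE8],
      (D ∈ [chevG2, chevB2, chevD4, chevF4] → Fintype.card F ≠ 3) → PairOracle D hD F := by
    apply mem_seven_cases (P := fun D =>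
      ∀ hD : D ∈ [chevG2, chevB2, chevD4, chevF4, chevE6, chevE7, chevE8],
      (D ∈ [chevG2, chevB2, chevD4, chevF4] → Fintype.card F ≠ 3) → PairOracle D hD F)
    · intro hD h3
      have := h3 (by simp)
      exact pairOracle_G2 hD F (by omega)
    · intro hD h3
      have := h3 (by simp)
      exact pairOracle_of_forall chevB2 hD F 2 (sepFast_forall _ hD _ _ sepFastB_B2) (by omega)
    · intro hD h3
      have := h3 (by simp)
      exact pairOracle_of_forall chevD4 hD F 2 (sepFast_forall _ hD _ _ sepFastB_D4) (by omega)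
    · intro hD h3
      have := h3 (by simp)
      exact pairOracle_of_forall chevF4 hD F 2 (sepFast_forall _ hD _ _ sepFastB_F4) (by omega)
    · intro hD _
      exact pairOracle_of_forall chevE6 hD F 1 (sepFast_forall _ hD _ _ sepFastB_E6) (by omega)
    · intro hD _
      exact pairOracle_of_forall chevE7 hD F 1 (sepFast_forall _ hD _ _ sepFastB_E7) (by omega)
    · intro hD _
      exact pairOracle_of_forall chevE8 hD F 1 (sepFast_forall _ hD _ _ sepFastB_E8) (by omega)
  exact key D hD hD h3

section
variable (D : ChevalleyDatum) (hD : D ∈ [chevG2, chevB2, chevD4, chevF4, chevE6, chevE7, chevE8])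
variable (F : Type*) [Field F] [Fintype F]
include hD

/-- a `B`-invariant subgroup of `U` with separation: the structure theorem -/
theorem weakly_closed_main (h2 : Fintype.card F ≠ 2)
    (h3 : D ∈ [chevG2, chevB2, chevD4, chevF4] → Fintype.card F ≠ 3)
    (X : Subgroup (GL D.Idx F)) (hXU : X ≤ D.posUnipotent F)
    (hwc : ∀ g ∈ D.group F, X.map (MulAut.conj g).toMonoidHom ≤ D.posUnipotent F →
      X.map (MulAut.conj g).toMonoidHom = X) :
    ∃ J : Set ℕ, (∀ j ∈ J, j < D.rank) ∧ X = D.unipotentRadical F J := by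
  classical
  obtain ⟨w, hO⟩ := exists_ordW D hD
  have hA := chainAdd_linF D hD w
  obtain ⟨W, hW⟩ := exists_coefW D hD
  have hG := goodL_posRoots D
  have horacle := pairOracle_of_mem F D hD h2 h3
  have hDesc := descFacts_of_mem D hD
  have hUp := upCertFacts_of_mem D hD
  have hPar := parFacts_of_mem D hD
  -- elementwise form of weak closure
  have hwc' : ∀ g ∈ D.group F, (∀ x ∈ X, g * x * g⁻¹ ∈ D.posUnipotent F) →
      ∀ x ∈ X, g * x * g⁻¹ ∈ X := by
    intro g hg hall x hx
    have hle : X.map (MulAut.conj g).toMonoidHom ≤ D.posUnipotent F := by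
      rintro y ⟨x', hx', rfl⟩
      exact hall x' hx'
    have heq := hwc g hg hle
    rw [← heq]
    exact ⟨x, hx, rfl⟩
  -- `B` normalises `U`
  have hBU : D.borelSubgroup F ≤ Subgroup.normalizer (D.posUnipotent F : Set (GL D.Idx F)) := by
    rw [posUnipotent_eq_closure_gensL]
    exact borel_le_normalizer_gensL D hD F _ hA hO _ hG
  -- `B` normalises `X`
  have hXB : D.borelSubgroup F ≤ Subgroup.normalizer (X : Set (GL D.Idx F)) := by
    have hconj : ∀ g ∈ D.borelSubgroup F, ∀ x ∈ X, g * x * g⁻¹ ∈ X := by
      intro g hg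
      apply hwc' g (borel_le_group D hD F hg)
      intro x hx
      exact conj_mem_of_mem_normalizer _ g x (hBU hg) (hXU hx)
    intro g hg
    rw [Subgroup.mem_set_normalizer_iff]
    intro x
    constructor
    · exact hconj g hg x
    · intro hx
      have := hconj g⁻¹ (Subgroup.inv_mem _ hg) _ hx
      have e : g⁻¹ * (g * x * g⁻¹) * g⁻¹⁻¹ = x := by group
      rwa [e] at this
  have hXUn : D.posUnipotent F ≤ Subgroup.normalizer (X : Set (GL D.Idx F)) :=
    le_trans le_sup_left hXB
  have hXH : D.diagonalSubgroup F ≤ Subgroup.normalizer (X : Set (GL D.Idx F)) :=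
    le_trans le_sup_right hXB
  -- separation and irreducibility
  have hsep : ∀ t : ℕ → F, ordProd D hD F D.posRoots t ∈ X → ∀ r ∈ D.posRoots, xGL D hD F r (t r) ∈ X :=
    sep_main D hD F _ hA hO horacle X hXU hXB
  have hirr : ∀ r < D.nroots, ∀ c : F, c ≠ 0 → xGL D hD F r c ∈ X → ∀ t : F, xGL D hD F r t ∈ X :=
    fun r hr c hc hx t => full_of_diag_normal D hD F X hXH r hr c hc hx t
  have hdec : ∀ x ∈ X, ∃ t : ℕ → F, x = ordProd D hD F D.posRoots t ∧
      ∀ r ∈ D.posRoots, xGL D hD F r (t r) ∈ X := by
    intro x hx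
    have hxU := hXU hx
    rw [posUnipotent_eq_closure_gensL] at hxU
    obtain ⟨t, rfl⟩ := exists_ordProd D hD F _ hA hO _ hG x hxU
    exact ⟨t, rfl, hsep t hx⟩
  -- separation for words
  have hsepw : ∀ wd : List (ℕ × F), (wd.map Prod.fst).Pairwise (· < ·) →
      (∀ p ∈ wd, D.IsPosRoot p.1) → wordGL D hD F wd ∈ X → ∀ p ∈ wd, xGL D hD F p.1 p.2 ∈ X := by
    intro wd hs hp hmem p hpm
    rw [wordGL_eq_ordProd D hD F D.posRoots hG.sorted wd hs
      (fun q hq => (mem_posRoots D q.1).mpr (hp q hq))] at hmem
    have := hsep _ hmem p.1 ((mem_posRoots D p.1).mpr (hp p hpm))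
    rwa [wcoef_mem wd hs p hpm] at this
  -- the set `J`
  obtain ⟨Ψ, hΨ⟩ : ∃ Ψ : ℕ → Prop, Ψ = fun r => ∀ t : F, xGL D hD F r t ∈ X := ⟨_, rfl⟩
  have hΨi : ∀ r, Ψ r ↔ ∀ t : F, xGL D hD F r t ∈ X := by intro r; rw [hΨ]
  obtain ⟨J, hJ⟩ : ∃ J : Set ℕ, J = {j | j < D.rank ∧ ¬ Ψ (D.simple j)} := ⟨_, rfl⟩
  have hJi : ∀ j, j ∈ J ↔ j < D.rank ∧ ¬ Ψ (D.simple j) := by intro j; rw [hJ]; rfl
  refine ⟨J, fun j hj => ((hJi j).mp hj).1, ?_⟩
  -- fundamental roots in `Φ_J`
  have hsimpleJ : ∀ k < D.rank, D.InRootSub J (D.simple k) → k ∈ J := by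
    intro k hk hin
    by_contra hkJ
    have := hin.2 k hk hkJ
    rw [(fundFacts_of_mem D hD k hk).corUnit k hk, if_pos rfl] at this
    exact one_ne_zero this
  have hJsimple : ∀ k ∈ J, D.InRootSub J (D.simple k) := by
    intro k hkJ
    have hk := ((hJi k).mp hkJ).1
    refine ⟨(fundFacts_of_mem D hD k hk).hp, ?_⟩
    intro i hi hiJ
    rw [(fundFacts_of_mem D hD k hk).corUnit i hi, if_neg (fun h : i = k => hiJ (h ▸ hkJ))]
  -- `X ≤ U_p` for `p ∈ J`
  have hup : ∀ j ∈ J, X ≤ upSubgroup D F j := by
    intro j hj x hx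
    obtain ⟨hjr, hjΨ⟩ := (hJi j).mp hj
    obtain ⟨t, rfl, ht⟩ := hdec x hx
    apply ordProd_mem_of_forall
    intro r hr
    have hrpos := (mem_posRoots D r).mp hr
    by_cases hrj : r = D.simple j
    · have h0 : t r = 0 := by
        by_contra hne
        apply hjΨ
        rw [hΨi]
        rw [← hrj]
        exact hirr r hrpos.1 _ hne (ht r hr)
      rw [h0, xGL_zero]; exact Subgroup.one_mem _
    · apply Subgroup.subset_closure
      exact ⟨r, t r, hrpos, hrj, coe_xGL D hD F _ _⟩
  -- `n_p` normalises `X` for `p ∈ J`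
  have hnX : ∀ j ∈ J, ∀ x ∈ X, nFund D hD F j * x * (nFund D hD F j)⁻¹ ∈ X := by
    intro j hj
    have hjr := ((hJi j).mp hj).1
    apply hwc' _ (monomial_le_group D hD F (nFund_mem_monomial D hD F j hjr))
    intro x hx
    apply up_le_posUnipotent D hD F j
    exact conj_mem_of_mem_normalizer _ _ _ (nFund_mem_normalizer_up D hD F j hjr) (hup j hj hx)
  have hrefl : ∀ j ∈ J, ∀ r < D.nroots, Ψ r → Ψ (D.reflectRoot j r) := by
    intro j hj r hr hΨr
    have hjr := ((hJi j).mp hj).1
    rw [hΨi] at hΨr ⊢
    intro t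
    have h1 := hnX j hj _ (hΨr (((etaFn D j r : ℤ) : F) * t))
    rw [nFund_conj_xGL D hD F j hjr r hr, ← mul_assoc, eta_sq D hD F j hjr r hr, one_mul] at h1
    exact h1
  -- no root of `Φ_J` has its root subgroup in `X`
  have hsub : ∀ n r, r < n → D.IsPosRoot r → Ψ r → D.InRootSub J r → False := by
    intro n
    induction n with
    | zero => intro r hr; omega
    | succ n ih =>
      intro r hrn hrpos hΨr hin
      rcases hDesc.desc r hrpos with ⟨k, hk, rfl⟩ | ⟨i, hi, hS, hpos', hlt⟩
      · have hkJ := hsimpleJ k hk hin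
        exact ((hJi k).mp hkJ).2 hΨr
      · have hC := conjFacts_of_mem D hD i hi
        have hiJ : i ∈ J := by
          by_contra hiJ
          have h0 := hin.2 i hi hiJ
          have h1 := hC.corRefl i hi r hrpos.1
          rw [if_pos rfl, h0] at h1
          have h2 := getD_coroot_nonneg D _ hpos' i
          have h3 : carR D r (D.simple i) = ((List.range D.rank).map fun j =>
              (D.coroot.getD r #[]).getD j 0 * D.cartan j (D.simple i)).sum := rfl
          omega
        exact ih (D.reflectRoot i r) (by omega) hpos' (hrefl i hiJ r hrpos.1 hΨr)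
          (inRootSub_reflect D hD J i hi hiJ r hin)
  -- every positive root outside `Φ_J` has its root subgroup in `X`
  have hsup : ∀ n r, r < n → D.IsPosRoot r → ¬ D.InRootSub J r → Ψ r := by
    intro n
    induction n with
    | zero => intro r hr; omega
    | succ n ih =>
      intro r hrn hrpos hnin
      have hsimp : ∀ k < D.rank, ¬ D.InRootSub J (D.simple k) → Ψ (D.simple k) := by
        intro k hk hnin'
        by_contra hΨk
        exact hnin' (hJsimple k ((hJi k).mpr ⟨hk, hΨk⟩))
      rcases hUp.up r hrpos with ⟨k, hk, rfl⟩ | ⟨i, hi, β, hβ, hβne, hβlt, ⟨c, hc, hc1, hc2⟩, hsort⟩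
      · exact hsimp k hk hnin
      · have hF := fundFacts_of_mem D hD i hi
        have hppos : D.IsPosRoot (D.simple i) := hPar.simplePos i hi
        have hβn : β ≠ D.neg (D.simple i) := by
          intro h
          have hneg := (upFacts_of_mem D hD i hi).negSimple
          have := (upFacts_of_mem D hD i hi).notNeg β hβ hβne
          rw [h] at this
          exact this hneg
        -- one of the two root subgroups lies in `X`
        have hone : Ψ (D.simple i) ∨ Ψ β := by
          by_cases hiJ : i ∈ J
          · right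
            apply ih β (by omega) hβ
            intro hβin
            have hL := chainAdd_levJ D hD W J
            obtain ⟨-, -, hj, hlin⟩ := hL.commTerms D hD (D.simple i) β hF.hp hβ.1 c hc
            rw [hc1, levJ_eq_zero D W hW J _ (hJsimple i hiJ), levJ_eq_zero D W hW J _ hβin] at hlin
            have := levJ_pos D W hW J r hrpos hnin
            omega
          · left
            apply hsimp i hi
            intro hin
            exact hiJ (hsimpleJ i hi hin)
        -- the commutator word lies in `X`
        have hword : wordGL D hD F (D.commWord F (D.simple i) β (-1) 1) ∈ X := by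
          have hcf := comm_formula_GL D hD F (D.simple i) β hF.hp hβ.1 hβne hβn (-1) 1
          have e : wordGL D hD F (D.commWord F (D.simple i) β (-1) 1) =
              (xGL D hD F β 1)⁻¹ * (xGL D hD F (D.simple i) (-1))⁻¹ * xGL D hD F β 1 *
                xGL D hD F (D.simple i) (-1) := by
            calc wordGL D hD F (D.commWord F (D.simple i) β (-1) 1)
                = (xGL D hD F (D.simple i) (-1) * xGL D hD F β 1)⁻¹ *
                  (xGL D hD F (D.simple i) (-1) * xGL D hD F β 1 *
                    wordGL D hD F (D.commWord F (D.simple i) β (-1) 1)) := by group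
              _ = (xGL D hD F (D.simple i) (-1) * xGL D hD F β 1)⁻¹ *
                  (xGL D hD F β 1 * xGL D hD F (D.simple i) (-1)) := by rw [hcf]
              _ = _ := by group
          rw [e]
          rcases hone with h' | h'
          · rw [hΨi] at h'
            have hb := hXUn (xGL_pos_mem D hD F β hβ 1)
            have h4 := conj_mem_of_mem_normalizer X _ _ (Subgroup.inv_mem _ hb)
              (X.inv_mem (h' (-1)))
            have e2 : (xGL D hD F β 1)⁻¹ * (xGL D hD F (D.simple i) (-1))⁻¹ * xGL D hD F β 1 *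
                xGL D hD F (D.simple i) (-1) =
                ((xGL D hD F β 1)⁻¹ * (xGL D hD F (D.simple i) (-1))⁻¹ * ((xGL D hD F β 1)⁻¹)⁻¹) *
                xGL D hD F (D.simple i) (-1) := by group
            rw [e2]
            exact X.mul_mem h4 (h' (-1))
          · rw [hΨi] at h'
            have hp := hXUn (xGL_pos_mem D hD F (D.simple i) hppos (-1))
            have h4 := conj_mem_of_mem_normalizer X _ _ (Subgroup.inv_mem _ hp) (h' 1)
            have e2 : (xGL D hD F β 1)⁻¹ * (xGL D hD F (D.simple i) (-1))⁻¹ * xGL D hD F β 1 *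
                xGL D hD F (D.simple i) (-1) =
                (xGL D hD F β 1)⁻¹ * ((xGL D hD F (D.simple i) (-1))⁻¹ * xGL D hD F β 1 *
                ((xGL D hD F (D.simple i) (-1))⁻¹)⁻¹) := by group
            rw [e2]
            exact X.mul_mem (X.inv_mem (h' 1)) h4
        -- separate the word
        have hwsort : ((D.commWord F (D.simple i) β (-1) 1).map Prod.fst).Pairwise (· < ·) := by
          unfold ChevalleyDatum.commWord
          rw [List.map_map]
          exact hsort
        have hwpos : ∀ p ∈ D.commWord F (D.simple i) β (-1) 1, D.IsPosRoot p.1 := by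
          intro p hp
          unfold ChevalleyDatum.commWord at hp
          rw [List.mem_map] at hp
          obtain ⟨c', hc', rfl⟩ := hp
          obtain ⟨hc1', hi', hj', hlin⟩ := hA.commTerms D hD (D.simple i) β hF.hp hβ.1 c' hc'
          apply isPosRoot_of_A_pos D hD _ hA hO c'.1 hc1'
          have hAp := hO.pos _ hppos
          have hAb := hO.pos _ hβ
          rw [hlin]
          positivity
        have hcmem : (c.1, ((c.2.1 : ℤ) : F) * (-(-1 : F)) ^ c.2.2.1 * (1 : F) ^ c.2.2.2) ∈
            D.commWord F (D.simple i) β (-1) 1 := by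
          unfold ChevalleyDatum.commWord
          rw [List.mem_map]
          exact ⟨c, hc, rfl⟩
        have hx := hsepw _ hwsort hwpos hword _ hcmem
        simp only [neg_neg, one_pow, mul_one] at hx
        rw [hc1] at hx
        rw [hΨi]
        apply hirr r hrpos.1 _ _ hx
        rcases hc2 with h' | h' <;> rw [h'] <;> norm_num
  -- conclusion
  apply le_antisymm
  · intro x hx
    obtain ⟨t, rfl, ht⟩ := hdec x hx
    apply ordProd_mem_of_forall
    intro r hr
    have hrpos := (mem_posRoots D r).mp hr
    by_cases h0 : t r = 0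
    · rw [h0, xGL_zero]; exact Subgroup.one_mem _
    · have hΨr : Ψ r := by
        rw [hΨi]; exact hirr r hrpos.1 _ h0 (ht r hr)
      apply Subgroup.subset_closure
      exact ⟨r, t r, hrpos, fun hin => hsub (r + 1) r (by omega) hrpos hΨr hin, coe_xGL D hD F _ _⟩
  · unfold ChevalleyDatum.unipotentRadical
    rw [Subgroup.closure_le]
    rintro g ⟨r, t, hrpos, hnin, hg⟩
    have hgx : g = xGL D hD F r t := Units.ext (by rw [hg, coe_xGL])
    rw [hgx]
    exact (hΨi r).mp (hsup (r + 1) r (by omega) hrpos hnin) t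

end

end Cfsg.Agent.Lib.Helper25.WkCl
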