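import Cfsg.Agent.Lib.Helper25.BTf
import Cfsg.Agent.Lib.Helper25.WkClF
import Cfsg.Agent.Lib.Helper11.ChevParCent

/-!
# Iterated cores: generic Chevalley lemmas (helper25)

Transport of the filtrations `RF` by the fundamental reflections, the adaptive step producing a regular
dominant grading, the factorisation of the elements of a `B`-invariant subgroup of `U` into root elements
of the subgroup, and the entry lemmas used to read off levels.
-/

set_option autoImplicit false

namespace Cfsg.Agent.Lib.Helper25.IC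

open Cfsg Cfsg.Lie Matrix Cfsg.Agent.Lib.Helper7 Cfsg.Agent.Lib.Helper25.BT
open Cfsg.Agent.Lib.Helper25.WkCl

/-! ### matrix level: additivity of the entries of lowest degree -/

section matrix
variable {ι : Type*} [Fintype ι] [DecidableEq ι] {F : Type*} [Field F]

/-- an entry of degree less than `2 t` of a product of two matrices of depth `t` is additive -/
theorem UF.entry_mul {w : ι → ℝ} {t : ℝ} {M M' : Matrix ι ι F} (h : UF w t M) (h' : UF w t M')
    (b a : ι) (hba : b ≠ a) (hlt : w b < w a + 2 * t) : (M * M') b a = M b a + M' b a := by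
  have e : M * M' = (M - 1) * (M' - 1) + (M - 1) + (M' - 1) + 1 := by noncomm_ring
  have h0 : ((M - 1) * (M' - 1)) b a = 0 := by
    by_contra hne
    have := (RF.mul h h') b a hne
    linarith
  rw [e]
  simp only [Matrix.add_apply, Matrix.sub_apply, h0, Matrix.one_apply, if_neg hba]
  ring

end matrix

section
variable (D : ChevalleyDatum) (hD : D ∈ [chevG2, chevB2, chevD4, chevF4, chevE6, chevE7, chevE8])
variable (F : Type*) [Field F]
include hD

/-- the grading of a reflected root -/
theorem gr_reflectRoot (i : ℕ) (hi : i < D.rank) (lam : Fin D.rank → ℝ) (s : ℕ) (hs : s < D.nroots) :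
    gr D lam (D.reflectRoot i s) = gr D lam s - (D.cartan i s : ℝ) * gr D lam (D.simple i) := by
  have hC := conjFacts_of_mem D hD i hi
  unfold gr
  rw [Finset.mul_sum, ← Finset.sum_sub_distrib]
  apply Finset.sum_congr rfl
  intro k _
  rw [hC.carRefl k.val k.isLt s hs]
  push_cast; ring

/-- `n_i` moves a grading to its reflection -/
theorem moves_nFund (i : ℕ) (hi : i < D.rank) (lam lam1 : Fin D.rank → ℝ)
    (h1 : grv D lam1 = grv D lam ∘ (reflPerm D hD i hi)) : Moves D F (nFund D hD F i) lam lam1 := by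
  have hcoe : ((nFund D hD F i : GL D.Idx F) : Matrix D.Idx D.Idx F) = D.nMat F (D.simple i) 1 := by
    unfold nFund; rw [coe_wordGL]; rfl
  refine ⟨reflPerm D hD i hi, by rw [hcoe]; exact mono_nMat_fund D hD F i hi, ?_, ?_⟩
  · have e : (nFund D hD F i)⁻¹ = nFund D hD F i * ((nFund D hD F i)⁻¹ * (nFund D hD F i)⁻¹) := by
      group
    rw [e, Units.val_mul, hcoe, reflPerm_inv]
    have := (mono_nMat_fund D hD F i hi).mul (mono_diag D hD F _ (nFund_inv_sq_mem D hD F i hi))
    simpa using this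
  · rw [h1]; rfl

omit hD in
theorem Moves.RF_conj {n : GL D.Idx F} {lam lam' : Fin D.rank → ℝ} (h : Moves D F n lam lam')
    {t : ℝ} {M : Matrix D.Idx D.Idx F} (hM : RF (wtv D (grv D lam)) t M) :
    RF (wtv D (grv D lam')) t ((n : Matrix D.Idx D.Idx F) * M * ((n⁻¹ : GL D.Idx F) : Matrix D.Idx D.Idx F)) := by
  obtain ⟨σ, a1, a2, a3⟩ := h
  rw [a3]
  refine RF.transport hM (fun b a hba => a1.wt_eq (grv D lam) b a hba) (fun b a hba => ?_)
  have := a2.wt_eq (grv D lam ∘ σ.symm) b a hba
  rw [← this]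
  congr 1
  funext u
  show grv D lam u = grv D lam (σ.symm (σ u))
  rw [Equiv.symm_apply_apply]

/-- the grading of the reflected coweight on a fundamental root -/
theorem gr_refl_simple (i : ℕ) (hi : i < D.rank) (lam lam1 : Fin D.rank → ℝ)
    (h1 : grv D lam1 = grv D lam ∘ (reflPerm D hD i hi)) (k : ℕ) (hk : k < D.rank) :
    gr D lam1 (D.simple k) = gr D lam (D.simple k) - (D.cartan i (D.simple k) : ℝ) * gr D lam (D.simple i) := by
  have hF := fundFacts_of_mem D hD k hk
  have e : gr D lam1 (D.simple k) = grv D lam1 ⟨D.simple k, hF.hp⟩ := rfl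
  rw [e, h1]
  show gr D lam (reflPerm D hD i hi ⟨D.simple k, hF.hp⟩).val = _
  rw [reflPerm_apply]
  exact gr_reflectRoot D hD i hi lam _ hF.hp

omit hD in
theorem wtv_two_add (mu mu1 : Fin D.rank → ℝ) :
    wtv D (grv D ((2 : ℝ) • mu + mu1)) = fun a => 2 * wtv D (grv D mu) a + wtv D (grv D mu1) a := by
  funext a
  rcases a with j | u
  · show (0 : ℝ) = 2 * 0 + 0
    norm_num
  · show gr D ((2 : ℝ) • mu + mu1) u.val = 2 * gr D mu u.val + gr D mu1 u.val
    rw [gr_add, gr_smul]

/-- the adaptive step: if `N` is nondecreasing for the dominant grading `mu` and for its reflection in the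
fundamental root `i` with `mu(p_i) > 0`, then it is nondecreasing for a dominant grading which is positive
wherever `mu` is, and on the neighbours of `i` -/
theorem adapt_step (N : Subgroup (GL D.Idx F)) (mu : Fin D.rank → ℝ) (hdom : Dominant D mu)
    (hN : ∀ g ∈ N, RF (wtv D (grv D mu)) 0 (g : Matrix D.Idx D.Idx F))
    (i : ℕ) (hi : i < D.rank)
    (hconj : ∀ g ∈ N, RF (wtv D (grv D mu)) 0
      (((nFund D hD F i)⁻¹ * g * nFund D hD F i : GL D.Idx F) : Matrix D.Idx D.Idx F))
    (hpos : 0 < gr D mu (D.simple i))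
    (hcar : ∀ k < D.rank, k ≠ i → D.cartan i (D.simple k) ≤ 0) :
    ∃ mu' : Fin D.rank → ℝ, Dominant D mu' ∧
      (∀ g ∈ N, RF (wtv D (grv D mu')) 0 (g : Matrix D.Idx D.Idx F)) ∧
      (∀ k < D.rank, 0 < gr D mu (D.simple k) → 0 < gr D mu' (D.simple k)) ∧
      (∀ k < D.rank, D.cartan i (D.simple k) < 0 → 0 < gr D mu' (D.simple k)) := by
  obtain ⟨mu1, h1⟩ := grv_comp_reflPerm D hD i hi mu
  have hmv := moves_nFund D hD F i hi mu mu1 h1
  have hFi := fundFacts_of_mem D hD i hi
  have hval : ∀ k < D.rank, gr D ((2 : ℝ) • mu + mu1) (D.simple k) =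
      3 * gr D mu (D.simple k) - (D.cartan i (D.simple k) : ℝ) * gr D mu (D.simple i) := by
    intro k hk
    rw [gr_add, gr_smul, gr_refl_simple D hD i hi mu mu1 h1 k hk]
    ring
  have hvali : gr D ((2 : ℝ) • mu + mu1) (D.simple i) = gr D mu (D.simple i) := by
    rw [hval i hi, hFi.carP]
    push_cast; ring
  have hge : ∀ k < D.rank, k ≠ i → 3 * gr D mu (D.simple k) ≤ gr D ((2 : ℝ) • mu + mu1) (D.simple k) := by
    intro k hk hki
    rw [hval k hk]
    have h2 : (D.cartan i (D.simple k) : ℝ) ≤ 0 := by exact_mod_cast hcar k hk hki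
    nlinarith
  refine ⟨(2 : ℝ) • mu + mu1, ?_, ?_, ?_, ?_⟩
  · intro k hk
    by_cases hki : k = i
    · rw [hki, hvali]; exact le_of_lt hpos
    · have := hge k hk hki
      have := hdom k hk
      linarith
  · intro g hg
    have h2 : RF (wtv D (grv D mu1)) 0 (g : Matrix D.Idx D.Idx F) := by
      have h3 := Moves.RF_conj D F hmv (hconj g hg)
      have e : ((nFund D hD F i : GL D.Idx F) : Matrix D.Idx D.Idx F) *
          (((nFund D hD F i)⁻¹ * g * nFund D hD F i : GL D.Idx F) : Matrix D.Idx D.Idx F) *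
          (((nFund D hD F i)⁻¹ : GL D.Idx F) : Matrix D.Idx D.Idx F) = (g : Matrix D.Idx D.Idx F) := by
        rw [← Units.val_mul, ← Units.val_mul]
        congr 1
        group
      rwa [e] at h3
    have h4 := ((hN g hg).smul_weight (c := 2) (by norm_num)).add_weight h2
    rw [wtv_two_add]
    simpa using h4
  · intro k hk hk0
    by_cases hki : k = i
    · rw [hki, hvali]; exact hpos
    · have := hge k hk hki
      linarith
  · intro k hk hneg
    have hki : k ≠ i := by
      rintro rfl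
      rw [hFi.carP] at hneg
      omega
    rw [hval k hk]
    have h2 : (D.cartan i (D.simple k) : ℝ) < 0 := by exact_mod_cast hneg
    have := hdom k hk
    nlinarith

/-! ### reading off levels from entries -/

/-- a nontrivial root element of depth `k` has level at least `k` -/
theorem level_of_xGL_UF (lam : Fin D.rank → ℝ) (k : ℝ) (r : ℕ) (hr : r < D.nroots) (u : F) (hu : u ≠ 0)
    (hpm : ∃ i < D.rank, D.cartan i r = 1 ∨ D.cartan i r = -1)
    (h : UF (wtv D (grv D lam)) k ((xGL D hD F r u : GL D.Idx F) : Matrix D.Idx D.Idx F)) :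
    k ≤ gr D lam r := by
  obtain ⟨i, hi, hc⟩ := hpm
  have hent : (((xGL D hD F r u : GL D.Idx F) : Matrix D.Idx D.Idx F) - 1)
      (Sum.inr ⟨r, hr⟩) (Sum.inl ⟨i, hi⟩) ≠ 0 := by
    rw [Matrix.sub_apply, coe_xGL, x_eq_xMat D F r hr, xMat_inr_inl, if_pos rfl, Matrix.one_apply,
      if_neg (by simp), sub_zero]
    have hc' : (D.cartanSR.getD i #[]).getD r 0 = D.cartan i r := rfl
    show -(((D.cartanSR.getD i #[]).getD r 0 : ℤ) : F) * u ≠ 0
    rw [hc']
    rcases hc with h1 | h1 <;> rw [h1] <;> simpa using hu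
  have h1 := h _ _ hent
  have e1 : wtv D (grv D lam) (Sum.inl ⟨i, hi⟩) = 0 := rfl
  have e2 : wtv D (grv D lam) (Sum.inr ⟨r, hr⟩) = gr D lam r := rfl
  rw [e1, e2] at h1
  linarith

/-- a nontrivial root element which is grading-nondecreasing has nonnegative level -/
theorem level_of_xGL_RF (lam : Fin D.rank → ℝ) (r : ℕ) (hr : r < D.nroots) (u : F) (hu : u ≠ 0)
    (hpm : ∃ i < D.rank, D.cartan i r = 1 ∨ D.cartan i r = -1)
    (h : RF (wtv D (grv D lam)) 0 ((xGL D hD F r u : GL D.Idx F) : Matrix D.Idx D.Idx F)) :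
    0 ≤ gr D lam r := by
  obtain ⟨i, hi, hc⟩ := hpm
  have hent : ((xGL D hD F r u : GL D.Idx F) : Matrix D.Idx D.Idx F)
      (Sum.inr ⟨r, hr⟩) (Sum.inl ⟨i, hi⟩) ≠ 0 := by
    rw [coe_xGL, x_eq_xMat D F r hr, xMat_inr_inl, if_pos rfl]
    have hc' : (D.cartanSR.getD i #[]).getD r 0 = D.cartan i r := rfl
    show -(((D.cartanSR.getD i #[]).getD r 0 : ℤ) : F) * u ≠ 0
    rw [hc']
    rcases hc with h1 | h1 <;> rw [h1] <;> simpa using hu
  have h1 := h _ _ hent
  have e1 : wtv D (grv D lam) (Sum.inl ⟨i, hi⟩) = 0 := rfl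
  have e2 : wtv D (grv D lam) (Sum.inr ⟨r, hr⟩) = gr D lam r := rfl
  rw [e1, e2] at h1
  linarith

/-! ### full root subgroups -/

/-- the root subgroup `X_r` lies in `N` -/
def Full (N : Subgroup (GL D.Idx F)) (r : ℕ) : Prop := ∀ u : F, xGL D hD F r u ∈ N

theorem Full.reflect {N : Subgroup (GL D.Idx F)} {r : ℕ} (h : Full D hD F N r) (hr : r < D.nroots)
    (i : ℕ) (hi : i < D.rank)
    (hn : ∀ g ∈ N, nFund D hD F i * g * (nFund D hD F i)⁻¹ ∈ N) : Full D hD F N (D.reflectRoot i r) := by
  intro u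
  obtain ⟨-, c, hc, h1⟩ := actsAs_nFund D hD F i hi r hr
  have h2 := hn _ (h (c⁻¹ * u))
  rw [h1, ← mul_assoc, mul_inv_cancel₀ hc, one_mul] at h2
  exact h2

end

/-! ### factorisation in a `B`-invariant subgroup of `U` -/

section
variable (D : ChevalleyDatum) (hD : D ∈ [chevG2, chevB2, chevD4, chevF4, chevE6, chevE7, chevE8])
variable (F : Type*) [Field F] [Fintype F]
include hD

/-- `B` normalises `U` -/
theorem borel_le_normalizer_posUnipotent :
    D.borelSubgroup F ≤ Subgroup.normalizer (D.posUnipotent F : Set (GL D.Idx F)) := by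
  obtain ⟨w, hO⟩ := exists_ordW D hD
  have hA := chainAdd_linF D hD w
  rw [posUnipotent_eq_closure_gensL]
  exact borel_le_normalizer_gensL D hD F _ hA hO _ (goodL_posRoots D)

/-- every element of a `B`-invariant subgroup `Y` of `U` is an ordered product of root elements whose
root subgroups lie in `Y` -/
theorem exists_factor (h2 : Fintype.card F ≠ 2)
    (h3 : D ∈ [chevG2, chevB2, chevD4, chevF4] → Fintype.card F ≠ 3)
    (Y : Subgroup (GL D.Idx F)) (hYU : Y ≤ D.posUnipotent F)
    (hYB : D.borelSubgroup F ≤ Subgroup.normalizer (Y : Set (GL D.Idx F)))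
    (y : GL D.Idx F) (hy : y ∈ Y) :
    ∃ t : ℕ → F, y = ordProd D hD F D.posRoots t ∧
      ∀ r ∈ D.posRoots, t r ≠ 0 → Full D hD F Y r := by
  obtain ⟨w, hO⟩ := exists_ordW D hD
  have hA := chainAdd_linF D hD w
  have hG := goodL_posRoots D
  have horacle := pairOracle_of_mem F D hD h2 h3
  have hYH : D.diagonalSubgroup F ≤ Subgroup.normalizer (Y : Set (GL D.Idx F)) :=
    le_trans le_sup_right hYB
  have hyU := hYU hy
  rw [posUnipotent_eq_closure_gensL] at hyU
  obtain ⟨t, rfl⟩ := exists_ordProd D hD F _ hA hO _ hG y hyU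
  refine ⟨t, rfl, ?_⟩
  intro r hr hne u
  have h1 := sep_main D hD F _ hA hO horacle Y hYU hYB t hy r hr
  exact full_of_diag_normal D hD F Y hYH r ((mem_posRoots D r).mp hr).1 (t r) hne h1 u

end

end Cfsg.Agent.Lib.Helper25.IC
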