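import Cfsg.Agent.Lib.Helper25.ICb
import Cfsg.Agent.Lib.Helper7.ChevCoxeterTabE8

/-!
# Iterated cores: the tables of `E₈` relative to the branch node (helper25)

The fundamental coweight `lamE` of the branch node `p₄` (index `3`), whose values on the roots are the
levels `levZ`, the regular coweight `rhoE`, and the root-combinatorial facts used by the descent argument.
-/

set_option autoImplicit false

namespace Cfsg.Agent.Lib.Helper25.IC

open Cfsg Cfsg.Lie Matrix Cfsg.Agent.Lib.Helper7 Cfsg.Agent.Lib.Helper25.BT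
open Cfsg.Agent.Lib.Helper25.ChInv

/-- a coweight given by a list of integers (coordinates on the fundamental coroots) -/
def ofList (D : ChevalleyDatum) (L : List ℤ) : Fin D.rank → ℝ := fun k => ((L.getD k.val 0 : ℤ) : ℝ)

theorem gr_ofList (D : ChevalleyDatum) (L : List ℤ) (r : ℕ) :
    gr D (ofList D L) r = ((linF D L r : ℤ) : ℝ) := by
  unfold gr linF ofList
  rw [sum_range_map]
  push_cast
  rw [← Fin.sum_univ_eq_sum_range (fun k => ((L.getD k 0 : ℤ) : ℝ) * ((D.cartan k r : ℤ) : ℝ)) D.rank]

/-- the level of a root: the coefficient of the branch node -/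
def levZ (r : ℕ) : ℤ := (expR_E8.getD r []).getD 3 0

/-- the fundamental coweight of the branch node -/
def lamL : List ℤ := [10, 15, 20, 30, 24, 18, 12, 6]

/-- the sum of the fundamental coweights -/
def rhoL : List ℤ := [46, 68, 91, 135, 110, 84, 57, 29]

/-- the nodes other than the branch node -/
def Jl : List ℕ := [0, 1, 2, 4, 5, 6, 7]

/-- the positive roots which are not lowered by a reflection in `J` -/
def termL : List ℕ := [120, 121, 123, 126, 130, 135, 141, 162, 152, 194, 214, 224, 235]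

def hasDescB (r : ℕ) : Bool :=
  Jl.any fun i => decide (chevE8.reflectRoot i r < r) && decide (chevE8.IsPosRoot (chevE8.reflectRoot i r))

def tabB : Bool :=
  (chevE8.posRoots.all fun r => hasDescB r || termL.contains r) &&
  ((List.range 240).all fun r => decide (levZ r ≤ 6)) &&
  ((List.range 240).all fun r => r == 130 || r == 109 ||
    decide (-1 ≤ chevE8.cartan 3 r ∧ chevE8.cartan 3 r ≤ 1)) &&
  ((List.range 240).all fun r => (List.range 8).any fun i =>
    chevE8.cartan i r == 1 || chevE8.cartan i r == -1) &&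
  ((List.range 8).all fun i => (List.range 8).all fun k => i == k || decide (chevE8.cartan i (chevE8.simple k) ≤ 0)) &&
  ((List.range 8).all fun k => linF chevE8 lamL (chevE8.simple k) == if k = 3 then 1 else 0) &&
  ((List.range 8).all fun k => linF chevE8 rhoL (chevE8.simple k) == 1)

theorem tabB_eq : tabB = true := by decide +kernel

theorem mem_E8' : chevE8 ∈ [chevG2, chevB2, chevD4, chevF4, chevE6, chevE7, chevE8] := by simp

theorem rank_E8 : chevE8.rank = 8 := by decide
theorem nroots_E8 : chevE8.nroots = 240 := by decide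

structure TabFacts : Prop where
  desc : ∀ r, chevE8.IsPosRoot r → (∃ i ∈ Jl, chevE8.reflectRoot i r < r ∧
    chevE8.IsPosRoot (chevE8.reflectRoot i r)) ∨ r ∈ termL
  lev6 : ∀ r < 240, levZ r ≤ 6
  car3 : ∀ r < 240, r ≠ 130 → r ≠ 109 → -1 ≤ chevE8.cartan 3 r ∧ chevE8.cartan 3 r ≤ 1
  pm : ∀ r < 240, ∃ i < 8, chevE8.cartan i r = 1 ∨ chevE8.cartan i r = -1
  sgn : ∀ i < 8, ∀ k < 8, k ≠ i → chevE8.cartan i (chevE8.simple k) ≤ 0
  lam : ∀ k < 8, linF chevE8 lamL (chevE8.simple k) = if k = 3 then 1 else 0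
  rho : ∀ k < 8, linF chevE8 rhoL (chevE8.simple k) = 1

theorem tabFacts : TabFacts := by
  have h := tabB_eq
  unfold tabB at h
  simp only [Bool.and_eq_true, List.all_eq_true, Bool.or_eq_true, List.any_eq_true, List.mem_range,
    beq_iff_eq, decide_eq_true_eq, List.contains_iff_mem] at h
  obtain ⟨⟨⟨⟨⟨⟨h1, h2⟩, h3⟩, h4⟩, h5⟩, h6⟩, h7⟩ := h
  refine ⟨?_, h2, ?_, ?_, ?_, h6, h7⟩
  · intro r hr
    rcases h1 r ((mem_posRoots chevE8 r).mpr hr) with h | h
    · left
      unfold hasDescB at h
      simp only [List.any_eq_true, Bool.and_eq_true, decide_eq_true_eq] at h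
      obtain ⟨i, hi, h'⟩ := h
      exact ⟨i, hi, h'⟩
    · right; exact h
  · intro r hr h130 h109
    rcases h3 r hr with (h | h) | h
    · exact absurd h h130
    · exact absurd h h109
    · exact h
  · intro r hr
    obtain ⟨i, hi, h'⟩ := h4 r hr
    exact ⟨i, hi, h'⟩
  · intro i hi k hk hki
    rcases h5 i hi k hk with h | h
    · exact absurd h.symm hki
    · exact h

/-- the fundamental coweight of the branch node -/
noncomputable def lamE : Fin chevE8.rank → ℝ := ofList chevE8 lamL

/-- the regular coweight -/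
noncomputable def rhoE : Fin chevE8.rank → ℝ := ofList chevE8 rhoL

theorem gr_lamE_simple (k : ℕ) (hk : k < 8) :
    gr chevE8 lamE (chevE8.simple k) = if k = 3 then 1 else 0 := by
  unfold lamE
  rw [gr_ofList, tabFacts.lam k hk]
  split_ifs <;> simp

theorem gr_rhoE_simple (k : ℕ) (hk : k < 8) : gr chevE8 rhoE (chevE8.simple k) = 1 := by
  unfold rhoE
  rw [gr_ofList, tabFacts.rho k hk]
  simp

theorem dominant_lamE : Dominant chevE8 lamE := by
  intro k hk
  rw [gr_lamE_simple k (by rw [rank_E8] at hk; exact hk)]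
  split_ifs <;> norm_num

theorem dominant_rhoE : Dominant chevE8 rhoE := by
  intro k hk
  rw [gr_rhoE_simple k (by rw [rank_E8] at hk; exact hk)]
  norm_num

/-- the levels are the values of `lamE` -/
theorem gr_lamE (r : ℕ) (hr : r < 240) : gr chevE8 lamE r = ((levZ r : ℤ) : ℝ) := by
  have hR := expFacts_of_expOKB chevE8 expR_E8 expOKB_E8
  rw [gr_expand chevE8 mem_E8' expR_E8 hR lamE r (by rw [nroots_E8]; exact hr), rank_E8]
  rw [Finset.sum_eq_single 3]
  · rw [gr_lamE_simple 3 (by norm_num), if_pos rfl, mul_one]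
    rfl
  · intro k hk hk3
    rw [gr_lamE_simple k (Finset.mem_range.mp hk), if_neg hk3, mul_zero]
  · intro h; exact absurd (Finset.mem_range.mpr (by norm_num)) h

theorem zeroSet_lamE : zeroSet chevE8 lamE = {k | k < 8 ∧ k ≠ 3} := by
  ext k
  unfold zeroSet
  simp only [Set.mem_setOf_eq, rank_E8]
  constructor
  · rintro ⟨hk, h0⟩
    refine ⟨hk, ?_⟩
    rintro rfl
    rw [gr_lamE_simple 3 hk, if_pos rfl] at h0
    norm_num at h0
  · rintro ⟨hk, h3⟩
    exact ⟨hk, by rw [gr_lamE_simple k hk, if_neg h3]⟩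

theorem zeroSet_rhoE : zeroSet chevE8 rhoE = ∅ := by
  ext k
  unfold zeroSet
  simp only [Set.mem_setOf_eq, rank_E8, Set.mem_empty_iff_false, iff_false, not_and]
  intro hk
  rw [gr_rhoE_simple k hk]
  norm_num

/-- `rhoE` is at least `1` on the positive roots -/
theorem one_le_gr_rhoE (r : ℕ) (hr : chevE8.IsPosRoot r) : 1 ≤ gr chevE8 rhoE r := by
  have h1 := dominant_pos chevE8 mem_E8' rhoE dominant_rhoE r hr (by
    rw [zeroSet_rhoE]; exact not_inRootSub_empty chevE8 mem_E8' r hr.1)
  unfold rhoE at h1 ⊢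
  rw [gr_ofList] at h1 ⊢
  have h2 : (0 : ℤ) < linF chevE8 rhoL r := by exact_mod_cast h1
  have h3 : (1 : ℤ) ≤ linF chevE8 rhoL r := h2
  exact_mod_cast h3

/-- the level of a positive root is nonnegative -/
theorem levZ_nonneg (r : ℕ) (hr : chevE8.IsPosRoot r) : 0 ≤ levZ r := by
  have hR := expFacts_of_expOKB chevE8 expR_E8 expOKB_E8
  exact coef_nonneg chevE8 expR_E8 hR r hr 3 (by rw [rank_E8]; norm_num)

end Cfsg.Agent.Lib.Helper25.IC
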