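import Cfsg.Agent.Lib.Helper25.ICc

/-!
# Iterated cores: from `B` to `U` (helper25)

An element `g = h u` of `B` for which the commutators `[g, x_p(1)]`, `p` fundamental, have a vanishing
entry at `(e_p, h_p)` lies in `U`.
-/

set_option autoImplicit false

namespace Cfsg.Agent.Lib.Helper25.IC

open Cfsg Cfsg.Lie Matrix Cfsg.Agent.Lib.Helper7 Cfsg.Agent.Lib.Helper25.BT
open Cfsg.Agent.Lib.Helper25.ChInv Cfsg.Agent.Lib.Helper11.ChevParCent

section
variable (D : ChevalleyDatum) (hD : D ∈ [chevG2, chevB2, chevD4, chevF4, chevE6, chevE7, chevE8])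
variable (F : Type*) [Field F] [Fintype F]
include hD

/-- the entry at `(e_p, h_p)` of `x_p(t)` -/
theorem xGL_simple_entry (i : ℕ) (hi : i < D.rank) (t : F) :
    ((xGL D hD F (D.simple i) t : GL D.Idx F) : Matrix D.Idx D.Idx F)
      (Sum.inr ⟨D.simple i, (fundFacts_of_mem D hD i hi).hp⟩) (Sum.inl ⟨i, hi⟩) = -2 * t := by
  have hF := fundFacts_of_mem D hD i hi
  rw [coe_xGL, x_eq_xMat D F _ hF.hp, xMat_inr_inl, if_pos rfl]
  have hc' : (D.cartanSR.getD i #[]).getD (D.simple i) 0 = D.cartan i (D.simple i) := rfl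
  show -(((D.cartanSR.getD i #[]).getD (D.simple i) 0 : ℤ) : F) * t = -2 * t
  rw [hc', hF.carP]
  push_cast; ring

theorem mem_posUnipotent_of_comm_entries (htwo : (2 : F) ≠ 0) (mu : Fin D.rank → ℝ)
    (hmu1 : ∀ i < D.rank, gr D mu (D.simple i) = 1)
    (hmupos : ∀ r, D.IsPosRoot r → 1 ≤ gr D mu r)
    (g : GL D.Idx F) (hg : g ∈ D.borelSubgroup F)
    (hent : ∀ i (hi : i < D.rank),
      ((g * xGL D hD F (D.simple i) 1 * g⁻¹ * (xGL D hD F (D.simple i) 1)⁻¹ : GL D.Idx F) :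
        Matrix D.Idx D.Idx F)
        (Sum.inr ⟨D.simple i, (fundFacts_of_mem D hD i hi).hp⟩) (Sum.inl ⟨i, hi⟩) = 0) :
    g ∈ D.posUnipotent F := by
  obtain ⟨w, hw⟩ := exists_parCentFacts D hD
  have hg' : g ∈ ((D.borelSubgroup F : Subgroup (GL D.Idx F)) : Set (GL D.Idx F)) := hg
  rw [borel_eq_mul D hD F] at hg'
  obtain ⟨h, hh, u, hu, rfl⟩ := Set.mem_mul.mp hg'
  obtain ⟨χ, hχ, hhm⟩ := mem_diagonalSubgroup_char D hD F h hh
  have hUF : D.posUnipotent F ≤ ufSubgroup (wtv D (grv D mu)) 1 zero_le_one :=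
    posUnipotent_le_uf D hD F mu hmupos
  have hχ1 : ∀ j < D.rank, χ (D.simple j) = 1 := by
    intro i hi
    have hF := fundFacts_of_mem D hD i hi
    have hpos : D.IsPosRoot (D.simple i) := (parFacts_of_mem D hD).simplePos i hi
    obtain ⟨x, hx⟩ : ∃ x : GL D.Idx F, x = xGL D hD F (D.simple i) 1 := ⟨_, rfl⟩
    have hxU : x ∈ D.posUnipotent F := by rw [hx]; exact xGL_pos_mem D hD F _ hpos 1
    -- the relevant entry
    let b : D.Idx := Sum.inr ⟨D.simple i, hF.hp⟩
    let a : D.Idx := Sum.inl ⟨i, hi⟩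
    have hba : b ≠ a := by simp [b, a]
    have hwb : wtv D (grv D mu) b = 1 := hmu1 i hi
    have hwa : wtv D (grv D mu) a = 0 := rfl
    have hlt : wtv D (grv D mu) b < wtv D (grv D mu) a + 2 * 1 := by rw [hwb, hwa]; norm_num
    have hadd : ∀ v v' : GL D.Idx F, v ∈ D.posUnipotent F → v' ∈ D.posUnipotent F →
        ((v * v' : GL D.Idx F) : Matrix D.Idx D.Idx F) b a =
          (v : Matrix D.Idx D.Idx F) b a + (v' : Matrix D.Idx D.Idx F) b a := by
      intro v v' hv hv'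
      rw [Units.val_mul]
      exact UF.entry_mul (hUF hv) (hUF hv') b a hba hlt
    -- `z = u x u⁻¹`
    have hz : ((u * x * u⁻¹ : GL D.Idx F) : Matrix D.Idx D.Idx F) b a = (x : Matrix D.Idx D.Idx F) b a := by
      rw [hadd _ _ (Subgroup.mul_mem _ hu hxU) (Subgroup.inv_mem _ hu), hadd _ _ hu hxU]
      have h1 := hadd u u⁻¹ hu (Subgroup.inv_mem _ hu)
      rw [mul_inv_cancel, Units.val_one, Matrix.one_apply, if_neg hba] at h1
      linear_combination -h1
    have hzU : u * x * u⁻¹ ∈ D.posUnipotent F :=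
      Subgroup.mul_mem _ (Subgroup.mul_mem _ hu hxU) (Subgroup.inv_mem _ hu)
    have hhz : h * (u * x * u⁻¹) * h⁻¹ ∈ D.posUnipotent F :=
      diagChar_conj_mem_posUnipotent D hD F h χ hχ hhm _ hzU
    have hhzent : ((h * (u * x * u⁻¹) * h⁻¹ : GL D.Idx F) : Matrix D.Idx D.Idx F) b a =
        χ (D.simple i) * (x : Matrix D.Idx D.Idx F) b a := by
      rw [Units.val_mul, Units.val_mul, hhm, coe_inv_of_diagChar D F h χ hχ.ne0 hhm]
      unfold diagChar
      rw [Matrix.mul_diagonal, Matrix.diagonal_mul, hz]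
      simp [b, a]
    have hy := hent i hi
    have e : (h * u) * xGL D hD F (D.simple i) 1 * (h * u)⁻¹ * (xGL D hD F (D.simple i) 1)⁻¹ =
        (h * (u * x * u⁻¹) * h⁻¹) * x⁻¹ := by rw [hx]; group
    rw [e, hadd _ _ hhz (Subgroup.inv_mem _ hxU), hhzent] at hy
    have hxe : (x : Matrix D.Idx D.Idx F) b a = -2 := by
      rw [hx]
      have := xGL_simple_entry D hD F i hi 1
      rw [mul_one] at this
      exact this
    have hxie : ((x⁻¹ : GL D.Idx F) : Matrix D.Idx D.Idx F) b a = 2 := by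
      rw [hx, xGL_inv]
      have := xGL_simple_entry D hD F i hi (-1)
      rw [this]; ring
    rw [hxe, hxie] at hy
    have h3 : (2 : F) * (1 - χ (D.simple i)) = 0 := by linear_combination hy
    rcases mul_eq_zero.mp h3 with h4 | h4
    · exact absurd h4 htwo
    · exact (sub_eq_zero.mp h4).symm
  have h1 : h = 1 := eq_one_of_char_fund D hD F w hw χ hχ h hhm hχ1
  rw [h1, one_mul]
  exact hu

end

end Cfsg.Agent.Lib.Helper25.IC
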