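import Cfsg.Agent.Lib.Helper25.ICd

/-!
# Iterated cores: the level subgroups of the maximal parabolic subgroup of `E₈` (helper25)

`PJ` is the maximal parabolic subgroup of `E₈(F)` at the branch node, `WW k` the subgroup of the elements
of `G` which are unipotent of depth `k` for the grading of the branch node, `nJ` the fundamental
reflection of the branch node.
-/

set_option autoImplicit false
set_option linter.unusedSectionVars false

namespace Cfsg.Agent.Lib.Helper25.IC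

open Cfsg Cfsg.Lie Matrix Cfsg.Agent.Lib.Helper7 Cfsg.Agent.Lib.Helper25.BT
open Cfsg.Agent.Lib.Helper25.ChInv Cfsg.Agent.Lib.Helper25.WkCl

theorem le_normalizer_of_conj {G : Type*} [Group G] (K N : Subgroup G)
    (h : ∀ p ∈ K, ∀ g ∈ N, p * g * p⁻¹ ∈ N) : K ≤ Subgroup.normalizer (N : Set G) := by
  intro p hp
  rw [Subgroup.mem_set_normalizer_iff]
  intro x
  constructor
  · exact h p hp x
  · intro hx
    have := h p⁻¹ (K.inv_mem hp) _ hx
    have e : p⁻¹ * (p * x * p⁻¹) * p⁻¹⁻¹ = x := by group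
    rwa [e] at this

theorem Jl_facts : ∀ i ∈ Jl, i < 8 ∧ i ≠ 3 := by decide

theorem term_facts : ∀ r ∈ termL, (levZ r = 0 ∧ ∃ i ∈ Jl, r = chevE8.simple i) ∨
    (r = 130 ∧ levZ r = 1 ∧ chevE8.cartan 3 r = 2) ∨ (2 ≤ levZ r ∧ chevE8.cartan 3 r = 1) := by
  decide +kernel

theorem lev_130 : levZ 130 = 1 := by decide +kernel
theorem lev_109 : levZ 109 = -1 := by decide +kernel
theorem lev_235 : levZ 235 = 6 := by decide +kernel
theorem simple_3 : chevE8.simple 3 = 130 := by decide +kernel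

section
variable (F : Type*) [Field F] [Fintype F]

/-- the weight function of the branch node -/
noncomputable abbrev wE : chevE8.Idx → ℝ := wtv chevE8 (grv chevE8 lamE)

/-- the maximal parabolic subgroup at the branch node -/
abbrev PJ : Subgroup (GL chevE8.Idx F) := chevE8.parabolicSubgroup F (zeroSet chevE8 lamE)

/-- the fundamental reflection of the branch node -/
noncomputable abbrev nJ : GL chevE8.Idx F := nFund chevE8 mem_E8' F 3

/-- the elements of `G` of depth `k` -/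
noncomputable def WW (k : ℕ) : Subgroup (GL chevE8.Idx F) :=
  ufSubgroup wE (k : ℝ) (Nat.cast_nonneg k) ⊓ chevE8.group F

theorem mem_WW (k : ℕ) (g : GL chevE8.Idx F) :
    g ∈ WW F k ↔ UF wE (k : ℝ) (g : Matrix chevE8.Idx chevE8.Idx F) ∧ g ∈ chevE8.group F := by
  unfold WW
  rw [Subgroup.mem_inf]
  rfl

theorem PJ_le_rf : PJ F ≤ rfSubgroup wE := by
  show chevE8.parabolicSubgroup F (zeroSet chevE8 lamE) ≤ _
  rw [← uJ_sup_levi chevE8 mem_E8' F (zeroSet chevE8 lamE)]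
  apply sup_le
  · intro g hg
    obtain ⟨ε, hε, hu⟩ := uJ_le_ufPos chevE8 mem_E8' F lamE dominant_lamE hg
    exact hu.toRF (le_of_lt hε)
  · intro g hg
    exact (levi_le_bf chevE8 mem_E8' F lamE hg).toRF

theorem rf_inf_group_le_PJ : rfSubgroup wE ⊓ chevE8.group F ≤ PJ F :=
  rf_inf_group_le_parabolic chevE8 mem_E8' F lamE dominant_lamE

theorem PJ_le_group : PJ F ≤ chevE8.group F := parabolic_le_group chevE8 mem_E8' F _

theorem borel_le_PJ : chevE8.borelSubgroup F ≤ PJ F := le_sup_left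

theorem coe_nFund (i : ℕ) :
    ((nFund chevE8 mem_E8' F i : GL chevE8.Idx F) : Matrix chevE8.Idx chevE8.Idx F) =
      chevE8.nMat F (chevE8.simple i) 1 := by
  unfold nFund; rw [coe_wordGL]; rfl

theorem nFund_mem_PJ (i : ℕ) (hi : i ∈ Jl) : nFund chevE8 mem_E8' F i ∈ PJ F := by
  obtain ⟨hi8, hi3⟩ := Jl_facts i hi
  apply Subgroup.mem_sup_right
  apply Subgroup.subset_closure
  refine ⟨i, ?_, by rw [rank_E8]; exact hi8, coe_nFund F i⟩
  rw [zeroSet_lamE]
  exact ⟨hi8, hi3⟩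

theorem nJ_not_mem_rf : nJ F ∉ rfSubgroup wE := by
  intro h
  have := mem_zeroSet_of_nFund_mem_rf chevE8 mem_E8' F lamE dominant_lamE 3 (by rw [rank_E8]; norm_num) h
  rw [zeroSet_lamE] at this
  exact this.2 rfl

theorem nJ_not_mem_PJ : nJ F ∉ PJ F := fun h => nJ_not_mem_rf F (PJ_le_rf F h)

theorem nJ_sq_mem : nJ F * nJ F ∈ PJ F := by
  have h1 := nFund_inv_sq_mem chevE8 mem_E8' F 3 (by rw [rank_E8]; norm_num)
  have h2 : nJ F * nJ F = ((nJ F)⁻¹ * (nJ F)⁻¹)⁻¹ := by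
    rw [_root_.mul_inv_rev, inv_inv]
  rw [h2]
  apply Subgroup.inv_mem
  exact borel_le_PJ F (diagonal_le_borel chevE8 mem_E8' F h1)

theorem nJ_mem_group : nJ F ∈ chevE8.group F :=
  monomial_le_group chevE8 mem_E8' F (nFund_mem_monomial chevE8 mem_E8' F 3 (by rw [rank_E8]; norm_num))

/-! ### the level subgroups -/

theorem WW_le_group (k : ℕ) : WW F k ≤ chevE8.group F := inf_le_right

theorem uJ_le_posUnipotent (J : Set ℕ) : chevE8.unipotentRadical F J ≤ chevE8.posUnipotent F := by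
  unfold ChevalleyDatum.unipotentRadical ChevalleyDatum.posUnipotent
  apply Subgroup.closure_mono
  rintro g ⟨r, t, hr, -, hg⟩
  exact ⟨r, t, hr, hg⟩

theorem WW_le_posUnipotent (k : ℕ) (hk : 1 ≤ k) : WW F k ≤ chevE8.posUnipotent F := by
  intro g hg
  rw [mem_WW] at hg
  have h1 : UF wE 1 (g : Matrix chevE8.Idx chevE8.Idx F) := hg.1.mono (by exact_mod_cast hk)
  exact uJ_le_posUnipotent F _ (mem_uJ_of_UF chevE8 mem_E8' F lamE dominant_lamE g hg.2 h1)

theorem WW_conj (k : ℕ) (p : GL chevE8.Idx F) (hp : p ∈ PJ F) (g : GL chevE8.Idx F) (hg : g ∈ WW F k) :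
    p * g * p⁻¹ ∈ WW F k := by
  rw [mem_WW] at hg ⊢
  refine ⟨?_, Subgroup.mul_mem _ (Subgroup.mul_mem _ (PJ_le_group F hp) hg.2)
    (Subgroup.inv_mem _ (PJ_le_group F hp))⟩
  rw [Units.val_mul, Units.val_mul]
  refine UF.conj hg.1 (PJ_le_rf F hp) (PJ_le_rf F (Subgroup.inv_mem _ hp)) ?_
  rw [← Units.val_mul, mul_inv_cancel, Units.val_one]

theorem WW_anti (k : ℕ) : WW F (k + 1) ≤ WW F k := by
  intro g hg
  rw [mem_WW] at hg ⊢
  exact ⟨hg.1.mono (by push_cast; linarith), hg.2⟩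

theorem WW_one_le_PJ : WW F 1 ≤ PJ F := by
  intro g hg
  rw [mem_WW] at hg
  apply rf_inf_group_le_PJ F
  exact Subgroup.mem_inf.mpr ⟨hg.1.toRF (by norm_num), hg.2⟩

theorem WW_le_PJ (k : ℕ) (hk : 1 ≤ k) : WW F k ≤ PJ F := by
  induction k with
  | zero => omega
  | succ k ih =>
    by_cases hk0 : k = 0
    · subst hk0; exact WW_one_le_PJ F
    · exact le_trans (WW_anti F k) (ih (by omega))

theorem xGL_mem_WW (r : ℕ) (hr : r < 240) (k : ℕ) (hk : (k : ℤ) ≤ levZ r) (u : F) :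
    xGL chevE8 mem_E8' F r u ∈ WW F k := by
  rw [mem_WW]
  refine ⟨?_, xGL_mem_group chevE8 mem_E8' F r u⟩
  have hr' : r < chevE8.nroots := by rw [nroots_E8]; exact hr
  have h0 : (0 : ℝ) ≤ gr chevE8 lamE r := by
    rw [gr_lamE r hr]
    have : (0 : ℤ) ≤ levZ r := le_trans (by positivity) hk
    exact_mod_cast this
  have h1 := x_UF chevE8 mem_E8' F (chainAddR_gr chevE8 mem_E8' lamE) r hr' u h0
  rw [coe_xGL]
  refine h1.mono ?_
  rw [gr_lamE r hr]
  exact_mod_cast hk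

theorem levZ_of_mem_WW (r : ℕ) (hr : r < 240) (k : ℕ) (u : F) (hu : u ≠ 0)
    (h : xGL chevE8 mem_E8' F r u ∈ WW F k) : (k : ℤ) ≤ levZ r := by
  rw [mem_WW] at h
  have hr' : r < chevE8.nroots := by rw [nroots_E8]; exact hr
  have hpm : ∃ i < chevE8.rank, chevE8.cartan i r = 1 ∨ chevE8.cartan i r = -1 := by
    obtain ⟨i, hi, h'⟩ := tabFacts.pm r hr
    exact ⟨i, by rw [rank_E8]; exact hi, h'⟩
  have h1 := level_of_xGL_UF chevE8 mem_E8' F lamE (k : ℝ) r hr' u hu hpm h.1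
  rw [gr_lamE r hr] at h1
  exact_mod_cast h1

theorem levZ_of_mem_rf (r : ℕ) (hr : r < 240) (u : F) (hu : u ≠ 0)
    (h : xGL chevE8 mem_E8' F r u ∈ rfSubgroup wE) : 0 ≤ levZ r := by
  have hr' : r < chevE8.nroots := by rw [nroots_E8]; exact hr
  have hpm : ∃ i < chevE8.rank, chevE8.cartan i r = 1 ∨ chevE8.cartan i r = -1 := by
    obtain ⟨i, hi, h'⟩ := tabFacts.pm r hr
    exact ⟨i, by rw [rank_E8]; exact hi, h'⟩
  have h1 := level_of_xGL_RF chevE8 mem_E8' F lamE r hr' u hu hpm h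
  rw [gr_lamE r hr] at h1
  exact_mod_cast h1

theorem reflect_lt (i : ℕ) (hi : i < 8) (r : ℕ) (hr : r < 240) : chevE8.reflectRoot i r < 240 := by
  have hC := conjFacts_of_mem chevE8 mem_E8' i (by rw [rank_E8]; exact hi)
  have := hC.wlt r (by rw [nroots_E8]; exact hr)
  rwa [nroots_E8] at this

theorem levZ_reflect (i : ℕ) (hi : i < 8) (r : ℕ) (hr : r < 240) :
    levZ (chevE8.reflectRoot i r) = levZ r - chevE8.cartan i r * (if i = 3 then 1 else 0) := by
  have hi' : i < chevE8.rank := by rw [rank_E8]; exact hi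
  have hr' : r < chevE8.nroots := by rw [nroots_E8]; exact hr
  have h1 := gr_reflectRoot chevE8 mem_E8' i hi' lamE r hr'
  rw [gr_lamE _ (reflect_lt i hi r hr), gr_lamE r hr, gr_lamE_simple i hi] at h1
  have h2 : ((levZ (chevE8.reflectRoot i r) : ℤ) : ℝ) =
      ((levZ r - chevE8.cartan i r * (if i = 3 then 1 else 0) : ℤ) : ℝ) := by
    rw [h1]
    split_ifs <;> push_cast <;> ring
  exact_mod_cast h2

end

end Cfsg.Agent.Lib.Helper25.IC
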