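import Cfsg.Agent.Lib.Helper25.ICe

/-!
# Iterated cores: the upper and lower bounds (helper25)

A subgroup of `U` which is normalised by the maximal parabolic subgroup `PJ` is a product of root subgroups;
the reflections of `J` move each of its roots down to the lowest root of its level, and the reflection of
the branch node lowers the level of that root.
-/

set_option autoImplicit false
set_option linter.unusedSectionVars false

namespace Cfsg.Agent.Lib.Helper25.IC

open Cfsg Cfsg.Lie Matrix Cfsg.Agent.Lib.Helper7 Cfsg.Agent.Lib.Helper25.BT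
open Cfsg.Agent.Lib.Helper25.ChInv Cfsg.Agent.Lib.Helper25.WkCl

section
variable (F : Type*) [Field F] [Fintype F]

/-- descent to a terminal root of the same level -/
theorem descent (N : Subgroup (GL chevE8.Idx F))
    (hNn : ∀ i ∈ Jl, ∀ g ∈ N, nFund chevE8 mem_E8' F i * g * (nFund chevE8 mem_E8' F i)⁻¹ ∈ N) :
    ∀ r, chevE8.IsPosRoot r → Full chevE8 mem_E8' F N r →
      ∃ r' ∈ termL, Full chevE8 mem_E8' F N r' ∧ levZ r' = levZ r := by
  intro r
  induction r using Nat.strong_induction_on with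
  | _ r ih =>
    intro hr hfull
    have hr240 : r < 240 := by have := hr.1; rwa [nroots_E8] at this
    rcases tabFacts.desc r hr with ⟨i, hi, hlt, hpos⟩ | hterm
    · obtain ⟨hi8, hi3⟩ := Jl_facts i hi
      have hfull' := hfull.reflect chevE8 mem_E8' F hr.1 i (by rw [rank_E8]; exact hi8) (hNn i hi)
      obtain ⟨r', hr', hf, hl⟩ := ih _ hlt hpos hfull'
      refine ⟨r', hr', hf, ?_⟩
      rw [hl, levZ_reflect i hi8 r hr240, if_neg hi3, mul_zero, sub_zero]
    · exact ⟨r, hterm, hfull, rfl⟩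

/-- the level of a root whose root subgroup lies in a subgroup normalised by the reflections of `J` -/
theorem full_level (N T : Subgroup (GL chevE8.Idx F)) (m : ℤ)
    (hNn : ∀ i ∈ Jl, ∀ g ∈ N, nFund chevE8 mem_E8' F i * g * (nFund chevE8 mem_E8' F i)⁻¹ ∈ N)
    (hneg : ∀ i ∈ Jl, ¬ Full chevE8 mem_E8' F N (chevE8.neg (chevE8.simple i)))
    (hT : ∀ g ∈ N, (nJ F)⁻¹ * g * nJ F ∈ T)
    (hTl : ∀ r < 240, ∀ c : F, c ≠ 0 → xGL chevE8 mem_E8' F r c ∈ T → m ≤ levZ r)
    (r : ℕ) (hr : chevE8.IsPosRoot r) (hfull : Full chevE8 mem_E8' F N r) :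
    1 ≤ levZ r ∧ m + 1 ≤ levZ r ∧ (levZ r = 1 → m ≤ -1) := by
  obtain ⟨r', hr', hf, hl⟩ := descent F N hNn r hr hfull
  have h3 : (3 : ℕ) < chevE8.rank := by rw [rank_E8]; norm_num
  -- the conjugate by `nJ⁻¹` of `x_{r'}(1)`
  have hconj : ∀ s < 240, Full chevE8 mem_E8' F N s → m ≤ levZ (chevE8.reflectRoot 3 s) := by
    intro s hs hfs
    obtain ⟨hlt, c, hc, h1⟩ := actsAs_nFund_inv chevE8 mem_E8' F 3 h3 s (by rw [nroots_E8]; exact hs)
    have h2 := hT _ (hfs 1)
    have h1' : (nJ F)⁻¹ * xGL chevE8 mem_E8' F s 1 * (nJ F)⁻¹⁻¹ =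
        xGL chevE8 mem_E8' F (chevE8.reflectRoot 3 s) (c * 1) := h1 1
    rw [inv_inv] at h1'
    rw [h1'] at h2
    exact hTl _ (reflect_lt 3 (by norm_num) s hs) _ (by simpa using hc) h2
  rcases term_facts r' hr' with ⟨h0, i, hi, hri⟩ | ⟨h130, hl1, hc2⟩ | ⟨hl2, hc1⟩
  · exfalso
    obtain ⟨hi8, hi3⟩ := Jl_facts i hi
    have hF := fundFacts_of_mem chevE8 mem_E8' i (by rw [rank_E8]; exact hi8)
    have := hf.reflect chevE8 mem_E8' F (by rw [hri]; exact hF.hp) i (by rw [rank_E8]; exact hi8) (hNn i hi)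
    rw [hri, reflectRoot_simple] at this
    exact hneg i hi this
  · have hs : r' < 240 := by rw [h130]; norm_num
    have h1 := hconj r' hs hf
    rw [levZ_reflect 3 (by norm_num) r' hs, if_pos rfl, hc2, hl1] at h1
    rw [← hl, hl1]
    refine ⟨le_rfl, by omega, fun _ => by omega⟩
  · have hs : r' < 240 := by
      have : ∀ x ∈ termL, x < 240 := by decide
      exact this r' hr'
    have h1 := hconj r' hs hf
    rw [levZ_reflect 3 (by norm_num) r' hs, if_pos rfl, hc1] at h1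
    rw [← hl]
    refine ⟨by omega, by omega, fun h => by omega⟩

/-- a negative fundamental root subgroup does not lie in `U` -/
theorem not_full_neg_of_le_posUnipotent (N : Subgroup (GL chevE8.Idx F)) (hNU : N ≤ chevE8.posUnipotent F)
    (i : ℕ) (hi : i < 8) : ¬ Full chevE8 mem_E8' F N (chevE8.neg (chevE8.simple i)) := by
  intro hfull
  have hi' : i < chevE8.rank := by rw [rank_E8]; exact hi
  have hF := fundFacts_of_mem chevE8 mem_E8' i hi'
  have hpos : chevE8.IsPosRoot (chevE8.simple i) := (parFacts_of_mem chevE8 mem_E8').simplePos i hi'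
  have hneg := isNegRoot_neg chevE8 mem_E8' _ hpos
  have hp := isPosRoot_of_mem chevE8 mem_E8' F _ hF.hpb (fun t => hNU (hfull t))
  exact not_pos_and_neg chevE8 mem_E8' _ hp hneg

/-- the upper bound: a subgroup of `U` normalised by `PJ` whose conjugate by `nJ⁻¹` lies in `T` -/
theorem upper (h2 : Fintype.card F ≠ 2) (h3 : Fintype.card F ≠ 3)
    (N T : Subgroup (GL chevE8.Idx F)) (m : ℤ) (L : ℕ)
    (hNP : ∀ p ∈ PJ F, ∀ g ∈ N, p * g * p⁻¹ ∈ N)
    (hneg : ∀ i ∈ Jl, ¬ Full chevE8 mem_E8' F N (chevE8.neg (chevE8.simple i)))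
    (hT : ∀ g ∈ N, (nJ F)⁻¹ * g * nJ F ∈ T)
    (hTl : ∀ r < 240, ∀ c : F, c ≠ 0 → xGL chevE8 mem_E8' F r c ∈ T → m ≤ levZ r)
    (hL : ∀ l : ℤ, 1 ≤ l → m + 1 ≤ l → (l = 1 → m ≤ -1) → (L : ℤ) ≤ l)
    (Y : Subgroup (GL chevE8.Idx F)) (hYN : Y ≤ N) (hYU : Y ≤ chevE8.posUnipotent F)
    (hYB : chevE8.borelSubgroup F ≤ Subgroup.normalizer (Y : Set (GL chevE8.Idx F))) :
    Y ≤ WW F L := by
  have hNn : ∀ i ∈ Jl, ∀ g ∈ N, nFund chevE8 mem_E8' F i * g * (nFund chevE8 mem_E8' F i)⁻¹ ∈ N :=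
    fun i hi g hg => hNP _ (nFund_mem_PJ F i hi) g hg
  intro g hg
  obtain ⟨t, hgt, ht⟩ := exists_factor chevE8 mem_E8' F h2 (fun _ => h3) Y hYU hYB g hg
  rw [hgt]
  apply ordProd_mem_of_forall
  intro r hr
  have hrpos := (mem_posRoots chevE8 r).mp hr
  have hr240 : r < 240 := by have := hrpos.1; rwa [nroots_E8] at this
  by_cases h0 : t r = 0
  · rw [h0, xGL_zero]; exact Subgroup.one_mem _
  · have hfull : Full chevE8 mem_E8' F N r := fun u => hYN (ht r hr h0 u)
    obtain ⟨a1, a2, a3⟩ := full_level F N T m hNn hneg hT hTl r hrpos hfull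
    exact xGL_mem_WW F r hr240 L (hL _ a1 a2 a3) _

/-- `B` normalises a subgroup normalised by `PJ` -/
theorem borel_le_normalizer_of_PJ (N : Subgroup (GL chevE8.Idx F))
    (hNP : ∀ p ∈ PJ F, ∀ g ∈ N, p * g * p⁻¹ ∈ N) :
    chevE8.borelSubgroup F ≤ Subgroup.normalizer (N : Set (GL chevE8.Idx F)) :=
  le_trans (borel_le_PJ F) (le_normalizer_of_conj _ _ hNP)

/-- the upper bound at level `k ≥ 1` -/
theorem upper_level (h2 : Fintype.card F ≠ 2) (h3 : Fintype.card F ≠ 3) (k : ℕ) (hk : 1 ≤ k)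
    (N : Subgroup (GL chevE8.Idx F)) (hNW : N ≤ WW F k)
    (hNP : ∀ p ∈ PJ F, ∀ g ∈ N, p * g * p⁻¹ ∈ N)
    (hT : ∀ g ∈ N, (nJ F)⁻¹ * g * nJ F ∈ WW F k) : N ≤ WW F (k + 1) := by
  have hNU : N ≤ chevE8.posUnipotent F := le_trans hNW (WW_le_posUnipotent F k hk)
  refine upper F h2 h3 N (WW F k) (k : ℤ) (k + 1) hNP
    (fun i hi => not_full_neg_of_le_posUnipotent F N hNU i (Jl_facts i hi).1) hT
    (fun r hr c hc h => levZ_of_mem_WW F r hr k c hc h) ?_ N le_rfl hNU
    (borel_le_normalizer_of_PJ F N hNP)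
  intro l _ h _
  push_cast
  exact h

/-- the lower bound: conjugation by `nJ⁻¹` lowers the level by at most one -/
theorem lower (h2 : Fintype.card F ≠ 2) (h3 : Fintype.card F ≠ 3) (k : ℕ) (hk : 1 ≤ k)
    (g : GL chevE8.Idx F) (hg : g ∈ WW F (k + 1)) : (nJ F)⁻¹ * g * nJ F ∈ WW F k := by
  have hYU := WW_le_posUnipotent F (k + 1) (by omega)
  have hYB := borel_le_normalizer_of_PJ F (WW F (k + 1)) (fun p hp g hg => WW_conj F (k + 1) p hp g hg)
  obtain ⟨t, hgt, ht⟩ := exists_factor chevE8 mem_E8' F h2 (fun _ => h3) _ hYU hYB g hg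
  rw [hgt]
  obtain ⟨S, hS⟩ : ∃ S : Subgroup (GL chevE8.Idx F),
      S = (WW F k).comap (MulAut.conj (nJ F)⁻¹).toMonoidHom := ⟨_, rfl⟩
  have hmemS : ∀ x : GL chevE8.Idx F, x ∈ S ↔ (nJ F)⁻¹ * x * nJ F ∈ WW F k := by
    intro x
    rw [hS, Subgroup.mem_comap]
    simp [MulAut.conj_apply]
  rw [← hmemS]
  apply ordProd_mem_of_forall
  intro r hr
  have hrpos := (mem_posRoots chevE8 r).mp hr
  have hr240 : r < 240 := by have := hrpos.1; rwa [nroots_E8] at this
  rw [hmemS]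
  by_cases h0 : t r = 0
  · rw [h0, xGL_zero]
    have : (nJ F)⁻¹ * 1 * nJ F = 1 := by group
    rw [this]; exact Subgroup.one_mem _
  · have hlev := levZ_of_mem_WW F r hr240 (k + 1) 1 one_ne_zero (ht r hr h0 1)
    obtain ⟨hlt, c, hc, h1⟩ := actsAs_nFund_inv chevE8 mem_E8' F 3 (by rw [rank_E8]; norm_num) r hrpos.1
    have h1' : (nJ F)⁻¹ * xGL chevE8 mem_E8' F r (t r) * (nJ F)⁻¹⁻¹ =
        xGL chevE8 mem_E8' F (chevE8.reflectRoot 3 r) (c * t r) := h1 (t r)
    rw [inv_inv] at h1'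
    rw [h1']
    apply xGL_mem_WW F _ (reflect_lt 3 (by norm_num) r hr240)
    rw [levZ_reflect 3 (by norm_num) r hr240, if_pos rfl, mul_one]
    have hne1 : r ≠ 130 := by
      rintro rfl
      rw [lev_130] at hlev
      push_cast at hlev
      omega
    have hne2 : r ≠ 109 := by
      rintro rfl
      rw [lev_109] at hlev
      push_cast at hlev
      omega
    have := tabFacts.car3 r hr240 hne1 hne2
    push_cast at hlev
    omega

/-- the last level subgroup is trivial -/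
theorem WW_seven (h2 : Fintype.card F ≠ 2) (h3 : Fintype.card F ≠ 3) : WW F 7 = ⊥ := by
  rw [eq_bot_iff]
  intro g hg
  have hYU := WW_le_posUnipotent F 7 (by norm_num)
  have hYB := borel_le_normalizer_of_PJ F (WW F 7) (fun p hp g hg => WW_conj F 7 p hp g hg)
  obtain ⟨t, hgt, ht⟩ := exists_factor chevE8 mem_E8' F h2 (fun _ => h3) _ hYU hYB g hg
  rw [hgt, Subgroup.mem_bot]
  apply WkCl.ordProd_eq_one
  intro r hr
  by_contra h0
  have hrpos := (mem_posRoots chevE8 r).mp hr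
  have hr240 : r < 240 := by have := hrpos.1; rwa [nroots_E8] at this
  have hlev := levZ_of_mem_WW F r hr240 7 1 one_ne_zero (ht r hr h0 1)
  have := tabFacts.lev6 r hr240
  push_cast at hlev
  omega

/-- the level subgroup of the highest level is not trivial -/
theorem WW_six : WW F 6 ≠ ⊥ := by
  intro h
  have h1 : xGL chevE8 mem_E8' F 235 1 ∈ WW F 6 :=
    xGL_mem_WW F 235 (by norm_num) 6 (by rw [lev_235]; norm_num) 1
  rw [h, Subgroup.mem_bot] at h1
  exact xGL_one_ne_one chevE8 mem_E8' F 235 (by rw [nroots_E8]; norm_num) h1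

end

end Cfsg.Agent.Lib.Helper25.IC
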