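import Cfsg.Agent.Lib.Helper25.ICf

/-!
# Iterated cores: the first core (helper25)

A subgroup `N` of `PJ ∩ nJ PJ nJ⁻¹` which is normalised by `PJ` lies in `B` (by producing a regular dominant
grading for which it is nondecreasing), then in `U`, and then in the level subgroup `WW 2`.
-/

set_option autoImplicit false
set_option linter.unusedSectionVars false

namespace Cfsg.Agent.Lib.Helper25.IC

open Cfsg Cfsg.Lie Matrix Cfsg.Agent.Lib.Helper7 Cfsg.Agent.Lib.Helper25.BT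
open Cfsg.Agent.Lib.Helper25.ChInv Cfsg.Agent.Lib.Helper25.WkCl

theorem adj_E8 : chevE8.cartan 3 (chevE8.simple 1) < 0 ∧ chevE8.cartan 3 (chevE8.simple 2) < 0 ∧
    chevE8.cartan 3 (chevE8.simple 4) < 0 ∧ chevE8.cartan 2 (chevE8.simple 0) < 0 ∧
    chevE8.cartan 4 (chevE8.simple 5) < 0 ∧ chevE8.cartan 5 (chevE8.simple 6) < 0 ∧
    chevE8.cartan 6 (chevE8.simple 7) < 0 := by decide +kernel

section
variable (F : Type*) [Field F] [Fintype F]

/-- a subgroup of `PJ ∩ nJ PJ nJ⁻¹` normalised by `PJ` lies in `B` -/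
theorem le_borel_of_core (N : Subgroup (GL chevE8.Idx F)) (hNP : N ≤ PJ F)
    (hNn : ∀ p ∈ PJ F, ∀ g ∈ N, p * g * p⁻¹ ∈ N)
    (hT : ∀ g ∈ N, (nJ F)⁻¹ * g * nJ F ∈ PJ F) : N ≤ chevE8.borelSubgroup F := by
  have hcar : ∀ i < chevE8.rank, ∀ k < chevE8.rank, k ≠ i → chevE8.cartan i (chevE8.simple k) ≤ 0 := by
    intro i hi k hk hki
    rw [rank_E8] at hi hk
    exact tabFacts.sgn i hi k hk hki
  obtain ⟨a31, a32, a34, a20, a45, a56, a67⟩ := adj_E8
  have hr : ∀ k, k < 8 → k < chevE8.rank := fun k hk => by rw [rank_E8]; exact hk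
  -- conjugation by the reflections of `J`
  have hconjJ : ∀ (mu : Fin chevE8.rank → ℝ),
      (∀ g ∈ N, RF (wtv chevE8 (grv chevE8 mu)) 0 (g : Matrix chevE8.Idx chevE8.Idx F)) →
      ∀ i ∈ Jl, ∀ g ∈ N, RF (wtv chevE8 (grv chevE8 mu)) 0
        (((nFund chevE8 mem_E8' F i)⁻¹ * g * nFund chevE8 mem_E8' F i : GL chevE8.Idx F) :
          Matrix chevE8.Idx chevE8.Idx F) := by
    intro mu hmu i hi g hg
    have h1 := hNn _ (Subgroup.inv_mem _ (nFund_mem_PJ F i hi)) g hg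
    rw [inv_inv] at h1
    exact hmu _ h1
  -- step 0: the branch node
  have hN0 : ∀ g ∈ N, RF (wtv chevE8 (grv chevE8 lamE)) 0 (g : Matrix chevE8.Idx chevE8.Idx F) :=
    fun g hg => PJ_le_rf F (hNP hg)
  have hc0 : ∀ g ∈ N, RF (wtv chevE8 (grv chevE8 lamE)) 0
      (((nFund chevE8 mem_E8' F 3)⁻¹ * g * nFund chevE8 mem_E8' F 3 : GL chevE8.Idx F) :
        Matrix chevE8.Idx chevE8.Idx F) := fun g hg => PJ_le_rf F (hT g hg)
  have hp0 : 0 < gr chevE8 lamE (chevE8.simple 3) := by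
    rw [gr_lamE_simple 3 (by norm_num), if_pos rfl]; norm_num
  obtain ⟨mu1, hd1, hN1, hpos1, hadj1⟩ :=
    adapt_step chevE8 mem_E8' F N lamE dominant_lamE hN0 3 (hr 3 (by norm_num)) hc0 hp0
      (hcar 3 (hr 3 (by norm_num)))
  -- step 1: node 2
  obtain ⟨mu2, hd2, hN2, hpos2, hadj2⟩ :=
    adapt_step chevE8 mem_E8' F N mu1 hd1 hN1 2 (hr 2 (by norm_num)) (hconjJ mu1 hN1 2 (by decide))
      (hadj1 2 (hr 2 (by norm_num)) a32) (hcar 2 (hr 2 (by norm_num)))
  -- step 2: node 4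
  obtain ⟨mu3, hd3, hN3, hpos3, hadj3⟩ :=
    adapt_step chevE8 mem_E8' F N mu2 hd2 hN2 4 (hr 4 (by norm_num)) (hconjJ mu2 hN2 4 (by decide))
      (hpos2 4 (hr 4 (by norm_num)) (hadj1 4 (hr 4 (by norm_num)) a34)) (hcar 4 (hr 4 (by norm_num)))
  -- step 3: node 5
  obtain ⟨mu4, hd4, hN4, hpos4, hadj4⟩ :=
    adapt_step chevE8 mem_E8' F N mu3 hd3 hN3 5 (hr 5 (by norm_num)) (hconjJ mu3 hN3 5 (by decide))
      (hadj3 5 (hr 5 (by norm_num)) a45) (hcar 5 (hr 5 (by norm_num)))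
  -- step 4: node 6
  obtain ⟨mu5, hd5, hN5, hpos5, hadj5⟩ :=
    adapt_step chevE8 mem_E8' F N mu4 hd4 hN4 6 (hr 6 (by norm_num)) (hconjJ mu4 hN4 6 (by decide))
      (hadj4 6 (hr 6 (by norm_num)) a56) (hcar 6 (hr 6 (by norm_num)))
  -- all fundamental roots are positive for `mu5`
  have hall : ∀ k < 8, 0 < gr chevE8 mu5 (chevE8.simple k) := by
    intro k hk
    have lift1 : 0 < gr chevE8 mu1 (chevE8.simple k) → 0 < gr chevE8 mu5 (chevE8.simple k) :=
      fun h => hpos5 k (hr k hk) (hpos4 k (hr k hk) (hpos3 k (hr k hk) (hpos2 k (hr k hk) h)))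
    have lift2 : 0 < gr chevE8 mu2 (chevE8.simple k) → 0 < gr chevE8 mu5 (chevE8.simple k) :=
      fun h => hpos5 k (hr k hk) (hpos4 k (hr k hk) (hpos3 k (hr k hk) h))
    have lift3 : 0 < gr chevE8 mu3 (chevE8.simple k) → 0 < gr chevE8 mu5 (chevE8.simple k) :=
      fun h => hpos5 k (hr k hk) (hpos4 k (hr k hk) h)
    have lift4 : 0 < gr chevE8 mu4 (chevE8.simple k) → 0 < gr chevE8 mu5 (chevE8.simple k) :=
      fun h => hpos5 k (hr k hk) h
    interval_cases k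
    · exact lift2 (hadj2 0 (hr 0 (by norm_num)) a20)
    · exact lift1 (hadj1 1 (hr 1 (by norm_num)) a31)
    · exact lift1 (hadj1 2 (hr 2 (by norm_num)) a32)
    · exact lift1 (hpos1 3 (hr 3 (by norm_num)) hp0)
    · exact lift1 (hadj1 4 (hr 4 (by norm_num)) a34)
    · exact lift3 (hadj3 5 (hr 5 (by norm_num)) a45)
    · exact lift4 (hadj4 6 (hr 6 (by norm_num)) a56)
    · exact hadj5 7 (hr 7 (by norm_num)) a67
  have hzero : zeroSet chevE8 mu5 = ∅ := by
    ext k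
    unfold zeroSet
    simp only [Set.mem_setOf_eq, rank_E8, Set.mem_empty_iff_false, iff_false, not_and]
    intro hk h0
    have := hall k hk
    linarith
  intro g hg
  have h1 := rf_inf_group_le_parabolic chevE8 mem_E8' F mu5 hd5
    (Subgroup.mem_inf.mpr ⟨hN5 g hg, PJ_le_group F (hNP hg)⟩)
  rw [hzero, Cfsg.Agent.Lib.Helper11.ChevDiagMem.parabolicSubgroup_empty chevE8 mem_E8' F] at h1
  exact h1

/-- the first core lies in the second level subgroup -/
theorem upper_zero (h2 : Fintype.card F ≠ 2) (h3 : Fintype.card F ≠ 3) (htwo : (2 : F) ≠ 0)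
    (N : Subgroup (GL chevE8.Idx F)) (hNP : N ≤ PJ F)
    (hNn : ∀ p ∈ PJ F, ∀ g ∈ N, p * g * p⁻¹ ∈ N)
    (hT : ∀ g ∈ N, (nJ F)⁻¹ * g * nJ F ∈ PJ F) : N ≤ WW F 2 := by
  have hNB := le_borel_of_core F N hNP hNn hT
  have hBU := borel_le_normalizer_posUnipotent chevE8 mem_E8' F
  -- no negative fundamental root subgroup of `J` lies in `N`
  have hneg : ∀ i ∈ Jl, ¬ Full chevE8 mem_E8' F N (chevE8.neg (chevE8.simple i)) := by
    intro i hi hfull
    obtain ⟨hi8, -⟩ := Jl_facts i hi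
    have hi' : i < chevE8.rank := by rw [rank_E8]; exact hi8
    have hF := fundFacts_of_mem chevE8 mem_E8' i hi'
    have h1 := borel_le_rf chevE8 mem_E8' F rhoE dominant_rhoE (hNB (hfull 1))
    have hpm : ∃ k < chevE8.rank, chevE8.cartan k (chevE8.neg (chevE8.simple i)) = 1 ∨
        chevE8.cartan k (chevE8.neg (chevE8.simple i)) = -1 := by
      have hlt : chevE8.neg (chevE8.simple i) < 240 := by have := hF.hpb; rwa [nroots_E8] at this
      obtain ⟨k, hk, h'⟩ := tabFacts.pm _ hlt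
      exact ⟨k, by rw [rank_E8]; exact hk, h'⟩
    have h4 := level_of_xGL_RF chevE8 mem_E8' F rhoE _ hF.hpb 1 one_ne_zero hpm h1
    rw [gr_neg chevE8 mem_E8' rhoE _ hF.hp, gr_rhoE_simple i hi8] at h4
    norm_num at h4
  -- the unipotent part
  have hYle : N ⊓ chevE8.posUnipotent F ≤ WW F 2 := by
    refine upper F h2 h3 N (PJ F) 0 2 hNn hneg hT
      (fun r hr c hc h => levZ_of_mem_rf F r hr c hc (PJ_le_rf F h)) ?_ _ inf_le_left inf_le_right ?_
    · intro l h1 _ h3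
      by_contra hcon
      push Not at hcon
      have : l = 1 := by push_cast at hcon; omega
      have := h3 this
      omega
    · apply le_normalizer_of_conj
      intro p hp g hg
      rw [Subgroup.mem_inf] at hg ⊢
      exact ⟨hNn p (borel_le_PJ F hp) g hg.1, conj_mem_of_mem_normalizer _ p g (hBU hp) hg.2⟩
  -- the elements of `N` lie in `U`
  intro g hg
  have hgU : g ∈ chevE8.posUnipotent F := by
    refine mem_posUnipotent_of_comm_entries chevE8 mem_E8' F htwo rhoE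
      (fun i hi => gr_rhoE_simple i (by rw [rank_E8] at hi; exact hi)) one_le_gr_rhoE g (hNB hg) ?_
    intro i hi
    have hi8 : i < 8 := by rw [rank_E8] at hi; exact hi
    have hF := fundFacts_of_mem chevE8 mem_E8' i hi
    have hpos : chevE8.IsPosRoot (chevE8.simple i) := (parFacts_of_mem chevE8 mem_E8').simplePos i hi
    obtain ⟨x, hx⟩ : ∃ x : GL chevE8.Idx F, x = xGL chevE8 mem_E8' F (chevE8.simple i) 1 := ⟨_, rfl⟩
    rw [← hx]
    have hxU : x ∈ chevE8.posUnipotent F := by rw [hx]; exact xGL_pos_mem chevE8 mem_E8' F _ hpos 1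
    have hxP : x ∈ PJ F := borel_le_PJ F (posUnipotent_le_borel chevE8 mem_E8' F hxU)
    have hy : g * x * g⁻¹ * x⁻¹ ∈ N ⊓ chevE8.posUnipotent F := by
      rw [Subgroup.mem_inf]
      constructor
      · have h1 := hNn x hxP g⁻¹ (Subgroup.inv_mem _ hg)
        have e : g * x * g⁻¹ * x⁻¹ = g * (x * g⁻¹ * x⁻¹) := by group
        rw [e]
        exact Subgroup.mul_mem _ hg h1
      · exact Subgroup.mul_mem _ (conj_mem_of_mem_normalizer _ g x (hBU (hNB hg)) hxU)
          (Subgroup.inv_mem _ hxU)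
    have hyW := hYle hy
    rw [mem_WW] at hyW
    by_contra hne
    have hne' : (((g * x * g⁻¹ * x⁻¹ : GL chevE8.Idx F) : Matrix chevE8.Idx chevE8.Idx F) - 1)
        (Sum.inr ⟨chevE8.simple i, hF.hp⟩) (Sum.inl ⟨i, hi⟩) ≠ 0 := by
      rw [Matrix.sub_apply, Matrix.one_apply, if_neg (by simp), sub_zero]
      exact hne
    have h5 := hyW.1 _ _ hne'
    have e1 : wE (Sum.inl ⟨i, hi⟩ : chevE8.Idx) = 0 := rfl
    have e2 : wE (Sum.inr ⟨chevE8.simple i, hF.hp⟩ : chevE8.Idx) = gr chevE8 lamE (chevE8.simple i) := rfl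
    rw [e1, e2, gr_lamE_simple i hi8] at h5
    split_ifs at h5 <;> norm_num at h5
  exact hYle (Subgroup.mem_inf.mpr ⟨hg, hgU⟩)

end

end Cfsg.Agent.Lib.Helper25.IC
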