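import Cfsg.Agent.Lib.Helper25.ICg
import Cfsg.Agent.Lib.Helper25.ICa

/-!
# Iterated cores: maximality of the parabolic subgroup and the assembly (helper25)
-/

set_option autoImplicit false
set_option linter.unusedSectionVars false

namespace Cfsg.Agent.Lib.Helper25.IC

open Cfsg Cfsg.Lie Matrix Cfsg.Agent.Lib.Helper7 Cfsg.Agent.Lib.Helper25.BT
open Cfsg.Agent.Lib.Helper25.ChInv Cfsg.Agent.Lib.Helper25.WkCl
open Cfsg.Agent.Lib.Helper3.BN

section
variable (F : Type*) [Field F] [Fintype F]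

/-- a subgroup of `G` properly containing `PJ` is `G` -/
theorem eq_group_of_PJ_lt (X : Subgroup (GL chevE8.Idx F)) (hPX : PJ F ≤ X) (hXG : X ≤ chevE8.group F)
    (hne : X ≠ PJ F) : X = chevE8.group F := by
  obtain ⟨P, hP⟩ : ∃ P, P = chevBNPair chevE8 mem_E8' F := ⟨_, rfl⟩
  obtain ⟨M, hMdef⟩ : ∃ M : Subgroup ↥(chevE8.group F), M = X.subgroupOf (chevE8.group F) := ⟨_, rfl⟩
  have hPB : ∀ g : ↥(chevE8.group F), g ∈ P.B ↔ (g : GL chevE8.Idx F) ∈ chevE8.borelSubgroup F := by
    rw [hP]; intro g; rw [chevBNPair_B, Subgroup.mem_subgroupOf]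
  have hM : P.B ≤ M := by
    intro b hb
    rw [hMdef, Subgroup.mem_subgroupOf]
    exact hPX (borel_le_PJ F ((hPB b).mp hb))
  have h1 := subgroup_eq_parabolic P M hM
  -- the branch reflection lies in `X`
  have hnJ : nJ F ∈ X := by
    by_contra hcon
    apply hne
    apply le_antisymm _ hPX
    intro g hg
    have hgM : (⟨g, hXG hg⟩ : ↥(chevE8.group F)) ∈ M := by
      rw [hMdef, Subgroup.mem_subgroupOf]; exact hg
    rw [h1] at hgM
    have hle : P.parabolic {s | s ∈ P.S ∧ s ∈ M} ≤ (PJ F).subgroupOf (chevE8.group F) := by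
      unfold BNPair.parabolic
      apply sup_le
      · intro b hb
        rw [Subgroup.mem_subgroupOf]
        exact borel_le_PJ F ((hPB b).mp hb)
      · rw [Subgroup.closure_le]
        rintro s ⟨hs, hsM⟩
        have hs' : s ∈ fundSet chevE8 F := by rw [hP] at hs; exact hs
        obtain ⟨i, hi, hsm⟩ := hs'
        have hsn := coe_eq_nFund_of_mem_fundSet chevE8 mem_E8' F s i hsm
        rw [hMdef, Subgroup.mem_subgroupOf, hsn] at hsM
        show s ∈ (PJ F).subgroupOf (chevE8.group F)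
        rw [Subgroup.mem_subgroupOf, hsn]
        rw [rank_E8] at hi
        by_cases hi3 : i = 3
        · exfalso; apply hcon; rw [hi3] at hsM; exact hsM
        · apply nFund_mem_PJ F i
          have : ∀ j < 8, j ≠ 3 → j ∈ Jl := by decide
          exact this i hi hi3
    have := hle hgM
    rw [Subgroup.mem_subgroupOf] at this
    exact this
  -- all fundamental reflections lie in `X`
  have hnall : ∀ i < 8, nFund chevE8 mem_E8' F i ∈ X := by
    intro i hi
    by_cases hi3 : i = 3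
    · rw [hi3]; exact hnJ
    · apply hPX
      apply nFund_mem_PJ F i
      have : ∀ j < 8, j ≠ 3 → j ∈ Jl := by decide
      exact this i hi hi3
  apply le_antisymm hXG
  have hposX : ∀ j < chevE8.rank, ∀ t : F, xGL chevE8 mem_E8' F (chevE8.simple j) t ∈ X := by
    intro j hj t
    apply hPX
    apply borel_le_PJ F
    exact posUnipotent_le_borel chevE8 mem_E8' F
      (xGL_pos_mem chevE8 mem_E8' F _ ((parFacts_of_mem chevE8 mem_E8').simplePos j hj) t)
  apply Cfsg.Agent.Lib.Helper11.group_le_of_fund chevE8 mem_E8' F X hposX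
  intro j hj t
  have hF := fundFacts_of_mem chevE8 mem_E8' j hj
  have hfull : Full chevE8 mem_E8' F X (chevE8.simple j) := fun u => hposX j hj u
  have hj8 : j < 8 := by rw [rank_E8] at hj; exact hj
  have := hfull.reflect chevE8 mem_E8' F hF.hp j hj (fun g hg =>
    X.mul_mem (X.mul_mem (hnall j hj8) hg) (X.inv_mem (hnall j hj8)))
  rw [reflectRoot_simple] at this
  exact this t

/-- the level subgroups, starting with the parabolic subgroup itself -/
noncomputable def Wg (i : ℕ) : Subgroup (GL chevE8.Idx F) := if i = 0 then PJ F else WW F (i + 1)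

theorem Wg_zero : Wg F 0 = PJ F := by unfold Wg; rw [if_pos rfl]

theorem Wg_succ (i : ℕ) : Wg F (i + 1) = WW F (i + 2) := by
  unfold Wg; rw [if_neg (by omega)]

theorem Wg_le_PJ (i : ℕ) : Wg F i ≤ PJ F := by
  rcases i with _ | i
  · rw [Wg_zero]
  · rw [Wg_succ]; exact WW_le_PJ F _ (by omega)

theorem Wg_anti (i : ℕ) : Wg F (i + 1) ≤ Wg F i := by
  rcases i with _ | i
  · exact Wg_le_PJ F 1 |>.trans (by rw [Wg_zero])
  · rw [Wg_succ, Wg_succ]; exact WW_anti F (i + 2)

theorem Wg_conj (i : ℕ) (p : GL chevE8.Idx F) (hp : p ∈ PJ F) (g : GL chevE8.Idx F) (hg : g ∈ Wg F i) :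
    p * g * p⁻¹ ∈ Wg F i := by
  rcases i with _ | i
  · rw [Wg_zero] at hg ⊢
    exact Subgroup.mul_mem _ (Subgroup.mul_mem _ hp hg) (Subgroup.inv_mem _ hp)
  · rw [Wg_succ] at hg ⊢
    exact WW_conj F _ p hp g hg

theorem Wg_lower (h2 : Fintype.card F ≠ 2) (h3 : Fintype.card F ≠ 3) (i : ℕ) (g : GL chevE8.Idx F)
    (hg : g ∈ Wg F (i + 1)) : (nJ F)⁻¹ * g * nJ F ∈ Wg F i := by
  rcases i with _ | i
  · rw [Wg_succ] at hg
    rw [Wg_zero]
    exact WW_one_le_PJ F (lower F h2 h3 1 le_rfl g hg)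
  · rw [Wg_succ] at hg ⊢
    exact lower F h2 h3 (i + 2) (by omega) g hg

theorem Wg_upper (h2 : Fintype.card F ≠ 2) (h3 : Fintype.card F ≠ 3) (htwo : (2 : F) ≠ 0) (i : ℕ)
    (N : Subgroup (GL chevE8.Idx F)) (hN : N ≤ Wg F i)
    (hT : ∀ g ∈ N, (nJ F)⁻¹ * g * nJ F ∈ Wg F i)
    (hNn : ∀ p ∈ PJ F, ∀ g ∈ N, p * g * p⁻¹ ∈ N) : N ≤ Wg F (i + 1) := by
  rcases i with _ | i
  · rw [Wg_zero] at hN hT
    rw [Wg_succ]
    exact upper_zero F h2 h3 htwo N hN hNn hT
  · rw [Wg_succ] at hN hT ⊢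
    exact upper_level F h2 h3 (i + 2) (by omega) N hN hNn hT

theorem Wg_six (h2 : Fintype.card F ≠ 2) (h3 : Fintype.card F ≠ 3) : Wg F 6 = ⊥ := by
  rw [Wg_succ]; exact WW_seven F h2 h3

theorem Wg_five : Wg F 5 ≠ ⊥ := by
  rw [Wg_succ]; exact WW_six F

end

section
variable (F : Type) [Field F] [Fintype F]

/-- the statement for the Chevalley group of type `E₈` over a finite field with more than three elements
and odd characteristic -/
theorem main_E8 (h2 : Fintype.card F ≠ 2) (h3 : Fintype.card F ≠ 3) (htwo : (2 : F) ≠ 0) :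
    ∃ (G : Type) (_ : Group G) (_ : Finite G) (M₁ M₂ : Subgroup G) (g : G) (A B : ℕ → Subgroup G),
      IsCoatom M₁ ∧ M₂ = M₁.map (MulAut.conj g).toMonoidHom ∧ M₁ ≠ M₂ ∧ M₁.normalCore = ⊥ ∧
      A 0 = M₁ ∧ B 0 = M₂ ∧
      (∀ i, A (i + 1) = ((A i ⊓ B i).subgroupOf M₁).normalCore.map M₁.subtype) ∧
      (∀ i, B (i + 1) = ((A i ⊓ B i).subgroupOf M₂).normalCore.map M₂.subtype) ∧ A 6 = ⊥ ∧ A 5 ≠ ⊥ := by
  haveI : Finite (GL chevE8.Idx F) := finite_GL_aux
  refine ⟨↥(chevE8.group F), inferInstance, inferInstance, ?_⟩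
  apply skeleton ((PJ F).subgroupOf (chevE8.group F)) ⟨nJ F, nJ_mem_group F⟩
    (fun i => (Wg F i).subgroupOf (chevE8.group F))
  · -- maximality
    constructor
    · intro htop
      have : (⟨nJ F, nJ_mem_group F⟩ : ↥(chevE8.group F)) ∈ (PJ F).subgroupOf (chevE8.group F) := by
        rw [htop]; trivial
      rw [Subgroup.mem_subgroupOf] at this
      exact nJ_not_mem_PJ F this
    · intro X hlt
      have hX := eq_group_of_PJ_lt F (X.map (chevE8.group F).subtype) ?_ ?_ ?_
      · rw [eq_top_iff]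
        intro g _
        have : (g : GL chevE8.Idx F) ∈ X.map (chevE8.group F).subtype := by rw [hX]; exact g.2
        obtain ⟨g', hg', hgg'⟩ := this
        have : g' = g := Subtype.ext hgg'
        rwa [← this]
      · intro g hg
        refine ⟨⟨g, PJ_le_group F hg⟩, ?_, rfl⟩
        apply hlt.le
        rw [Subgroup.mem_subgroupOf]; exact hg
      · rintro _ ⟨g', -, rfl⟩; exact g'.2
      · intro heq
        apply hlt.ne'
        ext g
        rw [Subgroup.mem_subgroupOf, ← heq]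
        constructor
        · intro hg; exact ⟨g, hg, rfl⟩
        · rintro ⟨g', hg', hgg'⟩
          have : g' = g := Subtype.ext hgg'
          rwa [← this]
  · show (Wg F 0).subgroupOf _ = _
    rw [Wg_zero]
  · intro i x hx
    rw [Subgroup.mem_subgroupOf] at hx ⊢
    exact Wg_anti F i hx
  · intro i p hp g hg
    rw [Subgroup.mem_subgroupOf] at hp hg ⊢
    exact Wg_conj F i _ hp _ hg
  · rw [Subgroup.mem_subgroupOf]
    exact nJ_sq_mem F
  · intro i g hg
    rw [Subgroup.mem_subgroupOf] at hg ⊢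
    exact Wg_lower F h2 h3 i _ hg
  · intro i N hN hT hNn
    have key := Wg_upper F h2 h3 htwo i (N.map (chevE8.group F).subtype) ?_ ?_ ?_
    · intro y hy
      rw [Subgroup.mem_subgroupOf]
      exact key ⟨y, hy, rfl⟩
    · rintro _ ⟨y, hy, rfl⟩
      have := hN hy
      rw [Subgroup.mem_subgroupOf] at this
      exact this
    · rintro _ ⟨y, hy, rfl⟩
      have := hT y hy
      rw [Subgroup.mem_subgroupOf] at this
      exact this
    · rintro p hp _ ⟨y, hy, rfl⟩
      have hp' : (⟨p, PJ_le_group F hp⟩ : ↥(chevE8.group F)) ∈ (PJ F).subgroupOf (chevE8.group F) := by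
        rw [Subgroup.mem_subgroupOf]; exact hp
      exact ⟨_, hNn _ hp' y hy, rfl⟩
  · show (Wg F 6).subgroupOf _ = ⊥
    rw [Wg_six F h2 h3]
    exact Subgroup.bot_subgroupOf _
  · show (Wg F 5).subgroupOf _ ≠ ⊥
    intro h
    apply Wg_five F
    rw [eq_bot_iff]
    intro x hx
    have hxG : x ∈ chevE8.group F := PJ_le_group F (Wg_le_PJ F 5 hx)
    have : (⟨x, hxG⟩ : ↥(chevE8.group F)) ∈ (Wg F 5).subgroupOf (chevE8.group F) := by
      rw [Subgroup.mem_subgroupOf]; exact hx
    rw [h, Subgroup.mem_bot] at this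
    rw [Subgroup.mem_bot]
    exact congrArg Subtype.val this

end

end Cfsg.Agent.Lib.Helper25.IC
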