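import Cfsg.Agent.Lib.Helper25.InndiagPlus1
import Cfsg.Agent.Lib.Helper25.QuadExt
import Cfsg.Agent.Lib.Helper25.SpinGL

set_option autoImplicit false

/-!
# Transport of the "preserves the two families" criterion along a linear isometry onto the
standard hyperbolic form.
-/

namespace Cfsg.Agent.Lib.Helper25.PSim

open Module QuadraticMap Matrix Cfsg.Agent.Lib.Helper25.MaxTS Cfsg.Agent.Lib.Helper25.Spin

universe u

section transport

variable {ι : Type} [Fintype ι] [DecidableEq ι] {K : Type u} [Field K] (n : ℕ)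
  (Q : (ι → K) → K) (L : (ι → K) ≃ₗ[K] (Fin n ⊕ Fin n → K))
  (hL : ∀ v, Cfsg.quadFormPlus n K (L v) = Q v)

include hL in
theorem ts_map_iff (U : Submodule K (ι → K)) :
    Cfsg.Geo.IsTotallySingularQuad (Cfsg.quadFormPlus n K) (U.map (L : (ι → K) →ₗ[K] _)) ↔
      Cfsg.Geo.IsTotallySingularQuad Q U := by
  unfold Cfsg.Geo.IsTotallySingularQuad
  constructor
  · intro h u hu
    rw [← hL]
    exact h _ ⟨u, hu, rfl⟩
  · rintro h _ ⟨u, hu, rfl⟩
    show Cfsg.quadFormPlus n K (L u) = 0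
    rw [hL]
    exact h u hu

include hL in
theorem ts_comap (W : Submodule K (Fin n ⊕ Fin n → K))
    (hW : Cfsg.Geo.IsTotallySingularQuad (Cfsg.quadFormPlus n K) W) :
    Cfsg.Geo.IsTotallySingularQuad Q (W.comap (L : (ι → K) →ₗ[K] _)) := by
  intro u hu
  rw [← hL]
  exact hW _ hu

include hL in
theorem isMax_map_iff (U : Submodule K (ι → K)) :
    Cfsg.IsMaxTotallySingular (Cfsg.quadFormPlus n K) (U.map (L : (ι → K) →ₗ[K] _)) ↔
      Cfsg.IsMaxTotallySingular Q U := by
  unfold Cfsg.IsMaxTotallySingular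
  rw [ts_map_iff n Q L hL]
  constructor
  · rintro ⟨h1, h2⟩
    refine ⟨h1, fun W hW hUW => ?_⟩
    have := h2 (W.map (L : (ι → K) →ₗ[K] _)) ((ts_map_iff n Q L hL W).2 hW)
      (Submodule.map_mono hUW)
    exact Submodule.map_injective_of_injective L.injective this
  · rintro ⟨h1, h2⟩
    refine ⟨h1, fun W hW hUW => ?_⟩
    have h3 := h2 (W.comap (L : (ι → K) →ₗ[K] _)) (ts_comap n Q L hL W hW)
      (Submodule.map_le_iff_le_comap.1 hUW)
    rw [← h3, Submodule.map_comap_eq_of_surjective L.surjective]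

/-- The conjugated matrix. -/
noncomputable def conjM (g : Matrix ι ι K) : Matrix (Fin n ⊕ Fin n) (Fin n ⊕ Fin n) K :=
  LinearMap.toMatrix' ((L : (ι → K) →ₗ[K] _) ∘ₗ Matrix.toLin' g ∘ₗ (L.symm : _ →ₗ[K] (ι → K)))

theorem toLin'_conjM (g : Matrix ι ι K) :
    Matrix.toLin' (conjM n L g) =
      (L : (ι → K) →ₗ[K] _) ∘ₗ Matrix.toLin' g ∘ₗ (L.symm : _ →ₗ[K] (ι → K)) :=
  Matrix.toLin'_toMatrix' _

theorem conjM_mulVec (g : Matrix ι ι K) (v : Fin n ⊕ Fin n → K) :
    conjM n L g *ᵥ v = L (g *ᵥ L.symm v) := by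
  rw [← Matrix.toLin'_apply, toLin'_conjM]
  simp [Matrix.toLin'_apply]

theorem det_conjM (g : Matrix ι ι K) : (conjM n L g).det = g.det := by
  unfold conjM
  rw [LinearMap.det_toMatrix', LinearMap.det_conj, LinearMap.det_toLin']

theorem image_conjM (g : Matrix ι ι K) (U : Submodule K (ι → K)) :
    Cfsg.imageSubmodule (conjM n L g) (U.map (L : (ι → K) →ₗ[K] _)) =
      (Cfsg.imageSubmodule g U).map (L : (ι → K) →ₗ[K] _) := by
  unfold Cfsg.imageSubmodule
  rw [toLin'_conjM, ← Submodule.map_comp, ← Submodule.map_comp]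
  congr 1
  apply LinearMap.ext
  intro x
  simp

theorem sameParity_map_iff (U W : Submodule K (ι → K)) :
    Cfsg.SameParityClass (U.map (L : (ι → K) →ₗ[K] (Fin n ⊕ Fin n → K)))
        (W.map (L : (ι → K) →ₗ[K] (Fin n ⊕ Fin n → K))) ↔
      Cfsg.SameParityClass U W := by
  unfold Cfsg.SameParityClass
  rw [← Submodule.map_inf (L : (ι → K) →ₗ[K] (Fin n ⊕ Fin n → K)) L.injective,
    LinearEquiv.finrank_map_eq, LinearEquiv.finrank_map_eq]

include hL in
theorem preserves_conj_iff (g : Matrix ι ι K) :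
    Cfsg.PreservesSingularClasses (Cfsg.quadFormPlus n K) (conjM n L g) ↔
      Cfsg.PreservesSingularClasses Q g := by
  unfold Cfsg.PreservesSingularClasses
  constructor
  · intro h U hU
    have := h _ ((isMax_map_iff n Q L hL U).2 hU)
    rw [image_conjM, sameParity_map_iff] at this
    exact this
  · intro h U' hU'
    have e : U' = (U'.comap (L : (ι → K) →ₗ[K] _)).map (L : (ι → K) →ₗ[K] _) :=
      (Submodule.map_comap_eq_of_surjective L.surjective U').symm
    rw [e] at hU' ⊢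
    rw [image_conjM, sameParity_map_iff]
    exact h _ ((isMax_map_iff n Q L hL _).1 hU')

include hL in
/-- A similarity of a form isometric to the standard hyperbolic form preserves the two families of
maximal totally singular subspaces iff it is proper. -/
theorem preserves_iff_of_equiv (h2 : (2 : K) ≠ 0) (g : Matrix ι ι K) (c : K) (hc : c ≠ 0)
    (hg : ∀ v, Q (g *ᵥ v) = c * Q v) :
    Cfsg.PreservesSingularClasses Q g ↔ g.det = c ^ n := by
  rw [← preserves_conj_iff n Q L hL, ← det_conjM n L]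
  have hg' : ∀ v, Cfsg.quadFormPlus n K (conjM n L g *ᵥ v) = c * Cfsg.quadFormPlus n K v := by
    intro v
    rw [conjM_mulVec, hL, hg, ← hL, LinearEquiv.apply_symm_apply]
  obtain ⟨d, hd⟩ := exists_gl_of_sim (Qp n K) (qfOf_nondeg _) (conjM n L g) c hc hg'
  rw [← hd]
  apply preserves_iff n h2 d c hc
  rw [hd]
  exact hg'

end transport

end Cfsg.Agent.Lib.Helper25.PSim
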