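import Cfsg.Agent.Lib.Helper25.OrthDet
import Cfsg.Agent.Lib.Helper25.POmegaSimForms
import Cfsg.Prelude.Def_LieTypeDatum

set_option autoImplicit false

/-!
# Similarities of the hyperbolic form preserving the two families of maximal totally singular
subspaces are exactly the proper ones (`det = μ^m`).
-/

namespace Cfsg.Agent.Lib.Helper25.PSim

open Module QuadraticMap Matrix Cfsg.Agent.Lib.Helper25.MaxTS Cfsg.Agent.Lib.Helper25.OrthDet

universe u

section parity

variable {F : Type u} [Field F] (m : ℕ)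

/-- the scaling `diag(c, 1)` -/
def Dm (c : F) : Matrix (Fin m ⊕ Fin m) (Fin m ⊕ Fin m) F :=
  Matrix.diagonal (Sum.elim (fun _ : Fin m => c) (fun _ : Fin m => (1 : F)))

theorem Dm_mul (c d : F) : Dm m c * Dm m d = Dm m (c * d) := by
  unfold Dm
  rw [Matrix.diagonal_mul_diagonal]
  congr 1
  funext k
  rcases k with i | i <;> simp

theorem Dm_one : Dm m (1 : F) = 1 := by
  unfold Dm
  rw [← Matrix.diagonal_one]
  congr 1
  funext k
  rcases k with i | i <;> simp

theorem det_Dm (c : F) : (Dm m c).det = c ^ m := by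
  unfold Dm
  rw [Matrix.det_diagonal, Fintype.prod_sum_type]
  simp

theorem plusQ_Dm (c : F) (v : Fin m ⊕ Fin m → F) : plusQ m (Dm m c *ᵥ v) = c * plusQ m v := by
  rw [plusQ_apply, plusQ_apply]
  exact plus_sim m c v

theorem Dm_mem_stdE (c : F) {v : Fin m ⊕ Fin m → F} (hv : v ∈ stdE m) : Dm m c *ᵥ v ∈ stdE m := by
  rw [stdE_mem] at hv ⊢
  intro j
  unfold Dm
  rw [Matrix.mulVec_diagonal, hv j, mul_zero]

theorem map_Dm_stdE {c : F} (hc : c ≠ 0) :
    (stdE m (F := F)).map (Dm m c).mulVecLin = stdE m := by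
  apply le_antisymm
  · rintro _ ⟨v, hv, rfl⟩
    exact Dm_mem_stdE m c hv
  · intro v hv
    refine ⟨Dm m c⁻¹ *ᵥ v, Dm_mem_stdE m c⁻¹ hv, ?_⟩
    rw [Matrix.mulVecLin_apply, Matrix.mulVec_mulVec, Dm_mul, mul_inv_cancel₀ hc, Dm_one,
      Matrix.one_mulVec]

/-- The parity of `E ∩ gE` for a similarity `g` with multiplier `c`. -/
theorem det_sim_eq (h2 : (2 : F) ≠ 0) (g : Matrix (Fin m ⊕ Fin m) (Fin m ⊕ Fin m) F) (c : F)
    (hc : c ≠ 0) (hg : ∀ v, plusQ m (g *ᵥ v) = c * plusQ m v) :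
    g.det = (-1) ^ (m - finrank F (stdE m ⊓ (stdE m).map g.mulVecLin :
      Submodule F (Fin m ⊕ Fin m → F))) * c ^ m := by
  have hM : IsIsoM m (g * Dm m c⁻¹) := by
    intro v
    rw [← Matrix.mulVec_mulVec, hg, plusQ_Dm, ← mul_assoc, mul_inv_cancel₀ hc, one_mul]
  have hmap : (stdE m (F := F)).map (g * Dm m c⁻¹).mulVecLin = (stdE m).map g.mulVecLin := by
    rw [Matrix.mulVecLin_mul, Submodule.map_comp, map_Dm_stdE m (inv_ne_zero hc)]
  have h1 := det_eq h2 _ (g * Dm m c⁻¹) hM rfl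
  rw [hmap, Matrix.det_mul, det_Dm] at h1
  rw [← h1, mul_assoc, ← mul_pow, inv_mul_cancel₀ hc, one_pow, mul_one]

theorem isMax_iff (U : Submodule F (Fin m ⊕ Fin m → F)) :
    Cfsg.IsMaxTotallySingular (Cfsg.quadFormPlus m F) U ↔
      TS (plusQ m) U ∧ finrank F U = m := by
  have hQ := plusQ_nondegenerate m (F := F)
  have hdim := finrank_plus m (F := F)
  constructor
  · rintro ⟨hU, hmax⟩
    have hU' : TS (plusQ m) U := (ts_iff m U).2 hU
    refine ⟨hU', ?_⟩
    obtain ⟨W, hW, hWm, hUW⟩ := exists_max_ts m U hU' (hU'.finrank_le hQ hdim)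
    have := hmax W ((ts_iff m W).1 hW) hUW
    rw [← this]
    exact hWm
  · rintro ⟨hU, hUm⟩
    refine ⟨(ts_iff m U).1 hU, ?_⟩
    intro W hW hUW
    have hW' : TS (plusQ m) W := (ts_iff m W).2 hW
    symm
    apply Submodule.eq_of_le_of_finrank_le hUW
    rw [hUm]
    exact hW'.finrank_le hQ hdim

theorem neg_one_pow_eq_one_iff' (h2 : (2 : F) ≠ 0) (n : ℕ) : (-1 : F) ^ n = 1 ↔ Even n := by
  have hne : (-1 : F) ≠ 1 := by
    intro h
    apply h2
    linear_combination -h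
  exact neg_one_pow_eq_one_iff_even hne

/-- A similarity of the hyperbolic form preserves the two families iff it is proper. -/
theorem preserves_iff (h2 : (2 : F) ≠ 0) (g : GL (Fin m ⊕ Fin m) F) (c : F) (hc : c ≠ 0)
    (hg : ∀ v, Cfsg.quadFormPlus m F ((g : Matrix (Fin m ⊕ Fin m) (Fin m ⊕ Fin m) F) *ᵥ v) =
      c * Cfsg.quadFormPlus m F v) :
    Cfsg.PreservesSingularClasses (Cfsg.quadFormPlus m F)
        (g : Matrix (Fin m ⊕ Fin m) (Fin m ⊕ Fin m) F) ↔
      (g : Matrix (Fin m ⊕ Fin m) (Fin m ⊕ Fin m) F).det = c ^ m := by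
  have hQ := plusQ_nondegenerate m (F := F)
  have hdim := finrank_plus m (F := F)
  have hg' : ∀ v, plusQ m ((g : Matrix (Fin m ⊕ Fin m) (Fin m ⊕ Fin m) F) *ᵥ v) =
      c * plusQ m v := by
    intro v
    rw [plusQ_apply, plusQ_apply, hg]
  have hdet := det_sim_eq m h2 (g : Matrix (Fin m ⊕ Fin m) (Fin m ⊕ Fin m) F) c hc hg'
  have hcm : c ^ m ≠ 0 := pow_ne_zero _ hc
  have hiff : (g : Matrix (Fin m ⊕ Fin m) (Fin m ⊕ Fin m) F).det = c ^ m ↔
      Even (m - finrank F (stdE m ⊓ (stdE m).map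
        (g : Matrix (Fin m ⊕ Fin m) (Fin m ⊕ Fin m) F).mulVecLin :
        Submodule F (Fin m ⊕ Fin m → F))) := by
    rw [← neg_one_pow_eq_one_iff' h2, hdet]
    constructor
    · intro h
      apply mul_right_cancel₀ hcm
      rw [h, one_mul]
    · intro h
      rw [h, one_mul]
  rw [hiff]
  have himg : ∀ U : Submodule F (Fin m ⊕ Fin m → F),
      Cfsg.imageSubmodule (g : Matrix (Fin m ⊕ Fin m) (Fin m ⊕ Fin m) F) U =
        U.map (g : Matrix (Fin m ⊕ Fin m) (Fin m ⊕ Fin m) F).mulVecLin := by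
    intro U
    unfold Cfsg.imageSubmodule
    rw [Matrix.toLin'_apply']
  have hinj : Function.Injective (g : Matrix (Fin m ⊕ Fin m) (Fin m ⊕ Fin m) F).mulVecLin := by
    intro x y hxy
    have : (Cfsg.Agent.Lib.Helper25.CD.toLE g) x = (Cfsg.Agent.Lib.Helper25.CD.toLE g) y := hxy
    exact (Cfsg.Agent.Lib.Helper25.CD.toLE g).injective this
  have hfr : ∀ U : Submodule F (Fin m ⊕ Fin m → F),
      finrank F (U.map (g : Matrix (Fin m ⊕ Fin m) (Fin m ⊕ Fin m) F).mulVecLin) =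
        finrank F U := fun U =>
    (Submodule.equivMapOfInjective _ hinj U).finrank_eq.symm
  have hts : ∀ U : Submodule F (Fin m ⊕ Fin m → F), TS (plusQ m) U →
      TS (plusQ m) (U.map (g : Matrix (Fin m ⊕ Fin m) (Fin m ⊕ Fin m) F).mulVecLin) := by
    rintro U hU _ ⟨x, hx, rfl⟩
    rw [Matrix.mulVecLin_apply, hg', hU x hx, mul_zero]
  constructor
  · intro h
    have h1 := h (stdE m) ((isMax_iff m _).2 ⟨stdE_ts m, stdE_finrank m⟩)
    unfold Cfsg.SameParityClass at h1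
    rw [himg, stdE_finrank] at h1
    exact h1
  · intro h U hU
    obtain ⟨hUts, hUm⟩ := (isMax_iff m U).1 hU
    unfold Cfsg.SameParityClass
    rw [himg, hUm]
    have p1 := parity hQ hdim hUts hUm (stdE_ts m) (stdE_finrank m) (hts U hUts)
      ((hfr U).trans hUm)
    have p2 := parity hQ hdim (stdE_ts m) (stdE_finrank m) (hts _ (stdE_ts m))
      ((hfr _).trans (stdE_finrank m)) (hts U hUts) ((hfr U).trans hUm)
    have e1 : finrank F ((stdE m).map (g : Matrix (Fin m ⊕ Fin m) (Fin m ⊕ Fin m) F).mulVecLin ⊓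
        U.map (g : Matrix (Fin m ⊕ Fin m) (Fin m ⊕ Fin m) F).mulVecLin :
        Submodule F (Fin m ⊕ Fin m → F)) =
        finrank F (U ⊓ stdE m : Submodule F (Fin m ⊕ Fin m → F)) := by
      rw [← Submodule.map_inf _ hinj, hfr, inf_comm]
    rw [e1] at p2
    rw [Nat.even_iff] at p1 p2 h ⊢
    omega

end parity

end Cfsg.Agent.Lib.Helper25.PSim
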