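import Cfsg.Agent.Lib.Helper25.InvTrans1
import Cfsg.Agent.Lib.Helper25.DiscType
import Cfsg.Agent.Lib.Helper25.MaxTSPlus
import Cfsg.Agent.Lib.Helper25.SpinMinus

set_option autoImplicit false

/-!
# Forms equivalent to the sum of squares
-/

namespace Cfsg.Agent.Lib.Helper25.InvTrans

open Module Matrix QuadraticMap Cfsg

section forms

variable {F : Type*} [Field F]

/-- Twice the dot product, as a bilinear form. -/
noncomputable def dotB (n : ℕ) (F : Type*) [Field F] : LinearMap.BilinForm F (Fin n → F) :=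
  Matrix.toBilin' ((2 : F) • (1 : Matrix (Fin n) (Fin n) F))

theorem dotB_apply {n : ℕ} (x y : Fin n → F) : dotB n F x y = 2 * (x ⬝ᵥ y) := by
  rw [dotB, Matrix.toBilin'_apply', Matrix.smul_mulVec, Matrix.one_mulVec, dotProduct_smul,
    smul_eq_mul]

/-- A nondegenerate quadratic form of even dimension with square Gram determinant is equivalent
to the sum of squares (finite field, odd characteristic). -/
theorem exists_change_of_dot [Finite F] (h2 : (2 : F) ≠ 0) {ι₂ : Type} [Fintype ι₂]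
    [DecidableEq ι₂] (Q₂ : QuadraticForm F (ι₂ → F)) (hQ₂ : (polarBilin Q₂).Nondegenerate)
    {n : ℕ} (hcard : Fintype.card ι₂ = n) (heven : Even n)
    (hsq : IsSquare (Matrix.of (fun i j : ι₂ => polar ⇑Q₂ (Pi.single i 1) (Pi.single j 1))).det) :
    ∃ (P : Matrix ι₂ (Fin n) F) (P' : Matrix (Fin n) ι₂ F), P * P' = 1 ∧ P' * P = 1 ∧
      ∀ w, Q₂ (P *ᵥ w) = dotQ n F w := by
  classical
  have hc : Fintype.card ι₂ = Fintype.card (Fin n) := by rw [hcard, Fintype.card_fin]
  obtain ⟨b₂, hb₂⟩ : ∃ b₂ : Basis (Fin n) F (ι₂ → F),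
      b₂ = (Pi.basisFun F ι₂).reindex (Fintype.equivOfCardEq hc) := ⟨_, rfl⟩
  have hS₁ : (dotB n F).IsSymm := by
    rw [dotB, Matrix.isSymm_toBilin'_iff_isSymm]
    exact Matrix.isSymm_one.smul 2
  have hd₁ : (LinearMap.BilinForm.toMatrix (Pi.basisFun F (Fin n)) (dotB n F)).det = 2 ^ n := by
    rw [LinearMap.BilinForm.toMatrix_basisFun, dotB, LinearMap.BilinForm.toMatrix'_toBilin',
      Matrix.det_smul, Matrix.det_one, mul_one, Fintype.card_fin]
  have hN₁ : (dotB n F).Nondegenerate := by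
    rw [LinearMap.BilinForm.nondegenerate_iff_det_ne_zero (Pi.basisFun F (Fin n)), hd₁]
    exact pow_ne_zero _ h2
  have hS₂ : LinearMap.BilinForm.IsSymm (polarBilin Q₂) := by
    constructor
    intro x y
    rw [polarBilin_apply_apply, polarBilin_apply_apply, polar_comm]
  have hd₂ : (LinearMap.BilinForm.toMatrix b₂ (polarBilin Q₂)).det =
      (Matrix.of (fun i j : ι₂ => polar ⇑Q₂ (Pi.single i 1) (Pi.single j 1))).det := by
    rw [hb₂, DiscType.toMatrix_reindex, Matrix.det_submatrix_equiv_self,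
      LinearMap.BilinForm.toMatrix_basisFun]
    congr 1
  obtain ⟨g, hg⟩ := DiscType.exists_isometry_of_disc h2 (Pi.basisFun F (Fin n)) b₂ (dotB n F)
    (polarBilin Q₂) hS₁ hS₂ hN₁ hQ₂ (by
      rw [hd₁, hd₂]
      exact (heven.isSquare_pow 2).mul hsq)
  refine ⟨LinearMap.toMatrix' (g : (Fin n → F) →ₗ[F] (ι₂ → F)),
    LinearMap.toMatrix' (g.symm : (ι₂ → F) →ₗ[F] (Fin n → F)), ?_, ?_, ?_⟩
  · rw [← LinearMap.toMatrix'_comp]
    have : (g : (Fin n → F) →ₗ[F] (ι₂ → F)) ∘ₗ (g.symm : (ι₂ → F) →ₗ[F] (Fin n → F)) =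
        LinearMap.id := LinearMap.ext fun x => g.apply_symm_apply x
    rw [this, LinearMap.toMatrix'_id]
  · rw [← LinearMap.toMatrix'_comp]
    have : (g.symm : (ι₂ → F) →ₗ[F] (Fin n → F)) ∘ₗ (g : (Fin n → F) →ₗ[F] (ι₂ → F)) =
        LinearMap.id := LinearMap.ext fun x => g.symm_apply_apply x
    rw [this, LinearMap.toMatrix'_id]
  · intro w
    rw [LinearMap.toMatrix'_mulVec]
    have h3 := hg w w
    rw [polarBilin_apply_apply, dotB_apply] at h3
    have h4 : polar ⇑Q₂ (g w) (g w) = 2 * Q₂ (g w) := by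
      rw [QuadraticMap.polar_self]
      simp
    rw [h4] at h3
    exact mul_left_cancel₀ h2 h3

/-- The Gram matrix of the hyperbolic form. -/
theorem gram_plus (m : ℕ) :
    (Matrix.of (fun i j : Fin m ⊕ Fin m => polar ⇑(MaxTS.plusQ m (F := F)) (Pi.single i 1)
      (Pi.single j 1))) = Cfsg.Agent.Lib.Helper19.OrthoType.swapB m := by
  classical
  ext i j
  rw [Matrix.of_apply, MaxTS.polar_plusQ, Cfsg.Agent.Lib.Helper19.OrthoType.swapB]
  rcases i with i | i <;> rcases j with j | j
  · simp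
  · rw [Matrix.fromBlocks_apply₁₂, Matrix.one_apply]
    simp only [Pi.single_apply, Sum.inl.injEq, Sum.inr.injEq, reduceCtorEq, if_false, zero_mul,
      add_zero]
    rw [Finset.sum_eq_single i]
    · by_cases h : i = j
      · subst h
        simp
      · simp [h]
    · intro b _ hb
      rw [if_neg hb, zero_mul]
    · intro h
      exact absurd (Finset.mem_univ i) h
  · rw [Matrix.fromBlocks_apply₂₁, Matrix.one_apply]
    simp only [Pi.single_apply, Sum.inl.injEq, Sum.inr.injEq, reduceCtorEq, if_false, zero_mul,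
      zero_add]
    rw [Finset.sum_eq_single i]
    · by_cases h : i = j
      · subst h
        simp
      · simp [h]
    · intro b _ hb
      rw [if_neg hb, mul_zero]
    · intro h
      exact absurd (Finset.mem_univ i) h
  · simp

end forms

end Cfsg.Agent.Lib.Helper25.InvTrans
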