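import Mathlib
import Cfsg.Prelude.Def_Solvable
import Cfsg.Agent.Lib.Helper25.BaerSuzuki

set_option autoImplicit false

namespace Cfsg.Agent.Lib.Helper25

open Cfsg

section KleinBS

variable {G : Type*} [Group G]

theorem eq_one_of_odd_of_pow_two_pow {x : G} (hodd : Odd (orderOf x)) {k : ℕ}
    (h : x ^ (2 ^ k) = 1) : x = 1 := by
  rw [← orderOf_eq_one_iff]
  exact Nat.Coprime.eq_one_of_dvd (Nat.Coprime.pow_right k hodd.coprime_two_right)
    (orderOf_dvd_of_pow_eq_one h)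

theorem eq_one_of_odd_of_sq {x : G} (hodd : Odd (orderOf x)) (h : x ^ 2 = 1) : x = 1 :=
  eq_one_of_odd_of_pow_two_pow (k := 1) hodd (by simpa using h)

theorem eq_one_of_odd_of_pow_four {x : G} (hodd : Odd (orderOf x)) (h : x ^ 4 = 1) : x = 1 :=
  eq_one_of_odd_of_pow_two_pow (k := 2) hodd (by simpa using h)

/-- Two involutions whose product has 2-power order generate a 2-group. -/
theorem isPGroup_two_of_involutions [Finite G] {t s : G} (ht : t * t = 1) (hs : s * s = 1) {k : ℕ}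
    (hk : orderOf (t * s) = 2 ^ k) :
    IsPGroup 2 ↥(Subgroup.zpowers t ⊔ Subgroup.zpowers s) := by
  have htinv : t⁻¹ = t := inv_eq_of_mul_eq_one_left ht
  have hsinv : s⁻¹ = s := inv_eq_of_mul_eq_one_left hs
  have hu : IsPGroup 2 ↥(Subgroup.zpowers (t * s)) :=
    IsPGroup.of_card (n := k) (by rw [Nat.card_zpowers, hk])
  have htp : IsPGroup 2 ↥(Subgroup.zpowers t) := by
    by_cases h1 : t = 1
    · subst h1
      rw [Subgroup.zpowers_one_eq_bot]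
      exact IsPGroup.of_bot
    · apply IsPGroup.of_card (n := 1)
      rw [Nat.card_zpowers, pow_one]
      exact orderOf_eq_prime (by rw [pow_two]; exact ht) h1
  have hnorm : Subgroup.zpowers t ≤ Subgroup.normalizer ((Subgroup.zpowers (t * s) : Subgroup G) : Set G) := by
    rw [Subgroup.zpowers_le]
    apply mem_normalizer_of_conjBy_le
    unfold conjBy
    rw [MonoidHom.map_zpowers, Subgroup.zpowers_le]
    have : (MulAut.conj t).toMonoidHom (t * s) = (t * s)⁻¹ := by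
      simp only [MulEquiv.coe_toMonoidHom, MulAut.conj_apply, mul_inv_rev, htinv, hsinv]
      rw [mul_assoc, mul_assoc, ← mul_assoc t t, ht, one_mul]
    rw [this]
    exact Subgroup.inv_mem _ (Subgroup.mem_zpowers _)
  have hsup := IsPGroup.to_sup_of_normal_right' htp hu hnorm
  apply hsup.to_le
  apply sup_le le_sup_left
  rw [Subgroup.zpowers_le]
  have hmem : t⁻¹ * (t * s) ∈ Subgroup.zpowers t ⊔ Subgroup.zpowers (t * s) :=
    Subgroup.mul_mem _ (Subgroup.inv_mem _ (Subgroup.mem_sup_left (Subgroup.mem_zpowers t)))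
      (Subgroup.mem_sup_right (Subgroup.mem_zpowers (t * s)))
  rwa [inv_mul_cancel_left] at hmem

/-- Baer–Suzuki for an involution outside `O₂(G)`. -/
theorem exists_conj_not_two_pow [Finite G] {t : G} (ht : t * t = 1)
    (hO : t ∉ Cfsg.pCore 2 G) : ∃ g : G, ¬ ∃ k : ℕ, orderOf (t * (g * t * g⁻¹)) = 2 ^ k := by
  by_contra hcon
  push Not at hcon
  apply hO
  have htp : IsPGroup 2 ↥(Subgroup.zpowers t) := by
    have := isPGroup_two_of_involutions ht ht (k := 0) (by rw [ht, orderOf_one, pow_zero])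
    exact this.to_le le_sup_left
  have hall : ∀ g : G, IsPGroup 2 ↥(Subgroup.zpowers t ⊔ conjBy (Subgroup.zpowers t) g) := by
    intro g
    obtain ⟨k, hk⟩ := hcon g
    have hs : (g * t * g⁻¹) * (g * t * g⁻¹) = 1 := by
      have : (g * t * g⁻¹) * (g * t * g⁻¹) = g * (t * t) * g⁻¹ := by group
      rw [this, ht]; group
    have := isPGroup_two_of_involutions ht hs hk
    have e : conjBy (Subgroup.zpowers t) g = Subgroup.zpowers (g * t * g⁻¹) := by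
      unfold conjBy
      rw [MonoidHom.map_zpowers]
      rfl
    rw [e]
    exact this
  have : Fact (Nat.Prime 2) := ⟨Nat.prime_two⟩
  obtain ⟨N, hN, hNp, hle⟩ := baer_suzuki (Subgroup.zpowers t) htp hall
  have hNle : N ≤ Cfsg.pCore 2 G := le_sSup ⟨hN, hNp⟩
  exact hNle (hle (Subgroup.mem_zpowers t))

/-- From two involutions whose product does not have 2-power order we get a nontrivial element of
odd order, a power of the product, inverted by both. -/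
theorem exists_odd_inverted [Finite G] {t d : G} (ht : t * t = 1) (hd : d * d = 1)
    (hn : ¬ ∃ k : ℕ, orderOf (t * d) = 2 ^ k) :
    ∃ h : G, h ≠ 1 ∧ Odd (orderOf h) ∧ t * h * t⁻¹ = h⁻¹ ∧ h ∈ Subgroup.zpowers (t * d) := by
  have hpos : orderOf (t * d) ≠ 0 := (orderOf_pos (t * d)).ne'
  obtain ⟨k, m, hm, hkm⟩ := Nat.exists_eq_two_pow_mul_odd hpos
  have hord : orderOf ((t * d) ^ (2 ^ k)) = m := by
    rw [orderOf_pow_of_dvd (pow_ne_zero k two_ne_zero) ⟨m, hkm⟩, hkm]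
    exact Nat.mul_div_cancel_left m (pow_pos two_pos k)
  refine ⟨(t * d) ^ (2 ^ k), ?_, by rw [hord]; exact hm, ?_, Subgroup.pow_mem _ (Subgroup.mem_zpowers _) _⟩
  · intro h1
    rw [← orderOf_eq_one_iff, hord] at h1
    apply hn
    exact ⟨k, by rw [hkm, h1, mul_one]⟩
  · have htinv : t⁻¹ = t := inv_eq_of_mul_eq_one_left ht
    have hdinv : d⁻¹ = d := inv_eq_of_mul_eq_one_left hd
    rw [← conj_pow, ← inv_pow]
    congr 1
    rw [mul_inv_rev, htinv, hdinv, mul_assoc, mul_assoc, ← mul_assoc t t, ht, one_mul]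


/-- If `P⁻¹ Q P = Q⁻¹` with `P`, `Q` of odd order, then `Q = 1`. -/
theorem eq_one_of_odd_inverts [Finite G] {P Q : G} (hP : Odd (orderOf P)) (hQ : Odd (orderOf Q))
    (h : P⁻¹ * Q * P = Q⁻¹) : Q = 1 := by
  have key : ∀ k : ℕ, (P ^ k)⁻¹ * Q * P ^ k = if Even k then Q else Q⁻¹ := by
    intro k
    induction k with
    | zero => simp
    | succ k ih =>
      have e : (P ^ (k + 1))⁻¹ * Q * P ^ (k + 1) = P⁻¹ * ((P ^ k)⁻¹ * Q * P ^ k) * P := by
        rw [pow_succ]; group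
      rw [e, ih]
      by_cases hk : Even k
      · have hk' : ¬ Even (k + 1) := by
          rw [Nat.even_add_one]; exact not_not.2 hk
        rw [if_pos hk, if_neg hk', h]
      · have hk' : Even (k + 1) := by
          rw [Nat.even_add_one]; exact hk
        rw [if_neg hk, if_pos hk']
        have : P⁻¹ * Q⁻¹ * P = (P⁻¹ * Q * P)⁻¹ := by group
        rw [this, h, inv_inv]
  have h1 := key (orderOf P)
  rw [pow_orderOf_eq_one, if_neg (Nat.not_even_iff_odd.2 hP)] at h1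
  simp only [inv_one, one_mul, mul_one] at h1
  apply eq_one_of_odd_of_sq hQ
  rw [pow_two]
  nth_rewrite 1 [h1]
  exact inv_mul_cancel Q

/-- The key computation for the Klein four-group argument. -/
theorem klein_relation [Finite G] {e b c X Y : G}
    (hce : c * e = e * c) (hcb : c * b = b * c)
    (hcX : c * X * c⁻¹ = X⁻¹) (hcY : c * Y * c⁻¹ = Y⁻¹)
    (hbX : b * X * b⁻¹ = X) (hbY : b * Y * b⁻¹ = Y⁻¹)
    (heX : e * X * e⁻¹ = X⁻¹) (heY : e * Y * e⁻¹ = Y)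
    (hXodd : Odd (orderOf X)) (hYodd : Odd (orderOf Y)) (hX1 : X ≠ 1) (hY1 : Y ≠ 1)
    {x' : G} (hx' : x' = e ∨ x' = b ∨ x' = c)
    (hcomm : x' * ((X * Y)⁻¹ * c * (X * Y)) = ((X * Y)⁻¹ * c * (X * Y)) * x') :
    Y * Y * (X * X) * (Y * Y) = X⁻¹ * X⁻¹ := by
  -- `x'` commutes with `c`
  have hcx' : c * x' = x' * c := by
    rcases hx' with rfl | rfl | rfl
    · exact hce
    · exact hcb
    · rfl
  have h1 : (X * Y * x' * (X * Y)⁻¹) * c = c * (X * Y * x' * (X * Y)⁻¹) := by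
    calc (X * Y * x' * (X * Y)⁻¹) * c
        = X * Y * (x' * ((X * Y)⁻¹ * c * (X * Y))) * (X * Y)⁻¹ := by group
      _ = X * Y * (((X * Y)⁻¹ * c * (X * Y)) * x') * (X * Y)⁻¹ := by rw [hcomm]
      _ = c * (X * Y * x' * (X * Y)⁻¹) := by group
  -- τ = w x' w⁻¹ x'⁻¹ = w (x' w x'⁻¹)⁻¹
  have hτc : c * (X * Y * ((x' * X * x'⁻¹) * (x' * Y * x'⁻¹))⁻¹) * c⁻¹ =
      X * Y * ((x' * X * x'⁻¹) * (x' * Y * x'⁻¹))⁻¹ := by
    have e1 : X * Y * ((x' * X * x'⁻¹) * (x' * Y * x'⁻¹))⁻¹ = (X * Y * x' * (X * Y)⁻¹) * x'⁻¹ := by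
      group
    have hcx'inv : c * x'⁻¹ = x'⁻¹ * c := by
      have : x'⁻¹ * (c * x') * x'⁻¹ = x'⁻¹ * (x' * c) * x'⁻¹ := by rw [hcx']
      simpa [mul_assoc] using this.symm
    rw [e1]
    calc c * ((X * Y * x' * (X * Y)⁻¹) * x'⁻¹) * c⁻¹
        = (c * (X * Y * x' * (X * Y)⁻¹)) * x'⁻¹ * c⁻¹ := by group
      _ = ((X * Y * x' * (X * Y)⁻¹) * c) * x'⁻¹ * c⁻¹ := by rw [h1]
      _ = (X * Y * x' * (X * Y)⁻¹) * (c * x'⁻¹) * c⁻¹ := by group
      _ = (X * Y * x' * (X * Y)⁻¹) * (x'⁻¹ * c) * c⁻¹ := by rw [hcx'inv]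
      _ = (X * Y * x' * (X * Y)⁻¹) * x'⁻¹ := by group
  -- conjugation by `c` as a homomorphism
  have hφ : ∀ u v : G, c * (u * v) * c⁻¹ = (c * u * c⁻¹) * (c * v * c⁻¹) := by intro u v; group
  have hφinv : ∀ u : G, c * u⁻¹ * c⁻¹ = (c * u * c⁻¹)⁻¹ := by intro u; group
  rcases hx' with rfl | rfl | rfl
  · -- x' = e : τ = X * X
    exfalso
    rw [heX, heY] at hτc
    have e2 : X * Y * (X⁻¹ * Y)⁻¹ = X * X := by group
    rw [e2, hφ, hcX] at hτc
    apply hX1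
    apply eq_one_of_odd_of_pow_four hXodd
    have : X ^ 4 = (X * X) * (X⁻¹ * X⁻¹)⁻¹ := by group
    rw [this, hτc]; group
  · -- x' = b : τ = X Y Y X⁻¹
    exfalso
    rw [hbX, hbY] at hτc
    have e2 : X * Y * (X * Y⁻¹)⁻¹ = X * (Y * Y) * X⁻¹ := by group
    rw [e2, hφ, hφ, hφ, hφinv, hcX, hcY, inv_inv] at hτc
    -- hτc : X⁻¹ * (Y⁻¹ * Y⁻¹) * X = X * (Y * Y) * X⁻¹
    apply hY1
    have hQ : Y * Y = 1 := by
      apply eq_one_of_odd_inverts (P := X⁻¹ * X⁻¹) (Q := Y * Y)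
      · have : X⁻¹ * X⁻¹ = (X ^ 2)⁻¹ := by rw [pow_two, mul_inv_rev]
        rw [this, orderOf_inv, Nat.Coprime.orderOf_pow hXodd.coprime_two_right]
        exact hXodd
      · have : Y * Y = Y ^ 2 := by rw [pow_two]
        rw [this, Nat.Coprime.orderOf_pow hYodd.coprime_two_right]
        exact hYodd
      · have : (X⁻¹ * X⁻¹)⁻¹ * (Y * Y) * (X⁻¹ * X⁻¹) = X * (X * (Y * Y) * X⁻¹) * X⁻¹ := by
          simp [mul_assoc]
        rw [this, ← hτc]
        simp [mul_assoc]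
    apply eq_one_of_odd_of_sq hYodd
    rw [pow_two]; exact hQ
  · -- x' = c : τ = X Y Y X
    rw [hcX, hcY] at hτc
    have e2 : X * Y * (X⁻¹ * Y⁻¹)⁻¹ = X * (Y * Y) * X := by group
    rw [e2, hφ, hφ, hφ, hcX, hcY] at hτc
    -- hτc : X⁻¹ * (Y⁻¹ * Y⁻¹) * X⁻¹ = X * (Y * Y) * X
    have : Y * Y * (X * X) * (Y * Y) = X⁻¹ * (X * (Y * Y) * X) * (X⁻¹ * (Y⁻¹ * Y⁻¹) * X⁻¹)⁻¹ * X⁻¹ := by
      simp [mul_assoc]
    rw [this, hτc]
    simp [mul_assoc]


theorem conj_inv_of_conj_inv {x X : G} (h : x * X * x⁻¹ = X⁻¹) : x * X⁻¹ * x⁻¹ = (X⁻¹)⁻¹ := by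
  have : x * X⁻¹ * x⁻¹ = (x * X * x⁻¹)⁻¹ := by group
  rw [this, h]

theorem conj_inv_of_conj_fix {x X : G} (h : x * X * x⁻¹ = X) : x * X⁻¹ * x⁻¹ = X⁻¹ := by
  have : x * X⁻¹ * x⁻¹ = (x * X * x⁻¹)⁻¹ := by group
  rw [this, h]

theorem conj_sq_of_conj_inv {x Y : G} (h : x * Y * x⁻¹ = Y⁻¹) : x * (Y * Y) * x⁻¹ = (Y * Y)⁻¹ := by
  have : x * (Y * Y) * x⁻¹ = (x * Y * x⁻¹) * (x * Y * x⁻¹) := by group
  rw [this, h, mul_inv_rev]

theorem conj_sq_of_conj_fix {x Y : G} (h : x * Y * x⁻¹ = Y) : x * (Y * Y) * x⁻¹ = Y * Y := by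
  have : x * (Y * Y) * x⁻¹ = (x * Y * x⁻¹) * (x * Y * x⁻¹) := by group
  rw [this, h]

/-- The final contradiction in the Klein four-group argument. -/
theorem klein_contra [Finite G] {e b c X Y : G}
    (hce : c * e = e * c) (hcb : c * b = b * c)
    (hcX : c * X * c⁻¹ = X⁻¹) (hcY : c * Y * c⁻¹ = Y⁻¹)
    (hbX : b * X * b⁻¹ = X) (hbY : b * Y * b⁻¹ = Y⁻¹)
    (heX : e * X * e⁻¹ = X⁻¹) (heY : e * Y * e⁻¹ = Y)
    (hXodd : Odd (orderOf X)) (hYodd : Odd (orderOf Y)) (hX1 : X ≠ 1) (hY1 : Y ≠ 1)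
    (H : ∀ g : G, ∃ x', (x' = e ∨ x' = b ∨ x' = c) ∧ x' * (g * c * g⁻¹) = (g * c * g⁻¹) * x') :
    False := by
  have hXinv1 : X⁻¹ ≠ 1 := by simpa using hX1
  have hXinvodd : Odd (orderOf X⁻¹) := by rw [orderOf_inv]; exact hXodd
  have hYY1 : Y * Y ≠ 1 := by
    intro h0
    apply hY1
    apply eq_one_of_odd_of_sq hYodd
    rw [pow_two]; exact h0
  have hYYodd : Odd (orderOf (Y * Y)) := by
    have : Y * Y = Y ^ 2 := by rw [pow_two]
    rw [this, Nat.Coprime.orderOf_pow hYodd.coprime_two_right]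
    exact hYodd
  -- the three instances
  obtain ⟨x₁, hx₁, hc₁⟩ := H (X * Y)⁻¹
  rw [inv_inv] at hc₁
  have R1 := klein_relation hce hcb hcX hcY hbX hbY heX heY hXodd hYodd hX1 hY1 hx₁ hc₁
  obtain ⟨x₂, hx₂, hc₂⟩ := H (X⁻¹ * Y)⁻¹
  rw [inv_inv] at hc₂
  have R2 := klein_relation hce hcb (conj_inv_of_conj_inv hcX) hcY (conj_inv_of_conj_fix hbX) hbY
    (conj_inv_of_conj_inv heX) heY hXinvodd hYodd hXinv1 hY1 hx₂ hc₂
  rw [inv_inv] at R2
  obtain ⟨x₃, hx₃, hc₃⟩ := H (X * (Y * Y))⁻¹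
  rw [inv_inv] at hc₃
  have R3 := klein_relation hce hcb hcX (conj_sq_of_conj_inv hcY) hbX (conj_sq_of_conj_inv hbY)
    heX (conj_sq_of_conj_fix heY) hXodd hYYodd hX1 hYY1 hx₃ hc₃
  -- combine
  have e1 : Y * Y * (Y * Y) * (X * X) * (Y * Y * (Y * Y)) =
      Y * Y * (Y * Y * (X * X) * (Y * Y)) * (Y * Y) := by simp [mul_assoc]
  rw [e1, R1, R2] at R3
  apply hX1
  apply eq_one_of_odd_of_pow_four hXodd
  have : X ^ 4 = (X * X) * (X⁻¹ * X⁻¹)⁻¹ := by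
    simp [pow_succ, mul_assoc]
  rw [this, ← R3]
  simp [mul_assoc]

end KleinBS

end Cfsg.Agent.Lib.Helper25
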