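/-
helper25: Knörr's abelian-centralizer criterion for k(GV) — part A: a Gauss sum computation.
-/
import Mathlib

set_option autoImplicit false
open scoped ComplexConjugate

namespace Cfsg.Agent.Lib.Helper25.Kn

/-- sum of a character with the "primitive" property over the units -/
theorem sum_units_addChar {F : Type*} [Field F] [Fintype F] [DecidableEq F] (ψ : AddChar F ℂ)
    (hψ : ∀ u : F, u ≠ 0 → ∑ y : F, ψ (y * u) = 0) (u : F) :
    ∑ y : Fˣ, ψ ((y : F) * u) = (if u = 0 then (Fintype.card F : ℂ) else 0) - 1 := by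
  classical
  have h1 : ∑ y : F, ψ (y * u) = ∑ y : Fˣ, ψ ((y : F) * u) + ψ (0 * u) := by
    rw [← Finset.sum_erase_add _ _ (Finset.mem_univ (0 : F))]
    congr 1
    refine (Finset.sum_bij' (fun (y : Fˣ) _ => (y : F)) (fun y hy => Units.mk0 y (Finset.ne_of_mem_erase hy))
      ?_ ?_ ?_ ?_ ?_).symm
    · intro y _; exact Finset.mem_erase.mpr ⟨y.ne_zero, Finset.mem_univ _⟩
    · intro y _; exact Finset.mem_univ _
    · intro y _; ext; rfl
    · intro y _; rfl
    · intro y _; rfl
  have h2 : ∑ y : F, ψ (y * u) = if u = 0 then (Fintype.card F : ℂ) else 0 := by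
    split_ifs with h
    · subst h; simp
    · exact hψ u h
  rw [zero_mul, AddChar.map_zero_eq_one] at h1
  rw [← h2, h1]; ring

/-- The norm of the abstract Gauss sum. -/
theorem gauss_normSq {F : Type*} [Field F] [Fintype F] (N : ℕ) [NeZero N]
    (e : Multiplicative (ZMod N) ≃* Fˣ) (ψ : AddChar F ℂ)
    (hψ : ∀ u : F, u ≠ 0 → ∑ y : F, ψ (y * u) = 0) (a : ZMod N) :
    (∑ b : ZMod N, ψ ((e (Multiplicative.ofAdd b) : Fˣ) : F) * ZMod.stdAddChar (a * b)) *
      conj (∑ b : ZMod N, ψ ((e (Multiplicative.ofAdd b) : Fˣ) : F) * ZMod.stdAddChar (a * b))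
      = if a = 0 then 1 else (Fintype.card F : ℂ) := by
  classical
  have hcard : Fintype.card F = N + 1 := by
    have h1 : Fintype.card (ZMod N) = Fintype.card Fˣ := Fintype.card_congr (Multiplicative.ofAdd.trans e.toEquiv)
    rw [ZMod.card, Fintype.card_units] at h1
    have : 0 < Fintype.card F := Fintype.card_pos
    omega
  set f : ZMod N → F := fun b => ((e (Multiplicative.ofAdd b) : Fˣ) : F) with hf
  have hfadd : ∀ b d, f (b + d) = f b * f d := by
    intro b d
    simp only [hf, ofAdd_add, map_mul, Units.val_mul]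
  have hf0 : ∀ d, f d = 1 ↔ d = 0 := by
    intro d
    simp only [hf]
    rw [Units.val_eq_one]
    constructor
    · intro h
      have : Multiplicative.ofAdd d = 1 := by
        apply e.injective; rw [h, map_one]
      exact this
    · intro h; subst h; simp
  change (∑ b : ZMod N, ψ (f b) * ZMod.stdAddChar (a * b)) *
      conj (∑ b : ZMod N, ψ (f b) * ZMod.stdAddChar (a * b)) = _
  rw [map_sum, Finset.sum_mul_sum]
  -- rewrite each term
  have hterm : ∀ b b' : ZMod N,
      ψ (f b) * ZMod.stdAddChar (a * b) * conj (ψ (f b') * ZMod.stdAddChar (a * b')) =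
        ψ (f b - f b') * ZMod.stdAddChar (a * (b - b')) := by
    intro b b'
    rw [map_mul (starRingEnd ℂ), ← AddChar.map_neg_eq_conj, ← AddChar.map_neg_eq_conj, sub_eq_add_neg,
      AddChar.map_add_eq_mul, mul_sub, sub_eq_add_neg (a * b), AddChar.map_add_eq_mul]
    ring
  simp only [hterm]
  -- reindex b = b' + d
  have hre : ∑ b : ZMod N, ∑ b' : ZMod N, ψ (f b - f b') * ZMod.stdAddChar (a * (b - b')) =
      ∑ d : ZMod N, ZMod.stdAddChar (a * d) * ∑ b' : ZMod N, ψ (f b' * (f d - 1)) := by
    rw [Finset.sum_comm]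
    have hb : ∀ b' : ZMod N, ∑ b : ZMod N, ψ (f b - f b') * ZMod.stdAddChar (a * (b - b')) =
        ∑ d : ZMod N, ZMod.stdAddChar (a * d) * ψ (f b' * (f d - 1)) := by
      intro b'
      rw [← Equiv.sum_comp (Equiv.addRight b')]
      apply Finset.sum_congr rfl
      intro d _
      simp only [Equiv.coe_addRight, add_sub_cancel_right]
      rw [hfadd, mul_comm]
      congr 2
      ring
    simp only [hb]
    rw [Finset.sum_comm]
    simp only [Finset.mul_sum]
  rw [hre]
  have hinner : ∀ d : ZMod N, ∑ b' : ZMod N, ψ (f b' * (f d - 1)) =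
      (if d = 0 then (Fintype.card F : ℂ) else 0) - 1 := by
    intro d
    have := sum_units_addChar ψ hψ (f d - 1)
    rw [← Equiv.sum_comp (Multiplicative.ofAdd.trans e.toEquiv)] at this
    simp only [Equiv.trans_apply, MulEquiv.toEquiv_eq_coe, EquivLike.coe_coe] at this
    rw [show (∑ b' : ZMod N, ψ (f b' * (f d - 1))) = ∑ i : ZMod N, ψ (((e (Multiplicative.ofAdd i) : Fˣ) : F) * (f d - 1)) from rfl,
      this]
    congr 1
    simp only [sub_eq_zero, hf0]
  simp only [hinner]
  have hsum : ∑ d : ZMod N, (ZMod.stdAddChar (a * d) : ℂ) = if a = 0 then (N : ℂ) else 0 := by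
    have := AddChar.sum_mulShift a (ZMod.isPrimitive_stdAddChar N)
    simp only [mul_comm a] 
    rw [this, ZMod.card]
    split_ifs <;> simp
  simp only [mul_sub, mul_one, Finset.sum_sub_distrib, mul_ite, mul_zero, Finset.sum_ite_eq', Finset.mem_univ,
    if_true]
  rw [hsum, AddChar.map_zero_eq_one, one_mul, hcard]
  split_ifs <;> push_cast <;> ring

end Cfsg.Agent.Lib.Helper25.Kn
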