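/-
helper25: Knörr's abelian-centralizer criterion for k(GV) — part B: the Gauss-sum data attached to a
coprime action of a finite abelian group on an elementary abelian `p`-group (basic closure properties).
-/
import Mathlib
import Cfsg.Agent.Lib.Helper25.KnA

set_option autoImplicit false
open scoped ComplexConjugate

namespace Cfsg.Agent.Lib.Helper25.Kn

section

variable {C V : Type*} [CommGroup C] [CommGroup V] [MulDistribMulAction C V]

/-- the subgroup of points fixed by `c` -/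
def fixSub (V : Type*) {C : Type*} [CommGroup C] [CommGroup V] [MulDistribMulAction C V] (c : C) : Subgroup V where
  carrier := {v | c • v = v}
  one_mem' := smul_one c
  mul_mem' := by
    intro a b ha hb
    simp only [Set.mem_ofPred_eq] at *
    rw [smul_mul', ha, hb]
  inv_mem' := by
    intro a ha
    simp only [Set.mem_ofPred_eq] at *
    rw [smul_inv', ha]

theorem mem_fixSub {c : C} {v : V} : v ∈ fixSub V c ↔ c • v = v := Iff.rfl

/-- invariance of a subgroup -/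
def Inv (C : Type*) {V : Type*} [CommGroup C] [CommGroup V] [MulDistribMulAction C V] (W : Subgroup V) : Prop :=
  ∀ (c : C), ∀ w ∈ W, c • w ∈ W

open Classical in
/-- the Gauss sum data for an invariant subgroup `W` -/
def HasKData (p : ℕ) (C : Type*) {V : Type*} [CommGroup C] [CommGroup V] [MulDistribMulAction C V]
    (W : Subgroup V) : Prop :=
  ∃ (B : Type) (_ : Fintype B) (r : B → ℂ) (lam : B → (C →* ℂˣ)),
    (∀ b, r b ^ p = 1) ∧
    (∀ t : ℕ, t.Coprime p → ∀ c : C,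
       (∑ b, r b ^ t * ((lam b c : ℂˣ) : ℂ)) * conj (∑ b, r b ^ t * ((lam b c : ℂˣ) : ℂ)) *
         (Nat.card ↥(W ⊓ fixSub V c) : ℂ) = (Nat.card W : ℂ)) ∧
    (∀ c : C, ∑ b, ((lam b c : ℂˣ) : ℂ) = if (∀ w ∈ W, c • w = w) then (Fintype.card B : ℂ) else 0) ∧
    ¬ p ∣ Fintype.card B

theorem hasKData_bot (p : ℕ) (hp : p.Prime) : HasKData p C (⊥ : Subgroup V) := by
  classical
  refine ⟨Unit, inferInstance, fun _ => 1, fun _ => 1, ?_, ?_, ?_, ?_⟩
  · intro b; simp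
  · intro t _ c
    simp only [one_pow, MonoidHom.one_apply, Units.val_one, mul_one, Finset.univ_unique, Finset.sum_const,
      Finset.card_singleton, one_smul, map_one, one_mul]
    have h1 : Nat.card ↥((⊥ : Subgroup V) ⊓ fixSub V c) = 1 := by
      rw [bot_inf_eq]; exact Subgroup.card_bot
    rw [h1, Subgroup.card_bot]
  · intro c
    simp only [MonoidHom.one_apply, Units.val_one, Finset.univ_unique, Finset.sum_const, Finset.card_singleton,
      one_smul, Fintype.card_unit, Nat.cast_one]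
    rw [if_pos]
    intro w hw
    rw [Subgroup.mem_bot] at hw
    subst hw
    exact smul_one c
  · simp only [Fintype.card_unit, Nat.dvd_one]
    exact hp.ne_one

/-- cardinality of the join of two independent subgroups of a commutative group -/
theorem card_sup_of_disjoint [Finite V] (W₁ W₂ : Subgroup V) (h : W₁ ⊓ W₂ = ⊥) :
    Nat.card ↥(W₁ ⊔ W₂) = Nat.card W₁ * Nat.card W₂ := by
  rw [← Nat.card_prod]
  symm
  refine Nat.card_congr (Equiv.ofBijective
    (fun x : ↥W₁ × ↥W₂ => (⟨(x.1 : V) * (x.2 : V), Subgroup.mul_mem_sup x.1.2 x.2.2⟩ : ↥(W₁ ⊔ W₂))) ⟨?_, ?_⟩)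
  · rintro ⟨a, b⟩ ⟨a', b'⟩ hab
    simp only [Subtype.mk.injEq] at hab
    have h1 : (a : V) * (a' : V)⁻¹ = (b' : V) * (b : V)⁻¹ := by
      calc (a : V) * (a' : V)⁻¹ = ((a : V) * (b : V)) * ((a' : V)⁻¹ * (b : V)⁻¹) := by
            rw [mul_mul_mul_comm]; simp
        _ = ((a' : V) * (b' : V)) * ((a' : V)⁻¹ * (b : V)⁻¹) := by rw [hab]
        _ = (b' : V) * (b : V)⁻¹ := by rw [mul_mul_mul_comm]; simp
    have h2 : (a : V) * (a' : V)⁻¹ ∈ W₁ ⊓ W₂ :=
      ⟨W₁.mul_mem a.2 (W₁.inv_mem a'.2), by rw [h1]; exact W₂.mul_mem b'.2 (W₂.inv_mem b.2)⟩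
    rw [h, Subgroup.mem_bot] at h2
    have h3 : (b' : V) * (b : V)⁻¹ = 1 := by rw [← h1, h2]
    have ha : (a : V) = a' := mul_inv_eq_one.mp h2
    have hb : (b' : V) = b := mul_inv_eq_one.mp h3
    exact Prod.ext (Subtype.ext ha) (Subtype.ext hb.symm)
  · rintro ⟨x, hx⟩
    obtain ⟨a, ha, b, hb, rfl⟩ := Subgroup.mem_sup.mp hx
    exact ⟨(⟨a, ha⟩, ⟨b, hb⟩), rfl⟩

theorem fix_sup_of_disjoint (W₁ W₂ : Subgroup V) (h : W₁ ⊓ W₂ = ⊥) (h1 : Inv C W₁) (h2 : Inv C W₂) (c : C) :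
    (W₁ ⊔ W₂) ⊓ fixSub V c = (W₁ ⊓ fixSub V c) ⊔ (W₂ ⊓ fixSub V c) := by
  apply le_antisymm
  · rintro x ⟨hx, hxc⟩
    obtain ⟨a, ha, b, hb, rfl⟩ := Subgroup.mem_sup.mp hx
    change c • (a * b) = a * b at hxc
    rw [smul_mul'] at hxc
    -- c•a * c•b = a * b with c•a ∈ W₁, c•b ∈ W₂
    have h3 : (c • a) * a⁻¹ = b * (c • b)⁻¹ := by
      calc (c • a) * a⁻¹ = ((c • a) * (c • b)) * (a⁻¹ * (c • b)⁻¹) := by rw [mul_mul_mul_comm]; simp
        _ = (a * b) * (a⁻¹ * (c • b)⁻¹) := by rw [hxc]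
        _ = b * (c • b)⁻¹ := by rw [mul_mul_mul_comm]; simp
    have h4 : (c • a) * a⁻¹ ∈ W₁ ⊓ W₂ :=
      ⟨W₁.mul_mem (h1 c a ha) (W₁.inv_mem ha), by rw [h3]; exact W₂.mul_mem hb (W₂.inv_mem (h2 c b hb))⟩
    rw [h, Subgroup.mem_bot] at h4
    have h5 : b * (c • b)⁻¹ = 1 := by rw [← h3, h4]
    have ha' : c • a = a := mul_inv_eq_one.mp h4
    have hb' : b = c • b := mul_inv_eq_one.mp h5
    exact Subgroup.mul_mem_sup ⟨ha, ha'⟩ ⟨hb, hb'.symm⟩
  · apply sup_le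
    · exact inf_le_inf_right _ le_sup_left
    · exact inf_le_inf_right _ le_sup_right

theorem hasKData_sup [Finite V] (p : ℕ) (W₁ W₂ : Subgroup V) (h : W₁ ⊓ W₂ = ⊥) (h1 : Inv C W₁) (h2 : Inv C W₂)
    (d1 : HasKData p C W₁) (d2 : HasKData p C W₂) (hp : p.Prime) : HasKData p C (W₁ ⊔ W₂) := by
  classical
  obtain ⟨B₁, _, r₁, lam₁, hr₁, hn₁, hs₁, hc₁⟩ := d1
  obtain ⟨B₂, _, r₂, lam₂, hr₂, hn₂, hs₂, hc₂⟩ := d2
  refine ⟨B₁ × B₂, inferInstance, fun b => r₁ b.1 * r₂ b.2, fun b => lam₁ b.1 * lam₂ b.2, ?_, ?_, ?_, ?_⟩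
  · intro b; rw [mul_pow, hr₁, hr₂, one_mul]
  · intro t ht c
    have hprod : ∑ b : B₁ × B₂, (r₁ b.1 * r₂ b.2) ^ t * (((lam₁ b.1 * lam₂ b.2) c : ℂˣ) : ℂ) =
        (∑ b, r₁ b ^ t * ((lam₁ b c : ℂˣ) : ℂ)) * (∑ b, r₂ b ^ t * ((lam₂ b c : ℂˣ) : ℂ)) := by
      rw [Fintype.sum_prod_type, Finset.sum_mul_sum]
      apply Finset.sum_congr rfl; intro b₁ _
      apply Finset.sum_congr rfl; intro b₂ _
      simp only [MonoidHom.mul_apply, Units.val_mul, mul_pow]
      ring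
    rw [hprod, map_mul]
    have hcard : Nat.card ↥((W₁ ⊔ W₂) ⊓ fixSub V c) =
        Nat.card ↥(W₁ ⊓ fixSub V c) * Nat.card ↥(W₂ ⊓ fixSub V c) := by
      rw [fix_sup_of_disjoint W₁ W₂ h h1 h2 c]
      apply card_sup_of_disjoint
      apply le_bot_iff.mp
      rw [← h]
      exact inf_le_inf inf_le_left inf_le_left
    rw [hcard, card_sup_of_disjoint W₁ W₂ h]
    push_cast
    rw [← hn₁ t ht c, ← hn₂ t ht c]
    ring
  · intro c
    have hprod : ∑ b : B₁ × B₂, (((lam₁ b.1 * lam₂ b.2) c : ℂˣ) : ℂ) =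
        (∑ b, ((lam₁ b c : ℂˣ) : ℂ)) * (∑ b, ((lam₂ b c : ℂˣ) : ℂ)) := by
      rw [Fintype.sum_prod_type, Finset.sum_mul_sum]
      apply Finset.sum_congr rfl; intro b₁ _
      apply Finset.sum_congr rfl; intro b₂ _
      simp only [MonoidHom.mul_apply, Units.val_mul]
    rw [hprod, hs₁, hs₂]
    by_cases hc1 : ∀ w ∈ W₁, c • w = w
    · by_cases hc2 : ∀ w ∈ W₂, c • w = w
      · rw [if_pos hc1, if_pos hc2, if_pos]
        · rw [Fintype.card_prod]; push_cast; ring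
        · intro w hw
          obtain ⟨a, ha, b, hb, rfl⟩ := Subgroup.mem_sup.mp hw
          rw [smul_mul', hc1 a ha, hc2 b hb]
      · rw [if_neg hc2, mul_zero, if_neg]
        intro hall
        exact hc2 (fun w hw => hall w (Subgroup.mem_sup_right hw))
    · rw [if_neg hc1, zero_mul, if_neg]
      intro hall
      exact hc1 (fun w hw => hall w (Subgroup.mem_sup_left hw))
  · rw [Fintype.card_prod]
    intro hdvd
    rcases (Nat.Prime.dvd_mul hp).mp hdvd with h' | h'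
    · exact hc₁ h'
    · exact hc₂ h'

end

end Cfsg.Agent.Lib.Helper25.Kn
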