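/-
helper25: Knörr's abelian-centralizer criterion for k(GV) — part C: the Gauss-sum data for an
irreducible constituent (fixed-point-free cyclic quotient, embedded in the units of a Galois field).
-/
import Mathlib
import Cfsg.Agent.Lib.Helper25.KnB
import Cfsg.Agent.Lib.Helper9.FpfAction

set_option autoImplicit false
open scoped ComplexConjugate

namespace Cfsg.Agent.Lib.Helper25.Kn

open Cfsg.Agent.Lib.Helper9

/-- a fixed-point-free group of automorphisms has order dividing `|W| - 1` -/
theorem card_dvd_of_fpf {B W : Type*} [Group B] [CommGroup W] [MulDistribMulAction B W] [Finite B] [Finite W]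
    (hf : IsFpfAction B W) : Nat.card B ∣ Nat.card W - 1 := by
  classical
  have _ := Fintype.ofFinite B
  have _ := Fintype.ofFinite W
  have hB := MulAction.sum_card_fixedBy_eq_card_orbits_mul_card_group B W
  have h1 : Fintype.card (MulAction.fixedBy W (1 : B)) = Fintype.card W := by
    rw [Fintype.card_congr (Equiv.subtypeUnivEquiv (fun w => by simp))]
  have h2 : ∀ g : B, g ≠ 1 → Fintype.card (MulAction.fixedBy W g) = 1 := by
    intro g hg
    rw [Fintype.card_eq_one_iff]
    refine ⟨⟨1, by simp [MulAction.mem_fixedBy]⟩, ?_⟩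
    rintro ⟨w, hw⟩
    apply Subtype.ext
    exact hf g hg w hw
  rw [← Finset.add_sum_erase Finset.univ _ (Finset.mem_univ (1 : B)), h1,
    Finset.sum_congr rfl (fun g hg => h2 g (Finset.ne_of_mem_erase hg)), Finset.sum_const,
    Finset.card_erase_of_mem (Finset.mem_univ _), Finset.card_univ, smul_eq_mul, mul_one] at hB
  rw [Nat.card_eq_fintype_card, Nat.card_eq_fintype_card]
  have hBpos : 0 < Fintype.card B := Fintype.card_pos
  have hWpos : 0 < Fintype.card W := Fintype.card_pos
  set k := Fintype.card (Quotient (MulAction.orbitRel B W)) with hk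
  have hkpos : 0 < k := by
    rcases Nat.eq_zero_or_pos k with h0 | h0
    · rw [h0, zero_mul] at hB; omega
    · exact h0
  refine ⟨k - 1, ?_⟩
  have h3 : (k - 1) * Fintype.card B + Fintype.card B = k * Fintype.card B := by
    have : (k - 1 + 1) * Fintype.card B = k * Fintype.card B := by rw [Nat.sub_add_cancel hkpos]
    rw [← this]; ring
  rw [mul_comm]
  omega

/-- a finite cyclic group embeds in any finite cyclic group of order a multiple of its order -/
theorem exists_injective_hom_of_cyclic {B Z : Type*} [Group B] [Group Z] [Finite B] [Finite Z]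
    [IsCyclic B] [IsCyclic Z] (h : Nat.card B ∣ Nat.card Z) : ∃ ι : B →* Z, Function.Injective ι := by
  obtain ⟨g, hg⟩ := IsCyclic.exists_generator (α := Z)
  have hog : orderOf g = Nat.card Z := orderOf_eq_card_of_forall_mem_zpowers hg
  have hN : Nat.card Z ≠ 0 := Nat.card_pos.ne'
  set m := Nat.card B with hm
  set N := Nat.card Z with hNdef
  have hdvd : N / m ∣ orderOf g := by rw [hog]; exact Nat.div_dvd_of_dvd h
  have hne : N / m ≠ 0 := by
    intro h0
    rw [Nat.div_eq_zero_iff] at h0
    rcases h0 with h0 | h0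
    · exact (Nat.card_pos (α := B)).ne' h0
    · exact absurd (Nat.le_of_dvd (Nat.pos_of_ne_zero hN) h) (not_le.mpr h0)
  have hoh : orderOf (g ^ (N / m)) = m := by
    rw [orderOf_pow_of_dvd hne hdvd, hog, Nat.div_div_self h hN]
  have hcard : Nat.card B = Nat.card (Subgroup.zpowers (g ^ (N / m))) := by
    rw [Nat.card_zpowers, hoh]
  let eq := mulEquivOfCyclicCardEq hcard
  refine ⟨(Subgroup.zpowers (g ^ (N / m))).subtype.comp eq.toMonoidHom, ?_⟩
  intro x y hxy
  apply eq.injective
  apply Subtype.ext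
  exact hxy

section

variable {C V : Type*} [CommGroup C] [CommGroup V] [MulDistribMulAction C V]

/-- the action on an invariant subgroup -/
@[reducible] def subAction (W : Subgroup V) (hW : Inv C W) : MulDistribMulAction C ↥W where
  smul c w := ⟨c • (w : V), hW c w w.2⟩
  one_smul w := Subtype.ext (one_smul C (w : V))
  mul_smul c d w := Subtype.ext (mul_smul c d (w : V))
  smul_mul c w w' := Subtype.ext (smul_mul' c (w : V) (w' : V))
  smul_one c := Subtype.ext (smul_one c)

theorem subAction_coe (W : Subgroup V) (hW : Inv C W) (c : C) (w : ↥W) :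
    ((letI := subAction W hW; c • w : ↥W) : V) = c • (w : V) := rfl

/-- irreducibility gives the dichotomy: `c` acts trivially or without fixed points -/
theorem dichotomy_of_irred (W : Subgroup V) (hW : Inv C W)
    (hirr : ∀ U : Subgroup V, Inv C U → U ≤ W → U = ⊥ ∨ U = W) (c : C) :
    (∀ w ∈ W, c • w = w) ∨ W ⊓ fixSub V c = ⊥ := by
  have hinv : Inv C (W ⊓ fixSub V c) := by
    intro d w hw
    refine ⟨hW d w hw.1, ?_⟩
    have h2 : c • w = w := hw.2
    change c • d • w = d • w
    rw [smul_smul, mul_comm, ← smul_smul, h2]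
  rcases hirr _ hinv inf_le_left with h | h
  · exact Or.inr h
  · left
    intro w hw
    have : w ∈ W ⊓ fixSub V c := by rw [h]; exact hw
    exact this.2

/-- the homomorphism to `ZMod N` with kernel the elements acting trivially -/
theorem exists_hom_zmod [Finite C] [Finite V] (W : Subgroup V) (hW : Inv C W) (hne : W ≠ ⊥)
    (hdich : ∀ c : C, (∀ w ∈ W, c • w = w) ∨ W ⊓ fixSub V c = ⊥) (N : ℕ) [NeZero N]
    (hN : N = Nat.card W - 1) :
    ∃ a : C →* Multiplicative (ZMod N), ∀ c, a c = 1 ↔ ∀ w ∈ W, c • w = w := by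
  letI := subAction W hW
  haveI : Nontrivial ↥W := (Subgroup.nontrivial_iff_ne_bot W).mpr hne
  let φ : C →* MulAut ↥W := MulDistribMulAction.toMulAut C ↥W
  have hφ : ∀ c : C, φ c = 1 ↔ ∀ w ∈ W, c • w = w := by
    intro c
    constructor
    · intro h w hw
      have h1 : φ c ⟨w, hw⟩ = ⟨w, hw⟩ := by rw [h]; rfl
      exact congrArg Subtype.val h1
    · intro h
      ext w
      exact h w w.2
  have hfpf : IsFpfAction ↥φ.range ↥W := by
    rintro ⟨f, c, rfl⟩ hf1 w hw
    have hc : ¬ ∀ w ∈ W, c • w = w := by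
      intro h
      apply hf1
      apply Subtype.ext
      exact (hφ c).mpr h
    have hbot := (hdich c).resolve_left hc
    have h1 : (w : V) ∈ W ⊓ fixSub V c := by
      refine ⟨w.2, ?_⟩
      exact congrArg Subtype.val hw
    rw [hbot, Subgroup.mem_bot] at h1
    exact Subtype.ext h1
  have hcomm : ∀ x y : ↥φ.range, x * y = y * x := by
    rintro ⟨_, c, rfl⟩ ⟨_, d, rfl⟩
    apply Subtype.ext
    change φ c * φ d = φ d * φ c
    rw [← map_mul, ← map_mul, mul_comm]
  haveI : IsCyclic ↥φ.range := hfpf.isCyclic_of_comm hcomm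
  have hdvd : Nat.card ↥φ.range ∣ Nat.card (Multiplicative (ZMod N)) := by
    have h1 := card_dvd_of_fpf hfpf
    have h2 : Nat.card (Multiplicative (ZMod N)) = N := by
      rw [Nat.card_congr Multiplicative.toAdd, Nat.card_zmod]
    rw [h2, hN]
    exact h1
  obtain ⟨ι, hι⟩ := exists_injective_hom_of_cyclic hdvd
  refine ⟨ι.comp φ.rangeRestrict, ?_⟩
  intro c
  rw [← hφ c, MonoidHom.comp_apply, map_eq_one_iff ι hι]
  constructor
  · intro h
    exact congrArg Subtype.val h
  · intro h
    exact Subtype.ext h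

/-- the Gauss sum data from a finite field of the same order as the irreducible constituent -/
theorem hasKData_irred_aux [Finite C] [Finite V] (p : ℕ) (hp : p.Prime)
    (W : Subgroup V) (hW : Inv C W) (hne : W ≠ ⊥)
    (hdich : ∀ c : C, (∀ w ∈ W, c • w = w) ∨ W ⊓ fixSub V c = ⊥)
    (F : Type) [Field F] [Fintype F] [CharP F p] (hF : Fintype.card F = Nat.card W) :
    HasKData p C W := by
  classical
  have hFgt : 1 < Fintype.card F := Fintype.one_lt_card
  have hN0 : Fintype.card F - 1 ≠ 0 := by omega
  haveI : NeZero (Fintype.card F - 1) := ⟨hN0⟩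
  obtain ⟨a, ha⟩ := exists_hom_zmod W hW hne hdich (Fintype.card F - 1) (by rw [hF])
  have hcardU : Nat.card (Multiplicative (ZMod (Fintype.card F - 1))) = Nat.card Fˣ := by
    rw [Nat.card_congr Multiplicative.toAdd, Nat.card_zmod, Nat.card_eq_fintype_card, Fintype.card_units]
  let e : Multiplicative (ZMod (Fintype.card F - 1)) ≃* Fˣ := mulEquivOfCyclicCardEq hcardU
  obtain ⟨ψ₀, hψ₀⟩ : ∃ ψ₀ : AddChar F ℂ, ψ₀ ≠ 1 := by
    obtain ⟨ψ, hψ⟩ := (AddChar.exists_apply_ne_zero (α := F) (a := 1)).mpr one_ne_zero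
    refine ⟨ψ, ?_⟩
    rintro rfl
    exact hψ rfl
  have hprim : ψ₀.IsPrimitive := AddChar.IsPrimitive.of_ne_one hψ₀
  have hpdvd : p ∣ Fintype.card F := by
    obtain ⟨n, hp', hn⟩ := FiniteField.card F p
    rw [hn]
    exact dvd_pow_self p n.ne_zero
  refine ⟨ZMod (Fintype.card F - 1), inferInstance,
    fun b => ψ₀ ((e (Multiplicative.ofAdd b) : Fˣ) : F),
    fun b => ((ZMod.stdAddChar.mulShift b).toMonoidHom.comp a).toHomUnits, ?_, ?_, ?_, ?_⟩
  · intro b
    rw [← AddChar.map_nsmul_eq_pow, nsmul_eq_mul, CharP.cast_eq_zero, zero_mul, AddChar.map_zero_eq_one]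
  · intro t ht c
    have htF : (t : F) ≠ 0 := by
      intro h0
      rw [CharP.cast_eq_zero_iff F p] at h0
      have := Nat.Coprime.eq_one_of_dvd ht.symm h0
      exact hp.ne_one this
    have hψ : ∀ u : F, u ≠ 0 → ∑ y : F, (ψ₀.mulShift (t : F)) (y * u) = 0 := by
      intro u hu
      have h1 := AddChar.sum_mulShift (ψ := ψ₀) ((t : F) * u) hprim
      rw [if_neg (mul_ne_zero htF hu), Nat.cast_zero] at h1
      rw [← h1]
      apply Finset.sum_congr rfl
      intro y _
      rw [AddChar.mulShift_apply]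
      congr 1
      ring
    have hS : ∑ b : ZMod (Fintype.card F - 1), ψ₀ ((e (Multiplicative.ofAdd b) : Fˣ) : F) ^ t *
          (((((ZMod.stdAddChar.mulShift b).toMonoidHom.comp a).toHomUnits c : ℂˣ)) : ℂ) =
        ∑ b : ZMod (Fintype.card F - 1), (ψ₀.mulShift (t : F)) ((e (Multiplicative.ofAdd b) : Fˣ) : F) *
          ZMod.stdAddChar (Multiplicative.toAdd (a c) * b) := by
      apply Finset.sum_congr rfl
      intro b _
      rw [AddChar.mulShift_apply, ← AddChar.map_nsmul_eq_pow, nsmul_eq_mul, MonoidHom.coe_toHomUnits,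
        MonoidHom.comp_apply, AddChar.toMonoidHom_apply, AddChar.mulShift_apply, mul_comm b]
    rw [hS, gauss_normSq (Fintype.card F - 1) e (ψ₀.mulShift (t : F)) hψ (Multiplicative.toAdd (a c))]
    by_cases hac : a c = 1
    · have h0 : Multiplicative.toAdd (a c) = 0 := by rw [hac]; rfl
      rw [if_pos h0, one_mul]
      have htriv := (ha c).mp hac
      have : W ⊓ fixSub V c = W := by
        apply le_antisymm inf_le_left
        intro w hw
        exact ⟨hw, htriv w hw⟩
      rw [this]
    · have h0 : Multiplicative.toAdd (a c) ≠ 0 := by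
        intro h; apply hac
        exact h
      rw [if_neg h0]
      have hnt : ¬ ∀ w ∈ W, c • w = w := fun h => hac ((ha c).mpr h)
      rw [(hdich c).resolve_left hnt, Subgroup.card_bot, hF]
      simp
  · intro c
    have hS : ∑ b : ZMod (Fintype.card F - 1),
          (((((ZMod.stdAddChar.mulShift b).toMonoidHom.comp a).toHomUnits c : ℂˣ)) : ℂ) =
        ∑ b : ZMod (Fintype.card F - 1), ZMod.stdAddChar (N := Fintype.card F - 1) (b * Multiplicative.toAdd (a c)) := by
      apply Finset.sum_congr rfl
      intro b _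
      rw [MonoidHom.coe_toHomUnits, MonoidHom.comp_apply, AddChar.toMonoidHom_apply, AddChar.mulShift_apply]
    rw [hS, AddChar.sum_mulShift _ (ZMod.isPrimitive_stdAddChar _)]
    by_cases hac : a c = 1
    · have h0 : Multiplicative.toAdd (a c) = 0 := by rw [hac]; rfl
      rw [if_pos h0, if_pos ((ha c).mp hac)]
    · have h0 : Multiplicative.toAdd (a c) ≠ 0 := by
        intro h; apply hac
        exact h
      rw [if_neg h0, if_neg (fun h => hac ((ha c).mpr h)), Nat.cast_zero]
  · rw [ZMod.card]
    intro h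
    have h1 : p ∣ 1 := by
      have h2 : Fintype.card F - 1 + 1 = Fintype.card F := by omega
      have := (Nat.dvd_add_right h).mp (h2 ▸ hpdvd)
      exact this
    exact hp.ne_one (Nat.dvd_one.mp h1)

/-- **The irreducible case.** -/
theorem hasKData_irred [Finite C] [Finite V] (p : ℕ) (hp : p.Prime) (hV : ∀ v : V, v ^ p = 1)
    (W : Subgroup V) (hW : Inv C W) (hne : W ≠ ⊥)
    (hirr : ∀ U : Subgroup V, Inv C U → U ≤ W → U = ⊥ ∨ U = W) : HasKData p C W := by
  classical
  haveI : Fact p.Prime := ⟨hp⟩
  have hdich := dichotomy_of_irred W hW hirr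
  haveI : Nontrivial ↥W := (Subgroup.nontrivial_iff_ne_bot W).mpr hne
  have hpg : IsPGroup p ↥W := by
    intro w
    refine ⟨1, ?_⟩
    rw [pow_one]
    apply Subtype.ext
    rw [Subgroup.coe_pow, hV]
    rfl
  obtain ⟨f, hf⟩ := hpg.exists_card_eq
  have hf0 : f ≠ 0 := by
    rintro rfl
    rw [pow_zero] at hf
    have := Finite.one_lt_card (α := ↥W)
    omega
  letI : Fintype (GaloisField p f) := Fintype.ofFinite _
  have hFcard : Fintype.card (GaloisField p f) = Nat.card ↥W := by
    rw [← Nat.card_eq_fintype_card, hf]; exact GaloisField.card p f hf0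
  exact hasKData_irred_aux p hp W hW hne hdich (GaloisField p f) hFcard

end

end Cfsg.Agent.Lib.Helper25.Kn
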