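/-
helper25: Knörr's abelian-centralizer criterion for k(GV) — part D: the Gauss-sum data for the whole
elementary abelian group (Maschke induction over the irreducible constituents).
-/
import Mathlib
import Cfsg.Agent.Lib.Helper25.KnC
import Cfsg.Agent.Lib.Helper20.MaschkeGroup

set_option autoImplicit false
open scoped ComplexConjugate

namespace Cfsg.Agent.Lib.Helper25.Kn

section

variable {C V : Type*} [CommGroup C] [CommGroup V] [MulDistribMulAction C V]

/-- every nontrivial invariant subgroup contains a minimal nontrivial invariant subgroup -/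
theorem exists_irred_le [Finite V] (W : Subgroup V) (hW : Inv C W) (hne : W ≠ ⊥) :
    ∃ U : Subgroup V, Inv C U ∧ U ≤ W ∧ U ≠ ⊥ ∧
      ∀ U' : Subgroup V, Inv C U' → U' ≤ U → U' = ⊥ ∨ U' = U := by
  classical
  have hfin : Set.Finite {U : Subgroup V | Inv C U ∧ U ≤ W ∧ U ≠ ⊥} := Set.toFinite _
  have hnonempty : {U : Subgroup V | Inv C U ∧ U ≤ W ∧ U ≠ ⊥}.Nonempty := ⟨W, hW, le_rfl, hne⟩
  obtain ⟨U, hU, hmin⟩ := hfin.exists_minimal hnonempty
  refine ⟨U, hU.1, hU.2.1, hU.2.2, ?_⟩
  intro U' hU' hle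
  by_cases h : U' = ⊥
  · exact Or.inl h
  · right
    exact le_antisymm hle (hmin ⟨hU', hle.trans hU.2.1, h⟩ hle)

/-- Maschke: an invariant subgroup of an invariant subgroup has an invariant complement in it -/
theorem exists_inv_compl_in [Finite C] [Finite V] (p : ℕ) (hp : p.Prime) (hV : ∀ v : V, v ^ p = 1)
    (hcop : (Nat.card C).Coprime (Nat.card V)) (W U : Subgroup V) (hW : Inv C W) (hU : Inv C U)
    (hUW : U ≤ W) : ∃ W' : Subgroup V, Inv C W' ∧ U ⊓ W' = ⊥ ∧ U ⊔ W' = W := by
  obtain ⟨T0, hT0a, hT0b⟩ := Cfsg.Agent.Lib.Helper20.exists_compl_of_exponent_prime hp hV U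
  obtain ⟨T, hT, hTa, hTb⟩ := Cfsg.Agent.Lib.Helper20.exists_invariant_compl
    (fun c : C => MulDistribMulAction.toMonoidHom V c)
    (by ext v; simp) (by intro a b; ext v; simp [mul_smul]) hcop U T0
    (fun c x hx => hU c x hx) hT0a hT0b
  refine ⟨W ⊓ T, ?_, ?_, ?_⟩
  · intro c w hw
    exact ⟨hW c w hw.1, hT c w hw.2⟩
  · apply le_bot_iff.mp
    rw [← hTa]
    exact inf_le_inf le_rfl inf_le_right
  · apply le_antisymm
    · exact sup_le hUW inf_le_left
    · intro w hw
      have hw' : w ∈ U ⊔ T := by rw [hTb]; trivial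
      obtain ⟨u, hu, t, ht, rfl⟩ := Subgroup.mem_sup.mp hw'
      refine Subgroup.mul_mem_sup hu ⟨?_, ht⟩
      have : t = u⁻¹ * (u * t) := by rw [inv_mul_cancel_left]
      rw [this]
      exact W.mul_mem (W.inv_mem (hUW hu)) hw

/-- **The Gauss-sum data exist for every invariant subgroup.** -/
theorem hasKData_of_inv [Finite C] [Finite V] (p : ℕ) (hp : p.Prime) (hV : ∀ v : V, v ^ p = 1)
    (hcop : (Nat.card C).Coprime (Nat.card V)) :
    ∀ (n : ℕ) (W : Subgroup V), Inv C W → Nat.card W ≤ n → HasKData p C W := by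
  intro n
  induction n with
  | zero =>
    intro W _ hn
    have : 0 < Nat.card W := Nat.card_pos
    omega
  | succ n ih =>
    intro W hW hn
    by_cases hne : W = ⊥
    · rw [hne]; exact hasKData_bot p hp
    obtain ⟨U, hU, hUW, hUne, hirr⟩ := exists_irred_le W hW hne
    obtain ⟨W', hW', hdisj, hsup⟩ := exists_inv_compl_in p hp hV hcop W U hW hU hUW
    have hcard : Nat.card W = Nat.card U * Nat.card W' := by
      rw [← hsup]; exact card_sup_of_disjoint U W' hdisj
    have hUgt : 1 < Nat.card U := by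
      haveI : Nontrivial ↥U := (Subgroup.nontrivial_iff_ne_bot U).mpr hUne
      exact Finite.one_lt_card
    have hW'pos : 0 < Nat.card W' := Nat.card_pos
    have hlt : Nat.card W' ≤ n := by
      have : Nat.card W' * 2 ≤ Nat.card U * Nat.card W' := by
        rw [mul_comm]; exact Nat.mul_le_mul_right _ hUgt
      omega
    have d1 := hasKData_irred p hp hV U hU hUne hirr
    have d2 := ih W' hW' hlt
    rw [← hsup]
    exact hasKData_sup p U W' hdisj hU hW' d1 d2 hp

theorem hasKData_top [Finite C] [Finite V] (p : ℕ) (hp : p.Prime) (hV : ∀ v : V, v ^ p = 1)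
    (hcop : (Nat.card C).Coprime (Nat.card V)) : HasKData p C (⊤ : Subgroup V) :=
  hasKData_of_inv p hp hV hcop _ ⊤ (fun _ _ _ => trivial) le_rfl

end

end Cfsg.Agent.Lib.Helper25.Kn
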