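/-
helper25: Knörr's abelian-centralizer criterion for k(GV) — part E: two auxiliary lemmas
(weighted sums of `p`-th roots of unity; the fibres of the family of linear characters).
-/
import Mathlib
import Cfsg.Agent.Lib.Helper25.KnB
import Cfsg.Agent.Lib.Helper24.GaloisNorm
import Cfsg.Agent.Lib.Lead.KGVRegular
import Cfsg.Agent.Lib.Helper10.LinChar

set_option autoImplicit false
open scoped ComplexConjugate

namespace Cfsg.Agent.Lib.Helper25.Kn

/-- a weighted sum of `p`-th roots of unity with total weight prime to `p`: the Galois-conjugate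
inequality -/
theorem weighted_roots_nonneg {ι : Type*} [Fintype ι] (p : ℕ) [Fact p.Prime] [NeZero p] (μ : ι → ℂ)
    (w : ι → ℕ) (hμ : ∀ i, μ i ^ p = 1) (hw : ¬ p ∣ ∑ i, w i) :
    0 ≤ ∑ k : (ZMod p)ˣ, (‖∑ i, (w i : ℂ) * μ i ^ (k : ZMod p).val‖ ^ 2 - 1) := by
  classical
  let J := Σ i, Fin (w i)
  let μ' : J → ℂ := fun j => μ j.1
  have hμ' : ∀ j, μ' j ^ p = 1 := fun j => hμ j.1
  have hcard : Fintype.card J = ∑ i, w i := by
    simp only [J, Fintype.card_sigma, Fintype.card_fin]
  have hsum : ∀ n : ℕ, ∑ j, μ' j ^ n = ∑ i, (w i : ℂ) * μ i ^ n := by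
    intro n
    simp only [J, μ']
    rw [Fintype.sum_sigma]
    apply Finset.sum_congr rfl
    intro i _
    change ∑ _y : Fin (w i), μ i ^ n = _
    rw [Finset.sum_const, Finset.card_univ, Fintype.card_fin, nsmul_eq_mul]
  have h1 : ∑ j, μ' j ≠ 0 := by
    apply Cfsg.Agent.CharLib.sum_ppow_roots_ne_zero p 1 μ'
    · intro j; rw [pow_one]; exact hμ' j
    · rw [hcard]; exact hw
  obtain ⟨m, hm0, hm⟩ := Cfsg.Agent.Lib.Helper24.prod_powersums_int p μ' hμ' h1
  have := Cfsg.Agent.Lib.Helper24.sum_normSq_sub_one_nonneg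
    (fun k : (ZMod p)ˣ => ∑ j, μ' j ^ (k : ZMod p).val) m hm0 hm
  simp only [hsum] at this
  exact this

section

variable {C V : Type*} [CommGroup C] [CommGroup V] [MulDistribMulAction C V]

/-- each linear character occurs `|B| / |C|` times in the family `lam` -/
theorem card_fiber [Finite C] (B : Type) [Fintype B] (lam : B → (C →* ℂˣ))
    (hs : ∀ c : C, ∑ b, ((lam b c : ℂˣ) : ℂ) =
      @ite _ (∀ w ∈ (⊤ : Subgroup V), c • w = w) (Classical.propDecidable _) (Fintype.card B : ℂ) 0)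
    (hfaith : ∀ c : C, (∀ w : V, c • w = w) → c = 1) (φ : C →* ℂˣ) :
    Nat.card C * Nat.card {b : B // lam b = φ} = Fintype.card B := by
  classical
  have _ := Fintype.ofFinite C
  have h1 : ∑ b, ∑ c : C, ((lam b c : ℂˣ) : ℂ) * conj ((φ c : ℂˣ) : ℂ) =
      (Nat.card C : ℂ) * ((Finset.univ.filter (fun b => lam b = φ)).card : ℂ) := by
    rw [Finset.sum_congr rfl (fun b _ => Cfsg.Agent.Lib.Helper10.sum_linChar_mul_conj (lam b) φ)]
    rw [Finset.sum_ite, Finset.sum_const, Finset.sum_const_zero, add_zero, nsmul_eq_mul, mul_comm]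
  have h2 : ∑ b, ∑ c : C, ((lam b c : ℂˣ) : ℂ) * conj ((φ c : ℂˣ) : ℂ) = (Fintype.card B : ℂ) := by
    rw [Finset.sum_comm]
    have h3 : ∀ c : C, ∑ b, ((lam b c : ℂˣ) : ℂ) * conj ((φ c : ℂˣ) : ℂ) =
        (if c = 1 then (Fintype.card B : ℂ) else 0) := by
      intro c
      rw [← Finset.sum_mul, hs c]
      by_cases hc : c = 1
      · subst hc
        rw [if_pos rfl, if_pos (fun w _ => one_smul C w)]
        simp
      · rw [if_neg hc, if_neg, zero_mul]
        intro h
        exact hc (hfaith c (fun w => h w trivial))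
    rw [Finset.sum_congr rfl (fun c _ => h3 c), Finset.sum_ite_eq' Finset.univ (1 : C)]
    simp
  have h4 : ((Nat.card C * (Finset.univ.filter (fun b => lam b = φ)).card : ℕ) : ℂ) =
      ((Fintype.card B : ℕ) : ℂ) := by
    push_cast
    rw [← h1, h2]
  rw [Nat.card_eq_fintype_card (α := {b : B // lam b = φ}), Fintype.card_subtype]
  exact_mod_cast h4

end

end Cfsg.Agent.Lib.Helper25.Kn
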