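/-
helper25: Knörr's abelian-centralizer criterion for k(GV) — part F: restriction of a character to an
abelian subgroup as a sum of linear characters.
-/
import Mathlib
import Cfsg.Agent.Lib.Helper25.KnE
import Cfsg.Agent.Lib.Lead.CharMore
import Cfsg.Agent.Lib.Helper6.CharNorm

set_option autoImplicit false
open scoped ComplexConjugate

namespace Cfsg.Agent.Lib.Helper25.Kn

open Cfsg Cfsg.Agent.CharLib

universe u

/-- the restriction of a character to an abelian subgroup is a sum of linear characters -/
theorem exists_linear_decomp {X : Type u} [Group X] [Finite X] (A : Subgroup X)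
    (hA : ∀ a b : ↥A, a * b = b * a) {χ : X → ℂ} (hχ : IsCharacter X χ) :
    ∃ (K : Type u) (_ : Fintype K) (m : K → ℕ) (ψ : K → (↥A →* ℂˣ)),
      ∀ a : ↥A, χ (a : X) = ∑ k, (m k : ℂ) * ((ψ k a : ℂˣ) : ℂ) := by
  classical
  have hres : IsCharacter ↥A (fun a : ↥A => χ (a : X)) := IsCharacter.restrict hχ A
  obtain ⟨m, hm⟩ := IsCharacter.exists_decomp hres
  letI := fintypeIrr ↥A
  rw [finsum_eq_sum_of_fintype] at hm
  have h1 : ∀ k : IrrCharacter ↥A, (k : ↥A → ℂ) 1 = 1 := (comm_iff_forall_irr_apply_one (G := ↥A)).mp hA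
  refine ⟨IrrCharacter ↥A, inferInstance, m,
    fun k => (Cfsg.Agent.Lib.Helper6.linCharHom (IsIrrCharacter.isCharacter k.2) (h1 k)).toHomUnits, ?_⟩
  intro a
  have := congrFun hm a
  simp only [Finset.sum_apply, Pi.smul_apply, nsmul_eq_mul] at this
  rw [this]
  apply Finset.sum_congr rfl
  intro k _
  rw [MonoidHom.coe_toHomUnits]
  rfl

/-- a subgroup generated by pairwise commuting elements is commutative -/
theorem closure_comm {X : Type*} [Group X] (S : Set X) (hS : ∀ x ∈ S, ∀ y ∈ S, x * y = y * x)
    (a b : ↥(Subgroup.closure S)) : a * b = b * a := by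
  have h0 : Subgroup.closure S ≤ Subgroup.centralizer S := by
    rw [Subgroup.closure_le]
    intro x hx
    rw [SetLike.mem_coe, Subgroup.mem_centralizer_iff]
    intro y hy
    exact hS y hy x hx
  have h1 : Subgroup.closure S ≤ Subgroup.centralizer (Subgroup.closure S : Set X) := by
    rw [Subgroup.closure_le]
    intro x hx
    rw [SetLike.mem_coe, Subgroup.mem_centralizer_iff]
    intro y hy
    exact ((Subgroup.mem_centralizer_iff.mp (h0 hy)) x hx).symm
  apply Subtype.ext
  have := (Subgroup.mem_centralizer_iff.mp (h1 a.2)) b b.2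
  exact this.symm

end Cfsg.Agent.Lib.Helper25.Kn
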