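/-
helper25: Knörr's abelian-centralizer criterion for k(GV) — part G: the character-theoretic core.
-/
import Mathlib
import Cfsg.Agent.Lib.Helper25.KnF
import Cfsg.Agent.Lib.Lead.KnorrEstimate

set_option autoImplicit false
open scoped ComplexConjugate

namespace Cfsg.Agent.Lib.Helper25.Kn

open Cfsg Cfsg.Agent.CharLib

universe u

theorem classIndicator_of_isConj {X : Type u} [Group X] {g h : X} (hc : IsConj g h) :
    classIndicator h g = 1 := by
  classical
  simp only [classIndicator]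
  rw [if_pos hc]

theorem classIndicator_of_not_isConj {X : Type u} [Group X] {g h : X} (hc : ¬ IsConj g h) :
    classIndicator h g = 0 := by
  classical
  simp only [classIndicator]
  rw [if_neg hc]

section core

variable {X : Type u} [Group X] (v : X) (C : Subgroup X) (B : Type) [Fintype B] (r : B → ℂ)
  (lam : B → (↥C →* ℂˣ))

/-- the twisted Gauss sum -/
noncomputable def del (t : ℕ) (c : ↥C) : ℂ := ∑ b, r b ^ t * ((lam b c : ℂˣ) : ℂ)

/-- the (unnormalized) multiplicity function -/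
noncomputable def nn [Fintype ↥C] (χ : X → ℂ) (t : ℕ) : ℂ :=
  ∑ c : ↥C, χ (v ^ t * (c : X)) * conj (del C B r lam t c)

theorem sum_irr_nn [Fintype X] [Fintype (IrrCharacter X)] [Fintype ↥C] (V : Subgroup X) (f : ↥C → ℕ) (t : ℕ)
    (hnorm : ∀ c : ↥C, del C B r lam t c * conj (del C B r lam t c) * (f c : ℂ) = (Nat.card V : ℂ))
    (H1 : ∀ c c' : ↥C, IsConj (v ^ t * (c : X)) (v ^ t * (c' : X)) → c = c')
    (H2 : ∀ c : ↥C, Nat.card (Subgroup.centralizer ({v ^ t * (c : X)} : Set X)) = f c * Nat.card C) :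
    ∑ χ : IrrCharacter X, nn v C B r lam (χ : X → ℂ) t * conj (nn v C B r lam (χ : X → ℂ) t) =
      (Nat.card C : ℂ) ^ 2 * (Nat.card V : ℂ) := by
  classical
  have hcol : ∀ c c' : ↥C, ∑ χ : IrrCharacter X,
      (χ : X → ℂ) (v ^ t * (c : X)) * conj ((χ : X → ℂ) (v ^ t * (c' : X))) =
        if c = c' then ((f c : ℂ) * (Nat.card C : ℂ)) else 0 := by
    intro c c'
    rw [sum_irr_mul_conj]
    by_cases h : c = c'
    · subst h
      rw [if_pos rfl, classIndicator_of_isConj (IsConj.refl _), one_mul, H2 c]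
      push_cast
      rfl
    · rw [if_neg h, classIndicator_of_not_isConj (fun hc => h (H1 c c' hc)), zero_mul]
  have hexp : ∀ χ : IrrCharacter X, nn v C B r lam (χ : X → ℂ) t * conj (nn v C B r lam (χ : X → ℂ) t) =
      ∑ c : ↥C, ∑ c' : ↥C, (conj (del C B r lam t c) * del C B r lam t c') *
        ((χ : X → ℂ) (v ^ t * (c : X)) * conj ((χ : X → ℂ) (v ^ t * (c' : X)))) := by
    intro χ
    unfold nn
    rw [map_sum, Finset.sum_mul_sum]
    apply Finset.sum_congr rfl; intro c _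
    apply Finset.sum_congr rfl; intro c' _
    rw [map_mul (starRingEnd ℂ), Complex.conj_conj]
    ring
  simp only [hexp]
  rw [Finset.sum_comm]
  have h2 : ∀ c : ↥C, ∑ χ : IrrCharacter X, ∑ c' : ↥C, (conj (del C B r lam t c) * del C B r lam t c') *
        ((χ : X → ℂ) (v ^ t * (c : X)) * conj ((χ : X → ℂ) (v ^ t * (c' : X)))) =
      (Nat.card V : ℂ) * (Nat.card C : ℂ) := by
    intro c
    rw [Finset.sum_comm]
    simp only [← Finset.mul_sum, hcol, mul_ite, mul_zero]
    rw [Finset.sum_ite_eq Finset.univ c, if_pos (Finset.mem_univ _), ← hnorm c]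
    ring
  rw [Finset.sum_congr rfl (fun c _ => h2 c), Finset.sum_const, Finset.card_univ, nsmul_eq_mul,
    ← Nat.card_eq_fintype_card]
  ring

theorem nn_expand [Fintype ↥C] (A : Subgroup X) (hvA : v ∈ A) (hCA : C ≤ A) (χ : X → ℂ)
    (K : Type u) [Fintype K] (m : K → ℕ) (ψ : K → (↥A →* ℂˣ))
    (hdec : ∀ a : ↥A, χ (a : X) = ∑ k, (m k : ℂ) * ((ψ k a : ℂˣ) : ℂ)) (t : ℕ)
    [DecidableEq (↥C →* ℂˣ)] :
    nn v C B r lam χ t = (Nat.card C : ℂ) * ∑ i : K × B,
      ((if (ψ i.1).comp (Subgroup.inclusion hCA) = lam i.2 then m i.1 else 0 : ℕ) : ℂ) *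
        (((ψ i.1 ⟨v, hvA⟩ : ℂˣ) : ℂ) * conj (r i.2)) ^ t := by
  have hy : ∀ c : ↥C, χ (v ^ t * (c : X)) = ∑ k, (m k : ℂ) * (((ψ k ⟨v, hvA⟩ : ℂˣ) : ℂ) ^ t *
      (((ψ k).comp (Subgroup.inclusion hCA) c : ℂˣ) : ℂ)) := by
    intro c
    have h1 : v ^ t * (c : X) = (((⟨v, hvA⟩ : ↥A) ^ t * Subgroup.inclusion hCA c : ↥A) : X) := by
      simp
    rw [h1, hdec]
    apply Finset.sum_congr rfl; intro k _
    rw [map_mul, map_pow, Units.val_mul, Units.val_pow_eq_pow_val]
    rfl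
  unfold nn
  have hterm : ∀ c : ↥C, χ (v ^ t * (c : X)) * conj (del C B r lam t c) =
      ∑ k, ∑ b, ((m k : ℂ) * ((((ψ k ⟨v, hvA⟩ : ℂˣ) : ℂ) * conj (r b)) ^ t)) *
        ((((ψ k).comp (Subgroup.inclusion hCA) c : ℂˣ) : ℂ) * conj ((lam b c : ℂˣ) : ℂ)) := by
    intro c
    rw [hy c]; unfold del
    rw [map_sum, Finset.sum_mul_sum]
    apply Finset.sum_congr rfl; intro k _
    apply Finset.sum_congr rfl; intro b _
    rw [map_mul (starRingEnd ℂ), map_pow, mul_pow]
    ring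
  rw [Finset.sum_congr rfl (fun c _ => hterm c), Finset.sum_comm]
  rw [Fintype.sum_prod_type, Finset.mul_sum]
  apply Finset.sum_congr rfl; intro k _
  rw [Finset.sum_comm, Finset.mul_sum]
  apply Finset.sum_congr rfl; intro b _
  rw [← Finset.mul_sum, Cfsg.Agent.Lib.Helper10.sum_linChar_mul_conj]
  split_ifs with h
  · push_cast; ring
  · simp

theorem weight_total {A : Subgroup X} (hCA : C ≤ A)
    (K : Type u) [Fintype K] (m : K → ℕ) (ψ : K → (↥A →* ℂˣ)) [DecidableEq (↥C →* ℂˣ)]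
    (hfiber : ∀ φ : ↥C →* ℂˣ, Nat.card C * Nat.card {b : B // lam b = φ} = Fintype.card B) :
    Nat.card C * ∑ i : K × B, (if (ψ i.1).comp (Subgroup.inclusion hCA) = lam i.2 then m i.1 else 0) =
      Fintype.card B * ∑ k, m k := by
  rw [Fintype.sum_prod_type, Finset.mul_sum, Finset.mul_sum]
  apply Finset.sum_congr rfl; intro k _
  have h1 : ∑ b : B, (if (ψ k).comp (Subgroup.inclusion hCA) = lam b then m k else 0) =
      Nat.card {b : B // lam b = (ψ k).comp (Subgroup.inclusion hCA)} * m k := by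
    rw [Finset.sum_ite, Finset.sum_const, Finset.sum_const_zero, add_zero, smul_eq_mul,
      Nat.card_eq_fintype_card, Fintype.card_subtype]
    congr 2
    apply Finset.filter_congr
    intro b _
    exact eq_comm
  rw [h1, ← mul_assoc, hfiber]

end core

/-- **The character-theoretic core of Knörr's criterion.** -/
theorem knorr_core {X : Type u} [Group X] [Finite X] (p : ℕ) [Fact p.Prime] (V : Subgroup X) [V.Normal]
    (hVab : ∀ a ∈ V, ∀ b ∈ V, a * b = b * a) (hidx : ¬ p ∣ V.index)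
    (v : X) (hvp : v ^ p = 1) (C : Subgroup X) (hCab : ∀ a ∈ C, ∀ b ∈ C, a * b = b * a)
    (hCv : ∀ c ∈ C, c * v = v * c)
    (B : Type) [Fintype B] (r : B → ℂ) (lam : B → (↥C →* ℂˣ)) (hr : ∀ b, r b ^ p = 1)
    (f : ↥C → ℕ)
    (hnorm : ∀ t : ℕ, t.Coprime p → ∀ c : ↥C,
       del C B r lam t c * conj (del C B r lam t c) * (f c : ℂ) = (Nat.card V : ℂ))
    (hfiber : ∀ φ : ↥C →* ℂˣ, Nat.card C * Nat.card {b : B // lam b = φ} = Fintype.card B)
    (hB : ¬ p ∣ Fintype.card B)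
    (H1 : ∀ t : ℕ, t.Coprime p → ∀ c c' : ↥C, IsConj (v ^ t * (c : X)) (v ^ t * (c' : X)) → c = c')
    (H2 : ∀ t : ℕ, t.Coprime p → ∀ c : ↥C,
       Nat.card (Subgroup.centralizer ({v ^ t * (c : X)} : Set X)) = f c * Nat.card C) :
    Nat.card (ConjClasses X) ≤ Nat.card V := by
  classical
  have _ := Fintype.ofFinite X
  letI := fintypeIrr X
  have hp : p.Prime := Fact.out
  haveI : NeZero p := ⟨hp.ne_zero⟩
  have _ := Fintype.ofFinite ↥C
  set A : Subgroup X := Subgroup.closure (insert v (C : Set X)) with hA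
  have hvA : v ∈ A := Subgroup.subset_closure (Set.mem_insert _ _)
  have hCA : C ≤ A := fun c hc => Subgroup.subset_closure (Set.mem_insert_of_mem _ hc)
  have hAab : ∀ a b : ↥A, a * b = b * a := by
    apply closure_comm
    intro x hx y hy
    rcases hx with rfl | hx <;> rcases hy with rfl | hy
    · rfl
    · exact (hCv y hy).symm
    · exact hCv x hx
    · exact hCab x hx y hy
  have hCpos : (Nat.card C : ℂ) ≠ 0 := by exact_mod_cast (Nat.card_pos (α := ↥C)).ne'
  -- per character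
  have hterm : ∀ χ : IrrCharacter X, 0 ≤ ∑ k : (ZMod p)ˣ,
      (‖(Nat.card C : ℂ)⁻¹ * nn v C B r lam (χ : X → ℂ) (k : ZMod p).val‖ ^ 2 - 1) := by
    intro χ
    obtain ⟨K, _, m, ψ, hdec⟩ := exists_linear_decomp A hAab (IsIrrCharacter.isCharacter χ.2)
    have hexp := fun t => nn_expand v C B r lam A hvA hCA (χ : X → ℂ) K m ψ hdec t
    set w : K × B → ℕ :=
      fun i => if (ψ i.1).comp (Subgroup.inclusion hCA) = lam i.2 then m i.1 else 0 with hw
    set μ : K × B → ℂ := fun i => ((ψ i.1 ⟨v, hvA⟩ : ℂˣ) : ℂ) * conj (r i.2) with hμ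
    have hμp : ∀ i, μ i ^ p = 1 := by
      intro i
      simp only [hμ]
      rw [mul_pow, ← map_pow, hr, map_one, mul_one, ← Units.val_pow_eq_pow_val, ← map_pow]
      have : (⟨v, hvA⟩ : ↥A) ^ p = 1 := Subtype.ext hvp
      rw [this, map_one, Units.val_one]
    have hdeg : ¬ p ∣ ∑ k, m k := by
      obtain ⟨n, ρ, hirr, hρ⟩ := χ.2
      have hdvd : Module.finrank ℂ (Fin n → ℂ) ∣ V.index := by
        have := hirr
        exact Cfsg.Agent.Lib.Helper2.ito ρ V hVab
      have h1 : (χ : X → ℂ) 1 = (n : ℂ) := by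
        rw [← hρ, Representation.char_one, Module.finrank_fin_fun]
      have h2 := hdec 1
      simp only [Subgroup.coe_one, map_one, Units.val_one, mul_one] at h2
      rw [h1] at h2
      have h3 : n = ∑ k, m k := by exact_mod_cast h2
      rw [← h3]
      rw [Module.finrank_fin_fun] at hdvd
      exact fun h => hidx (h.trans hdvd)
    have hwtot : ¬ p ∣ ∑ i, w i := by
      have h1 := weight_total C B lam hCA K m ψ hfiber
      intro hd
      have h2 : p ∣ Fintype.card B * ∑ k, m k := by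
        rw [← h1]; exact Dvd.dvd.mul_left hd _
      rcases (Nat.Prime.dvd_mul hp).mp h2 with h | h
      · exact hB h
      · exact hdeg h
    have := weighted_roots_nonneg p μ w hμp hwtot
    have hS : ∀ t : ℕ, (Nat.card C : ℂ)⁻¹ * nn v C B r lam (χ : X → ℂ) t = ∑ i, (w i : ℂ) * μ i ^ t := by
      intro t
      rw [hexp t, ← mul_assoc, inv_mul_cancel₀ hCpos, one_mul]
    simp only [hS]
    exact this
  -- sum over characters
  have hsum : ∀ t : ℕ, t.Coprime p → ∑ χ : IrrCharacter X,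
      ‖(Nat.card C : ℂ)⁻¹ * nn v C B r lam (χ : X → ℂ) t‖ ^ 2 = (Nat.card V : ℝ) := by
    intro t ht
    have h1 := sum_irr_nn v C B r lam V f t (hnorm t ht) (H1 t ht) (H2 t ht)
    have h2 : ∑ χ : IrrCharacter X, (((Nat.card C : ℂ)⁻¹ * nn v C B r lam (χ : X → ℂ) t) *
        conj ((Nat.card C : ℂ)⁻¹ * nn v C B r lam (χ : X → ℂ) t)) = (Nat.card V : ℂ) := by
      have : ∀ χ : IrrCharacter X, (((Nat.card C : ℂ)⁻¹ * nn v C B r lam (χ : X → ℂ) t) *
          conj ((Nat.card C : ℂ)⁻¹ * nn v C B r lam (χ : X → ℂ) t)) =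
          ((Nat.card C : ℂ)⁻¹) ^ 2 *
            (nn v C B r lam (χ : X → ℂ) t * conj (nn v C B r lam (χ : X → ℂ) t)) := by
        intro χ
        rw [map_mul (starRingEnd ℂ), map_inv₀, Complex.conj_natCast]
        ring
      rw [Finset.sum_congr rfl (fun χ _ => this χ), ← Finset.mul_sum, h1]
      field_simp
    simp only [Complex.mul_conj'] at h2
    exact_mod_cast h2
  -- conclusion
  have htot : 0 ≤ ∑ χ : IrrCharacter X, ∑ k : (ZMod p)ˣ,
      (‖(Nat.card C : ℂ)⁻¹ * nn v C B r lam (χ : X → ℂ) (k : ZMod p).val‖ ^ 2 - 1) :=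
    Finset.sum_nonneg (fun χ _ => hterm χ)
  rw [Finset.sum_comm] at htot
  have hk : ∀ k : (ZMod p)ˣ, ∑ χ : IrrCharacter X,
      (‖(Nat.card C : ℂ)⁻¹ * nn v C B r lam (χ : X → ℂ) (k : ZMod p).val‖ ^ 2 - 1) =
      (Nat.card V : ℝ) - (Nat.card (IrrCharacter X) : ℝ) := by
    intro k
    rw [Finset.sum_sub_distrib, hsum _ (ZMod.val_coe_unit_coprime k)]
    simp [Finset.sum_const, Nat.card_eq_fintype_card]
  rw [Finset.sum_congr rfl (fun k _ => hk k), Finset.sum_const, nsmul_eq_mul] at htot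
  have hφ : (0 : ℝ) < ((Finset.univ : Finset (ZMod p)ˣ).card : ℝ) := by
    exact_mod_cast Finset.card_pos.mpr ⟨1, Finset.mem_univ _⟩
  have h3 : (0 : ℝ) ≤ (Nat.card V : ℝ) - (Nat.card (IrrCharacter X) : ℝ) := by
    by_contra hneg
    push_neg at hneg
    have := mul_neg_of_pos_of_neg hφ hneg
    linarith
  rw [card_irrCharacter] at h3
  have h4 : (Nat.card (ConjClasses X) : ℝ) ≤ (Nat.card V : ℝ) := by linarith
  exact_mod_cast h4

end Cfsg.Agent.Lib.Helper25.Kn
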