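/-
helper25: Knörr's abelian-centralizer criterion for k(GV) — part H: the group-theoretic facts
(conjugacy and centralizers of the elements `v ^ t * c`).
-/
import Mathlib

set_option autoImplicit false

namespace Cfsg.Agent.Lib.Helper25.Kn

section grp

variable {X : Type*} [Group X]

theorem exists_pow_pow_eq {p : ℕ} (hp : p.Prime) {v : X} (hv : v ^ p = 1) {k : ℕ}
    (hk : k.Coprime p) : ∃ s : ℕ, (v ^ k) ^ s = v := by
  obtain ⟨s, -, hs⟩ := Nat.exists_mul_mod_eq_one_of_coprime hk hp.one_lt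
  refine ⟨s, ?_⟩
  rw [← pow_mul, ← Nat.div_add_mod (k * s) p, hs, pow_add, pow_mul, hv, one_pow, one_mul, pow_one]

theorem commute_of_commute_mul {p : ℕ} (hp : p.Prime) {v c x : X} (hv : v ^ p = 1)
    (hcv : Commute c v) {m t : ℕ} (hcm : c ^ m = 1) (htm : (t * m).Coprime p)
    (hx : Commute x (v ^ t * c)) : Commute x v := by
  have h1 : (v ^ t * c) ^ m = v ^ (t * m) := by
    rw [(hcv.symm.pow_left t).mul_pow, hcm, mul_one, ← pow_mul]
  obtain ⟨s, hs⟩ := exists_pow_pow_eq hp hv htm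
  have h2 : Commute x ((v ^ t * c) ^ m) := hx.pow_right m
  rw [h1] at h2
  have h3 := h2.pow_right s
  rwa [hs] at h3

variable [Finite X] (V G : Subgroup X) [V.Normal]

theorem pow_card_eq_one_of_mem {c : X} (hc : c ∈ G) : c ^ Nat.card G = 1 := by
  have : (⟨c, hc⟩ : ↥G) ^ Nat.card G = 1 := pow_card_eq_one'
  exact congrArg Subtype.val this

theorem coprime_mul_card (hGV : Subgroup.IsComplement' V G) {p : ℕ} (hp : p.Prime)
    (hidx : ¬ p ∣ V.index) {t : ℕ} (ht : t.Coprime p) : (t * Nat.card G).Coprime p := by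
  apply Nat.Coprime.mul_left ht
  rw [← hGV.symm.index_eq_card]
  exact ((Nat.Prime.coprime_iff_not_dvd hp).mpr hidx).symm

/-- the `G`-part of an element centralizing `v` centralizes `v` -/
theorem exists_decomp_centralizer (hGV : Subgroup.IsComplement' V G)
    (hVab : ∀ a ∈ V, ∀ b ∈ V, a * b = b * a) {v : X} (hv : v ∈ V) {x : X} (hx : Commute x v) :
    ∃ u ∈ V, ∃ g ∈ G ⊓ Subgroup.centralizer ({v} : Set X), x = u * g := by
  obtain ⟨⟨u, g⟩, hug⟩ := hGV.2 x
  simp only at hug
  refine ⟨u, u.2, g, ⟨g.2, ?_⟩, hug.symm⟩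
  change (g : X) ∈ Subgroup.centralizer ({v} : Set X)
  rw [Subgroup.mem_centralizer_singleton_iff]
  have hg : (g : X) = (u : X)⁻¹ * x := by rw [← hug]; group
  have hu : Commute (u : X) v := hVab u u.2 v hv
  rw [hg]
  exact (hu.inv_left.mul_left hx).eq

theorem eq_of_isConj (hGV : Subgroup.IsComplement' V G)
    (hVab : ∀ a ∈ V, ∀ b ∈ V, a * b = b * a) {p : ℕ} (hp : p.Prime) (hidx : ¬ p ∣ V.index)
    {v : X} (hv : v ∈ V) (hvp : v ^ p = 1)
    (hab : ∀ a ∈ G ⊓ Subgroup.centralizer ({v} : Set X), ∀ b ∈ G ⊓ Subgroup.centralizer ({v} : Set X),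
      a * b = b * a)
    {t : ℕ} (ht : t.Coprime p) {c c' : X} (hc : c ∈ G ⊓ Subgroup.centralizer ({v} : Set X))
    (hc' : c' ∈ G ⊓ Subgroup.centralizer ({v} : Set X))
    (hconj : IsConj (v ^ t * c) (v ^ t * c')) : c = c' := by
  obtain ⟨x, hx⟩ := isConj_iff.mp hconj
  have hcv : Commute c v := Subgroup.mem_centralizer_singleton_iff.mp hc.2
  have hcv' : Commute c' v := Subgroup.mem_centralizer_singleton_iff.mp hc'.2
  have hcop := coprime_mul_card V G hGV hp hidx ht
  -- x commutes with v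
  have hxv : Commute x v := by
    have h1 : (v ^ t * c) ^ Nat.card G = v ^ (t * Nat.card G) := by
      rw [(hcv.symm.pow_left t).mul_pow, pow_card_eq_one_of_mem G hc.1, mul_one, ← pow_mul]
    have h1' : (v ^ t * c') ^ Nat.card G = v ^ (t * Nat.card G) := by
      rw [(hcv'.symm.pow_left t).mul_pow, pow_card_eq_one_of_mem G hc'.1, mul_one, ← pow_mul]
    have h2 : x * v ^ (t * Nat.card G) * x⁻¹ = v ^ (t * Nat.card G) := by
      calc x * v ^ (t * Nat.card G) * x⁻¹ = x * (v ^ t * c) ^ Nat.card G * x⁻¹ := by rw [h1]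
        _ = (x * (v ^ t * c) * x⁻¹) ^ Nat.card G := by rw [conj_pow]
        _ = v ^ (t * Nat.card G) := by rw [hx, h1']
    have h3 : Commute x (v ^ (t * Nat.card G)) := by
      have : x * v ^ (t * Nat.card G) = v ^ (t * Nat.card G) * x := by
        calc x * v ^ (t * Nat.card G) = (x * v ^ (t * Nat.card G) * x⁻¹) * x := by group
          _ = v ^ (t * Nat.card G) * x := by rw [h2]
      exact this
    obtain ⟨s, hs⟩ := exists_pow_pow_eq hp hvp hcop
    have h4 := h3.pow_right s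
    rwa [hs] at h4
  -- x c x⁻¹ = c'
  have hxc : x * c * x⁻¹ = c' := by
    have h1 : x * (v ^ t * c) * x⁻¹ = v ^ t * (x * c * x⁻¹) := by
      have := (hxv.pow_right t).eq
      calc x * (v ^ t * c) * x⁻¹ = (x * v ^ t) * c * x⁻¹ := by group
        _ = (v ^ t * x) * c * x⁻¹ := by rw [this]
        _ = v ^ t * (x * c * x⁻¹) := by group
    rw [h1] at hx
    exact mul_left_cancel hx
  obtain ⟨u, hu, g, hg, rfl⟩ := exists_decomp_centralizer V G hGV hVab hv hxv
  have hgc : g * c = c * g := hab g hg c hc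
  have h5 : c' = u * c * u⁻¹ := by
    rw [← hxc]
    calc u * g * c * (u * g)⁻¹ = u * (g * c) * g⁻¹ * u⁻¹ := by group
      _ = u * (c * g) * g⁻¹ * u⁻¹ := by rw [hgc]
      _ = u * c * u⁻¹ := by group
  have h6 : c' * c⁻¹ ∈ V := by
    have : c' * c⁻¹ = u * (c * u⁻¹ * c⁻¹) := by rw [h5]; group
    rw [this]
    exact V.mul_mem hu (Subgroup.Normal.conj_mem inferInstance _ (V.inv_mem hu) c)
  have h7 : c' * c⁻¹ ∈ G := G.mul_mem hc'.1 (G.inv_mem hc.1)
  have h8 : c' * c⁻¹ ∈ V ⊓ G := ⟨h6, h7⟩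
  rw [hGV.disjoint.eq_bot, Subgroup.mem_bot] at h8
  exact (mul_inv_eq_one.mp h8).symm

theorem card_centralizer_mul (hGV : Subgroup.IsComplement' V G)
    (hVab : ∀ a ∈ V, ∀ b ∈ V, a * b = b * a) {p : ℕ} (hp : p.Prime) (hidx : ¬ p ∣ V.index)
    {v : X} (hv : v ∈ V) (hvp : v ^ p = 1)
    (hab : ∀ a ∈ G ⊓ Subgroup.centralizer ({v} : Set X), ∀ b ∈ G ⊓ Subgroup.centralizer ({v} : Set X),
      a * b = b * a)
    {t : ℕ} (ht : t.Coprime p) {c : X} (hc : c ∈ G ⊓ Subgroup.centralizer ({v} : Set X)) :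
    Nat.card (Subgroup.centralizer ({v ^ t * c} : Set X)) =
      Nat.card ↥(V ⊓ Subgroup.centralizer ({c} : Set X)) *
        Nat.card ↥(G ⊓ Subgroup.centralizer ({v} : Set X)) := by
  have hcv : Commute c v := Subgroup.mem_centralizer_singleton_iff.mp hc.2
  have hcop := coprime_mul_card V G hGV hp hidx ht
  have hwd : ∀ (u : ↥(V ⊓ Subgroup.centralizer ({c} : Set X)))
      (g : ↥(G ⊓ Subgroup.centralizer ({v} : Set X))),
      (u : X) * (g : X) ∈ Subgroup.centralizer ({v ^ t * c} : Set X) := by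
    intro u g
    rw [Subgroup.mem_centralizer_singleton_iff]
    have hu1 : Commute (u : X) v := hVab u u.2.1 v hv
    have hu2 : Commute (u : X) c := Subgroup.mem_centralizer_singleton_iff.mp u.2.2
    have hg1 : Commute (g : X) v := Subgroup.mem_centralizer_singleton_iff.mp g.2.2
    have hg2 : Commute (g : X) c := hab g g.2 c hc
    exact (((hu1.pow_right t).mul_right hu2).mul_left ((hg1.pow_right t).mul_right hg2)).eq
  let f : ↥(V ⊓ Subgroup.centralizer ({c} : Set X)) × ↥(G ⊓ Subgroup.centralizer ({v} : Set X)) →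
      ↥(Subgroup.centralizer ({v ^ t * c} : Set X)) := fun y => ⟨(y.1 : X) * (y.2 : X), hwd y.1 y.2⟩
  have hf : Function.Bijective f := by
    constructor
    · intro y z hyz
      have h1 : (y.1 : X) * (y.2 : X) = (z.1 : X) * (z.2 : X) := congrArg Subtype.val hyz
      have h2 := hGV.1 (a₁ := ((⟨y.1, y.1.2.1⟩, ⟨y.2, y.2.2.1⟩) : V × G))
        (a₂ := ((⟨z.1, z.1.2.1⟩, ⟨z.2, z.2.2.1⟩) : V × G)) h1
      have h3 := congrArg Prod.fst h2
      have h4 := congrArg Prod.snd h2
      simp only at h3 h4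
      apply Prod.ext
      · apply Subtype.ext
        exact congrArg (fun z : V => (z : X)) h3
      · apply Subtype.ext
        exact congrArg (fun z : G => (z : X)) h4
    · intro x
      have hx : Commute (x : X) (v ^ t * c) := Subgroup.mem_centralizer_singleton_iff.mp x.2
      have hxv : Commute (x : X) v :=
        commute_of_commute_mul hp hvp hcv (pow_card_eq_one_of_mem G hc.1) hcop hx
      have hxc : Commute (x : X) c := by
        have h1 : c = (v ^ t)⁻¹ * (v ^ t * c) := by group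
        have h2 : Commute (x : X) ((v ^ t)⁻¹ * (v ^ t * c)) := (hxv.pow_right t).inv_right.mul_right hx
        rw [← h1] at h2
        exact h2
      obtain ⟨u, hu, g, hg, hxug⟩ := exists_decomp_centralizer V G hGV hVab hv hxv
      have hgc : Commute g c := hab g hg c hc
      have huc : Commute u c := by
        have h1 : u = (x : X) * g⁻¹ := by rw [hxug]; group
        rw [h1]
        exact hxc.mul_left hgc.inv_left
      refine ⟨(⟨u, ⟨hu, Subgroup.mem_centralizer_singleton_iff.mpr huc.eq⟩⟩, ⟨g, hg⟩), ?_⟩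
      apply Subtype.ext
      exact hxug.symm
  rw [← Nat.card_congr (Equiv.ofBijective f hf), Nat.card_prod]

end grp

end Cfsg.Agent.Lib.Helper25.Kn
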