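import Mathlib

/-!
# Nilpotent-chain independence and a cardinality bound

For an endomorphism `D` of a vector space with `D ^ n x = 0` and `D ^ (n-1) x ≠ 0` the vectors
`x, D x, …, D^(n-1) x` are linearly independent.  Over `ZMod p` this gives `p ^ n ≤ card M`.
An application: for an endomorphism `T` of a finite elementary abelian `p`-group with `T^p = 1`
and a `T`-invariant subgroup `K` not containing the norm `∑ T^i x`, the index of `K` is at least `p^p`.
-/

namespace Cfsg.Agent.Lib.Helper25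

theorem linearIndependent_pow_apply_of_nilpotent {K M : Type*} [Field K] [AddCommGroup M] [Module K M]
    (D : Module.End K M) (n : ℕ) (x : M) (h0 : (D ^ n) x = 0) (h1 : (D ^ (n - 1)) x ≠ 0) :
    LinearIndependent K (fun j : Fin n => (D ^ (j : ℕ)) x) := by
  classical
  rw [Fintype.linearIndependent_iff]
  intro g hg
  by_contra hne
  push Not at hne
  obtain ⟨j0, hj0, hmin⟩ : ∃ j0 : Fin n, g j0 ≠ 0 ∧ ∀ j : Fin n, g j ≠ 0 → j0 ≤ j := by
    have hs : (Finset.univ.filter (fun j : Fin n => g j ≠ 0)).Nonempty := by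
      obtain ⟨j, hj⟩ := hne
      exact ⟨j, by simp [hj]⟩
    refine ⟨Finset.min' _ hs, ?_, ?_⟩
    · have := Finset.min'_mem _ hs
      simpa using this
    · intro j hj
      exact Finset.min'_le _ _ (by simp [hj])
  have key : (D ^ (n - 1 - (j0 : ℕ))) (∑ j, g j • (D ^ (j : ℕ)) x) = g j0 • (D ^ (n - 1)) x := by
    rw [map_sum]
    rw [Finset.sum_eq_single j0]
    · rw [map_smul, ← Module.End.mul_apply, ← pow_add]
      have : n - 1 - (j0 : ℕ) + (j0 : ℕ) = n - 1 := by
        have := j0.2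
        omega
      rw [this]
    · intro j _ hj
      by_cases hgj : g j = 0
      · simp [hgj]
      · have hlt : j0 < j := lt_of_le_of_ne (hmin j hgj) (Ne.symm hj)
        rw [map_smul, ← Module.End.mul_apply, ← pow_add]
        have hlt' : (j0 : ℕ) < (j : ℕ) := hlt
        have : n - 1 - (j0 : ℕ) + (j : ℕ) = ((j : ℕ) - (j0 : ℕ) - 1) + n := by
          have := j.2
          omega
        rw [this, pow_add, Module.End.mul_apply, h0, map_zero, smul_zero]
    · intro h
      exact absurd (Finset.mem_univ _) h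
  rw [hg, map_zero] at key
  exact h1 ((smul_eq_zero.mp key.symm).resolve_left hj0)

theorem pow_le_card_of_nilpotent {p : ℕ} [Fact p.Prime] {M : Type*} [AddCommGroup M]
    [Module (ZMod p) M] [Finite M]
    (D : Module.End (ZMod p) M) (n : ℕ) (x : M) (h0 : (D ^ n) x = 0) (h1 : (D ^ (n - 1)) x ≠ 0) :
    p ^ n ≤ Nat.card M := by
  have hli := linearIndependent_pow_apply_of_nilpotent D n x h0 h1
  have hle := hli.fintype_card_le_finrank
  haveI := Fintype.ofFinite M
  rw [Nat.card_eq_fintype_card, Module.card_eq_pow_finrank (K := ZMod p), ZMod.card]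
  exact Nat.pow_le_pow_right (Fact.out : p.Prime).pos (by simpa using hle)

theorem geom_sum_eq_sub_one_pow {p : ℕ} [Fact p.Prime] {E : Type*} [Ring E] [Algebra (ZMod p) E]
    (T : E) : ∑ i ∈ Finset.range p, T ^ i = (T - 1) ^ (p - 1) := by
  have hpoly : (∑ i ∈ Finset.range p, (Polynomial.X : Polynomial (ZMod p)) ^ i) =
      (Polynomial.X - 1) ^ (p - 1) := by
    have hX : (Polynomial.X - 1 : Polynomial (ZMod p)) ≠ 0 := by
      have := Polynomial.X_sub_C_ne_zero (1 : ZMod p)
      simpa using this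
    apply mul_right_cancel₀ hX
    rw [geom_sum_mul, ← pow_succ, Nat.sub_add_cancel (Fact.out : p.Prime).one_le, sub_pow_char,
      one_pow]
  have := congrArg (Polynomial.aeval T) hpoly
  simpa using this

theorem sub_one_pow_char_eq {p : ℕ} [Fact p.Prime] {E : Type*} [Ring E] [Algebra (ZMod p) E]
    (T : E) : (T - 1) ^ p = T ^ p - 1 := by
  have hpoly : ((Polynomial.X : Polynomial (ZMod p)) - 1) ^ p = Polynomial.X ^ p - 1 := by
    rw [sub_pow_char, one_pow]
  have := congrArg (Polynomial.aeval T) hpoly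
  simpa using this


theorem pow_le_card_of_norm_ne_zero {p : ℕ} [Fact p.Prime] {M Q : Type*} [AddCommGroup M]
    [AddCommGroup Q] [Module (ZMod p) Q] [Finite Q] (π : M →+ Q) (hπ : Function.Surjective π)
    (T : M →+ M) (Tq : Q →+ Q) (hcomm : ∀ a, Tq (π a) = π (T a)) (hT : ∀ a, T^[p] a = a)
    (x : M) (hx : π (∑ i ∈ Finset.range p, T^[i] x) ≠ 0) : p ^ p ≤ Nat.card Q := by
  let Tl : Module.End (ZMod p) Q := Tq.toZModLinearMap p
  have hiter : ∀ (k : ℕ) (a : M), (Tl ^ k) (π a) = π (T^[k] a) := by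
    intro k
    induction k with
    | zero => intro a; simp
    | succ k ih =>
      intro a
      rw [pow_succ, Module.End.mul_apply, Function.iterate_succ_apply]
      have : Tl (π a) = π (T a) := hcomm a
      rw [this, ih]
  have hTp : Tl ^ p = 1 := by
    apply LinearMap.ext
    intro q
    obtain ⟨a, rfl⟩ := hπ q
    rw [hiter, hT]
    rfl
  have hD : (Tl - 1) ^ p = 0 := by
    rw [sub_one_pow_char_eq, hTp, sub_self]
  have hN : (Tl - 1) ^ (p - 1) = ∑ i ∈ Finset.range p, Tl ^ i :=
    (geom_sum_eq_sub_one_pow Tl).symm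
  have h1 : ((Tl - 1) ^ (p - 1)) (π x) ≠ 0 := by
    rw [hN, LinearMap.sum_apply]
    simp only [hiter]
    rw [← map_sum]
    exact hx
  exact pow_le_card_of_nilpotent (Tl - 1) p (π x) (by rw [hD]; rfl) h1

theorem pow_le_index_of_sum_not_mem {p : ℕ} [Fact p.Prime] {M : Type*} [AddCommGroup M] [Finite M]
    (hM : ∀ a : M, p • a = 0) (T : M →+ M) (hT : ∀ a, T^[p] a = a)
    (K : AddSubgroup M) (hK : ∀ a ∈ K, T a ∈ K) (x : M)
    (hx : ∑ i ∈ Finset.range p, T^[i] x ∉ K) : p ^ p ≤ K.index := by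
  have hQ : ∀ q : M ⧸ K, p • q = 0 := by
    intro q
    induction q using QuotientAddGroup.induction_on with
    | H a =>
      rw [← QuotientAddGroup.mk_nsmul, hM]
      rfl
  exact @pow_le_card_of_norm_ne_zero p _ M (M ⧸ K) _ _ (AddCommGroup.zmodModule hQ) _
    (QuotientAddGroup.mk' K) (QuotientAddGroup.mk'_surjective K) T
    (QuotientAddGroup.map K K T (fun a ha => hK a ha)) (fun a => rfl) hT x
    (fun h => hx ((QuotientAddGroup.eq_zero_iff _).mp h))


theorem exists_addHom_ne_zero {p : ℕ} [Fact p.Prime] {M : Type*} [AddCommGroup M]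
    [Module (ZMod p) M] (z : M) (hz : z ≠ 0) :
    ∃ φ : M →+ ZMod p, φ z ≠ 0 ∧ Function.Surjective φ := by
  obtain ⟨φ, hφ⟩ : ∃ φ : Module.Dual (ZMod p) M, φ z ≠ 0 := by
    by_contra h
    push Not at h
    exact hz ((Module.forall_dual_apply_eq_zero_iff (ZMod p) z).mp h)
  refine ⟨φ.toAddMonoidHom, hφ, ?_⟩
  intro r
  refine ⟨(r * (φ z)⁻¹) • z, ?_⟩
  show φ ((r * (φ z)⁻¹) • z) = r
  rw [map_smul, smul_eq_mul, mul_assoc, inv_mul_cancel₀ hφ, mul_one]

theorem exists_index_p_not_mem {p : ℕ} [Fact p.Prime] {C : Type*} [CommGroup C]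
    (hC : ∀ a : C, a ^ p = 1) (z : C) (hz : z ≠ 1) : ∃ B : Subgroup C, B.index = p ∧ z ∉ B := by
  have hM : ∀ a : Additive C, p • a = 0 := fun a => by
    show Additive.ofMul (a.toMul ^ p) = 0
    rw [hC]; rfl
  obtain ⟨φ, hφ, hsurj⟩ := @exists_addHom_ne_zero p _ (Additive C) _ (AddCommGroup.zmodModule hM)
    (Additive.ofMul z) (fun h => hz (by simpa using h))
  let f : C →* Multiplicative (ZMod p) := AddMonoidHom.toMultiplicativeRight φ
  refine ⟨f.ker, ?_, ?_⟩
  · rw [Subgroup.index_ker]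
    have : f.range = ⊤ := by
      rw [MonoidHom.range_eq_top]
      intro m
      obtain ⟨a, ha⟩ := hsurj m.toAdd
      exact ⟨a.toMul, by
        show Multiplicative.ofAdd (φ (Additive.ofMul a.toMul)) = m
        rw [ofMul_toMul, ha]; rfl⟩
    rw [this, Nat.card_congr Subgroup.topEquiv.toEquiv]
    simp
  · intro hz'
    rw [MonoidHom.mem_ker] at hz'
    apply hφ
    have : Multiplicative.ofAdd (φ (Additive.ofMul z)) = 1 := hz'
    simpa using this

end Cfsg.Agent.Lib.Helper25
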