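import Mathlib
import Cfsg.Prelude.Def_GeometricClasses
import Cfsg.Agent.Lib.Helper15.SymIso
import Cfsg.Agent.Lib.Helper25.OEFsaMain
import Cfsg.Agent.Lib.Helper25.OEFsaH1
import Cfsg.Agent.Lib.Helper25.OEFsaOdd

/-!
OMEGA-EVEN (helper25): THE TYPE OF A UNITARY FIELD.  If a field subalgebra `K` of degree 2 acts by similitudes of the non-degenerate
quadratic form `Q` on `F^n` (`n = 2 m`), then every totally singular subspace of dimension `m` has EVEN dimension: so for `m` odd
(`n = 10`: `GU_5(q)`) the form `Q` is NOT of plus type.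
Proof: `U` totally singular of dimension `m`, `λ ∈ K \ F`.  `g (u, v) := f (λ u, v)` is an alternating form on `U` (`f (u, λ u) = 0` for singular
`u` since `1 + λ` and `λ` are similitudes); its radical is `U₀ = {u | K u ⊆ U}` (`⊇` clear; `⊆`: for `c` in the radical `U + F λ c` is totally
singular, so equal to `U` by maximality); `U₀` is a `K`-space, of even `F`-dimension, and `U / U₀` carries a non-degenerate alternating form.
-/

set_option autoImplicit false
set_option linter.unusedSectionVars false
set_option linter.unusedVariables false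

namespace Cfsg.Agent.Lib.Helper25.OEFsa
open Matrix Module QuadraticMap Cfsg Cfsg.Geo

section ts
variable {F : Type*} [Field F] {ι : Type} [Fintype ι] [DecidableEq ι] (Q : QuadraticForm F (ι → F))

theorem polar_eq_zero_of_ts {U : Submodule F (ι → F)} (hU : IsTotallySingularQuad ⇑Q U) {x y : ι → F}
    (hx : x ∈ U) (hy : y ∈ U) : polar Q x y = 0 := by
  unfold polar
  rw [hU _ (U.add_mem hx hy), hU x hx, hU y hy]
  ring

/-- a totally singular subspace has at most half the dimension -/
theorem two_mul_finrank_ts_le (hQ : (polarBilin Q).Nondegenerate) {U : Submodule F (ι → F)}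
    (hU : IsTotallySingularQuad ⇑Q U) : 2 * finrank F U ≤ Fintype.card ι := by
  have h1 : U ≤ LinearMap.BilinForm.orthogonal (polarBilin Q) U := by
    intro u hu
    rw [LinearMap.BilinForm.mem_orthogonal_iff]
    intro u' hu'
    show polar Q u' u = 0
    exact polar_eq_zero_of_ts Q hU hu' hu
  have h2 := Submodule.finrank_mono h1
  rw [LinearMap.BilinForm.finrank_orthogonal hQ, Module.finrank_fintype_fun_eq_card] at h2
  have h3 : finrank F U ≤ Fintype.card ι := by
    have := Submodule.finrank_le U
    rwa [Module.finrank_fintype_fun_eq_card] at this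
  omega

end ts

section deg2
variable {F : Type*} [Field F] {E : Type*} [Field E] [Algebra F E]

/-- in an extension of degree 2 every element is `x + y l` for `l` outside the ground field -/
theorem exists_coeffs_deg_two (h2 : finrank F E = 2) {l : E} (hl : ∀ c : F, algebraMap F E c ≠ l) (a : E) :
    ∃ x y : F, a = algebraMap F E x + algebraMap F E y * l := by
  have : FiniteDimensional F E := Module.finite_of_finrank_pos (by rw [h2]; norm_num)
  let φ : (Fin 2 → F) →ₗ[F] E :=
    { toFun := fun w => algebraMap F E (w 0) + algebraMap F E (w 1) * l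
      map_add' := by
        intro w w'
        simp only [Pi.add_apply, map_add]
        ring
      map_smul' := by
        intro c w
        simp only [Pi.smul_apply, smul_eq_mul, map_mul, RingHom.id_apply, Algebra.smul_def]
        ring }
  have hinj : Function.Injective φ := by
    rw [← LinearMap.ker_eq_bot, LinearMap.ker_eq_bot']
    intro w hw
    have hw' : algebraMap F E (w 0) + algebraMap F E (w 1) * l = 0 := hw
    have h1 : w 1 = 0 := by
      by_contra hne
      apply hl (-(w 0) / (w 1))
      have hne' : algebraMap F E (w 1) ≠ 0 := by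
        rw [Ne, map_eq_zero]; exact hne
      rw [map_div₀, map_neg, div_eq_iff hne']
      linear_combination -hw'
    rw [h1, map_zero, zero_mul, add_zero, map_eq_zero] at hw'
    funext i
    fin_cases i
    · exact hw'
    · exact h1
  have hsurj : Function.Surjective φ := by
    apply (LinearMap.injective_iff_surjective_of_finrank_eq_finrank ?_).1 hinj
    rw [h2, Module.finrank_fin_fun]
  obtain ⟨w, rfl⟩ := hsurj a
  exact ⟨w 0, w 1, rfl⟩

end deg2

variable {F : Type*} [Field F] [Fintype F] {E : Type*} [Field E] [Algebra F E]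
  {ι : Type} [Fintype ι] [DecidableEq ι]

/-- the largest `E`-subspace contained in `U`, as an `E`-submodule -/
def coreE (ρ : E →ₐ[F] Matrix ι ι F) (U : Submodule F (ι → F)) : Submodule E (VE ρ) where
  carrier := {v | ∀ a : E, ρ a *ᵥ v.out ∈ U}
  add_mem' := by
    intro u v hu hv a
    show ρ a *ᵥ (u.out + v.out) ∈ U
    rw [Matrix.mulVec_add]
    exact U.add_mem (hu a) (hv a)
  zero_mem' := by
    intro a
    show ρ a *ᵥ (0 : ι → F) ∈ U
    rw [Matrix.mulVec_zero]
    exact U.zero_mem
  smul_mem' := by
    intro b v hv a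
    show ρ a *ᵥ (ρ b *ᵥ v.out) ∈ U
    rw [Matrix.mulVec_mulVec, ← map_mul]
    exact hv (a * b)

/-- the same as an `F`-submodule -/
def coreF (ρ : E →ₐ[F] Matrix ι ι F) (U : Submodule F (ι → F)) : Submodule F (ι → F) where
  carrier := {v | ∀ a : E, ρ a *ᵥ v ∈ U}
  add_mem' := by
    intro u v hu hv a
    rw [Matrix.mulVec_add]
    exact U.add_mem (hu a) (hv a)
  zero_mem' := by
    intro a
    rw [Matrix.mulVec_zero]
    exact U.zero_mem
  smul_mem' := by
    intro c v hv a
    rw [Matrix.mulVec_smul]
    exact U.smul_mem c (hv a)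

theorem mem_coreF {ρ : E →ₐ[F] Matrix ι ι F} {U : Submodule F (ι → F)} {v : ι → F} :
    v ∈ coreF ρ U ↔ ∀ a : E, ρ a *ᵥ v ∈ U := Iff.rfl

theorem coreF_le (ρ : E →ₐ[F] Matrix ι ι F) (U : Submodule F (ι → F)) : coreF ρ U ≤ U := by
  intro v hv
  have := hv 1
  rwa [map_one, Matrix.one_mulVec] at this

/-- the `F`-dimension of the core is a multiple of `[E : F]` -/
theorem finrank_coreF (ρ : E →ₐ[F] Matrix ι ι F) (U : Submodule F (ι → F)) :
    finrank F (coreF ρ U) = finrank F E * finrank E (coreE ρ U) := by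
  have hfin : Module.Finite F (VE ρ) := inferInstanceAs (Module.Finite F (ι → F))
  rw [Module.finrank_mul_finrank F E (coreE ρ U)]
  let e : coreF ρ U ≃ₗ[F] coreE ρ U :=
    { toFun := fun x => ⟨(x.1 : ι → F), x.2⟩
      map_add' := fun x y => rfl
      map_smul' := fun c x => by
        apply Subtype.ext
        show c • (x.1 : ι → F) = (c • (⟨(x.1 : ι → F), x.2⟩ : coreE ρ U)).1
        rw [← algebraMap_smul E c (⟨(x.1 : ι → F), x.2⟩ : coreE ρ U)]
        show c • (x.1 : ι → F) = (ρ (algebraMap F E c) *ᵥ (x.1 : ι → F) : ι → F)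
        rw [AlgHom.commutes, Matrix.algebraMap_eq_diagonal]
        ext i
        simp [Matrix.mulVec_diagonal]
      invFun := fun x => ⟨x.1.out, x.2⟩
      left_inv := fun x => rfl
      right_inv := fun x => rfl }
  exact e.finrank_eq

section main

/-- a unitary field of degree 2 (model form): totally singular subspaces of half the dimension have even dimension -/
theorem even_finrank_ts_of_simil_model (Q : QuadraticForm F (ι → F)) (hQ : (polarBilin Q).Nondegenerate)
    (ρ : E →ₐ[F] Matrix ι ι F) (h2 : finrank F E = 2)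
    (hsim : ∀ a : E, ∃ c : F, ∀ v : ι → F, Q (ρ a *ᵥ v) = c * Q v)
    {U : Submodule F (ι → F)} (hU : IsTotallySingularQuad ⇑Q U) (hdim : 2 * finrank F U = Fintype.card ι) :
    Even (finrank F U) := by
  classical
  -- an element outside the ground field
  obtain ⟨l, hl⟩ : ∃ l : E, ∀ c : F, algebraMap F E c ≠ l := by
    by_contra hcon
    push Not at hcon
    have hle : finrank F E ≤ 1 := finrank_le_one (1 : E) (fun w => by
      obtain ⟨c, hc⟩ := hcon w
      exact ⟨c, by rw [Algebra.smul_def, mul_one, hc]⟩)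
    omega
  set lam : Matrix ι ι F := ρ l with hlam
  obtain ⟨c2, hc2⟩ := hsim l
  obtain ⟨c1, hc1⟩ := hsim (1 + l)
  -- (a) `f (u, λ u) = 0` for singular `u`
  have ha : ∀ u : ι → F, Q u = 0 → polar Q u (lam *ᵥ u) = 0 := by
    intro u hu
    have h1 := hc1 u
    rw [map_add, map_one, Matrix.add_mulVec, Matrix.one_mulVec, hu, mul_zero] at h1
    unfold polar
    rw [h1, hu, hc2 u, hu]
    ring
  -- the form `g`
  let gV : LinearMap.BilinForm F (ι → F) :=
    LinearMap.mk₂ F (fun u v => polar Q (lam *ᵥ u) v)
      (fun u u' v => by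
        show polar Q (lam *ᵥ (u + u')) v = _
        rw [Matrix.mulVec_add, polar_add_left])
      (fun c u v => by
        show polar Q (lam *ᵥ (c • u)) v = _
        rw [Matrix.mulVec_smul, polar_smul_left])
      (fun u v v' => polar_add_right Q _ v v')
      (fun c u v => polar_smul_right Q c _ v)
  have hg : ∀ u v, gV u v = polar Q (lam *ᵥ u) v := fun u v => rfl
  have halt : ∀ u ∈ U, gV u u = 0 := by
    intro u hu
    rw [hg, polar_comm]
    exact ha u (hU u hu)
  have hskew : ∀ u ∈ U, ∀ v ∈ U, gV u v = - gV v u := by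
    intro u hu v hv
    have h := halt (u + v) (U.add_mem hu hv)
    simp only [map_add, LinearMap.add_apply, halt u hu, halt v hv] at h
    linear_combination h
  -- the core lies in the radical
  have hcore_rad : ∀ u₀ ∈ coreF ρ U, ∀ v ∈ U, gV u₀ v = 0 := by
    intro u₀ hu₀ v hv
    rw [hg]
    exact polar_eq_zero_of_ts Q hU (hu₀ l) hv
  -- the radical lies in the core
  have hrad_core : ∀ c ∈ U, (∀ v ∈ U, gV c v = 0) → c ∈ coreF ρ U := by
    intro c hc hrad
    have hts' : IsTotallySingularQuad ⇑Q (U ⊔ Submodule.span F {lam *ᵥ c}) := by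
      intro w hw
      obtain ⟨u, hu, z, hz, rfl⟩ := Submodule.mem_sup.1 hw
      obtain ⟨t, rfl⟩ := Submodule.mem_span_singleton.1 hz
      have h1 : Q (u + t • (lam *ᵥ c)) = Q u + Q (t • (lam *ᵥ c)) + polar Q u (t • (lam *ᵥ c)) := by
        unfold polar
        ring
      rw [h1, hU u hu, QuadraticMap.map_smul, hc2 c, hU c hc, polar_smul_right, polar_comm, ← hg,
        hrad u hu]
      simp
    have hle : U ≤ U ⊔ Submodule.span F {lam *ᵥ c} := le_sup_left
    have h1 := two_mul_finrank_ts_le Q hQ hts'
    have heq : U = U ⊔ Submodule.span F {lam *ᵥ c} :=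
      Submodule.eq_of_le_of_finrank_le hle (by omega)
    have hlc : lam *ᵥ c ∈ U := by
      rw [heq]
      exact (le_sup_right : Submodule.span F {lam *ᵥ c} ≤ _) (Submodule.mem_span_singleton_self _)
    intro a
    obtain ⟨x, y, rfl⟩ := exists_coeffs_deg_two h2 hl a
    rw [map_add, map_mul, AlgHom.commutes, AlgHom.commutes, Algebra.algebraMap_eq_smul_one,
      Algebra.algebraMap_eq_smul_one, Matrix.add_mulVec, Matrix.smul_mulVec, Matrix.one_mulVec,
      smul_mul_assoc, one_mul, Matrix.smul_mulVec]
    exact U.add_mem (U.smul_mem x hc) (U.smul_mem y hlc)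
  -- a complement of the core in `U`
  obtain ⟨C', hC'⟩ := Submodule.exists_isCompl (coreF ρ U)
  set C : Submodule F (ι → F) := C' ⊓ U with hCdef
  have hCU : C ≤ U := inf_le_right
  have hsup : coreF ρ U ⊔ C = U := by
    rw [hCdef, ← sup_inf_assoc_of_le C' (coreF_le ρ U), hC'.sup_eq_top, top_inf_eq]
  have hinf : coreF ρ U ⊓ C = ⊥ := by
    rw [eq_bot_iff]
    calc coreF ρ U ⊓ C ≤ coreF ρ U ⊓ C' := inf_le_inf_left _ inf_le_left
      _ = ⊥ := hC'.inf_eq_bot
  have hfin := Submodule.finrank_sup_add_finrank_inf_eq (coreF ρ U) C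
  rw [hsup, hinf, finrank_bot, add_zero] at hfin
  -- the complement carries a non-degenerate alternating form
  have hevC : Even (finrank F C) := by
    obtain ⟨k, φ, hk, -⟩ := Cfsg.Agent.Lib.Helper15.SymIso.exists_symp_equiv (F := F) C
      (gV.restrict C) (fun x => halt x.1 (hCU x.2)) (by
        intro x hx
        by_contra hx0
        have hxcore : x.1 ∉ coreF ρ U := by
          intro hmem
          have : x.1 ∈ coreF ρ U ⊓ C := ⟨hmem, x.2⟩
          rw [hinf, Submodule.mem_bot] at this
          exact hx0 (Subtype.ext this)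
        have hnr : ¬ ∀ v ∈ U, gV x.1 v = 0 := fun h => hxcore (hrad_core x.1 (hCU x.2) h)
        push Not at hnr
        obtain ⟨v, hv, hne⟩ := hnr
        rw [← hsup] at hv
        obtain ⟨u₀, hu₀, c', hc', rfl⟩ := Submodule.mem_sup.1 hv
        apply hne
        rw [map_add, hskew x.1 (hCU x.2) u₀ (coreF_le ρ U hu₀), hcore_rad u₀ hu₀ x.1 (hCU x.2), neg_zero,
          zero_add]
        exact hx ⟨c', hc'⟩)
    exact ⟨k, by omega⟩
  have hevcore : Even (finrank F (coreF ρ U)) := by
    rw [finrank_coreF, h2]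
    exact even_two_mul _
  rw [hfin]
  exact hevcore.add hevC

end main

section final4

universe u

/-- a unitary field of degree 2: totally singular subspaces of half the dimension have even dimension -/
theorem even_finrank_ts_of_simil {F : Type u} [Field F] [Fintype F] {ι : Type} [Fintype ι] [DecidableEq ι]
    (Q : QuadraticForm F (ι → F)) (hQ : (polarBilin Q).Nondegenerate)
    {K : Subalgebra F (Matrix ι ι F)} (hK : IsFieldSubalgebra 2 K)
    (hsim : ∀ k ∈ K, ∃ c : F, ∀ v : ι → F, Q (k *ᵥ v) = c * Q v)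
    {U : Submodule F (ι → F)} (hU : IsTotallySingularQuad ⇑Q U) (hdim : 2 * finrank F U = Fintype.card ι) :
    Even (finrank F U) := by
  obtain ⟨E, iE, iA, ρ, hinj, hrange, hfr⟩ := exists_model' 2 (by norm_num) K hK
  subst hrange
  exact even_finrank_ts_of_simil_model Q hQ ρ hfr (fun a => hsim (ρ a) ⟨a, rfl⟩) hU hdim

/-- **the type of a unitary field**: `n = 2 m` with `m` odd, a field subalgebra of degree 2 acting by similitudes: `Q` is not of plus type -/
theorem not_plus_of_simil_field {F : Type u} [Field F] [Fintype F] {ι : Type} [Fintype ι] [DecidableEq ι]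
    (Q : QuadraticForm F (ι → F)) (hQ : (polarBilin Q).Nondegenerate) {m : ℕ} (hm : Odd m)
    (hn : Fintype.card ι = 2 * m) {K : Subalgebra F (Matrix ι ι F)} (hK : IsFieldSubalgebra 2 K)
    (hsim : ∀ k ∈ K, ∃ c : F, ∀ v : ι → F, Q (k *ᵥ v) = c * Q v) : ¬ IsPlusTypeOn ⇑Q ⊤ := by
  rintro ⟨U, -, hU, hdim⟩
  rw [finrank_top, Module.finrank_fintype_fun_eq_card] at hdim
  have hev := even_finrank_ts_of_simil Q hQ hK hsim hU hdim
  have : finrank F U = m := by omega
  rw [this] at hev
  exact (Nat.not_even_iff_odd.2 hm) hev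

/-- the same for a plain function `Q` -/
theorem not_plus_of_simil_field_fun {F : Type u} [Field F] [Fintype F] {ι : Type} [Fintype ι] [DecidableEq ι]
    {Q : (ι → F) → F} (hQ : IsNondegenerateQuadraticForm Q) {m : ℕ} (hm : Odd m)
    (hn : Fintype.card ι = 2 * m) {K : Subalgebra F (Matrix ι ι F)} (hK : IsFieldSubalgebra 2 K)
    (hsim : ∀ k ∈ K, ∃ c : F, ∀ v : ι → F, Q (k *ᵥ v) = c * Q v) : ¬ IsPlusTypeOn Q ⊤ :=
  not_plus_of_simil_field (qfOf hQ) (qfOf_nondeg hQ) hm hn hK hsim

end final4

end Cfsg.Agent.Lib.Helper25.OEFsa
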