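import Mathlib
import Cfsg.Prelude.Def_GeometricClasses
import Cfsg.Agent.Lib.Helper25.OEFsaOdd
import Cfsg.Agent.Lib.Helper25.OEFuni

/-!
OMEGA-EVEN, OE-ROWS4 (planner lead), leaves **R11 `odd_of_fsa_two`** and **R20 `not_plus_of_funi`** (helper25): exact signatures of
`notes/OmEven_rows4_leaves.lean`, one-line wrappers of `OEFsaOdd.two_ne_zero_of_fsa_odd` and `OEFuni.not_plus_of_simil_field`.
-/

set_option autoImplicit false
set_option linter.unusedSectionVars false
set_option linter.unusedVariables false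

namespace Cfsg.Agent.Lib.Helper25.OELeaf

open Cfsg Cfsg.Geo Matrix Module QuadraticMap

section generic
variable {ι : Type} [Fintype ι] [DecidableEq ι] {F : Type*} [Field F] [Fintype F]
  (Q : QuadraticForm F (ι → F))

/-- R11. -/
theorem odd_of_fsa_two (hQ : (polarBilin Q).Nondegenerate) {m : ℕ} (hcard : Fintype.card ι = 2 * m)
    (hm : Odd m) {K : Subalgebra F (Matrix ι ι F)} (hK : IsFieldSubalgebra 2 K)
    (hsa : IsSelfAdjointFor (polar ⇑Q) K) : Odd (Fintype.card F) := by
  by_contra h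
  have hev : Fintype.card F % 2 = 0 := by
    rcases Nat.even_or_odd (Fintype.card F) with h' | h'
    · exact Nat.even_iff.1 h'
    · exact absurd h' h
  have hchar : ringChar F = 2 := FiniteField.even_card_iff_char_two.2 hev
  have : CharP F 2 := ringChar.of_eq hchar
  exact Cfsg.Agent.Lib.Helper25.OEFsa.two_ne_zero_of_fsa_odd Q hQ (r := 2) (m := m) (by norm_num) hm
    (by rw [hcard, mul_comm]) hK hsa CharTwo.two_eq_zero

/-- R20. -/
theorem not_plus_of_funi (hQ : (polarBilin Q).Nondegenerate) {m : ℕ} (hcard : Fintype.card ι = 2 * m)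
    (hm : Odd m) {K : Subalgebra F (Matrix ι ι F)} (hK : IsFieldSubalgebra 2 K)
    (hac : IsAdjointClosedFor (polar ⇑Q) K)
    (hsim : ∀ k ∈ K, ∃ c : F, ∀ v : ι → F, Q (k *ᵥ v) = c * Q v) : ¬ IsPlusTypeOn ⇑Q ⊤ :=
  Cfsg.Agent.Lib.Helper25.OEFsa.not_plus_of_simil_field Q hQ hm hcard hK hsim

end generic

end Cfsg.Agent.Lib.Helper25.OELeaf
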