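import Mathlib
import Cfsg.Agent.Lib.Lead.OEDefs
import Cfsg.Agent.Lib.Helper29.SpPrfDefs
import Cfsg.Agent.Lib.Helper20.SpTnsDefs
import Cfsg.Agent.Lib.Helper12.OAschOB
import Cfsg.Agent.Lib.Helper22.SpTnsCoord
import Cfsg.Agent.Lib.Helper23.SpTnsK3
import Cfsg.Agent.Lib.Helper28.SpTnsE2a
import Cfsg.Agent.Lib.Helper25.OAschTNSa
import Cfsg.Agent.Lib.Helper25.OETnsA

/-!
OMEGA-EVEN (planner lead), block [E-TNS] (sub-planner helper25), part B: the symmetry types of the factors of a symmetric Kronecker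
product, and the exits `.tsym`, `.talt`, `.funi` / `.pair` (a symmetric factor of dimension 2, `q` odd).
-/

set_option autoImplicit false
set_option linter.unusedSectionVars false
set_option linter.unusedVariables false

namespace Cfsg.Agent.Lib.Helper25.OELeaf
open Matrix Cfsg Cfsg.Geo Cfsg.Agent.Lib.Helper20.Asch Cfsg.Agent.Lib.Helper29.SpAsch Cfsg.Agent.Lib.Lead.OE
  Cfsg.Agent.Lib.Helper20.SpTns Cfsg.Agent.Lib.Helper22.SpTnsLeaf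
open scoped Kronecker

variable {F : Type*} [Field F] [Fintype F] {n : ℕ} {Q : (Fin n → F) → F} {J : Matrix (Fin n) (Fin n) F}
  {H N : Subgroup (GL (Fin n) F)}

/-- the determinants of the factors of an invertible Kronecker product -/
theorem kron_det_ne_zero {s k : ℕ} (hs : 0 < s) (hk : 0 < k) (G₁ : Matrix (Fin s) (Fin s) F)
    (G₂ : Matrix (Fin k) (Fin k) F) (hdet : (G₁ ⊗ₖ G₂).det ≠ 0) : G₁.det ≠ 0 ∧ G₂.det ≠ 0 := by
  rw [Matrix.det_kronecker, Fintype.card_fin, Fintype.card_fin] at hdet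
  constructor
  · intro h0
    apply hdet
    rw [h0, zero_pow (by omega), zero_mul]
  · intro h0
    apply hdet
    rw [h0, zero_pow (by omega), mul_zero]

theorem ne_zero_of_det_ne_zero {s : ℕ} (hs : 0 < s) {G : Matrix (Fin s) (Fin s) F} (hd : G.det ≠ 0) : G ≠ 0 := by
  rintro rfl
  have : Nonempty (Fin s) := ⟨⟨0, hs⟩⟩
  exact hd Matrix.det_zero

/-- THE SYMMETRY TYPES OF THE FACTORS of a symmetric invertible Kronecker product: both symmetric or both skew-symmetric -/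
theorem kron_symm_cases {s k : ℕ} (hs : 0 < s) (hk : 0 < k) (G₁ : Matrix (Fin s) (Fin s) F)
    (G₂ : Matrix (Fin k) (Fin k) F) (hsym : (G₁ ⊗ₖ G₂)ᵀ = G₁ ⊗ₖ G₂) (hdet : (G₁ ⊗ₖ G₂).det ≠ 0) :
    (G₁ᵀ = G₁ ∧ G₂ᵀ = G₂) ∨ (G₁ᵀ = -G₁ ∧ G₂ᵀ = -G₂) := by
  obtain ⟨hd₁, hd₂⟩ := kron_det_ne_zero hs hk G₁ G₂ hdet
  have hG₁ := ne_zero_of_det_ne_zero hs hd₁
  have hG₂ := ne_zero_of_det_ne_zero hk hd₂
  have h : G₁ᵀ ⊗ₖ G₂ᵀ = G₁ ⊗ₖ G₂ := (Matrix.kroneckerMap_transpose _ G₁ G₂).trans hsym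
  obtain ⟨c, hc, h1, h2⟩ := Cfsg.Agent.Lib.Helper23.SpTnsLeaf.k3_kron_eq G₁ᵀ G₁ G₂ᵀ G₂ hG₁ hG₂ h
  have hcc : c * c = 1 := by
    have e : G₁ = (c * c) • G₁ := by
      conv_lhs => rw [← Matrix.transpose_transpose G₁, h1, Matrix.transpose_smul, h1, smul_smul]
    obtain ⟨i, j, hij⟩ : ∃ i j, G₁ i j ≠ 0 := by
      by_contra hcon
      push Not at hcon
      exact hG₁ (Matrix.ext hcon)
    have e2 := congrFun (congrFun e i) j
    rw [Matrix.smul_apply, smul_eq_mul] at e2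
    have : (c * c - 1) * G₁ i j = 0 := by linear_combination -e2
    rcases mul_eq_zero.1 this with h0 | h0
    · linear_combination h0
    · exact absurd h0 hij
  have hc1 : c = 1 ∨ c = -1 := by
    have : (c - 1) * (c + 1) = 0 := by linear_combination hcc
    rcases mul_eq_zero.1 this with h0 | h0
    · left; linear_combination h0
    · right; linear_combination h0
  rcases hc1 with rfl | rfl
  · left
    rw [one_smul] at h1
    rw [inv_one, one_smul] at h2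
    exact ⟨h1, h2⟩
  · right
    rw [neg_one_smul] at h1
    have : ((-1 : F))⁻¹ = -1 := by
      rw [inv_eq_iff_eq_inv, inv_neg, inv_one]
    rw [this, neg_one_smul] at h2
    exact ⟨h1, h2⟩

/-- a skew-symmetric invertible matrix is alternating when `2 ≠ 0` -/
theorem isAltGram_of_skew (h2 : (2 : F) ≠ 0) {s : ℕ} {G : Matrix (Fin s) (Fin s) F} (hsk : Gᵀ = -G)
    (hd : G.det ≠ 0) : IsAltGram G := by
  refine ⟨hsk, fun i => ?_, hd⟩
  have := congrFun (congrFun hsk i) i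
  rw [Matrix.transpose_apply, Matrix.neg_apply] at this
  have h0 : 2 * G i i = 0 := by linear_combination this
  exact (mul_eq_zero.1 h0).resolve_left h2

/-- the Gram matrix in coordinates is symmetric and invertible -/
theorem gramT_symm_det (hJ : EJ Q J) {κ : Type} [Fintype κ] [DecidableEq κ] (e : Fin n ≃ κ) (P : GL (Fin n) F) :
    (gramT e P J)ᵀ = gramT e P J ∧ (gramT e P J).det ≠ 0 :=
  Cfsg.Agent.Lib.Helper25.OAschLeaf.gram_reindex_symm_det hJ.symm hJ.det e P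

/-- the tensor form structure of the polar form -/
theorem oe_tensorForm (hJ : EJ Q J) {s k : ℕ} (e : Fin n ≃ Fin s × Fin k) (P : GL (Fin n) F)
    (G₁ : Matrix (Fin s) (Fin s) F) (G₂ : Matrix (Fin k) (Fin k) F) (hgram : gramT e P J = G₁ ⊗ₖ G₂) :
    IsTensorFormStructure id (QuadraticMap.polar Q) (bfm G₁) (bfm G₂) e P := by
  rw [ej_polar_eq hJ]
  refine Cfsg.Agent.Lib.Helper25.OAschLeaf.tensorForm_of_gram e P G₁ G₂ 1 one_ne_zero ?_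
  rw [one_smul]
  exact hgram

/-- exit `.tsym` -/
theorem oe_exit_tsym (hJ : EJ Q J) (hodd : Odd (Fintype.card F)) {s k : ℕ} (hs : 3 ≤ s) (hk : 3 ≤ k)
    (e : Fin n ≃ Fin s × Fin k) (P : GL (Fin n) F) (G₁ : Matrix (Fin s) (Fin s) F) (G₂ : Matrix (Fin k) (Fin k) F)
    (hG₁s : G₁ᵀ = G₁) (hG₂s : G₂ᵀ = G₂) (hd₁ : G₁.det ≠ 0) (hd₂ : G₂.det ≠ 0)
    (hgram : gramT e P J = G₁ ⊗ₖ G₂) (hH : H ≤ tensorProductSubgroup s k e P) : EGeo Q H :=
  EGeo.tsym hodd s k e P (bfm G₁) (bfm G₂) hs hk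
    (Cfsg.Agent.Lib.Helper12.OAschLeaf.isSymmetricForm_bfm hG₁s hd₁)
    (Cfsg.Agent.Lib.Helper12.OAschLeaf.isSymmetricForm_bfm hG₂s hd₂) (oe_tensorForm hJ e P G₁ G₂ hgram) hH

/-- exit `.talt`, given that `Q` vanishes on the pure tensors -/
theorem oe_exit_talt (hJ : EJ Q J) {s k : ℕ} (hs : 2 ≤ s) (hk : 2 ≤ k)
    (e : Fin n ≃ Fin s × Fin k) (P : GL (Fin n) F) (G₁ : Matrix (Fin s) (Fin s) F) (G₂ : Matrix (Fin k) (Fin k) F)
    (hG₁ : IsAltGram G₁) (hG₂ : IsAltGram G₂) (hgram : gramT e P J = G₁ ⊗ₖ G₂)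
    (hpure : ∀ (x : Fin s → F) (y : Fin k → F), Q (tvec e P (kvec x y)) = 0)
    (hH : H ≤ tensorProductSubgroup s k e P) : EGeo Q H :=
  EGeo.talt s k e P (bfm G₁) (bfm G₂) hs hk (isSymplectic_bfm hG₁) (isSymplectic_bfm hG₂)
    (oe_tensorForm hJ e P G₁ G₂ hgram) (fun x y => hpure x y) hH

/-- the polar form on a pure tensor -/
theorem oe_bfm_pure {s k : ℕ} (e : Fin n ≃ Fin s × Fin k) (P : GL (Fin n) F) (G₁ : Matrix (Fin s) (Fin s) F)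
    (G₂ : Matrix (Fin k) (Fin k) F) (hgram : gramT e P J = G₁ ⊗ₖ G₂) (x x' : Fin s → F) (y y' : Fin k → F) :
    bfm J (tvec e P (kvec x y)) (tvec e P (kvec x' y')) = bfm G₁ x x' * bfm G₂ y y' := by
  rw [Cfsg.Agent.Lib.Helper29.SpPrfLeaf.bfm_gramT, hgram, bfm_kron_kvecK]

/-- exit `.talt` for `q` odd: both factors skew-symmetric -/
theorem oe_exit_talt_odd (hJ : EJ Q J) (h2 : (2 : F) ≠ 0) {s k : ℕ} (hs : 2 ≤ s) (hk : 2 ≤ k)
    (e : Fin n ≃ Fin s × Fin k) (P : GL (Fin n) F) (G₁ : Matrix (Fin s) (Fin s) F) (G₂ : Matrix (Fin k) (Fin k) F)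
    (hG₁ : G₁ᵀ = -G₁) (hG₂ : G₂ᵀ = -G₂) (hd₁ : G₁.det ≠ 0) (hd₂ : G₂.det ≠ 0)
    (hgram : gramT e P J = G₁ ⊗ₖ G₂) (hH : H ≤ tensorProductSubgroup s k e P) : EGeo Q H := by
  have hA₁ := isAltGram_of_skew h2 hG₁ hd₁
  have hA₂ := isAltGram_of_skew h2 hG₂ hd₂
  refine oe_exit_talt hJ hs hk e P G₁ G₂ hA₁ hA₂ hgram ?_ hH
  intro x y
  apply ej_Q_zero hJ h2
  rw [oe_bfm_pure e P G₁ G₂ hgram, bfm_self hA₂, mul_zero]

/-- (E2b') a symmetric second factor of dimension 2: the skew-adjoint square root `T = 1 ⊗ b₀` -/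
theorem oe_exists_skew_root (hHJ : H ≤ isoG J) {s : ℕ} (e : Fin n ≃ Fin s × Fin 2) (P : GL (Fin n) F)
    (G₁ : Matrix (Fin s) (Fin s) F) (G₂ : Matrix (Fin 2) (Fin 2) F) (hG₁ : G₁ ≠ 0) (hG₂s : G₂ᵀ = G₂)
    (hG₂d : G₂.det ≠ 0) (hgram : gramT e P J = G₁ ⊗ₖ G₂) (hH : H ≤ tensorProductSubgroup s 2 e P) :
    ∃ (T : Matrix (Fin n) (Fin n) F) (δ : F), δ ≠ 0 ∧ T * T = δ • (1 : Matrix (Fin n) (Fin n) F) ∧
      (∀ u v, bfm J (T *ᵥ u) v = - bfm J u (T *ᵥ v)) ∧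
      (∀ g ∈ H, (g : Matrix (Fin n) (Fin n) F) * T = T * (g : Matrix (Fin n) (Fin n) F) ∨
        (g : Matrix (Fin n) (Fin n) F) * T = - (T * (g : Matrix (Fin n) (Fin n) F))) := by
  have hG₂ : G₂ ≠ 0 := ne_zero_of_det_ne_zero (by norm_num) hG₂d
  obtain ⟨b₀, hb₀⟩ : ∃ b₀, b₀ = Cfsg.Agent.Lib.Helper28.SpTnsLeaf.skewRoot G₂ := ⟨_, rfl⟩
  have hsq : b₀ * b₀ = (-G₂.det) • (1 : Matrix (Fin 2) (Fin 2) F) := by
    rw [hb₀]; exact Cfsg.Agent.Lib.Helper28.SpTnsLeaf.skewRoot_sq G₂ hG₂s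
  have htr : b₀ᵀ * G₂ = -(G₂ * b₀) := by
    rw [hb₀]; exact Cfsg.Agent.Lib.Helper28.SpTnsLeaf.skewRoot_transpose_mul G₂ hG₂s
  obtain ⟨M, hM⟩ : ∃ M : Matrix (Fin s × Fin 2) (Fin s × Fin 2) F, M = (1 : Matrix (Fin s) (Fin s) F) ⊗ₖ b₀ :=
    ⟨_, rfl⟩
  refine ⟨conjR e P M, -G₂.det, neg_ne_zero.2 hG₂d, ?_, ?_, ?_⟩
  · rw [← conjR_mul]
    have : M * M = (-G₂.det) • (1 : Matrix (Fin s × Fin 2) (Fin s × Fin 2) F) := by
      rw [hM, ← Matrix.mul_kronecker_mul, one_mul, hsq, Matrix.kronecker_smul, Matrix.one_kronecker_one]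
    rw [this, conjR_smul, conjR_one]
  · intro u v
    obtain ⟨x, rfl⟩ := exists_tvecK e P u
    obtain ⟨y, rfl⟩ := exists_tvecK e P v
    rw [conjR_mulVec_tvecK, conjR_mulVec_tvecK, Cfsg.Agent.Lib.Helper29.SpPrfLeaf.bfm_gramT,
      Cfsg.Agent.Lib.Helper29.SpPrfLeaf.bfm_gramT, hgram, bfm_mulVec_left, bfm_mulVec_right]
    have hMG : Mᵀ * (G₁ ⊗ₖ G₂) = -((G₁ ⊗ₖ G₂) * M) := by
      rw [hM, ← Matrix.kroneckerMap_transpose, Matrix.transpose_one, ← Matrix.mul_kronecker_mul,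
        ← Matrix.mul_kronecker_mul, one_mul, mul_one, htr]
      rw [← neg_one_smul F (G₂ * b₀), Matrix.kronecker_smul, neg_one_smul]
    rw [hMG]
    unfold bfm
    rw [Matrix.neg_mulVec, dotProduct_neg]
  · intro g hg
    obtain ⟨a, b, c, hc, hab, ha, hb⟩ := Cfsg.Agent.Lib.Helper23.SpTnsLeaf.tensor_similitudes e P G₁ G₂ hG₁ hG₂
      hgram g (hHJ hg) (hH hg)
    have hbd : (b : Matrix (Fin 2) (Fin 2) F).det ≠ 0 := by
      have := (Matrix.isUnit_iff_isUnit_det _).1 b.isUnit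
      exact this.ne_zero
    have hcomm := Cfsg.Agent.Lib.Helper28.SpTnsLeaf.skewRoot_comm G₂ hG₂s hG₂d (b : Matrix (Fin 2) (Fin 2) F) c⁻¹ hb hbd
    rw [← hb₀] at hcomm
    rw [hab, ← conjR_mul, ← conjR_mul, hM, ← Matrix.mul_kronecker_mul, ← Matrix.mul_kronecker_mul, one_mul, mul_one]
    rcases hcomm with h | h
    · left
      rw [h]
    · right
      rw [h, ← neg_one_smul F (b₀ * (b : Matrix (Fin 2) (Fin 2) F)), Matrix.kronecker_smul, conjR_smul, neg_one_smul]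

/-- `q` odd, a symmetric second factor of dimension 2: `.funi` or `.pair` -/
theorem oe_odd_sym_two (hJ : EJ Q J) (hHJ : H ≤ isoG J) (hn : 0 < n) (hirr : Irr H) (h2 : (2 : F) ≠ 0) {s : ℕ}
    (e : Fin n ≃ Fin s × Fin 2) (P : GL (Fin n) F)
    (G₁ : Matrix (Fin s) (Fin s) F) (G₂ : Matrix (Fin 2) (Fin 2) F) (hG₁ : G₁ ≠ 0) (hG₂s : G₂ᵀ = G₂)
    (hG₂d : G₂.det ≠ 0) (hgram : gramT e P J = G₁ ⊗ₖ G₂) (hH : H ≤ tensorProductSubgroup s 2 e P) : EGeo Q H := by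
  obtain ⟨T, δ, hδ, hT2, hadj, hnorm⟩ := oe_exists_skew_root hHJ e P G₁ G₂ hG₁ hG₂s hG₂d hgram hH
  exact oe_skew_root_exit hJ hn hirr h2 T δ hδ hT2 hadj hnorm

end Cfsg.Agent.Lib.Helper25.OELeaf
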