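import Mathlib
import Cfsg.Agent.Lib.Lead.OEDefs
import Cfsg.Agent.Lib.Helper29.SpPrfDefs
import Cfsg.Agent.Lib.Helper20.SpTnsDefs
import Cfsg.Agent.Lib.Helper17.SpAschQ0
import Cfsg.Agent.Lib.Helper17.SpAschZ
import Cfsg.Agent.Lib.Helper22.SpTnsCoord
import Cfsg.Agent.Lib.Helper22.SpTnsE4
import Cfsg.Agent.Lib.Helper25.OETnsA
import Cfsg.Agent.Lib.Helper25.OETnsB

/-!
OMEGA-EVEN (planner lead), block [E-TNS] (sub-planner helper25), part C: `q` even.  A non-alternating symmetric factor contradicts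
irreducibility (twin of helper22's `false_of_nonalt`, `H ≤ isoG J` instead of `SpCtx`); both factors alternating: the quadratic form
`Q'` with polar form `bfm J` vanishing on the pure tensors (helper22's construction in `exit_even_c8`) is `H`-invariant, `Q - Q'` is
additive, `λ²`-homogeneous and `H`-invariant, hence zero (helper17's `additive_invariant_zero`): `Q` vanishes on the pure tensors.
-/

set_option autoImplicit false
set_option linter.unusedSectionVars false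
set_option linter.unusedVariables false

namespace Cfsg.Agent.Lib.Helper25.OELeaf
open Matrix Cfsg Cfsg.Geo Cfsg.Agent.Lib.Helper20.Asch Cfsg.Agent.Lib.Helper29.SpAsch Cfsg.Agent.Lib.Lead.OE
  Cfsg.Agent.Lib.Helper20.SpTns Cfsg.Agent.Lib.Helper22.SpTnsLeaf
open scoped Kronecker

variable {F : Type*} [Field F] [Fintype F] {n : ℕ} {Q : (Fin n → F) → F} {J : Matrix (Fin n) (Fin n) F}
  {H N : Subgroup (GL (Fin n) F)}

/-- (E4') EVEN `q`, A NON-ALTERNATING SYMMETRIC SECOND FACTOR: impossible for irreducible `H` (helper22's proof, `J`-generic) -/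
theorem oe_false_of_nonalt (hHJ : H ≤ isoG J) (hirr : Irr H) (h2 : (2 : F) = 0) {s k : ℕ}
    (hs : 0 < s) (hk : 2 ≤ k) (e : Fin n ≃ Fin s × Fin k) (P : GL (Fin n) F)
    (G₁ : Matrix (Fin s) (Fin s) F) (G₂ : Matrix (Fin k) (Fin k) F) (hG₁ : G₁ ≠ 0) (hG₂s : G₂ᵀ = G₂)
    (hG₂nz : ∃ c, G₂ c c ≠ 0) (hgram : gramT e P J = G₁ ⊗ₖ G₂)
    (hH : H ≤ tensorProductSubgroup s k e P) : False := by
  classical
  obtain ⟨c₁, hc₁⟩ := hG₂nz
  have hG₂ : G₂ ≠ 0 := by
    intro h0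
    apply hc₁
    rw [h0]
    rfl
  set W₂ := qzero h2 G₂ hG₂s with hW₂
  have a₀ : Fin s := ⟨0, hs⟩
  -- a non-zero vector of `W₂`
  obtain ⟨y₀, hy₀W, hy₀⟩ : ∃ y₀ ∈ W₂, y₀ ≠ 0 := by
    let d₀ : Fin k := ⟨0, by omega⟩
    let d₁ : Fin k := ⟨1, by omega⟩
    have hd : d₁ ≠ d₀ := by
      intro hh
      have := congrArg Fin.val hh
      simp [d₀, d₁] at this
    by_cases hq : bfm G₂ (Pi.single d₁ (1 : F)) (Pi.single d₁ (1 : F)) = 0
    · refine ⟨Pi.single d₁ (1 : F), hq, ?_⟩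
      intro h0
      have := congrFun h0 d₁
      simp at this
    · have hchar : ringChar F = 2 := by
        apply CharP.ringChar_of_prime_eq_zero Nat.prime_two
        exact_mod_cast h2
      obtain ⟨α, hα⟩ := FiniteField.isSquare_of_char_two hchar
        (bfm G₂ (Pi.single d₀ (1 : F)) (Pi.single d₀ (1 : F)) /
          bfm G₂ (Pi.single d₁ (1 : F)) (Pi.single d₁ (1 : F)))
      refine ⟨Pi.single d₀ (1 : F) + α • Pi.single d₁ (1 : F), ?_, ?_⟩
      · rw [hW₂, mem_qzero, bfm_self_add h2 hG₂s, bfm_self_smul, ← hα, div_mul_cancel₀ _ hq]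
        linear_combination bfm G₂ (Pi.single d₀ (1 : F)) (Pi.single d₀ (1 : F)) * h2
      · intro h0
        have := congrFun h0 d₀
        simp [hd.symm] at this
  -- a vector outside `W₂`
  have hy₁ : Pi.single c₁ (1 : F) ∉ W₂ := by
    rw [hW₂, mem_qzero, bfm_entry]
    exact hc₁
  set W := bigW e P W₂ with hW
  have hinv : ∀ M ∈ matrixSet H, W.map (Matrix.toLin' M) ≤ W := by
    rintro _ ⟨g, hg, rfl⟩ _ ⟨u, hu, rfl⟩
    obtain ⟨a, b, d, hab, hsim⟩ := exists_similitude_right e P G₁ G₂ hG₁ hG₂ hgram (hHJ hg) (hH hg)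
    rw [Matrix.toLin'_apply]
    show (g : Matrix (Fin n) (Fin n) F) *ᵥ u ∈ W
    rw [hab]
    refine bigW_invariant e P W₂ _ _ ?_ hu
    intro y hy
    rw [hW₂, mem_qzero] at hy ⊢
    rw [bfm_mulVec, hsim, Cfsg.Agent.Lib.Helper29.SpPrfLeaf.bfm_smul_mat_c, hy, mul_zero]
  rcases hirr W hinv with hbot | htop
  · -- `W ≠ ⊥`
    have hmem : tvec e P (fun p => y₀ p.2) ∈ W := by
      intro a
      rw [coordK_tvec]
      exact hy₀W
    rw [hbot, Submodule.mem_bot] at hmem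
    apply hy₀
    have h0 := congrArg (coordK e P) hmem
    rw [coordK_tvec, coordK_zero] at h0
    funext c
    exact congrFun h0 (a₀, c)
  · -- `W ≠ ⊤`
    have hmem : tvec e P (fun p => (Pi.single c₁ (1 : F) : Fin k → F) p.2) ∈ W := by
      rw [htop]
      exact Submodule.mem_top
    have := hmem a₀
    rw [coordK_tvec] at this
    exact hy₁ this

/-- in characteristic 2, `-a = a` -/
theorem neg_eq_self_of_two (h2 : (2 : F) = 0) (a : F) : -a = a := by
  have : a + a = 0 := by rw [← two_mul, h2, zero_mul]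
  exact neg_eq_of_add_eq_zero_left this

theorem neg_mat_eq_self_of_two (h2 : (2 : F) = 0) {κ : Type} (M : Matrix κ κ F) : -M = M := by
  ext i j
  rw [Matrix.neg_apply, neg_eq_self_of_two h2]

/-- (E3') EVEN `q`, BOTH FACTORS ALTERNATING: the quadratic form with polar form `bfm J` vanishing on the pure tensors
(helper22's construction) -/
theorem oe_exists_pure_quad (h2 : (2 : F) = 0) {s k : ℕ}
    (e : Fin n ≃ Fin s × Fin k) (P : GL (Fin n) F) (G₁ : Matrix (Fin s) (Fin s) F)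
    (G₂ : Matrix (Fin k) (Fin k) F) (hG₁s : G₁ᵀ = G₁) (hG₁z : ∀ a, G₁ a a = 0) (hG₂s : G₂ᵀ = G₂)
    (hG₂z : ∀ c, G₂ c c = 0) (hgram : gramT e P J = G₁ ⊗ₖ G₂) :
    ∃ Q' : (Fin n → F) → F, (∀ (a : F) (v : Fin n → F), Q' (a • v) = a ^ 2 * Q' v) ∧
      (∀ u v, QuadraticMap.polar Q' u v = bfm J u v) ∧
      ∀ (x : Fin s → F) (y : Fin k → F), Q' (tvec e P (kvec x y)) = 0 := by
  classical
  let T₁ : Matrix (Fin s) (Fin s) F := Matrix.of fun i j => if i < j then G₁ i j else 0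
  have hT : T₁ + T₁ᵀ = G₁ := by
    ext i j
    simp only [Matrix.add_apply, Matrix.transpose_apply, T₁, Matrix.of_apply]
    rcases lt_trichotomy i j with hij | hij | hij
    · rw [if_pos hij, if_neg (not_lt.2 hij.le), add_zero]
    · subst hij; rw [if_neg (lt_irrefl _), add_zero, hG₁z]
    · rw [if_neg (not_lt.2 hij.le), if_pos hij, zero_add]
      have := congrFun (congrFun hG₁s i) j
      rw [Matrix.transpose_apply] at this
      exact this
  let M : Matrix (Fin s × Fin k) (Fin s × Fin k) F := T₁ ⊗ₖ G₂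
  have hMM : M + Mᵀ = gramT e P J := by
    rw [hgram]
    show T₁ ⊗ₖ G₂ + (T₁ ⊗ₖ G₂)ᵀ = _
    rw [← Matrix.kroneckerMap_transpose, hG₂s, ← Matrix.add_kronecker, hT]
  refine ⟨fun u => bfm M (coordK e P u) (coordK e P u), ?_, ?_, ?_⟩
  · intro a v
    show bfm M (coordK e P (a • v)) (coordK e P (a • v)) = a ^ 2 * bfm M (coordK e P v) (coordK e P v)
    rw [coordK_smul, bfm_smul_left, bfm_smul_right]; ring
  · intro u v
    unfold QuadraticMap.polar
    show bfm M (coordK e P (u + v)) (coordK e P (u + v)) - bfm M (coordK e P u) (coordK e P u)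
      - bfm M (coordK e P v) (coordK e P v) = _
    rw [coordK_add, bfm_add_left, bfm_add_right, bfm_add_right]
    have h1 : bfm J u v = bfm M (coordK e P u) (coordK e P v) + bfm M (coordK e P v) (coordK e P u) := by
      conv_lhs => rw [← tvec_coordK e P u, ← tvec_coordK e P v]
      rw [Cfsg.Agent.Lib.Helper29.SpPrfLeaf.bfm_gramT, ← hMM, Cfsg.Agent.Lib.Helper29.SpPrfLeaf.bfm_add_mat_c,
        Cfsg.Agent.Lib.Helper29.SpPrfLeaf.bfm_transpose_c]
    rw [h1]; ring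
  · intro x y
    show bfm M (coordK e P (tvec e P (kvec x y))) (coordK e P (tvec e P (kvec x y))) = 0
    rw [coordK_tvec]
    show bfm (T₁ ⊗ₖ G₂) (kvec x y) (kvec x y) = 0
    rw [bfm_kron_kvecK]
    have hz : bfm G₂ y y = 0 := by
      rw [bfm_eq_bf]
      refine Cfsg.Agent.Lib.Helper27.AschO4.bf_alt G₂ ?_ hG₂z _
      rw [hG₂s, neg_mat_eq_self_of_two h2]
    rw [hz, mul_zero]

/-- EVEN `q`, both factors alternating, `H` irreducible: `Q` vanishes on the pure tensors -/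
theorem oe_even_pure_zero (hJ : EJ Q J) (hHQ : H ≤ isometryGroup F Q) (hn : 2 ≤ n) (hirr : Irr H)
    (h2 : (2 : F) = 0) {s k : ℕ} (e : Fin n ≃ Fin s × Fin k) (P : GL (Fin n) F) (G₁ : Matrix (Fin s) (Fin s) F)
    (G₂ : Matrix (Fin k) (Fin k) F) (hG₁s : G₁ᵀ = G₁) (hG₁z : ∀ a, G₁ a a = 0) (hG₂s : G₂ᵀ = G₂)
    (hG₂z : ∀ c, G₂ c c = 0) (hgram : gramT e P J = G₁ ⊗ₖ G₂) (hH : H ≤ tensorProductSubgroup s k e P)
    (x : Fin s → F) (y : Fin k → F) : Q (tvec e P (kvec x y)) = 0 := by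
  obtain ⟨Q', hsm', hpol', hpure'⟩ := oe_exists_pure_quad h2 e P G₁ G₂ hG₁s hG₁z hG₂s hG₂z hgram
  have hHJ : H ≤ isoG J := hHQ.trans (ej_le_isoG hJ)
  -- `Q'` is `H`-invariant
  have hinv' : ∀ g ∈ H, ∀ v : Fin n → F, Q' ((g : Matrix (Fin n) (Fin n) F) *ᵥ v) = Q' v := by
    intro g hg v
    obtain ⟨hadd, hsm⟩ := Cfsg.Agent.Lib.Helper17.SpAschLeaf.defect_props Q' hsm' hpol' g (hHJ hg)
    have hv : v ∈ Submodule.span F
        {u : Fin n → F | ∃ (x : Fin s → F) (y : Fin k → F), u = tvec e P (kvec x y)} := by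
      rw [span_tvec_kvecK e P]; exact Submodule.mem_top
    have key : Q' ((g : Matrix (Fin n) (Fin n) F) *ᵥ v) - Q' v = 0 := by
      induction hv using Submodule.span_induction with
      | mem u hu =>
        obtain ⟨x', y', rfl⟩ := hu
        obtain ⟨a, b, hab⟩ := (mem_tensorProductSubgroup_iff e P g).mp (hH hg)
        rw [hpure', hab, conjR_mulVec_tvecK, kron_mulVec_kvecK, hpure', sub_zero]
      | zero =>
        rw [Matrix.mulVec_zero, sub_self]
      | add u w _ _ hu hw => rw [hadd, hu, hw, add_zero]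
      | smul a u _ hu => rw [hsm, hu, mul_zero]
    exact sub_eq_zero.mp key
  have hD := Cfsg.Agent.Lib.Helper17.SpAschLeaf.additive_invariant_zero hn h2 hirr (fun v => Q v - Q' v)
    (by
      intro u v
      have e1 := hJ.pol u v
      have e2 := hpol' u v
      unfold QuadraticMap.polar at e1 e2
      show Q (u + v) - Q' (u + v) = (Q u - Q' u) + (Q v - Q' v)
      linear_combination e1 - e2)
    (by
      intro a v
      show Q (a • v) - Q' (a • v) = a ^ 2 * (Q v - Q' v)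
      rw [hJ.smul, hsm']; ring)
    (by
      intro g hg v
      show Q ((g : Matrix (Fin n) (Fin n) F) *ᵥ v) - Q' ((g : Matrix (Fin n) (Fin n) F) *ᵥ v) = Q v - Q' v
      rw [hinv' g hg v, show Q ((g : Matrix (Fin n) (Fin n) F) *ᵥ v) = Q v from hHQ hg v v])
  have := hD (tvec e P (kvec x y))
  simp only [hpure', sub_zero] at this
  exact this

/-- EVEN `q`: first factor alternating, second factor symmetric -/
theorem oe_even_alt_sym (hJ : EJ Q J) (hHQ : H ≤ isometryGroup F Q) (hn : 2 ≤ n) (hirr : Irr H)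
    (h2 : (2 : F) = 0) {s k : ℕ} (hs : 2 ≤ s) (hk : 2 ≤ k) (e : Fin n ≃ Fin s × Fin k) (P : GL (Fin n) F)
    (G₁ : Matrix (Fin s) (Fin s) F) (G₂ : Matrix (Fin k) (Fin k) F) (hG₁ : IsAltGram G₁) (hG₂s : G₂ᵀ = G₂)
    (hG₂d : G₂.det ≠ 0) (hgram : gramT e P J = G₁ ⊗ₖ G₂) (hH : H ≤ tensorProductSubgroup s k e P) :
    EGeo Q H := by
  have hHJ : H ≤ isoG J := hHQ.trans (ej_le_isoG hJ)
  by_cases hz : ∀ c, G₂ c c = 0
  · have hG₁s : G₁ᵀ = G₁ := by rw [hG₁.skew, neg_mat_eq_self_of_two h2]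
    have hA₂ : IsAltGram G₂ := ⟨by rw [hG₂s, neg_mat_eq_self_of_two h2], hz, hG₂d⟩
    exact oe_exit_talt hJ hs hk e P G₁ G₂ hG₁ hA₂ hgram
      (oe_even_pure_zero hJ hHQ hn hirr h2 e P G₁ G₂ hG₁s hG₁.diag hG₂s hz hgram hH) hH
  · push Not at hz
    have hG₁ne : G₁ ≠ 0 := ne_zero_of_det_ne_zero (by omega) hG₁.det
    exact (oe_false_of_nonalt hHJ hirr h2 (by omega) hk e P G₁ G₂ hG₁ne hG₂s hz hgram hH).elim

end Cfsg.Agent.Lib.Helper25.OELeaf
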