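import Mathlib
import Cfsg.Agent.Lib.Lead.OEDefs
import Cfsg.Agent.Lib.Helper4.AschA1
import Cfsg.Agent.Lib.Helper20.AschTS
import Cfsg.Agent.Lib.Helper29.AschKF2
import Cfsg.Agent.Lib.Helper29.AschS1K1
import Cfsg.Agent.Lib.Helper26.AschNL
import Cfsg.Agent.Lib.Helper9.TensSwap
import Cfsg.Agent.Lib.Helper17.SpAschZ
import Cfsg.Agent.Lib.Helper20.SpTnsBasic
import Cfsg.Agent.Lib.Helper23.SpPrfB1
import Cfsg.Agent.Lib.Helper23.SpTnsK2
import Cfsg.Agent.Lib.Helper25.OAschTNSb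
import Cfsg.Agent.Lib.Helper25.OETnsA
import Cfsg.Agent.Lib.Helper25.OETnsB
import Cfsg.Agent.Lib.Helper25.OETnsC

/-!
OMEGA-EVEN (planner lead), block [E-TNS] (helper25): `egeo_of_tensor` with the exact signature of `notes/OmEven_leaves.lean`.
`J := gramMatrix (polar Q)` (`EJ Q J`, part A); `H ≤ tensorProductSubgroup` (helper26's `normalizer_le_tensor` + helper29's
`env_conj`); `gramT e P J = G₁ ⊗ G₂` (my `gram_kron` of S5673 O-TNS, any invertible Gram matrix).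
`q` odd: both factors symmetric or both skew (`kron_symm_cases`); symmetric, dimensions `≥ 3` -> `.tsym`; a symmetric factor of dimension
2 -> `.funi` / `.pair` (parts A, B; twins of helper28's X1/X2/E2 of S5662-TNS); skew -> `.talt`.
`q` even: `J` alternating, helper23's `kron_alt_cases`; a non-alternating factor contradicts `Irr H`; both alternating -> `.talt`
(part C; helper22's E3/E4 constructions + helper17's `additive_invariant_zero`).
-/

set_option autoImplicit false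
set_option linter.unusedSectionVars false
set_option linter.unusedVariables false

namespace Cfsg.Agent.Lib.Helper25.OELeaf
open Matrix Cfsg Cfsg.Geo Cfsg.Agent.Lib.Helper20.Asch Cfsg.Agent.Lib.Lead.OE
open scoped Kronecker

variable {F : Type*} [Field F] [Fintype F] {n : ℕ} {Q : (Fin n → F) → F}
  {H N : Subgroup (GL (Fin n) F)}

/-- [E-TNS] -/
theorem egeo_of_tensor (h : ECtx Q H) (hn : 3 ≤ n) (hirr : Irr H) (hN : N ≤ H) (hnorm : NormBy H N)
    {s k : ℕ} (hs : 2 ≤ s) (hk : 2 ≤ k) (e : Fin n ≃ Fin s × Fin k) (P : GL (Fin n) F)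
    (h1 : ∀ A : Matrix (Fin s) (Fin s) F, conjR e P (A ⊗ₖ (1 : Matrix (Fin k) (Fin k) F)) ∈ Env N)
    (h2 : ∀ T ∈ Env N, ∃ A : Matrix (Fin s) (Fin s) F,
      T = conjR e P (A ⊗ₖ (1 : Matrix (Fin k) (Fin k) F))) : EGeo Q H := by
  have hJ := ej_of_nd h.nd
  obtain ⟨J, hJdef⟩ : ∃ J, J = gramMatrix (QuadraticMap.polar Q) := ⟨_, rfl⟩
  rw [← hJdef] at hJ
  have hHJ : H ≤ Cfsg.Agent.Lib.Helper29.SpAsch.isoG J := h.le.trans (ej_le_isoG hJ)
  have hH : H ≤ tensorProductSubgroup s k e P := by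
    intro g hg
    apply Cfsg.Agent.Lib.Helper26.AschLeaf.normalizer_le_tensor e P g
    intro A
    exact h2 _ (Cfsg.Agent.Lib.Helper29.AschLeaf.env_conj hnorm g hg _ (h1 A))
  obtain ⟨G₁, G₂, hG⟩ := Cfsg.Agent.Lib.Helper25.OAschLeaf.gram_kron hJ.det (hN.trans hHJ) (by omega) (by omega)
    e P h1 h2
  have hgram : Cfsg.Agent.Lib.Helper29.SpAsch.gramT e P J = G₁ ⊗ₖ G₂ := hG
  obtain ⟨hsym, hdet⟩ := gramT_symm_det hJ e P
  rw [hgram] at hsym hdet
  obtain ⟨hd₁, hd₂⟩ := kron_det_ne_zero (by omega) (by omega) G₁ G₂ hdet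
  by_cases hodd : Odd (Fintype.card F)
  · have h2' : (2 : F) ≠ 0 := Cfsg.Agent.Lib.Helper17.SpAschLeaf.two_ne_zero_of_odd hodd
    rcases kron_symm_cases (by omega) (by omega) G₁ G₂ hsym hdet with ⟨hG₁s, hG₂s⟩ | ⟨hG₁a, hG₂a⟩
    · -- both symmetric
      rcases Nat.lt_or_ge k 3 with hk3 | hk3
      · have hk2 : k = 2 := by omega
        subst hk2
        exact oe_odd_sym_two hJ hHJ (by omega) hirr h2' e P G₁ G₂ (ne_zero_of_det_ne_zero (by omega) hd₁) hG₂s hd₂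
          hgram hH
      rcases Nat.lt_or_ge s 3 with hs3 | hs3
      · have hs2 : s = 2 := by omega
        subst hs2
        have hgram' := Cfsg.Agent.Lib.Helper20.SpTnsLeaf.gramT_swap e P G₁ G₂ hgram
        rw [Cfsg.Agent.Lib.Helper9.TensSwap.tensorProductSubgroup_swap] at hH
        exact oe_odd_sym_two hJ hHJ (by omega) hirr h2' _ P G₂ G₁ (ne_zero_of_det_ne_zero (by omega) hd₂) hG₁s hd₁
          hgram' hH
      · exact oe_exit_tsym hJ hodd hs3 hk3 e P G₁ G₂ hG₁s hG₂s hd₁ hd₂ hgram hH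
    · exact oe_exit_talt_odd hJ h2' hs hk e P G₁ G₂ hG₁a hG₂a hd₁ hd₂ hgram hH
  · have h2' : (2 : F) = 0 := Cfsg.Agent.Lib.Helper17.SpAschLeaf.two_eq_zero_of_not_odd hodd
    have hJalt : Cfsg.Agent.Lib.Helper29.SpAsch.IsAltGram J := by
      refine ⟨by rw [hJ.symm, neg_mat_eq_self_of_two h2'], fun i => ?_, hJ.det⟩
      rw [← Cfsg.Agent.Lib.Helper29.SpAsch.bfm_entry (J := J) i i, ej_self hJ, h2', zero_mul]
    have halt := Cfsg.Agent.Lib.Helper23.SpPrfLeaf.isAltGram_gramT hJalt e P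
    rw [hgram] at halt
    rcases Cfsg.Agent.Lib.Helper23.SpTnsLeaf.kron_alt_cases (by omega) (by omega) G₁ G₂ halt with
      ⟨hG₁, hG₂s, hG₂d⟩ | ⟨hG₁s, hG₁d, hG₂⟩
    · exact oe_even_alt_sym hJ h.le (by omega) hirr h2' hs hk e P G₁ G₂ hG₁ hG₂s hG₂d hgram hH
    · have hgram' := Cfsg.Agent.Lib.Helper20.SpTnsLeaf.gramT_swap e P G₁ G₂ hgram
      rw [Cfsg.Agent.Lib.Helper9.TensSwap.tensorProductSubgroup_swap] at hH
      exact oe_even_alt_sym hJ h.le (by omega) hirr h2' hk hs _ P G₂ G₁ hG₂ hG₁s hG₁d hgram' hH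

end Cfsg.Agent.Lib.Helper25.OELeaf
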