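/-
helper25: S2344 leaf (CONB2) `normalClosure_rad_O` (planner helper26, notes/S2344_leaves.lean):
the centre of the Siegel radical generates `Ω_{2n+1}(F)` as a normal subgroup.
Adaptation of helper19's `OPMinCon2` (the `Ω⁺_{2n}` case) to the odd form.
-/
import Cfsg.Agent.Lib.Helper25.Siegel2
import Cfsg.Agent.Lib.Helper25.SpinGL
import Cfsg.Agent.Lib.Helper26.OOMinDefs

set_option autoImplicit false

namespace Cfsg.Agent.Lib.Helper25.OOMin

open Matrix Module QuadraticMap Cfsg.Agent.Lib.Helper27.OPMin Cfsg.Agent.Lib.Helper26.OOMin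
open Cfsg.Agent.Lib.Helper25.Siegel Cfsg.Agent.Lib.Helper25.CD Cfsg.Agent.Lib.Helper25.MaxTS
open Cfsg.Agent.Lib.Helper25.Spin Cfsg.Agent.Lib.Helper25.Fam Cfsg.Agent.Lib.Helper14

section gen

variable {F : Type*} [Field F] {ι : Type} [Fintype ι] [DecidableEq ι]

omit [Fintype ι] [DecidableEq ι] in
/-- a totally singular pair spans a totally singular subspace -/
theorem ts_span_pair' (Q : QuadraticForm F (ι → F)) {u v : ι → F}
    (hu : Q u = 0) (hv : Q v = 0) (huv : polar Q u v = 0) :
    TS Q (Submodule.span F (Set.range ![u, v])) := by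
  intro w hw
  rw [Matrix.range_cons_cons_empty, Submodule.mem_span_pair] at hw
  obtain ⟨a, b, rfl⟩ := hw
  rw [QuadraticMap.map_add Q, QuadraticMap.map_smul, QuadraticMap.map_smul, hu, hv,
    polar_smul_left, polar_smul_right, huv]
  simp

/-- the dependent case: the Siegel matrix is trivial -/
theorem siegelMatrix_eq_one_of_dep' (Q : QuadraticForm F (ι → F))
    {u v : ι → F} (c : F) (h : ¬ LinearIndependent F ![u, v]) :
    Cfsg.siegelMatrix ⇑Q u v c = 1 := by
  rw [LinearIndependent.pair_iff] at h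
  push Not at h
  obtain ⟨s, t, hst, hne⟩ := h
  apply Matrix.toLin'.injective
  apply LinearMap.ext
  intro x
  rw [Matrix.toLin'_apply, siegelMatrix_mulVec, Matrix.toLin'_one, LinearMap.id_apply]
  unfold siegF
  suffices hz : polar Q u x • v - polar Q v x • u = 0 by rw [hz, smul_zero, add_zero]
  by_cases hs : s = 0
  · have ht : t ≠ 0 := hne hs
    rw [hs, zero_smul, zero_add] at hst
    have hv0 : v = 0 := by
      rcases smul_eq_zero.1 hst with h | h
      · exact absurd h ht
      · exact h
    rw [hv0]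
    simp
  · have hu' : u = (-(t / s)) • v := by
      have : s • u = -(t • v) := eq_neg_of_add_eq_zero_left hst
      have h2 : u = s⁻¹ • (s • u) := by rw [smul_smul, inv_mul_cancel₀ hs, one_smul]
      rw [h2, this, smul_neg, smul_smul, neg_smul]
      congr 2
      field_simp
    rw [hu', polar_smul_left, smul_eq_mul, mul_smul, smul_comm]
    simp

/-- conjugation formula for long root elements -/
theorem conj_siegG_eq' (Q : QuadraticForm F (ι → F))
    (k : ↥(Cfsg.isometryGroup F ⇑Q)) (u v : ι → F) (c : F) (hu : Q u = 0)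
    (hv : Q v = 0) (huv : polar Q u v = 0)
    (hu' : Q (toOG Q k u) = 0) (hv' : Q (toOG Q k v) = 0)
    (huv' : polar Q (toOG Q k u) (toOG Q k v) = 0) :
    k * siegG Q u v c hu hv huv * k⁻¹ =
      siegG Q (toOG Q k u) (toOG Q k v) c hu' hv' huv' := by
  have hk : ∀ x, Q (toOG Q k x) = Q x := toOG_mem_OG Q k
  have hpol : ∀ x y, polar Q (toOG Q k x) (toOG Q k y) = polar Q x y :=
    polar_of_iso Q hk
  apply toOG_injective
  ext1 x
  rw [map_mul, map_mul, map_inv, LinearEquiv.mul_apply, LinearEquiv.mul_apply, toOG_siegG,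
    toOG_siegG]
  unfold siegF
  have h1 : polar Q (toOG Q k u) x = polar Q u ((toOG Q k)⁻¹ x) := by
    have := hpol u ((toOG Q k)⁻¹ x)
    rw [apply_inv_self'] at this
    exact this
  have h2 : polar Q (toOG Q k v) x = polar Q v ((toOG Q k)⁻¹ x) := by
    have := hpol v ((toOG Q k)⁻¹ x)
    rw [apply_inv_self'] at this
    exact this
  rw [h1, h2, map_add, map_smul, map_sub, map_smul, map_smul, apply_inv_self']

end gen

section prep

variable {F : Type*} [Field F] {n : ℕ}

/-- the odd form as a Mathlib quadratic form -/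
noncomputable abbrev QO (n : ℕ) (F : Type*) [Field F] (h2 : (2 : F) ≠ 0) :
    QuadraticForm F (IO n → F) :=
  qfOf (isQF_odd (F := F) (m := n) h2)

/-- the standard totally singular subspace `{x₀ = 0, y = 0}` -/
def inEO (a : Fin n → F) : IO n → F := Sum.elim (0 : Unit → F) (Sum.elim a (0 : Fin n → F))

theorem QO_inEO (h2 : (2 : F) ≠ 0) (a : Fin n → F) : QO n F h2 (inEO a) = 0 := by
  show Cfsg.quadFormOdd n F (inEO a) = 0
  unfold Cfsg.quadFormOdd inEO
  simp

theorem inEO_add (a b : Fin n → F) : inEO (a + b) = inEO a + inEO b := by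
  funext j
  rcases j with u | i | i <;> simp [inEO]

theorem inEO_smul (c : F) (a : Fin n → F) : inEO (c • a) = c • inEO a := by
  funext j
  rcases j with u | i | i <;> simp [inEO]

theorem polarVec_inEO (h2 : (2 : F) ≠ 0) (a : Fin n → F) :
    Cfsg.polarVec (Cfsg.quadFormOdd n F) (inEO a) =
      Sum.elim (0 : Unit → F) (Sum.elim (0 : Fin n → F) a) := by
  classical
  funext j
  have h : Cfsg.polarVec (Cfsg.quadFormOdd n F) (inEO a) j
      = oddPolar n F (inEO a) (Pi.single j 1) :=
    polar_qfOf (isQF_odd (F := F) (m := n) h2) (inEO a) (Pi.single j 1)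
  rw [h]
  unfold oddPolar inEO
  rcases j with u | i | i
  · simp
  · simp [Pi.single_apply]
  · simp [Pi.single_apply]

theorem siegelMatrix_inEO (h2 : (2 : F) ≠ 0) (a b : Fin n → F) (c : F) :
    Cfsg.siegelMatrix (Cfsg.quadFormOdd n F) (inEO a) (inEO b) c =
      radMatO (c • vecMulVec b a) := by
  classical
  unfold Cfsg.siegelMatrix radMatO embO radMat
  rw [polarVec_inEO h2, polarVec_inEO h2]
  ext (u | i | i) (u' | j | j) <;>
    simp [inEO, vecMulVec_apply, Matrix.one_apply, Matrix.add_apply, Matrix.sub_apply,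
      Matrix.smul_apply, mul_sub]

/-- members of the span of two `inEO` vectors are `inEO` vectors -/
theorem exists_inEO_of_mem_span {a₀ b₀ : Fin n → F} {w : IO n → F}
    (hw : w ∈ Submodule.span F (Set.range ![inEO a₀, inEO b₀])) :
    ∃ a : Fin n → F, w = inEO a := by
  rw [Matrix.range_cons_cons_empty, Submodule.mem_span_pair] at hw
  obtain ⟨s, t, rfl⟩ := hw
  exact ⟨s • a₀ + t • b₀, by rw [inEO_add, inEO_smul, inEO_smul]⟩

end prep

section main

variable {F : Type*} [Field F] [Fintype F] {n : ℕ}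

theorem rootSet_subset_O (hn : 3 ≤ n) (h2 : (2 : F) ≠ 0)
    (D : SiegelB F n ↥(Cfsg.Omega F (Cfsg.quadFormOdd n F)))
    (hD : ∀ R, omMatO (D.rad R) = radMatO R)
    (s : ↥(Cfsg.isometryGroup F (Cfsg.quadFormOdd n F))) (hs : s ∈ rootSet (QO n F h2)) :
    s ∈ (Subgroup.normalClosure (Set.range D.rad)).map
      (Cfsg.Omega F (Cfsg.quadFormOdd n F)).subtype := by
  classical
  have hQ : (polarBilin (QO n F h2)).Nondegenerate := qfOf_nondeg _
  obtain ⟨u, v, c, hu, hv, huv, hmat⟩ := hs
  by_cases hli : LinearIndependent F ![u, v]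
  · -- the independent case
    have hUfin : finrank F (Submodule.span F (Set.range ![u, v])) = 2 := by
      rw [finrank_span_eq_card hli]; simp
    have hUTS := ts_span_pair' (QO n F h2) hu hv huv
    let i0 : Fin n := ⟨0, by omega⟩
    let i1 : Fin n := ⟨1, by omega⟩
    have h01 : i0 ≠ i1 := by
      intro h
      have := congrArg Fin.val h
      simp [i0, i1] at this
    have hli' : LinearIndependent F
        ![inEO (Pi.single i0 (1 : F)), inEO (Pi.single i1 (1 : F))] := by
      rw [LinearIndependent.pair_iff]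
      intro a b hab
      have h0 := congrFun hab (Sum.inr (Sum.inl i0))
      have h1 := congrFun hab (Sum.inr (Sum.inl i1))
      simp [inEO, h01, h01.symm] at h0 h1
      exact ⟨h0, h1⟩
    have hWfin : finrank F (Submodule.span F
        (Set.range ![inEO (Pi.single i0 (1 : F)), inEO (Pi.single i1 (1 : F))])) = 2 := by
      rw [finrank_span_eq_card hli']; simp
    have hWTS := ts_span_pair' (QO n F h2) (QO_inEO h2 (Pi.single i0 (1 : F)))
      (QO_inEO h2 (Pi.single i1 (1 : F)))
      (by
        unfold polar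
        rw [← inEO_add, QO_inEO, QO_inEO, QO_inEO]; simp)
    obtain ⟨g, hgΩ, hgU⟩ : ∃ g : ↥(Cfsg.isometryGroup F (Cfsg.quadFormOdd n F)),
        g ∈ Cfsg.Omega F (Cfsg.quadFormOdd n F) ∧
        (Submodule.span F (Set.range ![u, v])).map
          ((toOG (QO n F h2) g : (IO n → F) ≃ₗ[F] (IO n → F)) :
            (IO n → F) →ₗ[F] (IO n → F)) =
          Submodule.span F
            (Set.range ![inEO (Pi.single i0 (1 : F)), inEO (Pi.single i1 (1 : F))]) :=
      omega_trans_ts (QO n F h2) hQ
        (Or.inr (by simp; omega)) (k := 2) (by simp; omega) hUfin hWfin hUTS hWTS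
    have hgu : toOG (QO n F h2) g u ∈ Submodule.span F
        (Set.range ![inEO (Pi.single i0 (1 : F)), inEO (Pi.single i1 (1 : F))]) := by
      rw [← hgU]
      exact Submodule.mem_map_of_mem (Submodule.subset_span ⟨0, rfl⟩)
    have hgv : toOG (QO n F h2) g v ∈ Submodule.span F
        (Set.range ![inEO (Pi.single i0 (1 : F)), inEO (Pi.single i1 (1 : F))]) := by
      rw [← hgU]
      exact Submodule.mem_map_of_mem (Submodule.subset_span ⟨1, rfl⟩)
    obtain ⟨a, ha⟩ := exists_inEO_of_mem_span hgu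
    obtain ⟨b, hb⟩ := exists_inEO_of_mem_span hgv
    have hk : ∀ x, QO n F h2 (toOG (QO n F h2) g x) = QO n F h2 x := toOG_mem_OG (QO n F h2) g
    have hpol : ∀ x y, polar (QO n F h2) (toOG (QO n F h2) g x) (toOG (QO n F h2) g y)
        = polar (QO n F h2) x y := polar_of_iso (QO n F h2) hk
    have hu' : QO n F h2 (toOG (QO n F h2) g u) = 0 := by rw [hk, hu]
    have hv' : QO n F h2 (toOG (QO n F h2) g v) = 0 := by rw [hk, hv]
    have huv' : polar (QO n F h2) (toOG (QO n F h2) g u) (toOG (QO n F h2) g v) = 0 := by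
      rw [hpol, huv]
    have hs1 : s = siegG (QO n F h2) u v c hu hv huv :=
      eq_siegG_of_coe (QO n F h2) hu hv huv hmat
    have hconj := conj_siegG_eq' (QO n F h2) g u v c hu hv huv hu' hv' huv'
    -- the conjugate is `D.rad R`
    have hR : g * s * g⁻¹ =
        ((D.rad (c • vecMulVec b a) : ↥(Cfsg.Omega F (Cfsg.quadFormOdd n F))) :
          ↥(Cfsg.isometryGroup F (Cfsg.quadFormOdd n F))) := by
      rw [hs1]
      refine hconj.trans ?_
      apply Subtype.ext
      apply Units.ext
      have hD' := hD (c • vecMulVec b a)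
      unfold omMatO at hD'
      rw [hD']
      show Cfsg.siegelMatrix (Cfsg.quadFormOdd n F) (toOG (QO n F h2) g u)
        (toOG (QO n F h2) g v) c = _
      rw [ha, hb, siegelMatrix_inEO h2]
    let γ : ↥(Cfsg.Omega F (Cfsg.quadFormOdd n F)) := ⟨g, hgΩ⟩
    refine ⟨γ⁻¹ * D.rad (c • vecMulVec b a) * γ, ?_, ?_⟩
    · exact (Subgroup.normalClosure_normal).conj_mem' _
        (Subgroup.subset_normalClosure (Set.mem_range_self _)) γ
    · show ((γ⁻¹ * D.rad (c • vecMulVec b a) * γ : ↥(Cfsg.Omega F (Cfsg.quadFormOdd n F))) :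
          ↥(Cfsg.isometryGroup F (Cfsg.quadFormOdd n F))) = s
      rw [Subgroup.coe_mul, Subgroup.coe_mul, Subgroup.coe_inv, ← hR]
      show g⁻¹ * (g * s * g⁻¹) * g = s
      group
  · -- the dependent case: `s = 1`
    have h1 : s = 1 := by
      apply Subtype.ext
      apply Units.ext
      rw [hmat]
      exact siegelMatrix_eq_one_of_dep' (QO n F h2) c hli
    rw [h1]
    exact one_mem _

/-- CONB2: the centre of the Siegel radical generates `Ω` as a normal subgroup. -/
theorem normalClosure_rad_O (hn : 3 ≤ n) (hq : 3 < Fintype.card F) (hchar : (2 : F) ≠ 0)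
    (D : SiegelB F n ↥(Cfsg.Omega F (Cfsg.quadFormOdd n F)))
    (hD : ∀ R, omMatO (D.rad R) = radMatO R) :
    Subgroup.normalClosure (Set.range D.rad) = ⊤ := by
  have hQ : (polarBilin (QO n F hchar)).Nondegenerate := qfOf_nondeg _
  have hcard : 7 ≤ Fintype.card (IO n) := by
    simp only [Fintype.card_sum, Fintype.card_fin, Fintype.card_unit]; omega
  have hΩ : Cfsg.Omega F (Cfsg.quadFormOdd n F) = Subgroup.closure (rootSet (QO n F hchar)) :=
    omega_eq_root' (QO n F hchar) hQ hcard
  have hle : Subgroup.closure (rootSet (QO n F hchar)) ≤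
      (Subgroup.normalClosure (Set.range D.rad)).map
        (Cfsg.Omega F (Cfsg.quadFormOdd n F)).subtype :=
    (Subgroup.closure_le _).2 (fun s hs => rootSet_subset_O hn hchar D hD s hs)
  rw [eq_top_iff]
  intro x _
  have hx : (x : ↥(Cfsg.isometryGroup F (Cfsg.quadFormOdd n F))) ∈
      Subgroup.closure (rootSet (QO n F hchar)) := by
    rw [← hΩ]; exact x.2
  obtain ⟨y, hy, hyx⟩ := hle hx
  have : y = x := Subtype.ext hyx
  rw [← this]
  exact hy

end main

end Cfsg.Agent.Lib.Helper25.OOMin
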