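import Mathlib
import Cfsg.Agent.Lib.Helper25.OTLInst
import Cfsg.Agent.Lib.Helper18.OSubR2
import Cfsg.Agent.Lib.Helper24.SOTBNF

/-!
S5681 / S5709: the reduction (a) of `notes/S5681_LA_plan.md` §1: transport of the overgroup context along the
change of coordinates `1 ⊗ P` of the root side `B`:  `G2' := Pᵀ G2 P`, `M' := (1⊗P)⁻¹ M (1⊗P)` (`conjM P M`).

* `QV_congr` : `QV G1 (Pᵀ G2 P) = (QV G1 G2).comp (1 ⊗ P)`;
* `mem_OmV_congr` : `g ∈ OmV G1 (Pᵀ G2 P) ↔ (1⊗P) g (1⊗P)⁻¹ ∈ OmV G1 G2`;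
* `mctx_congr` : `MCtx a b G1 G2 M → MCtx a b G1 (Pᵀ G2 P) (conjM P M)`;
* `conj_rtV`, `conj_kB` : transport of the root elements.
-/

set_option autoImplicit false
set_option linter.unusedSectionVars false
set_option linter.unusedVariables false

namespace Cfsg.Agent.Lib.Helper25.OT
open Matrix QuadraticMap
open Cfsg.Agent.Lib.Helper25.Tens Cfsg.Agent.Lib.Helper19.OSub Cfsg.Agent.Lib.Helper2.SOT
open Cfsg.Agent.Lib.Helper7.OTT
open scoped Kronecker

variable {F : Type*} [Field F] {a b : ℕ}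
variable {G1 : Matrix (Fin a) (Fin a) F} {G2 : Matrix (Fin b) (Fin b) F}

/-- `1 ⊗ P` -/
abbrev kP {a : ℕ} (P : GL (Fin b) F) : GL (Idx a b) F := kel (1 : GL (Fin a) F) P

/-- the Gram matrix in the new coordinates -/
abbrev G2c (G2 : Matrix (Fin b) (Fin b) F) (P : GL (Fin b) F) : Matrix (Fin b) (Fin b) F :=
  P.1ᵀ * G2 * P.1

/-- the overgroup in the new coordinates: `(1⊗P)⁻¹ M (1⊗P)` -/
def conjM (P : GL (Fin b) F) (M : Subgroup (GL (Idx a b) F)) : Subgroup (GL (Idx a b) F) :=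
  M.comap (MulAut.conj (kP P : GL (Idx a b) F)).toMonoidHom

lemma mem_conjM {P : GL (Fin b) F} {M : Subgroup (GL (Idx a b) F)} {g : GL (Idx a b) F} :
    g ∈ conjM P M ↔ (kP P : GL (Idx a b) F) * g * (kP P : GL (Idx a b) F)⁻¹ ∈ M := Iff.rfl

lemma kron_congr (G1 : Matrix (Fin a) (Fin a) F) (G2 : Matrix (Fin b) (Fin b) F)
    (P : GL (Fin b) F) :
    ((kP P : GL (Idx a b) F) : Matrix (Idx a b) (Idx a b) F)ᵀ * (G1 ⊗ₖ G2) *
      ((kP P : GL (Idx a b) F) : Matrix (Idx a b) (Idx a b) F) = G1 ⊗ₖ G2c G2 P := by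
  show (((1 : GL (Fin a) F) : Matrix (Fin a) (Fin a) F) ⊗ₖ (P : Matrix (Fin b) (Fin b) F))ᵀ *
    (G1 ⊗ₖ G2) * (((1 : GL (Fin a) F) : Matrix (Fin a) (Fin a) F) ⊗ₖ
      (P : Matrix (Fin b) (Fin b) F)) = _
  rw [Units.val_one, ← Matrix.kroneckerMap_transpose, Matrix.transpose_one,
    ← Matrix.mul_kronecker_mul, ← Matrix.mul_kronecker_mul, Matrix.one_mul, Matrix.mul_one]

/-- the quadratic form in the new coordinates -/
lemma QG_comp {κ : Type} [Fintype κ] [DecidableEq κ] (K P : Matrix κ κ F) :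
    (QG K).comp (Matrix.toLin' P) = QG (Pᵀ * K * P) := by
  ext v
  rw [QuadraticMap.comp_apply, Matrix.toLin'_apply, QG_apply, QG_apply,
    Cfsg.Agent.Lib.Helper12.UOGLeaf.mulVec_dot, Matrix.mulVec_mulVec, Matrix.mulVec_mulVec,
    Matrix.mul_assoc]

lemma QV_congr (G1 : Matrix (Fin a) (Fin a) F) (G2 : Matrix (Fin b) (Fin b) F)
    (P : GL (Fin b) F) :
    QV G1 (G2c G2 P) = (QV G1 G2).comp
      (Matrix.toLin' ((kP P : GL (Idx a b) F) : Matrix (Idx a b) (Idx a b) F)) := by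
  rw [QG_comp, kron_congr]

variable [Fintype F]

/-- `Ω` in the new coordinates -/
lemma mem_OmV_congr (P : GL (Fin b) F) {g : GL (Idx a b) F} :
    g ∈ OmV G1 (G2c G2 P) ↔
      (kP P : GL (Idx a b) F) * g * (kP P : GL (Idx a b) F)⁻¹ ∈ OmV G1 G2 := by
  have key := Cfsg.Agent.Lib.Helper18.OSubLeaf.omegaGL_comp (QV G1 G2) (kP P : GL (Idx a b) F)
  rw [← QV_congr] at key
  constructor
  · intro hg
    show _ ∈ Cfsg.Geo.omegaGL ⇑(QV G1 G2)
    rw [← key]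
    exact ⟨g, hg, rfl⟩
  · intro hg
    have hg' : (kP P : GL (Idx a b) F) * g * (kP P : GL (Idx a b) F)⁻¹ ∈
        Cfsg.Geo.omegaGL ⇑(QV G1 G2) := hg
    rw [← key] at hg'
    obtain ⟨g₀, hg₀, he⟩ := hg'
    have : g₀ = g := (MulAut.conj (kP P : GL (Idx a b) F)).injective he
    rw [← this]
    exact hg₀

omit [Fintype F] in
/-- the Kronecker group is normalised by `1 ⊗ P` -/
lemma mem_KG_congr (P : GL (Fin b) F) {g : GL (Idx a b) F} :
    g ∈ KG a b F ↔ (kP P : GL (Idx a b) F) * g * (kP P : GL (Idx a b) F)⁻¹ ∈ KG a b F := by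
  have hP : (kP P : GL (Idx a b) F) ∈ KG a b F := kel_mem_KG _ _
  constructor
  · intro hg
    exact Subgroup.mul_mem _ (Subgroup.mul_mem _ hP hg) (Subgroup.inv_mem _ hP)
  · intro hg
    have := Subgroup.mul_mem _ (Subgroup.mul_mem _ (Subgroup.inv_mem _ hP) hg) hP
    have e : (kP P : GL (Idx a b) F)⁻¹ * ((kP P : GL (Idx a b) F) * g *
        (kP P : GL (Idx a b) F)⁻¹) * (kP P : GL (Idx a b) F) = g := by group
    rwa [e] at this

omit [Fintype F] in
lemma G2c_symm (hs : G2ᵀ = G2) (P : GL (Fin b) F) : (G2c G2 P)ᵀ = G2c G2 P := by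
  unfold G2c
  rw [Matrix.transpose_mul, Matrix.transpose_mul, Matrix.transpose_transpose, hs, Matrix.mul_assoc]

omit [Fintype F] in
lemma G2c_det (hd : G2.det ≠ 0) (P : GL (Fin b) F) : (G2c G2 P).det ≠ 0 := by
  unfold G2c
  rw [Matrix.det_mul, Matrix.det_mul, Matrix.det_transpose]
  have hP : (P.1 : Matrix (Fin b) (Fin b) F).det ≠ 0 := by
    have := Matrix.isUnits_det_units P
    exact this.ne_zero
  exact mul_ne_zero (mul_ne_zero hP hd) hP

omit [Fintype F] in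
/-- `fB` in the new coordinates -/
lemma fB_congr (G2 : Matrix (Fin b) (Fin b) F) (P : GL (Fin b) F) (y y' : Fin b → F) :
    fB (G2c G2 P) y y' = fB G2 (mv P y) (mv P y') := by
  unfold fB G2c mv
  rw [← Matrix.mulVec_mulVec, ← Matrix.mulVec_mulVec, Matrix.dotProduct_mulVec,
    Matrix.vecMul_transpose]

/-- the context in the new coordinates -/
theorem ctx_congr (h : Ctx a b G1 G2) (P : GL (Fin b) F) : Ctx a b G1 (G2c G2 P) where
  oab := h.oab
  ha := h.ha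
  hb := h.hb
  ndvd := h.ndvd
  symm1 := h.symm1
  symm2 := G2c_symm h.symm2 P
  nd1 := h.nd1
  nd2 := G2c_det h.nd2 P
  two := h.two
  hex := h.hex

/-- the overgroup context in the new coordinates -/
theorem mctx_congr {M : Subgroup (GL (Idx a b) F)} (h : MCtx a b G1 G2 M) (P : GL (Fin b) F) :
    MCtx a b G1 (G2c G2 P) (conjM P M) where
  toCtx := ctx_congr h.toCtx P
  le := by
    rintro g ⟨hg1, hg2⟩
    rw [mem_conjM]
    exact h.le ⟨(mem_KG_congr P).1 hg1, (mem_OmV_congr P).1 hg2⟩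
  le_om := by
    intro g hg
    rw [mem_conjM] at hg
    exact (mem_OmV_congr P).2 (h.le_om hg)


/-! ### transport of vectors, lines, root elements -/

omit [Fintype F] in
lemma mv_kP_pt (P : GL (Fin b) F) (x : Fin a → F) (v : Fin b → F) :
    mv (kP P : GL (Idx a b) F) (pt x v) = pt x (mv P v) := by
  have := kel_mulVec_pt (1 : GL (Fin a) F) P x v
  rw [Units.val_one, Matrix.one_mulVec] at this
  exact this

omit [Fintype F] in
lemma kP_inv (P : GL (Fin b) F) : (kP P : GL (Idx a b) F)⁻¹ = kP P⁻¹ := by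
  rw [inv_eq_iff_eq_inv, eq_inv_iff_mul_eq_one]
  show kel (1 : GL (Fin a) F) P * kel (1 : GL (Fin a) F) P⁻¹ = 1
  rw [← kel_mul, one_mul, mul_inv_cancel, kel_one_one]

omit [Fintype F] in
lemma mv_kP_inv_pt (P : GL (Fin b) F) (x : Fin a → F) (v : Fin b → F) :
    mv (kP P : GL (Idx a b) F)⁻¹ (pt x v) = pt x (mv P⁻¹ v) := by
  rw [kP_inv, mv_kP_pt]

omit [Fintype F] in
/-- t.s. lines in the new coordinates -/
lemma tsl_congr (P : GL (Fin b) F) (u w : Fin b → F) :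
    TSL (G2c G2 P) u w ↔ TSL G2 (mv P u) (mv P w) := by
  have hcomp : (Matrix.toLin' (P : Matrix (Fin b) (Fin b) F)) ∘ ![u, w] = ![mv P u, mv P w] := by
    funext i
    fin_cases i <;> simp [Matrix.toLin'_apply, mv]
  have hinj : LinearMap.ker (Matrix.toLin' (P : Matrix (Fin b) (Fin b) F)) = ⊥ := by
    rw [LinearMap.ker_eq_bot]
    intro v v' hvv
    rw [Matrix.toLin'_apply, Matrix.toLin'_apply] at hvv
    exact mv_injective P hvv
  constructor
  · intro h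
    refine ⟨?_, ?_, ?_, ?_⟩
    · rw [← fB_congr]; exact h.yy
    · rw [← fB_congr]; exact h.zz
    · rw [← fB_congr]; exact h.yz
    · rw [← hcomp]
      exact h.li.map' _ hinj
  · intro h
    refine ⟨?_, ?_, ?_, ?_⟩
    · rw [fB_congr]; exact h.yy
    · rw [fB_congr]; exact h.zz
    · rw [fB_congr]; exact h.yz
    · have := h.li
      rw [← hcomp] at this
      exact LinearIndependent.of_comp _ this

omit [Fintype F] in
/-- `1 ⊗ P` maps `A ⊗ ⟨u,w⟩` into `A ⊗ ⟨Pu,Pw⟩` -/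
lemma mv_kP_mem_WL (P : GL (Fin b) F) {u w : Fin b → F} {v : Idx a b → F}
    (hv : v ∈ (WL u w : Submodule F (Idx a b → F))) :
    mv (kP P : GL (Idx a b) F) v ∈ (WL (mv P u) (mv P w) : Submodule F (Idx a b → F)) := by
  rw [mem_WL_iff] at hv ⊢
  obtain ⟨x₁, x₂, rfl⟩ := hv
  exact ⟨x₁, x₂, by rw [mv_add, mv_kP_pt, mv_kP_pt]⟩

omit [Fintype F] in
lemma mv_kP_inv_mem_WL (P : GL (Fin b) F) {u w : Fin b → F} {v : Idx a b → F}
    (hv : v ∈ (WL (mv P u) (mv P w) : Submodule F (Idx a b → F))) :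
    mv (kP P : GL (Idx a b) F)⁻¹ v ∈ (WL u w : Submodule F (Idx a b → F)) := by
  rw [mem_WL_iff] at hv ⊢
  obtain ⟨x₁, x₂, rfl⟩ := hv
  refine ⟨x₁, x₂, ?_⟩
  rw [mv_add, mv_kP_inv_pt, mv_kP_inv_pt, mv_inv_mv, mv_inv_mv]

omit [Fintype F] in
/-- the root elements `1 ⊗ ρ_{u,w}(c)` in the new coordinates -/
lemma conj_kB (hs : G2ᵀ = G2) (h2 : (2 : F) ≠ 0) (P : GL (Fin b) F) {u w : Fin b → F}
    (hL : TSL (G2c G2 P) u w) (c : F) :
    (kP P : GL (Idx a b) F) * kB (G2c G2 P) u w c * (kP P : GL (Idx a b) F)⁻¹ =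
      kB G2 (mv P u) (mv P w) c := by
  have hL' : TSL G2 (mv P u) (mv P w) := (tsl_congr P u w).1 hL
  apply gl_ext_pt
  intro x v
  rw [mv_mul, mv_mul, mv_kP_inv_pt, mv_kB_pt (G2c_symm hs P) h2 hL, mv_kP_pt,
    mv_kB_pt hs h2 hL', fB_congr, fB_congr, mv_mv_inv]
  congr 1
  rw [mv_add, mv_smul, mv_sub, mv_smul, mv_smul, mv_mv_inv]

end Cfsg.Agent.Lib.Helper25.OT
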