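import Mathlib
import Cfsg.Agent.Lib.Helper25.OTRed
import Cfsg.Agent.Lib.Helper7.OTLAZm
import Cfsg.Agent.Lib.Helper23.OTLAEx
import Cfsg.Agent.Lib.Helper5.UOGMain
import Cfsg.Agent.Lib.Helper13.OTLAMain

/-!
S5681 / S5709: wiring of the local part (LA') (helper13's adapted coordinates) to the interface `L1'`, `L2'` of the
global part (GA'), and of the exits to the growth part (G).
-/

set_option autoImplicit false
set_option linter.unusedSectionVars false
set_option linter.unusedVariables false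

namespace Cfsg.Agent.Lib.Helper25.OT
open Matrix QuadraticMap
open Cfsg.Agent.Lib.Helper25.Tens Cfsg.Agent.Lib.Helper19.OSub Cfsg.Agent.Lib.Helper2.SOT
open Cfsg.Agent.Lib.Helper7.OTT
open Cfsg.Agent.Lib.Helper13
open Cfsg.Agent.Lib.Helper13.OTLAMain (L1_at L2_at)
open scoped Kronecker

variable {F : Type*} [Field F] {a b : ℕ}
variable {G1 : Matrix (Fin a) (Fin a) F} {G2 : Matrix (Fin b) (Fin b) F}
variable {o o' p p' : Fin b}

/-- stabilising `A ⊗ ⟨e_o, e_o'⟩`, in block form -/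
lemma stabR_of_stab (g : GL (Idx a b) F)
    (h : ∀ v ∈ (WL (Pi.single o (1 : F)) (Pi.single o' (1 : F)) : Submodule F (Idx a b → F)),
      mv g v ∈ (WL (Pi.single o (1 : F)) (Pi.single o' (1 : F)) : Submodule F (Idx a b → F))) :
    OTLA.StabR o o' g.1 := by
  intro k l hl hko hko'
  ext i j
  rw [blk_apply]
  have hcol : mv g (pt (Pi.single j (1 : F)) (Pi.single l (1 : F))) = fun q => g.1 q (j, l) :=
    mulVec_pt_single g.1 j l
  have hmem : pt (Pi.single j (1 : F)) (Pi.single l (1 : F)) ∈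
      (WL (Pi.single o (1 : F)) (Pi.single o' (1 : F)) : Submodule F (Idx a b → F)) := by
    rcases hl with rfl | rfl
    · exact pt_left_mem_WL _ _ _
    · exact pt_right_mem_WL _ _ _
  have h1 := h _ hmem
  rw [mem_WL_iff] at h1
  obtain ⟨x₁, x₂, hx⟩ := h1
  have h2 := congrFun hx (i, k)
  rw [hcol] at h2
  simp only [pt, Pi.add_apply, Pi.single_apply, if_neg hko, if_neg hko', mul_zero, add_zero] at h2
  rw [h2]
  rfl

/-- `Z(0,0,c·1) = 1 ⊗ ρ_{e_o,e_o'}(-c)` -/
lemma eq_kB_of_Zc [Fintype F] (h : Ctx a b G1 G2) (hadp : OTLA.Adp G2 o o' p p') (c : F)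
    (t : GL (Idx a b) F)
    (ht : t.1 = OTLA.Zc G1 o o' p p' 0 0 (c • (1 : Matrix (Fin a) (Fin a) F))) :
    t = kB G2 (Pi.single o 1) (Pi.single o' 1) (-c) := by
  apply gl_ext_pt
  intro x v
  rw [mv_kB_pt h.symm2 h.two (adp_TSL hadp), adp_fB_o hadp, adp_fB_o' hadp]
  show t.1 *ᵥ pt x v = _
  rw [ht, Cfsg.Agent.Lib.Helper7.OTLALeaf.Zc_scalar_eq h.nd1, kron_mulVec_pt, Matrix.one_mulVec]
  congr 1
  unfold OTLA.nL
  rw [Matrix.add_mulVec, Matrix.one_mulVec, Matrix.smul_mulVec, Matrix.sub_mulVec,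
    Matrix.single_mulVec, Matrix.single_mulVec]
  have e1 : ∀ (k : Fin b) (r : F), (Function.update (0 : Fin b → F) k (1 * r)) = r • Pi.single k 1 := by
    intro k r
    ext l
    by_cases hl : l = k
    · subst hl
      simp
    · simp [hl]
  rw [e1, e1]
  module


variable [Fintype F] {M : Subgroup (GL (Idx a b) F)}

omit [Fintype F] in
lemma conj_back (P : GL (Fin b) F) (g : GL (Idx a b) F) :
    (kP P : GL (Idx a b) F) * ((kP P : GL (Idx a b) F)⁻¹ * g * (kP P : GL (Idx a b) F)) *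
      (kP P : GL (Idx a b) F)⁻¹ = g := by
  group

omit [Fintype F] in
lemma mem_conjM_conj {P : GL (Fin b) F} {g : GL (Idx a b) F} (hg : g ∈ M) :
    (kP P : GL (Idx a b) F)⁻¹ * g * (kP P : GL (Idx a b) F) ∈ conjM P M := by
  rw [mem_conjM, conj_back]
  exact hg

/-- (L1') at the line `⟨P e_o, P e_o'⟩` from (R1) in the adapted coordinates -/
theorem L1_line (h : MCtx a b G1 G2 M) (P : GL (Fin b) F)
    (hadp : OTLA.Adp (G2c G2 P) o o' p p')
    (hR1 : OTLA.R1P G1 o o' p p' (conjM P M)) (g : GL (Idx a b) F) (hg : g ∈ M)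
    (hst : ∀ v ∈ (WL (mv P (Pi.single o 1)) (mv P (Pi.single o' 1)) :
        Submodule F (Idx a b → F)),
      mv g v ∈ (WL (mv P (Pi.single o 1)) (mv P (Pi.single o' 1)) :
        Submodule F (Idx a b → F))) :
    g ∈ KG a b F := by
  have hL := lbase_of_adp (mctx_congr h P) hadp
  have hg' := mem_conjM_conj (P := P) hg
  have hst' : OTLA.StabR o o' ((kP P : GL (Idx a b) F)⁻¹ * g * (kP P : GL (Idx a b) F)).1 := by
    apply stabR_of_stab
    intro v hv
    rw [mv_mul, mv_mul]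
    exact mv_kP_inv_mem_WL P (hst _ (mv_kP_mem_WL P hv))
  have hK := L1_at hL hR1 hg' hst'
  have := (mem_KG_congr P).1 hK
  rwa [conj_back] at this

/-- (L2') at the line `⟨P e_o, P e_o'⟩` from (R1) in the adapted coordinates -/
theorem L2_line (h : MCtx a b G1 G2 M) (P : GL (Fin b) F)
    (hadp : OTLA.Adp (G2c G2 P) o o' p p')
    (hR1 : OTLA.R1P G1 o o' p p' (conjM P M)) (m : GL (Idx a b) F) (hm : m ∈ M)
    (hk : ∀ c : F, m⁻¹ * (kB G2 (mv P (Pi.single o 1)) (mv P (Pi.single o' 1)) c :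
      GL (Idx a b) F) * m ∈ KG a b F) :
    m ∈ KG a b F := by
  have hC := ctx_congr h.toCtx P
  have hL := lbase_of_adp (mctx_congr h P) hadp
  have hm' := mem_conjM_conj (P := P) hm
  have hK := L2_at hL hR1 hm' (by
      intro c t ht
      rw [eq_kB_of_Zc hC hadp c t ht, mem_KG_congr P]
      have e : (kP P : GL (Idx a b) F) *
          (((kP P : GL (Idx a b) F)⁻¹ * m * (kP P : GL (Idx a b) F))⁻¹ *
            kB (G2c G2 P) (Pi.single o 1) (Pi.single o' 1) (-c) *
            ((kP P : GL (Idx a b) F)⁻¹ * m * (kP P : GL (Idx a b) F))) *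
          (kP P : GL (Idx a b) F)⁻¹ =
          m⁻¹ * ((kP P : GL (Idx a b) F) * kB (G2c G2 P) (Pi.single o 1) (Pi.single o' 1) (-c) *
            (kP P : GL (Idx a b) F)⁻¹) * m := by
        group
      rw [e, conj_kB h.symm2 h.two P (adp_TSL hadp)]
      exact hk (-c))
  have := (mem_KG_congr P).1 hK
  rwa [conj_back] at this

/-- a root group of type (S), (L+) or (Lw) in some coordinates `1 ⊗ P`: `M = Ω` -/
theorem omega_le_of_has (h : MCtx a b G1 G2 M) (P : GL (Fin b) F)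
    (hr : Cfsg.Agent.Lib.Helper5.UOG.HasS G1 (G2c G2 P) (conjM P M) ∨
      Cfsg.Agent.Lib.Helper5.UOG.HasL G1 (G2c G2 P) (conjM P M) ∨
      Cfsg.Agent.Lib.Helper5.UOG.HasLw G1 (G2c G2 P) (conjM P M)) :
    OmV G1 G2 ≤ M := by
  have h' := mctx_congr h P
  have hG : Cfsg.Agent.Lib.Helper5.UOG.GCtx G1 (G2c G2 P) (conjM P M) :=
    { two := h'.two, symA := h'.symm1, symB := h'.symm2, detA := h'.nd1, detB := h'.nd2,
      ha := h'.ha, hb := h'.hb, le := h'.le, le_om := h'.le_om }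
  have hgr : OmV G1 (G2c G2 P) ≤ conjM P M := Cfsg.Agent.Lib.Helper5.UOGMain.growthO' hG hr
  intro g hg
  have hg' : (kP P : GL (Idx a b) F)⁻¹ * g * (kP P : GL (Idx a b) F) ∈ OmV G1 (G2c G2 P) := by
    rw [mem_OmV_congr P, conj_back]
    exact hg
  have := hgr hg'
  rw [mem_conjM, conj_back] at this
  exact this

/-- an exit (S) or (L+) in some adapted coordinates: `M = Ω` -/
theorem omega_le_of_exit (h : MCtx a b G1 G2 M) (P : GL (Fin b) F)
    (hadp : OTLA.Adp (G2c G2 P) o o' p p')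
    (hex : OTLA.ExitS G1 o o' p p' (conjM P M) ∨ OTLA.ExitL G1 o o' p p' (conjM P M)) :
    OmV G1 G2 ≤ M := by
  have h' := mctx_congr h P
  apply omega_le_of_has h P
  rcases hex with hS | hL
  · exact Or.inl (Cfsg.Agent.Lib.Helper23.OTLALeaf.hasS_of_exitS h'.symm1 h'.symm2 h'.nd1 hadp hS)
  · exact Or.inr (Or.inl
      (Cfsg.Agent.Lib.Helper23.OTLALeaf.hasL_of_exitL h'.symm2 h'.nd1 hadp hL))

end Cfsg.Agent.Lib.Helper25.OT
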