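import Mathlib
import Cfsg.Agent.Lib.Helper25.OTWire
import Cfsg.Agent.Lib.Helper9.TensA
import Cfsg.Agent.Lib.Helper12.OTGG1
import Cfsg.Agent.Lib.Helper22.OTRA1
import Cfsg.Agent.Lib.Helper13.OTLAR1
import Cfsg.Agent.Lib.Helper2.OTGMain

/-!
S5681 / S5709: the model theorem: `KG ⊓ Ω` is maximal in `Ω = Ω(A ⊗ B)`.
-/

set_option autoImplicit false
set_option linter.unusedSectionVars false
set_option linter.unusedVariables false

namespace Cfsg.Agent.Lib.Helper25.OT
open Matrix QuadraticMap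
open Cfsg.Agent.Lib.Helper25.Tens Cfsg.Agent.Lib.Helper19.OSub Cfsg.Agent.Lib.Helper2.SOT
open Cfsg.Agent.Lib.Helper7.OTT
open Cfsg.Agent.Lib.Helper13
open scoped Kronecker

variable {F : Type*} [Field F] [Fintype F] {a b : ℕ}
variable {G1 : Matrix (Fin a) (Fin a) F} {G2 : Matrix (Fin b) (Fin b) F}
variable {M : Subgroup (GL (Idx a b) F)}

/-- the dichotomy for overgroups of `H = KG ⊓ Ω` in `Ω`, from (R1) in all adapted coordinates (or `Ω ≤ M`) -/
theorem model_main_of (h : MCtx a b G1 G2 M) {o o' p p' : Fin b}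
    (d1 : o ≠ o') (d2 : o ≠ p) (d3 : o ≠ p') (d4 : o' ≠ p) (d5 : o' ≠ p') (d6 : p ≠ p')
    (hR1 : ∀ P : GL (Fin b) F, OTLA.Adp (G2c G2 P) o o' p p' →
      OTLA.R1P G1 o o' p p' (conjM P M) ∨ OmV G1 G2 ≤ M) :
    M = KG a b F ⊓ OmV G1 G2 ∨ M = OmV G1 G2 := by
  by_cases hE : OmV G1 G2 ≤ M
  · right
    exact le_antisymm h.le_om hE
  · left
    have key : ∀ y z : Fin b → F, TSL G2 y z → ∃ P : GL (Fin b) F,
        OTLA.Adp (G2c G2 P) o o' p p' ∧ mv P (Pi.single o 1) = y ∧ mv P (Pi.single o' 1) = z ∧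
          OTLA.R1P G1 o o' p p' (conjM P M) := by
      intro y z hL
      obtain ⟨P, hadp, hy, hz⟩ := Cfsg.Agent.Lib.Helper22.OTRALeaf.exists_adapted h.symm2 h.nd2
        h.two hL d1 d2 d3 d4 d5 d6
      refine ⟨P, hadp, hy, hz, ?_⟩
      rcases hR1 P hadp with h' | h'
      · exact h'
      · exact absurd h' hE
    have hK : M ≤ KG a b F := by
      apply Cfsg.Agent.Lib.Helper2.OTGMain.globalO h
      · intro y z hL c
        exact h.le (kB_mem_H h.toCtx y z c)
      · intro y z hL g hg hst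
        obtain ⟨P, hadp, rfl, rfl, hR1⟩ := key y z hL
        exact L1_line h P hadp hR1 g hg hst
      · intro y z hL m hm hk
        obtain ⟨P, hadp, rfl, rfl, hR1⟩ := key y z hL
        exact L2_line h P hadp hR1 m hm hk
    exact le_antisymm (le_inf hK h.le_om) h.le

omit [Fintype F] in
/-- four distinct indices of `Fin b`, `4 ≤ b` -/
lemma exists_four (hb : 4 ≤ b) : ∃ o o' p p' : Fin b,
    o ≠ o' ∧ o ≠ p ∧ o ≠ p' ∧ o' ≠ p ∧ o' ≠ p' ∧ p ≠ p' := by
  refine ⟨⟨0, by omega⟩, ⟨1, by omega⟩, ⟨2, by omega⟩, ⟨3, by omega⟩, ?_, ?_, ?_, ?_, ?_, ?_⟩ <;>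
    simp [Fin.ext_iff]

/-- the dichotomy for overgroups of `H = KG ⊓ Ω` in `Ω`, `a` odd (S5681, unswapped case of S5709) -/
theorem model_main (h : MCtx a b G1 G2 M) (hoa : Odd a) :
    M = KG a b F ⊓ OmV G1 G2 ∨ M = OmV G1 G2 := by
  obtain ⟨o, o', p, p', d1, d2, d3, d4, d5, d6⟩ := exists_four (b := b) (by have := h.hb; omega)
  apply model_main_of h d1 d2 d3 d4 d5 d6
  intro P hadp
  by_cases hex : OTLA.ExitS G1 o o' p p' (conjM P M) ∨ OTLA.ExitL G1 o o' p p' (conjM P M)
  · exact Or.inr (omega_le_of_exit h P hadp hex)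
  · left
    exact Cfsg.Agent.Lib.Helper13.OTLALeaf.R1 (lctx_of_adp (mctx_congr h P) hoa hadp)
      (fun hS => hex (Or.inl hS)) (fun hL => hex (Or.inr hL))

/-! ### properness -/

omit [Fintype F] in
/-- a Kronecker product at rank-distance less than `min a b` from the identity is the identity -/
theorem kron_eq_one_of_rank_lt (α : GL (Fin a) F) (β : GL (Fin b) F) (r : ℕ) (hra : r < a)
    (hrb : r < b)
    (h : ((α : Matrix (Fin a) (Fin a) F) ⊗ₖ (β : Matrix (Fin b) (Fin b) F) -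
      (1 : Matrix (Idx a b) (Idx a b) F)).rank ≤ r) :
    (α : Matrix (Fin a) (Fin a) F) ⊗ₖ (β : Matrix (Fin b) (Fin b) F) =
      (1 : Matrix (Idx a b) (Idx a b) F) := by
  have hB : (β : Matrix (Fin b) (Fin b) F).det ≠ 0 :=
    ((Matrix.isUnit_iff_isUnit_det _).mp β.isUnit).ne_zero
  have h1 : (1 : Matrix (Idx a b) (Idx a b) F) = (1 : F) • 1 := (one_smul _ _).symm
  by_cases hA : ∃ s : F, (α : Matrix (Fin a) (Fin a) F) = s • 1
  · obtain ⟨s, hs⟩ := hA
    rw [h1, hs, Cfsg.Agent.Lib.Helper9.TensA.scalar_kron_sub,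
      Cfsg.Agent.Lib.Helper9.TensA.rank_one_kron] at h
    have hr : (s • (β : Matrix (Fin b) (Fin b) F) - (1 : F) • 1).rank = 0 := by
      by_contra hne
      have h3 : 1 ≤ (s • (β : Matrix (Fin b) (Fin b) F) - (1 : F) • 1).rank :=
        Nat.one_le_iff_ne_zero.mpr hne
      have h4 : a * 1 ≤ a * (s • (β : Matrix (Fin b) (Fin b) F) - (1 : F) • 1).rank :=
        Nat.mul_le_mul_left a h3
      omega
    have hz : s • (β : Matrix (Fin b) (Fin b) F) - (1 : F) • 1 = 0 := by
      unfold Matrix.rank at hr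
      have h5 : LinearMap.range (s • (β : Matrix (Fin b) (Fin b) F) - (1 : F) • 1).mulVecLin = ⊥ :=
        Submodule.finrank_eq_zero.mp hr
      have h6 : (s • (β : Matrix (Fin b) (Fin b) F) - (1 : F) • 1).mulVecLin = 0 :=
        LinearMap.range_eq_bot.mp h5
      ext i j
      have := congrFun (LinearMap.congr_fun h6 (Pi.single j 1)) i
      rw [Matrix.mulVecLin_apply, Matrix.mulVec_single_one] at this
      exact this
    have h2 : (s • (1 : Matrix (Fin a) (Fin a) F)) ⊗ₖ (β : Matrix (Fin b) (Fin b) F) -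
        (1 : F) • (1 : Matrix (Idx a b) (Idx a b) F) = 0 := by
      rw [Cfsg.Agent.Lib.Helper9.TensA.scalar_kron_sub, hz]
      ext q q'
      simp [Matrix.kroneckerMap_apply]
    rw [hs]
    rw [one_smul] at h2
    exact sub_eq_zero.mp h2
  · push Not at hA
    have := Cfsg.Agent.Lib.Helper9.TensA.rank_ge_of_nonscalar _ _ hA hB 1
    rw [← h1] at this
    omega

/-- `H = KG ⊓ Ω` is a proper subgroup of `Ω` -/
theorem H_lt_OmV (h : Ctx a b G1 G2) : KG a b F ⊓ OmV G1 G2 < OmV G1 G2 := by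
  classical
  refine lt_of_le_of_ne inf_le_right ?_
  intro heq
  have ha := h.ha
  have hb := h.hb
  obtain ⟨y, hy0, hyy, -⟩ := Cfsg.Agent.Lib.Helper12.OTGLeaf.exists_sing_not_mem h
    (⊥ : Submodule F (Fin b → F)) (by
      intro hbt
      have h1 := congrArg (fun S : Submodule F (Fin b → F) => Module.finrank F S) hbt
      simp only [finrank_bot, finrank_top, Module.finrank_fin_fun] at h1
      omega)
  obtain ⟨l, hl⟩ := Function.ne_iff.mp hy0
  rw [Pi.zero_apply] at hl
  let i0 : Fin a := ⟨0, by omega⟩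
  let i1 : Fin a := ⟨1, by omega⟩
  have hi01 : i1 ≠ i0 := by simp [i0, i1, Fin.ext_iff]
  set u : Idx a b → F := pt (Pi.single i0 1) y with hu
  set w : Idx a b → F := pt (Pi.single i1 1) y with hw
  have hQu : QV G1 G2 u = 0 := by rw [hu, QV_pt, hyy, mul_zero, mul_zero]
  have hQw : QV G1 G2 w = 0 := by rw [hw, QV_pt, hyy, mul_zero, mul_zero]
  have hpol : polar (QV G1 G2) u w = 0 := by
    rw [polar_QV h.symm1 h.symm2 h.two, hu, hw, fV_pt, hyy, mul_zero]
  set g : GL (Idx a b) F := rtV G1 G2 u w 1 with hg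
  have hcard : 7 ≤ Fintype.card (Idx a b) := by
    rw [Fintype.card_prod, Fintype.card_fin, Fintype.card_fin]
    nlinarith
  have hgO : g ∈ OmV G1 G2 := rt_mem_omega (QV_nondeg h) hcard u w 1
  have hgK : g ∈ KG a b F := by
    have : g ∈ KG a b F ⊓ OmV G1 G2 := by rw [heq]; exact hgO
    exact this.1
  have hmv : ∀ v, mv g v = v + (fV G1 G2 u v • w - fV G1 G2 w v • u) := by
    intro v
    rw [hg, mv_rt hQu hQw hpol, one_smul, polar_QV h.symm1 h.symm2 h.two,
      polar_QV h.symm1 h.symm2 h.two]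
  obtain ⟨α, β, hαβ⟩ := (mem_KG_iff _).1 hgK
  have hrk : ((g : Matrix (Idx a b) (Idx a b) F) - 1).rank ≤ 2 := by
    unfold Matrix.rank
    have hle : LinearMap.range ((g : Matrix (Idx a b) (Idx a b) F) - 1).mulVecLin ≤
        Submodule.span F ({u, w} : Set (Idx a b → F)) := by
      rintro _ ⟨v, rfl⟩
      rw [Matrix.mulVecLin_apply, Matrix.sub_mulVec, Matrix.one_mulVec]
      have := hmv v
      unfold mv at this
      rw [this, add_sub_cancel_left]
      exact Submodule.sub_mem _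
        (Submodule.smul_mem _ _ (Submodule.subset_span (by simp)))
        (Submodule.smul_mem _ _ (Submodule.subset_span (by simp)))
    refine (Submodule.finrank_mono hle).trans ?_
    have : ({u, w} : Set (Idx a b → F)) = ((({u, w} : Finset (Idx a b → F)) : Set (Idx a b → F))) := by
      simp
    rw [this]
    exact (finrank_span_finset_le_card _).trans (Finset.card_le_two)
  rw [hαβ] at hrk
  have hone := kron_eq_one_of_rank_lt α β 2 (by omega) (by omega) hrk
  rw [← hαβ] at hone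
  -- but `g` moves some vector
  have hu0 : u ≠ 0 := by
    intro h0
    have := congrFun h0 (i0, l)
    simp only [hu, pt, Pi.single_eq_same, one_mul, Pi.zero_apply] at this
    exact hl this
  obtain ⟨v, hv⟩ : ∃ v, fV G1 G2 u v ≠ 0 := by
    by_contra hcon
    push Not at hcon
    have hnd := QV_nondeg h
    apply hu0
    apply hnd.1 u
    intro v
    rw [polarBilin_apply_apply, polar_QV h.symm1 h.symm2 h.two]
    exact hcon v
  have hfix : mv g v = v := by
    show (g : Matrix (Idx a b) (Idx a b) F) *ᵥ v = v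
    rw [hone, Matrix.one_mulVec]
  rw [hmv v] at hfix
  have h3 : fV G1 G2 u v • w - fV G1 G2 w v • u = 0 := by
    have := congrArg (fun t => t - v) hfix
    simpa using this
  have h4 := congrFun h3 (i1, l)
  simp only [hu, hw, pt, Pi.sub_apply, Pi.smul_apply, smul_eq_mul, Pi.single_eq_same, one_mul,
    Pi.single_eq_of_ne hi01, zero_mul, mul_zero, sub_zero, Pi.zero_apply] at h4
  rcases mul_eq_zero.1 h4 with h5 | h5
  · exact hv h5
  · exact hl h5

/-- the model theorem -/
theorem model_max (h : Ctx a b G1 G2) (hoa : Odd a) :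
    Cfsg.Geo.IsMaximalIn (OmV G1 G2) (KG a b F ⊓ OmV G1 G2) :=
  ⟨H_lt_OmV h, fun M h1 h2 => model_main { toCtx := h, le := h1, le_om := h2 } hoa⟩

end Cfsg.Agent.Lib.Helper25.OT
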