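import Mathlib
import Cfsg.Agent.Lib.Helper25.OTMain
import Cfsg.Agent.Lib.Helper9.OTLA4R1x
import Cfsg.Agent.Lib.Helper9.OTLA4Om

/-!
S5709, the swapped case `n₂ = 4`: the model theorem for `A` of dimension `4` and minus type (coefficient side),
`B` of odd dimension `b ≥ 5` (root side).
-/

set_option autoImplicit false
set_option linter.unusedSectionVars false
set_option linter.unusedVariables false

namespace Cfsg.Agent.Lib.Helper25.OT
open Matrix QuadraticMap
open Cfsg.Agent.Lib.Helper25.Tens Cfsg.Agent.Lib.Helper19.OSub Cfsg.Agent.Lib.Helper2.SOT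
open Cfsg.Agent.Lib.Helper7.OTT
open Cfsg.Agent.Lib.Helper13
open scoped Kronecker

variable {F : Type*} [Field F] [Fintype F] {b : ℕ}
variable {G1 : Matrix (Fin 4) (Fin 4) F} {G2 : Matrix (Fin b) (Fin b) F}
variable {M : Subgroup (GL (Idx 4 b) F)}

/-- the dichotomy for overgroups of `H = KG ⊓ Ω` in `Ω`, swapped case -/
theorem model_main4 (h : MCtx 4 b G1 G2 M) (hminus : Cfsg.Agent.Lib.Helper9.OTAlg.Minus4 G1) :
    M = KG 4 b F ⊓ OmV G1 G2 ∨ M = OmV G1 G2 := by
  obtain ⟨o, o', p, p', d1, d2, d3, d4, d5, d6⟩ := exists_four (b := b) (by have := h.hb; omega)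
  apply model_main_of h d1 d2 d3 d4 d5 d6
  intro P hadp
  have h' := mctx_congr h P
  by_cases hex : OTLA.ExitS G1 o o' p p' (conjM P M) ∨
      Cfsg.Agent.Lib.Helper9.OTLA4.ExitLw G1 o o' p p' (conjM P M)
  · right
    apply omega_le_of_has h P
    rcases hex with hS | hLw
    · exact Or.inl
        (Cfsg.Agent.Lib.Helper23.OTLALeaf.hasS_of_exitS h'.symm1 h'.symm2 h'.nd1 hadp hS)
    · exact Or.inr (Or.inr
        (Cfsg.Agent.Lib.Helper9.OTLA4.hasLw_of_exitLw h'.symm1 h'.symm2 h'.nd1 hadp hLw))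
  · left
    exact Cfsg.Agent.Lib.Helper9.OTLA4.R1_swapped
      { toLBase := lbase_of_adp h' hadp
        minus := hminus
        om_siegel := fun z u hzz hu =>
          Cfsg.Agent.Lib.Helper9.OTLA4.siegel_mem_OmV h'.toCtx hzz hu }
      (fun hS => hex (Or.inl hS)) (fun hL => hex (Or.inr hL))

/-- the model theorem, swapped case -/
theorem model_max4 (h : Ctx 4 b G1 G2) (hminus : Cfsg.Agent.Lib.Helper9.OTAlg.Minus4 G1) :
    Cfsg.Geo.IsMaximalIn (OmV G1 G2) (KG 4 b F ⊓ OmV G1 G2) :=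
  ⟨H_lt_OmV h, fun M h1 h2 => model_main4 { toCtx := h, le := h1, le_om := h2 } hminus⟩

end Cfsg.Agent.Lib.Helper25.OT
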