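/-
helper25: sums over a subgroup acting transitively on an orbit, for representations.
-/
import Mathlib
import Cfsg.Agent.Lib.Helper22.ConjCount
import Cfsg.Agent.Lib.Helper22.Basic

set_option autoImplicit false

namespace Cfsg.Agent.Lib.Helper25

/-- coprime indices: `L` meets every coset of `A`. -/
theorem exists_mem_of_coprime_index {H : Type*} [Group H] [Finite H] (L A : Subgroup H)
    (hcop : Nat.Coprime A.index L.index) (h : H) : ∃ c ∈ L, c⁻¹ * h ∈ A := by
  have hrel : A.relIndex L = A.index := by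
    have h1 : A.relIndex L * L.index = (A ⊓ L).index := by
      rw [← Subgroup.inf_relIndex_right]
      exact Subgroup.relIndex_mul_index inf_le_right
    have h2 : A.index ∣ (A ⊓ L).index := Subgroup.index_dvd_of_le inf_le_left
    rw [← h1] at h2
    have h3 : A.index ∣ A.relIndex L := hcop.dvd_of_dvd_mul_right h2
    have h4 : A.relIndex L ≤ A.index := by
      have := Subgroup.relIndex_le_of_le_right (H := A) (K := L) (L := ⊤) le_top
        (by rw [Subgroup.relIndex_top_right]; exact Subgroup.index_ne_zero_of_finite)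
      rwa [Subgroup.relIndex_top_right] at this
    have hpos : 0 < A.relIndex L :=
      Nat.pos_of_ne_zero (Subgroup.index_ne_zero_of_finite (H := A.subgroupOf L))
    exact le_antisymm h4 (Nat.le_of_dvd hpos h3)
  have hcard : Nat.card L = A.index * Nat.card (L ⊓ A : Subgroup H) := by
    rw [← Cfsg.Agent.Lib.Helper22.card_mul_relIndex_of_le (inf_le_left : L ⊓ A ≤ L),
      Subgroup.inf_relIndex_left, hrel, mul_comm]
  exact Cfsg.Agent.Lib.Helper22.exists_mem_of_card_eq_index_mul_card_inf L A hcard h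

section
variable {k V H : Type*} [Field k] [AddCommGroup V] [Module k V] [Group H]

/-- Sum over a finite group of the images of a vector = (stabilizer order) • (orbit sum). -/
theorem sum_rho_eq_smul_orbit_sum [Fintype H] [DecidableEq V] (ρ : Representation k H V) (a : V) :
    ∑ h : H, ρ h a = (Nat.card {s : H // ρ s a = a}) •
      ∑ u ∈ Finset.univ.image (fun h : H => ρ h a), u := by
  classical
  have h1 := Finset.sum_comp (s := (Finset.univ : Finset H)) (f := fun u : V => u)
    (g := fun h : H => ρ h a)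
  rw [h1, Finset.smul_sum]
  apply Finset.sum_congr rfl
  intro u hu
  obtain ⟨h₀, -, rfl⟩ := Finset.mem_image.mp hu
  congr 1
  rw [Nat.card_eq_fintype_card, Fintype.card_subtype]
  apply Finset.card_bij (fun h _ => h₀⁻¹ * h)
  · intro h hh
    rw [Finset.mem_filter] at hh ⊢
    refine ⟨Finset.mem_univ _, ?_⟩
    have h2 : ρ h a = ρ h₀ a := hh.2
    calc ρ (h₀⁻¹ * h) a = ρ h₀⁻¹ (ρ h a) := by rw [map_mul]; rfl
      _ = ρ h₀⁻¹ (ρ h₀ a) := by rw [h2]
      _ = ρ (h₀⁻¹ * h₀) a := by rw [map_mul]; rfl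
      _ = a := by rw [inv_mul_cancel, map_one]; rfl
  · intro x _ y _ hxy
    exact mul_left_cancel hxy
  · intro s hs
    rw [Finset.mem_filter] at hs
    refine ⟨h₀ * s, ?_, by rw [inv_mul_cancel_left]⟩
    rw [Finset.mem_filter]
    refine ⟨Finset.mem_univ _, ?_⟩
    show ρ (h₀ * s) a = ρ h₀ a
    rw [map_mul]
    show ρ h₀ (ρ s a) = ρ h₀ a
    rw [hs.2]

/-- The orbit sum is invariant. -/
theorem rho_orbit_sum [Fintype H] [DecidableEq V] (ρ : Representation k H V) (a : V) (g : H) :
    ρ g (∑ u ∈ Finset.univ.image (fun h : H => ρ h a), u) =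
      ∑ u ∈ Finset.univ.image (fun h : H => ρ h a), u := by
  rw [map_sum]
  apply Finset.sum_bij (fun u _ => ρ g u)
  · intro u hu
    obtain ⟨h₀, -, rfl⟩ := Finset.mem_image.mp hu
    refine Finset.mem_image.mpr ⟨g * h₀, Finset.mem_univ _, ?_⟩
    rw [map_mul]; rfl
  · intro x _ y _ hxy
    have := congrArg (ρ g⁻¹) hxy
    have e : ∀ v : V, ρ g⁻¹ (ρ g v) = v := by
      intro v
      have : ρ g⁻¹ (ρ g v) = ρ (g⁻¹ * g) v := by rw [map_mul]; rfl
      rw [this, inv_mul_cancel, map_one]; rfl
    rwa [e, e] at this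
  · intro u hu
    obtain ⟨h₀, -, rfl⟩ := Finset.mem_image.mp hu
    refine ⟨ρ (g⁻¹ * h₀) a, Finset.mem_image.mpr ⟨g⁻¹ * h₀, Finset.mem_univ _, rfl⟩, ?_⟩
    have : ρ g (ρ (g⁻¹ * h₀) a) = ρ (g * (g⁻¹ * h₀)) a := by rw [map_mul (ρ) g]; rfl
    rw [this, mul_inv_cancel_left]
  · intro u _
    rfl

end

end Cfsg.Agent.Lib.Helper25
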