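import Mathlib
import Cfsg.Prelude.Def_Classical
import Cfsg.Agent.Lib.Helper25.MaxTSPlus

set_option autoImplicit false

/-!
Isometries of the hyperbolic quadric `Σ x_i y_i`: the determinant of an isometry `g` is
`(-1)^(m - dim (E ∩ gE))`, `E = {y = 0}` (S2629).
-/

namespace Cfsg.Agent.Lib.Helper25.OrthDet

open Module Matrix QuadraticMap Cfsg.Agent.Lib.Helper25.MaxTS

variable {F : Type*} [Field F] (m : ℕ)

/-- swap the two halves of the coordinates -/
def sw (w : Fin m ⊕ Fin m → F) : Fin m ⊕ Fin m → F := fun k => w (Sum.swap k)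

theorem polar_eq_dot (u v : Fin m ⊕ Fin m → F) : polar (plusQ m (F := F)) u v = u ⬝ᵥ sw m v := by
  rw [polar_plusQ]
  simp only [dotProduct, sw, Fintype.sum_sum_type, Sum.swap_inl, Sum.swap_inr,
    Finset.sum_add_distrib]
  congr 1
  refine Finset.sum_congr rfl fun i _ => ?_
  ring

/-- matrices preserving the hyperbolic form -/
def IsIsoM (M : Matrix (Fin m ⊕ Fin m) (Fin m ⊕ Fin m) F) : Prop :=
  ∀ v, plusQ m (M *ᵥ v) = plusQ m v

variable {m}

theorem IsIsoM.polar {M : Matrix (Fin m ⊕ Fin m) (Fin m ⊕ Fin m) F} (hM : IsIsoM m M)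
    (u v : Fin m ⊕ Fin m → F) : polar (plusQ m (F := F)) (M *ᵥ u) (M *ᵥ v) = polar (plusQ m) u v := by
  simp only [QuadraticMap.polar, ← Matrix.mulVec_add, hM _]

theorem IsIsoM.injective {M : Matrix (Fin m ⊕ Fin m) (Fin m ⊕ Fin m) F} (hM : IsIsoM m M) :
    Function.Injective M.mulVecLin := by
  rw [← LinearMap.ker_eq_bot, LinearMap.ker_eq_bot']
  intro v hv
  have hv' : M *ᵥ v = 0 := hv
  have hnd := plusQ_nondegenerate m (F := F)
  apply hnd.1 v
  intro u
  rw [polarBilin_apply_apply, ← hM.polar, hv']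
  simp [QuadraticMap.polar]

theorem IsIsoM.mul {M N : Matrix (Fin m ⊕ Fin m) (Fin m ⊕ Fin m) F} (hM : IsIsoM m M)
    (hN : IsIsoM m N) : IsIsoM m (M * N) := by
  intro v
  rw [← Matrix.mulVec_mulVec, hM, hN]

/-- the reflection in `w` -/
noncomputable def refl (w : Fin m ⊕ Fin m → F) : Matrix (Fin m ⊕ Fin m) (Fin m ⊕ Fin m) F :=
  1 - (plusQ m w)⁻¹ • vecMulVec w (sw m w)

theorem refl_mulVec (w y : Fin m ⊕ Fin m → F) :
    refl w *ᵥ y = y - ((plusQ m w)⁻¹ * polar (plusQ m (F := F)) y w) • w := by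
  rw [refl, Matrix.sub_mulVec, Matrix.one_mulVec, Matrix.smul_mulVec, vecMulVec_mulVec,
    polar_eq_dot, dotProduct_comm (sw m w) y, op_smul_eq_smul, smul_smul]

theorem refl_iso {w : Fin m ⊕ Fin m → F} (hw : plusQ m w ≠ 0) : IsIsoM m (refl w) := by
  intro y
  rw [refl_mulVec, sub_eq_add_neg, ← neg_smul, Q_add_smul]
  field_simp
  ring

theorem refl_det (h2 : (2 : F) ≠ 0) {w : Fin m ⊕ Fin m → F} (hw : plusQ m w ≠ 0) :
    (refl w).det = -1 := by
  have h1 : refl w = 1 + replicateCol Unit (-(plusQ m w)⁻¹ • w) * replicateRow Unit (sw m w) := by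
    ext i j
    simp [refl, vecMulVec_apply, Matrix.mul_apply, sub_eq_add_neg, mul_assoc]
  rw [h1, det_one_add_replicateCol_mul_replicateRow, dotProduct_smul, dotProduct_comm,
    ← polar_eq_dot, MaxTS.polar_self, smul_eq_mul]
  field_simp
  ring

variable (m) in
theorem stdE_mem (v : Fin m ⊕ Fin m → F) : v ∈ stdE m ↔ ∀ j, v (Sum.inr j) = 0 := by
  unfold stdE
  rw [LinearMap.mem_ker]
  constructor
  · intro h j
    exact congrFun h j
  · intro h
    ext j
    exact h j

/-- an isometry stabilising `{y = 0}` has determinant one -/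
theorem det_of_stab {M : Matrix (Fin m ⊕ Fin m) (Fin m ⊕ Fin m) F} (hM : IsIsoM m M)
    (hE : ∀ v ∈ stdE m (F := F), M *ᵥ v ∈ stdE m) : M.det = 1 := by
  obtain ⟨A, B, C, D, rfl⟩ : ∃ A B C D, M = fromBlocks A B C D :=
    ⟨_, _, _, _, (fromBlocks_toBlocks M).symm⟩
  have hC : C = 0 := by
    ext i j
    have h1 := hE (Pi.single (Sum.inl j) 1) (by rw [stdE_mem]; intro k; simp)
    rw [stdE_mem] at h1
    have h2 := h1 i
    rw [Matrix.mulVec_single_one] at h2
    simpa using h2
  subst hC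
  have hAD : Aᵀ * D = 1 := by
    ext i j
    have h1 := hM.polar (Pi.single (Sum.inl i) 1) (Pi.single (Sum.inr j) 1)
    rw [polar_eq_dot, polar_eq_dot, Matrix.mulVec_single_one, Matrix.mulVec_single_one] at h1
    simp only [sw, dotProduct, Fintype.sum_sum_type, Sum.swap_inl, Sum.swap_inr] at h1
    simp at h1
    rw [Matrix.mul_apply]
    simp only [Matrix.transpose_apply]
    rw [h1, Matrix.one_apply]
    simp only [Pi.single_apply, Sum.inl.injEq, Sum.inr.injEq]
    by_cases hij : i = j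
    · subst hij
      simp
    · rw [if_neg hij]
      apply Finset.sum_eq_zero
      intro a _
      by_cases ha : a = i
      · subst ha
        rw [if_neg hij, mul_zero]
      · rw [if_neg ha, zero_mul]
  rw [det_fromBlocks_zero₂₁, ← det_transpose A, ← det_mul, hAD, det_one]

theorem IsIsoM.map_ts {M : Matrix (Fin m ⊕ Fin m) (Fin m ⊕ Fin m) F} (hM : IsIsoM m M) :
    TS (plusQ m) ((stdE m (F := F)).map M.mulVecLin) := by
  rintro _ ⟨e, he, rfl⟩
  rw [Matrix.mulVecLin_apply, hM]
  exact stdE_ts m e he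

theorem IsIsoM.map_finrank {M : Matrix (Fin m ⊕ Fin m) (Fin m ⊕ Fin m) F} (hM : IsIsoM m M)
    (X : Submodule F (Fin m ⊕ Fin m → F)) :
    finrank F (X.map M.mulVecLin) = finrank F X :=
  (Submodule.equivMapOfInjective M.mulVecLin hM.injective X).finrank_eq.symm

theorem det_eq (h2 : (2 : F) ≠ 0) : ∀ (n : ℕ) (M : Matrix (Fin m ⊕ Fin m) (Fin m ⊕ Fin m) F),
    IsIsoM m M →
    m - finrank F (stdE m ⊓ (stdE m).map M.mulVecLin : Submodule F (Fin m ⊕ Fin m → F)) = n →
    M.det = (-1) ^ n := by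
  have hQ := plusQ_nondegenerate m (F := F)
  have hdim := finrank_plus m (F := F)
  have hE := stdE_ts m (F := F)
  have hEm := stdE_finrank m (F := F)
  intro n
  induction n with
  | zero =>
    intro M hM hn
    obtain ⟨X, hXdef⟩ : ∃ X, X = (stdE m (F := F)).map M.mulVecLin := ⟨_, rfl⟩
    rw [← hXdef] at hn
    have hXm : finrank F X = m := by rw [hXdef, hM.map_finrank, hEm]
    have hle : finrank F (stdE m ⊓ X : Submodule F (Fin m ⊕ Fin m → F)) ≤ m :=
      le_trans (Submodule.finrank_mono inf_le_left) (le_of_eq hEm)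
    have h1 : stdE m ⊓ X = stdE m :=
      Submodule.eq_of_le_of_finrank_eq inf_le_left (by rw [hEm]; omega)
    have h2' : stdE m ≤ X := by rw [← h1]; exact inf_le_right
    have h3 : stdE m = X := Submodule.eq_of_le_of_finrank_eq h2' (by rw [hEm, hXm])
    rw [pow_zero]
    apply det_of_stab hM
    intro v hv
    rw [h3, hXdef]
    exact Submodule.mem_map_of_mem hv
  | succ n ih =>
    intro M hM hn
    obtain ⟨X, hXdef⟩ : ∃ X, X = (stdE m (F := F)).map M.mulVecLin := ⟨_, rfl⟩
    rw [← hXdef] at hn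
    have hX : TS (plusQ m) X := by rw [hXdef]; exact hM.map_ts
    have hXm : finrank F X = m := by rw [hXdef, hM.map_finrank, hEm]
    have hnle : ¬ stdE m ≤ X := by
      intro h
      have : stdE m ⊓ X = stdE m := inf_eq_left.mpr h
      rw [this, hEm] at hn
      omega
    obtain ⟨v, hvE, hvX⟩ := SetLike.not_le_iff_exists.1 hnle
    have hv : plusQ m v = 0 := hE v hvE
    obtain ⟨hN, hNm, hNinf, hNadj, hvN⟩ := nbr_spec hQ hdim hX hXm hv hvX
    have hnle2 : ¬ X ≤ nbr (plusQ m) X v := by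
      intro h
      have : X ⊓ nbr (plusQ m) X v = X := inf_eq_left.mpr h
      rw [this, hXm] at hNadj
      omega
    obtain ⟨x₀, hx₀X, hx₀N⟩ := SetLike.not_le_iff_exists.1 hnle2
    have ha : polar (plusQ m (F := F)) v x₀ ≠ 0 := by
      intro h0
      apply hx₀N
      have : x₀ ∈ X ⊓ perp (plusQ m) (Submodule.span F {v}) := ⟨hx₀X, mem_perp_span.2 h0⟩
      rw [← hNinf] at this
      exact this.2
    have hQx₀ : plusQ m x₀ = 0 := hX x₀ hx₀X
    obtain ⟨w, hwdef⟩ : ∃ w, w = v - x₀ := ⟨_, rfl⟩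
    have hQw : plusQ m w = - polar (plusQ m (F := F)) v x₀ := by
      rw [hwdef, sub_eq_add_neg, ← neg_one_smul F x₀, Q_add_smul, hv, hQx₀]
      ring
    have hQw0 : plusQ m w ≠ 0 := by rw [hQw]; exact neg_ne_zero.mpr ha
    have hRx₀ : refl w *ᵥ x₀ = v := by
      have hp : polar (plusQ m (F := F)) x₀ w = polar (plusQ m (F := F)) v x₀ := by
        rw [hwdef, polar_sub_right, MaxTS.polar_self, hQx₀, mul_zero, sub_zero, polar_comm]
      rw [refl_mulVec, hp, hQw]
      have : (-polar (plusQ m (F := F)) v x₀)⁻¹ * polar (plusQ m (F := F)) v x₀ = -1 := by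
        field_simp
      rw [this, hwdef]
      simp
    have hRy : ∀ y ∈ X ⊓ perp (plusQ m) (Submodule.span F {v}), refl w *ᵥ y = y := by
      intro y hy
      have hy1 : y ∈ X := hy.1
      have hy2 : y ∈ perp (plusQ m) (Submodule.span F {v}) := hy.2
      rw [mem_perp_span] at hy2
      have hp : polar (plusQ m (F := F)) y w = 0 := by
        rw [hwdef, polar_sub_right, polar_comm, hy2, hX.polar_eq_zero hy1 hx₀X, sub_zero]
      rw [refl_mulVec, hp, mul_zero, zero_smul, sub_zero]
    have hRiso := refl_iso hQw0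
    have hNle : nbr (plusQ m) X v ≤ X.map (refl w).mulVecLin := by
      unfold nbr
      apply sup_le
      · intro y hy
        exact ⟨y, hy.1, by rw [Matrix.mulVecLin_apply, hRy y hy]⟩
      · rw [Submodule.span_singleton_le_iff_mem]
        exact ⟨x₀, hx₀X, by rw [Matrix.mulVecLin_apply, hRx₀]⟩
    have hNeq : nbr (plusQ m) X v = X.map (refl w).mulVecLin :=
      Submodule.eq_of_le_of_finrank_eq hNle (by rw [hNm, hRiso.map_finrank, hXm])
    have hM' : IsIsoM m (refl w * M) := hRiso.mul hM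
    have hmap : (stdE m (F := F)).map (refl w * M).mulVecLin = nbr (plusQ m) X v := by
      rw [Matrix.mulVecLin_mul, Submodule.map_comp, ← hXdef, hNeq]
    -- dimension count
    have hle : (X ⊓ stdE m) ⊔ Submodule.span F {v} ≤ nbr (plusQ m) X v ⊓ stdE m := by
      apply sup_le
      · refine le_inf ?_ inf_le_right
        have h1 : X ⊓ stdE m ≤ X ⊓ perp (plusQ m) (Submodule.span F {v}) := by
          refine le_inf inf_le_left ?_
          intro t ht
          rw [mem_perp_span]
          exact hE.polar_eq_zero hvE ht.2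
        rw [← hNinf] at h1
        exact h1.trans inf_le_right
      · rw [Submodule.span_singleton_le_iff_mem]
        exact ⟨hvN, hvE⟩
    have hvn : v ∉ X ⊓ stdE m := fun h => hvX h.1
    have hge := Submodule.finrank_mono hle
    rw [finrank_sup_span hvn] at hge
    have hadj := adjacent_parity hQ hdim hX hXm hN hNm hNadj hE hEm
    rw [inf_comm (stdE m) X, inf_comm (stdE m) (nbr (plusQ m) X v)] at hadj
    have hstep : finrank F (nbr (plusQ m) X v ⊓ stdE m : Submodule F (Fin m ⊕ Fin m → F)) =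
        finrank F (X ⊓ stdE m : Submodule F (Fin m ⊕ Fin m → F)) + 1 := by
      rcases hadj with h | h
      · omega
      · exact h
    have hih := ih (refl w * M) hM' (by
      rw [hmap, inf_comm]
      rw [inf_comm] at hn
      omega)
    rw [det_mul, refl_det h2 hQw0] at hih
    rw [pow_succ]
    linear_combination -hih

end Cfsg.Agent.Lib.Helper25.OrthDet
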