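import Mathlib
import Cfsg.Prelude.Def_Classical
import Cfsg.Agent.Lib.Helper25.OrthDet

set_option autoImplicit false

/-!
The homomorphism `O⁺_2m(F) → {±1}` recording whether an isometry of `Σ x_i y_i` preserves the
two families of maximal totally singular subspaces (any field); it kills the commutator subgroup.
-/

namespace Cfsg.Agent.Lib.Helper25.OrthDet

open Module Matrix QuadraticMap Cfsg.Agent.Lib.Helper25.MaxTS

variable {F : Type*} [Field F] {m : ℕ}

/-- codimension of `E ∩ ME` in `E = {y = 0}` -/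
noncomputable def rk (M : Matrix (Fin m ⊕ Fin m) (Fin m ⊕ Fin m) F) : ℕ :=
  m - finrank F (stdE m ⊓ (stdE m).map M.mulVecLin : Submodule F (Fin m ⊕ Fin m → F))

theorem rk_one : rk (1 : Matrix (Fin m ⊕ Fin m) (Fin m ⊕ Fin m) F) = 0 := by
  unfold rk
  rw [Matrix.mulVecLin_one, Submodule.map_id, inf_idem, stdE_finrank, Nat.sub_self]

theorem rk_mul {M N : Matrix (Fin m ⊕ Fin m) (Fin m ⊕ Fin m) F} (hM : IsIsoM m M)
    (hN : IsIsoM m N) : Even (rk M + rk N + rk (M * N)) := by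
  have hQ := plusQ_nondegenerate m (F := F)
  have hdim := finrank_plus m (F := F)
  have hE := stdE_ts m (F := F)
  have hEm := stdE_finrank m (F := F)
  have hMN := hM.mul hN
  have h1 := parity hQ hdim hE hEm hM.map_ts (by rw [hM.map_finrank, hEm]) hMN.map_ts
    (by rw [hMN.map_finrank, hEm])
  have h2 : (stdE m (F := F)).map M.mulVecLin ⊓ (stdE m).map (M * N).mulVecLin
      = (stdE m ⊓ (stdE m).map N.mulVecLin).map M.mulVecLin := by
    rw [Submodule.map_inf _ hM.injective, Matrix.mulVecLin_mul, Submodule.map_comp]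
  rw [h2, hM.map_finrank] at h1
  unfold rk
  rw [Nat.even_iff] at h1 ⊢
  omega

theorem neg_one_pow_rk_mul {M N : Matrix (Fin m ⊕ Fin m) (Fin m ⊕ Fin m) F} (hM : IsIsoM m M)
    (hN : IsIsoM m N) : (-1 : ℤˣ) ^ rk (M * N) = (-1) ^ rk M * (-1) ^ rk N := by
  have h := rk_mul hM hN
  rcases Nat.even_or_odd (rk M) with h1 | h1 <;> rcases Nat.even_or_odd (rk N) with h2 | h2 <;>
    rcases Nat.even_or_odd (rk (M * N)) with h3 | h3
  all_goals
    first
    | (simp only [h1.neg_one_pow, h2.neg_one_pow, h3.neg_one_pow]; done)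
    | (simp only [h1.neg_one_pow, h2.neg_one_pow, h3.neg_one_pow]; norm_num; done)
    | (exfalso
       rw [Nat.even_iff] at h
       simp only [Nat.even_iff, Nat.odd_iff] at h1 h2 h3
       omega)

theorem isIsoM_of_mem (g : ↥(Cfsg.isometryGroup F (Cfsg.quadFormPlus m F))) :
    IsIsoM m ((g : Matrix.GeneralLinearGroup (Fin m ⊕ Fin m) F) : Matrix (Fin m ⊕ Fin m) (Fin m ⊕ Fin m) F) := by
  intro v
  rw [plusQ_apply, plusQ_apply]
  exact g.2 v v

/-- the family sign: `+1` iff the isometry preserves the two families -/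
noncomputable def famSign : ↥(Cfsg.isometryGroup F (Cfsg.quadFormPlus m F)) →* ℤˣ where
  toFun g := (-1) ^ rk ((g : Matrix.GeneralLinearGroup (Fin m ⊕ Fin m) F) : Matrix (Fin m ⊕ Fin m) (Fin m ⊕ Fin m) F)
  map_one' := by
    show (-1 : ℤˣ) ^ rk ((1 : Matrix.GeneralLinearGroup (Fin m ⊕ Fin m) F) : Matrix (Fin m ⊕ Fin m) (Fin m ⊕ Fin m) F) = 1
    rw [Units.val_one, rk_one, pow_zero]
  map_mul' g h := by
    show (-1 : ℤˣ) ^ rk (((g * h : ↥(Cfsg.isometryGroup F (Cfsg.quadFormPlus m F))) : Matrix.GeneralLinearGroup (Fin m ⊕ Fin m) F) : Matrix (Fin m ⊕ Fin m) (Fin m ⊕ Fin m) F) = _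
    rw [Subgroup.coe_mul, Units.val_mul]
    exact neg_one_pow_rk_mul (isIsoM_of_mem g) (isIsoM_of_mem h)

theorem famSign_apply (g : ↥(Cfsg.isometryGroup F (Cfsg.quadFormPlus m F))) :
    famSign g = (-1) ^ rk ((g : Matrix.GeneralLinearGroup (Fin m ⊕ Fin m) F) : Matrix (Fin m ⊕ Fin m) (Fin m ⊕ Fin m) F) := rfl

/-- elements of `Ω` preserve the two families -/
theorem even_rk_of_mem_omega (g : ↥(Cfsg.isometryGroup F (Cfsg.quadFormPlus m F)))
    (hg : g ∈ Cfsg.Omega F (Cfsg.quadFormPlus m F)) :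
    Even (rk ((g : Matrix.GeneralLinearGroup (Fin m ⊕ Fin m) F) : Matrix (Fin m ⊕ Fin m) (Fin m ⊕ Fin m) F)) := by
  have h1 : g ∈ (famSign (F := F) (m := m)).ker := Abelianization.commutator_subset_ker _ hg
  rw [MonoidHom.mem_ker, famSign_apply] at h1
  exact (neg_one_pow_eq_one_iff_even (by decide)).mp h1

end Cfsg.Agent.Lib.Helper25.OrthDet
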