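import Mathlib
import Cfsg.Prelude.Def_Classical
import Cfsg.Agent.Lib.Helper25.OrthFamily

set_option autoImplicit false

/-!
For `m = k + k` even the coordinate swap `x ↔ y` of the hyperbolic quadric `Σ x_i y_i` is a
commutator of two isometries (permutation matrices).
-/

namespace Cfsg.Agent.Lib.Helper25.OrthDet

open Module Matrix
open scoped commutatorElement

variable {F : Type*} [Field F] (k : ℕ)

/-- the index of a coordinate -/
def idx : Fin (k + k) ⊕ Fin (k + k) → Fin (k + k) := Sum.elim id id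

/-- membership in the first half of the indices -/
def inA (i : Fin (k + k)) : Bool := (finSumFinEquiv.symm i).isLeft

/-- the involution exchanging the two halves of the indices -/
def tau : Equiv.Perm (Fin (k + k)) :=
  (finSumFinEquiv.symm.trans (Equiv.sumComm (Fin k) (Fin k))).trans finSumFinEquiv

theorem inA_tau (i : Fin (k + k)) : inA k (tau k i) = !inA k i := by
  obtain ⟨j, rfl⟩ := finSumFinEquiv.surjective i
  simp only [inA, tau, Equiv.trans_apply, Equiv.symm_apply_apply, Equiv.sumComm_apply]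
  rcases j with j | j <;> rfl

theorem tau_tau (i : Fin (k + k)) : tau k (tau k i) = i := by
  obtain ⟨j, rfl⟩ := finSumFinEquiv.surjective i
  simp only [tau, Equiv.trans_apply, Equiv.symm_apply_apply, Equiv.sumComm_apply, Sum.swap_swap]

/-- permute the hyperbolic pairs -/
def piT : Equiv.Perm (Fin (k + k) ⊕ Fin (k + k)) := Equiv.sumCongr (tau k) (tau k)

/-- swap `x_i ↔ y_i` for `i` in the first half -/
def piA (x : Fin (k + k) ⊕ Fin (k + k)) : Fin (k + k) ⊕ Fin (k + k) :=
  if inA k (idx k x) then x.swap else x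

theorem piA_invol : Function.Involutive (piA k) := by
  intro x
  rcases x with i | i <;> by_cases h : inA k i <;> simp [piA, idx, h]

/-- `piA` as a permutation -/
def piAe : Equiv.Perm (Fin (k + k) ⊕ Fin (k + k)) := (piA_invol k).toPerm

theorem piAe_apply (x : Fin (k + k) ⊕ Fin (k + k)) : piAe k x = piA k x := rfl

theorem piAe_sq : piAe k * piAe k = 1 := by
  ext x
  simp [piAe_apply, piA_invol k x]

theorem piT_sq : piT k * piT k = 1 := by
  ext x
  rcases x with i | i <;> simp [piT, tau_tau]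

theorem key (x : Fin (k + k) ⊕ Fin (k + k)) : piT k (piA k (piT k (piA k x))) = x.swap := by
  rcases x with i | i <;> by_cases h : inA k i <;>
    simp [piA, piT, idx, h, inA_tau, tau_tau]

/-- the matrices -/
noncomputable def MA : Matrix (Fin (k + k) ⊕ Fin (k + k)) (Fin (k + k) ⊕ Fin (k + k)) F :=
  (piAe k).permMatrix F

noncomputable def MT : Matrix (Fin (k + k) ⊕ Fin (k + k)) (Fin (k + k) ⊕ Fin (k + k)) F :=
  (piT k).permMatrix F

theorem MA_mulVec (v : Fin (k + k) ⊕ Fin (k + k) → F) : MA k *ᵥ v = v ∘ piA k := by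
  rw [MA, permMatrix_mulVec]
  rfl

theorem MT_mulVec (v : Fin (k + k) ⊕ Fin (k + k) → F) : MT k *ᵥ v = v ∘ piT k := by
  rw [MT, permMatrix_mulVec]

theorem MA_sq : MA k * MA k = (1 : Matrix (Fin (k + k) ⊕ Fin (k + k)) (Fin (k + k) ⊕ Fin (k + k)) F) := by
  rw [MA, ← permMatrix_mul, piAe_sq, permMatrix_one]

theorem MT_sq : MT k * MT k = (1 : Matrix (Fin (k + k) ⊕ Fin (k + k)) (Fin (k + k) ⊕ Fin (k + k)) F) := by
  rw [MT, ← permMatrix_mul, piT_sq, permMatrix_one]

theorem MA_iso (v : Fin (k + k) ⊕ Fin (k + k) → F) :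
    Cfsg.quadFormPlus (k + k) F (MA k *ᵥ v) = Cfsg.quadFormPlus (k + k) F v := by
  rw [MA_mulVec]
  unfold Cfsg.quadFormPlus
  refine Finset.sum_congr rfl fun i _ => ?_
  by_cases h : inA k i <;> simp [piA, idx, h, mul_comm]

theorem MT_iso (v : Fin (k + k) ⊕ Fin (k + k) → F) :
    Cfsg.quadFormPlus (k + k) F (MT k *ᵥ v) = Cfsg.quadFormPlus (k + k) F v := by
  rw [MT_mulVec]
  unfold Cfsg.quadFormPlus
  have := Equiv.sum_comp (tau k) (fun j => v (Sum.inl j) * v (Sum.inr j))
  rw [← this]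
  refine Finset.sum_congr rfl fun i _ => ?_
  simp [piT]

theorem swap_mulVec (v : Fin (k + k) ⊕ Fin (k + k) → F) :
    (MA k * MT k * MA k * MT k) *ᵥ v = v ∘ Sum.swap := by
  rw [← Matrix.mulVec_mulVec, ← Matrix.mulVec_mulVec, ← Matrix.mulVec_mulVec, MT_mulVec,
    MA_mulVec, MT_mulVec, MA_mulVec]
  ext x
  simp only [Function.comp_apply]
  rw [key]

/-- the group elements -/
noncomputable def gA : ↥(Cfsg.isometryGroup F (Cfsg.quadFormPlus (k + k) F)) :=
  ⟨⟨MA k, MA k, MA_sq k, MA_sq k⟩, fun u _ => MA_iso k u⟩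

noncomputable def gT : ↥(Cfsg.isometryGroup F (Cfsg.quadFormPlus (k + k) F)) :=
  ⟨⟨MT k, MT k, MT_sq k, MT_sq k⟩, fun u _ => MT_iso k u⟩

theorem gA_inv : (gA k (F := F))⁻¹ = gA k := by
  apply inv_eq_of_mul_eq_one_right
  apply Subtype.ext
  apply Units.ext
  exact MA_sq k

theorem gT_inv : (gT k (F := F))⁻¹ = gT k := by
  apply inv_eq_of_mul_eq_one_right
  apply Subtype.ext
  apply Units.ext
  exact MT_sq k

theorem comm_coe :
    ((⁅gA k (F := F), gT k⁆ : ↥(Cfsg.isometryGroup F (Cfsg.quadFormPlus (k + k) F))) :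
      Matrix.GeneralLinearGroup (Fin (k + k) ⊕ Fin (k + k)) F).1 = MA k * MT k * MA k * MT k := by
  rw [commutatorElement_def, gA_inv, gT_inv]
  rfl

theorem comm_mem : ⁅gA k (F := F), gT k⁆ ∈ Cfsg.Omega F (Cfsg.quadFormPlus (k + k) F) :=
  Subgroup.commutator_mem_commutator (Subgroup.mem_top _) (Subgroup.mem_top _)

end Cfsg.Agent.Lib.Helper25.OrthDet
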