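import Cfsg.Agent.Lib.Helper25.POmegaSim
import Mathlib.NumberTheory.LegendreSymbol.QuadraticChar.Basic

set_option autoImplicit false

/-!
# The similarity group modulo scalars: multiplier, determinant, and the quotient by `PSO`
-/

namespace Cfsg.Agent.Lib.Helper25.PSim

open Module QuadraticMap Matrix Cfsg.Agent.Lib.Helper25.CD Cfsg.Agent.Lib.Helper25.Spin
  Cfsg.Agent.Lib.Helper25.MaxTS Cfsg.Agent.Lib.Helper25.Fam Cfsg.Agent.Lib.Helper25.Siegel
  Cfsg.Agent.Lib.Helper25.PS Cfsg.Agent.Lib.Helper25.PAut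

open scoped Pointwise commutatorElement

universe u

section abstract

variable {G A T : Type*} [Group G] [Group A] [Group T]

/-- Descend a surjection along `Θ`. -/
theorem exists_lift (Θ : G →* A) (Ψ : G →* T) (hΨ : Function.Surjective Ψ)
    (hker : Θ.ker ≤ Ψ.ker) :
    ∃ φ : ↥Θ.range →* T, Function.Surjective φ ∧
      φ.ker = (Ψ.ker.map Θ).subgroupOf Θ.range := by
  have hsurj : Function.Surjective Θ.rangeRestrict := Θ.rangeRestrict_surjective
  have hker' : Θ.rangeRestrict.ker ≤ Ψ.ker := by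
    rw [Θ.ker_rangeRestrict]
    exact hker
  obtain ⟨φ, hφdef⟩ : ∃ φ, φ = Θ.rangeRestrict.liftOfSurjective hsurj ⟨Ψ, hker'⟩ := ⟨_, rfl⟩
  have hφ : ∀ g, φ (Θ.rangeRestrict g) = Ψ g := by
    intro g
    rw [hφdef]
    exact MonoidHom.liftOfRightInverse_comp_apply _ _ _ ⟨Ψ, hker'⟩ g
  refine ⟨φ, ?_, ?_⟩
  · intro t
    obtain ⟨g, rfl⟩ := hΨ t
    exact ⟨_, hφ g⟩
  · ext ⟨x, hx⟩
    obtain ⟨g, rfl⟩ := hx
    rw [MonoidHom.mem_ker, Subgroup.mem_subgroupOf]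
    have e : (⟨Θ g, ⟨g, rfl⟩⟩ : ↥Θ.range) = Θ.rangeRestrict g := rfl
    rw [e, hφ]
    constructor
    · intro h
      exact ⟨g, h, rfl⟩
    · rintro ⟨g', hg', h⟩
      have h1 : g'⁻¹ * g ∈ Θ.ker := by
        rw [MonoidHom.mem_ker, map_mul, map_inv]
        have : Θ g' = Θ g := h
        rw [this, inv_mul_cancel]
      have h2 := hker h1
      rw [MonoidHom.mem_ker, map_mul, map_inv, (MonoidHom.mem_ker.1 hg'), inv_one, one_mul] at h2
      exact h2

open Classical in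
/-- A sign character from a predicate. -/
noncomputable def signHom (P : G → Prop) (h1 : P 1)
    (hmul : ∀ g h, P (g * h) ↔ (P g ↔ P h)) : G →* ℤˣ where
  toFun g := if P g then 1 else -1
  map_one' := if_pos h1
  map_mul' g h := by
    by_cases hg : P g <;> by_cases hh : P h <;> simp [hmul, hg, hh]

open Classical in
theorem signHom_eq_one_iff (P : G → Prop) (h1 : P 1)
    (hmul : ∀ g h, P (g * h) ↔ (P g ↔ P h)) (g : G) : signHom P h1 hmul g = 1 ↔ P g := by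
  show (if P g then (1 : ℤˣ) else -1) = 1 ↔ P g
  by_cases hg : P g
  · simp [hg]
  · simp [hg]

end abstract

section sim

variable {ι : Type} [Fintype ι] [DecidableEq ι] {F : Type u} [Field F]
  (Q : QuadraticForm F (ι → F)) (u₀ : ι → F) (hu₀ : Q u₀ = 1)

include hu₀ in
theorem sim_apply (g : GL ι F) (hg : g ∈ Cfsg.Geo.quadSimilarityGroup (F := F) ⇑Q) (v : ι → F) :
    Q ((g : Matrix ι ι F) *ᵥ v) = Q ((g : Matrix ι ι F) *ᵥ u₀) * Q v := by
  obtain ⟨c, hc⟩ := hg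
  rw [hc v, hc u₀, hu₀, mul_one]

include hu₀ in
theorem mult_ne_zero (g : GL ι F) (hg : g ∈ Cfsg.Geo.quadSimilarityGroup (F := F) ⇑Q) :
    Q ((g : Matrix ι ι F) *ᵥ u₀) ≠ 0 := by
  obtain ⟨c, hc⟩ := hg
  rw [hc u₀, hu₀, mul_one]
  exact c.ne_zero

/-- The multiplier of a similarity. -/
noncomputable def mult : ↥(Cfsg.Geo.quadSimilarityGroup (F := F) ⇑Q) →* Fˣ where
  toFun g := Units.mk0 (Q ((g.1 : Matrix ι ι F) *ᵥ u₀)) (mult_ne_zero Q u₀ hu₀ g.1 g.2)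
  map_one' := Units.ext (by
    show Q (((1 : GL ι F) : Matrix ι ι F) *ᵥ u₀) = 1
    rw [Units.val_one, Matrix.one_mulVec, hu₀])
  map_mul' g h := Units.ext (by
    show Q (((g.1 * h.1 : GL ι F) : Matrix ι ι F) *ᵥ u₀) =
      Q ((g.1 : Matrix ι ι F) *ᵥ u₀) * Q ((h.1 : Matrix ι ι F) *ᵥ u₀)
    rw [Units.val_mul, ← Matrix.mulVec_mulVec, sim_apply Q u₀ hu₀ g.1 g.2])

theorem mult_val (g : ↥(Cfsg.Geo.quadSimilarityGroup (F := F) ⇑Q)) :
    (mult Q u₀ hu₀ g : F) = Q ((g.1 : Matrix ι ι F) *ᵥ u₀) := rfl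

theorem Q_sim (g : ↥(Cfsg.Geo.quadSimilarityGroup (F := F) ⇑Q)) (v : ι → F) :
    Q ((g.1 : Matrix ι ι F) *ᵥ v) = (mult Q u₀ hu₀ g : F) * Q v :=
  sim_apply Q u₀ hu₀ g.1 g.2 v

theorem polar_sim (g : ↥(Cfsg.Geo.quadSimilarityGroup (F := F) ⇑Q)) (x y : ι → F) :
    polar Q ((g.1 : Matrix ι ι F) *ᵥ x) ((g.1 : Matrix ι ι F) *ᵥ y) =
      (mult Q u₀ hu₀ g : F) * polar Q x y := by
  unfold polar
  rw [← Matrix.mulVec_add, Q_sim Q u₀ hu₀, Q_sim Q u₀ hu₀, Q_sim Q u₀ hu₀]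
  ring

theorem det_sq (hQ : (polarBilin Q).Nondegenerate)
    (g : ↥(Cfsg.Geo.quadSimilarityGroup (F := F) ⇑Q)) :
    (g.1 : Matrix ι ι F).det ^ 2 = (mult Q u₀ hu₀ g : F) ^ Fintype.card ι := by
  have hcomp : LinearMap.BilinForm.comp (polarBilin Q) (Matrix.toLin' (g.1 : Matrix ι ι F))
      (Matrix.toLin' (g.1 : Matrix ι ι F)) = (mult Q u₀ hu₀ g : F) • polarBilin Q := by
    apply LinearMap.ext
    intro x
    apply LinearMap.ext
    intro y
    rw [LinearMap.BilinForm.comp_apply, Matrix.toLin'_apply, Matrix.toLin'_apply,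
      polarBilin_apply_apply, polar_sim Q u₀ hu₀]
    rfl
  have h1 := congrArg LinearMap.BilinForm.toMatrix' hcomp
  rw [LinearMap.BilinForm.toMatrix'_comp, LinearMap.toMatrix'_toLin', map_smul] at h1
  have h2 := congrArg Matrix.det h1
  rw [Matrix.det_mul, Matrix.det_mul, Matrix.det_transpose, Matrix.det_smul] at h2
  have hM : (LinearMap.BilinForm.toMatrix' (polarBilin Q)).det ≠ 0 := by
    rw [← Matrix.nondegenerate_iff_det_ne_zero]
    exact LinearMap.BilinForm.nondegenerate_toMatrix'_iff.2 hQ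
  apply mul_right_cancel₀ hM
  linear_combination h2

theorem det_eq_or (hQ : (polarBilin Q).Nondegenerate) {m : ℕ}
    (hcard : Fintype.card ι = 2 * m)
    (g : ↥(Cfsg.Geo.quadSimilarityGroup (F := F) ⇑Q)) :
    (g.1 : Matrix ι ι F).det = (mult Q u₀ hu₀ g : F) ^ m ∨
      (g.1 : Matrix ι ι F).det = -(mult Q u₀ hu₀ g : F) ^ m := by
  have h := det_sq Q u₀ hu₀ hQ g
  rw [hcard, mul_comm, pow_mul] at h
  exact sq_eq_sq_iff_eq_or_eq_neg.1 h

/-- The proper similarities: determinant equal to the `m`-th power of the multiplier. -/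
def IsProper (m : ℕ) (g : ↥(Cfsg.Geo.quadSimilarityGroup (F := F) ⇑Q)) : Prop :=
  (g.1 : Matrix ι ι F).det = (mult Q u₀ hu₀ g : F) ^ m

theorem isProper_one (m : ℕ) : IsProper Q u₀ hu₀ m 1 := by
  unfold IsProper
  rw [map_one, Units.val_one, one_pow]
  exact Matrix.det_one

theorem isProper_mul (h2 : (2 : F) ≠ 0) (hQ : (polarBilin Q).Nondegenerate) {m : ℕ}
    (hcard : Fintype.card ι = 2 * m)
    (g h : ↥(Cfsg.Geo.quadSimilarityGroup (F := F) ⇑Q)) :
    IsProper Q u₀ hu₀ m (g * h) ↔ (IsProper Q u₀ hu₀ m g ↔ IsProper Q u₀ hu₀ m h) := by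
  unfold IsProper
  have hne : ∀ x : F, x ≠ 0 → -x ≠ x := by
    intro x hx h
    apply hx
    have : (2 : F) * x = 0 := by linear_combination -h
    exact (mul_eq_zero.1 this).resolve_left h2
  have hA : ((mult Q u₀ hu₀ g : F)) ^ m ≠ 0 := pow_ne_zero _ (Units.ne_zero _)
  have hB : ((mult Q u₀ hu₀ h : F)) ^ m ≠ 0 := pow_ne_zero _ (Units.ne_zero _)
  have e1 : ((g * h).1 : Matrix ι ι F).det = (g.1 : Matrix ι ι F).det * (h.1 : Matrix ι ι F).det := by
    show ((g.1 * h.1 : GL ι F) : Matrix ι ι F).det = _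
    rw [Units.val_mul, Matrix.det_mul]
  rw [e1, map_mul, Units.val_mul, mul_pow]
  rcases det_eq_or Q u₀ hu₀ hQ hcard g with hg | hg <;>
    rcases det_eq_or Q u₀ hu₀ hQ hcard h with hh | hh
  · rw [hg, hh]
    simp
  · rw [hg, hh]
    constructor
    · intro h'
      exfalso
      apply hne _ (mul_ne_zero hA hB)
      linear_combination h'
    · intro h'
      exfalso
      exact hne _ hB (h'.1 rfl)
  · rw [hg, hh]
    constructor
    · intro h'
      exfalso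
      apply hne _ (mul_ne_zero hA hB)
      linear_combination h'
    · intro h'
      exfalso
      exact hne _ hA (h'.2 rfl)
  · rw [hg, hh]
    constructor
    · intro _
      exact ⟨fun h' => absurd h' (hne _ hA), fun h' => absurd h' (hne _ hB)⟩
    · intro _
      ring

end sim

section finite

variable {ι : Type} [Fintype ι] [DecidableEq ι] {F : Type u} [Field F] [Fintype F]
  (Q : QuadraticForm F (ι → F)) (u₀ : ι → F) (hu₀ : Q u₀ = 1)

open Classical in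
/-- The quadratic character of the multiplier. -/
noncomputable def psi1 : ↥(Cfsg.Geo.quadSimilarityGroup (F := F) ⇑Q) →* ℤˣ :=
  (quadraticChar F).toUnitHom.comp (mult Q u₀ hu₀)

open Classical in
theorem psi1_eq_one_iff (g : ↥(Cfsg.Geo.quadSimilarityGroup (F := F) ⇑Q)) :
    psi1 Q u₀ hu₀ g = 1 ↔ IsSquare (mult Q u₀ hu₀ g : F) := by
  rw [← quadraticChar_one_iff_isSquare (Units.ne_zero _), Units.ext_iff]
  rfl

/-- The sign of a similarity. -/
noncomputable def psi2 (h2 : (2 : F) ≠ 0) (hQ : (polarBilin Q).Nondegenerate) {m : ℕ}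
    (hcard : Fintype.card ι = 2 * m) : ↥(Cfsg.Geo.quadSimilarityGroup (F := F) ⇑Q) →* ℤˣ :=
  signHom (IsProper Q u₀ hu₀ m) (isProper_one Q u₀ hu₀ m) (isProper_mul Q u₀ hu₀ h2 hQ hcard)

theorem psi2_eq_one_iff (h2 : (2 : F) ≠ 0) (hQ : (polarBilin Q).Nondegenerate) {m : ℕ}
    (hcard : Fintype.card ι = 2 * m) (g : ↥(Cfsg.Geo.quadSimilarityGroup (F := F) ⇑Q)) :
    psi2 Q u₀ hu₀ h2 hQ hcard g = 1 ↔ IsProper Q u₀ hu₀ m g :=
  signHom_eq_one_iff _ _ _ g

/-- The pair of characters. -/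
noncomputable def Psi (h2 : (2 : F) ≠ 0) (hQ : (polarBilin Q).Nondegenerate) {m : ℕ}
    (hcard : Fintype.card ι = 2 * m) :
    ↥(Cfsg.Geo.quadSimilarityGroup (F := F) ⇑Q) →* ℤˣ × ℤˣ :=
  (psi1 Q u₀ hu₀).prod (psi2 Q u₀ hu₀ h2 hQ hcard)

theorem Psi_eq_one_iff (h2 : (2 : F) ≠ 0) (hQ : (polarBilin Q).Nondegenerate) {m : ℕ}
    (hcard : Fintype.card ι = 2 * m) (g : ↥(Cfsg.Geo.quadSimilarityGroup (F := F) ⇑Q)) :
    Psi Q u₀ hu₀ h2 hQ hcard g = 1 ↔
      IsSquare (mult Q u₀ hu₀ g : F) ∧ IsProper Q u₀ hu₀ m g := by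
  rw [← psi1_eq_one_iff, ← psi2_eq_one_iff Q u₀ hu₀ h2 hQ hcard]
  show ((psi1 Q u₀ hu₀ g, psi2 Q u₀ hu₀ h2 hQ hcard g) : ℤˣ × ℤˣ) = 1 ↔ _
  rw [Prod.ext_iff]
  rfl

end finite

end Cfsg.Agent.Lib.Helper25.PSim
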