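import Cfsg.Agent.Lib.Helper25.POmegaSimForms
import Cfsg.Agent.Lib.Helper4.D8Rec

set_option autoImplicit false

/-!
# `PGO / PΩ` is dihedral of order eight when `-1 ∈ Ω`
-/

namespace Cfsg.Agent.Lib.Helper25.PSim

open Module QuadraticMap Matrix Cfsg.Agent.Lib.Helper25.CD Cfsg.Agent.Lib.Helper25.Spin
  Cfsg.Agent.Lib.Helper25.MaxTS Cfsg.Agent.Lib.Helper25.Fam Cfsg.Agent.Lib.Helper25.Siegel
  Cfsg.Agent.Lib.Helper25.PS Cfsg.Agent.Lib.Helper25.PAut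

open scoped Pointwise commutatorElement

universe u

section d8

variable {ι : Type} [Fintype ι] [DecidableEq ι] {F : Type u} [Field F] [Fintype F]
  (Q : QuadraticForm F (ι → F)) (u₀ : ι → F) (hu₀ : Q u₀ = 1)

include hu₀ in
/-- An isometry inducing an inner automorphism lies in `Ω`, if `-1 ∈ Ω`. -/
theorem mem_omega_of_theta_mem_inn (hQ : (polarBilin Q).Nondegenerate)
    (hn : 7 ≤ Fintype.card ι)
    (hneg : ∃ g : ↥(Cfsg.isometryGroup F ⇑Q), g ∈ Cfsg.Omega F ⇑Q ∧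
        ((g : GL ι F) : Matrix ι ι F) = -1)
    (s : ↥(Cfsg.isometryGroup F ⇑Q))
    (h : theta ⇑Q (incl ⇑Q s) ∈ Cfsg.Inn (Cfsg.POmega F ⇑Q)) : s ∈ Cfsg.Omega F ⇑Q := by
  rw [inn_eq'] at h
  obtain ⟨_, ⟨s', hs', rfl⟩, hs⟩ := h
  obtain ⟨c, hc0, hc⟩ := exists_scalar_of_theta_eq Q u₀ hu₀ hQ hn (incl ⇑Q s) s' hs.symm
  have hmult := rel_mult Q u₀ hu₀ (incl ⇑Q s) s' c hc
  rw [mult_val, incl_val, Q_iso, hu₀] at hmult
  have hc2 : (c - 1) * (c + 1) = 0 := by linear_combination -hmult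
  rcases mul_eq_zero.1 hc2 with h1 | h1
  · have hc1 : c = 1 := by linear_combination h1
    have : s = s' := by
      apply toOG_injective Q
      ext1 x
      rw [toOG_apply, toOG_apply]
      have := hc x
      rw [hc1, one_smul, incl_val] at this
      exact this
    rw [this]
    exact hs'
  · have hc1 : c = -1 := by linear_combination h1
    obtain ⟨g₀, hg₀Ω, hg₀⟩ := hneg
    have : s = g₀ * s' := by
      apply toOG_injective Q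
      ext1 x
      rw [map_mul, LinearEquiv.mul_apply, toOG_apply, toOG_apply, toOG_apply, hg₀,
        Matrix.neg_mulVec, Matrix.one_mulVec]
      have := hc x
      rw [hc1, neg_one_smul, incl_val] at this
      exact this
    rw [this]
    exact mul_mem hg₀Ω hs'

include hu₀ in
/-- Conjugating a reflection by a similarity. -/
theorem conj_refl (d : ↥(Cfsg.Geo.quadSimilarityGroup (F := F) ⇑Q)) (v : ι → F) :
    d * incl ⇑Q (reflM Q v) * d⁻¹ = incl ⇑Q (reflM Q ((d.1 : Matrix ι ι F) *ᵥ v)) := by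
  apply Subtype.ext
  show d.1 * (reflM Q v).1 * d.1⁻¹ = (reflM Q ((d.1 : Matrix ι ι F) *ᵥ v)).1
  apply toLE.injective
  ext1 x
  have e1 : ∀ (w y : ι → F), toLE (reflM Q w).1 y = reflE Q w y := by
    intro w y
    rw [← toOG_eq, toOG_reflM]
  rw [map_mul, map_mul, LinearEquiv.mul_apply, LinearEquiv.mul_apply, e1, e1, reflE_apply,
    reflE_apply, map_sub, map_smul]
  have e2 : toLE d.1 (toLE d.1⁻¹ x) = x := by
    rw [← LinearEquiv.mul_apply, ← map_mul, mul_inv_cancel, map_one]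
    rfl
  rw [e2, toLE_apply d.1 v, Q_sim Q u₀ hu₀]
  have e3 : polar Q ((d.1 : Matrix ι ι F) *ᵥ v) x =
      (mult Q u₀ hu₀ d : F) * polar Q v (toLE d.1⁻¹ x) := by
    rw [← polar_sim Q u₀ hu₀, ← toLE_apply d.1 (toLE d.1⁻¹ x), e2]
  rw [e3]
  congr 2
  have hμ : (mult Q u₀ hu₀ d : F) ≠ 0 := Units.ne_zero _
  by_cases hv : Q v = 0
  · rw [hv]
    simp
  · field_simp

/-- `PGO/PΩ` is dihedral of order eight when `-1 ∈ Ω`. -/
theorem exists_hom_pgo_inn_D8 (h2 : (2 : F) ≠ 0) (hQ : (polarBilin Q).Nondegenerate) {m : ℕ}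
    (hcard : Fintype.card ι = 2 * m) (hn : 7 ≤ Fintype.card ι)
    (d : ↥(Cfsg.Geo.quadSimilarityGroup (F := F) ⇑Q))
    (hd : ¬ IsSquare (mult Q u₀ hu₀ d : F))
    (hneg : ∃ g : ↥(Cfsg.isometryGroup F ⇑Q), g ∈ Cfsg.Omega F ⇑Q ∧
        ((g : GL ι F) : Matrix ι ι F) = -1) :
    ∃ φ : ↥(Cfsg.pgoAut F ⇑Q) →* DihedralGroup 4, Function.Surjective φ ∧
      φ.ker = (Cfsg.Inn (Cfsg.POmega F ⇑Q)).subgroupOf (Cfsg.pgoAut F ⇑Q) := by
  have hle1 := inn_le_psoAut Q h2 hQ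
  have hle2 := psoAut_le_pgoAut Q
  have hidx1 : (Cfsg.Inn (Cfsg.POmega F ⇑Q)).relIndex (Cfsg.psoAut F ⇑Q) = 2 :=
    (relIndex_inn_pso Q h2 hQ hn ⟨m, by omega⟩).1 hneg
  obtain ⟨φ₀, hφ₀s, hφ₀k⟩ := exists_hom_pgo_pso Q u₀ hu₀ h2 hQ hcard hn d hd
  have hidx2 : (Cfsg.psoAut F ⇑Q).relIndex (Cfsg.pgoAut F ⇑Q) = 4 := by
    unfold Subgroup.relIndex
    rw [← hφ₀k, Subgroup.index_ker, MonoidHom.range_eq_top.2 hφ₀s, Subgroup.card_top]
    exact kleinFour_int_units.card_four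
  have hidx : (Cfsg.Inn (Cfsg.POmega F ⇑Q)).relIndex (Cfsg.pgoAut F ⇑Q) = 8 := by
    rw [← Subgroup.relIndex_mul_relIndex _ _ _ hle1 hle2, hidx1, hidx2]
  obtain ⟨N, hN⟩ : ∃ N, N = (Cfsg.Inn (Cfsg.POmega F ⇑Q)).subgroupOf (Cfsg.pgoAut F ⇑Q) :=
    ⟨_, rfl⟩
  haveI : N.Normal := by
    rw [hN]
    infer_instance
  have hcardT : Nat.card (↥(Cfsg.pgoAut F ⇑Q) ⧸ N) = 8 := by
    rw [← Subgroup.index_eq_card, hN]
    exact hidx
  haveI : Finite (↥(Cfsg.pgoAut F ⇑Q) ⧸ N) :=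
    Nat.finite_of_card_ne_zero (by rw [hcardT]; norm_num)
  have hmem : ∀ g, theta ⇑Q g ∈ Cfsg.pgoAut F ⇑Q := fun g => by
    rw [pgoAut_eq]
    exact ⟨g, rfl⟩
  obtain ⟨π, hπdef⟩ : ∃ π : ↥(Cfsg.Geo.quadSimilarityGroup (F := F) ⇑Q) →*
      (↥(Cfsg.pgoAut F ⇑Q) ⧸ N),
      π = (QuotientGroup.mk' N).comp ((theta ⇑Q).codRestrict _ hmem) := ⟨_, rfl⟩
  have hπ : ∀ g, π g = 1 ↔ theta ⇑Q g ∈ Cfsg.Inn (Cfsg.POmega F ⇑Q) := by
    intro g
    rw [hπdef]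
    show (QuotientGroup.mk (((theta ⇑Q).codRestrict _ hmem) g) : _ ⧸ N) = 1 ↔ _
    rw [QuotientGroup.eq_one_iff, hN, Subgroup.mem_subgroupOf]
    rfl
  have hπO : ∀ s : ↥(Cfsg.isometryGroup F ⇑Q), π (incl ⇑Q s) = 1 → s ∈ Cfsg.Omega F ⇑Q :=
    fun s hs => mem_omega_of_theta_mem_inn Q u₀ hu₀ hQ hn hneg s ((hπ _).1 hs)
  have hr_sq : ∀ v, π (incl ⇑Q (reflM Q v)) * π (incl ⇑Q (reflM Q v)) = 1 := by
    intro v
    rw [← map_mul, ← map_mul, reflM_mul_self, map_one, map_one]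
  have hr_ne : ∀ v, Q v ≠ 0 → π (incl ⇑Q (reflM Q v)) ≠ 1 := by
    intro v hv h
    have h1 := hπO _ h
    rw [← wordG_singleton, mem_omega_iff Q h2 hQ] at h1
    · obtain ⟨⟨k, hk⟩, -⟩ := h1
      simp at hk
      omega
    · intro w hw
      rw [List.mem_singleton] at hw
      rw [hw]
      exact hv
  have hr2 : ∀ v w, Q v ≠ 0 → Q w ≠ 0 → ¬ IsSquare (Q v * Q w) →
      π (incl ⇑Q (reflM Q v)) ≠ π (incl ⇑Q (reflM Q w)) := by
    intro v w hv hw hsq h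
    have h1 : π (incl ⇑Q (reflM Q v * reflM Q w)) = 1 := by
      rw [map_mul, map_mul, h, hr_sq]
    have h3 := hπO _ h1
    have e : reflM Q v * reflM Q w = wordG Q [v, w] := by
      rw [wordG_cons, wordG_singleton]
    rw [e, mem_omega_iff Q h2 hQ] at h3
    · apply hsq
      have := h3.2
      rwa [normProd_cons, normProd_cons, normProd_nil, mul_one] at this
    · intro x hx
      simp only [List.mem_cons, List.not_mem_nil, or_false] at hx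
      rcases hx with rfl | rfl
      · exact hv
      · exact hw
  have hQd : Q ((d.1 : Matrix ι ι F) *ᵥ u₀) = (mult Q u₀ hu₀ d : F) := by
    rw [Q_sim Q u₀ hu₀, hu₀, mul_one]
  have hu₀0 : Q u₀ ≠ 0 := by rw [hu₀]; exact one_ne_zero
  have hd0 : Q ((d.1 : Matrix ι ι F) *ᵥ u₀) ≠ 0 := by
    rw [hQd]
    exact Units.ne_zero _
  have hst : π (incl ⇑Q (reflM Q u₀)) ≠ π (incl ⇑Q (reflM Q ((d.1 : Matrix ι ι F) *ᵥ u₀))) := by
    apply hr2 _ _ hu₀0 hd0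
    rw [hu₀, one_mul, hQd]
    exact hd
  have hs : orderOf (π (incl ⇑Q (reflM Q u₀))) = 2 :=
    orderOf_eq_prime (by rw [pow_two]; exact hr_sq _) (hr_ne _ hu₀0)
  have ht : orderOf (π (incl ⇑Q (reflM Q ((d.1 : Matrix ι ι F) *ᵥ u₀)))) = 2 :=
    orderOf_eq_prime (by rw [pow_two]; exact hr_sq _) (hr_ne _ hd0)
  have hnc : ¬ IsMulCommutative (↥(Cfsg.pgoAut F ⇑Q) ⧸ N) := by
    intro hc
    apply hst
    have h1 : π d * π (incl ⇑Q (reflM Q u₀)) * (π d)⁻¹ =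
        π (incl ⇑Q (reflM Q ((d.1 : Matrix ι ι F) *ᵥ u₀))) := by
      rw [← map_inv, ← map_mul, ← map_mul, conj_refl Q u₀ hu₀]
    rw [← h1, hc.is_comm.comm (π d), mul_inv_cancel_right]
  obtain ⟨e⟩ := Cfsg.Agent.Lib.Helper4.nonempty_mulEquiv_dihedral_four hcardT hnc _ _ hs ht hst
  refine ⟨e.toMonoidHom.comp (QuotientGroup.mk' N),
    e.surjective.comp (QuotientGroup.mk'_surjective N), ?_⟩
  rw [comp_equiv_ker, QuotientGroup.ker_mk', hN]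

end d8

section wrap2

variable {ι : Type} [Fintype ι] [DecidableEq ι] {F : Type u} [Field F] [Fintype F]
  (Q : QuadraticForm F (ι → F))

/-- `PGO/PΩ` is dihedral of order eight when `-1 ∈ Ω` (matrix form of the data). -/
theorem exists_hom_pgo_inn_D8' (h2 : (2 : F) ≠ 0) (hQ : (polarBilin Q).Nondegenerate) {m : ℕ}
    (hcard : Fintype.card ι = 2 * m) (hn : 7 ≤ Fintype.card ι)
    (A : Matrix ι ι F) (ν : F) (hν : ¬ IsSquare ν) (hA : ∀ v, Q (A *ᵥ v) = ν * Q v)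
    (hneg : ∃ g : ↥(Cfsg.isometryGroup F ⇑Q), g ∈ Cfsg.Omega F ⇑Q ∧
        ((g : GL ι F) : Matrix ι ι F) = -1) :
    ∃ φ : ↥(Cfsg.pgoAut F ⇑Q) →* DihedralGroup 4, Function.Surjective φ ∧
      φ.ker = (Cfsg.Inn (Cfsg.POmega F ⇑Q)).subgroupOf (Cfsg.pgoAut F ⇑Q) := by
  obtain ⟨u₀, hu₀, d, hd⟩ := exists_data Q h2 hQ (by omega) A ν hν hA
  exact exists_hom_pgo_inn_D8 Q u₀ hu₀ h2 hQ hcard hn d (by rw [hd]; exact hν) hneg

/-- `PGO/PΩ` is a four-group when `-1 ∉ Ω`. -/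
theorem exists_hom_pgo_inn_klein (h2 : (2 : F) ≠ 0) (hQ : (polarBilin Q).Nondegenerate) {m : ℕ}
    (hcard : Fintype.card ι = 2 * m) (hn : 7 ≤ Fintype.card ι)
    (A : Matrix ι ι F) (ν : F) (hν : ¬ IsSquare ν) (hA : ∀ v, Q (A *ᵥ v) = ν * Q v)
    (hneg : ¬ ∃ g : ↥(Cfsg.isometryGroup F ⇑Q), g ∈ Cfsg.Omega F ⇑Q ∧
        ((g : GL ι F) : Matrix ι ι F) = -1) :
    ∃ φ : ↥(Cfsg.pgoAut F ⇑Q) →* Multiplicative (ZMod 2 × ZMod 2), Function.Surjective φ ∧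
      φ.ker = (Cfsg.Inn (Cfsg.POmega F ⇑Q)).subgroupOf (Cfsg.pgoAut F ⇑Q) := by
  have hidx1 : (Cfsg.Inn (Cfsg.POmega F ⇑Q)).relIndex (Cfsg.psoAut F ⇑Q) = 1 :=
    (relIndex_inn_pso Q h2 hQ hn ⟨m, by omega⟩).2 hneg
  have heq : Cfsg.Inn (Cfsg.POmega F ⇑Q) = Cfsg.psoAut F ⇑Q :=
    le_antisymm (inn_le_psoAut Q h2 hQ) (Subgroup.relIndex_eq_one.1 hidx1)
  rw [heq]
  exact exists_hom_pgo_pso' Q h2 hQ hcard hn A ν hν hA

end wrap2

end Cfsg.Agent.Lib.Helper25.PSim
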