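import Mathlib
import Cfsg.Agent.Lib.Helper1.PRDefs

/-!
# PRORB (S3612, market PR): at most four orbits => transitive on invariant sets missing three points
-/

set_option autoImplicit false

namespace Cfsg.Agent.Lib.Helper25.PRORB

open MulAction Cfsg.Agent.Lib.Helper1.PR

theorem PRORB {G Ω : Type*} [Group G] [MulAction G Ω] [Finite Ω]
    (h4 : ∀ α β : Ω, α ≠ β →
      Nat.card (MulAction.orbitRel.Quotient ↥(stabilizer G α ⊓ stabilizer G β) Ω) ≤ 4) :
    FewOrbits G Ω := by
  intro α β hαβ S hS hαS hβS hz y hy y' hy'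
  obtain ⟨z, hzS, hzα, hzβ⟩ := hz
  by_contra hcon
  have hmem : ∀ a b : Ω,
      (Quotient.mk'' a : orbitRel.Quotient ↥(stabilizer G α ⊓ stabilizer G β) Ω) = Quotient.mk'' b →
      ∃ g : G, g • α = α ∧ g • β = β ∧ g • b = a := by
    intro a b hab
    have h1 : a ∈ orbit ↥(stabilizer G α ⊓ stabilizer G β) b := Quotient.exact' hab
    obtain ⟨⟨g, hg⟩, hga⟩ := h1
    have hg' := Subgroup.mem_inf.1 hg
    exact ⟨g, mem_stabilizer_iff.1 hg'.1, mem_stabilizer_iff.1 hg'.2, hga⟩
  have hSinv : ∀ g : G, g • α = α → g • β = β → ∀ w : Ω, g • w ∈ S → w ∈ S := by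
    intro g hgα hgβ w hw
    have hα' : g⁻¹ • α = α := by rw [inv_smul_eq_iff, hgα]
    have hβ' : g⁻¹ • β = β := by rw [inv_smul_eq_iff, hgβ]
    have := hS g⁻¹ hα' hβ' _ hw
    rwa [inv_smul_smul] at this
  have hyα : y ≠ α := fun h => hαS (h ▸ hy)
  have hyβ : y ≠ β := fun h => hβS (h ▸ hy)
  have hy'α : y' ≠ α := fun h => hαS (h ▸ hy')
  have hy'β : y' ≠ β := fun h => hβS (h ▸ hy')
  -- the five points lie in five different orbits
  let f : Fin 5 → Ω := ![α, β, z, y, y']
  have hlt : ∀ i j : Fin 5, i < j →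
      (Quotient.mk'' (f i) : orbitRel.Quotient ↥(stabilizer G α ⊓ stabilizer G β) Ω)
        ≠ Quotient.mk'' (f j) := by
    intro i j hij hq
    obtain ⟨g, hgα, hgβ, hg⟩ := hmem _ _ hq
    fin_cases i <;> fin_cases j <;> simp only [f] at hg <;>
      first
        | exact absurd hij (by decide)
        | skip
    all_goals simp at hg
    · -- α β : g • β = α
      exact hαβ (by rw [← hg, hgβ])
    · -- α z : g • z = α
      exact hzα (smul_left_cancel g (by rw [hg, hgα]))
    · exact hyα (smul_left_cancel g (by rw [hg, hgα]))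
    · exact hy'α (smul_left_cancel g (by rw [hg, hgα]))
    · exact hzβ (smul_left_cancel g (by rw [hg, hgβ]))
    · exact hyβ (smul_left_cancel g (by rw [hg, hgβ]))
    · exact hy'β (smul_left_cancel g (by rw [hg, hgβ]))
    · -- z y : g • y = z
      exact hzS (hg ▸ hS g hgα hgβ y hy)
    · exact hzS (hg ▸ hS g hgα hgβ y' hy')
    · -- y y' : g • y' = y
      apply hcon
      refine ⟨g⁻¹, by rw [inv_smul_eq_iff, hgα], by rw [inv_smul_eq_iff, hgβ], ?_⟩
      rw [inv_smul_eq_iff, hg]
  have hinj : Function.Injective (fun i : Fin 5 =>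
      (Quotient.mk'' (f i) : orbitRel.Quotient ↥(stabilizer G α ⊓ stabilizer G β) Ω)) := by
    intro i j hij
    rcases lt_trichotomy i j with h | h | h
    · exact absurd hij (hlt i j h)
    · exact h
    · exact absurd hij.symm (hlt j i h)
  have hcard := Nat.card_le_card_of_injective _ hinj
  rw [Nat.card_eq_fintype_card, Fintype.card_fin] at hcard
  exact absurd (le_trans hcard (h4 α β hαβ)) (by norm_num)

end Cfsg.Agent.Lib.Helper25.PRORB
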