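/-
helper25 (S4892 market, planner helper23): leaf (FR) `normal_sup_centralizer`
(Frattini: `N C_G(Q)` is normal in `G`).
-/
import Mathlib

set_option autoImplicit false

namespace Cfsg.Agent.Lib.Helper25.PRat

universe u

/-- conjugating by a normaliser element of `Q₀` preserves `N ⊔ C_G(Q₀)` -/
theorem conj_mem_sup_centralizer {G : Type u} [Group G] (N : Subgroup G) [hN : N.Normal]
    (Q₀ : Subgroup G) (x : G) (hx : ∀ q, q ∈ Q₀ → x⁻¹ * q * x ∈ Q₀) :
    ∀ h ∈ N ⊔ Subgroup.centralizer (Q₀ : Set G),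
      x * h * x⁻¹ ∈ N ⊔ Subgroup.centralizer (Q₀ : Set G) := by
  have h : N ⊔ Subgroup.centralizer (Q₀ : Set G) ≤
      (N ⊔ Subgroup.centralizer (Q₀ : Set G)).comap (MulAut.conj x).toMonoidHom := by
    apply sup_le
    · intro n hn
      rw [Subgroup.mem_comap]
      exact (le_sup_left : N ≤ N ⊔ Subgroup.centralizer (Q₀ : Set G)) (hN.conj_mem n hn x)
    · intro c hc
      rw [Subgroup.mem_comap]
      apply (le_sup_right : Subgroup.centralizer (Q₀ : Set G) ≤ _)
      rw [Subgroup.mem_centralizer_iff] at hc ⊢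
      intro q hq
      have h1 := hc (x⁻¹ * q * x) (hx q hq)
      show q * (x * c * x⁻¹) = x * c * x⁻¹ * q
      have h2 : q * (x * c * x⁻¹) = x * ((x⁻¹ * q * x) * c) * x⁻¹ := by group
      rw [h2, h1]
      group
  intro y hy
  exact h hy

/-- **S4892 leaf (FR)** (frozen signature of `notes/S4892_leaves.lean`). -/
theorem normal_sup_centralizer {G : Type u} [Group G] [Finite G] (p : ℕ) [Fact p.Prime]
    (N : Subgroup G) [N.Normal] (Q : Sylow p N) :
    (N ⊔ Subgroup.centralizer (((Q : Subgroup N).map N.subtype : Subgroup G) : Set G)).Normal := by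
  set Q₀ : Subgroup G := (Q : Subgroup N).map N.subtype with hQ₀
  rw [← Subgroup.normalizer_eq_top_iff]
  have h1 : N ≤ Subgroup.normalizer
      ((N ⊔ Subgroup.centralizer (Q₀ : Set G) : Subgroup G) : Set G) :=
    le_trans le_sup_left Subgroup.le_normalizer
  have h2 : Subgroup.normalizer (Q₀ : Set G) ≤ Subgroup.normalizer
      ((N ⊔ Subgroup.centralizer (Q₀ : Set G) : Subgroup G) : Set G) := by
    intro x hx
    rw [Subgroup.mem_normalizer_iff]
    intro h
    constructor
    · intro hh
      refine conj_mem_sup_centralizer N Q₀ x ?_ h hh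
      intro q hq
      exact (Subgroup.mem_normalizer_iff''.mp hx q).mp hq
    · intro hh
      have := conj_mem_sup_centralizer N Q₀ x⁻¹ ?_ _ hh
      · have e : x⁻¹ * (x * h * x⁻¹) * x⁻¹⁻¹ = h := by group
        rwa [e] at this
      · intro q hq
        rw [inv_inv]
        exact (Subgroup.mem_normalizer_iff.mp hx q).mp hq
  have h3 : Subgroup.normalizer (Q₀ : Set G) ⊔ N = ⊤ := Sylow.normalizer_sup_eq_top Q
  rw [eq_top_iff, ← h3]
  exact sup_le h2 h1

end Cfsg.Agent.Lib.Helper25.PRat
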