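/-
helper25 (S4892 market, planner helper23): leaf (T3) `mem_principalBlock_of_pgroup_quotient`:
an extension to `G` of a member of `B₀(H)`, `G/H` a `p`-group, lies in `B₀(G)`.
-/
import Mathlib
import Cfsg.Prelude.Def_Blocks
import Cfsg.Agent.Lib.Helper6.ThirdMain

set_option autoImplicit false

namespace Cfsg.Agent.Lib.Helper25.PRat

open Cfsg Cfsg.Agent.Lib.Helper6

universe u

/-- when `G/H` is a `p`-group, the `p`-regular elements of `G` lie in `H` -/
theorem mem_of_pRegular_of_index {G : Type u} [Group G] [Finite G] (p : ℕ) [hp : Fact p.Prime]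
    (H : Subgroup G) [H.Normal] {a : ℕ} (hidx : H.index = p ^ a) (g : G)
    (hg : ¬ p ∣ orderOf g) : g ∈ H := by
  rw [← QuotientGroup.eq_one_iff (N := H)]
  have h1 : orderOf (QuotientGroup.mk g : G ⧸ H) ∣ p ^ a := by
    rw [← hidx, Subgroup.index_eq_card]
    exact orderOf_dvd_natCard _
  have h2 : orderOf (QuotientGroup.mk g : G ⧸ H) ∣ orderOf g :=
    orderOf_map_dvd (QuotientGroup.mk' H) g
  have hcop : Nat.Coprime (p ^ a) (orderOf g) :=
    Nat.Coprime.pow_left _ ((Nat.Prime.coprime_iff_not_dvd hp.out).mpr hg)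
  have h3 : orderOf (QuotientGroup.mk g : G ⧸ H) ∣ 1 := by
    have := Nat.dvd_gcd h1 h2
    rwa [hcop] at this
  exact orderOf_eq_one_iff.mp (Nat.dvd_one.mp h3)

/-- **S4892 leaf (T3)** (frozen signature of `notes/S4892_leaves.lean`). -/
theorem mem_principalBlock_of_pgroup_quotient {G : Type u} [Group G] [Finite G] (p : ℕ)
    [Fact p.Prime] (M : Ideal AlgInt) (hM : IsPModular p M) (H : Subgroup G) [H.Normal] {a : ℕ}
    (hidx : H.index = p ^ a) (χ : IrrCharacter G) (χ₁ : IrrCharacter H)
    (hχ : ∀ h : H, (χ : G → ℂ) h = (χ₁ : H → ℂ) h) (h₁ : χ₁ ∈ principalBlock M H) :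
    χ ∈ principalBlock M G := by
  classical
  let _ := Fintype.ofFinite G
  let _ : Fintype H := Fintype.ofFinite H
  rw [mem_principalBlock_iff hM] at h₁ ⊢
  have key : omegaFun (χ : G → ℂ) (pRegInd p) = omegaFun (χ₁ : H → ℂ) (pRegInd p) := by
    unfold omegaFun
    have h1 : (χ : G → ℂ) 1 = (χ₁ : H → ℂ) 1 := hχ 1
    rw [h1]
    congr 1
    have hsum : ∑ g : G, pRegInd p g * (χ : G → ℂ) g =
        ∑ h : H, pRegInd p (h : G) * (χ : G → ℂ) h := by
      rw [← Finset.sum_subtype (Finset.univ.filter (fun g : G => g ∈ H)) (by intro x; simp)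
        (fun g => pRegInd p g * (χ : G → ℂ) g)]
      rw [Finset.sum_filter]
      apply Finset.sum_congr rfl
      intro g _
      by_cases hg : g ∈ H
      · rw [if_pos hg]
      · rw [if_neg hg]
        have h0 : pRegInd p g = 0 := by
          unfold pRegInd
          rw [if_neg]
          intro hreg
          exact hg (mem_of_pRegular_of_index p H hidx g hreg)
        rw [h0, zero_mul]
    rw [hsum]
    apply Finset.sum_congr rfl
    intro h _
    rw [hχ h]
    congr 1
    unfold pRegInd
    simp only [Subgroup.orderOf_coe]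
  rw [key]
  exact h₁

end Cfsg.Agent.Lib.Helper25.PRat
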