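import Cfsg.Agent.Lib.Helper18.PSLnFldG
import Cfsg.Agent.Lib.Helper5.PSUSimple
import Cfsg.Agent.Lib.Helper5.GUCenter

set_option autoImplicit false

/-!
# Automorphisms of `PSU_n` induced by unitary similitudes and by field automorphisms
-/

namespace Cfsg.Agent.Lib.Helper25.PSUG

open Matrix Cfsg Cfsg.Agent.Lib.Helper18.PSLnAut Cfsg.Agent.Lib.Helper18.PSLnFld

section basic

variable {n : ℕ} {F : Type*} [Field F] {q : ℕ}

/-- The unitary similitudes. -/
def GUs (n : ℕ) (F : Type*) [Field F] (q : ℕ) : Subgroup (GL (Fin n) F) :=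
  Geo.similarityGroup (F := F) (Cfsg.hermForm n F q)

theorem mem_GUs_iff (g : GL (Fin n) F) :
    g ∈ GUs n F q ↔ ∃ c : Fˣ, ∀ u v, Cfsg.hermForm n F q (g.1 *ᵥ u) (g.1 *ᵥ v) =
      (c : F) * Cfsg.hermForm n F q u v := Iff.rfl

theorem GU_le_GUs : Cfsg.GU n F q ≤ GUs n F q := by
  intro g hg
  refine ⟨1, fun u v => ?_⟩
  rw [Units.val_one, one_mul]
  exact hg u v

/-- The quotient map `SU_n → PSU_n`. -/
def piU : ↥(Cfsg.SU n F q) →* Cfsg.PSU n F q := QuotientGroup.mk' _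

theorem piU_surjective : Function.Surjective (piU (n := n) (F := F) (q := q)) :=
  QuotientGroup.mk'_surjective _

theorem piU_eq_one_iff (x : ↥(Cfsg.SU n F q)) :
    piU x = 1 ↔ x ∈ Subgroup.center ↥(Cfsg.SU n F q) :=
  QuotientGroup.eq_one_iff x

/-- An automorphism of `SU_n` induces an automorphism of `PSU_n`. -/
noncomputable def liftAutU (e : ↥(Cfsg.SU n F q) ≃* ↥(Cfsg.SU n F q)) :
    Cfsg.PSU n F q ≃* Cfsg.PSU n F q :=
  QuotientGroup.congr _ _ e
    (Subgroup.characteristic_iff_map_eq.mp Subgroup.centerCharacteristic e)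

theorem liftAutU_piU (e : ↥(Cfsg.SU n F q) ≃* ↥(Cfsg.SU n F q)) (x : ↥(Cfsg.SU n F q)) :
    liftAutU e (piU x) = piU (e x) := rfl

theorem conj_mem_SU {g : GL (Fin n) F} (hg : g ∈ GUs n F q) (s : ↥(Cfsg.SU n F q)) :
    conjMat g s.1 ∈ Cfsg.SU n F q := by
  intro u v
  obtain ⟨c, hc⟩ := hg
  have h1 := hc (((g⁻¹ : GL (Fin n) F) : Matrix (Fin n) (Fin n) F) *ᵥ u)
    (((g⁻¹ : GL (Fin n) F) : Matrix (Fin n) (Fin n) F) *ᵥ v)
  rw [Matrix.mulVec_mulVec, Matrix.mulVec_mulVec, gl_mul_inv, Matrix.one_mulVec,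
    Matrix.one_mulVec] at h1
  show Cfsg.hermForm n F q ((conjMat g s.1).1 *ᵥ u) ((conjMat g s.1).1 *ᵥ v) = _
  rw [conjMat_coe, ← Matrix.mulVec_mulVec, ← Matrix.mulVec_mulVec, ← Matrix.mulVec_mulVec,
    ← Matrix.mulVec_mulVec, hc, h1]
  congr 1
  exact s.2 _ _

/-- Conjugation by a similitude, on special unitary matrices. -/
def conjMatU (g : ↥(GUs n F q)) (s : ↥(Cfsg.SU n F q)) : ↥(Cfsg.SU n F q) :=
  ⟨conjMat g.1 s.1, conj_mem_SU g.2 s⟩

theorem conjMatU_coe (g : ↥(GUs n F q)) (s : ↥(Cfsg.SU n F q)) :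
    ((conjMatU g s).1 : Matrix (Fin n) (Fin n) F) = (g.1 : Matrix (Fin n) (Fin n) F) *
      (s.1 : Matrix (Fin n) (Fin n) F) * ((g.1⁻¹ : GL (Fin n) F) : Matrix (Fin n) (Fin n) F) := rfl

theorem conjMatU_mul (g : ↥(GUs n F q)) (s t : ↥(Cfsg.SU n F q)) :
    conjMatU g (s * t) = conjMatU g s * conjMatU g t := by
  apply Subtype.ext
  exact conjMat_mul g.1 s.1 t.1

theorem conjMatU_conjMatU (g h : ↥(GUs n F q)) (s : ↥(Cfsg.SU n F q)) :
    conjMatU g (conjMatU h s) = conjMatU (g * h) s := by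
  apply Subtype.ext
  exact conjMat_conjMat g.1 h.1 s.1

theorem conjMatU_one (s : ↥(Cfsg.SU n F q)) : conjMatU 1 s = s := by
  apply Subtype.ext
  exact conjMat_one s.1

/-- Conjugation by a similitude as an automorphism of `SU_n`. -/
def conjSU (g : ↥(GUs n F q)) : ↥(Cfsg.SU n F q) ≃* ↥(Cfsg.SU n F q) where
  toFun := conjMatU g
  invFun := conjMatU g⁻¹
  left_inv s := by rw [conjMatU_conjMatU, inv_mul_cancel, conjMatU_one]
  right_inv s := by rw [conjMatU_conjMatU, mul_inv_cancel, conjMatU_one]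
  map_mul' := conjMatU_mul g

/-- Conjugation by a similitude as an automorphism of `PSU_n`. -/
noncomputable def conjU (g : ↥(GUs n F q)) : Cfsg.PSU n F q ≃* Cfsg.PSU n F q :=
  liftAutU (conjSU g)

theorem conjU_piU (g : ↥(GUs n F q)) (x : ↥(Cfsg.SU n F q)) :
    conjU g (piU x) = piU (conjMatU g x) := rfl

theorem conjU_mul (g h : ↥(GUs n F q)) (x : Cfsg.PSU n F q) :
    conjU (g * h) x = conjU g (conjU h x) := by
  obtain ⟨x, rfl⟩ := piU_surjective x
  rw [conjU_piU, conjU_piU, conjU_piU, conjMatU_conjMatU]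

theorem conjU_one (x : Cfsg.PSU n F q) : conjU (1 : ↥(GUs n F q)) x = x := by
  obtain ⟨x, rfl⟩ := piU_surjective x
  rw [conjU_piU, conjMatU_one]

/-- Conjugation as a homomorphism into the automorphism group. -/
noncomputable def conjUHom : ↥(GUs n F q) →* MulAut (Cfsg.PSU n F q) where
  toFun := conjU
  map_one' := by
    ext x
    exact conjU_one x
  map_mul' g h := by
    ext x
    exact conjU_mul g h x

theorem conjUHom_apply (g : ↥(GUs n F q)) (x : Cfsg.PSU n F q) : conjUHom g x = conjU g x := rfl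

/-- The Hermitian form and field automorphisms. -/
theorem hermForm_map (κ : F ≃+* F) (u v : Fin n → F) :
    Cfsg.hermForm n F q (fun i => κ (u i)) (fun i => κ (v i)) = κ (Cfsg.hermForm n F q u v) := by
  unfold Cfsg.hermForm
  rw [map_sum]
  apply Finset.sum_congr rfl
  intro i _
  rw [map_mul, map_pow]

theorem field_mem_SU (κ : F ≃+* F) (s : ↥(Cfsg.SU n F q)) : fieldS κ s.1 ∈ Cfsg.SU n F q := by
  intro u v
  show Cfsg.hermForm n F q ((fieldS κ s.1).1 *ᵥ u) ((fieldS κ s.1).1 *ᵥ v) = _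
  have hu : (fun i => κ (κ.symm (u i))) = u := funext fun i => RingEquiv.apply_symm_apply κ (u i)
  have hv : (fun i => κ (κ.symm (v i))) = v := funext fun i => RingEquiv.apply_symm_apply κ (v i)
  rw [fieldS_coe]
  have h1 := map_mulVec (κ : RingAut F) s.1.1 (fun i => κ.symm (u i))
  have h2 := map_mulVec (κ : RingAut F) s.1.1 (fun i => κ.symm (v i))
  rw [hu] at h1
  rw [hv] at h2
  have h3 : Cfsg.hermForm n F q (s.1.1 *ᵥ (fun i => κ.symm (u i)))
      (s.1.1 *ᵥ (fun i => κ.symm (v i))) =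
      Cfsg.hermForm n F q (fun i => κ.symm (u i)) (fun i => κ.symm (v i)) := s.2 _ _
  have h4 := hermForm_map (q := q) κ (s.1.1 *ᵥ (fun i => κ.symm (u i)))
    (s.1.1 *ᵥ (fun i => κ.symm (v i)))
  rw [h1, h2] at h4
  rw [h4, h3, ← hermForm_map, hu, hv]

/-- The field automorphism of `SU_n`. -/
def fieldSU (κ : F ≃+* F) : ↥(Cfsg.SU n F q) ≃* ↥(Cfsg.SU n F q) where
  toFun s := ⟨fieldS κ s.1, field_mem_SU κ s⟩
  invFun s := ⟨fieldS κ.symm s.1, field_mem_SU κ.symm s⟩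
  left_inv s := by
    apply Subtype.ext
    exact (fieldS (n := n) κ).left_inv s.1
  right_inv s := by
    apply Subtype.ext
    exact (fieldS (n := n) κ).right_inv s.1
  map_mul' s t := by
    apply Subtype.ext
    exact map_mul (fieldS (n := n) κ) s.1 t.1

theorem fieldSU_coe (κ : F ≃+* F) (s : ↥(Cfsg.SU n F q)) :
    ((fieldSU κ s).1 : Matrix (Fin n) (Fin n) F) = (s.1 : Matrix (Fin n) (Fin n) F).map κ := rfl

/-- The field automorphism of `PSU_n`. -/
noncomputable def fieldU (κ : F ≃+* F) : Cfsg.PSU n F q ≃* Cfsg.PSU n F q :=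
  liftAutU (fieldSU κ)

theorem fieldU_piU (κ : F ≃+* F) (x : ↥(Cfsg.SU n F q)) :
    fieldU κ (piU x) = piU (fieldSU κ x) := rfl

/-- Field automorphisms as a homomorphism. -/
noncomputable def fieldUHom : RingAut F →* MulAut (Cfsg.PSU n F q) where
  toFun := fieldU
  map_one' := by
    ext x
    obtain ⟨x, rfl⟩ := piU_surjective x
    rw [fieldU_piU]
    show piU _ = piU x
    congr 1
  map_mul' σ τ := by
    ext x
    obtain ⟨x, rfl⟩ := piU_surjective x
    show fieldU (σ * τ) (piU x) = fieldU σ (fieldU τ (piU x))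
    rw [fieldU_piU, fieldU_piU, fieldU_piU]
    congr 1

theorem fieldUHom_apply (κ : RingAut F) (x : Cfsg.PSU n F q) : fieldUHom κ x = fieldU κ x := rfl

theorem isFieldAut_iff (κ : F ≃+* F) (β : Cfsg.PSU n F q ≃* Cfsg.PSU n F q) :
    Cfsg.IsFieldAutPSUOf κ β ↔ β = fieldUHom (κ : RingAut F) := by
  constructor
  · intro h
    ext x
    obtain ⟨x, rfl⟩ := piU_surjective x
    exact h x (fieldSU κ x) (fieldSU_coe κ x)
  · rintro rfl s s' h
    show fieldU κ (piU s) = piU s'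
    rw [fieldU_piU]
    congr 1
    apply Subtype.ext
    apply Subtype.ext
    rw [h, fieldSU_coe]

theorem isInnerDiagonal_iff (β : Cfsg.PSU n F q ≃* Cfsg.PSU n F q) :
    Cfsg.IsInnerDiagonalAutPSU β ↔ ∃ g : ↥(GUs n F q), g.1 ∈ Cfsg.GU n F q ∧ β = conjUHom g := by
  constructor
  · rintro ⟨g, hg, h⟩
    refine ⟨⟨g, GU_le_GUs hg⟩, hg, ?_⟩
    ext x
    obtain ⟨x, rfl⟩ := piU_surjective x
    exact h x (conjMatU ⟨g, GU_le_GUs hg⟩ x) (conjMatU_coe _ x)
  · rintro ⟨g, hg, rfl⟩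
    refine ⟨g.1, hg, fun s s' h => ?_⟩
    show conjU g (piU s) = piU s'
    rw [conjU_piU]
    congr 1
    apply Subtype.ext
    apply Subtype.ext
    rw [h, conjMatU_coe]

end basic

end Cfsg.Agent.Lib.Helper25.PSUG
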