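import Cfsg.Agent.Lib.Helper25.PSUGraph9

set_option autoImplicit false

/-!
# Conjugacy of graph involutions of `PSU_n` in terms of their Lang data; existence
-/

namespace Cfsg.Agent.Lib.Helper25.PSUG

open Matrix Cfsg Cfsg.Agent.Lib.Helper18.PSLnAut Cfsg.Agent.Lib.Helper18.PSLnFld
  Cfsg.Agent.Lib.Helper25.GraphInv Cfsg.Agent.Lib.Helper25.InvTrans Cfsg.Agent.Lib.Helper14

section conj

variable {n : ℕ} {F : Type*} [Field F] {F₀ : Type*} [Field F₀] {q : ℕ}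

theorem conj_mem_GUs_iff' (ρ : RingAut F) (hρ : ∀ a, ρ a = a ^ q) (k₁ k₂ y : GL (Fin n) F) :
    k₂ * y * k₁⁻¹ ∈ GUs n F q ↔ ∃ c : Fˣ,
      (y.1)ᵀ * ((k₂.1)ᵀ * (k₂.1).map ρ) * (y.1).map ρ =
        (c : F) • ((k₁.1)ᵀ * (k₁.1).map ρ) := by
  rw [mem_GUs_iff_gram ρ hρ]
  have h1 : ((k₂ * y * k₁⁻¹ : GL (Fin n) F).1)ᵀ * ((k₂ * y * k₁⁻¹ : GL (Fin n) F).1).map ρ =
      ((k₁⁻¹ : GL (Fin n) F).1)ᵀ * ((y.1)ᵀ * ((k₂.1)ᵀ * (k₂.1).map ρ) * (y.1).map ρ) *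
        ((k₁⁻¹ : GL (Fin n) F).1).map ρ := by
    rw [Units.val_mul, Units.val_mul, Matrix.transpose_mul, Matrix.transpose_mul, Matrix.map_mul,
      Matrix.map_mul]
    simp only [Matrix.mul_assoc]
  rw [h1]
  constructor
  · rintro ⟨c, hc⟩
    refine ⟨c, ?_⟩
    calc (y.1)ᵀ * ((k₂.1)ᵀ * (k₂.1).map ρ) * (y.1).map ρ
        = ((k₁.1)ᵀ * ((k₁⁻¹ : GL (Fin n) F).1)ᵀ) *
            ((y.1)ᵀ * ((k₂.1)ᵀ * (k₂.1).map ρ) * (y.1).map ρ) *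
            (((k₁⁻¹ : GL (Fin n) F).1).map ρ * (k₁.1).map ρ) := by
          rw [tr_mul_tr_inv, map_inv_mul_map, Matrix.one_mul, Matrix.mul_one]
      _ = (k₁.1)ᵀ * (((k₁⁻¹ : GL (Fin n) F).1)ᵀ *
            ((y.1)ᵀ * ((k₂.1)ᵀ * (k₂.1).map ρ) * (y.1).map ρ) *
            ((k₁⁻¹ : GL (Fin n) F).1).map ρ) * (k₁.1).map ρ := by
          simp only [Matrix.mul_assoc]
      _ = (c : F) • ((k₁.1)ᵀ * (k₁.1).map ρ) := by
          rw [hc, Matrix.mul_smul, Matrix.mul_one, Matrix.smul_mul]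
  · rintro ⟨c, hc⟩
    refine ⟨c, ?_⟩
    rw [hc, Matrix.mul_smul, Matrix.smul_mul]
    congr 1
    calc ((k₁⁻¹ : GL (Fin n) F).1)ᵀ * ((k₁.1)ᵀ * (k₁.1).map ρ) * ((k₁⁻¹ : GL (Fin n) F).1).map ρ
        = (((k₁⁻¹ : GL (Fin n) F).1)ᵀ * (k₁.1)ᵀ) *
            ((k₁.1).map ρ * ((k₁⁻¹ : GL (Fin n) F).1).map ρ) := by
          simp only [Matrix.mul_assoc]
      _ = 1 := by rw [tr_inv_mul_tr, map_mul_map_inv, Matrix.one_mul]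

theorem glMap_sim_iff' (hn : 2 ≤ n) (ρ : RingAut F) (ι : F₀ →+* F) (hι' : ∀ b, ρ (ι b) = ι b)
    (t₁ t₂ : F) (ht₁ : t₁ ≠ 0) (ht₂ : t₂ ≠ 0) (A₁ A₂ y₀ : GL (Fin n) F₀) :
    (∃ c : Fˣ, ((glMap ι y₀).1)ᵀ * (t₂ • (A₂.1).map ι) * ((glMap ι y₀).1).map ρ =
      (c : F) • (t₁ • (A₁.1).map ι)) ↔
    ∃ c₀ : F₀ˣ, (y₀.1)ᵀ * A₂.1 * y₀.1 = (c₀ : F₀) • A₁.1 := by
  have hfix : ((glMap ι y₀).1 : Matrix (Fin n) (Fin n) F).map ρ = (glMap ι y₀).1 := by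
    ext a b
    rw [Matrix.map_apply, glMap_coe, Matrix.map_apply]
    exact hι' _
  have hprod : ((glMap ι y₀).1)ᵀ * (t₂ • (A₂.1).map ι) * (glMap ι y₀).1 =
      t₂ • ((y₀.1)ᵀ * A₂.1 * y₀.1).map ι := by
    rw [glMap_coe, Matrix.mul_smul, Matrix.smul_mul, Matrix.map_mul, Matrix.map_mul,
      Matrix.transpose_map]
  rw [hfix, hprod]
  constructor
  · rintro ⟨c, hc⟩
    have hc' : ((y₀.1)ᵀ * A₂.1 * y₀.1).map ι = (t₂⁻¹ * ((c : F) * t₁)) • (A₁.1).map ι := by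
      have h1 := congrArg (fun M => t₂⁻¹ • M) hc
      simp only [smul_smul, inv_mul_cancel₀ ht₂, one_smul] at h1
      rw [h1]
    obtain ⟨c₀, hc₀, hM⟩ := descend_smul hn ι _ A₁ _ hc'
    have hc₀0 : c₀ ≠ 0 := by
      rintro rfl
      rw [map_zero] at hc₀
      exact (mul_ne_zero (inv_ne_zero ht₂) (mul_ne_zero c.ne_zero ht₁)) hc₀.symm
    exact ⟨Units.mk0 c₀ hc₀0, hM⟩
  · rintro ⟨c₀, hc₀⟩
    refine ⟨Units.mk0 (t₂ * ι c₀ * t₁⁻¹)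
      (mul_ne_zero (mul_ne_zero ht₂ ((map_ne_zero_iff _ ι.injective).2 c₀.ne_zero))
        (inv_ne_zero ht₁)), ?_⟩
    rw [hc₀, map_smul_map, Units.val_mk0, smul_smul, smul_smul]
    congr 1
    field_simp

end conj

section main

variable {n : ℕ} {F : Type*} [Field F] [Fintype F] {F₀ : Type*} [Field F₀] {q : ℕ}

/-- Similar Lang data give conjugate graph involutions. -/
theorem HasDatum.conj_of_sim (hn : 3 ≤ n)
    (ρ : RingAut F) (hρ : ∀ a, ρ a = a ^ q) (hρo : orderOf ρ = 2)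
    (ι : F₀ →+* F) (hι : ∀ a : F, ρ a = a ↔ a ∈ Set.range ι)
    {γ₁ γ₂ : MulAut (Cfsg.PSU n F q)} {A₁ A₂ : GL (Fin n) F₀}
    (h₁ : HasDatum ρ ι γ₁ A₁) (h₂ : HasDatum ρ ι γ₂ A₂)
    (y₀ : GL (Fin n) F₀) (c₀ : F₀ˣ) (hy : (y₀.1)ᵀ * A₂.1 * y₀.1 = (c₀ : F₀) • A₁.1) :
    Cfsg.IsConjUnder (Cfsg.inndiagPSU n F q) γ₁ γ₂ := by
  have hn2 : 2 ≤ n := by omega
  have hι' : ∀ b, ρ (ι b) = ι b := fun b => (hι _).2 ⟨b, rfl⟩
  obtain ⟨k₁, t₁, g₁, ht₁, hk₁, hg₁, rfl⟩ := h₁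
  obtain ⟨k₂, t₂, g₂, ht₂, hk₂, hg₂, rfl⟩ := h₂
  have hmem : k₂ * glMap ι y₀ * k₁⁻¹ ∈ GUs n F q := by
    rw [conj_mem_GUs_iff' ρ hρ, hk₁, hk₂]
    exact (glMap_sim_iff' hn2 ρ ι hι' t₁ t₂ ht₁ ht₂ A₁ A₂ y₀).2 ⟨c₀, hy⟩
  refine ⟨conjUHom ⟨_, hmem⟩, ?_, ?_⟩
  · rw [← range_conjUHom (n := n) (F := F) (q := q) ρ hρ hρo (by omega)]
    exact ⟨_, rfl⟩
  · rw [conj_conj_fieldU]
    congr 2
    apply Subtype.ext
    show g₂.1 = (k₂ * glMap ι y₀ * k₁⁻¹) * g₁.1 * (glF ρ (k₂ * glMap ι y₀ * k₁⁻¹))⁻¹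
    rw [hg₁, hg₂, map_mul, map_mul, map_inv, glF_glMap ρ ι hι' y₀]
    group

/-- Conjugate graph involutions have similar Lang data. -/
theorem HasDatum.sim_of_conj (hF : Fintype.card F = q ^ 2) (hn : 3 ≤ n)
    (h32 : ¬ (n = 3 ∧ q = 2)) (ρ : RingAut F) (hρ : ∀ a, ρ a = a ^ q) (hρo : orderOf ρ = 2)
    (ι : F₀ →+* F) (hι : ∀ a : F, ρ a = a ↔ a ∈ Set.range ι)
    {γ₁ γ₂ : MulAut (Cfsg.PSU n F q)} {A₁ A₂ : GL (Fin n) F₀}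
    (h₁ : HasDatum ρ ι γ₁ A₁) (h₂ : HasDatum ρ ι γ₂ A₂)
    (hconj : Cfsg.IsConjUnder (Cfsg.inndiagPSU n F q) γ₁ γ₂) :
    ∃ (y₀ : GL (Fin n) F₀) (c₀ : F₀ˣ), (y₀.1)ᵀ * A₂.1 * y₀.1 = (c₀ : F₀) • A₁.1 := by
  have hn2 : 2 ≤ n := by omega
  have hι' : ∀ b, ρ (ι b) = ι b := fun b => (hι _).2 ⟨b, rfl⟩
  obtain ⟨k₁, t₁, g₁, ht₁, hk₁, hg₁, rfl⟩ := h₁
  obtain ⟨k₂, t₂, g₂, ht₂, hk₂, hg₂, rfl⟩ := h₂
  obtain ⟨x, hx, hx2⟩ := hconj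
  rw [← range_conjUHom (n := n) (F := F) (q := q) ρ hρ hρo (by omega)] at hx
  obtain ⟨h, rfl⟩ := hx
  rw [conj_conj_fieldU] at hx2
  have h3 : (conjUHom g₂ : MulAut (Cfsg.PSU n F q)) = conjUHom (h * g₁ * (glFU ρ h)⁻¹) :=
    mul_right_cancel hx2
  have hker : h * g₁ * (glFU ρ h)⁻¹ * g₂⁻¹ ∈ (conjUHom (n := n) (F := F) (q := q)).ker := by
    rw [MonoidHom.mem_ker, map_mul, ← h3, map_inv, mul_inv_cancel]
  rw [ker_conjUHom hF hn h32, Subgroup.mem_subgroupOf, Geo.mem_scalars_iff] at hker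
  obtain ⟨c, hc⟩ := hker
  obtain ⟨Z, hZ⟩ : ∃ Z : GL (Fin n) F, Z = h.1 * g₁.1 * (glF ρ h.1)⁻¹ * g₂.1⁻¹ := ⟨_, rfl⟩
  have hZc : (Z.1 : Matrix (Fin n) (Fin n) F) = (c : F) • (1 : Matrix (Fin n) (Fin n) F) := by
    rw [hZ]
    exact hc
  obtain ⟨y, hy⟩ : ∃ y : GL (Fin n) F, y = k₂⁻¹ * h.1 * k₁ := ⟨_, rfl⟩
  have e1 : y * (glF ρ y)⁻¹ = k₂⁻¹ * Z * k₂ := by
    rw [hy, hZ, hg₁, hg₂, map_mul, map_mul, map_inv]
    group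
  rw [conj_scalar k₂ Z c hZc] at e1
  have e2 : y = Z * glF ρ y := by
    rw [← e1]
    group
  have e3 : (y.1 : Matrix (Fin n) (Fin n) F) =
      (c : F) • (y.1 : Matrix (Fin n) (Fin n) F).map ρ := by
    conv_lhs => rw [e2]
    rw [Units.val_mul, hZc, glF_coe, Matrix.smul_mul, Matrix.one_mul]
  obtain ⟨y₀, ν, hν0, hy₀⟩ := exists_glMap_of_twisted ρ hρo ι hι hn2 y c e3
  obtain ⟨νu, hνu⟩ : ∃ νu : Fˣ, (νu : F) = ν := ⟨Units.mk0 ν hν0, rfl⟩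
  have e4 : k₂ * glMap ι y₀ * k₁⁻¹ = scalarGL νu * h.1 := by
    apply Units.ext
    have hh : ((scalarGL νu * h.1 : GL (Fin n) F).1 : Matrix (Fin n) (Fin n) F) =
        ν • (h.1.1 : Matrix (Fin n) (Fin n) F) := by
      rw [Units.val_mul, scalarGL_coe, hνu, Matrix.smul_mul, Matrix.one_mul]
    rw [hh, Units.val_mul, Units.val_mul, hy₀, hy, Units.val_mul, Units.val_mul,
      Matrix.mul_smul, Matrix.smul_mul]
    congr 1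
    calc (k₂.1 : Matrix (Fin n) (Fin n) F) * ((k₂⁻¹ : GL (Fin n) F).1 * h.1.1 * k₁.1) *
          (k₁⁻¹ : GL (Fin n) F).1
        = ((k₂.1 : Matrix (Fin n) (Fin n) F) * (k₂⁻¹ : GL (Fin n) F).1) * h.1.1 *
          (k₁.1 * (k₁⁻¹ : GL (Fin n) F).1) := by simp only [Matrix.mul_assoc]
      _ = h.1.1 := by rw [gl_mul_inv, gl_mul_inv, Matrix.one_mul, Matrix.mul_one]
  have h5 : k₂ * glMap ι y₀ * k₁⁻¹ ∈ GUs n F q := by
    rw [e4]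
    exact (GUs n F q).mul_mem (scalarGL_mem_GUs ρ hρ νu) h.2
  rw [conj_mem_GUs_iff' ρ hρ, hk₁, hk₂] at h5
  obtain ⟨c₀, hc₀⟩ := (glMap_sim_iff' hn2 ρ ι hι' t₁ t₂ ht₁ ht₂ A₁ A₂ y₀).1 h5
  exact ⟨y₀, c₀, hc₀⟩

theorem sq_conj_field (τ : RingAut F) (g : ↥(GUs n F q)) :
    ((conjUHom g * fieldUHom τ : MulAut (Cfsg.PSU n F q))) ^ 2 =
      conjUHom (g * glFU τ g) * fieldUHom (τ * τ) := by
  rw [pow_two, map_mul, map_mul]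
  calc (conjUHom g * fieldUHom τ : MulAut (Cfsg.PSU n F q)) * (conjUHom g * fieldUHom τ)
      = conjUHom g * (fieldUHom τ * conjUHom g) * fieldUHom τ := by group
    _ = _ := by
      rw [field_mul_conjU]
      group

/-- Every symmetric or skew-symmetric invertible matrix over the fixed field is the Lang datum of
an involutory graph automorphism. -/
theorem exists_graph_of_datum (hF : Fintype.card F = q ^ 2) (hn : 3 ≤ n)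
    (h32 : ¬ (n = 3 ∧ q = 2)) (ρ : RingAut F) (hρ : ∀ a, ρ a = a ^ q) (hρo : orderOf ρ = 2)
    (ι : F₀ →+* F) (hι : ∀ a : F, ρ a = a ↔ a ∈ Set.range ι)
    (A₀ : GL (Fin n) F₀) (hA₀ : (A₀.1)ᵀ = A₀.1 ∨ (A₀.1)ᵀ = -A₀.1) :
    ∃ γ : MulAut (Cfsg.PSU n F q), Cfsg.IsGraphAutClassPSU γ ∧ orderOf γ = 2 ∧
      HasDatum ρ ι γ A₀ := by
  have hn2 : 2 ≤ n := by omega
  have hρρ : ρ * ρ = 1 := by rw [← pow_two, ← hρo]; exact pow_orderOf_eq_one ρ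
  have hρ2 : ∀ a, ρ (ρ a) = a := by
    intro a
    have := congrArg (fun τ : RingAut F => τ a) hρρ
    exact this
  have hι' : ∀ b, ρ (ι b) = ι b := fun b => (hι _).2 ⟨b, rfl⟩
  -- the sign and the twisting scalar
  obtain ⟨κ, t, hκ, hκκ, ht0, ht⟩ : ∃ (κ : F₀) (t : F), (A₀.1)ᵀ = κ • A₀.1 ∧ κ * κ = 1 ∧
      t ≠ 0 ∧ ρ t = ι κ * t := by
    rcases hA₀ with h | h
    · exact ⟨1, 1, by rw [h, one_smul], one_mul 1, one_ne_zero, by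
        rw [map_one, map_one, one_mul]⟩
    · have hnrm : nrm ρ (-1 : F) 2 = 1 := by
        unfold nrm
        simp [Finset.prod_range_succ]
      obtain ⟨ν, hν0, hν⟩ := exists_fixed_of_nrm_eq_one ρ 2 hρo (by norm_num) (-1) hnrm
      refine ⟨-1, ν, by rw [h, neg_smul, one_smul], by ring, hν0, ?_⟩
      rw [map_neg, map_one]
      have : ρ ν = -((-1) * ρ ν) := by ring
      rw [this, hν]
      ring
  obtain ⟨G, hG⟩ : ∃ G : Matrix (Fin n) (Fin n) F, G = t • (A₀.1).map ι := ⟨_, rfl⟩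
  have hGherm : ∀ i j, ρ (G i j) = G j i := by
    intro i j
    rw [hG, Matrix.smul_apply, Matrix.smul_apply, Matrix.map_apply, Matrix.map_apply, smul_eq_mul,
      smul_eq_mul, map_mul, hι', ht]
    have h1 : (A₀.1 : Matrix (Fin n) (Fin n) F₀) j i = κ * (A₀.1 : Matrix (Fin n) (Fin n) F₀) i j := by
      have := congrFun (congrFun hκ i) j
      rw [Matrix.transpose_apply, Matrix.smul_apply, smul_eq_mul] at this
      exact this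
    rw [h1, map_mul]
    ring
  obtain ⟨tu, htu⟩ : ∃ tu : Fˣ, (tu : F) = t := ⟨Units.mk0 t ht0, rfl⟩
  have hGu : IsUnit G := by
    have : G = ((scalarGL tu * glMap ι A₀ : GL (Fin n) F) : Matrix (Fin n) (Fin n) F) := by
      rw [hG, Units.val_mul, scalarGL_coe, htu, Matrix.smul_mul, Matrix.one_mul, glMap_coe]
    rw [this]
    exact ⟨_, rfl⟩
  obtain ⟨P, hPu, hP⟩ := exists_herm_factor ρ hρo G hGu hGherm
  obtain ⟨Pgl, hPgl⟩ : ∃ Pgl : GL (Fin n) F, (Pgl.1 : Matrix (Fin n) (Fin n) F) = P :=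
    ⟨hPu.unit, rfl⟩
  obtain ⟨k, hk⟩ : ∃ k : GL (Fin n) F, k = gti Pgl := ⟨_, rfl⟩
  have hkT : (k.1)ᵀ = (Pgl⁻¹ : GL (Fin n) F).1 := by
    rw [hk, gti_coe, Matrix.transpose_transpose]
  have hkρ : (k.1).map ρ = (((Pgl⁻¹ : GL (Fin n) F).1).map ρ)ᵀ := by
    rw [hk, gti_coe, Matrix.transpose_map]
  have hgram : (k.1)ᵀ * (k.1).map ρ = t • (A₀.1).map ι := by
    rw [hkT, hkρ, ← hG]
    have h1 : (P.map ρ)ᵀ * (((Pgl⁻¹ : GL (Fin n) F).1).map ρ)ᵀ = 1 := by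
      rw [← Matrix.transpose_mul, ← hPgl, map_inv_mul_map, Matrix.transpose_one]
    calc (Pgl⁻¹ : GL (Fin n) F).1 * (((Pgl⁻¹ : GL (Fin n) F).1).map ρ)ᵀ
        = (Pgl⁻¹ : GL (Fin n) F).1 * (P * G * (P.map ρ)ᵀ) *
            (((Pgl⁻¹ : GL (Fin n) F).1).map ρ)ᵀ := by rw [hP, Matrix.mul_one]
      _ = ((Pgl⁻¹ : GL (Fin n) F).1 * P) * G *
            ((P.map ρ)ᵀ * (((Pgl⁻¹ : GL (Fin n) F).1).map ρ)ᵀ) := by
          simp only [Matrix.mul_assoc]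
      _ = G := by rw [h1, ← hPgl, gl_inv_mul, Matrix.one_mul, Matrix.mul_one]
  have hκ0 : ι κ ≠ 0 := by
    intro h0
    have h1 : ι (κ * κ) = 0 := by rw [map_mul, h0, zero_mul]
    rw [hκκ, map_one] at h1
    exact one_ne_zero h1
  have htwist : (k.1)ᵀ * (k.1).map ρ = ι κ • ((k.1)ᵀ * (k.1).map ρ).map ρ := by
    have hfixA : ((A₀.1 : Matrix (Fin n) (Fin n) F₀).map ι).map ρ = (A₀.1).map ι := by
      ext a b
      rw [Matrix.map_apply, Matrix.map_apply]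
      exact hι' _
    rw [hgram, map_smul_eq, hfixA, ht, smul_smul, ← mul_assoc, ← map_mul, hκκ, map_one, one_mul]
  have hgmem : k * (glF ρ k)⁻¹ ∈ GUs n F q := by
    rw [mem_GUs_iff_gram ρ hρ]
    exact ⟨Units.mk0 _ hκ0, gram_of_twist ρ hρ2 k _ htwist⟩
  obtain ⟨g, hg⟩ : ∃ g : ↥(GUs n F q), g.1 = k * (glF ρ k)⁻¹ := ⟨⟨_, hgmem⟩, rfl⟩
  have hgg : g * glFU ρ g = 1 := by
    apply Subtype.ext
    show g.1 * glF ρ g.1 = 1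
    rw [hg, map_mul, map_inv, glF_glF ρ hρρ]
    group
  refine ⟨conjUHom g * fieldUHom ρ, ?_, ?_, k, t, g, ht0, hgram, hg, rfl⟩
  · refine ⟨hn, conjUHom g, fieldUHom ρ, ρ, ?_, ?_, (isFieldAut_iff ρ _).2 rfl, rfl⟩
    · rw [hρo]
      exact even_two
    · obtain ⟨g', d, hd0, hg', hgd⟩ := exists_GU_smul ρ hρ hρo (by omega) g
      rw [isInnerDiagonal_iff]
      exact ⟨g', hg', (conjUHom_eq_of_smul g g' d hd0 hgd).symm⟩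
  · apply orderOf_eq_prime
    · rw [sq_conj_field, hgg, hρρ, map_one, map_one, one_mul]
    · intro h1
      have h2 : (fieldUHom ρ : MulAut (Cfsg.PSU n F q)) = conjUHom g⁻¹ := by
        rw [map_inv]
        exact eq_inv_of_mul_eq_one_right h1
      have h3 := eq_one_of_fieldUHom_mem_range (n := n) hF hn h32 ρ ⟨g⁻¹, h2.symm⟩
      rw [h3, orderOf_one] at hρo
      exact absurd hρo (by norm_num)

end main

end Cfsg.Agent.Lib.Helper25.PSUG
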