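import Cfsg.Agent.Lib.Helper25.PSUGraph10

set_option autoImplicit false

/-!
# Transfer between graph involutions of `PSU_n(q)` and of `PSL_n(q)`
-/

namespace Cfsg.Agent.Lib.Helper25.PSUG

open Matrix Cfsg Cfsg.Agent.Lib.Helper18.PSLnAut Cfsg.Agent.Lib.Helper18.PSLnFld
  Cfsg.Agent.Lib.Helper25.GraphInv Cfsg.Agent.Lib.Helper25.InvTrans Cfsg.Agent.Lib.Helper14

theorem isConjUnder_symm {X : Type*} [Group X] (H : Subgroup X) {x y : X}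
    (h : Cfsg.IsConjUnder H x y) : Cfsg.IsConjUnder H y x := by
  obtain ⟨a, ha, rfl⟩ := h
  refine ⟨a⁻¹, H.inv_mem ha, ?_⟩
  group

section transfer

variable {n : ℕ} {F : Type*} [Field F] [Fintype F] {q : ℕ}

/-- The correspondence between involutory graph automorphisms of `PSU_n(q)` and of `PSL_n(q)`:
conjugacy classes and centralisers in the inner-diagonal groups correspond. -/
theorem transfer (hF : Fintype.card F = q ^ 2) (hn : 3 ≤ n) (h32 : ¬ (n = 3 ∧ q = 2))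
    (F₀ : Type*) [Field F₀] [Fintype F₀] (hF₀ : Fintype.card F₀ = q) :
    ∃ R : MulAut (Cfsg.PSU n F q) → MulAut (ProjectiveSpecialLinearGroup (Fin n) F₀) → Prop,
      (∀ γ, Cfsg.IsGraphAutClassPSU γ → orderOf γ = 2 →
        ∃ γ₀, Cfsg.IsGraphAutClassPSL γ₀ ∧ orderOf γ₀ = 2 ∧ R γ γ₀) ∧
      (∀ γ₀, Cfsg.IsGraphAutClassPSL γ₀ → orderOf γ₀ = 2 →
        ∃ γ, Cfsg.IsGraphAutClassPSU γ ∧ orderOf γ = 2 ∧ R γ γ₀) ∧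
      (∀ γ₁ γ₂ γ₁₀ γ₂₀, R γ₁ γ₁₀ → R γ₂ γ₂₀ →
        (Cfsg.IsConjUnder (Cfsg.inndiagPSU n F q) γ₁ γ₂ ↔
          Cfsg.IsConjUnder (Cfsg.inndiagPSL n F₀) γ₁₀ γ₂₀)) ∧
      (∀ γ γ₀, R γ γ₀ →
        Nonempty (↥(Cfsg.inndiagPSU n F q ⊓ Subgroup.centralizer {γ}) ≃*
          ↥(Cfsg.inndiagPSL n F₀ ⊓ Subgroup.centralizer {γ₀}))) := by
  have hn2 : 2 ≤ n := by omega
  obtain ⟨ρ, hρ, hρo, ι, hι⟩ := exists_frob_data hF F₀ hF₀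
  refine ⟨fun γ γ₀ => ∃ A₀ : GL (Fin n) F₀, γ₀ = tauG A₀ ∧ HasDatum ρ ι γ A₀, ?_, ?_, ?_, ?_⟩
  · intro γ hγ hγ2
    obtain ⟨A₀, hA₀, hdat⟩ := exists_datum_of_graph hF hn h32 ρ hρ hρo ι hι γ hγ hγ2
    exact ⟨tauG A₀, isGraph_tauG hn A₀, orderOf_tauG hn A₀ hA₀, A₀, rfl, hdat⟩
  · intro γ₀ hγ₀ hγ₀2
    obtain ⟨A₀, rfl⟩ := exists_tauG_of_graph γ₀ hγ₀
    have hA₀ := transpose_eq_of_orderOf hn2 A₀ hγ₀2
    obtain ⟨γ, hγ, hγ2, hdat⟩ := exists_graph_of_datum hF hn h32 ρ hρ hρo ι hι A₀ hA₀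
    exact ⟨γ, hγ, hγ2, A₀, rfl, hdat⟩
  · rintro γ₁ γ₂ _ _ ⟨A₁, rfl, h₁⟩ ⟨A₂, rfl, h₂⟩
    constructor
    · intro hc
      obtain ⟨y₀, c₀, hy⟩ := HasDatum.sim_of_conj hF hn h32 ρ hρ hρo ι hι h₁ h₂ hc
      apply isConjUnder_symm
      have h3 := conj_of_congr A₂ (A₁ * scalarGL c₀) y₀ (by rw [hy, coe_mul_scalarGL])
      rw [tauG_smul hn2 A₁ (A₁ * scalarGL c₀) c₀ (coe_mul_scalarGL A₁ c₀)] at h3
      exact h3
    · intro hc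
      obtain ⟨k, c, hk⟩ := congr_of_conj hn2 A₂ A₁ (isConjUnder_symm _ hc)
      exact HasDatum.conj_of_sim hn ρ hρ hρo ι hι h₁ h₂ k c hk
  · rintro γ _ ⟨A₀, rfl, hdat⟩
    obtain ⟨e1⟩ := hdat.nonempty_equiv hF hn h32 ρ hρ hρo ι hι
    obtain ⟨e2⟩ := nonempty_centralizer_bil (n := n) (F := F₀) hn2 (A₀.1) 1 1
      (Matrix.one_mul 1) (Matrix.one_mul 1) A₀
      (by rw [Matrix.transpose_one, Matrix.one_mul, Matrix.mul_one])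
    exact ⟨e1.trans e2.symm⟩

end transfer

end Cfsg.Agent.Lib.Helper25.PSUG
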