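import Cfsg.Agent.Lib.Helper25.PSUGraph1
import Cfsg.Agent.Lib.Helper25.GraphInv16

set_option autoImplicit false

/-!
# The similitude action on `PSU_n`: Gram criterion, kernel, range
-/

namespace Cfsg.Agent.Lib.Helper25.PSUG

open Matrix Cfsg Cfsg.Agent.Lib.Helper18.PSLnAut Cfsg.Agent.Lib.Helper18.PSLnFld

section gram

variable {n : ℕ} {F : Type*} [Field F] {q : ℕ}

theorem map_single_one (ρ : RingAut F) (l : Fin n) :
    (fun i => ρ ((Pi.single l (1 : F) : Fin n → F) i)) = Pi.single l 1 := by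
  funext i
  by_cases hi : i = l
  · subst hi
    simp
  · simp [Pi.single_eq_of_ne hi]

theorem mem_GUs_iff_gram (ρ : RingAut F) (hρ : ∀ a, ρ a = a ^ q) (g : GL (Fin n) F) :
    g ∈ GUs n F q ↔ ∃ c : Fˣ,
      (g : Matrix (Fin n) (Fin n) F)ᵀ * (g : Matrix (Fin n) (Fin n) F).map ρ =
        (c : F) • (1 : Matrix (Fin n) (Fin n) F) := by
  constructor
  · rintro ⟨c, hc⟩
    refine ⟨c, ?_⟩
    ext k l
    have h1 := hc (Pi.single k 1) (Pi.single l 1)
    rw [hermForm_mulVec ρ q hρ, hermForm_eq ρ q hρ, map_single_one, Matrix.mulVec_single_one,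
      single_dotProduct, one_mul, single_dotProduct, one_mul] at h1
    rw [Matrix.smul_apply, Matrix.one_apply, smul_eq_mul]
    rw [Pi.single_apply] at h1
    rw [← h1]
    rfl
  · rintro ⟨c, hc⟩
    refine ⟨c, fun u v => ?_⟩
    rw [hermForm_mulVec ρ q hρ, hc, Matrix.smul_mulVec, Matrix.one_mulVec, dotProduct_smul,
      smul_eq_mul, hermForm_eq ρ q hρ]

/-- The multiplier of a similitude is fixed by the involution. -/
theorem multiplier_fixed (ρ : RingAut F) (hρ2 : ∀ a, ρ (ρ a) = a) (hn : 0 < n)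
    (M : Matrix (Fin n) (Fin n) F) (c : F)
    (hc : Mᵀ * M.map ρ = c • (1 : Matrix (Fin n) (Fin n) F)) : ρ c = c := by
  have h1 : (Mᵀ * M.map ρ).map ρ = (c • (1 : Matrix (Fin n) (Fin n) F)).map ρ := by rw [hc]
  rw [Matrix.map_mul, map_map_eq ρ hρ2] at h1
  have h2 : ((Mᵀ).map ρ * M)ᵀ = Mᵀ * M.map ρ := by
    rw [Matrix.transpose_mul, Matrix.transpose_map, Matrix.transpose_transpose]
  rw [h1, hc] at h2
  have h3 := congrFun (congrFun h2 ⟨0, hn⟩) ⟨0, hn⟩
  simpa using h3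

/-- Entrywise field automorphisms preserve the similitude group. -/
theorem glF_mem_GUs (κ : RingAut F) {g : GL (Fin n) F} (hg : g ∈ GUs n F q) :
    glF κ g ∈ GUs n F q := by
  obtain ⟨c, hc⟩ := hg
  refine ⟨Units.map ((κ : F ≃+* F) : F →* F) c, fun u v => ?_⟩
  have hu : (fun i => κ (κ.symm (u i))) = u :=
    funext fun i => RingEquiv.apply_symm_apply κ (u i)
  have hv : (fun i => κ (κ.symm (v i))) = v :=
    funext fun i => RingEquiv.apply_symm_apply κ (v i)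
  have h1 := map_mulVec κ g.1 (fun i => κ.symm (u i))
  have h2 := map_mulVec κ g.1 (fun i => κ.symm (v i))
  rw [hu] at h1
  rw [hv] at h2
  have h4 := hermForm_map (q := q) κ (g.1 *ᵥ (fun i => κ.symm (u i)))
    (g.1 *ᵥ (fun i => κ.symm (v i)))
  rw [h1, h2] at h4
  rw [glF_coe, h4, hc, map_mul, ← hermForm_map, hu, hv]
  rfl

/-- Entrywise field automorphism on similitudes. -/
noncomputable def glFU (κ : RingAut F) : ↥(GUs n F q) →* ↥(GUs n F q) where
  toFun g := ⟨glF κ g.1, glF_mem_GUs κ g.2⟩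
  map_one' := Subtype.ext (map_one (glF κ))
  map_mul' g h := Subtype.ext (map_mul (glF κ) g.1 h.1)

theorem glFU_coe (κ : RingAut F) (g : ↥(GUs n F q)) :
    ((glFU κ g).1 : Matrix (Fin n) (Fin n) F) = (g.1 : Matrix (Fin n) (Fin n) F).map κ := rfl

theorem field_mul_conjU (κ : RingAut F) (g : ↥(GUs n F q)) :
    (fieldUHom κ : MulAut (Cfsg.PSU n F q)) * conjUHom g = conjUHom (glFU κ g) * fieldUHom κ := by
  ext x
  obtain ⟨x, rfl⟩ := piU_surjective x
  show fieldU κ (conjU g (piU x)) = conjU (glFU κ g) (fieldU κ (piU x))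
  rw [conjU_piU, fieldU_piU, fieldU_piU, conjU_piU]
  congr 1
  apply Subtype.ext
  apply Subtype.ext
  rw [fieldSU_coe, conjMatU_coe, conjMatU_coe, fieldSU_coe, Matrix.map_mul, Matrix.map_mul,
    glFU_coe]
  have h1 : ((glFU κ g).1⁻¹ : GL (Fin n) F) = glF κ (g.1⁻¹) := by
    show (glF κ g.1)⁻¹ = _
    rw [map_inv]
  rw [h1, glF_coe]

theorem conj_conj_fieldU (κ : RingAut F) (g h : ↥(GUs n F q)) :
    (conjUHom h : MulAut (Cfsg.PSU n F q)) * (conjUHom g * fieldUHom κ) * (conjUHom h)⁻¹ =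
      conjUHom (h * g * (glFU κ h)⁻¹) * fieldUHom κ := by
  rw [mul_inv_eq_iff_eq_mul, map_mul, map_mul, map_inv, mul_assoc, mul_assoc, mul_assoc]
  congr 2
  rw [eq_inv_mul_iff_mul_eq, field_mul_conjU]

/-- Scalar multiples induce the same automorphism. -/
theorem conjUHom_eq_of_smul (g g' : ↥(GUs n F q)) (d : F) (hd : d ≠ 0)
    (h : (g'.1 : Matrix (Fin n) (Fin n) F) = d • (g.1 : Matrix (Fin n) (Fin n) F)) :
    (conjUHom g' : MulAut (Cfsg.PSU n F q)) = conjUHom g := by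
  ext x
  obtain ⟨x, rfl⟩ := piU_surjective x
  show conjU g' (piU x) = conjU g (piU x)
  rw [conjU_piU, conjU_piU]
  congr 1
  apply Subtype.ext
  apply Subtype.ext
  rw [conjMatU_coe, conjMatU_coe]
  have hinv : ((g'.1⁻¹ : GL (Fin n) F) : Matrix (Fin n) (Fin n) F) =
      d⁻¹ • ((g.1⁻¹ : GL (Fin n) F) : Matrix (Fin n) (Fin n) F) := by
    have h1 : (g'.1 : Matrix (Fin n) (Fin n) F) *
        (d⁻¹ • ((g.1⁻¹ : GL (Fin n) F) : Matrix (Fin n) (Fin n) F)) = 1 := by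
      rw [h, Matrix.smul_mul, Matrix.mul_smul, smul_smul, mul_inv_cancel₀ hd, one_smul,
        gl_mul_inv]
    calc ((g'.1⁻¹ : GL (Fin n) F) : Matrix (Fin n) (Fin n) F)
        = ((g'.1⁻¹ : GL (Fin n) F) : Matrix (Fin n) (Fin n) F) *
          ((g'.1 : Matrix (Fin n) (Fin n) F) *
            (d⁻¹ • ((g.1⁻¹ : GL (Fin n) F) : Matrix (Fin n) (Fin n) F))) := by
          rw [h1, Matrix.mul_one]
      _ = d⁻¹ • ((g.1⁻¹ : GL (Fin n) F) : Matrix (Fin n) (Fin n) F) := by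
          rw [← Matrix.mul_assoc, gl_inv_mul, Matrix.one_mul]
  rw [hinv, h, Matrix.smul_mul, Matrix.smul_mul, Matrix.mul_smul, smul_smul,
    mul_inv_cancel₀ hd, one_smul]

end gram

end Cfsg.Agent.Lib.Helper25.PSUG
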