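import Cfsg.Agent.Lib.Helper25.PSUGraph3
import Cfsg.Agent.Lib.Helper25.GraphInv13

set_option autoImplicit false

/-!
# Descent to the fixed field: centralisers of graph involutions of `PSU_n`
-/

namespace Cfsg.Agent.Lib.Helper25.PSUG

open Matrix Cfsg Cfsg.Agent.Lib.Helper18.PSLnAut Cfsg.Agent.Lib.Helper18.PSLnFld
  Cfsg.Agent.Lib.Helper25.GraphInv

section mats

variable {n : ℕ} {F : Type*} [Field F]

theorem tr_mul_tr_inv (k : GL (Fin n) F) :
    (k.1)ᵀ * ((k⁻¹ : GL (Fin n) F).1)ᵀ = 1 := by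
  rw [← Matrix.transpose_mul, gl_inv_mul, Matrix.transpose_one]

theorem tr_inv_mul_tr (k : GL (Fin n) F) :
    ((k⁻¹ : GL (Fin n) F).1)ᵀ * (k.1)ᵀ = 1 := by
  rw [← Matrix.transpose_mul, gl_mul_inv, Matrix.transpose_one]

theorem map_mul_map_inv (ρ : RingAut F) (k : GL (Fin n) F) :
    (k.1).map ρ * ((k⁻¹ : GL (Fin n) F).1).map ρ = 1 := by
  rw [← Matrix.map_mul, gl_mul_inv, map_one_eq]

theorem map_inv_mul_map (ρ : RingAut F) (k : GL (Fin n) F) :
    ((k⁻¹ : GL (Fin n) F).1).map ρ * (k.1).map ρ = 1 := by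
  rw [← Matrix.map_mul, gl_inv_mul, map_one_eq]

theorem map_smul_eq (ρ : RingAut F) (c : F) (M : Matrix (Fin n) (Fin n) F) :
    (c • M).map ρ = ρ c • M.map ρ := by
  ext i j
  simp

end mats

section descent

variable {n : ℕ} {F : Type*} [Field F] {F₀ : Type*} [Field F₀] {q : ℕ}

/-- Hilbert 90 for matrices, order two: a matrix proportional to its conjugate is a scalar
multiple of a matrix over the fixed field. -/
theorem exists_glMap_of_twisted (ρ : RingAut F) (hρo : orderOf ρ = 2) (ι : F₀ →+* F)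
    (hι : ∀ a : F, ρ a = a ↔ a ∈ Set.range ι) (hn : 2 ≤ n) (y : GL (Fin n) F) (c : F)
    (hc : (y.1 : Matrix (Fin n) (Fin n) F) = c • (y.1 : Matrix (Fin n) (Fin n) F).map ρ) :
    ∃ (x₀ : GL (Fin n) F₀) (ν : F), ν ≠ 0 ∧
      ((glMap ι x₀).1 : Matrix (Fin n) (Fin n) F) = ν • (y.1 : Matrix (Fin n) (Fin n) F) := by
  have hρρ : ρ * ρ = 1 := by rw [← pow_two, ← hρo]; exact pow_orderOf_eq_one ρ
  have hρ2 : ∀ a, ρ (ρ a) = a := by
    intro a
    have := congrArg (fun τ : RingAut F => τ a) hρρ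
    exact this
  obtain ⟨a, b, hab⟩ := exists_entry_ne_zero hn y
  have hent : ∀ a b, (y.1 : Matrix (Fin n) (Fin n) F) a b =
      c * ρ ((y.1 : Matrix (Fin n) (Fin n) F) a b) := by
    intro a b
    have := congrFun (congrFun hc a) b
    rw [Matrix.smul_apply, Matrix.map_apply, smul_eq_mul] at this
    exact this
  have hcc : c * ρ c = 1 := by
    have h1 := hent a b
    have h2 : ρ ((y.1 : Matrix (Fin n) (Fin n) F) a b) =
        ρ c * (y.1 : Matrix (Fin n) (Fin n) F) a b := by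
      conv_lhs => rw [h1]
      rw [map_mul, hρ2]
    rw [h2] at h1
    have h3 : (c * ρ c) * (y.1 : Matrix (Fin n) (Fin n) F) a b =
        1 * (y.1 : Matrix (Fin n) (Fin n) F) a b := by
      rw [one_mul]
      conv_rhs => rw [h1]
      ring
    exact mul_right_cancel₀ hab h3
  have hc0 : c ≠ 0 := by
    rintro rfl
    rw [zero_mul] at hcc
    exact zero_ne_one hcc
  have hnrm : nrm ρ c 2 = 1 := by
    rw [← hcc]
    unfold nrm
    simp [Finset.prod_range_succ]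
  obtain ⟨ν, hν0, hν⟩ := exists_fixed_of_nrm_eq_one ρ 2 hρo (by norm_num) c hnrm
  have hfix : ∀ a b, ρ (ν⁻¹ * (y.1 : Matrix (Fin n) (Fin n) F) a b) =
      ν⁻¹ * (y.1 : Matrix (Fin n) (Fin n) F) a b := by
    intro a b
    have h1 : ρ ((y.1 : Matrix (Fin n) (Fin n) F) a b) =
        c⁻¹ * (y.1 : Matrix (Fin n) (Fin n) F) a b := by
      conv_rhs => rw [hent a b]
      rw [← mul_assoc, inv_mul_cancel₀ hc0, one_mul]
    rw [map_mul, map_inv₀, h1]
    have hρν : ρ ν ≠ 0 := (map_ne_zero_iff _ (RingEquiv.injective _)).2 hν0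
    have h2 : (ρ ν)⁻¹ * c⁻¹ = ν⁻¹ := by
      rw [← mul_inv, mul_comm, hν]
    rw [← mul_assoc, h2]
  choose g₀ hg₀ using fun a b => (hι _).1 (hfix a b)
  have hmap : (Matrix.of g₀ : Matrix (Fin n) (Fin n) F₀).map ι =
      ν⁻¹ • (y.1 : Matrix (Fin n) (Fin n) F) := by
    ext a b
    rw [Matrix.map_apply, Matrix.of_apply, hg₀, Matrix.smul_apply, smul_eq_mul]
  have hdet : (Matrix.of g₀ : Matrix (Fin n) (Fin n) F₀).det ≠ 0 := by
    intro h0
    have h8 : ((Matrix.of g₀ : Matrix (Fin n) (Fin n) F₀).map ι).det = 0 := by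
      have := (RingHom.map_det ι (Matrix.of g₀ : Matrix (Fin n) (Fin n) F₀)).symm
      rw [RingHom.mapMatrix_apply] at this
      rw [this, h0, map_zero]
    rw [hmap, Matrix.det_smul] at h8
    have h9 : (y.1 : Matrix (Fin n) (Fin n) F).det ≠ 0 := Matrix.GeneralLinearGroup.det_ne_zero y
    exact (mul_ne_zero (pow_ne_zero _ (inv_ne_zero hν0)) h9) h8
  refine ⟨Matrix.GeneralLinearGroup.mkOfDetNeZero (Matrix.of g₀) hdet, ν⁻¹, inv_ne_zero hν0, ?_⟩
  rw [glMap_coe]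
  exact hmap

/-- Membership of a conjugate in the similitude group, in terms of the Gram matrix of the
conjugating matrix. -/
theorem conj_mem_GUs_iff (ρ : RingAut F) (hρ : ∀ a, ρ a = a ^ q) (k y : GL (Fin n) F) :
    k * y * k⁻¹ ∈ GUs n F q ↔ ∃ c : Fˣ,
      (y.1)ᵀ * ((k.1)ᵀ * (k.1).map ρ) * (y.1).map ρ = (c : F) • ((k.1)ᵀ * (k.1).map ρ) := by
  rw [mem_GUs_iff_gram ρ hρ]
  have h1 : ((k * y * k⁻¹ : GL (Fin n) F).1)ᵀ * ((k * y * k⁻¹ : GL (Fin n) F).1).map ρ =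
      ((k⁻¹ : GL (Fin n) F).1)ᵀ * ((y.1)ᵀ * ((k.1)ᵀ * (k.1).map ρ) * (y.1).map ρ) *
        ((k⁻¹ : GL (Fin n) F).1).map ρ := by
    rw [Units.val_mul, Units.val_mul, Matrix.transpose_mul, Matrix.transpose_mul, Matrix.map_mul,
      Matrix.map_mul]
    simp only [Matrix.mul_assoc]
  rw [h1]
  constructor
  · rintro ⟨c, hc⟩
    refine ⟨c, ?_⟩
    calc (y.1)ᵀ * ((k.1)ᵀ * (k.1).map ρ) * (y.1).map ρ
        = ((k.1)ᵀ * ((k⁻¹ : GL (Fin n) F).1)ᵀ) *
            ((y.1)ᵀ * ((k.1)ᵀ * (k.1).map ρ) * (y.1).map ρ) *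
            (((k⁻¹ : GL (Fin n) F).1).map ρ * (k.1).map ρ) := by
          rw [tr_mul_tr_inv, map_inv_mul_map, Matrix.one_mul, Matrix.mul_one]
      _ = (k.1)ᵀ * (((k⁻¹ : GL (Fin n) F).1)ᵀ *
            ((y.1)ᵀ * ((k.1)ᵀ * (k.1).map ρ) * (y.1).map ρ) *
            ((k⁻¹ : GL (Fin n) F).1).map ρ) * (k.1).map ρ := by
          simp only [Matrix.mul_assoc]
      _ = (c : F) • ((k.1)ᵀ * (k.1).map ρ) := by
          rw [hc, Matrix.mul_smul, Matrix.mul_one, Matrix.smul_mul]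
  · rintro ⟨c, hc⟩
    refine ⟨c, ?_⟩
    rw [hc, Matrix.mul_smul, Matrix.smul_mul]
    congr 1
    calc ((k⁻¹ : GL (Fin n) F).1)ᵀ * ((k.1)ᵀ * (k.1).map ρ) * ((k⁻¹ : GL (Fin n) F).1).map ρ
        = (((k⁻¹ : GL (Fin n) F).1)ᵀ * (k.1)ᵀ) *
            ((k.1).map ρ * ((k⁻¹ : GL (Fin n) F).1).map ρ) := by
          simp only [Matrix.mul_assoc]
      _ = 1 := by rw [tr_inv_mul_tr, map_mul_map_inv, Matrix.one_mul]

theorem map_injective' (ι : F₀ →+* F) {M N : Matrix (Fin n) (Fin n) F₀}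
    (h : M.map ι = N.map ι) : M = N := by
  ext a b
  have := congrFun (congrFun h a) b
  rw [Matrix.map_apply, Matrix.map_apply] at this
  exact ι.injective this

/-- Similitudes of a form over the fixed field, after extension of scalars. -/
theorem glMap_sim_iff (hn : 2 ≤ n) (ρ : RingAut F) (ι : F₀ →+* F) (hι' : ∀ b, ρ (ι b) = ι b)
    (t : F) (ht : t ≠ 0) (A₀ x₀ : GL (Fin n) F₀) :
    (∃ c : Fˣ, ((glMap ι x₀).1)ᵀ * (t • (A₀.1).map ι) * ((glMap ι x₀).1).map ρ =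
      (c : F) • (t • (A₀.1).map ι)) ↔ x₀ ∈ simG A₀ := by
  have hfix : ((glMap ι x₀).1 : Matrix (Fin n) (Fin n) F).map ρ = (glMap ι x₀).1 := by
    ext a b
    rw [Matrix.map_apply, glMap_coe, Matrix.map_apply]
    exact hι' _
  have hprod : ((glMap ι x₀).1)ᵀ * (t • (A₀.1).map ι) * (glMap ι x₀).1 =
      t • ((x₀.1)ᵀ * A₀.1 * x₀.1).map ι := by
    rw [glMap_coe, Matrix.mul_smul, Matrix.smul_mul, Matrix.map_mul, Matrix.map_mul,
      Matrix.transpose_map]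
  rw [hfix, hprod, mem_simG_iff]
  constructor
  · rintro ⟨c, hc⟩
    rw [smul_comm] at hc
    have hc' : ((x₀.1)ᵀ * A₀.1 * x₀.1).map ι = (c : F) • (A₀.1).map ι := by
      have h1 := congrArg (fun M => t⁻¹ • M) hc
      simp only [smul_smul, inv_mul_cancel₀ ht, one_smul] at h1
      rw [← mul_assoc, inv_mul_cancel₀ ht, one_mul] at h1
      exact h1
    obtain ⟨a, b, hab⟩ := exists_entry_ne_zero hn A₀
    have h2 := congrFun (congrFun hc' a) b
    rw [Matrix.map_apply, Matrix.smul_apply, Matrix.map_apply, smul_eq_mul] at h2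
    have hιab : ι ((A₀.1 : Matrix (Fin n) (Fin n) F₀) a b) ≠ 0 :=
      (map_ne_zero_iff _ ι.injective).2 hab
    obtain ⟨c₀, hc₀⟩ : ∃ c₀ : F₀, ι c₀ = c := by
      refine ⟨((x₀.1)ᵀ * A₀.1 * x₀.1) a b / (A₀.1 : Matrix (Fin n) (Fin n) F₀) a b, ?_⟩
      rw [map_div₀, h2, mul_div_assoc, div_self hιab, mul_one]
    have hc₀0 : c₀ ≠ 0 := by
      rintro rfl
      rw [map_zero] at hc₀
      exact c.ne_zero hc₀.symm
    refine ⟨Units.mk0 c₀ hc₀0, ?_⟩
    apply map_injective' ι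
    rw [hc', Units.val_mk0, ← hc₀]
    ext i j
    simp
  · rintro ⟨c₀, hc₀⟩
    refine ⟨Units.map (ι : F₀ →* F) c₀, ?_⟩
    rw [hc₀, smul_comm]
    congr 1
    ext i j
    simp

end descent

end Cfsg.Agent.Lib.Helper25.PSUG
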