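import Cfsg.Agent.Lib.Helper25.PSUGraph4

set_option autoImplicit false

/-!
# The centraliser of a graph involution of `PSU_n` as a projective similarity group over the
fixed field
-/

namespace Cfsg.Agent.Lib.Helper25.PSUG

open Matrix Cfsg Cfsg.Agent.Lib.Helper18.PSLnAut Cfsg.Agent.Lib.Helper18.PSLnFld
  Cfsg.Agent.Lib.Helper25.GraphInv Cfsg.Agent.Lib.Helper25.InvTrans

section scal

variable {n : ℕ} {F : Type*} [Field F] {q : ℕ}

theorem scalarGL_mem_GUs (ρ : RingAut F) (hρ : ∀ a, ρ a = a ^ q) (c : Fˣ) :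
    (scalarGL c : GL (Fin n) F) ∈ GUs n F q := by
  rw [mem_GUs_iff_gram ρ hρ]
  refine ⟨c * Units.map ((ρ : F ≃+* F) : F →* F) c, ?_⟩
  rw [scalarGL_coe, Matrix.transpose_smul, Matrix.transpose_one, map_smul_eq, map_one_eq,
    Matrix.smul_mul, Matrix.one_mul, smul_smul, Units.val_mul]
  rfl

theorem conj_scalar (k z : GL (Fin n) F) (c : F)
    (hz : (z.1 : Matrix (Fin n) (Fin n) F) = c • (1 : Matrix (Fin n) (Fin n) F)) :
    k⁻¹ * z * k = z := by
  apply Units.ext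
  rw [Units.val_mul, Units.val_mul, hz, Matrix.mul_smul, Matrix.mul_one, Matrix.smul_mul,
    gl_inv_mul]

theorem map_smul_one {F₀ : Type*} [Field F₀] (ι : F₀ →+* F) (c : F₀) :
    (c • (1 : Matrix (Fin n) (Fin n) F₀)).map ι = ι c • (1 : Matrix (Fin n) (Fin n) F) := by
  ext i j
  by_cases hij : i = j
  · subst hij
    simp
  · simp [hij]

end scal

section centralizer

variable {n : ℕ} {F : Type*} [Field F] [Fintype F] {F₀ : Type*} [Field F₀] {q : ℕ}

/-- The centraliser of the graph involution attached to `k σ(k)⁻¹`, where `kᵀ σ(k)` is a multiple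
of a matrix `A₀` over the fixed field, is the projective similarity group of `A₀`. -/
theorem nonempty_centralizer_descent (hF : Fintype.card F = q ^ 2) (hn : 3 ≤ n)
    (h32 : ¬ (n = 3 ∧ q = 2)) (ρ : RingAut F) (hρ : ∀ a, ρ a = a ^ q) (hρo : orderOf ρ = 2)
    (ι : F₀ →+* F) (hι : ∀ a : F, ρ a = a ↔ a ∈ Set.range ι)
    (k : GL (Fin n) F) (t : F) (ht : t ≠ 0) (A₀ : GL (Fin n) F₀)
    (hk : (k.1)ᵀ * (k.1).map ρ = t • (A₀.1).map ι)
    (g : ↥(GUs n F q)) (hg : g.1 = k * (glF ρ k)⁻¹) :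
    Nonempty (↥(Cfsg.inndiagPSU n F q ⊓
      Subgroup.centralizer {(conjUHom g * fieldUHom ρ : MulAut (Cfsg.PSU n F q))}) ≃*
      Cfsg.projQuot (simG A₀)) := by
  have hn2 : 2 ≤ n := by omega
  have hι' : ∀ b, ρ (ι b) = ι b := fun b => (hι _).2 ⟨b, rfl⟩
  have hfixmap : ∀ x₀ : GL (Fin n) F₀, glF ρ (glMap ι x₀) = glMap ι x₀ :=
    fun x₀ => glF_glMap ρ ι hι' x₀
  have hmem : ∀ x₀ : ↥(simG A₀), k * glMap ι x₀.1 * k⁻¹ ∈ GUs n F q := by
    intro x₀
    rw [conj_mem_GUs_iff ρ hρ, hk]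
    exact (glMap_sim_iff hn2 ρ ι hι' t ht A₀ x₀.1).2 x₀.2
  obtain ⟨Ψ, hΨ⟩ : ∃ Ψ : ↥(simG A₀) →* ↥(GUs n F q),
      ∀ x₀, (Ψ x₀).1 = k * glMap ι x₀.1 * k⁻¹ := by
    refine ⟨{ toFun := fun x₀ => ⟨k * glMap ι x₀.1 * k⁻¹, hmem x₀⟩
              map_one' := Subtype.ext (by
                show k * glMap ι (1 : GL (Fin n) F₀) * k⁻¹ = 1
                rw [map_one, mul_one, mul_inv_cancel])
              map_mul' := fun x y => Subtype.ext (by
                show k * glMap ι (x.1 * y.1) * k⁻¹ =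
                  (k * glMap ι x.1 * k⁻¹) * (k * glMap ι y.1 * k⁻¹)
                rw [map_mul]
                group) }, fun _ => rfl⟩
  obtain ⟨Φ, hΦ⟩ : ∃ Φ : ↥(simG A₀) →* MulAut (Cfsg.PSU n F q), ∀ x₀, Φ x₀ = conjUHom (Ψ x₀) :=
    ⟨conjUHom.comp Ψ, fun _ => rfl⟩
  have hrangeU := range_conjUHom (n := n) (F := F) (q := q) ρ hρ hρo (by omega)
  -- conjugating the graph involution
  have hconj : ∀ h : ↥(GUs n F q),
      (conjUHom h : MulAut (Cfsg.PSU n F q)) ∈ Subgroup.centralizer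
        {(conjUHom g * fieldUHom ρ : MulAut (Cfsg.PSU n F q))} ↔
      (conjUHom (h * g * (glFU ρ h)⁻¹) : MulAut (Cfsg.PSU n F q)) = conjUHom g := by
    intro h
    rw [Subgroup.mem_centralizer_iff]
    constructor
    · intro hc
      have h1 := hc _ rfl
      have h2 := conj_conj_fieldU ρ g h
      rw [← h1, mul_inv_cancel_right] at h2
      exact (mul_right_cancel h2).symm
    · intro hc y hy
      rw [Set.mem_singleton_iff] at hy
      subst hy
      have h2 := conj_conj_fieldU ρ g h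
      rw [hc, mul_inv_eq_iff_eq_mul] at h2
      exact h2.symm
  have hrange : Φ.range = Cfsg.inndiagPSU n F q ⊓
      Subgroup.centralizer {(conjUHom g * fieldUHom ρ : MulAut (Cfsg.PSU n F q))} := by
    ext β
    constructor
    · rintro ⟨x₀, rfl⟩
      rw [hΦ]
      refine ⟨?_, ?_⟩
      · rw [← hrangeU]
        exact ⟨_, rfl⟩
      · show conjUHom _ ∈ Subgroup.centralizer _
        rw [hconj]
        congr 1
        apply Subtype.ext
        show (Ψ x₀).1 * g.1 * (glF ρ (Ψ x₀).1)⁻¹ = g.1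
        rw [hΨ, hg, map_mul, map_mul, map_inv, hfixmap]
        group
    · rintro ⟨hβ1, hβ2⟩
      rw [← hrangeU] at hβ1
      obtain ⟨h, rfl⟩ := hβ1
      have hβ2' : (conjUHom h : MulAut (Cfsg.PSU n F q)) ∈ Subgroup.centralizer
        {(conjUHom g * fieldUHom ρ : MulAut (Cfsg.PSU n F q))} := hβ2
      rw [hconj] at hβ2'
      have hker : h * g * (glFU ρ h)⁻¹ * g⁻¹ ∈ (conjUHom (n := n) (F := F) (q := q)).ker := by
        rw [MonoidHom.mem_ker, map_mul, hβ2', map_inv, mul_inv_cancel]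
      rw [ker_conjUHom hF hn h32, Subgroup.mem_subgroupOf, Geo.mem_scalars_iff] at hker
      obtain ⟨c, hc⟩ := hker
      obtain ⟨Z, hZ⟩ : ∃ Z : GL (Fin n) F, Z = h.1 * g.1 * (glF ρ h.1)⁻¹ * g.1⁻¹ := ⟨_, rfl⟩
      have hZc : (Z.1 : Matrix (Fin n) (Fin n) F) = (c : F) • (1 : Matrix (Fin n) (Fin n) F) := by
        rw [hZ]
        exact hc
      obtain ⟨y, hy⟩ : ∃ y : GL (Fin n) F, y = k⁻¹ * h.1 * k := ⟨_, rfl⟩
      have e1 : y * (glF ρ y)⁻¹ = k⁻¹ * Z * k := by
        rw [hy, hZ, hg, map_mul, map_mul, map_inv]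
        group
      rw [conj_scalar k Z c hZc] at e1
      have e2 : y = Z * glF ρ y := by
        rw [← e1]
        group
      have e3 : (y.1 : Matrix (Fin n) (Fin n) F) =
          (c : F) • (y.1 : Matrix (Fin n) (Fin n) F).map ρ := by
        conv_lhs => rw [e2]
        rw [Units.val_mul, hZc, glF_coe, Matrix.smul_mul, Matrix.one_mul]
      obtain ⟨x₀, ν, hν0, hx₀⟩ := exists_glMap_of_twisted ρ hρo ι hι hn2 y c e3
      obtain ⟨νu, hνu⟩ : ∃ νu : Fˣ, (νu : F) = ν := ⟨Units.mk0 ν hν0, rfl⟩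
      have e4 : k * glMap ι x₀ * k⁻¹ = scalarGL νu * h.1 := by
        apply Units.ext
        have hh : ((scalarGL νu * h.1 : GL (Fin n) F).1 : Matrix (Fin n) (Fin n) F) =
            ν • (h.1.1 : Matrix (Fin n) (Fin n) F) := by
          rw [Units.val_mul, scalarGL_coe, hνu, Matrix.smul_mul, Matrix.one_mul]
        rw [hh, Units.val_mul, Units.val_mul, hx₀, hy, Units.val_mul, Units.val_mul,
          Matrix.mul_smul, Matrix.smul_mul]
        congr 1
        calc (k.1 : Matrix (Fin n) (Fin n) F) * ((k⁻¹ : GL (Fin n) F).1 * h.1.1 * k.1) *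
              (k⁻¹ : GL (Fin n) F).1
            = ((k.1 : Matrix (Fin n) (Fin n) F) * (k⁻¹ : GL (Fin n) F).1) * h.1.1 *
              (k.1 * (k⁻¹ : GL (Fin n) F).1) := by simp only [Matrix.mul_assoc]
          _ = h.1.1 := by rw [gl_mul_inv, Matrix.one_mul, Matrix.mul_one]
      have hx₀mem : x₀ ∈ simG A₀ := by
        have h5 : k * glMap ι x₀ * k⁻¹ ∈ GUs n F q := by
          rw [e4]
          exact (GUs n F q).mul_mem (scalarGL_mem_GUs ρ hρ νu) h.2
        rw [conj_mem_GUs_iff ρ hρ, hk] at h5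
        exact (glMap_sim_iff hn2 ρ ι hι' t ht A₀ x₀).1 h5
      refine ⟨⟨x₀, hx₀mem⟩, ?_⟩
      rw [hΦ]
      apply conjUHom_eq_of_smul h (Ψ ⟨x₀, hx₀mem⟩) ν hν0
      rw [hΨ]
      show ((k * glMap ι x₀ * k⁻¹ : GL (Fin n) F).1 : Matrix (Fin n) (Fin n) F) = _
      rw [e4, Units.val_mul, scalarGL_coe, hνu, Matrix.smul_mul, Matrix.one_mul]
  have hker : Φ.ker = (Geo.scalars (Fin n) F₀).subgroupOf (simG A₀) := by
    ext x₀
    rw [MonoidHom.mem_ker, hΦ, ← MonoidHom.mem_ker, ker_conjUHom hF hn h32,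
      Subgroup.mem_subgroupOf, Subgroup.mem_subgroupOf, Geo.mem_scalars_iff,
      Geo.mem_scalars_iff, hΨ]
    constructor
    · rintro ⟨c, hc⟩
      have h1 : ((glMap ι x₀.1).1 : Matrix (Fin n) (Fin n) F) =
          (c : F) • (1 : Matrix (Fin n) (Fin n) F) := by
        calc ((glMap ι x₀.1).1 : Matrix (Fin n) (Fin n) F)
            = ((k⁻¹ : GL (Fin n) F).1 * k.1) * (glMap ι x₀.1).1 *
              ((k⁻¹ : GL (Fin n) F).1 * k.1) := by
              rw [gl_inv_mul, Matrix.one_mul, Matrix.mul_one]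
          _ = (k⁻¹ : GL (Fin n) F).1 * ((k * glMap ι x₀.1 * k⁻¹ : GL (Fin n) F).1) * k.1 := by
              rw [Units.val_mul, Units.val_mul]
              simp only [Matrix.mul_assoc]
          _ = _ := by
              rw [hc, Matrix.mul_smul, Matrix.mul_one, Matrix.smul_mul, gl_inv_mul]
      rw [glMap_coe] at h1
      have h2 := congrFun (congrFun h1 ⟨0, by omega⟩) ⟨0, by omega⟩
      rw [Matrix.map_apply, Matrix.smul_apply, Matrix.one_apply_eq, smul_eq_mul, mul_one] at h2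
      have hc₀0 : (x₀.1.1 : Matrix (Fin n) (Fin n) F₀) ⟨0, by omega⟩ ⟨0, by omega⟩ ≠ 0 := by
        intro h0
        rw [h0, map_zero] at h2
        exact c.ne_zero h2.symm
      refine ⟨Units.mk0 _ hc₀0, ?_⟩
      apply map_injective' ι
      rw [h1, Units.val_mk0, map_smul_one, h2]
    · rintro ⟨c₀, hc₀⟩
      refine ⟨Units.map (ι : F₀ →* F) c₀, ?_⟩
      rw [Units.val_mul, Units.val_mul, glMap_coe, hc₀]
      rw [map_smul_one, Matrix.mul_smul, Matrix.mul_one, Matrix.smul_mul, gl_mul_inv]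
      rfl
  exact ⟨((MulEquiv.subgroupCongr hrange).symm.trans
    (QuotientGroup.quotientKerEquivRange Φ).symm).trans
    (QuotientGroup.quotientMulEquivOfEq hker)⟩

end centralizer

end Cfsg.Agent.Lib.Helper25.PSUG
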