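import Cfsg.Agent.Lib.Helper25.PSUGraph6

set_option autoImplicit false

/-!
# Field automorphisms of `PSU_n` are not inner-diagonal; the normal form of a graph involution
-/

namespace Cfsg.Agent.Lib.Helper25.PSUG

open Matrix Cfsg Cfsg.Agent.Lib.Helper18.PSLnAut Cfsg.Agent.Lib.Helper18.PSLnFld
  Cfsg.Agent.Lib.Helper25.GraphInv Cfsg.Agent.Lib.Helper25.InvTrans Cfsg.Agent.Lib.Helper14

section lift

variable {n : ℕ} {F : Type*} [Field F] {q : ℕ}

/-- Automorphisms of a perfect `SU_n` are determined by the induced automorphisms of `PSU_n`. -/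
theorem aut_eq_of_liftAutU_eq (hperf : commutator ↥(Cfsg.SU n F q) = ⊤)
    (α β : ↥(Cfsg.SU n F q) ≃* ↥(Cfsg.SU n F q)) (h : liftAutU α = liftAutU β)
    (s : ↥(Cfsg.SU n F q)) : α s = β s := by
  have hz : ∀ s : ↥(Cfsg.SU n F q), (β s)⁻¹ * α s ∈ Subgroup.center ↥(Cfsg.SU n F q) := by
    intro s
    have h1 : liftAutU α (piU s) = liftAutU β (piU s) := by rw [h]
    rw [liftAutU_piU, liftAutU_piU] at h1
    rw [← piU_eq_one_iff, map_mul, map_inv, h1, inv_mul_cancel]
  obtain ⟨φ, hφ⟩ : ∃ φ : ↥(Cfsg.SU n F q) →* ↥(Subgroup.center ↥(Cfsg.SU n F q)),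
      ∀ s, (φ s).1 = (β s)⁻¹ * α s := by
    refine ⟨MonoidHom.mk' (fun s => ⟨(β s)⁻¹ * α s, hz s⟩) (fun s t => Subtype.ext ?_),
      fun s => rfl⟩
    show (β (s * t))⁻¹ * α (s * t) = ((β s)⁻¹ * α s) * ((β t)⁻¹ * α t)
    have h1 := (Subgroup.mem_center_iff.1 (hz s)) (β t)⁻¹
    rw [map_mul, map_mul, _root_.mul_inv_rev]
    calc (β t)⁻¹ * (β s)⁻¹ * (α s * α t)
        = (β t)⁻¹ * ((β s)⁻¹ * α s) * α t := by group
      _ = ((β s)⁻¹ * α s) * (β t)⁻¹ * α t := by rw [h1]
      _ = _ := by group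
  have h1 := hom_eq_one_of_perfect' hperf φ
    (fun a b => Subtype.ext ((Subgroup.mem_center_iff.1 b.2) a.1)) s
  have h2 := hφ s
  rw [h1] at h2
  have h3 : (β s)⁻¹ * α s = 1 := h2.symm
  rw [inv_mul_eq_one] at h3
  exact h3.symm

end lift

section diag

variable {n : ℕ} {F : Type*} [Field F] {q : ℕ}

/-- A diagonal vector with two non-trivial entries. -/
def dvec (i l : Fin n) (x : F) : Fin n → F :=
  fun k => if k = i then x else if k = l then x⁻¹ else 1

theorem dvec_prod (i l : Fin n) (hil : i ≠ l) (x : F) (hx : x ≠ 0) :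
    ∏ k, dvec i l x k = 1 := by
  rw [Finset.prod_eq_mul i l hil]
  · unfold dvec
    rw [if_pos rfl, if_neg hil.symm, if_pos rfl, mul_inv_cancel₀ hx]
  · intro c _ hc
    unfold dvec
    rw [if_neg hc.1, if_neg hc.2]
  · intro h
    exact absurd (Finset.mem_univ i) h
  · intro h
    exact absurd (Finset.mem_univ l) h

theorem dvec_norm (i l : Fin n) (x : F) (hx : x * x ^ q = 1) (k : Fin n) :
    dvec i l x k * dvec i l x k ^ q = 1 := by
  unfold dvec
  split_ifs
  · exact hx
  · rw [inv_pow, ← mul_inv, hx, inv_one]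
  · rw [one_pow, one_mul]

/-- The diagonal element of `SU_n`. -/
def dSU (i l : Fin n) (hil : i ≠ l) (x : F) (hx : x * x ^ q = 1) : ↥(Cfsg.SU n F q) :=
  ⟨⟨Matrix.diagonal (dvec i l x), by
    rw [Matrix.det_diagonal]
    apply dvec_prod i l hil
    rintro rfl
    rw [zero_mul] at hx
    exact zero_ne_one hx⟩, isUni_diagonal _ (dvec_norm i l x hx)⟩

theorem dSU_coe (i l : Fin n) (hil : i ≠ l) (x : F) (hx : x * x ^ q = 1) :
    ((dSU (q := q) i l hil x hx).1 : Matrix (Fin n) (Fin n) F) = Matrix.diagonal (dvec i l x) := rfl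

end diag

section nofield

variable {n : ℕ} {F : Type*} [Field F] [Fintype F] {q : ℕ}

/-- A field automorphism equivalent to the identity on `SU_n` fixes the norm-one elements. -/
theorem fix_normOne_of_intertwine (hF : Fintype.card F = q ^ 2) (hn : 3 ≤ n) (τ : RingAut F)
    (g : GL (Fin n) F)
    (h : ∀ s : ↥(Cfsg.SU n F q), (s.1.1 : Matrix (Fin n) (Fin n) F).map τ * g.1 = g.1 * s.1.1)
    (x : F) (hx : x * x ^ q = 1) : τ x = x := by
  classical
  obtain ⟨j₀, hj₀⟩ : ∃ j₀, (g.1 : Matrix (Fin n) (Fin n) F) ⟨0, by omega⟩ j₀ ≠ 0 := by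
    by_contra hne
    push Not at hne
    have h1 := congrFun (congrFun (gl_mul_inv g) ⟨0, by omega⟩) ⟨0, by omega⟩
    rw [Matrix.mul_apply, Matrix.one_apply_eq] at h1
    rw [Finset.sum_eq_zero (fun j _ => by rw [hne j, zero_mul])] at h1
    exact zero_ne_one h1
  have hkey : ∀ (i l : Fin n) (hil : i ≠ l) (y : F) (hy : y * y ^ q = 1),
      τ (dvec i l y ⟨0, by omega⟩) = dvec i l y j₀ := by
    intro i l hil y hy
    have h1 := congrFun (congrFun (h (dSU i l hil y hy)) ⟨0, by omega⟩) j₀
    rw [dSU_coe, Matrix.diagonal_map (map_zero τ), Matrix.diagonal_mul, Matrix.mul_diagonal,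
      mul_comm] at h1
    exact mul_left_cancel₀ hj₀ h1
  by_cases hj : j₀ = ⟨0, by omega⟩
  · have h1 := hkey ⟨0, by omega⟩ ⟨1, by omega⟩ (by
      intro h0
      have := congrArg Fin.val h0
      simp at this) x hx
    rw [hj] at h1
    unfold dvec at h1
    rw [if_pos rfl] at h1
    exact h1
  · exfalso
    obtain ⟨l, hl0, hlj⟩ : ∃ l : Fin n, l ≠ ⟨0, by omega⟩ ∧ l ≠ j₀ := by
      by_cases h1 : j₀ = ⟨1, by omega⟩
      · refine ⟨⟨2, by omega⟩, ?_, ?_⟩
        · intro h0
          have := congrArg Fin.val h0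
          simp at this
        · rw [h1]
          intro h0
          have := congrArg Fin.val h0
          simp at this
      · refine ⟨⟨1, by omega⟩, ?_, fun h0 => h1 h0.symm⟩
        intro h0
        have := congrArg Fin.val h0
        simp at this
    obtain ⟨y, hy1, hy2⟩ := exists_normOne_sq_ne_one hF
    have h1 := hkey ⟨0, by omega⟩ l hl0.symm y hy1
    unfold dvec at h1
    rw [if_pos rfl, if_neg hj, if_neg (fun h0 => hlj h0.symm)] at h1
    have h2 : y = 1 := by
      apply τ.injective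
      rw [h1, map_one]
    apply hy2
    rw [h2, one_mul]

/-- A field automorphism fixing the norm-one elements is trivial. -/
theorem eq_one_of_fix_normOne (hF : Fintype.card F = q ^ 2) (τ : RingAut F)
    (h : ∀ x : F, x * x ^ q = 1 → τ x = x) : τ = 1 := by
  classical
  obtain ⟨K, hK⟩ : ∃ K : Subfield F, ∀ a, a ∈ K ↔ τ a = a :=
    ⟨RingHom.eqLocusField ((τ : F ≃+* F) : F →+* F) (RingHom.id F), fun a => Iff.rfl⟩
  have hq2 : 2 ≤ q := herm_two_le hF
  have hcardK : q + 2 ≤ Nat.card K := by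
    have h1 := card_normOne hF
    obtain ⟨f, hf⟩ : ∃ f : Option ↥(normOne F q) → ↥K, Function.Injective f := by
      refine ⟨fun o => match o with
        | none => 0
        | some l => ⟨(l.1 : F), (hK _).2 (h _ (by
            have := (mem_normOne l.1).mp l.2
            have h2 := congrArg Units.val this
            rw [Units.val_pow_eq_pow_val, Units.val_one, pow_succ'] at h2
            exact h2))⟩, ?_⟩
      intro a b hab
      match a, b with
      | none, none => rfl
      | none, some l =>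
        exfalso
        have := congrArg Subtype.val hab
        exact l.1.ne_zero this.symm
      | some l, none =>
        exfalso
        have := congrArg Subtype.val hab
        exact l.1.ne_zero this
      | some l, some l' =>
        have := congrArg Subtype.val hab
        congr 1
        exact Subtype.ext (Units.ext this)
    have h2 := Nat.card_le_card_of_injective f hf
    have h3 : Nat.card (Option ↥(normOne F q)) = q + 2 := by
      rw [Nat.card_eq_fintype_card, Fintype.card_option, ← Nat.card_eq_fintype_card, h1]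
    omega
  have hpow := Module.natCard_eq_pow_finrank (K := ↥K) (V := F)
  have hfr : Module.finrank ↥K F = 1 := by
    by_contra hne
    have hpos : 0 < Module.finrank ↥K F := Module.finrank_pos
    have h2 : 2 ≤ Module.finrank ↥K F := by omega
    have h3 : (q + 2) ^ 2 ≤ Nat.card F := by
      rw [hpow]
      calc (q + 2) ^ 2 ≤ (Nat.card ↥K) ^ 2 := Nat.pow_le_pow_left hcardK 2
        _ ≤ (Nat.card ↥K) ^ (Module.finrank ↥K F) := Nat.pow_le_pow_right (by omega) h2
    rw [Nat.card_eq_fintype_card, hF] at h3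
    nlinarith
  ext a
  obtain ⟨c, hc⟩ := (finrank_eq_one_iff_of_nonzero' (1 : F) one_ne_zero).1 hfr a
  have ha : a = (c : F) := by
    rw [← hc]
    show c • (1 : F) = _
    rw [Subfield.smul_def, smul_eq_mul, mul_one]
  show τ a = a
  rw [ha]
  exact (hK _).1 c.2

/-- A non-trivial field automorphism of `PSU_n` is not inner-diagonal. -/
theorem eq_one_of_fieldUHom_mem_range (hF : Fintype.card F = q ^ 2) (hn : 3 ≤ n)
    (h32 : ¬ (n = 3 ∧ q = 2)) (τ : RingAut F)
    (h : (fieldUHom τ : MulAut (Cfsg.PSU n F q)) ∈ (conjUHom (n := n) (F := F) (q := q)).range) :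
    τ = 1 := by
  obtain ⟨g, hg⟩ := h
  have hperf := Cfsg.Agent.Lib.Helper5.PSUSimple.commutator_SU_eq_top hF hn h32
  have h1 : liftAutU (fieldSU (q := q) (n := n) τ) = liftAutU (conjSU g) := hg.symm
  apply eq_one_of_fix_normOne hF
  apply fix_normOne_of_intertwine hF hn τ g.1
  intro s
  have h2 := aut_eq_of_liftAutU_eq hperf _ _ h1 s
  have h3 := congrArg (fun s : ↥(Cfsg.SU n F q) => (s.1.1 : Matrix (Fin n) (Fin n) F)) h2
  have h4 : (s.1.1 : Matrix (Fin n) (Fin n) F).map τ =
      (g.1.1 : Matrix (Fin n) (Fin n) F) * s.1.1 * ((g.1⁻¹ : GL (Fin n) F).1) := h3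
  rw [h4, Matrix.mul_assoc, gl_inv_mul, Matrix.mul_one]

end nofield

end Cfsg.Agent.Lib.Helper25.PSUG
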