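import Cfsg.Agent.Lib.Helper25.PSUGraph7

set_option autoImplicit false

/-!
# Normal form of graph involutions of `PSU_n` and Lang's theorem for them
-/

namespace Cfsg.Agent.Lib.Helper25.PSUG

open Matrix Cfsg Cfsg.Agent.Lib.Helper18.PSLnAut Cfsg.Agent.Lib.Helper18.PSLnFld
  Cfsg.Agent.Lib.Helper25.GraphInv Cfsg.Agent.Lib.Helper25.InvTrans Cfsg.Agent.Lib.Helper14

section lang

variable {n : ℕ} {F : Type*} [Field F]

theorem glF_glF (ρ : RingAut F) (hρρ : ρ * ρ = 1) (g : GL (Fin n) F) :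
    glF ρ (glF ρ g) = g := by
  rw [← glF_mul, hρρ, glF_one]

/-- Hilbert 90 for `GL_n` and an involution: a cocycle is a coboundary. -/
theorem exists_lang (ρ : RingAut F) (hρo : orderOf ρ = 2) (g : GL (Fin n) F)
    (hg : g * glF ρ g = 1) : ∃ k : GL (Fin n) F, g = k * (glF ρ k)⁻¹ := by
  obtain ⟨k₀, hk₀u, hk₀⟩ := exists_matrix_fixed ρ 2 hρo (by norm_num)
    (fun i => ((cocyc ρ g i : GL (Fin n) F) : Matrix (Fin n) (Fin n) F))
    (by rw [cocyc_zero]; rfl)
    (by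
      intro i
      rw [cocyc_succ, cocyc_one, Units.val_mul, glF_coe])
    (by
      show ((cocyc ρ g (1 + 1) : GL (Fin n) F) : Matrix (Fin n) (Fin n) F) = 1
      rw [cocyc_succ, cocyc_one, hg]
      rfl)
  rw [cocyc_one] at hk₀
  refine ⟨hk₀u.unit, ?_⟩
  rw [eq_mul_inv_iff_mul_eq]
  apply Units.ext
  rw [Units.val_mul, glF_coe]
  exact hk₀

end lang

section form

variable {n : ℕ} {F : Type*} [Field F] [Fintype F] {q : ℕ}

/-- An involutory graph automorphism of `PSU_n` is an inner-diagonal automorphism times the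
standard involution. -/
theorem graph_involution_form (hF : Fintype.card F = q ^ 2) (hn : 3 ≤ n)
    (h32 : ¬ (n = 3 ∧ q = 2)) (ρ : RingAut F) (hρ : ∀ a, ρ a = a ^ q) (hρo : orderOf ρ = 2)
    (γ : MulAut (Cfsg.PSU n F q)) (hγ : Cfsg.IsGraphAutClassPSU γ) (hγ2 : orderOf γ = 2) :
    ∃ g : ↥(GUs n F q), γ = conjUHom g * fieldUHom ρ ∧
      ∃ c : Fˣ, ((g.1 * glF ρ g.1 : GL (Fin n) F) : Matrix (Fin n) (Fin n) F) =
        (c : F) • (1 : Matrix (Fin n) (Fin n) F) := by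
  obtain ⟨-, δ, φ, σ, hσe, hδ, hφ, rfl⟩ := hγ
  obtain ⟨g₁, -, rfl⟩ := (isInnerDiagonal_iff δ).1 hδ
  have hφ' := (isFieldAut_iff σ φ).1 hφ
  subst hφ'
  have hsq : ((conjUHom g₁ * fieldUHom (σ : RingAut F) : MulAut (Cfsg.PSU n F q))) ^ 2 = 1 := by
    rw [← hγ2]
    exact pow_orderOf_eq_one _
  have hexp : ∀ τ : RingAut F,
      ((conjUHom g₁ * fieldUHom τ : MulAut (Cfsg.PSU n F q))) ^ 2 =
      conjUHom (g₁ * glFU τ g₁) * fieldUHom (τ * τ) := by
    intro τ
    rw [pow_two, map_mul, map_mul]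
    calc (conjUHom g₁ * fieldUHom τ : MulAut (Cfsg.PSU n F q)) * (conjUHom g₁ * fieldUHom τ)
        = conjUHom g₁ * (fieldUHom τ * conjUHom g₁) * fieldUHom τ := by group
      _ = _ := by
        rw [field_mul_conjU]
        group
  have hσσ : (σ : RingAut F) * σ = 1 := by
    apply eq_one_of_fieldUHom_mem_range (n := n) hF hn h32
    refine ⟨(g₁ * glFU (σ : RingAut F) g₁)⁻¹, ?_⟩
    rw [hexp] at hsq
    rw [map_inv, inv_eq_iff_mul_eq_one]
    exact hsq
  have hσ2 : orderOf (σ : RingAut F) = 2 := by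
    have h1 : orderOf (σ : RingAut F) ∣ 2 := orderOf_dvd_of_pow_eq_one (by rw [pow_two]; exact hσσ)
    rcases (Nat.dvd_prime Nat.prime_two).1 h1 with h2 | h2
    · rw [h2] at hσe
      exact absurd hσe (by decide)
    · exact h2
  have hσρ : (σ : RingAut F) = ρ := by
    obtain ⟨p, hp⟩ : ∃ p, p = ringChar F := ⟨_, rfl⟩
    haveI : CharP F p := by rw [hp]; exact ringChar.charP F
    haveI hpf : Fact p.Prime := ⟨CharP.char_is_prime F p⟩
    haveI : Finite (RingAut F) := finite_ringAut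
    haveI : IsCyclic (RingAut F) := Cfsg.Agent.Lib.Helper18.PSL2Aut.ringAut_cyclic p
    exact involution_unique _ _ hσ2 hρo
  have hσρ' : σ = ρ := hσρ
  subst hσρ'
  refine ⟨g₁, rfl, ?_⟩
  rw [hexp, hσσ, map_one, mul_one] at hsq
  have hker : g₁ * glFU (σ : RingAut F) g₁ ∈ (conjUHom (n := n) (F := F) (q := q)).ker := hsq
  rw [ker_conjUHom hF hn h32, Subgroup.mem_subgroupOf, Geo.mem_scalars_iff] at hker
  exact hker

end form

end Cfsg.Agent.Lib.Helper25.PSUG
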