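import Cfsg.Agent.Lib.Helper25.PSUSplit1

set_option autoImplicit false

/-!
# Unitary matrices centralising a graph involution of `PSU_n`, with their determinants
-/

namespace Cfsg.Agent.Lib.Helper25.PSUG

open Matrix Cfsg Cfsg.Agent.Lib.Helper18.PSLnAut Cfsg.Agent.Lib.Helper18.PSLnFld
  Cfsg.Agent.Lib.Helper25.GraphInv Cfsg.Agent.Lib.Helper25.InvTrans Cfsg.Agent.Lib.Helper14

section gram

variable {n : ℕ} {F : Type*} [Field F]

/-- The Gram matrix of a conjugate, with the multiplier. -/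
theorem gram_conj_iff (ρ : RingAut F) (k y : GL (Fin n) F) (c : F) :
    ((k * y * k⁻¹ : GL (Fin n) F).1)ᵀ * ((k * y * k⁻¹ : GL (Fin n) F).1).map ρ =
        c • (1 : Matrix (Fin n) (Fin n) F) ↔
      (y.1)ᵀ * ((k.1)ᵀ * (k.1).map ρ) * (y.1).map ρ = c • ((k.1)ᵀ * (k.1).map ρ) := by
  have h1 : ((k * y * k⁻¹ : GL (Fin n) F).1)ᵀ * ((k * y * k⁻¹ : GL (Fin n) F).1).map ρ =
      ((k⁻¹ : GL (Fin n) F).1)ᵀ * ((y.1)ᵀ * ((k.1)ᵀ * (k.1).map ρ) * (y.1).map ρ) *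
        ((k⁻¹ : GL (Fin n) F).1).map ρ := by
    rw [Units.val_mul, Units.val_mul, Matrix.transpose_mul, Matrix.transpose_mul, Matrix.map_mul,
      Matrix.map_mul]
    simp only [Matrix.mul_assoc]
  rw [h1]
  constructor
  · intro hc
    calc (y.1)ᵀ * ((k.1)ᵀ * (k.1).map ρ) * (y.1).map ρ
        = ((k.1)ᵀ * ((k⁻¹ : GL (Fin n) F).1)ᵀ) *
            ((y.1)ᵀ * ((k.1)ᵀ * (k.1).map ρ) * (y.1).map ρ) *
            (((k⁻¹ : GL (Fin n) F).1).map ρ * (k.1).map ρ) := by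
          rw [tr_mul_tr_inv, map_inv_mul_map, Matrix.one_mul, Matrix.mul_one]
      _ = (k.1)ᵀ * (((k⁻¹ : GL (Fin n) F).1)ᵀ *
            ((y.1)ᵀ * ((k.1)ᵀ * (k.1).map ρ) * (y.1).map ρ) *
            ((k⁻¹ : GL (Fin n) F).1).map ρ) * (k.1).map ρ := by
          simp only [Matrix.mul_assoc]
      _ = c • ((k.1)ᵀ * (k.1).map ρ) := by
          rw [hc, Matrix.mul_smul, Matrix.mul_one, Matrix.smul_mul]
  · intro hc
    rw [hc, Matrix.mul_smul, Matrix.smul_mul]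
    congr 1
    calc ((k⁻¹ : GL (Fin n) F).1)ᵀ * ((k.1)ᵀ * (k.1).map ρ) * ((k⁻¹ : GL (Fin n) F).1).map ρ
        = (((k⁻¹ : GL (Fin n) F).1)ᵀ * (k.1)ᵀ) *
            ((k.1).map ρ * ((k⁻¹ : GL (Fin n) F).1).map ρ) := by
          simp only [Matrix.mul_assoc]
      _ = 1 := by rw [tr_inv_mul_tr, map_mul_map_inv, Matrix.one_mul]

theorem det_glMap {F₀ : Type*} [Field F₀] (ι : F₀ →+* F) (x₀ : GL (Fin n) F₀) :
    ((glMap ι x₀).1 : Matrix (Fin n) (Fin n) F).det = ι (x₀.1.det) := by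
  rw [glMap_coe, ← RingHom.mapMatrix_apply, ← RingHom.map_det]

theorem det_scalarGL_mul (ν : Fˣ) (u : GL (Fin n) F) :
    ((scalarGL ν * u : GL (Fin n) F).1 : Matrix (Fin n) (Fin n) F).det =
      (ν : F) ^ n * u.1.det := by
  rw [Units.val_mul, scalarGL_coe, Matrix.smul_mul, Matrix.one_mul, Matrix.det_smul,
    Fintype.card_fin]

theorem det_conj_gl (k y : GL (Fin n) F) :
    ((k * y * k⁻¹ : GL (Fin n) F).1 : Matrix (Fin n) (Fin n) F).det = y.1.det := by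
  rw [Units.val_mul, Units.val_mul]
  exact Matrix.det_units_conj k y.1

theorem glMap_fix {F₀ : Type*} [Field F₀] (ρ : RingAut F) (ι : F₀ →+* F)
    (hι' : ∀ b, ρ (ι b) = ι b) (x₀ : GL (Fin n) F₀) :
    ((glMap ι x₀).1 : Matrix (Fin n) (Fin n) F).map ρ = (glMap ι x₀).1 := by
  ext a b
  rw [Matrix.map_apply, glMap_coe, Matrix.map_apply]
  exact hι' _

theorem glMap_form {F₀ : Type*} [Field F₀] (ι : F₀ →+* F) (t : F) (A₀ x₀ : GL (Fin n) F₀) :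
    ((glMap ι x₀).1)ᵀ * (t • (A₀.1).map ι) * (glMap ι x₀).1 =
      t • ((x₀.1)ᵀ * A₀.1 * x₀.1).map ι := by
  rw [glMap_coe, Matrix.mul_smul, Matrix.smul_mul, Matrix.map_mul, Matrix.map_mul,
    Matrix.transpose_map]

theorem map_smul_hom {F₀ : Type*} [Field F₀] (ι : F₀ →+* F) (c : F₀)
    (M : Matrix (Fin n) (Fin n) F₀) : (c • M).map ι = ι c • M.map ι := by
  ext i j
  simp

end gram

section cent

variable {n : ℕ} {F : Type*} [Field F] [Fintype F] {F₀ : Type*} [Field F₀] {q : ℕ}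

omit [Fintype F] in
theorem mem_centralizer_iff_twist (ρ : RingAut F) (g h : ↥(GUs n F q)) :
    (conjUHom h : MulAut (Cfsg.PSU n F q)) ∈ Subgroup.centralizer
        {(conjUHom g * fieldUHom ρ : MulAut (Cfsg.PSU n F q))} ↔
      (conjUHom (h * g * (glFU ρ h)⁻¹) : MulAut (Cfsg.PSU n F q)) = conjUHom g := by
  rw [Subgroup.mem_centralizer_iff]
  constructor
  · intro hc
    have h1 := hc _ rfl
    have h2 := conj_conj_fieldU ρ g h
    rw [← h1, mul_inv_cancel_right] at h2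
    exact (mul_right_cancel h2).symm
  · intro hc y hy
    rw [Set.mem_singleton_iff] at hy
    subst hy
    have h2 := conj_conj_fieldU ρ g h
    rw [hc, mul_inv_eq_iff_eq_mul] at h2
    exact h2.symm

/-- A similitude centralising the graph involution is, up to a scalar, a matrix over the fixed
field in the coordinates given by `k`. -/
theorem exists_descent_of_centralizer (hF : Fintype.card F = q ^ 2) (hn : 3 ≤ n)
    (h32 : ¬ (n = 3 ∧ q = 2)) (ρ : RingAut F) (hρo : orderOf ρ = 2)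
    (ι : F₀ →+* F) (hι : ∀ a : F, ρ a = a ↔ a ∈ Set.range ι)
    (k : GL (Fin n) F) (g : ↥(GUs n F q)) (hg : g.1 = k * (glF ρ k)⁻¹) (h : ↥(GUs n F q))
    (hc : (conjUHom h : MulAut (Cfsg.PSU n F q)) ∈ Subgroup.centralizer
        {(conjUHom g * fieldUHom ρ : MulAut (Cfsg.PSU n F q))}) :
    ∃ (x₀ : GL (Fin n) F₀) (ν : Fˣ), k * glMap ι x₀ * k⁻¹ = scalarGL ν * h.1 := by
  have hn2 : 2 ≤ n := by omega
  rw [mem_centralizer_iff_twist] at hc
  have hker : h * g * (glFU ρ h)⁻¹ * g⁻¹ ∈ (conjUHom (n := n) (F := F) (q := q)).ker := by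
    rw [MonoidHom.mem_ker, map_mul, hc, map_inv, mul_inv_cancel]
  rw [ker_conjUHom hF hn h32, Subgroup.mem_subgroupOf, Geo.mem_scalars_iff] at hker
  obtain ⟨c, hc⟩ := hker
  obtain ⟨Z, hZ⟩ : ∃ Z : GL (Fin n) F, Z = h.1 * g.1 * (glF ρ h.1)⁻¹ * g.1⁻¹ := ⟨_, rfl⟩
  have hZc : (Z.1 : Matrix (Fin n) (Fin n) F) = (c : F) • (1 : Matrix (Fin n) (Fin n) F) := by
    rw [hZ]
    exact hc
  obtain ⟨y, hy⟩ : ∃ y : GL (Fin n) F, y = k⁻¹ * h.1 * k := ⟨_, rfl⟩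
  have e1 : y * (glF ρ y)⁻¹ = k⁻¹ * Z * k := by
    rw [hy, hZ, hg, map_mul, map_mul, map_inv]
    group
  rw [conj_scalar k Z c hZc] at e1
  have e2 : y = Z * glF ρ y := by
    rw [← e1]
    group
  have e3 : (y.1 : Matrix (Fin n) (Fin n) F) =
      (c : F) • (y.1 : Matrix (Fin n) (Fin n) F).map ρ := by
    conv_lhs => rw [e2]
    rw [Units.val_mul, hZc, glF_coe, Matrix.smul_mul, Matrix.one_mul]
  obtain ⟨x₀, ν, hν0, hx₀⟩ := exists_glMap_of_twisted ρ hρo ι hι hn2 y c e3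
  obtain ⟨νu, hνu⟩ : ∃ νu : Fˣ, (νu : F) = ν := ⟨Units.mk0 ν hν0, rfl⟩
  refine ⟨x₀, νu, ?_⟩
  apply Units.ext
  have hh : ((scalarGL νu * h.1 : GL (Fin n) F).1 : Matrix (Fin n) (Fin n) F) =
      ν • (h.1.1 : Matrix (Fin n) (Fin n) F) := by
    rw [Units.val_mul, scalarGL_coe, hνu, Matrix.smul_mul, Matrix.one_mul]
  rw [hh, Units.val_mul, Units.val_mul, hx₀, hy, Units.val_mul, Units.val_mul,
    Matrix.mul_smul, Matrix.smul_mul]
  congr 1
  calc (k.1 : Matrix (Fin n) (Fin n) F) * ((k⁻¹ : GL (Fin n) F).1 * h.1.1 * k.1) *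
        (k⁻¹ : GL (Fin n) F).1
      = ((k.1 : Matrix (Fin n) (Fin n) F) * (k⁻¹ : GL (Fin n) F).1) * h.1.1 *
        (k.1 * (k⁻¹ : GL (Fin n) F).1) := by simp only [Matrix.mul_assoc]
    _ = h.1.1 := by rw [gl_mul_inv, Matrix.one_mul, Matrix.mul_one]

omit [Fintype F] in
/-- Conversely such similitudes centralise the graph involution. -/
theorem centralizer_of_descent (ρ : RingAut F) (hρ : ∀ a, ρ a = a ^ q)
    (ι : F₀ →+* F) (hι' : ∀ b, ρ (ι b) = ι b)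
    (k : GL (Fin n) F) (g : ↥(GUs n F q)) (hg : g.1 = k * (glF ρ k)⁻¹) (h : ↥(GUs n F q))
    (x₀ : GL (Fin n) F₀) (ν : Fˣ) (he : k * glMap ι x₀ * k⁻¹ = scalarGL ν * h.1) :
    (conjUHom h : MulAut (Cfsg.PSU n F q)) ∈ Subgroup.centralizer
        {(conjUHom g * fieldUHom ρ : MulAut (Cfsg.PSU n F q))} := by
  have hmem : k * glMap ι x₀ * k⁻¹ ∈ GUs n F q := by
    rw [he]
    exact (GUs n F q).mul_mem (scalarGL_mem_GUs ρ hρ ν) h.2
  obtain ⟨h', hh'⟩ : ∃ h' : ↥(GUs n F q), h'.1 = k * glMap ι x₀ * k⁻¹ := ⟨⟨_, hmem⟩, rfl⟩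
  have h1 : (conjUHom h' : MulAut (Cfsg.PSU n F q)) = conjUHom h := by
    apply conjUHom_eq_of_smul h h' (ν : F) ν.ne_zero
    rw [hh', he, Units.val_mul, scalarGL_coe, Matrix.smul_mul, Matrix.one_mul]
  rw [← h1, mem_centralizer_iff_twist]
  congr 1
  apply Subtype.ext
  show h'.1 * g.1 * (glF ρ h'.1)⁻¹ = g.1
  rw [hh', hg, map_mul, map_mul, map_inv, glF_glMap ρ ι hι' x₀]
  group

/-- Unitary matrices centralising the graph involution come from similitudes of the form over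
the fixed field. -/
theorem exists_sim_of_centralizer (hF : Fintype.card F = q ^ 2) (hn : 3 ≤ n)
    (h32 : ¬ (n = 3 ∧ q = 2)) (ρ : RingAut F) (hρ : ∀ a, ρ a = a ^ q) (hρo : orderOf ρ = 2)
    (ι : F₀ →+* F) (hι : ∀ a : F, ρ a = a ↔ a ∈ Set.range ι)
    (k : GL (Fin n) F) (t : F) (ht : t ≠ 0) (A₀ : GL (Fin n) F₀)
    (hk : (k.1)ᵀ * (k.1).map ρ = t • (A₀.1).map ι)
    (g : ↥(GUs n F q)) (hg : g.1 = k * (glF ρ k)⁻¹) (u : ↥(Cfsg.GU n F q))
    (hu : (chiU u : MulAut (Cfsg.PSU n F q)) ∈ Subgroup.centralizer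
        {(conjUHom g * fieldUHom ρ : MulAut (Cfsg.PSU n F q))}) :
    ∃ (x₀ : GL (Fin n) F₀) (c₀ : F₀ˣ) (ν : Fˣ),
      (x₀.1)ᵀ * A₀.1 * x₀.1 = (c₀ : F₀) • A₀.1 ∧ (ν : F) * ρ (ν : F) = ι (c₀ : F₀) ∧
      ι (x₀.1.det) = (ν : F) ^ n * (u.1.1.det) := by
  have hρρ : ρ * ρ = 1 := by rw [← pow_two, ← hρo]; exact pow_orderOf_eq_one ρ
  have hρ2 : ∀ a, ρ (ρ a) = a := by
    intro a
    have := congrArg (fun τ : RingAut F => τ a) hρρ
    exact this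
  have hι' : ∀ b, ρ (ι b) = ι b := fun b => (hι _).2 ⟨b, rfl⟩
  obtain ⟨x₀, ν, he⟩ := exists_descent_of_centralizer hF hn h32 ρ hρo ι hι k g hg
    ⟨u.1, GU_le_GUs u.2⟩ hu
  have he' : k * glMap ι x₀ * k⁻¹ = scalarGL ν * u.1 := he
  have hU : (u.1.1)ᵀ * (u.1.1).map ρ = 1 := (mem_GU_iff_gram ρ q hρ u.1).1 u.2
  have hgram : ((k * glMap ι x₀ * k⁻¹ : GL (Fin n) F).1)ᵀ *
      ((k * glMap ι x₀ * k⁻¹ : GL (Fin n) F).1).map ρ =
      ((ν : F) * ρ (ν : F)) • (1 : Matrix (Fin n) (Fin n) F) := by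
    rw [he', Units.val_mul, scalarGL_coe, Matrix.smul_mul, Matrix.one_mul, Matrix.transpose_smul,
      map_smul_eq, Matrix.smul_mul, Matrix.mul_smul, hU, smul_smul]
  rw [gram_conj_iff, hk, glMap_fix ρ ι hι', glMap_form, smul_comm] at hgram
  have h3 : ((x₀.1)ᵀ * A₀.1 * x₀.1).map ι = ((ν : F) * ρ (ν : F)) • (A₀.1).map ι := by
    have h4 := congrArg (fun M => t⁻¹ • M) hgram
    simp only [smul_smul, inv_mul_cancel_left₀ ht, inv_mul_cancel₀ ht, one_smul] at h4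
    exact h4
  have hfixc : ρ ((ν : F) * ρ (ν : F)) = (ν : F) * ρ (ν : F) := by
    rw [map_mul, hρ2, mul_comm]
  obtain ⟨c, hc⟩ := (hι _).1 hfixc
  have hc0 : c ≠ 0 := by
    rintro rfl
    rw [map_zero] at hc
    exact (mul_ne_zero ν.ne_zero ((map_ne_zero ρ).2 ν.ne_zero)) hc.symm
  refine ⟨x₀, Units.mk0 c hc0, ν, ?_, hc.symm, ?_⟩
  · apply map_injective' ι
    rw [h3, Units.val_mk0, map_smul_hom, hc]
  · have h5 := congrArg (fun M : GL (Fin n) F => (M.1 : Matrix (Fin n) (Fin n) F).det) he'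
    simp only [det_conj_gl, det_glMap, det_scalarGL_mul] at h5
    exact h5

omit [Fintype F] in
/-- Conversely a similitude of the form over the fixed field together with a norm-root of its
multiplier gives a unitary matrix centralising the graph involution. -/
theorem exists_centralizer_of_sim (ρ : RingAut F) (hρ : ∀ a, ρ a = a ^ q)
    (ι : F₀ →+* F) (hι' : ∀ b, ρ (ι b) = ι b)
    (k : GL (Fin n) F) (t : F) (A₀ : GL (Fin n) F₀)
    (hk : (k.1)ᵀ * (k.1).map ρ = t • (A₀.1).map ι)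
    (g : ↥(GUs n F q)) (hg : g.1 = k * (glF ρ k)⁻¹)
    (x₀ : GL (Fin n) F₀) (c₀ : F₀ˣ) (ν : Fˣ)
    (hx : (x₀.1)ᵀ * A₀.1 * x₀.1 = (c₀ : F₀) • A₀.1)
    (hν : (ν : F) * ρ (ν : F) = ι (c₀ : F₀)) :
    ∃ u : ↥(Cfsg.GU n F q), (chiU u : MulAut (Cfsg.PSU n F q)) ∈ Subgroup.centralizer
        {(conjUHom g * fieldUHom ρ : MulAut (Cfsg.PSU n F q))} ∧
      ι (x₀.1.det) = (ν : F) ^ n * (u.1.1.det) := by
  have hgram : ((k * glMap ι x₀ * k⁻¹ : GL (Fin n) F).1)ᵀ *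
      ((k * glMap ι x₀ * k⁻¹ : GL (Fin n) F).1).map ρ =
      (ι (c₀ : F₀)) • (1 : Matrix (Fin n) (Fin n) F) := by
    rw [gram_conj_iff, hk, glMap_fix ρ ι hι', glMap_form, hx, map_smul_hom, smul_comm]
  obtain ⟨U, hU⟩ : ∃ U : GL (Fin n) F, U = scalarGL ν⁻¹ * (k * glMap ι x₀ * k⁻¹) := ⟨_, rfl⟩
  have he : k * glMap ι x₀ * k⁻¹ = scalarGL ν * U := by
    rw [hU, ← mul_assoc]
    have : (scalarGL ν : GL (Fin n) F) * scalarGL ν⁻¹ = 1 := by
      apply Units.ext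
      rw [Units.val_mul, scalarGL_coe, scalarGL_coe, Matrix.smul_mul, Matrix.one_mul, smul_smul,
        ← Units.val_mul, mul_inv_cancel, Units.val_one, one_smul]
      rfl
    rw [this, one_mul]
  have hUmem : U ∈ Cfsg.GU n F q := by
    rw [mem_GU_iff_gram ρ q hρ, hU, Units.val_mul, scalarGL_coe, Matrix.smul_mul, Matrix.one_mul,
      Matrix.transpose_smul, map_smul_eq, Matrix.smul_mul, Matrix.mul_smul, hgram, smul_smul,
      smul_smul]
    have h1 : ((ν⁻¹ : Fˣ) : F) * ρ ((ν⁻¹ : Fˣ) : F) * ι (c₀ : F₀) = 1 := by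
      rw [← hν, Units.val_inv_eq_inv_val, map_inv₀]
      have h2 : (ν : F) ≠ 0 := ν.ne_zero
      have h3 : ρ (ν : F) ≠ 0 := (map_ne_zero ρ).2 h2
      field_simp
    rw [h1, one_smul]
  refine ⟨⟨U, hUmem⟩, ?_, ?_⟩
  · exact centralizer_of_descent ρ hρ ι hι' k g hg ⟨U, GU_le_GUs hUmem⟩ x₀ ν he
  · have h5 := congrArg (fun M : GL (Fin n) F => (M.1 : Matrix (Fin n) (Fin n) F).det) he
    simp only [det_conj_gl, det_glMap, det_scalarGL_mul] at h5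
    exact h5

end cent

end Cfsg.Agent.Lib.Helper25.PSUG
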