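import Cfsg.Agent.Lib.Helper25.PSUSplit2

set_option autoImplicit false

/-!
# The subgroup of determinants attached to a graph involution of `PSU_n`
-/

namespace Cfsg.Agent.Lib.Helper25.PSUG

open Matrix Cfsg Cfsg.Agent.Lib.Helper18.PSLnAut Cfsg.Agent.Lib.Helper18.PSLnFld
  Cfsg.Agent.Lib.Helper25.GraphInv Cfsg.Agent.Lib.Helper25.InvTrans Cfsg.Agent.Lib.Helper14

section alt

variable {n m : ℕ} {F : Type*} [Field F]

/-- The determinant of a similarity of an alternating matrix of size `2m` is the `m`-th power of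
the multiplier. -/
theorem det_of_sim_alt (hnm : n = 2 * m) (M : GL (Fin n) F)
    (halt : ∀ v, v ⬝ᵥ M.1 *ᵥ v = 0) (h : GL (Fin n) F) (c : Fˣ)
    (hc : (h.1)ᵀ * M.1 * h.1 = (c : F) • M.1) : h.1.det = (c : F) ^ m := by
  obtain ⟨P, P', h1, h1', hM⟩ := exists_canon_even_alt hnm M.1
    (Matrix.GeneralLinearGroup.det_ne_zero M) halt
  rw [hM] at hc
  have hg := (congr_transport P P' h1 h1' (Matrix.J (Fin m) F) h.1 (c : F)).2 hc
  have hdg : (P * h.1 * P').det = h.1.det := Matrix.det_conj_of_mul_eq_one h1 h1'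
  have hs : (P * h.1 * P' * ddM m ((c⁻¹ : Fˣ) : F)) ∈ Matrix.symplecticGroup (Fin m) F := by
    rw [SymplecticGroup.mem_iff', Matrix.transpose_mul]
    calc (ddM m ((c⁻¹ : Fˣ) : F))ᵀ * (P * h.1 * P')ᵀ * Matrix.J (Fin m) F *
          (P * h.1 * P' * ddM m ((c⁻¹ : Fˣ) : F))
        = (ddM m ((c⁻¹ : Fˣ) : F))ᵀ * ((P * h.1 * P')ᵀ * Matrix.J (Fin m) F * (P * h.1 * P')) *
          ddM m ((c⁻¹ : Fˣ) : F) := by simp only [Matrix.mul_assoc]
      _ = Matrix.J (Fin m) F := by
        rw [hg, Matrix.mul_smul, Matrix.smul_mul, ddM_J, smul_smul, ← Units.val_mul,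
          mul_inv_cancel, Units.val_one, one_smul]
  have hdet := SymplecticGroup.det_eq_one hs
  rw [Matrix.det_mul, hdg, det_ddM] at hdet
  have hc0 : (((c⁻¹ : Fˣ) : F)) ^ m ≠ 0 := pow_ne_zero _ (Units.ne_zero _)
  apply mul_right_cancel₀ hc0
  rw [hdet, ← mul_pow, ← Units.val_mul, mul_inv_cancel, Units.val_one, one_pow]

/-- Similarities of an alternating matrix with every multiplier. -/
theorem exists_sim_alt (hnm : n = 2 * m) (M : GL (Fin n) F)
    (halt : ∀ v, v ⬝ᵥ M.1 *ᵥ v = 0) (e : Fˣ) :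
    ∃ h : GL (Fin n) F, (h.1)ᵀ * M.1 * h.1 = (e : F) • M.1 := by
  obtain ⟨P, P', h1, h1', hM⟩ := exists_canon_even_alt hnm M.1
    (Matrix.GeneralLinearGroup.det_ne_zero M) halt
  have hmul : ∀ a b : F, a * b = 1 →
      (P' * ddM m a * P) * (P' * ddM m b * P) = 1 := by
    intro a b hab
    calc (P' * ddM m a * P) * (P' * ddM m b * P)
        = P' * (ddM m a * ((P * P') * (ddM m b * P))) := by simp only [Matrix.mul_assoc]
      _ = 1 := by
        rw [h1, Matrix.one_mul, ← Matrix.mul_assoc (ddM m a), ddM_mul, hab, ddM_one,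
          Matrix.one_mul, h1']
  obtain ⟨h, hh⟩ : ∃ h : GL (Fin n) F, h.1 = P' * ddM m (e : F) * P :=
    ⟨⟨P' * ddM m (e : F) * P, P' * ddM m ((e⁻¹ : Fˣ) : F) * P,
      hmul _ _ (by rw [← Units.val_mul, mul_inv_cancel, Units.val_one]),
      hmul _ _ (by rw [← Units.val_mul, inv_mul_cancel, Units.val_one])⟩, rfl⟩
  have hPhP : P * h.1 * P' = ddM m (e : F) := by
    rw [hh]
    calc P * (P' * ddM m (e : F) * P) * P' = (P * P') * ddM m (e : F) * (P * P') := by
          simp only [Matrix.mul_assoc]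
      _ = ddM m (e : F) := by rw [h1, Matrix.one_mul, Matrix.mul_one]
  refine ⟨h, ?_⟩
  rw [hM]
  apply (congr_transport P P' h1 h1' (Matrix.J (Fin m) F) h.1 (e : F)).1
  rw [hPhP, ddM_J]

end alt

section index

variable {G : Type*} [CommGroup G] [Finite G] [IsCyclic G]

/-- The index of `⟨z⟩ G^m` in a finite cyclic group, `z` an involution. -/
theorem index_zpowers_sup (z : G) (hz : orderOf z = 2) (m : ℕ) :
    (Subgroup.zpowers z ⊔ (powMonoidHom m : G →* G).range).index =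
      Nat.gcd (Nat.card G / 2) m := by
  have hcz : Nat.card (Subgroup.zpowers z) = 2 := by
    rw [Nat.card_zpowers, hz]
  have hdvd : 2 ∣ Nat.card G := by
    rw [← hcz]
    exact Subgroup.card_subgroup_dvd_card _
  have hcard : Nat.card G = Nat.card G / 2 * Nat.card (Subgroup.zpowers z) := by
    rw [hcz, Nat.div_mul_cancel hdvd]
  rw [eq_range_pow_of_card (Subgroup.zpowers z) _ hcard, range_pow_sup]
  apply index_range_pow
  apply (Nat.gcd_dvd_left _ _).trans
  exact Nat.div_dvd_of_dvd hdvd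

end index

end Cfsg.Agent.Lib.Helper25.PSUG
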