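import Cfsg.Agent.Lib.Helper25.PSUSplit3

set_option autoImplicit false

/-!
# The subgroup of determinants attached to a graph involution of `PSU_n`: the three cases
-/

namespace Cfsg.Agent.Lib.Helper25.PSUG

open Matrix Cfsg Cfsg.Agent.Lib.Helper18.PSLnAut Cfsg.Agent.Lib.Helper18.PSLnFld
  Cfsg.Agent.Lib.Helper25.GraphInv Cfsg.Agent.Lib.Helper25.InvTrans Cfsg.Agent.Lib.Helper14

section basic

variable {n : ℕ} {F : Type*} [Field F] {q : ℕ}

theorem mem_normOne_of (ρ : RingAut F) (hρ : ∀ a, ρ a = a ^ q) (w : Fˣ)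
    (h : (w : F) * ρ (w : F) = 1) : w ∈ normOne F q := by
  rw [mem_normOne]
  apply Units.ext
  rw [Units.val_pow_eq_pow_val, Units.val_one, pow_succ', ← hρ]
  exact h

theorem normOne_mul (ρ : RingAut F) (hρ : ∀ a, ρ a = a ^ q) (w : ↥(normOne F q)) :
    ((w.1 : Fˣ) : F) * ρ ((w.1 : Fˣ) : F) = 1 := by
  have h1 := (mem_normOne w.1).1 w.2
  have h2 := congrArg Units.val h1
  rw [Units.val_pow_eq_pow_val, Units.val_one, pow_succ', ← hρ] at h2
  exact h2

theorem alg_pos (a b D : F) (m : ℕ) (ha : a ≠ 0) (h : (a * b) ^ m = a ^ m * a ^ m * D) :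
    D = (b / a) ^ m := by
  have ham : a ^ m ≠ 0 := pow_ne_zero _ ha
  rw [div_pow, eq_div_iff ham]
  apply mul_left_cancel₀ ham
  rw [mul_pow] at h
  linear_combination (-1 : F) * h

theorem alg_neg (a b D : F) (m : ℕ) (ha : a ≠ 0) (h : -(a * b) ^ m = a ^ m * a ^ m * D) :
    D = -1 * (b / a) ^ m := by
  have ham : a ^ m ≠ 0 := pow_ne_zero _ ha
  have h1 : -D = (b / a) ^ m := by
    rw [div_pow, eq_div_iff ham]
    apply mul_left_cancel₀ ham
    rw [mul_pow] at h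
    linear_combination h
  rw [← h1]
  ring

variable [Fintype F]

theorem detN_eq_of (hF : Fintype.card F = q ^ 2) (u : ↥(Cfsg.GU n F q)) (w : ↥(normOne F q))
    (j : ℕ) (h : (u.1.1 : Matrix (Fin n) (Fin n) F).det = ((w.1 : Fˣ) : F) ^ j) :
    detN hF u = w ^ j := by
  apply Subtype.ext
  apply Units.ext
  rw [detN_coe, Subgroup.coe_pow, Units.val_pow_eq_pow_val, ← h]
  rfl

theorem detN_eq_mul_of (hF : Fintype.card F = q ^ 2) (u : ↥(Cfsg.GU n F q))
    (z w : ↥(normOne F q)) (j : ℕ)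
    (h : (u.1.1 : Matrix (Fin n) (Fin n) F).det = ((z.1 : Fˣ) : F) * ((w.1 : Fˣ) : F) ^ j) :
    detN hF u = z * w ^ j := by
  apply Subtype.ext
  apply Units.ext
  rw [detN_coe, Subgroup.coe_mul, Subgroup.coe_pow, Units.val_mul, Units.val_pow_eq_pow_val, ← h]
  rfl

end basic

section cases

variable {n : ℕ} {F : Type*} [Field F] [Fintype F] {F₀ : Type*} [Field F₀] {q : ℕ}

/-- If the determinant of every similarity is the `n`-th power of a square root of the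
multiplier, the determinants of the centraliser are `n`-th powers. -/
theorem detSubU_eq_of_root (hF : Fintype.card F = q ^ 2) (hn : 3 ≤ n)
    (h32 : ¬ (n = 3 ∧ q = 2)) (ρ : RingAut F) (hρ : ∀ a, ρ a = a ^ q) (hρo : orderOf ρ = 2)
    (ι : F₀ →+* F) (hι : ∀ a : F, ρ a = a ↔ a ∈ Set.range ι)
    {γ : MulAut (Cfsg.PSU n F q)} {A₀ : GL (Fin n) F₀} (h : HasDatum ρ ι γ A₀)
    (hroot : ∀ (x₀ : GL (Fin n) F₀) (c₀ : F₀ˣ), (x₀.1)ᵀ * A₀.1 * x₀.1 = (c₀ : F₀) • A₀.1 →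
      ∃ r : F₀, r * r = c₀ ∧ r ^ n = x₀.1.det) :
    detSubU hF γ = (powMonoidHom n : ↥(normOne F q) →* ↥(normOne F q)).range := by
  obtain ⟨k, t, g, ht, hk, hg, rfl⟩ := h
  have hι' : ∀ b, ρ (ι b) = ι b := fun b => (hι _).2 ⟨b, rfl⟩
  unfold detSubU
  rw [sup_eq_left]
  rintro _ ⟨u, hu, rfl⟩
  have hu' : (chiU u : MulAut (Cfsg.PSU n F q)) ∈ Subgroup.centralizer
      {(conjUHom g * fieldUHom ρ : MulAut (Cfsg.PSU n F q))} := hu
  obtain ⟨x₀, c₀, ν, hx, hν, hdet⟩ := exists_sim_of_centralizer hF hn h32 ρ hρ hρo ι hι k t ht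
    A₀ hk g hg u hu'
  obtain ⟨r, hr, hrn⟩ := hroot x₀ c₀ hx
  have hν0 : (ν : F) ≠ 0 := ν.ne_zero
  have hρν0 : ρ (ν : F) ≠ 0 := (map_ne_zero ρ).2 hν0
  have hr0 : ι r ≠ 0 := by
    intro h0
    have h1 : ι (r * r) = 0 := by rw [map_mul, h0, zero_mul]
    rw [hr, ← hν] at h1
    exact (mul_ne_zero hν0 hρν0) h1
  obtain ⟨w, hw⟩ : ∃ w : Fˣ, (w : F) = ι r / (ν : F) :=
    ⟨Units.mk0 _ (div_ne_zero hr0 hν0), rfl⟩
  have hwN : w ∈ normOne F q := by
    apply mem_normOne_of ρ hρ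
    rw [hw, map_div₀, hι', div_mul_div_comm, ← map_mul, hr, hν]
    exact div_self (by rw [← hν]; exact mul_ne_zero hν0 hρν0)
  refine ⟨⟨w, hwN⟩, ?_⟩
  symm
  apply detN_eq_of hF u ⟨w, hwN⟩ n
  show _ = (w : F) ^ n
  rw [hw, div_pow, ← map_pow, hrn, hdet]
  field_simp

/-- The alternating case: the determinants of the centraliser are the `m`-th powers. -/
theorem detSubU_eq_of_alt (hF : Fintype.card F = q ^ 2) (hn : 3 ≤ n)
    (h32 : ¬ (n = 3 ∧ q = 2)) (ρ : RingAut F) (hρ : ∀ a, ρ a = a ^ q) (hρo : orderOf ρ = 2)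
    (ι : F₀ →+* F) (hι : ∀ a : F, ρ a = a ↔ a ∈ Set.range ι)
    {γ : MulAut (Cfsg.PSU n F q)} {A₀ : GL (Fin n) F₀} (h : HasDatum ρ ι γ A₀)
    {m : ℕ} (hnm : n = 2 * m) (halt : ∀ v, v ⬝ᵥ A₀.1 *ᵥ v = 0) :
    detSubU hF γ = (powMonoidHom m : ↥(normOne F q) →* ↥(normOne F q)).range := by
  obtain ⟨k, t, g, ht, hk, hg, rfl⟩ := h
  have hρρ : ρ * ρ = 1 := by rw [← pow_two, ← hρo]; exact pow_orderOf_eq_one ρ
  have hρ2 : ∀ a, ρ (ρ a) = a := by
    intro a
    have := congrArg (fun τ : RingAut F => τ a) hρρ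
    exact this
  have hι' : ∀ b, ρ (ι b) = ι b := fun b => (hι _).2 ⟨b, rfl⟩
  apply le_antisymm
  · unfold detSubU
    rw [sup_le_iff]
    constructor
    · rintro _ ⟨w, rfl⟩
      refine ⟨w ^ 2, ?_⟩
      show (w ^ 2) ^ m = w ^ n
      rw [← pow_mul, hnm]
    · rintro _ ⟨u, hu, rfl⟩
      have hu' : (chiU u : MulAut (Cfsg.PSU n F q)) ∈ Subgroup.centralizer
          {(conjUHom g * fieldUHom ρ : MulAut (Cfsg.PSU n F q))} := hu
      obtain ⟨x₀, c₀, ν, hx, hν, hdet⟩ := exists_sim_of_centralizer hF hn h32 ρ hρ hρo ι hι k t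
        ht A₀ hk g hg u hu'
      have hdx := det_of_sim_alt hnm A₀ halt x₀ c₀ hx
      have hν0 : (ν : F) ≠ 0 := ν.ne_zero
      have hρν0 : ρ (ν : F) ≠ 0 := (map_ne_zero ρ).2 hν0
      obtain ⟨w, hw⟩ : ∃ w : Fˣ, (w : F) = ρ (ν : F) / (ν : F) :=
        ⟨Units.mk0 _ (div_ne_zero hρν0 hν0), rfl⟩
      have hwN : w ∈ normOne F q := by
        apply mem_normOne_of ρ hρ
        rw [hw, map_div₀, hρ2]
        field_simp
      refine ⟨⟨w, hwN⟩, ?_⟩
      symm
      apply detN_eq_of hF u ⟨w, hwN⟩ m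
      show _ = (w : F) ^ m
      have hnn : (ν : F) ^ n = (ν : F) ^ m * (ν : F) ^ m := by rw [← pow_add, hnm, two_mul]
      have h7 : ((ν : F) * ρ (ν : F)) ^ m = (ν : F) ^ m * (ν : F) ^ m * u.1.1.det := by
        rw [hν, ← map_pow, ← hdx, hdet, hnn]
      rw [hw]
      exact alg_pos _ _ _ m hν0 h7
  · rintro _ ⟨w, rfl⟩
    unfold detSubU
    apply Subgroup.mem_sup_right
    have hw1 := normOne_mul ρ hρ w
    have hnrm : nrm ρ ((w.1 : Fˣ) : F) 2 = 1 := by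
      unfold nrm
      simp [Finset.prod_range_succ]
      exact hw1
    obtain ⟨μ, hμ0, hμ⟩ := exists_fixed_of_nrm_eq_one ρ 2 hρo (by norm_num) _ hnrm
    have hρμ0 : ρ μ ≠ 0 := (map_ne_zero ρ).2 hμ0
    have hfixc : ρ (μ * ρ μ) = μ * ρ μ := by rw [map_mul, hρ2, mul_comm]
    obtain ⟨c, hc⟩ := (hι _).1 hfixc
    have hc0 : c ≠ 0 := by
      rintro rfl
      rw [map_zero] at hc
      exact (mul_ne_zero hμ0 hρμ0) hc.symm
    obtain ⟨x₀, hx⟩ := exists_sim_alt hnm A₀ halt (Units.mk0 c hc0)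
    have hdx := det_of_sim_alt hnm A₀ halt x₀ (Units.mk0 c hc0) hx
    obtain ⟨u, hu, hdet⟩ := exists_centralizer_of_sim (q := q) ρ hρ ι hι' k t A₀ hk g hg x₀
      (Units.mk0 c hc0) (Units.mk0 (ρ μ) hρμ0) hx (by
        rw [Units.val_mk0, Units.val_mk0, hρ2, hc, mul_comm])
    refine ⟨u, hu, ?_⟩
    apply detN_eq_of hF u w m
    rw [Units.val_mk0] at hdx
    rw [Units.val_mk0] at hdet
    have hnn : (ρ μ) ^ n = (ρ μ) ^ m * (ρ μ) ^ m := by rw [← pow_add, hnm, two_mul]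
    have h7 : (ρ μ * μ) ^ m = (ρ μ) ^ m * (ρ μ) ^ m * u.1.1.det := by
      rw [mul_comm, ← hc, ← map_pow, ← hdx, hdet, hnn]
    have hwe : ((w.1 : Fˣ) : F) = μ / ρ μ := by
      rw [eq_div_iff hρμ0]
      exact hμ
    rw [hwe]
    exact alg_pos _ _ _ m hρμ0 h7

/-- The symmetric case in even dimension and odd characteristic. -/
theorem detSubU_eq_of_sym (hF : Fintype.card F = q ^ 2) (hn : 3 ≤ n)
    (h32 : ¬ (n = 3 ∧ q = 2)) (ρ : RingAut F) (hρ : ∀ a, ρ a = a ^ q) (hρo : orderOf ρ = 2)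
    (ι : F₀ →+* F) (hι : ∀ a : F, ρ a = a ↔ a ∈ Set.range ι) [Finite F₀]
    {γ : MulAut (Cfsg.PSU n F q)} {A₀ : GL (Fin n) F₀} (h : HasDatum ρ ι γ A₀)
    (h2 : (2 : F₀) ≠ 0) {m : ℕ} (hnm : n = 2 * m) (hsym : (A₀.1)ᵀ = A₀.1)
    (z : ↥(normOne F q)) (hz : ((z.1 : Fˣ) : F) = -1) :
    detSubU hF γ = Subgroup.zpowers z ⊔
      (powMonoidHom m : ↥(normOne F q) →* ↥(normOne F q)).range := by
  obtain ⟨k, t, g, ht, hk, hg, rfl⟩ := h
  have hn0 : 0 < n := by omega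
  have hρρ : ρ * ρ = 1 := by rw [← pow_two, ← hρo]; exact pow_orderOf_eq_one ρ
  have hρ2 : ∀ a, ρ (ρ a) = a := by
    intro a
    have := congrArg (fun τ : RingAut F => τ a) hρρ
    exact this
  have hι' : ∀ b, ρ (ι b) = ι b := fun b => (hι _).2 ⟨b, rfl⟩
  have hdA : A₀.1.det ≠ 0 := Matrix.GeneralLinearGroup.det_ne_zero A₀
  -- the element `z` is a determinant
  have hzmem : z ∈ ((Subgroup.centralizer
      {(conjUHom g * fieldUHom ρ : MulAut (Cfsg.PSU n F q))}).comap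
        (chiU (n := n) (F := F) (q := q))).map (detN hF) := by
    obtain ⟨r, hr1, hr2⟩ := exists_isometry_det_neg_one h2 hn0 A₀ hsym
    have hr3 : r.1.det = -1 := by
      have := congrArg Units.val hr2
      rwa [Units.val_neg, Units.val_one] at this
    obtain ⟨u, hu, hdet⟩ := exists_centralizer_of_sim (q := q) ρ hρ ι hι' k t A₀ hk g hg r
      1 1 (by rw [hr1, Units.val_one, one_smul]) (by
        rw [Units.val_one, Units.val_one, map_one, map_one, mul_one])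
    refine ⟨u, hu, ?_⟩
    have h3 := detN_eq_of hF u z 1 (by
      rw [hr3, Units.val_one, one_pow, one_mul, map_neg, map_one] at hdet
      rw [pow_one, hz, hdet])
    rw [h3, pow_one]
  apply le_antisymm
  · unfold detSubU
    rw [sup_le_iff]
    constructor
    · rintro _ ⟨w, rfl⟩
      apply Subgroup.mem_sup_right
      refine ⟨w ^ 2, ?_⟩
      show (w ^ 2) ^ m = w ^ n
      rw [← pow_mul, hnm]
    · rintro _ ⟨u, hu, rfl⟩
      have hu' : (chiU u : MulAut (Cfsg.PSU n F q)) ∈ Subgroup.centralizer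
          {(conjUHom g * fieldUHom ρ : MulAut (Cfsg.PSU n F q))} := hu
      obtain ⟨x₀, c₀, ν, hx, hν, hdet⟩ := exists_sim_of_centralizer hF hn h32 ρ hρ hρo ι hι k t
        ht A₀ hk g hg u hu'
      have h1 := det_mul_self_of_sim A₀ x₀ c₀ hx
      have h3 : x₀.1.det * x₀.1.det = ((c₀ : F₀) ^ m) * ((c₀ : F₀) ^ m) := by
        rw [h1, ← pow_add, hnm, two_mul]
      have hν0 : (ν : F) ≠ 0 := ν.ne_zero
      have hρν0 : ρ (ν : F) ≠ 0 := (map_ne_zero ρ).2 hν0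
      obtain ⟨w, hw⟩ : ∃ w : Fˣ, (w : F) = ρ (ν : F) / (ν : F) :=
        ⟨Units.mk0 _ (div_ne_zero hρν0 hν0), rfl⟩
      have hwN : w ∈ normOne F q := by
        apply mem_normOne_of ρ hρ
        rw [hw, map_div₀, hρ2]
        field_simp
      have hnn : (ν : F) ^ n = (ν : F) ^ m * (ν : F) ^ m := by rw [← pow_add, hnm, two_mul]
      rcases mul_self_eq_mul_self_iff.1 h3 with h4 | h4
      · apply Subgroup.mem_sup_right
        refine ⟨⟨w, hwN⟩, ?_⟩
        symm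
        apply detN_eq_of hF u ⟨w, hwN⟩ m
        show _ = (w : F) ^ m
        have h7 : ((ν : F) * ρ (ν : F)) ^ m = (ν : F) ^ m * (ν : F) ^ m * u.1.1.det := by
          rw [hν, ← map_pow, ← h4, hdet, hnn]
        rw [hw]
        exact alg_pos _ _ _ m hν0 h7
      · have h5 : detN hF u = z * (⟨w, hwN⟩ : ↥(normOne F q)) ^ m := by
          apply detN_eq_mul_of hF u z ⟨w, hwN⟩ m
          show _ = ((z.1 : Fˣ) : F) * (w : F) ^ m
          have h7 : -((ν : F) * ρ (ν : F)) ^ m = (ν : F) ^ m * (ν : F) ^ m * u.1.1.det := by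
            rw [hν, ← map_pow, ← map_neg, ← h4, hdet, hnn]
          rw [hz, hw]
          exact alg_neg _ _ _ m hν0 h7
        rw [h5]
        exact Subgroup.mul_mem _ (Subgroup.mem_sup_left (Subgroup.mem_zpowers _))
          (Subgroup.mem_sup_right ⟨_, rfl⟩)
  · rw [sup_le_iff]
    constructor
    · rw [Subgroup.zpowers_le]
      unfold detSubU
      exact Subgroup.mem_sup_right hzmem
    · rintro _ ⟨w, rfl⟩
      unfold detSubU
      apply Subgroup.mem_sup_right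
      have hw1 := normOne_mul ρ hρ w
      have hnrm : nrm ρ ((w.1 : Fˣ) : F) 2 = 1 := by
        unfold nrm
        simp [Finset.prod_range_succ]
        exact hw1
      obtain ⟨μ, hμ0, hμ⟩ := exists_fixed_of_nrm_eq_one ρ 2 hρo (by norm_num) _ hnrm
      have hρμ0 : ρ μ ≠ 0 := (map_ne_zero ρ).2 hμ0
      have hfixc : ρ (μ * ρ μ) = μ * ρ μ := by rw [map_mul, hρ2, mul_comm]
      obtain ⟨c, hc⟩ := (hι _).1 hfixc
      have hc0 : c ≠ 0 := by
        rintro rfl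
        rw [map_zero] at hc
        exact (mul_ne_zero hμ0 hρμ0) hc.symm
      have hMe : ((c • A₀.1 : Matrix (Fin n) (Fin n) F₀))ᵀ = c • A₀.1 := by
        rw [Matrix.transpose_smul, hsym]
      have hde : (c • A₀.1 : Matrix (Fin n) (Fin n) F₀).det = c ^ n * A₀.1.det := by
        rw [Matrix.det_smul, Fintype.card_fin]
      have hen : c ^ n = c ^ m * c ^ m := by rw [← pow_add, hnm, two_mul]
      obtain ⟨x₀, hx⟩ := exists_congr_of_disc h2 (c • A₀.1) A₀.1 hMe hsym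
        (by rw [hde]; exact mul_ne_zero (pow_ne_zero _ hc0) hdA) hdA
        ⟨c ^ m * A₀.1.det, by rw [hde, hen]; ring⟩
      have hx' : (x₀.1)ᵀ * A₀.1 * x₀.1 = ((Units.mk0 c hc0 : F₀ˣ) : F₀) • A₀.1 := by
        rw [hx, Units.val_mk0]
      have h1 := det_mul_self_of_sim A₀ x₀ (Units.mk0 c hc0) hx'
      rw [Units.val_mk0] at h1
      have h3 : x₀.1.det * x₀.1.det = (c ^ m) * (c ^ m) := by
        rw [h1, hen]
      obtain ⟨u, hu, hdet⟩ := exists_centralizer_of_sim (q := q) ρ hρ ι hι' k t A₀ hk g hg x₀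
        (Units.mk0 c hc0) (Units.mk0 (ρ μ) hρμ0) hx' (by
          rw [Units.val_mk0, Units.val_mk0, hρ2, hc, mul_comm])
      rw [Units.val_mk0] at hdet
      have hnn : (ρ μ) ^ n = (ρ μ) ^ m * (ρ μ) ^ m := by rw [← pow_add, hnm, two_mul]
      have hwe : ((w.1 : Fˣ) : F) = μ / ρ μ := by
        rw [eq_div_iff hρμ0]
        exact hμ
      rcases mul_self_eq_mul_self_iff.1 h3 with h4 | h4
      · refine ⟨u, hu, ?_⟩
        apply detN_eq_of hF u w m
        have h7 : (ρ μ * μ) ^ m = (ρ μ) ^ m * (ρ μ) ^ m * u.1.1.det := by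
          rw [mul_comm, ← hc, ← map_pow, ← h4, hdet, hnn]
        rw [hwe]
        exact alg_pos _ _ _ m hρμ0 h7
      · have h5 : detN hF u = z * w ^ m := by
          apply detN_eq_mul_of hF u z w m
          have h7 : -(ρ μ * μ) ^ m = (ρ μ) ^ m * (ρ μ) ^ m * u.1.1.det := by
            rw [mul_comm, ← hc, ← map_pow, ← map_neg, ← h4, hdet, hnn]
          rw [hz, hwe]
          exact alg_neg _ _ _ m hρμ0 h7
        have h6 : w ^ m = z⁻¹ * detN hF u := by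
          rw [h5, inv_mul_cancel_left]
        have : (powMonoidHom m : ↥(normOne F q) →* ↥(normOne F q)) w = z⁻¹ * detN hF u := h6
        rw [this]
        exact Subgroup.mul_mem _ (Subgroup.inv_mem _ hzmem) ⟨u, hu, rfl⟩

end cases

end Cfsg.Agent.Lib.Helper25.PSUG
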