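import Mathlib
import Cfsg.Prelude.Def_RootSubgroups
import Cfsg.Agent.Lib.Helper25.RankOneNormal

set_option autoImplicit false

namespace Cfsg.Agent.Lib.Helper25

open Cfsg

section Quad

variable {X V : Type*} [Group X] [AddCommGroup V] [DistribMulAction X V]

/-- The representation of `X` on the additive group `V`, as a homomorphism into the ring of
additive endomorphisms. -/
noncomputable abbrev rho (X V : Type*) [Group X] [AddCommGroup V] [DistribMulAction X V] :
    X →* AddMonoid.End V := DistribMulAction.toAddMonoidEnd X V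

theorem rho_apply (x : X) (v : V) : rho X V x v = x • v := rfl

theorem rho_injective (hf : ∀ x : X, (∀ v : V, x • v = v) → x = 1) :
    Function.Injective (rho X V) := by
  rw [injective_iff_map_eq_one]
  intro x hx
  apply hf
  intro v
  have := DFunLike.congr_fun hx v
  exact this

/-- `A` acts quadratically, in ring form. -/
def QuadOn (A : Subgroup X) (V : Type*) [AddCommGroup V] [DistribMulAction X V] : Prop :=
  ∀ a ∈ A, ∀ a' ∈ A, (rho X V a' - 1) * (rho X V a - 1) = 0

theorem quadOn_of_smul {A : Subgroup X}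
    (hq : ∀ a ∈ A, ∀ a' ∈ A, ∀ v : V, a' • (a • v - v) = a • v - v) : QuadOn A V := by
  intro a ha a' ha'
  ext v
  have := hq a ha a' ha' v
  change a' • (a • v - v) - (a • v - v) = 0
  rw [this, sub_self]

theorem rho_conj (g a : X) : rho X V (g * a * g⁻¹) - 1 = rho X V g * (rho X V a - 1) * rho X V g⁻¹ := by
  have h1 : rho X V g * rho X V g⁻¹ = 1 := by rw [← map_mul, mul_inv_cancel, map_one]
  rw [map_mul, map_mul, mul_sub, sub_mul, mul_one, h1]

theorem quadOn_conj {A : Subgroup X} (hA : QuadOn A V) (g : X) : QuadOn (conjBy A g) V := by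
  intro x hx x' hx'
  rw [mem_conjBy] at hx hx'
  have e : x = g * (g⁻¹ * x * g) * g⁻¹ := by group
  have e' : x' = g * (g⁻¹ * x' * g) * g⁻¹ := by group
  rw [e, e', rho_conj, rho_conj]
  have h1 : rho X V g⁻¹ * rho X V g = 1 := by rw [← map_mul, inv_mul_cancel, map_one]
  have h2 := hA _ hx _ hx'
  calc rho X V g * (rho X V (g⁻¹ * x' * g) - 1) * rho X V g⁻¹ *
        (rho X V g * (rho X V (g⁻¹ * x * g) - 1) * rho X V g⁻¹)
      = rho X V g * ((rho X V (g⁻¹ * x' * g) - 1) * (rho X V g⁻¹ * rho X V g) *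
          (rho X V (g⁻¹ * x * g) - 1)) * rho X V g⁻¹ := by noncomm_ring
    _ = 0 := by rw [h1, mul_one, h2, mul_zero, zero_mul]

theorem quad_comm {A : Subgroup X} (hA : QuadOn A V)
    (hinj : Function.Injective (rho X V)) {a a' : X} (ha : a ∈ A) (ha' : a' ∈ A) :
    a * a' = a' * a := by
  apply hinj
  rw [map_mul, map_mul]
  have h1 := hA a ha a' ha'
  have h2 := hA a' ha' a ha
  have e1 : rho X V a * rho X V a' = (rho X V a - 1) * (rho X V a' - 1) + rho X V a + rho X V a' - 1 := by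
    noncomm_ring
  have e2 : rho X V a' * rho X V a = (rho X V a' - 1) * (rho X V a - 1) + rho X V a + rho X V a' - 1 := by
    noncomm_ring
  rw [e1, e2, h1, h2]

theorem quad_pow {A : Subgroup X} (hA : QuadOn A V) {a : X} (ha : a ∈ A) (n : ℕ) :
    rho X V (a ^ n) = 1 + (n : AddMonoid.End V) * (rho X V a - 1) := by
  induction n with
  | zero => rw [pow_zero, map_one, Nat.cast_zero, zero_mul, add_zero]
  | succ n ih =>
    rw [pow_succ, map_mul, ih]
    have h1 := hA a ha a ha
    have e : (1 + (n : AddMonoid.End V) * (rho X V a - 1)) * rho X V a =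
        1 + ((n : AddMonoid.End V) + 1) * (rho X V a - 1) +
          (n : AddMonoid.End V) * ((rho X V a - 1) * (rho X V a - 1)) := by noncomm_ring
    rw [e, h1, mul_zero, add_zero]
    push_cast
    rfl

/-- If `p • (ρ c) = p`, conjugation by `c` does not change `p • (ρ a - 1)`. -/
theorem natCast_mul_conj {p : ℕ} {c : X} (hc : (p : AddMonoid.End V) * rho X V c = p) (a : X) :
    (p : AddMonoid.End V) * (rho X V (c * a * c⁻¹) - 1) = (p : AddMonoid.End V) * (rho X V a - 1) := by
  have h1 : rho X V c * rho X V c⁻¹ = 1 := by rw [← map_mul, mul_inv_cancel, map_one]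
  have hc' : (p : AddMonoid.End V) * rho X V c⁻¹ = p := by
    calc (p : AddMonoid.End V) * rho X V c⁻¹ = ((p : AddMonoid.End V) * rho X V c) * rho X V c⁻¹ := by
          rw [hc]
      _ = p := by rw [mul_assoc, h1, mul_one]
  have hcomm : ∀ y : AddMonoid.End V, (p : AddMonoid.End V) * y = y * p :=
    fun y => (Nat.cast_commute p y).eq
  rw [rho_conj]
  calc (p : AddMonoid.End V) * (rho X V c * (rho X V a - 1) * rho X V c⁻¹)
      = ((p : AddMonoid.End V) * rho X V c) * (rho X V a - 1) * rho X V c⁻¹ := by noncomm_ring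
    _ = ((p : AddMonoid.End V) * (rho X V a - 1)) * rho X V c⁻¹ := by rw [hc]
    _ = ((rho X V a - 1) * (p : AddMonoid.End V)) * rho X V c⁻¹ := by rw [hcomm]
    _ = (rho X V a - 1) * ((p : AddMonoid.End V) * rho X V c⁻¹) := by rw [mul_assoc]
    _ = (rho X V a - 1) * p := by rw [hc']
    _ = (p : AddMonoid.End V) * (rho X V a - 1) := by rw [hcomm]


/-- In a rank one group acting faithfully with `A` quadratic: if some non-identity element of `A`
has `p`-th power one, then every element of `A` does. -/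
theorem quad_pow_eq_one {A B : Subgroup X} (h : IsRankOnePair A B) (htop : A ⊔ B = ⊤)
    (hinj : Function.Injective (rho X V)) (hA : QuadOn A V) {p : ℕ} {a₁ : X} (ha₁ : a₁ ∈ A)
    (ha₁1 : a₁ ≠ 1) (hp : a₁ ^ p = 1) : ∀ a ∈ A, a ^ p = 1 := by
  intro a ha
  obtain ⟨g, _, hBg⟩ := rankOne_right_mem_unipotentSubgroups h
  have hB : QuadOn B V := by rw [hBg]; exact quadOn_conj hA g
  -- `p • (ρ a₁ - 1) = 0`
  have hpa₁ : (p : AddMonoid.End V) * (rho X V a₁ - 1) = 0 := by
    have := quad_pow hA ha₁ p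
    rw [hp, map_one] at this
    have h2 : (1 : AddMonoid.End V) + 0 = 1 + (p : AddMonoid.End V) * (rho X V a₁ - 1) := by
      rw [add_zero]; exact this
    exact (add_left_cancel h2).symm
  have hpa₁' : (p : AddMonoid.End V) * rho X V a₁ = p := by
    have : (p : AddMonoid.End V) * rho X V a₁ =
        (p : AddMonoid.End V) * (rho X V a₁ - 1) + p := by noncomm_ring
    rw [this, hpa₁, zero_add]
  obtain ⟨b₁, hb₁, _, hconj⟩ := h.cond_left a₁ ha₁ ha₁1
  have hcomm : ∀ y : AddMonoid.End V, (p : AddMonoid.End V) * y = y * p :=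
    fun y => (Nat.cast_commute p y).eq
  -- the element `c = b₁ a₁ b₁⁻¹`
  have hc : (p : AddMonoid.End V) * rho X V (b₁ * a₁ * b₁⁻¹) = p := by
    have h1 : rho X V b₁ * rho X V b₁⁻¹ = 1 := by rw [← map_mul, mul_inv_cancel, map_one]
    rw [map_mul, map_mul]
    calc (p : AddMonoid.End V) * (rho X V b₁ * rho X V a₁ * rho X V b₁⁻¹)
        = ((p : AddMonoid.End V) * rho X V b₁) * rho X V a₁ * rho X V b₁⁻¹ := by noncomm_ring
      _ = (rho X V b₁ * (p : AddMonoid.End V)) * rho X V a₁ * rho X V b₁⁻¹ := by rw [hcomm]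
      _ = rho X V b₁ * ((p : AddMonoid.End V) * rho X V a₁) * rho X V b₁⁻¹ := by noncomm_ring
      _ = rho X V b₁ * (p : AddMonoid.End V) * rho X V b₁⁻¹ := by rw [hpa₁']
      _ = (p : AddMonoid.End V) * rho X V b₁ * rho X V b₁⁻¹ := by rw [hcomm]
      _ = p := by rw [mul_assoc, h1, mul_one]
  -- `b = c a c⁻¹ ∈ B`
  have hbB : (b₁ * a₁ * b₁⁻¹) * a * (b₁ * a₁ * b₁⁻¹)⁻¹ ∈ B := by
    have h1 : b₁⁻¹ * a * b₁⁻¹⁻¹ ∈ conjBy A b₁⁻¹ := conj_mem_conjBy ha
    rw [hconj, mem_conjBy] at h1
    have h2 : b₁ * (a₁⁻¹⁻¹ * (b₁⁻¹ * a * b₁⁻¹⁻¹) * a₁⁻¹) * b₁⁻¹ ∈ B :=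
      B.mul_mem (B.mul_mem hb₁ h1) (B.inv_mem hb₁)
    have e : (b₁ * a₁ * b₁⁻¹) * a * (b₁ * a₁ * b₁⁻¹)⁻¹ =
        b₁ * (a₁⁻¹⁻¹ * (b₁⁻¹ * a * b₁⁻¹⁻¹) * a₁⁻¹) * b₁⁻¹ := by group
    rw [e]; exact h2
  have hγ := natCast_mul_conj hc a
  -- `γ = p • (ρ a - 1)` is annihilated on both sides by `ρ x - 1` for `x ∈ A ∪ B`
  have hkey : ∀ x : X, x ∈ A ∨ x ∈ B → x * a ^ p = a ^ p * x := by
    intro x hx
    apply hinj
    rw [map_mul, map_mul, quad_pow hA ha p]
    have hann : (rho X V x - 1) * ((p : AddMonoid.End V) * (rho X V a - 1)) = 0 ∧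
        ((p : AddMonoid.End V) * (rho X V a - 1)) * (rho X V x - 1) = 0 := by
      rcases hx with hx | hx
      · constructor
        · rw [← mul_assoc, ← hcomm, mul_assoc, hA a ha x hx, mul_zero]
        · rw [mul_assoc, hA x hx a ha, mul_zero]
      · rw [← hγ]
        constructor
        · rw [← mul_assoc, ← hcomm, mul_assoc, hB _ hbB x hx, mul_zero]
        · rw [mul_assoc, hB x hx _ hbB, mul_zero]
    have e1 : rho X V x * (1 + (p : AddMonoid.End V) * (rho X V a - 1)) =
        rho X V x + (p : AddMonoid.End V) * (rho X V a - 1) +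
          (rho X V x - 1) * ((p : AddMonoid.End V) * (rho X V a - 1)) := by noncomm_ring
    have e2 : (1 + (p : AddMonoid.End V) * (rho X V a - 1)) * rho X V x =
        rho X V x + (p : AddMonoid.End V) * (rho X V a - 1) +
          ((p : AddMonoid.End V) * (rho X V a - 1)) * (rho X V x - 1) := by noncomm_ring
    rw [e1, e2, hann.1, hann.2]
  have hcen : a ^ p ∈ Subgroup.center X :=
    mem_center_of_commute_gens htop (fun x hx => hkey x (Or.inl hx)) (fun x hx => hkey x (Or.inr hx))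
  exact rankOne_eq_one_of_mem_normalizer h (A.pow_mem ha p)
    ((Subgroup.center_le_normalizer _) hcen)

end Quad

end Cfsg.Agent.Lib.Helper25
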