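import Mathlib
import Cfsg.Prelude.Def_RootSubgroups
import Cfsg.Agent.Lib.Helper25.RankOneNormal

set_option autoImplicit false

namespace Cfsg.Agent.Lib.Helper25

open Cfsg

section QuadSpecial

variable {X N : Type*} [Group X] [AddCommGroup N] [DistribMulAction X N]

/-- The commutator `[N, D]` of the module `N` with a subgroup `D` of `X`. -/
def commSub (D : Subgroup X) (N : Type*) [AddCommGroup N] [DistribMulAction X N] : AddSubgroup N :=
  AddSubgroup.closure {m | ∃ d ∈ D, ∃ n : N, m = d • n - n}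

theorem smul_sub_mem_commSub {D : Subgroup X} {d : X} (hd : d ∈ D) (n : N) :
    d • n - n ∈ commSub D N :=
  AddSubgroup.subset_closure ⟨d, hd, n, rfl⟩

theorem smul_mem_commSub_conj {D : Subgroup X} (g : X) {n : N} (hn : n ∈ commSub D N) :
    g • n ∈ commSub (conjBy D g) N := by
  refine AddSubgroup.closure_induction (p := fun n _ => g • n ∈ commSub (conjBy D g) N)
    ?_ ?_ ?_ ?_ hn
  · rintro _ ⟨d, hd, n', rfl⟩
    have : g • (d • n' - n') = (g * d * g⁻¹) • (g • n') - g • n' := by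
      rw [smul_sub, mul_smul, mul_smul, inv_smul_smul]
    rw [this]
    exact smul_sub_mem_commSub (conj_mem_conjBy hd) _
  · rw [smul_zero]; exact zero_mem _
  · intro x y _ _ hx hy
    rw [smul_add]; exact add_mem hx hy
  · intro x _ hx
    rw [smul_neg]; exact neg_mem hx

theorem commSub_fixed {A : Subgroup X}
    (hq : ∀ a ∈ A, ∀ a' ∈ A, ∀ n : N, a' • (a • n - n) = a • n - n)
    {n : N} (hn : n ∈ commSub A N) {a' : X} (ha' : a' ∈ A) : a' • n = n := by
  refine AddSubgroup.closure_induction (p := fun n _ => a' • n = n) ?_ ?_ ?_ ?_ hn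
  · rintro _ ⟨d, hd, n', rfl⟩
    exact hq d hd a' ha' n'
  · rw [smul_zero]
  · intro x y _ _ hx hy
    rw [smul_add, hx, hy]
  · intro x _ hx
    rw [smul_neg, hx]

theorem quad_conj_smul {A : Subgroup X}
    (hq : ∀ a ∈ A, ∀ a' ∈ A, ∀ n : N, a' • (a • n - n) = a • n - n) (g : X) :
    ∀ b ∈ conjBy A g, ∀ b' ∈ conjBy A g, ∀ n : N, b' • (b • n - n) = b • n - n := by
  rintro _ ⟨x, hx, rfl⟩ _ ⟨x', hx', rfl⟩ n
  simp only [MulEquiv.coe_toMonoidHom, MulAut.conj_apply]
  have h1 := hq x hx x' hx' (g⁻¹ • n)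
  have h2 : (g * x * g⁻¹) • n - n = g • (x • g⁻¹ • n - g⁻¹ • n) := by
    rw [smul_sub, smul_inv_smul, mul_smul, mul_smul]
  rw [h2, mul_smul, mul_smul, inv_smul_smul, h1]

/-- the inverse of a quadratically acting element -/
theorem quad_inv_smul {b : X} (hb : ∀ n : N, b • (b • n - n) = b • n - n) (n : N) :
    b⁻¹ • n = n - (b • n - n) := by
  rw [inv_smul_eq_iff, smul_sub, hb]
  abel


/-- The key relation (2a)/(2b): if `b⁻¹ • n = a⁻¹ • m` with `n ∈ [N,A]`, `m ∈ [N,B]`, then
`c = n + (a • m - m) = m + (b • n - n)` lies in `[N,A] ⊓ [N,B]`. -/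
theorem quad_key {A B : Subgroup X} {a b : X} (ha : a ∈ A) (hb : b ∈ B)
    (hqa : ∀ n : N, a • (a • n - n) = a • n - n) (hqb : ∀ n : N, b • (b • n - n) = b • n - n)
    {n m : N} (hn : n ∈ commSub A N) (hm : m ∈ commSub B N) (he : b⁻¹ • n = a⁻¹ • m) :
    n + (a • m - m) ∈ commSub A N ⊓ commSub B N ∧ n + (a • m - m) = m + (b • n - n) := by
  rw [quad_inv_smul hqb, quad_inv_smul hqa] at he
  have h2 : n + (a • m - m) = m + (b • n - n) := by
    have : n + (a • m - m) - (m + (b • n - n)) = (n - (b • n - n)) - (m - (a • m - m)) := by abel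
    rw [← sub_eq_zero, this, he, sub_self]
  refine ⟨⟨add_mem hn (smul_sub_mem_commSub ha m), ?_⟩, h2⟩
  rw [h2]
  exact add_mem hm (smul_sub_mem_commSub hb n)

/-- A rank one group acting on an abelian group with `A` quadratic but `X` not quadratic is
special. -/
theorem quad_special {A B : Subgroup X} (h : IsRankOnePair A B) (htop : A ⊔ B = ⊤)
    (hq : ∀ a ∈ A, ∀ a' ∈ A, ∀ n : N, a' • (a • n - n) = a • n - n)
    (hX : ∃ x y : X, ∃ n : N, y • (x • n - n) ≠ x • n - n) :
    ∀ a ∈ A, a ≠ 1 → ∀ b ∈ B, b ≠ 1 → conjBy A b⁻¹ = conjBy B a⁻¹ →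
      b⁻¹ * a * b = a⁻¹ * b⁻¹ * a := by
  intro a ha ha1 b hb hb1 hconj
  obtain ⟨g₀, _, hBg⟩ := rankOne_right_mem_unipotentSubgroups h
  have hqB : ∀ b ∈ B, ∀ b' ∈ B, ∀ n : N, b' • (b • n - n) = b • n - n := by
    rw [hBg]; exact quad_conj_smul hq g₀
  have hqa : ∀ n : N, a • (a • n - n) = a • n - n := hq a ha a ha
  have hqb : ∀ n : N, b • (b • n - n) = b • n - n := hqB b hb b hb
  have hfixA : ∀ n ∈ commSub A N, ∀ x ∈ A, x • n = n := fun n hn x hx => commSub_fixed hq hn hx
  have hfixB : ∀ n ∈ commSub B N, ∀ x ∈ B, x • n = n := fun n hn x hx => commSub_fixed hqB hn hx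
  have hfixC : ∀ c ∈ commSub A N ⊓ commSub B N, ∀ x : X, x • c = c := by
    intro c hc x
    have hle : A ⊔ B ≤ MulAction.stabilizer X c :=
      sup_le (fun x hx => hfixA c hc.1 x hx) (fun x hx => hfixB c hc.2 x hx)
    have hx : x ∈ A ⊔ B := by rw [htop]; exact Subgroup.mem_top x
    exact hle hx
  -- Step 2
  have key : ∀ n ∈ commSub A N, ∃ m ∈ commSub B N, b⁻¹ • n = a⁻¹ • m := by
    intro n hn
    refine ⟨a • (b⁻¹ • n), ?_, by rw [inv_smul_smul]⟩
    have h1 : b⁻¹ • n ∈ commSub (conjBy A b⁻¹) N := smul_mem_commSub_conj b⁻¹ hn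
    rw [hconj] at h1
    have h2 := smul_mem_commSub_conj a h1
    rwa [← conjBy_mul, mul_inv_cancel, conjBy_one] at h2
  have key' : ∀ m ∈ commSub B N, ∃ n ∈ commSub A N, b⁻¹ • n = a⁻¹ • m := by
    intro m hm
    refine ⟨b • (a⁻¹ • m), ?_, by rw [inv_smul_smul]⟩
    have h1 : a⁻¹ • m ∈ commSub (conjBy B a⁻¹) N := smul_mem_commSub_conj a⁻¹ hm
    rw [← hconj] at h1
    have h2 := smul_mem_commSub_conj b h1
    rwa [← conjBy_mul, mul_inv_cancel, conjBy_one] at h2
  -- (2a)
  have r2a : ∀ n ∈ commSub A N, ∃ c ∈ commSub A N ⊓ commSub B N,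
      a • (b • n - n) - (b • n - n) = n - c := by
    intro n hn
    obtain ⟨m, hm, he⟩ := key n hn
    obtain ⟨hc, hceq⟩ := quad_key ha hb hqa hqb hn hm he
    refine ⟨_, hc, ?_⟩
    have h3 : b • n - n = (n + (a • m - m)) - m := by rw [hceq]; abel
    have hac := hfixC _ hc a
    rw [h3, smul_sub, hac]
    abel
  -- (2b)
  have r2b : ∀ m ∈ commSub B N, ∃ c ∈ commSub A N ⊓ commSub B N,
      b • (a • m - m) - (a • m - m) = m - c := by
    intro m hm
    obtain ⟨n, hn, he⟩ := key' m hm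
    obtain ⟨hc, hceq⟩ := quad_key ha hb hqa hqb hn hm he
    refine ⟨_, hc, ?_⟩
    have h3 : a • m - m = (n + (a • m - m)) - n := by abel
    have hbc := hfixC _ hc b
    rw [h3, smul_sub, hbc, hceq]
    abel
  -- Step 3: `u = b⁻¹ a b` and `v = a⁻¹ b⁻¹ a` agree on `[N,A] ⊔ [N,B]`
  have huvA : ∀ n ∈ commSub A N, (b⁻¹ * a * b) • n = (a⁻¹ * b⁻¹ * a) • n := by
    intro n hn
    obtain ⟨c, hc, hrel⟩ := r2a n hn
    have han : a • n = n := hfixA n hn a ha
    have hbβ : b • (b • n - n) = b • n - n := hqb n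
    have hac := hfixC c hc a
    have hbc := hfixC c hc b
    have haβ : a • (b • n - n) = (b • n - n) + (n - c) := by rw [← hrel]; abel
    have hbn : b • n = n + (b • n - n) := by abel
    have hE1 : (b⁻¹ * a * b) • n = n + n - (b • n - n) - c := by
      rw [mul_smul, mul_smul, inv_smul_eq_iff]
      rw [smul_sub, smul_sub, smul_add, hbβ, hbc]
      conv_lhs => rw [hbn, smul_add, han, haβ]
      abel
    have haE : a • (n + n - (b • n - n) - c) = n - (b • n - n) := by
      rw [smul_sub, smul_sub, smul_add, han, haβ, hac]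
      abel
    have hE2 : (a⁻¹ * b⁻¹ * a) • n = n + n - (b • n - n) - c := by
      rw [mul_smul, mul_smul, inv_smul_eq_iff, inv_smul_eq_iff, haE, smul_sub, hbβ, han]
      abel
    rw [hE1, hE2]
  have huvB : ∀ m ∈ commSub B N, (b⁻¹ * a * b) • m = (a⁻¹ * b⁻¹ * a) • m := by
    intro m hm
    obtain ⟨c, hc, hrel⟩ := r2b m hm
    have hbm : b • m = m := hfixB m hm b hb
    have haα : a • (a • m - m) = a • m - m := hqa m
    have hac := hfixC c hc a
    have hbc := hfixC c hc b
    have hbα : b • (a • m - m) = (a • m - m) + (m - c) := by rw [← hrel]; abel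
    have hE1 : (b⁻¹ * a * b) • m = (a • m - m) + c := by
      rw [mul_smul, mul_smul, inv_smul_eq_iff, hbm, smul_add, hbα, hbc]
      abel
    have haE : a • ((a • m - m) + c) = (a • m - m) + c := by
      rw [smul_add, haα, hac]
    have hE2 : (a⁻¹ * b⁻¹ * a) • m = (a • m - m) + c := by
      rw [mul_smul, mul_smul, inv_smul_eq_iff, inv_smul_eq_iff, haE, smul_add, hbα, hbc]
      abel
    rw [hE1, hE2]
  have huv : ∀ w ∈ commSub A N ⊔ commSub B N, (b⁻¹ * a * b) • w = (a⁻¹ * b⁻¹ * a) • w := by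
    intro w hw
    obtain ⟨n, hn, m, hm, rfl⟩ := AddSubgroup.mem_sup.1 hw
    rw [smul_add, smul_add, huvA n hn, huvB m hm]
  -- Step 1: `W = [N,A] ⊔ [N,B]` contains all `x • n - n`
  have hWall : ∀ x : X, ∀ n : N, x • n - n ∈ commSub A N ⊔ commSub B N := by
    let T : Subgroup X :=
      { carrier := {x | ∀ n : N, x • n - n ∈ commSub A N ⊔ commSub B N}
        one_mem' := by intro n; rw [one_smul, sub_self]; exact zero_mem _
        mul_mem' := by
          intro x y hx hy n
          have e : (x * y) • n - n = (x • (y • n - n) - (y • n - n)) + (y • n - n) + (x • n - n) := by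
            rw [mul_smul, smul_sub]; abel
          rw [e]
          exact add_mem (add_mem (hx _) (hy n)) (hx n)
        inv_mem' := by
          intro x hx n
          have e : x⁻¹ • n - n = -(x • (x⁻¹ • n) - x⁻¹ • n) := by
            rw [smul_inv_smul]; abel
          rw [e]
          exact neg_mem (hx _) }
    have hle : A ⊔ B ≤ T :=
      sup_le (fun x hx n => AddSubgroup.mem_sup_left (smul_sub_mem_commSub hx n))
        (fun x hx n => AddSubgroup.mem_sup_right (smul_sub_mem_commSub hx n))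
    intro x
    have hx : x ∈ A ⊔ B := by rw [htop]; exact Subgroup.mem_top x
    exact hle hx
  have hWinv : ∀ x : X, ∀ w ∈ commSub A N ⊔ commSub B N, x • w ∈ commSub A N ⊔ commSub B N := by
    intro x w hw
    have : x • w = (x • w - w) + w := by abel
    rw [this]
    exact add_mem (hWall x w) hw
  -- Step 4: the centralizer of `W`
  let K : Subgroup X :=
    { carrier := {x | ∀ w ∈ commSub A N ⊔ commSub B N, x • w = w}
      one_mem' := fun w _ => one_smul X w
      mul_mem' := by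
        intro x y hx hy w hw
        rw [mul_smul, hy w hw, hx w hw]
      inv_mem' := by
        intro x hx w hw
        rw [inv_smul_eq_iff, hx w hw] }
  have hKn : K.Normal := by
    constructor
    intro x hx g w hw
    rw [mul_smul, mul_smul, hx _ (hWinv g⁻¹ w hw), smul_inv_smul]
  have hgK : (a⁻¹ * b⁻¹ * a)⁻¹ * (b⁻¹ * a * b) ∈ K := by
    intro w hw
    rw [mul_smul, inv_smul_eq_iff]
    exact huv w hw
  rcases rankOne_normal_dichotomy h htop K hKn with hcase | hcase
  · -- `X = K A` is impossible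
    exfalso
    -- all of `X` acts trivially on `[N,A]`
    have hXA : ∀ x : X, ∀ n ∈ commSub A N, x • n = n := by
      let T : Subgroup X :=
        { carrier := {x | ∀ n ∈ commSub A N, x • n = n}
          one_mem' := fun n _ => one_smul X n
          mul_mem' := by
            intro x y hx hy n hn
            rw [mul_smul, hy n hn, hx n hn]
          inv_mem' := by
            intro x hx n hn
            rw [inv_smul_eq_iff, hx n hn] }
      have hle : K ⊔ A ≤ T :=
        sup_le (fun x hx n hn => hx n (AddSubgroup.mem_sup_left hn)) (fun x hx n hn => hfixA n hn x hx)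
      intro x
      have hx : x ∈ K ⊔ A := by rw [hcase]; exact Subgroup.mem_top x
      exact hle hx
    -- `[N,B] ≤ [N,A]`
    have hBA : ∀ m ∈ commSub B N, m ∈ commSub A N := by
      intro m hm
      have h1 : g₀⁻¹ • m ∈ commSub (conjBy B g₀⁻¹) N := smul_mem_commSub_conj g₀⁻¹ hm
      rw [hBg, ← conjBy_mul, inv_mul_cancel, conjBy_one] at h1
      have h2 := hXA g₀ _ h1
      rw [smul_inv_smul] at h2
      rw [h2]
      exact h1
    obtain ⟨x, y, n, hne⟩ := hX
    apply hne
    have hw := hWall x n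
    obtain ⟨n', hn', m', hm', hsum⟩ := AddSubgroup.mem_sup.1 hw
    rw [← hsum, smul_add, hXA y n' hn', hXA y m' (hBA m' hm')]
  · -- `K` is central
    have hcen := hcase hgK
    have hD : (a⁻¹ * b⁻¹ * a)⁻¹ * (b⁻¹ * a * b) ∈ conjBy A b⁻¹ := by
      apply (conjBy A b⁻¹).mul_mem
      · apply (conjBy A b⁻¹).inv_mem
        rw [hconj]
        have := conj_mem_conjBy (A := B) (g := a⁻¹) (B.inv_mem hb)
        simpa using this
      · have := conj_mem_conjBy (A := A) (g := b⁻¹) ha
        simpa using this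
    rw [mem_conjBy] at hD
    have hcomm : b⁻¹⁻¹ * ((a⁻¹ * b⁻¹ * a)⁻¹ * (b⁻¹ * a * b)) * b⁻¹ =
        (a⁻¹ * b⁻¹ * a)⁻¹ * (b⁻¹ * a * b) := by
      rw [Subgroup.mem_center_iff] at hcen
      rw [mul_assoc, ← hcen b⁻¹, ← mul_assoc, inv_mul_cancel, one_mul]
    rw [hcomm] at hD
    have h1 := rankOne_eq_one_of_mem_normalizer h hD ((Subgroup.center_le_normalizer _) hcen)
    have h2 : b⁻¹ * a * b = (a⁻¹ * b⁻¹ * a) * ((a⁻¹ * b⁻¹ * a)⁻¹ * (b⁻¹ * a * b)) := by group
    rw [h2, h1, mul_one]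

end QuadSpecial

end Cfsg.Agent.Lib.Helper25
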