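/-
helper25: shared vocabulary for S4865 (Isaacs–Navarro Theorem C: a bijection between the real
irreducible characters of `G` and the real irreducible characters of `p'`-degree of `N_G(P)`, with
degrees congruent modulo `p` up to sign), market planned by helper25.
-/
import Mathlib
import Cfsg.Prelude.Def_Blocks
import Cfsg.Agent.Lib.Helper6.Clifford
import Cfsg.Agent.Lib.Helper2.GlaubReal
import Cfsg.Agent.Lib.Helper12.RealPDefs
import Cfsg.Agent.Lib.Helper12.RealNDefs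
import Cfsg.Agent.Lib.Helper25.RealPR1Core

set_option autoImplicit false

namespace Cfsg.Agent.Lib.Helper25.RealC

open Cfsg Cfsg.Agent.Lib.Helper2.Glaub Cfsg.Agent.Lib.Helper12.RealN
open Cfsg.Agent.Lib.Helper25.RealP
open scoped ComplexConjugate

universe u

/-- The inner product of two functions on a finite group, without a `Fintype` instance argument. -/
noncomputable def cInner {X : Type u} [Group X] [Finite X] (f g : X → ℂ) : ℂ :=
  letI := Fintype.ofFinite X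
  classInner f g

theorem cInner_eq {X : Type u} [Group X] [Fintype X] (f g : X → ℂ) :
    cInner f g = classInner f g := by
  unfold cInner
  congr
  exact Subsingleton.elim _ _

variable {G : Type u} [Group G]

/-- Restriction of a function on a subgroup `A` of `G` to a smaller subgroup `B`. -/
def resTo {A B : Subgroup G} (h : B ≤ A) (f : A → ℂ) : B → ℂ := fun b => f ⟨b, h b.2⟩

theorem resTo_apply {A B : Subgroup G} (h : B ≤ A) (f : A → ℂ) (b : B) :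
    resTo h f b = f ⟨b, h b.2⟩ := rfl

/-- The complex-valued function of a homomorphism to `ℂˣ` on a subgroup. -/
def homF {A : Subgroup G} (lam : A →* ℂˣ) : A → ℂ := fun a => ((lam a : ℂˣ) : ℂ)

theorem homF_apply {A : Subgroup G} (lam : A →* ℂˣ) (a : A) : homF lam a = ((lam a : ℂˣ) : ℂ) :=
  rfl

/-- The stabiliser in `G` of a homomorphism `lam : Q →* ℂˣ` on a normal subgroup `Q`. -/
def stabHom (Q : Subgroup G) [Q.Normal] (lam : Q →* ℂˣ) : Subgroup G :=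
  stabFun Q (homFun Q lam)

theorem mem_stabHom (Q : Subgroup G) [hQ : Q.Normal] (lam : Q →* ℂˣ) (g : G) :
    g ∈ stabHom Q lam ↔ ∀ q : Q, lam ⟨g * q * g⁻¹, hQ.conj_mem q q.2 g⟩ = lam q :=
  mem_stab_homFun Q lam g

theorem le_stabHom (Q : Subgroup G) [hQ : Q.Normal] (lam : Q →* ℂˣ) : Q ≤ stabHom Q lam := by
  intro x hx
  rw [mem_stabHom]
  intro q
  have h : (⟨x * q * x⁻¹, hQ.conj_mem q q.2 x⟩ : Q) = ⟨x, hx⟩ * q * (⟨x, hx⟩ : Q)⁻¹ := rfl
  rw [h, map_mul, map_mul, map_inv, mul_comm, inv_mul_cancel_left]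

theorem le_inf_stabHom {Q Y : Subgroup G} [Q.Normal] (hQY : Q ≤ Y) (lam : Q →* ℂˣ) :
    Q ≤ Y ⊓ stabHom Q lam :=
  le_inf hQY (le_stabHom Q lam)

/-- The conjugate homomorphism `q ↦ lam (g q g⁻¹)` on a normal subgroup. -/
def cjHom (Q : Subgroup G) [Q.Normal] (g : G) (lam : Q →* ℂˣ) : Q →* ℂˣ :=
  lam.comp (MulAut.conjNormal g : MulAut Q).toMonoidHom

theorem cjHom_apply (Q : Subgroup G) [hQ : Q.Normal] (g : G) (lam : Q →* ℂˣ) (q : Q) :
    cjHom Q g lam q = lam ⟨g * q * g⁻¹, hQ.conj_mem q q.2 g⟩ := rfl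

theorem mem_stabHom_iff_cjHom (Q : Subgroup G) [Q.Normal] (lam : Q →* ℂˣ) (g : G) :
    g ∈ stabHom Q lam ↔ cjHom Q g lam = lam := by
  rw [mem_stabHom]
  constructor
  · intro h
    ext q
    rw [cjHom_apply, h q]
  · intro h q
    rw [← cjHom_apply, h]

/-- `N_T(P)`, the subgroup of `T` whose image modulo `Q = T ∩ P` is centralised by `P`. -/
abbrev CT (T P : Subgroup G) : Subgroup G := T ⊓ Subgroup.normalizer (P : Set G)

theorem le_CT {Q T P : Subgroup G} (hQT : Q ≤ T) (hQP : Q ≤ P) : Q ≤ CT T P :=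
  le_inf hQT (hQP.trans Subgroup.le_normalizer)

/-- `M = N_K(P)`. -/
abbrev MK (K : Subgroup G) {p : ℕ} (P : Sylow p G) : Subgroup G := K ⊓ NP P

/-- An irreducible character `ψ` of `A ⊇ Q` lies over the homomorphism `lam` of `Q`. -/
def OverHom [Finite G] {Q A : Subgroup G} (hQA : Q ≤ A) (lam : Q →* ℂˣ) (ψ : IrrCharacter ↥A) :
    Prop :=
  cInner (resTo hQA (ψ : ↥A → ℂ)) (homF lam) ≠ 0

/-- `Q` lies in the kernel of the character `ψ` of `A ⊇ Q`. -/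
def KerGe {Q A : Subgroup G} (hQA : Q ≤ A) (ψ : ↥A → ℂ) : Prop :=
  ∀ q : Q, ψ ⟨q, hQA q.2⟩ = ψ 1

/-- `ψ ∈ Irr(A)`, `A = Y_lam` the stabiliser of `lam` in `Y`, is the Clifford correspondent over
`lam` of `θ ∈ Irr(Y)`. -/
def CliffPair [Finite G] {Q A Y : Subgroup G} (hQA : Q ≤ A) (hAY : A ≤ Y) (lam : Q →* ℂˣ)
    (θ : IrrCharacter ↥Y) (ψ : IrrCharacter ↥A) : Prop :=
  OverHom hQA lam ψ ∧ cInner (resTo hAY (θ : ↥Y → ℂ)) (ψ : ↥A → ℂ) ≠ 0

/-- The relation of the relative Glauberman correspondence between `θ ∈ Irr(K)` and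
`β ∈ Irr(N_K(P))`: `β` is `P`-invariant and its multiplicity in `θ` is prime to `p`. -/
def RelC [Finite G] (p : ℕ) (K : Subgroup G) (P : Sylow p G) (θ : IrrCharacter ↥K)
    (β : IrrCharacter ↥(MK K P)) : Prop :=
  InvUnder (MK K P) (P : Subgroup G) (β : ↥(MK K P) → ℂ) ∧
    ∃ m : ℕ, cInner (resTo (inf_le_left : MK K P ≤ K) (θ : ↥K → ℂ)) (β : ↥(MK K P) → ℂ) = (m : ℂ) ∧
      ¬ p ∣ m

/-- The relation between a real `χ ∈ Irr(G)` and a real `ξ ∈ Irr(N_G(P))` that defines the bijection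
of Theorem C: `χ` lies over a real `P`-invariant `θ ∈ Irr(K)`, `K = O^{2'}(G)`, `θ` corresponds to
`β ∈ Irr(N_K(P))` and `ξ` lies over `β`. -/
def RelD [Finite G] (p : ℕ) (P : Sylow p G) (χ : IrrCharacter G) (ξ : IrrCharacter ↥(NP P)) : Prop :=
  ∃ (θ : IrrCharacter ↥(Cfsg.Agent.Lib.Helper12.RealP.Ogen 2 G))
    (β : IrrCharacter ↥(MK (Cfsg.Agent.Lib.Helper12.RealP.Ogen 2 G) P)),
    (∀ k, ((θ : ↥(Cfsg.Agent.Lib.Helper12.RealP.Ogen 2 G) → ℂ) k).im = 0) ∧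
    InvUnder (Cfsg.Agent.Lib.Helper12.RealP.Ogen 2 G) (P : Subgroup G)
      (θ : ↥(Cfsg.Agent.Lib.Helper12.RealP.Ogen 2 G) → ℂ) ∧
    cInner (Cfsg.Agent.Lib.Helper6.resFun (Cfsg.Agent.Lib.Helper12.RealP.Ogen 2 G) (χ : G → ℂ))
      (θ : ↥(Cfsg.Agent.Lib.Helper12.RealP.Ogen 2 G) → ℂ) ≠ 0 ∧
    RelC p (Cfsg.Agent.Lib.Helper12.RealP.Ogen 2 G) P θ β ∧
    cInner (resTo (inf_le_right : MK (Cfsg.Agent.Lib.Helper12.RealP.Ogen 2 G) P ≤ NP P)
      (ξ : ↥(NP P) → ℂ)) (β : ↥(MK (Cfsg.Agent.Lib.Helper12.RealP.Ogen 2 G) P) → ℂ) ≠ 0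

end Cfsg.Agent.Lib.Helper25.RealC
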