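/-
helper25 (S4864 market, planner helper12): leaf (N4) `conj_normalizer_of_conj`
(two elements of `C_G(P)` that are `G`-conjugate are `N_G(P)`-conjugate; Burnside's argument,
Mathlib `Sylow.conj_eq_normalizer_conj_of_mem_centralizer`).
-/
import Mathlib
import Cfsg.Prelude.Def_Blocks
import Cfsg.Agent.Lib.Helper12.RealNDefs

set_option autoImplicit false

namespace Cfsg.Agent.Lib.Helper25.RealN

open Cfsg Cfsg.Agent.Lib.Helper12.RealN

universe u

variable {G : Type u} [Group G] [Finite G]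

/-- **S4864 leaf (N4)** (frozen signature of `notes/S4864_leaves.lean`). -/
theorem conj_normalizer_of_conj (p : ℕ) [Fact p.Prime] (P : Sylow p G) {c c' : G}
    (hc : c ∈ Subgroup.centralizer ((P : Subgroup G) : Set G))
    (hc' : c' ∈ Subgroup.centralizer ((P : Subgroup G) : Set G)) (g : G)
    (h : c' = g * c * g⁻¹) :
    ∃ n ∈ NP P, c' = n * c * n⁻¹ := by
  have hy : (g⁻¹)⁻¹ * c * g⁻¹ ∈ Subgroup.centralizer ((P : Subgroup G) : Set G) := by
    rw [inv_inv, ← h]
    exact hc'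
  obtain ⟨n, hn, hn'⟩ := Sylow.conj_eq_normalizer_conj_of_mem_centralizer P c g⁻¹ hc hy
  refine ⟨n⁻¹, Subgroup.inv_mem _ hn, ?_⟩
  rw [inv_inv] at hn' ⊢
  rw [h, hn']

end Cfsg.Agent.Lib.Helper25.RealN
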