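import Cfsg.Agent.Lib.Helper25.SpinIndex

set_option autoImplicit false

/-!
# Reflections of a fixed norm class generate a subgroup of index two (odd characteristic)
-/

namespace Cfsg.Agent.Lib.Helper25.ReflClass

open Module QuadraticMap Cfsg.Agent.Lib.Helper25.CD Cfsg.Agent.Lib.Helper25.Spin

section general

variable {F : Type*} [Field F] {V : Type*} [AddCommGroup V] [Module F V] (Q : QuadraticForm F V)

theorem Q_lin (u w : V) (a b : F) :
    Q (a • u + b • w) = a ^ 2 * Q u + a * b * polar Q u w + b ^ 2 * Q w := by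
  rw [QuadraticMap.map_add (⇑Q), QuadraticMap.map_smul, QuadraticMap.map_smul, polar_smul_left,
    polar_smul_right]
  simp only [smul_eq_mul]
  ring

theorem polar_lin_left (u w x : V) (a b : F) :
    polar Q (a • u + b • w) x = a * polar Q u x + b * polar Q w x := by
  rw [polar_add_left, polar_smul_left, polar_smul_left]
  simp only [smul_eq_mul]

theorem polar_lin_right (u w x : V) (a b : F) :
    polar Q x (a • u + b • w) = a * polar Q x u + b * polar Q x w := by
  rw [polar_add_right, polar_smul_right, polar_smul_right]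
  simp only [smul_eq_mul]

theorem polar_self' (u : V) : polar Q u u = 2 * Q u := by
  rw [polar_self]; simp

/-- The norm of the third vector of the plane rotation identity. -/
theorem Q_third (u w : V) (s t : F) :
    Q ((-(t * Q w)) • u + (s * Q u + t * polar Q u w) • w) =
      Q u * Q w * Q (s • u + t • w) := by
  rw [Q_lin, Q_lin]
  ring

/-- In a plane, `r_z r_{z''} = r_u r_w` where `z = s u + t w` is arbitrary and `z'' = z u w`
(Clifford product). -/
theorem plane_rotation {u w : V} (hu : Q u ≠ 0) (hw : Q w ≠ 0) (s t : F)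
    (hz : Q (s • u + t • w) ≠ 0) :
    reflE Q (s • u + t • w) * reflE Q ((-(t * Q w)) • u + (s * Q u + t * polar Q u w) • w) =
      reflE Q u * reflE Q w := by
  ext x
  simp only [LinearEquiv.mul_apply]
  rw [reflE_apply Q ((-(t * Q w)) • u + (s * Q u + t * polar Q u w) • w) x, Q_third,
    reflE_apply Q (s • u + t • w), reflE_apply Q w x, reflE_apply Q u]
  simp only [polar_sub_right, polar_smul_right, polar_lin_left, polar_lin_right, polar_self',
    smul_eq_mul, polar_comm Q w u]
  rw [Q_lin] at hz ⊢
  generalize hD : s ^ 2 * Q u + s * t * polar Q u w + t ^ 2 * Q w = D at hz ⊢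
  generalize polar Q u w = B at hD ⊢
  generalize polar Q u x = p
  generalize polar Q w x = r
  generalize Q u = a at hu hD ⊢
  generalize Q w = b at hw hD ⊢
  match_scalars
  · ring
  · field_simp
    subst hD
    ring
  · field_simp
    subst hD
    ring

/-- A nondegenerate plane over a finite field represents every scalar. -/
theorem exists_plane_rep [Finite F] {u w : V}
    (hd : 4 * Q u * Q w - polar Q u w ^ 2 ≠ 0) (c : F) :
    ∃ s t : F, Q (s • u + t • w) = c := by
  let L : (F × F) →ₗ[F] V :=
    (LinearMap.fst F F F).smulRight u + (LinearMap.snd F F F).smulRight w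
  have hL : ∀ a : F × F, L a = a.1 • u + a.2 • w := fun a => by simp [L]
  let Q' : QuadraticForm F (F × F) := Q.comp L
  have hpol : ∀ a b : F × F, polar Q' a b = polar Q (L a) (L b) := by
    intro a b
    simp [polar, Q']
  have hsep : ∀ a : F × F, (∀ b : F × F, polar Q (L a) (L b) = 0) → a = 0 := by
    intro a ha
    have h1 := ha (1, 0)
    have h2 := ha (0, 1)
    rw [hL, hL] at h1 h2
    simp only [one_smul, zero_smul, add_zero, zero_add] at h1 h2
    rw [polar_lin_left, polar_self', polar_comm Q w u] at h1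
    rw [polar_lin_left, polar_self'] at h2
    have e1 : a.1 * (4 * Q u * Q w - polar Q u w ^ 2) = 0 := by
      linear_combination (2 * Q w) * h1 - polar Q u w * h2
    have e2 : a.2 * (4 * Q u * Q w - polar Q u w ^ 2) = 0 := by
      linear_combination (2 * Q u) * h2 - polar Q u w * h1
    rcases mul_eq_zero.1 e1 with h | h
    · rcases mul_eq_zero.1 e2 with h' | h'
      · exact Prod.ext h h'
      · exact absurd h' hd
    · exact absurd h hd
  have hQ' : (polarBilin Q').Nondegenerate := by
    constructor
    · intro a ha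
      apply hsep a
      intro b
      have := ha b
      rwa [polarBilin_apply_apply, hpol] at this
    · intro a ha
      apply hsep a
      intro b
      have := ha b
      rwa [polarBilin_apply_apply, hpol, polar_comm] at this
  have hfin : 2 ≤ finrank F (F × F) := by
    rw [finrank_prod, finrank_self]
  obtain ⟨a, ha⟩ := exists_rep Q' hQ' hfin c
  refine ⟨a.1, a.2, ?_⟩
  rw [← hL]
  exact ha

/-- Hyperbolic partner of a singular vector inside `u^⊥`. -/
theorem exists_partner (h2 : (2 : F) ≠ 0) (hQ : (polarBilin Q).Nondegenerate) {u s : V}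
    (hu : Q u ≠ 0) (hs0 : s ≠ 0) (hs : Q s = 0) (hus : polar Q u s = 0) :
    ∃ s' : V, Q s' = 0 ∧ polar Q s s' = 1 ∧ polar Q u s' = 0 := by
  obtain ⟨y, hy⟩ : ∃ y, polar Q s y ≠ 0 := by
    by_contra hcon
    push Not at hcon
    exact hs0 (hQ.1 s hcon)
  obtain ⟨y1, hy1⟩ : ∃ y1, y1 = y - ((2 * Q u)⁻¹ * polar Q u y) • u := ⟨_, rfl⟩
  have h1 : polar Q u y1 = 0 := by
    rw [hy1, polar_sub_right, polar_smul_right, polar_self', smul_eq_mul]
    field_simp
    ring
  have h2' : polar Q s y1 = polar Q s y := by
    rw [hy1, polar_sub_right, polar_smul_right, polar_comm Q s u, hus]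
    simp
  obtain ⟨y2, hy2⟩ : ∃ y2, y2 = (polar Q s y)⁻¹ • y1 := ⟨_, rfl⟩
  have h3 : polar Q s y2 = 1 := by
    rw [hy2, polar_smul_right, h2', smul_eq_mul, inv_mul_cancel₀ hy]
  have h4 : polar Q u y2 = 0 := by
    rw [hy2, polar_smul_right, h1, smul_zero]
  refine ⟨y2 - Q y2 • s, ?_, ?_, ?_⟩
  · rw [sub_eq_add_neg, ← neg_smul, QuadraticMap.map_add (⇑Q), QuadraticMap.map_smul, hs,
      polar_smul_right, polar_comm Q y2 s, h3]
    simp
  · rw [polar_sub_right, polar_smul_right, polar_self', hs, h3]
    simp
  · rw [polar_sub_right, polar_smul_right, h4, hus]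
    simp

/-- Pairwise orthogonal nonsingular vectors are linearly independent. -/
theorem card_le_finrank_of_orth [FiniteDimensional F V] (h2 : (2 : F) ≠ 0) {k : ℕ} (v : Fin k → V)
    (hv : ∀ i, Q (v i) ≠ 0) (hperp : ∀ i j, i ≠ j → polar Q (v i) (v j) = 0) :
    k ≤ finrank F V := by
  have hli : LinearIndependent F v := by
    apply LinearMap.BilinForm.linearIndependent_of_iIsOrtho (B := polarBilin Q)
    · rw [LinearMap.BilinForm.iIsOrtho_def]
      intro i j hij
      exact hperp i j hij
    · intro i
      show polar Q (v i) (v i) ≠ 0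
      rw [polar_self']
      exact mul_ne_zero h2 (hv i)
  have := hli.fintype_card_le_finrank
  simpa using this

/-- The orthogonal complement of a family of pairwise orthogonal nonsingular vectors represents
every scalar when its dimension is at least two. -/
theorem exists_perp_rep [Finite F] [FiniteDimensional F V] (h2 : (2 : F) ≠ 0)
    (hQ : (polarBilin Q).Nondegenerate) {k : ℕ} (v : Fin k → V)
    (hv : ∀ i, Q (v i) ≠ 0) (hperp : ∀ i j, i ≠ j → polar Q (v i) (v j) = 0)
    (hdim : k + 2 ≤ finrank F V) (d : F) :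
    ∃ x, Q x = d ∧ ∀ i, polar Q (v i) x = 0 := by
  obtain ⟨U, hU⟩ : ∃ U : Submodule F V, U = Submodule.span F (Set.range v) := ⟨_, rfl⟩
  have hvU : ∀ i, v i ∈ U := fun i => by rw [hU]; exact Submodule.subset_span ⟨i, rfl⟩
  have hmem : ∀ x, (∀ i, polar Q (v i) x = 0) → x ∈ perp Q U := by
    intro x hx
    rw [mem_perp_iff]
    intro p hp
    rw [hU] at hp
    induction hp using Submodule.span_induction with
    | mem y hy =>
      obtain ⟨i, rfl⟩ := hy
      exact hx i
    | zero => simp
    | add a b _ _ ha hb => rw [polar_add_left, ha, hb, add_zero]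
    | smul c a _ ha => rw [polar_smul_left, ha, smul_zero]
  have hsup : U ⊔ perp Q U = ⊤ := by
    rw [eq_top_iff]
    intro x _
    obtain ⟨p, hp⟩ : ∃ p, p = ∑ i, ((2 * Q (v i))⁻¹ * polar Q (v i) x) • v i := ⟨_, rfl⟩
    have hpU : p ∈ U := by
      rw [hp]
      exact Submodule.sum_mem _ (fun i _ => Submodule.smul_mem _ _ (hvU i))
    have hrest : x - p ∈ perp Q U := by
      apply hmem
      intro j
      rw [polar_sub_right, hp]
      have e : polar Q (v j) (∑ i, ((2 * Q (v i))⁻¹ * polar Q (v i) x) • v i) =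
          ∑ i, ((2 * Q (v i))⁻¹ * polar Q (v i) x) * polar Q (v j) (v i) := by
        have := map_sum (polarBilin Q (v j))
          (fun i => ((2 * Q (v i))⁻¹ * polar Q (v i) x) • v i) Finset.univ
        simp only [polarBilin_apply_apply, polar_smul_right, smul_eq_mul] at this
        exact this
      rw [e, Finset.sum_eq_single j]
      · rw [polar_self']
        have := hv j
        field_simp
        ring
      · intro i _ hij
        rw [hperp j i (Ne.symm hij), mul_zero]
      · simp
    have e : x = p + (x - p) := by abel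
    rw [e]
    exact Submodule.add_mem_sup hpU hrest
  have hnd := nondeg_perp Q hQ U hsup
  have hfin : 2 ≤ finrank F (perp Q U) := by
    have h1 : finrank F U ≤ k := by
      have := finrank_range_le_card (R := F) v
      rw [Fintype.card_fin] at this
      rw [hU]
      exact this
    have h3 : finrank F V ≤ finrank F U + finrank F (perp Q U) := by
      have := Submodule.finrank_add_le_finrank_add_finrank U (perp Q U)
      rw [hsup, finrank_top] at this
      exact this
    omega
  obtain ⟨x, hx⟩ := exists_rep (QR Q (perp Q U)) hnd hfin d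
  refine ⟨(x : V), hx, fun i => ?_⟩
  exact (mem_perp_iff Q U x).1 x.2 (v i) (hvU i)

/-- The detour vector for a degenerate plane `⟨u, w⟩`: a vector `x` of the same norm as `u` such
that both planes `⟨u, x⟩` and `⟨x, w⟩` are nondegenerate. -/
theorem exists_detour [Fintype F] [FiniteDimensional F V] (h2 : (2 : F) ≠ 0)
    (hQ : (polarBilin Q).Nondegenerate)
    (hcase : 3 < Fintype.card F ∨ (3 ≤ finrank F V → 5 ≤ finrank F V))
    {u w : V} (hu : Q u ≠ 0) (hw : Q w ≠ 0)
    (hd0 : 4 * Q u * Q w - polar Q u w ^ 2 = 0)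
    (hnpar : w - ((2 * Q u)⁻¹ * polar Q u w) • u ≠ 0) :
    ∃ x, Q x = Q u ∧ 4 * Q u * Q x - polar Q u x ^ 2 ≠ 0 ∧
      4 * Q x * Q w - polar Q x w ^ 2 ≠ 0 := by
  classical
  have h4 : (4 : F) ≠ 0 := by
    have : (4 : F) = 2 * 2 := by norm_num
    rw [this]
    exact mul_ne_zero h2 h2
  obtain ⟨l, hl⟩ : ∃ l, l = (2 * Q u)⁻¹ * polar Q u w := ⟨_, rfl⟩
  obtain ⟨s, hs⟩ : ∃ s, s = w - l • u := ⟨_, rfl⟩
  rw [← hl, ← hs] at hnpar
  have hB : polar Q u w = 2 * Q u * l := by
    rw [hl]
    field_simp
  have hus : polar Q u s = 0 := by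
    rw [hs, polar_sub_right, polar_smul_right, polar_self', hB, smul_eq_mul]
    ring
  have hQw : Q w = l ^ 2 * Q u := by
    have e : 4 * Q u * (Q w - l ^ 2 * Q u) = 0 := by
      rw [hB] at hd0
      linear_combination hd0
    rcases mul_eq_zero.1 e with h | h
    · exact absurd h (mul_ne_zero h4 hu)
    · exact sub_eq_zero.1 h
  have hQs : Q s = 0 := by
    rw [hs, sub_eq_add_neg, ← neg_smul, QuadraticMap.map_add (⇑Q), QuadraticMap.map_smul,
      polar_smul_right, polar_comm Q w u, hB, hQw, smul_eq_mul, smul_eq_mul]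
    ring
  have hw' : w = l • u + s := by
    rw [hs]
    abel
  have hl0 : l ≠ 0 := by
    rintro rfl
    rw [hQw] at hw
    simp at hw
  obtain ⟨s', hs'Q, hss', hus'⟩ := exists_partner Q h2 hQ hu hnpar hQs hus
  obtain ⟨d, hd⟩ : ∃ d, d = Q u := ⟨_, rfl⟩
  rw [← hd] at hu hQw ⊢
  rcases hcase with hq | hdim
  · obtain ⟨b, hb⟩ : ∃ b : F, b ∉ ({0, 2 * l * d, -(2 * l * d)} : Finset F) := by
      by_contra hcon
      push Not at hcon
      have hsub : Finset.univ ⊆ ({0, 2 * l * d, -(2 * l * d)} : Finset F) := fun x _ => hcon x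
      have h1 := Finset.card_le_card hsub
      have h3 : ({0, 2 * l * d, -(2 * l * d)} : Finset F).card ≤ 3 := Finset.card_le_three
      rw [Finset.card_univ] at h1
      omega
    simp only [Finset.mem_insert, Finset.mem_singleton, not_or] at hb
    obtain ⟨hb0, hb1, hb2⟩ := hb
    have hux : polar Q u ((d / b) • s + b • s') = 0 := by
      rw [polar_lin_right, hus, hus']
      ring
    have hxs : polar Q ((d / b) • s + b • s') s = b := by
      rw [polar_lin_left, polar_self', hQs, polar_comm Q s' s, hss']
      ring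
    have hxw : polar Q ((d / b) • s + b • s') w = b := by
      rw [hw', polar_add_right, polar_smul_right, polar_comm Q _ u, hux, hxs]
      simp
    have hQx : Q ((d / b) • s + b • s') = d := by
      rw [Q_lin, hQs, hs'Q, hss']
      field_simp
      ring
    refine ⟨(d / b) • s + b • s', hQx, ?_, ?_⟩
    · rw [hux, hQx]
      have : 4 * d * d - 0 ^ 2 = 4 * (d * d) := by ring
      rw [this]
      exact mul_ne_zero h4 (mul_ne_zero hu hu)
    · rw [hxw, hQx, hQw]
      have : 4 * d * (l ^ 2 * d) - b ^ 2 = (2 * l * d - b) * (2 * l * d + b) := by ring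
      rw [this]
      apply mul_ne_zero
      · intro h
        exact hb1 (sub_eq_zero.1 h).symm
      · intro h
        apply hb2
        linear_combination h
  · have hQp : Q (s + s') = 1 := by
      rw [QuadraticMap.map_add (⇑Q), hQs, hs'Q, hss']
      ring
    have hQm : Q (s - s') = -1 := by
      rw [sub_eq_add_neg, QuadraticMap.map_add (⇑Q), QuadraticMap.map_neg, polar_neg_right, hQs,
        hs'Q, hss']
      ring
    have h12 : polar Q u (s + s') = 0 := by
      rw [polar_add_right, hus, hus', add_zero]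
    have h13 : polar Q u (s - s') = 0 := by
      rw [polar_sub_right, hus, hus', sub_zero]
    have h23 : polar Q (s + s') (s - s') = 0 := by
      rw [polar_add_left, polar_sub_right, polar_sub_right, polar_self', polar_self', hQs, hs'Q,
        polar_comm Q s' s, hss']
      ring
    let v : Fin 3 → V := ![u, s + s', s - s']
    have hv : ∀ i, Q (v i) ≠ 0 := by
      intro i
      fin_cases i
      · exact hd ▸ hu
      · show Q (s + s') ≠ 0
        rw [hQp]
        exact one_ne_zero
      · show Q (s - s') ≠ 0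
        rw [hQm]
        exact neg_ne_zero.2 one_ne_zero
    have hperp : ∀ i j, i ≠ j → polar Q (v i) (v j) = 0 := by
      intro i j hij
      fin_cases i <;> fin_cases j
      · exact absurd rfl hij
      · exact h12
      · exact h13
      · show polar Q (s + s') u = 0
        rw [polar_comm]
        exact h12
      · exact absurd rfl hij
      · exact h23
      · show polar Q (s - s') u = 0
        rw [polar_comm]
        exact h13
      · show polar Q (s - s') (s + s') = 0
        rw [polar_comm]
        exact h23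
      · exact absurd rfl hij
    have h3 := card_le_finrank_of_orth Q h2 v hv hperp
    have h5 := hdim h3
    obtain ⟨x, hQx, hx⟩ := exists_perp_rep Q h2 hQ v hv hperp (by omega) d
    have hux : polar Q u x = 0 := hx 0
    have hp : polar Q (s + s') x = 0 := hx 1
    have hm : polar Q (s - s') x = 0 := hx 2
    rw [polar_add_left] at hp
    rw [polar_sub_left] at hm
    have hsx : polar Q s x = 0 := by
      have e : 2 * polar Q s x = 0 := by linear_combination hp + hm
      rcases mul_eq_zero.1 e with h | h
      · exact absurd h h2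
      · exact h
    have hxw : polar Q x w = 0 := by
      rw [hw', polar_add_right, polar_smul_right, polar_comm Q x u, hux, polar_comm Q x s, hsx]
      simp
    refine ⟨x, hQx, ?_, ?_⟩
    · rw [hux, hQx]
      have : 4 * d * d - 0 ^ 2 = 4 * (d * d) := by ring
      rw [this]
      exact mul_ne_zero h4 (mul_ne_zero hu hu)
    · rw [hxw, hQx, hQw]
      have : 4 * d * (l ^ 2 * d) - 0 ^ 2 = 4 * (d * (l ^ 2 * d)) := by ring
      rw [this]
      exact mul_ne_zero h4 (mul_ne_zero hu (mul_ne_zero (pow_ne_zero 2 hl0) hu))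

end general

theorem isSquare_sq_mul_iff' {F : Type*} [Field F] {s t : F} (hs : s ≠ 0) :
    IsSquare (s ^ 2 * t) ↔ IsSquare t := by
  constructor
  · rintro ⟨r, hr⟩
    refine ⟨r / s, ?_⟩
    field_simp
    rw [mul_comm, hr]
    ring
  · rintro ⟨r, rfl⟩
    exact ⟨s * r, by ring⟩

section matrix

open Matrix

variable {ι : Type} [Fintype ι] [DecidableEq ι] {F : Type*} [Field F] [Fintype F]
  (Q : QuadraticForm F (ι → F))

/-- Nondegenerate plane: the product of two reflections with norms in the same square class lies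
in every subgroup containing the reflections of a fixed class. -/
theorem pair_mem_of_plane (H : Subgroup ↥(Cfsg.isometryGroup F ⇑Q)) {c : F} (hc : c ≠ 0)
    (hH : ∀ (z : ι → F) (t : F), t ≠ 0 → Q z = c * t ^ 2 → reflM Q z ∈ H)
    {u w : ι → F} (hu : Q u ≠ 0) (hw : Q w ≠ 0) (hsq : IsSquare (Q u * Q w))
    (hd : 4 * Q u * Q w - polar Q u w ^ 2 ≠ 0) : reflM Q u * reflM Q w ∈ H := by
  obtain ⟨s, t, hst⟩ := exists_plane_rep Q hd c
  obtain ⟨r, hr⟩ := hsq
  have hr0 : r ≠ 0 := by
    rintro rfl
    rw [mul_zero] at hr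
    exact mul_ne_zero hu hw hr
  have hz : Q (s • u + t • w) ≠ 0 := by
    rw [hst]
    exact hc
  have key := plane_rotation Q hu hw s t hz
  have e : reflM Q u * reflM Q w = reflM Q (s • u + t • w) *
      reflM Q ((-(t * Q w)) • u + (s * Q u + t * polar Q u w) • w) := by
    apply toOG_injective
    rw [map_mul, map_mul, toOG_reflM, toOG_reflM, toOG_reflM, toOG_reflM, key]
  rw [e]
  apply mul_mem
  · exact hH _ 1 one_ne_zero (by rw [hst]; ring)
  · exact hH _ r hr0 (by rw [Q_third, hst, hr]; ring)

/-- The product of two reflections with norms in the same square class lies in every subgroup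
containing the reflections of a fixed class. -/
theorem pair_mem (h2 : (2 : F) ≠ 0) (hQ : (polarBilin Q).Nondegenerate)
    (hcase : 3 < Fintype.card F ∨ (3 ≤ Fintype.card ι → 5 ≤ Fintype.card ι))
    (H : Subgroup ↥(Cfsg.isometryGroup F ⇑Q)) {c : F} (hc : c ≠ 0)
    (hH : ∀ (z : ι → F) (t : F), t ≠ 0 → Q z = c * t ^ 2 → reflM Q z ∈ H)
    {u w : ι → F} (hu : Q u ≠ 0) (hw : Q w ≠ 0) (hsq : IsSquare (Q u * Q w)) :
    reflM Q u * reflM Q w ∈ H := by
  by_cases hd : 4 * Q u * Q w - polar Q u w ^ 2 = 0
  · by_cases hpar : w - ((2 * Q u)⁻¹ * polar Q u w) • u = 0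
    · have hw' : w = ((2 * Q u)⁻¹ * polar Q u w) • u := sub_eq_zero.1 hpar
      have hl : (2 * Q u)⁻¹ * polar Q u w ≠ 0 := by
        intro h
        rw [h, zero_smul] at hw'
        rw [hw', map_zero] at hw
        exact hw rfl
      have e : reflM Q w = reflM Q u := by
        apply toOG_injective
        rw [toOG_reflM, toOG_reflM, hw', reflE_smul Q hl]
      rw [e, reflM_mul_self]
      exact one_mem _
    · have hcase' : 3 < Fintype.card F ∨ (3 ≤ finrank F (ι → F) → 5 ≤ finrank F (ι → F)) := by
        rw [Module.finrank_fintype_fun_eq_card]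
        exact hcase
      obtain ⟨x, hx, hd1, hd2⟩ := exists_detour Q h2 hQ hcase' hu hw hd hpar
      have hx0 : Q x ≠ 0 := by
        rw [hx]
        exact hu
      have e : reflM Q u * reflM Q w = (reflM Q u * reflM Q x) * (reflM Q x * reflM Q w) := by
        rw [mul_assoc, ← mul_assoc (reflM Q x), reflM_mul_self, one_mul]
      rw [e]
      apply mul_mem
      · apply pair_mem_of_plane Q H hc hH hu hx0 _ hd1
        rw [hx]
        exact ⟨Q u, rfl⟩
      · apply pair_mem_of_plane Q H hc hH hx0 hw _ hd2
        rw [hx]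
        exact hsq
  · exact pair_mem_of_plane Q H hc hH hu hw hsq hd

/-- The set of reflections whose vector has norm in the class `c·(Fˣ)²`. -/
def classSet (c : F) : Set ↥(Cfsg.isometryGroup F ⇑Q) :=
  {g | ∃ (v : ι → F) (t : F), t ≠ 0 ∧ Q v = c * t ^ 2 ∧
    ((g : GL ι F) : Matrix ι ι F) = Cfsg.reflectionMatrix ⇑Q v}

theorem reflM_mem_class {c : F} {z : ι → F} {t : F} (ht : t ≠ 0) (hz : Q z = c * t ^ 2) :
    reflM Q z ∈ Subgroup.closure (classSet Q c) :=
  Subgroup.subset_closure ⟨z, t, ht, hz, reflM_coe Q z⟩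

theorem class_word {c : F} {g : ↥(Cfsg.isometryGroup F ⇑Q)}
    (hg : g ∈ Subgroup.closure (classSet Q c)) :
    ∃ ws : List (ι → F), (∀ w ∈ ws, ∃ t : F, t ≠ 0 ∧ Q w = c * t ^ 2) ∧ wordG Q ws = g := by
  induction hg using Subgroup.closure_induction with
  | mem x hx =>
    obtain ⟨v, t, ht, hv, hx⟩ := hx
    refine ⟨[v], ?_, ?_⟩
    · intro w hw
      rw [List.mem_singleton] at hw
      subst hw
      exact ⟨t, ht, hv⟩
    · rw [wordG_singleton]
      exact (eq_reflM_of_coe Q hx).symm
  | one => exact ⟨[], by simp, wordG_nil Q⟩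
  | mul a b _ _ ha hb =>
    obtain ⟨as, has, rfl⟩ := ha
    obtain ⟨bs, hbs, rfl⟩ := hb
    refine ⟨as ++ bs, ?_, wordG_append Q as bs⟩
    intro w hw
    rcases List.mem_append.1 hw with h | h
    · exact has w h
    · exact hbs w h
  | inv a _ ha =>
    obtain ⟨as, has, rfl⟩ := ha
    refine ⟨as.reverse, ?_, (wordG_inv Q as).symm⟩
    intro w hw
    exact has w (List.mem_reverse.1 hw)

theorem class_normProd {c : F} : ∀ ws : List (ι → F),
    (∀ w ∈ ws, ∃ t : F, t ≠ 0 ∧ Q w = c * t ^ 2) →
    ∃ r : F, r ≠ 0 ∧ normProd Q ws = c ^ ws.length * r ^ 2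
  | [] => fun _ => ⟨1, one_ne_zero, by simp [normProd_nil]⟩
  | w :: ws => by
    intro h
    obtain ⟨t, ht, hw⟩ := h w (List.mem_cons_self ..)
    obtain ⟨r, hr, hn⟩ := class_normProd ws (fun x hx => h x (List.mem_cons_of_mem _ hx))
    refine ⟨t * r, mul_ne_zero ht hr, ?_⟩
    rw [normProd_cons, hw, hn, List.length_cons]
    ring

theorem class_normal (c : F) : (Subgroup.closure (classSet Q c)).Normal := by
  constructor
  intro n hn g
  induction hn using Subgroup.closure_induction with
  | mem x hx =>
    obtain ⟨v, t, ht, hv, hx⟩ := hx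
    rw [eq_reflM_of_coe Q hx, conj_reflM]
    apply reflM_mem_class Q ht
    have := toOG_mem_OG Q g v
    rw [toOG_apply] at this
    rw [this, hv]
  | one =>
    rw [mul_one, mul_inv_cancel]
    exact one_mem _
  | mul a b _ _ ha hb =>
    have : g * (a * b) * g⁻¹ = (g * a * g⁻¹) * (g * b * g⁻¹) := by group
    rw [this]
    exact mul_mem ha hb
  | inv a _ ha =>
    have : g * a⁻¹ * g⁻¹ = (g * a * g⁻¹)⁻¹ := by group
    rw [this]
    exact inv_mem ha

/-- In odd characteristic and even dimension (or more generally whenever `(n, q) ≠ (4, 3)` and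
`(n, q) ≠ (3, 3)`), the reflections of a fixed norm class generate a subgroup of index two. -/
theorem index_class_closure (h2 : (2 : F) ≠ 0) (hQ : (polarBilin Q).Nondegenerate)
    (hn : 2 ≤ Fintype.card ι)
    (hcase : 3 < Fintype.card F ∨ (3 ≤ Fintype.card ι → 5 ≤ Fintype.card ι))
    {c : F} (hc : c ≠ 0) : (Subgroup.closure (classSet Q c)).index = 2 := by
  obtain ⟨H, hHdef⟩ : ∃ H, H = Subgroup.closure (classSet Q c) := ⟨_, rfl⟩
  rw [← hHdef]
  have hN : H.Normal := by
    rw [hHdef]
    exact class_normal Q c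
  have hH : ∀ (z : ι → F) (t : F), t ≠ 0 → Q z = c * t ^ 2 → reflM Q z ∈ H := by
    intro z t ht hz
    rw [hHdef]
    exact reflM_mem_class Q ht hz
  have hfin : 2 ≤ finrank F (ι → F) := by
    rw [Module.finrank_fintype_fun_eq_card]
    exact hn
  obtain ⟨ν, hν⟩ := FiniteField.exists_nonsquare (ringChar_ne_two h2)
  have hν0 : ν ≠ 0 := by
    rintro rfl
    exact hν ⟨0, by simp⟩
  obtain ⟨u₀, hu₀⟩ := exists_rep Q hQ hfin (c * ν)
  have hu₀0 : Q u₀ ≠ 0 := by
    rw [hu₀]
    exact mul_ne_zero hc hν0
  have haa : reflM Q u₀ * reflM Q u₀ = 1 := reflM_mul_self Q u₀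
  rw [Subgroup.index_eq_two_iff_exists_notMem_and]
  refine ⟨reflM Q u₀, ?_, ?_⟩
  · intro hmem
    rw [hHdef] at hmem
    obtain ⟨ws, hws, hw⟩ := class_word Q hmem
    obtain ⟨r, hr, hnp⟩ := class_normProd Q ws hws
    have h1 : wordG Q (u₀ :: ws.reverse) = 1 := by
      rw [wordG_cons, ← wordG_inv, hw, mul_inv_cancel]
    have hvs : ∀ v ∈ u₀ :: ws.reverse, Q v ≠ 0 := by
      intro v hv
      rcases List.mem_cons.1 hv with rfl | h
      · exact hu₀0
      · obtain ⟨t, ht, hv'⟩ := hws v (List.mem_reverse.1 h)
        rw [hv']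
        exact mul_ne_zero hc (pow_ne_zero 2 ht)
    obtain ⟨hev, hsq⟩ := wd Q h2 hQ hvs h1
    rw [List.length_cons, List.length_reverse] at hev
    obtain ⟨m, hm⟩ : ∃ m, ws.length = 2 * m + 1 := by
      rcases Nat.even_or_odd' ws.length with ⟨m, h | h⟩
      · exfalso
        rw [h] at hev
        rcases hev with ⟨k, hk⟩
        omega
      · exact ⟨m, h⟩
    rw [normProd_cons, normProd_reverse, hnp, hu₀, hm] at hsq
    have e : c * ν * (c ^ (2 * m + 1) * r ^ 2) = (c ^ (m + 1) * r) ^ 2 * ν := by ring
    rw [e, isSquare_sq_mul_iff' (mul_ne_zero (pow_ne_zero _ hc) hr)] at hsq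
    exact hν hsq
  · intro b
    obtain ⟨vs, hvs, rfl⟩ := exists_word Q h2 hQ b
    induction vs with
    | nil =>
      right
      rw [wordG_nil]
      exact one_mem _
    | cons v vs ih =>
      have hv0 : Q v ≠ 0 := hvs v (List.mem_cons_self ..)
      have ih' := ih (fun x hx => hvs x (List.mem_cons_of_mem _ hx))
      rw [wordG_cons]
      by_cases hcl : IsSquare (c * Q v)
      · have hvH : reflM Q v ∈ H := by
          obtain ⟨r, hr⟩ := hcl
          have hr0 : r ≠ 0 := by
            rintro rfl
            rw [mul_zero] at hr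
            exact mul_ne_zero hc hv0 hr
          apply hH v (r / c) (div_ne_zero hr0 hc)
          field_simp
          rw [mul_comm, hr]
          ring
        rcases ih' with h | h
        · left
          rw [mul_assoc]
          exact mul_mem hvH h
        · right
          exact mul_mem hvH h
      · have hsq : IsSquare (Q v * Q u₀) := by
          have h3 : ¬ IsSquare (c * Q u₀) := by
            rw [hu₀]
            have e : c * (c * ν) = c ^ 2 * ν := by ring
            rw [e, isSquare_sq_mul_iff' hc]
            exact hν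
          have h4 : IsSquare ((c * Q v) * (c * Q u₀)) := by
            rw [isSquare_mul_iff (mul_ne_zero hc hv0) (mul_ne_zero hc hu₀0)]
            exact ⟨fun h => absurd h hcl, fun h => absurd h h3⟩
          have e : c * Q v * (c * Q u₀) = c ^ 2 * (Q v * Q u₀) := by ring
          rw [e, isSquare_sq_mul_iff' hc] at h4
          exact h4
        have hva : reflM Q v * reflM Q u₀ ∈ H := pair_mem Q h2 hQ hcase H hc hH hv0 hu₀0 hsq
        rcases ih' with h | h
        · right
          have h5 := hN.conj_mem _ h (reflM Q u₀)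
          have e1 : reflM Q u₀ * (wordG Q vs * reflM Q u₀) * (reflM Q u₀)⁻¹ =
              reflM Q u₀ * wordG Q vs := by
            rw [mul_assoc, mul_assoc, mul_inv_cancel, mul_one]
          rw [e1] at h5
          have e2 : reflM Q v * wordG Q vs =
              (reflM Q v * reflM Q u₀) * (reflM Q u₀ * wordG Q vs) := by
            rw [mul_assoc, ← mul_assoc (reflM Q u₀), haa, one_mul]
          rw [e2]
          exact mul_mem hva h5
        · left
          have h5 := hN.conj_mem _ h (reflM Q v)
          have e2 : reflM Q v * wordG Q vs * reflM Q u₀ =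
              (reflM Q v * wordG Q vs * (reflM Q v)⁻¹) * (reflM Q v * reflM Q u₀) := by
            group
          rw [e2]
          exact mul_mem h5 hva

end matrix

end Cfsg.Agent.Lib.Helper25.ReflClass
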