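import Cfsg.Agent.Lib.Helper25.ReflF3

set_option autoImplicit false

/-!
# Primitivity of the orthogonal reflection groups over `𝔽₃` on their class of reflections
-/

namespace Cfsg.Agent.Lib.Helper25.ReflClass

open Module QuadraticMap Matrix Cfsg.Agent.Lib.Helper25.CD Cfsg.Agent.Lib.Helper25.Spin

section prim

variable {n : ℕ} (Q : QuadraticForm (ZMod 3) (Fin n → ZMod 3))

theorem zmod3_cases : ∀ a c : ZMod 3, a ≠ 0 → c ≠ 0 → a = c ∨ a = -c := by decide

theorem zmod3_mul_self (c : ZMod 3) (hc : c ≠ 0) : c * c = 1 := by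
  have := sq_eq_one_zmod3 c hc
  rwa [pow_two] at this

theorem zmod3_inv (c : ZMod 3) (hc : c ≠ 0) : c⁻¹ = c :=
  inv_eq_of_mul_eq_one_left (zmod3_mul_self c hc)

theorem zmod3_three : (3 : ZMod 3) = 0 := by decide

theorem finrank_fin : finrank (ZMod 3) (Fin n → ZMod 3) = n := by
  rw [Module.finrank_fintype_fun_eq_card, Fintype.card_fin]

/-- a vector of norm `c` perpendicular to a given vector of norm `c` -/
theorem exists_perp_one (hn : 3 ≤ n) (hQ : (polarBilin Q).Nondegenerate) {c : ZMod 3}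
    (hc : c ≠ 0) {x : Fin n → ZMod 3} (hx : Q x = c) (d : ZMod 3) :
    ∃ z, Q z = d ∧ polar Q x z = 0 := by
  have h2 : (2 : ZMod 3) ≠ 0 := by decide
  let v : Fin 1 → (Fin n → ZMod 3) := ![x]
  have hv : ∀ i, Q (v i) ≠ 0 := by
    intro i
    fin_cases i
    show Q x ≠ 0
    rw [hx]; exact hc
  have hperp : ∀ i j, i ≠ j → polar Q (v i) (v j) = 0 := by
    intro i j hij
    fin_cases i; fin_cases j
    exact absurd rfl hij
  obtain ⟨z, hz, hzv⟩ := exists_perp_rep Q h2 hQ v hv hperp (by rw [finrank_fin]; omega) d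
  exact ⟨z, hz, hzv 0⟩

/-- a vector of prescribed norm perpendicular to two orthogonal vectors of norm `c` -/
theorem exists_perp_two (hn : 4 ≤ n) (hQ : (polarBilin Q).Nondegenerate) {c : ZMod 3}
    (hc : c ≠ 0) {x y : Fin n → ZMod 3} (hx : Q x = c) (hy : Q y = c) (hxy : polar Q x y = 0)
    (d : ZMod 3) :
    ∃ z, Q z = d ∧ polar Q x z = 0 ∧ polar Q y z = 0 := by
  have h2 : (2 : ZMod 3) ≠ 0 := by decide
  let v : Fin 2 → (Fin n → ZMod 3) := ![x, y]
  have hv : ∀ i, Q (v i) ≠ 0 := by
    intro i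
    fin_cases i
    · show Q x ≠ 0
      rw [hx]; exact hc
    · show Q y ≠ 0
      rw [hy]; exact hc
  have hperp : ∀ i j, i ≠ j → polar Q (v i) (v j) = 0 := by
    intro i j hij
    fin_cases i <;> fin_cases j
    · exact absurd rfl hij
    · exact hxy
    · show polar Q y x = 0
      rw [polar_comm]; exact hxy
    · exact absurd rfl hij
  obtain ⟨z, hz, hzv⟩ := exists_perp_rep Q h2 hQ v hv hperp (by rw [finrank_fin]; omega) d
  exact ⟨z, hz, hzv 0, hzv 1⟩

/-- a vector of prescribed norm perpendicular to three pairwise orthogonal nonsingular vectors -/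
theorem exists_perp_three (hn : 5 ≤ n) (hQ : (polarBilin Q).Nondegenerate)
    {x y w : Fin n → ZMod 3} (hx : Q x ≠ 0) (hy : Q y ≠ 0) (hw : Q w ≠ 0)
    (hxy : polar Q x y = 0) (hxw : polar Q x w = 0) (hyw : polar Q y w = 0) (d : ZMod 3) :
    ∃ z, Q z = d ∧ polar Q x z = 0 ∧ polar Q y z = 0 ∧ polar Q w z = 0 := by
  have h2 : (2 : ZMod 3) ≠ 0 := by decide
  let v : Fin 3 → (Fin n → ZMod 3) := ![x, y, w]
  have hv : ∀ i, Q (v i) ≠ 0 := by
    intro i
    fin_cases i
    · exact hx
    · exact hy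
    · exact hw
  have hperp : ∀ i j, i ≠ j → polar Q (v i) (v j) = 0 := by
    intro i j hij
    fin_cases i <;> fin_cases j
    · exact absurd rfl hij
    · exact hxy
    · exact hxw
    · show polar Q y x = 0
      rw [polar_comm]; exact hxy
    · exact absurd rfl hij
    · exact hyw
    · show polar Q w x = 0
      rw [polar_comm]; exact hxw
    · show polar Q w y = 0
      rw [polar_comm]; exact hyw
    · exact absurd rfl hij
  obtain ⟨z, hz, hzv⟩ := exists_perp_rep Q h2 hQ v hv hperp (by rw [finrank_fin]; omega) d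
  exact ⟨z, hz, hzv 0, hzv 1, hzv 2⟩

/-- Any two vectors of norm `c` have a common perpendicular of norm `c` (`n ≥ 5`). -/
theorem exists_common_perp (hn : 5 ≤ n) (hQ : (polarBilin Q).Nondegenerate) {c : ZMod 3}
    (hc : c ≠ 0) {x y : Fin n → ZMod 3} (hx : Q x = c) (hy : Q y = c) :
    ∃ z, Q z = c ∧ polar Q x z = 0 ∧ polar Q y z = 0 := by
  have h2 : (2 : ZMod 3) ≠ 0 := by decide
  have h3 := zmod3_three
  by_cases hB : polar Q x y = 0
  · exact exists_perp_two Q (by omega) hQ hc hx hy hB c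
  -- reduce to `polar Q x y = c`
  have key : ∀ x : Fin n → ZMod 3, Q x = c → polar Q x y = c →
      ∃ z, Q z = c ∧ polar Q x z = 0 ∧ polar Q y z = 0 := by
    intro x hx hB
    obtain ⟨x', hx'⟩ : ∃ x', x' = y + x := ⟨_, rfl⟩
    have hQx' : Q x' = 0 := by
      rw [hx', QuadraticMap.map_add (⇑Q), hy, hx, polar_comm, hB]
      linear_combination c * h3
    have hxx' : polar Q x x' = 0 := by
      rw [hx', polar_add_right, hB, polar_self', hx]
      linear_combination c * h3
    have hyx' : polar Q y x' = 0 := by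
      rw [hx', polar_add_right, polar_self', hy, polar_comm, hB]
      linear_combination c * h3
    by_cases h0 : x' = 0
    · obtain ⟨z, hz, hxz⟩ := exists_perp_one Q (by omega) hQ hc hx c
      refine ⟨z, hz, hxz, ?_⟩
      have : y = -x := by
        rw [hx'] at h0
        exact eq_neg_of_add_eq_zero_left h0
      rw [this, polar_neg_left, hxz, neg_zero]
    · obtain ⟨x'', hQx'', hp, hxx''⟩ := exists_partner Q h2 hQ (u := x) (s := x')
        (by rw [hx]; exact hc) h0 hQx' hxx'
      have hp' : polar Q x'' x' = 1 := by rw [polar_comm]; exact hp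
      have hn1 : Q (x' + x'') = 1 := by
        rw [QuadraticMap.map_add (⇑Q), hQx', hQx'', hp]
        ring
      have hn2 : Q (x' - x'') = -1 := by
        rw [sub_eq_add_neg, QuadraticMap.map_add (⇑Q), QuadraticMap.map_neg, polar_neg_right, hQx',
          hQx'', hp]
        ring
      obtain ⟨z, hz, hz1, hz2, hz3⟩ := exists_perp_three Q hn hQ (x := x) (y := x' + x'')
        (w := x' - x'') (by rw [hx]; exact hc) (by rw [hn1]; exact one_ne_zero)
        (by rw [hn2]; exact neg_ne_zero.2 one_ne_zero)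
        (by rw [polar_add_right, hxx', hxx'', add_zero])
        (by rw [polar_sub_right, hxx', hxx'', sub_zero])
        (by
          rw [polar_add_left, polar_sub_right, polar_sub_right, polar_self', polar_self', hQx',
            hQx'', hp, hp']
          ring) c
      rw [polar_add_left] at hz2
      rw [polar_sub_left] at hz3
      have hx'z : polar Q x' z = 0 := by
        have : (2 : ZMod 3) * polar Q x' z = 0 := by linear_combination hz2 + hz3
        exact (mul_eq_zero.1 this).resolve_left h2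
      refine ⟨z, hz, hz1, ?_⟩
      have : y = x' - x := by rw [hx']; abel
      rw [this, polar_sub_left, hx'z, hz1, sub_zero]
  rcases zmod3_cases _ c hB hc with h | h
  · exact key x hx h
  · obtain ⟨z, hz, h1, h2'⟩ := key (-x) (by rw [QuadraticMap.map_neg, hx])
      (by rw [polar_neg_left, h, neg_neg])
    refine ⟨z, hz, ?_, h2'⟩
    rw [polar_neg_left, neg_eq_zero] at h1
    exact h1

/-- The combinatorial core of primitivity. -/
theorem prim_vectors (hn : 5 ≤ n) (hQ : (polarBilin Q).Nondegenerate) {c : ZMod 3} (hc : c ≠ 0)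
    (S : Set (Fin n → ZMod 3)) (hS1 : ∀ v ∈ S, Q v = c)
    (hS2 : ∀ v ∈ S, ∀ z, Q z = c → polar Q z v = 0 → ∀ x ∈ S, reflE Q z x ∈ S)
    (hS3 : ∀ v ∈ S, ∀ x ∈ S, reflE Q v x ∈ S)
    (hS4 : ∃ v ∈ S, ∃ w ∈ S, w ≠ v ∧ w ≠ -v) :
    ∀ x, Q x = c → x ∈ S := by
  have h2 : (2 : ZMod 3) ≠ 0 := by decide
  have h3 := zmod3_three
  have hci := zmod3_inv c hc
  have hcc : c * c = 1 := zmod3_mul_self c hc
  have neg_mem : ∀ v ∈ S, -v ∈ S := by
    intro v hv
    have := hS3 v hv v hv
    rw [reflE_apply, polar_self', hS1 v hv, hci] at this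
    have e : v - (c * (2 * c)) • v = -v := by
      have : c * (2 * c) = 2 := by linear_combination 2 * hcc
      rw [this]
      module
    rw [e] at this
    exact this
  -- step A1
  have stepA1 : ∀ v ∈ S, ∀ w ∈ S, ∀ x, Q x = c → polar Q x v = 0 → polar Q w x ≠ 0 → x ∈ S := by
    intro v hv w hw x hx hxv hwx
    have h1 := hS2 v hv x hx hxv w hw
    have h4 := hS3 w hw _ h1
    have hwc := hS1 w hw
    rw [polar_comm] at hwx
    rcases zmod3_cases _ c hwx hc with h | h
    · have e : reflE Q w (reflE Q x w) = -x := by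
        rw [reflE_apply Q x w, hx, h, hci, reflE_apply, hwc, hci, polar_sub_right, polar_smul_right,
          polar_self', hwc, polar_comm Q w x, h, hcc]
        simp only [smul_eq_mul, one_mul, one_smul]
        have e1 : c * (2 * c - c) = 1 := by linear_combination hcc
        rw [e1]
        module
      rw [e] at h4
      have := neg_mem _ h4
      rwa [neg_neg] at this
    · have e : reflE Q w (reflE Q x w) = x := by
        rw [reflE_apply Q x w, hx, h, hci, reflE_apply, hwc, hci, polar_sub_right, polar_smul_right,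
          polar_self', hwc, polar_comm Q w x, h]
        have e0 : c * -c = -1 := by linear_combination -hcc
        rw [e0]
        simp only [smul_eq_mul]
        have e1 : c * (2 * c - -1 * -c) = 1 := by linear_combination hcc
        rw [e1]
        module
      rw [e] at h4
      exact h4
  -- step A
  have stepA : ∀ v ∈ S, ∀ w ∈ S, polar Q v w = 0 → ∀ x, Q x = c → polar Q x v = 0 → x ∈ S := by
    intro v hv w hw hvw x hx hxv
    by_cases hwx : polar Q w x = 0
    · have hvc := hS1 v hv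
      have hwc := hS1 w hw
      have hvx : polar Q v x = 0 := by rw [polar_comm]; exact hxv
      obtain ⟨y, hy, hy1, hy2, hy3⟩ := exists_perp_three Q hn hQ (x := v) (y := w) (w := x)
        (by rw [hvc]; exact hc) (by rw [hwc]; exact hc) (by rw [hx]; exact hc) hvw hvx hwx (-c)
      have hzc : Q (w + x + y) = c := by
        rw [QuadraticMap.map_add (⇑Q), QuadraticMap.map_add (⇑Q), polar_add_left, hwc, hx, hy, hwx,
          hy2, hy3]
        ring
      have hzv : polar Q (w + x + y) v = 0 := by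
        rw [polar_add_left, polar_add_left, polar_comm Q w v, hvw, hxv, polar_comm Q y v, hy1]
        ring
      have h2c : 2 * c ≠ 0 := mul_ne_zero h2 hc
      have hwz : polar Q w (w + x + y) ≠ 0 := by
        rw [polar_add_right, polar_add_right, polar_self', hwc, hwx, hy2]
        simpa using h2c
      have hzx : polar Q (w + x + y) x ≠ 0 := by
        rw [polar_add_left, polar_add_left, polar_self', hx, hwx, polar_comm Q y x, hy3]
        simpa using h2c
      have hz := stepA1 v hv w hw _ hzc hzv hwz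
      exact stepA1 v hv _ hz x hx hxv hzx
    · exact stepA1 v hv w hw x hx hxv hwx
  -- an orthogonal pair in `S`
  have hpair : ∃ a ∈ S, ∃ b ∈ S, polar Q a b = 0 := by
    obtain ⟨v, hv, w, hw, hne1, hne2⟩ := hS4
    by_cases hvw : polar Q v w = 0
    · exact ⟨v, hv, w, hw, hvw⟩
    have key : ∀ w ∈ S, w ≠ v → w ≠ -v → polar Q v w = c → ∃ a ∈ S, ∃ b ∈ S, polar Q a b = 0 := by
      intro w hw hne1 hne2 hB
      have hvc := hS1 v hv
      have hwc := hS1 w hw
      obtain ⟨v', hv'⟩ : ∃ v', v' = v + w := ⟨_, rfl⟩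
      have hv'0 : v' ≠ 0 := by
        intro h
        rw [hv'] at h
        apply hne2
        exact eq_neg_of_add_eq_zero_right h
      have hQv' : Q v' = 0 := by
        rw [hv', QuadraticMap.map_add (⇑Q), hvc, hwc, hB]
        linear_combination c * h3
      have hwv' : polar Q w v' = 0 := by
        rw [hv', polar_add_right, polar_self', hwc, polar_comm, hB]
        linear_combination c * h3
      obtain ⟨v'', hQv'', hp, hwv''⟩ := exists_partner Q h2 hQ (u := w) (s := v')
        (by rw [hwc]; exact hc) hv'0 hQv' hwv'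
      obtain ⟨u, hu⟩ : ∃ u, u = c • v' + v'' := ⟨_, rfl⟩
      have huc : Q u = c := by
        rw [hu, QuadraticMap.map_add (⇑Q), QuadraticMap.map_smul, hQv', hQv'', polar_smul_left, hp]
        simp
      have huw : polar Q u w = 0 := by
        rw [hu, polar_add_left, polar_smul_left, polar_comm Q v' w, hwv', polar_comm Q v'' w, hwv'']
        simp
      have huv' : polar Q u v' = 1 := by
        rw [hu, polar_add_left, polar_smul_left, polar_self', hQv', polar_comm Q v'' v', hp]
        simp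
      have huv : polar Q u v = 1 := by
        have : v = v' - w := by rw [hv']; abel
        rw [this, polar_sub_right, huv', huw, sub_zero]
      have ha := hS2 w hw u huc huw v hv
      have hb := hS3 w hw v hv
      refine ⟨_, ha, _, hb, ?_⟩
      rw [reflE_apply, reflE_apply, huc, hwc, huv, polar_comm Q w v, hB, hci, hcc, mul_one, one_smul,
        polar_sub_left, polar_sub_right, polar_sub_right, polar_smul_left, polar_smul_left,
        polar_self', hvc, hB, huv, huw]
      simp only [smul_eq_mul, mul_one, mul_zero, sub_zero]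
      ring
    rcases zmod3_cases _ c hvw hc with h | h
    · exact key w hw hne1 hne2 h
    · apply key (-w) (neg_mem w hw)
      · intro h'
        apply hne2
        rw [← h', neg_neg]
      · intro h'
        apply hne1
        exact neg_injective h'
      · rw [polar_neg_right, h, neg_neg]
  obtain ⟨a, ha, b, hb, hab⟩ := hpair
  intro x hx
  obtain ⟨z, hz, haz, hxz⟩ := exists_common_perp Q hn hQ hc (hS1 a ha) hx
  have hzS : z ∈ S := stepA a ha b hb hab z hz (by rw [polar_comm]; exact haz)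
  exact stepA z hzS a ha (by rw [polar_comm]; exact haz) x hx hxz

end prim

end Cfsg.Agent.Lib.Helper25.ReflClass

namespace Cfsg.Agent.Lib.Helper25.ReflClass

open Module QuadraticMap Matrix Cfsg.Agent.Lib.Helper25.CD Cfsg.Agent.Lib.Helper25.Spin

section blocks

variable {n : ℕ} (Q : QuadraticForm (ZMod 3) (Fin n → ZMod 3))

theorem reflM_inv' (v : Fin n → ZMod 3) : (reflM Q v)⁻¹ = reflM Q v :=
  inv_eq_of_mul_eq_one_left (reflM_mul_self Q v)

theorem reflE_self' {v : Fin n → ZMod 3} (hv : Q v ≠ 0) : reflE Q v v = -v := by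
  rw [reflE_apply, polar_self']
  have : (Q v)⁻¹ * (2 * Q v) = 2 := by field_simp
  rw [this]
  module

theorem reflM_ne_of_perp {v w : Fin n → ZMod 3} (hw : Q w ≠ 0) (hvw : polar Q v w = 0) :
    reflM Q v ≠ reflM Q w := by
  intro h
  have h1 : reflE Q v w = reflE Q w w := by
    rw [← toOG_reflM, ← toOG_reflM, h]
  rw [reflE_of_perp Q hvw, reflE_self' Q hw] at h1
  have h2 : (2 : ZMod 3) ≠ 0 := by decide
  have h3 : (2 : ZMod 3) • w = 0 := by
    rw [two_smul]
    nth_rewrite 1 [h1]
    exact neg_add_cancel w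
  have hw0 : w = 0 := by
    rcases smul_eq_zero.1 h3 with h | h
    · exact absurd h h2
    · exact h
  apply hw
  rw [hw0, QuadraticMap.map_zero]

/-- The reflection group acts primitively by conjugation on its reflections of norm `c`. -/
theorem isPrimitiveUnderConj_refl (hn : 5 ≤ n) (hQ : (polarBilin Q).Nondegenerate) {c : ZMod 3}
    (hc : c ≠ 0) :
    Cfsg.IsPrimitiveUnderConj {g : ↥(Cfsg.reflectionSubgroup (⇑Q) c) |
      (g : ↥(Cfsg.isometryGroup (ZMod 3) (⇑Q))) ∈ Cfsg.reflectionsOfNorm (⇑Q) c} := by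
  have h2 : (2 : ZMod 3) ≠ 0 := by decide
  have hfin : 2 ≤ Module.finrank (ZMod 3) (Fin n → ZMod 3) := by
    rw [finrank_fin]
    omega
  have hD : ∀ d : ↥(Cfsg.reflectionSubgroup (⇑Q) c),
      (d : ↥(Cfsg.isometryGroup (ZMod 3) (⇑Q))) ∈ Cfsg.reflectionsOfNorm (⇑Q) c →
      ∃ v : Fin n → ZMod 3, Q v = c ∧ (d : ↥(Cfsg.isometryGroup (ZMod 3) (⇑Q))) = reflM Q v := by
    rintro d ⟨v, hv, hd⟩
    exact ⟨v, hv, eq_reflM_of_coe Q hd⟩
  have hmem : ∀ v : Fin n → ZMod 3, Q v = c → reflM Q v ∈ Cfsg.reflectionSubgroup (⇑Q) c :=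
    fun v hv => Subgroup.subset_closure ⟨v, hv, reflM_coe Q v⟩
  have hmemD : ∀ (v : Fin n → ZMod 3) (hv : Q v = c),
      (⟨reflM Q v, hmem v hv⟩ : ↥(Cfsg.reflectionSubgroup (⇑Q) c)) ∈
        {g : ↥(Cfsg.reflectionSubgroup (⇑Q) c) |
          (g : ↥(Cfsg.isometryGroup (ZMod 3) (⇑Q))) ∈ Cfsg.reflectionsOfNorm (⇑Q) c} :=
    fun v hv => ⟨v, hv, reflM_coe Q v⟩
  refine ⟨?_, ?_, ?_⟩
  · intro a ha b hb
    obtain ⟨u, hu, hau⟩ := hD a ha
    obtain ⟨w, hw, hbw⟩ := hD b hb
    obtain ⟨g, hg, hgc⟩ := exists_conj_F3 Q (by omega) hQ hc hu hw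
    refine ⟨⟨g, hg⟩, ?_⟩
    apply Subtype.ext
    rw [Subgroup.coe_mul, Subgroup.coe_mul, Subgroup.coe_inv]
    show g * (a : ↥(Cfsg.isometryGroup (ZMod 3) (⇑Q))) * g⁻¹ = b
    rw [hau, hgc, hbw]
  · obtain ⟨v, hv⟩ := exists_rep Q hQ hfin c
    obtain ⟨w, hw, hvw⟩ := exists_perp_one Q (by omega) hQ hc hv c
    refine ⟨_, hmemD v hv, _, hmemD w hw, ?_⟩
    intro h
    have := congrArg Subtype.val h
    exact reflM_ne_of_perp Q (by rw [hw]; exact hc) hvw this
  · intro B hBD hblk
    by_cases hsub : B.Subsingleton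
    · exact Or.inl hsub
    right
    -- the key consequence of the block property
    have hF : ∀ g : ↥(Cfsg.reflectionSubgroup (⇑Q) c), ∀ a ∈ B, g * a * g⁻¹ = a →
        ∀ x ∈ B, g * x * g⁻¹ ∈ B := by
      intro g a ha hga x hx
      rcases hblk g with h | h
      · rw [← h]
        exact ⟨x, hx, rfl⟩
      · exfalso
        exact Set.disjoint_left.1 h ⟨a, ha, hga⟩ ha
    obtain ⟨S, hSdef⟩ : ∃ S : Set (Fin n → ZMod 3), S = {v | Q v = c ∧ ∃ b ∈ B,
        (b : ↥(Cfsg.isometryGroup (ZMod 3) (⇑Q))) = reflM Q v} := ⟨_, rfl⟩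
    have hS1 : ∀ v ∈ S, Q v = c := by
      intro v hv
      rw [hSdef] at hv
      exact hv.1
    have hS2 : ∀ v ∈ S, ∀ z, Q z = c → polar Q z v = 0 → ∀ x ∈ S, reflE Q z x ∈ S := by
      intro v hv z hz hzv x hx
      rw [hSdef] at hv hx ⊢
      obtain ⟨hvc, bv, hbv, hbv'⟩ := hv
      obtain ⟨hxc, bx, hbx, hbx'⟩ := hx
      refine ⟨by rw [Q_reflE]; exact hxc, ?_⟩
      have h1 : (⟨reflM Q z, hmem z hz⟩ : ↥(Cfsg.reflectionSubgroup (⇑Q) c)) * bv *
          (⟨reflM Q z, hmem z hz⟩ : ↥(Cfsg.reflectionSubgroup (⇑Q) c))⁻¹ = bv := by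
        apply Subtype.ext
        rw [Subgroup.coe_mul, Subgroup.coe_mul, Subgroup.coe_inv]
        show reflM Q z * (bv : ↥(Cfsg.isometryGroup (ZMod 3) (⇑Q))) * (reflM Q z)⁻¹ = bv
        rw [hbv', reflM_inv', reflM_conj_reflM, reflE_of_perp Q hzv]
      refine ⟨_, hF _ bv hbv h1 bx hbx, ?_⟩
      rw [Subgroup.coe_mul, Subgroup.coe_mul, Subgroup.coe_inv]
      show reflM Q z * (bx : ↥(Cfsg.isometryGroup (ZMod 3) (⇑Q))) * (reflM Q z)⁻¹ = _
      rw [hbx', reflM_inv', reflM_conj_reflM]
    have hS3 : ∀ v ∈ S, ∀ x ∈ S, reflE Q v x ∈ S := by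
      intro v hv x hx
      rw [hSdef] at hv hx ⊢
      obtain ⟨hvc, bv, hbv, hbv'⟩ := hv
      obtain ⟨hxc, bx, hbx, hbx'⟩ := hx
      refine ⟨by rw [Q_reflE]; exact hxc, ?_⟩
      have h1 : bv * bv * bv⁻¹ = bv := by group
      refine ⟨_, hF bv bv hbv h1 bx hbx, ?_⟩
      rw [Subgroup.coe_mul, Subgroup.coe_mul, Subgroup.coe_inv, hbv', hbx', reflM_inv',
        reflM_conj_reflM]
    have hS4 : ∃ v ∈ S, ∃ w ∈ S, w ≠ v ∧ w ≠ -v := by
      rw [Set.not_subsingleton_iff] at hsub
      obtain ⟨a, ha, b, hb, hab⟩ := hsub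
      obtain ⟨v, hv, hav⟩ := hD a (hBD ha)
      obtain ⟨w, hw, hbw⟩ := hD b (hBD hb)
      refine ⟨v, ?_, w, ?_, ?_, ?_⟩
      · rw [hSdef]
        exact ⟨hv, a, ha, hav⟩
      · rw [hSdef]
        exact ⟨hw, b, hb, hbw⟩
      · intro h
        apply hab
        apply Subtype.ext
        rw [hav, hbw, h]
      · intro h
        apply hab
        apply Subtype.ext
        rw [hav, hbw, h]
        have : -v = (-1 : ZMod 3) • v := by module
        rw [this, reflM_smul Q (by decide)]
    have hall := prim_vectors Q hn hQ hc S hS1 hS2 hS3 hS4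
    apply Set.Subset.antisymm hBD
    intro d hd
    obtain ⟨x, hx, hdx⟩ := hD d hd
    have hxS := hall x hx
    rw [hSdef] at hxS
    obtain ⟨-, b, hb, hbx⟩ := hxS
    have : b = d := by
      apply Subtype.ext
      rw [hbx, hdx]
    rw [← this]
    exact hb

end blocks

end Cfsg.Agent.Lib.Helper25.ReflClass
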