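/-
helper25: Timmesfeld II(2.3): three abstract root subgroups `A, B, C` with `⁅A,B⁆, ⁅B,C⁆ ∈ S`, `⁅A,C⁆ = 1`.
-/
import Mathlib
import Cfsg.Prelude.Def_RootSubgroups
import Cfsg.Agent.Lib.Helper25.RootSetComm
import Cfsg.Agent.Lib.Helper25.RankOneOmega
import Cfsg.Agent.Lib.Helper25.CommGens

set_option autoImplicit false

namespace Cfsg.Agent.Lib.Helper25

open Cfsg
open scoped commutatorElement

variable {G : Type*} [Group G]

section Basic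

variable {S : Set (Subgroup G)} {A B C : Subgroup G}

theorem conjBy_eq_self_of_comm {A : Subgroup G} {g : G} (h : ∀ a ∈ A, g * a = a * g) :
    conjBy A g = A :=
  conjBy_eq_self_iff.2 (mem_normalizer_of_comm h)

/-- in the commutator case, everything in `A ⊔ ⁅A,B⁆` commutes with `A`. -/
theorem commCase_sup_comm (hA : IsMulCommutative A) (h : RootCommutatorCase S A B) :
    ∀ x ∈ A ⊔ ⁅A, B⁆, ∀ a ∈ A, x * a = a * x := by
  intro x hx a ha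
  have hmem : a ∈ Subgroup.centralizer ((A ⊔ ⁅A, B⁆ : Subgroup G) : Set G) :=
    mem_centralizer_sup (fun a' ha' => comm_of_isMulCommutative hA ha' ha)
      (fun n hn => commCase_comm_bot_left h n hn a ha)
  rw [Subgroup.mem_centralizer_iff] at hmem
  exact hmem x hx

theorem commCase_conj_comm (hA : IsMulCommutative A) (h : RootCommutatorCase S A B) {b : G}
    (hb : b ∈ B) : ∀ x ∈ conjBy A b, ∀ a ∈ A, x * a = a * x :=
  fun x hx => commCase_sup_comm hA h x (commCase_conj_le hb hx)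

/-- `A` commutes with `b C b⁻¹` iff it commutes with `⁅B, C⁆` (for `b ≠ 1`, `⁅A, C⁆ = 1`). -/
theorem comm_conj_iff (hBC : RootCommutatorCase S B C) (hAC : ∀ a ∈ A, ∀ c ∈ C, a * c = c * a)
    {b : G} (hb : b ∈ B) (hb1 : b ≠ 1) :
    (∀ a ∈ A, ∀ x ∈ conjBy C b, a * x = x * a) ↔ (∀ a ∈ A, ∀ m ∈ ⁅B, C⁆, a * m = m * a) := by
  constructor
  · intro h a ha m hm
    obtain ⟨c, hc, he⟩ := commCase_surj hBC (B.inv_mem hb) (by simpa using hb1) hm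
    rw [inv_inv] at he
    have h1 : a * (b * c⁻¹ * b⁻¹) = (b * c⁻¹ * b⁻¹) * a := h a ha _ (conj_mem_conjBy (C.inv_mem hc))
    have h2 := hAC a ha c hc
    rw [← he]
    calc a * (b * c⁻¹ * b⁻¹ * c) = (a * (b * c⁻¹ * b⁻¹)) * c := by group
      _ = (b * c⁻¹ * b⁻¹) * (a * c) := by rw [h1]; group
      _ = b * c⁻¹ * b⁻¹ * c * a := by rw [h2]; group
  · intro h a ha x hx
    rw [mem_conjBy] at hx
    have hm : ⁅b, b⁻¹ * x * b⁆ ∈ ⁅B, C⁆ := Subgroup.commutator_mem_commutator hb hx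
    have h1 := h a ha _ hm
    have h2 := hAC a ha _ hx
    have e : x = ⁅b, b⁻¹ * x * b⁆ * (b⁻¹ * x * b) := by
      rw [commutatorElement_def]; group
    rw [e]
    calc a * (⁅b, b⁻¹ * x * b⁆ * (b⁻¹ * x * b)) = (a * ⁅b, b⁻¹ * x * b⁆) * (b⁻¹ * x * b) := by group
      _ = ⁅b, b⁻¹ * x * b⁆ * (a * (b⁻¹ * x * b)) := by rw [h1]; group
      _ = ⁅b, b⁻¹ * x * b⁆ * (b⁻¹ * x * b) * a := by rw [h2]; group

/-- Key step of II(2.3): `A` and `b C b⁻¹` never form a rank one pair. -/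
theorem not_rankOne_conj (hS : IsRootSubgroupSet S) (hA : A ∈ S) (hB : B ∈ S) (hC : C ∈ S)
    (hAB : RootCommutatorCase S A B) (hAC : ∀ a ∈ A, ∀ c ∈ C, a * c = c * a)
    {b : G} (hb : b ∈ B) : ¬ IsRankOnePair A (conjBy C b) := by
  intro hr
  have hAcomm := hS.commutative A hA
  have hCcomm := hS.commutative C hC
  set N := ⁅A, B⁆ with hN
  have hNS : N ∈ S := hAB.1
  -- conjugate back by `b⁻¹`
  have hr1 : IsRankOnePair (conjBy A b⁻¹) C := by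
    have := rankOnePair_conj hr b⁻¹
    rwa [conjBy_conjBy_inv] at this
  set A₁ := conjBy A b⁻¹ with hA₁
  have hA₁le : A₁ ≤ A ⊔ N := commCase_conj_le (B.inv_mem hb)
  have hA₁comm : ∀ x ∈ A₁, ∀ a ∈ A, x * a = a * x := commCase_conj_comm hAcomm hAB (B.inv_mem hb)
  -- pick `c ∈ C`, `c ≠ 1`
  obtain ⟨c, hc, hc1⟩ := exists_ne_one_of_ne_bot (hS.ne_bot C hC)
  obtain ⟨a₁, ha₁, ha₁1, hconj⟩ := hr1.cond_right c hc hc1
  -- `a₁ = n * a`
  obtain ⟨a, ha, n, hn, he⟩ := mem_sup_of_commute (A := A) (C := N)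
    (fun n hn a ha => commCase_comm_bot_left hAB n hn a ha) (hA₁le ha₁)
  have hna : n * a = a * n := commCase_comm_bot_left hAB n hn a ha
  have hCa : conjBy C a⁻¹ = C :=
    conjBy_eq_self_of_comm (fun c' hc' => (hAC a⁻¹ (A.inv_mem ha) c' hc'))
  have hconj' : conjBy C n⁻¹ = conjBy A₁ c⁻¹ := by
    rw [← hconj, he, hna, mul_inv_rev, conjBy_mul, hCa]
  have hne : conjBy A₁ c⁻¹ ≠ conjBy C c⁻¹ := fun h => hr1.ne (conjBy_injective _ h)
  have hCc : conjBy C c⁻¹ = C := conjBy_eq_self_of_mem (C.inv_mem hc)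
  -- `A₁` and `C` do not commute
  have hnc : ⁅A₁, C⁆ ≠ ⊥ := rankOne_commutator_ne_bot hr1
  have hnc' : ⁅conjBy C n⁻¹, C⁆ ≠ ⊥ := by
    rw [hconj']
    intro h
    apply hnc
    have h2 : ⁅conjBy A₁ c⁻¹, conjBy C c⁻¹⁆ = ⊥ := by rw [hCc]; exact h
    have h3 : conjBy ⁅A₁, C⁆ c⁻¹ = ⊥ := by
      show Subgroup.map _ ⁅A₁, C⁆ = ⊥
      rw [Subgroup.map_commutator]; exact h2
    exact conjBy_eq_bot_iff.1 h3
  rcases hS.pair C hC N hNS with h | h | h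
  · -- `C` and `N` commute
    apply hnc'
    rw [commutator_eq_bot_iff_commute] at h
    have : conjBy C n⁻¹ = C :=
      conjBy_eq_self_of_comm (fun c' hc' => (h c' hc' n⁻¹ (N.inv_mem hn)).symm)
    rw [this]
    exact Subgroup.commutator_self_eq_bot_iff.2 hCcomm
  · -- `(C, N)` rank one: main argument
    have hAU : ∀ a' ∈ A, ∀ y ∈ C ⊔ N, y * a' = a' * y := by
      intro a' ha' y hy
      have hmem : a' ∈ Subgroup.centralizer ((C ⊔ N : Subgroup G) : Set G) :=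
        mem_centralizer_sup (fun c' hc' => (hAC a' ha' c' hc').symm)
          (fun n' hn' => commCase_comm_bot_left hAB n' hn' a' ha')
      rw [Subgroup.mem_centralizer_iff] at hmem
      exact hmem y hy
    have hA₂ : conjBy C n⁻¹ ∈ unipotentSubgroups C N :=
      ⟨n⁻¹, Subgroup.mem_sup_right (N.inv_mem hn), rfl⟩
    have hN₂ : conjBy N c⁻¹ ∈ unipotentSubgroups C N :=
      unipotentSubgroups_conjBy_mem (rankOne_right_mem_unipotentSubgroups h)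
        (Subgroup.mem_sup_left (C.inv_mem hc))
    have hN₂le : conjBy N c⁻¹ ≤ C ⊔ N := rankOne_conj_le hN₂
    have hAc : conjBy A c⁻¹ = A :=
      conjBy_eq_self_of_comm (fun a' ha' => (hAC a' ha' c⁻¹ (C.inv_mem hc)).symm)
    have hle : conjBy C n⁻¹ ≤ Subgroup.normalizer ((conjBy N c⁻¹ : Subgroup G) : Set G) := by
      rw [hconj']
      have h1 : conjBy A₁ c⁻¹ ≤ A ⊔ conjBy N c⁻¹ := by
        have := conjBy_mono hA₁le c⁻¹
        rwa [conjBy_sup, hAc] at this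
      refine le_trans h1 (sup_le ?_ Subgroup.le_normalizer)
      intro a' ha'
      exact mem_normalizer_of_comm (fun y hy => (hAU a' ha' y (hN₂le hy)).symm)
    have heq : conjBy C n⁻¹ = conjBy N c⁻¹ := by
      by_contra hne2
      have hp := (rankOne_pair_of_mem h hA₂ hN₂ hne2).1
      have hbot := rankOne_inf_normalizer hp
      have : conjBy C n⁻¹ = ⊥ := by
        rw [eq_bot_iff, ← hbot]
        exact le_inf le_rfl hle
      exact conjBy_ne_bot (hS.ne_bot C hC) _ this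
    rw [hconj'] at heq
    have h1 : A₁ = N := conjBy_injective _ heq
    have h2 : A = conjBy N b := by
      have := conjBy_eq_iff.1 h1
      rwa [inv_inv] at this
    have h3 : conjBy N b = N :=
      conjBy_eq_self_of_comm (fun n' hn' => (commCase_comm_bot_right hAB n' hn' b hb).symm)
    exact commCase_ne hS hAB (h2.trans h3)
  · -- `(C, N)` commutator case
    apply hnc'
    rw [commutator_eq_bot_iff_commute]
    intro x hx c' hc'
    exact commCase_conj_comm hCcomm h (N.inv_mem hn) x hx c' hc'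

end Basic

section Pair

variable {S : Set (Subgroup G)} {P Q : Subgroup G}

theorem normalizer_bot_eq_top : Subgroup.normalizer (((⊥ : Subgroup G) : Subgroup G) : Set G) = ⊤ := by
  rw [eq_top_iff]
  intro x _
  rw [Subgroup.mem_normalizer_iff]
  intro h
  simp only [Subgroup.mem_bot]
  constructor
  · rintro rfl; simp
  · intro he
    have : x⁻¹ * (x * h * x⁻¹) * x = x⁻¹ * 1 * x := by rw [he]
    simpa [mul_assoc] using this

theorem commutator_sup_sup_eq_bot {P P' Q Q' : Subgroup G} (h1 : ⁅P, Q⁆ = ⊥) (h2 : ⁅P, Q'⁆ = ⊥)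
    (h3 : ⁅P', Q⁆ = ⊥) (h4 : ⁅P', Q'⁆ = ⊥) : ⁅P ⊔ P', Q ⊔ Q'⁆ = ⊥ := by
  have hn : ∀ H : Subgroup G, H ≤ Subgroup.normalizer (((⊥ : Subgroup G) : Subgroup G) : Set G) := by
    intro H; rw [normalizer_bot_eq_top]; exact le_top
  rw [eq_bot_iff]
  apply commutator_sup_left_le _ _ (hn _) (hn _)
  · exact commutator_sup_right_le h1.le h2.le (hn _) (hn _)
  · exact commutator_sup_right_le h3.le h4.le (hn _) (hn _)

/-- For abelian `P`, `Q` the derived subgroup of `⟨P, Q⟩` lies in `⁅P, Q⁆`. -/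
theorem commutator_sup_self_le (hP : IsMulCommutative P) (hQ : IsMulCommutative Q) :
    ⁅P ⊔ Q, P ⊔ Q⁆ ≤ ⁅P, Q⁆ := by
  have hnP : P ≤ Subgroup.normalizer ((⁅P, Q⁆ : Subgroup G) : Set G) :=
    Subgroup.normalizer_commutator_ge_left P Q
  have hnQ : Q ≤ Subgroup.normalizer ((⁅P, Q⁆ : Subgroup G) : Set G) :=
    Subgroup.normalizer_commutator_ge_right P Q
  have hPP : ⁅P, P⁆ ≤ ⁅P, Q⁆ := by rw [Subgroup.commutator_self_eq_bot_iff.2 hP]; exact bot_le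
  have hQQ : ⁅Q, Q⁆ ≤ ⁅P, Q⁆ := by rw [Subgroup.commutator_self_eq_bot_iff.2 hQ]; exact bot_le
  have hQP : ⁅Q, P⁆ ≤ ⁅P, Q⁆ := by rw [Subgroup.commutator_comm]
  apply commutator_sup_left_le _ _ hnP hnQ
  · exact commutator_sup_right_le hPP le_rfl hnP hnQ
  · exact commutator_sup_right_le hQP hQQ hnP hnQ

/-- Two members of `S` not forming a rank one pair: `⁅P, Q⁆` is central in `⟨P, Q⟩`. -/
theorem pair_central (hS : IsRootSubgroupSet S) (hP : P ∈ S) (hQ : Q ∈ S)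
    (hnr : ¬ IsRankOnePair P Q) : ∀ l ∈ ⁅P, Q⁆, ∀ x ∈ P ⊔ Q, l * x = x * l := by
  rcases hS.pair P hP Q hQ with h | h | h
  · intro l hl x _
    rw [h, Subgroup.mem_bot] at hl
    subst hl; simp
  · exact absurd h hnr
  · exact h.2.1

theorem pair_class_two (hS : IsRootSubgroupSet S) (hP : P ∈ S) (hQ : Q ∈ S)
    (hnr : ¬ IsRankOnePair P Q) : ⁅⁅P ⊔ Q, P ⊔ Q⁆, P ⊔ Q⁆ = ⊥ := by
  rw [eq_bot_iff]
  refine le_trans (Subgroup.commutator_mono
    (commutator_sup_self_le (hS.commutative P hP) (hS.commutative Q hQ)) le_rfl) ?_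
  rw [le_bot_iff, commutator_eq_bot_iff_commute]
  exact pair_central hS hP hQ hnr

theorem pair_abelian_iff (hS : IsRootSubgroupSet S) (hP : P ∈ S) (hQ : Q ∈ S) :
    IsMulCommutative ↥(P ⊔ Q) ↔ ⁅P, Q⁆ = ⊥ := by
  rw [← Subgroup.commutator_self_eq_bot_iff]
  constructor
  · intro h
    rw [eq_bot_iff, ← h]
    exact Subgroup.commutator_mono le_sup_left le_sup_right
  · intro h
    rw [eq_bot_iff, ← h]
    exact commutator_sup_self_le (hS.commutative P hP) (hS.commutative Q hQ)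

end Pair

/-- The configuration of II(2.3). -/
structure RootTriple (S : Set (Subgroup G)) (A B C : Subgroup G) : Prop where
  hS : IsRootSubgroupSet S
  hA : A ∈ S
  hB : B ∈ S
  hC : C ∈ S
  hAB : RootCommutatorCase S A B
  hCB : RootCommutatorCase S C B
  hAC : ∀ a ∈ A, ∀ c ∈ C, a * c = c * a

namespace RootTriple

variable {S : Set (Subgroup G)} {A B C : Subgroup G}

theorem symm (t : RootTriple S A B C) : RootTriple S C B A :=
  ⟨t.hS, t.hC, t.hB, t.hA, t.hCB, t.hAB, fun c hc a ha => (t.hAC a ha c hc).symm⟩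

theorem mk' (hS : IsRootSubgroupSet S) (hA : A ∈ S) (hB : B ∈ S) (hC : C ∈ S)
    (hAB : ⁅A, B⁆ ∈ S) (hBC : ⁅B, C⁆ ∈ S) (hAC : ⁅A, C⁆ = ⊥) : RootTriple S A B C :=
  ⟨hS, hA, hB, hC, commutatorCase_of_commutator_mem hS hA hB hAB,
    commutatorCase_of_commutator_mem hS hC hB (by rw [Subgroup.commutator_comm]; exact hBC),
    commutator_eq_bot_iff_commute.1 hAC⟩

theorem commAC (t : RootTriple S A B C) : ⁅A, C⁆ = ⊥ := commutator_eq_bot_iff_commute.2 t.hAC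

theorem conj_le (t : RootTriple S A B C) {b : G} (hb : b ∈ B) : conjBy A b ≤ A ⊔ ⁅A, B⁆ :=
  commCase_conj_le hb

theorem not_rankOne (t : RootTriple S A B C) {b : G} (hb : b ∈ B) :
    ¬ IsRankOnePair A (conjBy C b) :=
  not_rankOne_conj t.hS t.hA t.hB t.hC t.hAB t.hAC hb

theorem not_rankOne' (t : RootTriple S A B C) {b : G} (hb : b ∈ B) :
    ¬ IsRankOnePair (conjBy A b) C := by
  intro h
  have := rankOnePair_conj h b⁻¹
  rw [conjBy_conjBy_inv] at this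
  exact t.not_rankOne (B.inv_mem hb) this

theorem comm_iff (t : RootTriple S A B C) {b : G} (hb : b ∈ B) (hb1 : b ≠ 1) :
    ⁅A, conjBy C b⁆ = ⊥ ↔ ⁅A, ⁅C, B⁆⁆ = ⊥ := by
  have hBC : RootCommutatorCase S B C :=
    commutatorCase_of_commutator_mem t.hS t.hB t.hC (by rw [Subgroup.commutator_comm]; exact t.hCB.1)
  rw [commutator_eq_bot_iff_commute, commutator_eq_bot_iff_commute, Subgroup.commutator_comm C B]
  exact comm_conj_iff hBC t.hAC hb hb1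

/-- `⁅A, b C b⁻¹⁆ = 1 ↔ ⁅b A b⁻¹, C⁆ = 1`. -/
theorem comm_iff' (t : RootTriple S A B C) {b : G} (hb : b ∈ B) (hb1 : b ≠ 1) :
    ⁅A, conjBy C b⁆ = ⊥ ↔ ⁅conjBy A b, C⁆ = ⊥ := by
  have hb1' : b⁻¹ ≠ 1 := by simpa using hb1
  rw [t.comm_iff hb hb1, ← t.comm_iff (B.inv_mem hb) hb1']
  have e : conjBy ⁅A, conjBy C b⁻¹⁆ b = ⁅conjBy A b, C⁆ := by
    show Subgroup.map _ ⁅A, conjBy C b⁻¹⁆ = _
    rw [Subgroup.map_commutator]
    show ⁅conjBy A b, conjBy (conjBy C b⁻¹) b⁆ = _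
    rw [conjBy_inv_conjBy]
  rw [← e, conjBy_eq_bot_iff]

theorem comm_conjA (t : RootTriple S A B C) {b : G} (hb : b ∈ B) : ⁅A, conjBy A b⁆ = ⊥ := by
  rw [commutator_eq_bot_iff_commute]
  intro a ha x hx
  exact (commCase_conj_comm (t.hS.commutative A t.hA) t.hAB hb x hx a ha).symm

/-- (2) of II(2.3). -/
theorem XY_comm (t : RootTriple S A B C) {b : G} (hb : b ∈ B) :
    ⁅A ⊔ conjBy C b, conjBy A b ⊔ C⁆ = ⊥ := by
  apply commutator_sup_sup_eq_bot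
  · exact t.comm_conjA hb
  · exact t.commAC
  · have e : conjBy ⁅C, A⁆ b = ⁅conjBy C b, conjBy A b⁆ := by
      show Subgroup.map _ ⁅C, A⁆ = _
      rw [Subgroup.map_commutator]
    rw [← e, Subgroup.commutator_comm, t.commAC, conjBy_bot]
  · rw [Subgroup.commutator_comm]
    exact t.symm.comm_conjA hb

theorem sup_conj (t : RootTriple S A B C) {b : G} (hb : b ∈ B) (hb1 : b ≠ 1) :
    A ⊔ conjBy A b = A ⊔ ⁅A, B⁆ := by
  apply le_antisymm
  · exact sup_le le_sup_left (t.conj_le hb)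
  · refine sup_le le_sup_left ?_
    rw [← t.hAB.2.2.2 b hb hb1, Subgroup.closure_le]
    rintro _ ⟨a, ha, rfl⟩
    have h1 : b * a⁻¹ * b⁻¹ ∈ conjBy A b := conj_mem_conjBy (A.inv_mem ha)
    have e : a * b * a⁻¹ * b⁻¹ = a * (b * a⁻¹ * b⁻¹) := by group
    show a * b * a⁻¹ * b⁻¹ ∈ A ⊔ conjBy A b
    rw [e]
    exact Subgroup.mul_mem _ (Subgroup.mem_sup_left ha) (Subgroup.mem_sup_right h1)

theorem W_eq (t : RootTriple S A B C) {b : G} (hb : b ∈ B) (hb1 : b ≠ 1) :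
    (A ⊔ conjBy C b) ⊔ (conjBy A b ⊔ C) = (A ⊔ ⁅A, B⁆) ⊔ (C ⊔ ⁅C, B⁆) := by
  rw [sup_sup_sup_comm, sup_comm (conjBy C b) C, t.sup_conj hb hb1, t.symm.sup_conj hb hb1]

theorem W_le (t : RootTriple S A B C) : (A ⊔ ⁅A, B⁆) ⊔ (C ⊔ ⁅C, B⁆) ≤ A ⊔ B ⊔ C := by
  refine sup_le (sup_le (le_sup_of_le_left le_sup_left) ?_) (sup_le le_sup_right ?_)
  · exact le_trans (commutator_le_sup A B) le_sup_left
  · refine le_trans (commutator_le_sup C B) (sup_le le_sup_right (le_sup_of_le_left le_sup_right))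

theorem W_sup_B (t : RootTriple S A B C) :
    ((A ⊔ ⁅A, B⁆) ⊔ (C ⊔ ⁅C, B⁆)) ⊔ B = A ⊔ B ⊔ C := by
  apply le_antisymm
  · exact sup_le t.W_le (le_sup_of_le_left le_sup_right)
  · refine sup_le (sup_le ?_ le_sup_right) ?_
    · exact le_sup_of_le_left (le_sup_of_le_left le_sup_left)
    · exact le_sup_of_le_left (le_sup_of_le_right le_sup_left)

theorem conjN (t : RootTriple S A B C) {b : G} (hb : b ∈ B) : conjBy ⁅A, B⁆ b = ⁅A, B⁆ :=
  conjBy_eq_self_of_comm (fun n hn => (commCase_comm_bot_right t.hAB n hn b hb).symm)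

theorem conjW_le (t : RootTriple S A B C) {b : G} (hb : b ∈ B) :
    conjBy ((A ⊔ ⁅A, B⁆) ⊔ (C ⊔ ⁅C, B⁆)) b ≤ (A ⊔ ⁅A, B⁆) ⊔ (C ⊔ ⁅C, B⁆) := by
  rw [conjBy_sup, conjBy_sup, conjBy_sup, t.conjN hb, t.symm.conjN hb]
  exact sup_le_sup (sup_le (t.conj_le hb) le_sup_right) (sup_le (t.symm.conj_le hb) le_sup_right)

theorem W_normal (t : RootTriple S A B C) :
    A ⊔ B ⊔ C ≤ Subgroup.normalizer (((A ⊔ ⁅A, B⁆) ⊔ (C ⊔ ⁅C, B⁆) : Subgroup G) : Set G) := by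
  refine sup_le (sup_le ?_ ?_) ?_
  · exact le_trans (le_sup_of_le_left le_sup_left) Subgroup.le_normalizer
  · intro b hb
    rw [← conjBy_eq_self_iff]
    apply le_antisymm (t.conjW_le hb)
    have := conjBy_mono (t.conjW_le (B.inv_mem hb)) b
    rwa [conjBy_inv_conjBy] at this
  · exact le_trans (le_sup_of_le_right le_sup_left) Subgroup.le_normalizer

/-! ### nilpotency of `⟨A, B, C⟩` -/

theorem le_normalizer_of_le_centralizer {H K : Subgroup G}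
    (h : K ≤ Subgroup.centralizer (H : Set G)) : H ≤ Subgroup.normalizer (K : Set G) := by
  intro x hx
  apply mem_normalizer_of_comm
  intro k hk
  have := h hk
  rw [Subgroup.mem_centralizer_iff] at this
  exact this x hx

theorem comm_bot_of_central {Q P W : Subgroup G} (hQ : Q ≤ Subgroup.centralizer (W : Set G))
    (hP : P ≤ W) : ⁅Q, P⁆ = ⊥ :=
  Subgroup.commutator_eq_bot_iff_le_centralizer.2
    (le_trans hQ (Subgroup.centralizer_le (fun _ hx => hP hx)))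

/-- The derived subgroup of `W = ⟨A, N, C, M⟩` is central in `W`. -/
theorem derived_W_central (t : RootTriple S A B C) :
    ⁅(A ⊔ ⁅A, B⁆) ⊔ (C ⊔ ⁅C, B⁆), (A ⊔ ⁅A, B⁆) ⊔ (C ⊔ ⁅C, B⁆)⁆ ≤
      Subgroup.centralizer ((((A ⊔ ⁅A, B⁆) ⊔ (C ⊔ ⁅C, B⁆) : Subgroup G)) : Set G) := by
  obtain ⟨b, hb, hb1⟩ := exists_ne_one_of_ne_bot (t.hS.ne_bot B t.hB)
  rw [← t.W_eq hb hb1]
  have hXY : ⁅A ⊔ conjBy C b, conjBy A b ⊔ C⁆ = ⊥ := t.XY_comm hb
  have hYX : ⁅conjBy A b ⊔ C, A ⊔ conjBy C b⁆ = ⊥ := by rw [Subgroup.commutator_comm]; exact hXY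
  have hCb : conjBy C b ∈ S := t.hS.conj_mem C t.hC b
  have hAb : conjBy A b ∈ S := t.hS.conj_mem A t.hA b
  have hLXc := pair_central t.hS t.hA hCb (t.not_rankOne hb)
  have hLYc := pair_central t.hS hAb t.hC (t.not_rankOne' hb)
  have hXYc := commutator_eq_bot_iff_commute.1 hXY
  have hLXcen : ⁅A, conjBy C b⁆ ≤
      Subgroup.centralizer (((A ⊔ conjBy C b) ⊔ (conjBy A b ⊔ C) : Subgroup G) : Set G) := by
    intro l hl
    exact mem_centralizer_sup (fun x hx => (hLXc l hl x hx).symm)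
      (fun y hy => (hXYc l (commutator_le_sup _ _ hl) y hy).symm)
  have hLYcen : ⁅conjBy A b, C⁆ ≤
      Subgroup.centralizer (((A ⊔ conjBy C b) ⊔ (conjBy A b ⊔ C) : Subgroup G) : Set G) := by
    intro l hl
    exact mem_centralizer_sup (fun x hx => (hXYc x hx l (commutator_le_sup _ _ hl)))
      (fun y hy => (hLYc l hl y hy).symm)
  have hK : ⁅A, conjBy C b⁆ ⊔ ⁅conjBy A b, C⁆ ≤
      Subgroup.centralizer (((A ⊔ conjBy C b) ⊔ (conjBy A b ⊔ C) : Subgroup G) : Set G) :=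
    sup_le hLXcen hLYcen
  refine le_trans ?_ hK
  have hnX : A ⊔ conjBy C b ≤
      Subgroup.normalizer ((⁅A, conjBy C b⁆ ⊔ ⁅conjBy A b, C⁆ : Subgroup G) : Set G) :=
    le_trans le_sup_left (le_normalizer_of_le_centralizer hK)
  have hnY : conjBy A b ⊔ C ≤
      Subgroup.normalizer ((⁅A, conjBy C b⁆ ⊔ ⁅conjBy A b, C⁆ : Subgroup G) : Set G) :=
    le_trans le_sup_right (le_normalizer_of_le_centralizer hK)
  apply commutator_sup_left_le _ _ hnX hnY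
  · apply commutator_sup_right_le _ _ hnX hnY
    · exact le_trans (commutator_sup_self_le (t.hS.commutative A t.hA) (t.hS.commutative _ hCb))
        le_sup_left
    · rw [hXY]; exact bot_le
  · apply commutator_sup_right_le _ _ hnX hnY
    · rw [hYX]; exact bot_le
    · exact le_trans (commutator_sup_self_le (t.hS.commutative _ hAb) (t.hS.commutative C t.hC))
        le_sup_right

theorem A_le_W (A B C : Subgroup G) : A ≤ (A ⊔ ⁅A, B⁆) ⊔ (C ⊔ ⁅C, B⁆) :=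
  le_sup_of_le_left le_sup_left
theorem N_le_W (A B C : Subgroup G) : ⁅A, B⁆ ≤ (A ⊔ ⁅A, B⁆) ⊔ (C ⊔ ⁅C, B⁆) :=
  le_sup_of_le_left le_sup_right
theorem C_le_W (A B C : Subgroup G) : C ≤ (A ⊔ ⁅A, B⁆) ⊔ (C ⊔ ⁅C, B⁆) :=
  le_sup_of_le_right le_sup_left
theorem M_le_W (A B C : Subgroup G) : ⁅C, B⁆ ≤ (A ⊔ ⁅A, B⁆) ⊔ (C ⊔ ⁅C, B⁆) :=
  le_sup_of_le_right le_sup_right

/-- `L ⊔ L' ⊔ K` is central in `W`. -/
theorem K1_central (t : RootTriple S A B C) :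
    ⁅A, ⁅C, B⁆⁆ ⊔ ⁅C, ⁅A, B⁆⁆ ⊔ ⁅⁅A, B⁆, ⁅C, B⁆⁆ ≤
      Subgroup.centralizer ((((A ⊔ ⁅A, B⁆) ⊔ (C ⊔ ⁅C, B⁆) : Subgroup G)) : Set G) := by
  refine le_trans ?_ t.derived_W_central
  refine sup_le (sup_le ?_ ?_) ?_
  · exact Subgroup.commutator_mono (A_le_W A B C) (M_le_W A B C)
  · exact Subgroup.commutator_mono (C_le_W A B C) (N_le_W A B C)
  · exact Subgroup.commutator_mono (N_le_W A B C) (M_le_W A B C)

/-- `⁅⁅A, M⁆, B⁆ ≤ ⁅N, M⁆`. -/
theorem comm_L_B (t : RootTriple S A B C) : ⁅⁅A, ⁅C, B⁆⁆, B⁆ ≤ ⁅⁅A, B⁆, ⁅C, B⁆⁆ := by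
  have hcen := t.K1_central
  have hLcen : ∀ z ∈ ⁅A, ⁅C, B⁆⁆, ∀ w ∈ (A ⊔ ⁅A, B⁆) ⊔ (C ⊔ ⁅C, B⁆), w * z = z * w := by
    intro z hz w hw
    have := hcen (Subgroup.mem_sup_left (Subgroup.mem_sup_left hz))
    rw [Subgroup.mem_centralizer_iff] at this
    exact this w hw
  have hKW : ⁅⁅A, B⁆, ⁅C, B⁆⁆ ≤ (A ⊔ ⁅A, B⁆) ⊔ (C ⊔ ⁅C, B⁆) :=
    le_trans (commutator_le_sup _ _) (sup_le (N_le_W A B C) (M_le_W A B C))
  rw [Subgroup.commutator_def A ⁅C, B⁆]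
  apply commutator_closure_le
  · rintro _ ⟨a, ha, m, hm, rfl⟩
    apply mem_normalizer_of_comm
    intro k hk
    exact (hLcen _ (Subgroup.commutator_mem_commutator ha hm) k (hKW hk)).symm
  · rintro _ ⟨a, ha, m, hm, rfl⟩ b' hb'
    have hz : ⁅a, m⁆ ∈ ⁅A, ⁅C, B⁆⁆ := Subgroup.commutator_mem_commutator ha hm
    have hn' : ⁅b', a⁆ ∈ ⁅A, B⁆ := by
      rw [Subgroup.commutator_comm]; exact Subgroup.commutator_mem_commutator hb' ha
    have hk : ⁅⁅b', a⁆, m⁆ ∈ ⁅⁅A, B⁆, ⁅C, B⁆⁆ := Subgroup.commutator_mem_commutator hn' hm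
    have hbm : b' * m * b'⁻¹ = m := by
      have := commCase_comm_bot_right t.hCB m hm b' hb'
      rw [← this, mul_inv_cancel_right]
    have hz1 : ⁅b', a⁆ * ⁅a, m⁆ * ⁅b', a⁆⁻¹ = ⁅a, m⁆ := by
      have := hLcen _ hz _ (N_le_W A B C hn')
      rw [this, mul_inv_cancel_right]
    have hz2 : ⁅⁅b', a⁆, m⁆ * ⁅a, m⁆ = ⁅a, m⁆ * ⁅⁅b', a⁆, m⁆ := hLcen _ hz _ (hKW hk)
    have e1 : b' * ⁅a, m⁆ * b'⁻¹ = ⁅a, m⁆ * ⁅⁅b', a⁆, m⁆ := by
      rw [conjugate_commutatorElement, hbm]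
      have e : b' * a * b'⁻¹ = ⁅b', a⁆ * a := by rw [commutatorElement_def]; group
      rw [e, commutatorElement_mul_left_eq_conj_mul, hz1]
    have e2 : ⁅⁅a, m⁆, b'⁆ = ⁅a, m⁆ * (b' * ⁅a, m⁆ * b'⁻¹)⁻¹ := by
      rw [commutatorElement_def ⁅a, m⁆ b']; group
    rw [e2, e1, mul_inv_rev, ← mul_assoc]
    have e3 : ⁅a, m⁆ * ⁅⁅b', a⁆, m⁆⁻¹ * ⁅a, m⁆⁻¹ = ⁅⁅b', a⁆, m⁆⁻¹ := by
      have : ⁅a, m⁆ * ⁅⁅b', a⁆, m⁆⁻¹ = ⁅⁅b', a⁆, m⁆⁻¹ * ⁅a, m⁆ := by
        have h := hz2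
        calc ⁅a, m⁆ * ⁅⁅b', a⁆, m⁆⁻¹
            = ⁅⁅b', a⁆, m⁆⁻¹ * (⁅⁅b', a⁆, m⁆ * ⁅a, m⁆) * ⁅⁅b', a⁆, m⁆⁻¹ := by group
          _ = ⁅⁅b', a⁆, m⁆⁻¹ * (⁅a, m⁆ * ⁅⁅b', a⁆, m⁆) * ⁅⁅b', a⁆, m⁆⁻¹ := by rw [h]
          _ = ⁅⁅b', a⁆, m⁆⁻¹ * ⁅a, m⁆ := by group
      rw [this, mul_inv_cancel_right]
    rw [e3]
    exact Subgroup.inv_mem _ hk

theorem comm_R_le {V V' A B C : Subgroup G} (hA : ⁅V, A⁆ ≤ V') (hB : ⁅V, B⁆ ≤ V')
    (hC : ⁅V, C⁆ ≤ V') (nA : A ≤ Subgroup.normalizer (V' : Set G))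
    (nB : B ≤ Subgroup.normalizer (V' : Set G)) (nC : C ≤ Subgroup.normalizer (V' : Set G)) :
    ⁅V, A ⊔ B ⊔ C⁆ ≤ V' :=
  commutator_sup_right_le (commutator_sup_right_le hA hB nA nB) hC (sup_le nA nB) nC

theorem le_normalizer_of_comm_le {V V'' P : Subgroup G} (h : ⁅V, P⁆ ≤ V'') (hle : V'' ≤ V) :
    P ≤ Subgroup.normalizer (V : Set G) :=
  Subgroup.le_normalizer_iff_commutator_le_left.2 (le_trans h hle)

/-- (4) of II(2.3): `⟨A, B, C⟩` is nilpotent. -/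
theorem isNilpotent (t : RootTriple S A B C) : Group.IsNilpotent ↥(A ⊔ B ⊔ C) := by
  have hAc := t.hS.commutative A t.hA
  have hBc := t.hS.commutative B t.hB
  have hCc := t.hS.commutative C t.hC
  have hcen := t.K1_central
  -- abbreviations
  set N := ⁅A, B⁆ with hN
  set M := ⁅C, B⁆ with hM
  set L := ⁅A, M⁆ with hL
  set L' := ⁅C, N⁆ with hL'
  set K := ⁅N, M⁆ with hK
  set W := (A ⊔ N) ⊔ (C ⊔ M) with hW
  have hAW : A ≤ W := A_le_W A B C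
  have hNW : N ≤ W := N_le_W A B C
  have hCW : C ≤ W := C_le_W A B C
  have hMW : M ≤ W := M_le_W A B C
  have hKK1 : K ≤ L ⊔ L' ⊔ K := le_sup_right
  have hKcen : K ≤ Subgroup.centralizer (W : Set G) := le_trans hKK1 hcen
  have hK1W : L ⊔ L' ⊔ K ≤ W := by
    refine sup_le (sup_le ?_ ?_) ?_
    · exact le_trans (commutator_le_sup _ _) (sup_le hAW hMW)
    · exact le_trans (commutator_le_sup _ _) (sup_le hCW hNW)
    · exact le_trans (commutator_le_sup _ _) (sup_le hNW hMW)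
  -- basic commutation facts
  have hNB : ⁅N, B⁆ = ⊥ := commutator_eq_bot_iff_commute.2 (commCase_comm_bot_right t.hAB)
  have hMB : ⁅M, B⁆ = ⊥ := commutator_eq_bot_iff_commute.2 (commCase_comm_bot_right t.hCB)
  have hNA : ⁅N, A⁆ = ⊥ := commutator_eq_bot_iff_commute.2 (commCase_comm_bot_left t.hAB)
  have hMC : ⁅M, C⁆ = ⊥ := commutator_eq_bot_iff_commute.2 (commCase_comm_bot_left t.hCB)
  have hKB : ⁅K, B⁆ = ⊥ := by
    rw [Subgroup.commutator_eq_bot_iff_le_centralizer]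
    refine le_trans (commutator_le_sup _ _) (sup_le ?_ ?_)
    · exact Subgroup.commutator_eq_bot_iff_le_centralizer.1 hNB
    · exact Subgroup.commutator_eq_bot_iff_le_centralizer.1 hMB
  -- level 3
  have h3A : ⁅K, A⁆ = ⊥ := comm_bot_of_central hKcen hAW
  have h3C : ⁅K, C⁆ = ⊥ := comm_bot_of_central hKcen hCW
  -- level 2
  have h2A : ⁅L ⊔ L' ⊔ K, A⁆ = ⊥ := comm_bot_of_central hcen hAW
  have h2C : ⁅L ⊔ L' ⊔ K, C⁆ = ⊥ := comm_bot_of_central hcen hCW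
  have hnK : ∀ Q : Subgroup G, Q ≤ W → Q ≤ Subgroup.normalizer (K : Set G) := fun Q hQ =>
    le_normalizer_of_le_centralizer (le_trans hKcen (Subgroup.centralizer_le (fun _ hx => hQ hx)))
  have hLB : ⁅L, B⁆ ≤ K := t.comm_L_B
  have hL'B : ⁅L', B⁆ ≤ K := by
    have := t.symm.comm_L_B
    rw [Subgroup.commutator_comm ⁅C, B⁆ ⁅A, B⁆] at this
    exact this
  have h2B : ⁅L ⊔ L' ⊔ K, B⁆ ≤ K := by
    have hLW : L ≤ W := le_trans (le_sup_of_le_left le_sup_left) hK1W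
    have hL'W : L' ≤ W := le_trans (le_sup_of_le_left le_sup_right) hK1W
    have hKW : K ≤ W := le_trans hKK1 hK1W
    exact commutator_sup_left_le (commutator_sup_left_le hLB hL'B (hnK _ hLW) (hnK _ hL'W))
      (by rw [hKB]; exact bot_le) (sup_le (hnK _ hLW) (hnK _ hL'W)) (hnK _ hKW)
  -- level 1
  have hnK1 : ∀ Q : Subgroup G, Q ≤ W → Q ≤ Subgroup.normalizer ((L ⊔ L' ⊔ K : Subgroup G) : Set G) :=
    fun Q hQ =>
      le_normalizer_of_le_centralizer (le_trans hcen (Subgroup.centralizer_le (fun _ hx => hQ hx)))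
  have h1A : ⁅N ⊔ M ⊔ (L ⊔ L' ⊔ K), A⁆ ≤ L ⊔ L' ⊔ K := by
    refine commutator_sup_left_le (commutator_sup_left_le ?_ ?_ (hnK1 _ hNW) (hnK1 _ hMW)) ?_
      (sup_le (hnK1 _ hNW) (hnK1 _ hMW)) (hnK1 _ hK1W)
    · rw [hNA]; exact bot_le
    · rw [Subgroup.commutator_comm]; exact le_sup_of_le_left le_sup_left
    · rw [h2A]; exact bot_le
  have h1B : ⁅N ⊔ M ⊔ (L ⊔ L' ⊔ K), B⁆ ≤ L ⊔ L' ⊔ K := by
    refine commutator_sup_left_le (commutator_sup_left_le ?_ ?_ (hnK1 _ hNW) (hnK1 _ hMW)) ?_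
      (sup_le (hnK1 _ hNW) (hnK1 _ hMW)) (hnK1 _ hK1W)
    · rw [hNB]; exact bot_le
    · rw [hMB]; exact bot_le
    · exact le_trans h2B hKK1
  have h1C : ⁅N ⊔ M ⊔ (L ⊔ L' ⊔ K), C⁆ ≤ L ⊔ L' ⊔ K := by
    refine commutator_sup_left_le (commutator_sup_left_le ?_ ?_ (hnK1 _ hNW) (hnK1 _ hMW)) ?_
      (sup_le (hnK1 _ hNW) (hnK1 _ hMW)) (hnK1 _ hK1W)
    · rw [Subgroup.commutator_comm]; exact le_sup_of_le_left le_sup_right
    · rw [hMC]; exact bot_le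
    · rw [h2C]; exact bot_le
  -- normalizers
  have hbot : ∀ Q : Subgroup G, Q ≤ Subgroup.normalizer (((⊥ : Subgroup G) : Subgroup G) : Set G) := by
    intro Q; rw [normalizer_bot_eq_top]; exact le_top
  have n3A : A ≤ Subgroup.normalizer (K : Set G) := hnK _ hAW
  have n3C : C ≤ Subgroup.normalizer (K : Set G) := hnK _ hCW
  have n3B : B ≤ Subgroup.normalizer (K : Set G) :=
    le_normalizer_of_comm_le (V'' := ⊥) (by rw [hKB]) bot_le
  have n2A : A ≤ Subgroup.normalizer ((L ⊔ L' ⊔ K : Subgroup G) : Set G) := hnK1 _ hAW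
  have n2C : C ≤ Subgroup.normalizer ((L ⊔ L' ⊔ K : Subgroup G) : Set G) := hnK1 _ hCW
  have n2B : B ≤ Subgroup.normalizer ((L ⊔ L' ⊔ K : Subgroup G) : Set G) :=
    le_normalizer_of_comm_le h2B hKK1
  have n1A : A ≤ Subgroup.normalizer ((N ⊔ M ⊔ (L ⊔ L' ⊔ K) : Subgroup G) : Set G) :=
    le_normalizer_of_comm_le h1A le_sup_right
  have n1B : B ≤ Subgroup.normalizer ((N ⊔ M ⊔ (L ⊔ L' ⊔ K) : Subgroup G) : Set G) :=
    le_normalizer_of_comm_le h1B le_sup_right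
  have n1C : C ≤ Subgroup.normalizer ((N ⊔ M ⊔ (L ⊔ L' ⊔ K) : Subgroup G) : Set G) :=
    le_normalizer_of_comm_le h1C le_sup_right
  -- level 0
  have hAA : ⁅A, A⁆ = ⊥ := Subgroup.commutator_self_eq_bot_iff.2 hAc
  have hBB : ⁅B, B⁆ = ⊥ := Subgroup.commutator_self_eq_bot_iff.2 hBc
  have hCC : ⁅C, C⁆ = ⊥ := Subgroup.commutator_self_eq_bot_iff.2 hCc
  have hACb : ⁅A, C⁆ = ⊥ := t.commAC
  have hCAb : ⁅C, A⁆ = ⊥ := by rw [Subgroup.commutator_comm]; exact hACb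
  have hNV : N ≤ N ⊔ M ⊔ (L ⊔ L' ⊔ K) := le_sup_of_le_left le_sup_left
  have hMV : M ≤ N ⊔ M ⊔ (L ⊔ L' ⊔ K) := le_sup_of_le_left le_sup_right
  have h0A : ⁅A ⊔ B ⊔ C, A⁆ ≤ N ⊔ M ⊔ (L ⊔ L' ⊔ K) := by
    refine commutator_sup_left_le (commutator_sup_left_le ?_ ?_ n1A n1B) ?_ (sup_le n1A n1B) n1C
    · rw [hAA]; exact bot_le
    · rw [Subgroup.commutator_comm]; exact hNV
    · rw [hCAb]; exact bot_le
  have h0B : ⁅A ⊔ B ⊔ C, B⁆ ≤ N ⊔ M ⊔ (L ⊔ L' ⊔ K) := by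
    refine commutator_sup_left_le (commutator_sup_left_le ?_ ?_ n1A n1B) ?_ (sup_le n1A n1B) n1C
    · exact hNV
    · rw [hBB]; exact bot_le
    · exact hMV
  have h0C : ⁅A ⊔ B ⊔ C, C⁆ ≤ N ⊔ M ⊔ (L ⊔ L' ⊔ K) := by
    refine commutator_sup_left_le (commutator_sup_left_le ?_ ?_ n1A n1B) ?_ (sup_le n1A n1B) n1C
    · rw [hACb]; exact bot_le
    · rw [Subgroup.commutator_comm]; exact hMV
    · rw [hCC]; exact bot_le
  -- the chain
  let V : ℕ → Subgroup G := fun i =>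
    match i with
    | 0 => A ⊔ B ⊔ C
    | 1 => N ⊔ M ⊔ (L ⊔ L' ⊔ K)
    | 2 => L ⊔ L' ⊔ K
    | 3 => K
    | _ => ⊥
  refine isNilpotent_of_chain (A ⊔ B ⊔ C) V le_rfl ?_ 4 rfl
  intro i
  match i with
  | 0 => exact comm_R_le h0A h0B h0C n1A n1B n1C
  | 1 => exact comm_R_le h1A h1B h1C n2A n2B n2C
  | 2 => exact comm_R_le (h2A.le.trans bot_le) h2B (h2C.le.trans bot_le) n3A n3B n3C
  | 3 =>
    exact comm_R_le h3A.le hKB.le h3C.le (hbot _) (hbot _) (hbot _)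
  | (n + 4) =>
    show ⁅(⊥ : Subgroup G), A ⊔ B ⊔ C⁆ ≤ ⊥
    rw [Subgroup.commutator_bot_left]

end RootTriple

end Cfsg.Agent.Lib.Helper25
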