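/-
helper25: Timmesfeld II(2.11): root subgroups `A, B, C = ⁅A,B⁆, D` with `⁅C, D⁆ = A`.
-/
import Mathlib
import Cfsg.Prelude.Def_RootSubgroups
import Cfsg.Agent.Lib.Helper25.RootTriple

set_option autoImplicit false

namespace Cfsg.Agent.Lib.Helper25

open Cfsg
open scoped commutatorElement

variable {G : Type*} [Group G]

theorem conjBy_inf_centralizer (N H : Subgroup G) (g : G) :
    conjBy (N ⊓ Subgroup.centralizer (H : Set G)) g =
      conjBy N g ⊓ Subgroup.centralizer ((conjBy H g : Subgroup G) : Set G) := by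
  ext x
  rw [mem_conjBy, Subgroup.mem_inf, Subgroup.mem_inf, mem_conjBy, Subgroup.mem_centralizer_iff,
    Subgroup.mem_centralizer_iff]
  constructor
  · rintro ⟨h1, h2⟩
    refine ⟨h1, fun y hy => ?_⟩
    have hy' : g⁻¹ * y * g ∈ H := mem_conjBy.1 hy
    have := h2 _ hy'
    have e : g * (g⁻¹ * y * g * (g⁻¹ * x * g)) * g⁻¹ = g * (g⁻¹ * x * g * (g⁻¹ * y * g)) * g⁻¹ := by
      rw [this]
    have e1 : g * (g⁻¹ * y * g * (g⁻¹ * x * g)) * g⁻¹ = y * x := by group
    have e2 : g * (g⁻¹ * x * g * (g⁻¹ * y * g)) * g⁻¹ = x * y := by group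
    rw [e1, e2] at e
    exact e
  · rintro ⟨h1, h2⟩
    refine ⟨h1, fun h hh => ?_⟩
    have := h2 (g * h * g⁻¹) (conj_mem_conjBy hh)
    have e : g⁻¹ * (g * h * g⁻¹ * x) * g = g⁻¹ * (x * (g * h * g⁻¹)) * g := by rw [this]
    have e1 : g⁻¹ * (g * h * g⁻¹ * x) * g = h * (g⁻¹ * x * g) := by group
    have e2 : g⁻¹ * (x * (g * h * g⁻¹)) * g = g⁻¹ * x * g * h := by group
    rw [e1, e2] at e
    exact e

/-- Elements of `X` normalizing `N` in both directions. -/
def stabNK (N X : Subgroup G) : Subgroup G where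
  carrier := {g | g ∈ X ∧ conjBy N g = N ∧ conjBy N g⁻¹ = N}
  one_mem' := ⟨X.one_mem, by rw [conjBy_one], by rw [inv_one, conjBy_one]⟩
  mul_mem' := by
    rintro g h ⟨hg, hg1, hg2⟩ ⟨hh, hh1, hh2⟩
    refine ⟨X.mul_mem hg hh, ?_, ?_⟩
    · rw [conjBy_mul, hh1, hg1]
    · rw [mul_inv_rev, conjBy_mul, hg2, hh2]
  inv_mem' := by
    rintro g ⟨hg, hg1, hg2⟩
    exact ⟨X.inv_mem hg, hg2, by rw [inv_inv]; exact hg1⟩

/-- The configuration of II(2.11). -/
structure RootQuad (S : Set (Subgroup G)) (A B C D : Subgroup G) : Prop where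
  hS : IsRootSubgroupSet S
  hA : A ∈ S
  hB : B ∈ S
  hC : C ∈ S
  hD : D ∈ S
  hAB : ⁅A, B⁆ = C
  hCD : ⁅C, D⁆ = A

namespace RootQuad

variable {S : Set (Subgroup G)} {A B C D : Subgroup G}

theorem symm (t : RootQuad S A B C D) : RootQuad S C D A B :=
  ⟨t.hS, t.hC, t.hD, t.hA, t.hB, t.hCD, t.hAB⟩

theorem caseAB (t : RootQuad S A B C D) : RootCommutatorCase S A B :=
  commutatorCase_of_commutator_mem t.hS t.hA t.hB (by rw [t.hAB]; exact t.hC)

theorem cC_A (t : RootQuad S A B C D) : ∀ c ∈ C, ∀ a ∈ A, c * a = a * c := by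
  have := commCase_comm_bot_left t.caseAB
  rwa [t.hAB] at this

theorem cC_B (t : RootQuad S A B C D) : ∀ c ∈ C, ∀ b ∈ B, c * b = b * c := by
  have := commCase_comm_bot_right t.caseAB
  rwa [t.hAB] at this

theorem cA_D (t : RootQuad S A B C D) : ∀ a ∈ A, ∀ d ∈ D, a * d = d * a := t.symm.cC_B

theorem commAD (t : RootQuad S A B C D) : ⁅A, D⁆ = ⊥ := commutator_eq_bot_iff_commute.2 t.cA_D

/-- `A` lies in every term of the lower central series of any subgroup containing `A, B, D`. -/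
theorem le_lowerCentralSeries (t : RootQuad S A B C D) {R : Subgroup G} (hAR : A ≤ R) (hBR : B ≤ R)
    (hDR : D ≤ R) : ∀ n, A ≤ R.lowerCentralSeries n ∧ C ≤ R.lowerCentralSeries n := by
  intro n
  induction n with
  | zero =>
    refine ⟨hAR, ?_⟩
    rw [← t.hAB]
    exact le_trans (commutator_le_sup A B) (sup_le hAR hBR)
  | succ n ih =>
    rw [Subgroup.lowerCentralSeries_succ]
    constructor
    · conv_lhs => rw [← t.hCD]
      exact Subgroup.commutator_mono ih.2 hDR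
    · conv_lhs => rw [← t.hAB]
      exact Subgroup.commutator_mono ih.1 hBR

/-- (1) of II(2.11): `B` and `D` form a rank one pair. -/
theorem rankOne (t : RootQuad S A B C D) : IsRankOnePair B D := by
  rcases t.hS.pair B t.hB D t.hD with h | h | h
  · exfalso
    have h1 : ⁅⁅B, D⁆, A⁆ = ⊥ := by rw [h, Subgroup.commutator_bot_left]
    have h2 : ⁅⁅D, A⁆, B⁆ = ⊥ := by
      rw [Subgroup.commutator_comm D A, t.commAD, Subgroup.commutator_bot_left]
    have h3 := Subgroup.commutator_commutator_eq_bot_of_rotate h1 h2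
    rw [t.hAB, t.hCD] at h3
    exact t.hS.ne_bot A t.hA h3
  · exact h
  · exfalso
    have tr : RootTriple S A B D :=
      RootTriple.mk' t.hS t.hA t.hB t.hD (by rw [t.hAB]; exact t.hC) h.1 t.commAD
    have hnil := tr.isNilpotent
    rw [Subgroup.isNilpotent_iff_lowerCentralSeries] at hnil
    obtain ⟨n, hn⟩ := hnil
    have := (t.le_lowerCentralSeries (R := A ⊔ B ⊔ D) (le_sup_of_le_left le_sup_left)
      (le_sup_of_le_left le_sup_right) le_sup_right n).1
    rw [hn, le_bot_iff] at this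
    exact t.hS.ne_bot A t.hA this

theorem inf_eq_bot (t : RootQuad S A B C D) : A ⊓ C = ⊥ := by
  rw [eq_bot_iff]
  intro x hx0
  obtain ⟨hxA, hxC⟩ := Subgroup.mem_inf.1 hx0
  rw [Subgroup.mem_bot]
  by_contra hx1
  have hcl := t.symm.caseAB.2.2.1 x hxC hx1
  apply t.hS.ne_bot A t.hA
  rw [← t.hCD, ← hcl, Subgroup.closure_eq_bot_iff]
  rintro _ ⟨d, hd, rfl⟩
  show x * d * x⁻¹ * d⁻¹ = 1
  rw [t.cA_D x hxA d hd]
  group

/-- No non-identity element of `B` commutes with a non-identity element of `A`. -/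
theorem eq_one_of_comm (t : RootQuad S A B C D) {a b : G} (ha : a ∈ A) (ha1 : a ≠ 1) (hb : b ∈ B)
    (hab : a * b = b * a) : b = 1 := by
  by_contra hb1
  obtain ⟨d, hd, _, hconj⟩ := t.rankOne.cond_left b hb hb1
  -- `a` commutes with `conjBy D b⁻¹`
  have h1 : ∀ y ∈ conjBy D b⁻¹, a * y = y * a := by
    intro y hy
    rw [mem_conjBy, inv_inv] at hy
    have hc1 : Commute a b := hab
    have hc2 : Commute a (b * y * b⁻¹) := t.cA_D a ha _ hy
    have hc3 : Commute a (b⁻¹ * (b * y * b⁻¹) * b) := (hc1.inv_right.mul_right hc2).mul_right hc1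
    have e : b⁻¹ * (b * y * b⁻¹) * b = y := by group
    rw [e] at hc3
    exact hc3
  rw [← hconj] at h1
  have h2 : ∀ b' ∈ B, a * b' = b' * a := by
    intro b' hb'
    have h := h1 (d⁻¹ * b' * d⁻¹⁻¹) (conj_mem_conjBy hb')
    rw [inv_inv] at h
    have hc1 : Commute a d := t.cA_D a ha d hd
    have hc2 : Commute a (d⁻¹ * b' * d) := h
    have hc3 : Commute a (d * (d⁻¹ * b' * d) * d⁻¹) := (hc1.mul_right hc2).mul_right hc1.inv_right
    have e : d * (d⁻¹ * b' * d) * d⁻¹ = b' := by group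
    rw [e] at hc3
    exact hc3
  have hcl := t.caseAB.2.2.1 a ha ha1
  apply t.hS.ne_bot C t.hC
  rw [← t.hAB, ← hcl, Subgroup.closure_eq_bot_iff]
  rintro _ ⟨b', hb', rfl⟩
  show a * b' * a⁻¹ * b'⁻¹ = 1
  rw [h2 b' hb']
  group

theorem cA_C (t : RootQuad S A B C D) : ∀ a ∈ A, ∀ c ∈ C, a * c = c * a := t.symm.cC_A

/-- `C = C_{AC}(B)`. -/
theorem C_eq (t : RootQuad S A B C D) : C = (A ⊔ C) ⊓ Subgroup.centralizer (B : Set G) := by
  apply le_antisymm
  · refine le_inf le_sup_right ?_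
    intro c hc
    rw [Subgroup.mem_centralizer_iff]
    intro b hb
    exact (t.cC_B c hc b hb).symm
  · intro x hx0
    obtain ⟨hx, hxB⟩ := Subgroup.mem_inf.1 hx0
    rw [Subgroup.mem_centralizer_iff] at hxB
    obtain ⟨a, ha, c, hc, rfl⟩ := mem_sup_of_commute (A := A) (C := C) t.cC_A hx
    obtain ⟨b, hb, hb1⟩ := exists_ne_one_of_ne_bot (t.hS.ne_bot B t.hB)
    have hcb : Commute c b := t.cC_B c hc b hb
    have hxb : Commute (c * a) b := (hxB b hb).symm
    have hab : Commute a b := by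
      have := hcb.inv_left.mul_left hxb
      rwa [inv_mul_cancel_left] at this
    by_cases ha1 : a = 1
    · subst ha1; simpa using hc
    · exact absurd (t.eq_one_of_comm ha ha1 hb hab) hb1

theorem A_eq (t : RootQuad S A B C D) : A = (A ⊔ C) ⊓ Subgroup.centralizer (D : Set G) := by
  have := t.symm.C_eq
  rwa [sup_comm] at this

theorem conjN_B (t : RootQuad S A B C D) {b : G} (hb : b ∈ B) : conjBy (A ⊔ C) b = A ⊔ C := by
  have hle : ∀ b ∈ B, conjBy (A ⊔ C) b ≤ A ⊔ C := by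
    intro b hb
    rw [conjBy_sup]
    refine sup_le ?_ ?_
    · have := commCase_conj_le (A := A) (B := B) hb
      rwa [t.hAB] at this
    · rw [conjBy_eq_self_of_comm (fun c hc => (t.cC_B c hc b hb).symm)]
      exact le_sup_right
  apply le_antisymm (hle b hb)
  have := conjBy_mono (hle b⁻¹ (B.inv_mem hb)) b
  rwa [conjBy_inv_conjBy] at this

theorem conjN_D (t : RootQuad S A B C D) {d : G} (hd : d ∈ D) : conjBy (A ⊔ C) d = A ⊔ C := by
  have := t.symm.conjN_B hd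
  rwa [sup_comm] at this

/-- `d⁻¹ C d = b⁻¹ A b` when `b⁻¹ D b = d⁻¹ B d`. -/
theorem conj_eq_of_conj_eq (t : RootQuad S A B C D) {b d : G} (hb : b ∈ B) (hd : d ∈ D)
    (h : conjBy D b = conjBy B d) : conjBy C d = conjBy A b := by
  conv_lhs => rw [t.C_eq]
  conv_rhs => rw [t.A_eq]
  rw [conjBy_inf_centralizer, conjBy_inf_centralizer, t.conjN_B hb, t.conjN_D hd, h]

theorem exists_conj_B (t : RootQuad S A B C D) {d : G} (hd : d ∈ D) (hd1 : d ≠ 1) :
    ∃ b ∈ B, conjBy C d = conjBy A b := by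
  have hd1' : d⁻¹ ≠ 1 := by simpa using hd1
  obtain ⟨b, hb, _, hconj⟩ := t.rankOne.cond_right d⁻¹ (D.inv_mem hd) hd1'
  rw [inv_inv] at hconj
  exact ⟨b⁻¹, B.inv_mem hb, t.conj_eq_of_conj_eq (B.inv_mem hb) hd hconj⟩

theorem rankOne' (t : RootQuad S A B C D) : IsRankOnePair D B := RankOnePair_symm t.rankOne

theorem exists_conj_D (t : RootQuad S A B C D) {b : G} (hb : b ∈ B) (hb1 : b ≠ 1) :
    ∃ d ∈ D, conjBy A b = conjBy C d := t.symm.exists_conj_B hb hb1

/-- The family `A^B ∪ {C}`. -/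
def fam (A B C : Subgroup G) : Set (Subgroup G) := (fun b : G => conjBy A b) '' (B : Set G) ∪ {C}

theorem conjC_mem_fam (t : RootQuad S A B C D) {d : G} (hd : d ∈ D) : conjBy C d ∈ fam A B C := by
  by_cases hd1 : d = 1
  · subst hd1; rw [conjBy_one]; exact Or.inr rfl
  · obtain ⟨b, hb, he⟩ := t.exists_conj_B hd hd1
    exact Or.inl ⟨b, hb, he.symm⟩

theorem fam_conj_B (t : RootQuad S A B C D) : ∀ b ∈ B, ∀ E ∈ fam A B C, conjBy E b ∈ fam A B C := by
  rintro b hb E (⟨b', hb', rfl⟩ | rfl)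
  · exact Or.inl ⟨b * b', B.mul_mem hb hb', conjBy_mul A b b'⟩
  · right
    show conjBy E b = E
    exact conjBy_eq_self_of_comm (fun c hc => (t.cC_B c hc b hb).symm)

theorem fam_conj_D (t : RootQuad S A B C D) : ∀ d ∈ D, ∀ E ∈ fam A B C, conjBy E d ∈ fam A B C := by
  rintro d hd E (⟨b', hb', rfl⟩ | rfl)
  · show conjBy (conjBy A b') d ∈ fam A B C
    by_cases hb1 : b' = 1
    · subst hb1
      rw [conjBy_one, conjBy_eq_self_of_comm (fun a ha => (t.cA_D a ha d hd).symm)]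
      exact Or.inl ⟨1, B.one_mem, conjBy_one A⟩
    · obtain ⟨d', hd', he⟩ := t.exists_conj_D hb' hb1
      rw [he, ← conjBy_mul]
      exact t.conjC_mem_fam (D.mul_mem hd hd')
  · exact t.conjC_mem_fam hd

theorem orbit_eq_fam (t : RootQuad S A B C D) :
    {E | ∃ x ∈ B ⊔ D, E = conjBy A x} = fam A B C := by
  apply Set.Subset.antisymm
  · rintro E ⟨x, hx, rfl⟩
    exact conjBy_mem_of_mem_sup t.fam_conj_B t.fam_conj_D hx (Or.inl ⟨1, B.one_mem, conjBy_one A⟩)
  · rintro E (⟨b, hb, rfl⟩ | rfl)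
    · exact ⟨b, Subgroup.mem_sup_left hb, rfl⟩
    · obtain ⟨d, hd, hd1⟩ := exists_ne_one_of_ne_bot (t.hS.ne_bot D t.hD)
      obtain ⟨b, hb, he⟩ := t.exists_conj_B hd hd1
      refine ⟨d⁻¹ * b, Subgroup.mul_mem _ (Subgroup.mem_sup_right (D.inv_mem hd))
        (Subgroup.mem_sup_left hb), ?_⟩
      show E = conjBy A (d⁻¹ * b)
      rw [conjBy_mul, ← he, conjBy_conjBy_inv]

theorem orbit_eq_orbit (t : RootQuad S A B C D) :
    {E | ∃ x ∈ B ⊔ D, E = conjBy A x} = {E | ∃ x ∈ B ⊔ D, E = conjBy C x} := by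
  have hC : C ∈ {E | ∃ x ∈ B ⊔ D, E = conjBy A x} := by
    rw [t.orbit_eq_fam]; exact Or.inr rfl
  obtain ⟨g, hg, hCg⟩ := hC
  apply Set.Subset.antisymm
  · rintro E ⟨x, hx, rfl⟩
    refine ⟨x * g⁻¹, Subgroup.mul_mem _ hx (Subgroup.inv_mem _ hg), ?_⟩
    rw [conjBy_mul, hCg, conjBy_conjBy_inv]
  · rintro E ⟨x, hx, rfl⟩
    refine ⟨x * g, Subgroup.mul_mem _ hx hg, ?_⟩
    rw [conjBy_mul, ← hCg]

theorem orbit_eq_fam' (t : RootQuad S A B C D) :
    {E | ∃ x ∈ B ⊔ D, E = conjBy A x} = fam C D A := by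
  rw [t.orbit_eq_orbit, ← t.symm.orbit_eq_fam, sup_comm]

theorem partition (t : RootQuad S A B C D) : IsSubgroupPartition (A ⊔ C) (fam A B C) := by
  refine ⟨?_, ?_, ?_⟩
  · rintro E (⟨b, hb, rfl⟩ | rfl)
    · have := commCase_conj_le (A := A) (B := B) hb
      rwa [t.hAB] at this
    · exact le_sup_right
  · intro x hx hx1
    obtain ⟨a, ha, c, hc, rfl⟩ := mem_sup_of_commute (A := A) (C := C) t.cC_A hx
    by_cases ha1 : a = 1
    · subst ha1
      exact ⟨C, Or.inr rfl, by simpa using hc⟩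
    · have hc' : c ∈ ⁅A, B⁆ := by rw [t.hAB]; exact hc
      obtain ⟨b, hb, he⟩ := commCase_cover t.caseAB ha ha1 hc'
      refine ⟨conjBy A b, Or.inl ⟨b, hb, rfl⟩, ?_⟩
      rw [he]
      exact conj_mem_conjBy ha
  · have key : ∀ b ∈ B, conjBy A b ⊓ C = ⊥ := by
      intro b hb
      rw [eq_bot_iff]
      intro x hx0
      obtain ⟨hx1, hx2⟩ := Subgroup.mem_inf.1 hx0
      rw [mem_conjBy] at hx1
      have hcb : Commute x b := t.cC_B x hx2 b hb
      have e : b⁻¹ * x * b = x := by rw [mul_assoc, hcb.eq, inv_mul_cancel_left]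
      rw [e] at hx1
      rw [← t.inf_eq_bot]
      exact ⟨hx1, hx2⟩
    intro E hE E' hE' hne
    rcases hE with ⟨b, hb, rfl⟩ | hE <;> rcases hE' with ⟨b', hb', rfl⟩ | hE'
    · show conjBy A b ⊓ conjBy A b' = ⊥
      rw [eq_bot_iff]
      intro x hx0
      obtain ⟨hx, hx'⟩ := Subgroup.mem_inf.1 hx0
      rw [Subgroup.mem_bot]
      rw [mem_conjBy] at hx hx'
      by_contra hx1
      have ha1 : b⁻¹ * x * b ≠ 1 := by
        intro h
        apply hx1
        have : b * (b⁻¹ * x * b) * b⁻¹ = b * 1 * b⁻¹ := by rw [h]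
        simpa [mul_assoc] using this
      -- g = b'⁻¹ b
      have hg : b'⁻¹ * b ∈ B := B.mul_mem (B.inv_mem hb') hb
      have hcomm : ⁅b'⁻¹ * b, b⁻¹ * x * b⁆ ∈ C := by
        rw [← t.hAB, Subgroup.commutator_comm]
        exact Subgroup.commutator_mem_commutator hg hx
      have hA' : ⁅b'⁻¹ * b, b⁻¹ * x * b⁆ ∈ A := by
        have e : ⁅b'⁻¹ * b, b⁻¹ * x * b⁆ = (b'⁻¹ * x * b') * (b⁻¹ * x * b)⁻¹ := by
          rw [commutatorElement_def]; group
        rw [e]
        exact A.mul_mem hx' (A.inv_mem hx)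
      have h1 : ⁅b'⁻¹ * b, b⁻¹ * x * b⁆ = 1 := by
        have : ⁅b'⁻¹ * b, b⁻¹ * x * b⁆ ∈ A ⊓ C := ⟨hA', hcomm⟩
        rwa [t.inf_eq_bot, Subgroup.mem_bot] at this
      rw [commutatorElement_eq_one_iff_mul_comm] at h1
      have h2 := t.eq_one_of_comm hx ha1 hg h1.symm
      apply hne
      have : b = b' := by
        have : b' * (b'⁻¹ * b) = b' * 1 := by rw [h2]
        simpa using this
      rw [this]
    · have hE' : E' = C := hE'
      rw [hE']; exact key b hb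
    · have hE : E = C := hE
      rw [hE, inf_comm]; exact key b' hb'
    · have hE : E = C := hE
      have hE' : E' = C := hE'
      exact absurd (hE.trans hE'.symm) hne

/-- (6): the kernel of the action on `AC` is central in `⟨B, D⟩`. -/
theorem centralizer_central (t : RootQuad S A B C D) :
    ∀ x ∈ (B ⊔ D) ⊓ Subgroup.centralizer ((A ⊔ C : Subgroup G) : Set G), ∀ y ∈ B ⊔ D,
      x * y = y * x := by
  set K := (B ⊔ D) ⊓ Subgroup.centralizer ((A ⊔ C : Subgroup G) : Set G) with hK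
  have hKle : K ≤ B ⊔ D := inf_le_left
  have hnorm : ∀ g, conjBy (A ⊔ C) g = A ⊔ C → conjBy (A ⊔ C) g⁻¹ = A ⊔ C → ∀ k ∈ K,
      g ∈ B ⊔ D → g * k * g⁻¹ ∈ K := by
    intro g hg hg' k hk hgX
    obtain ⟨hk1, hk2⟩ := Subgroup.mem_inf.1 hk
    refine Subgroup.mem_inf.2
      ⟨Subgroup.mul_mem _ (Subgroup.mul_mem _ hgX hk1) (Subgroup.inv_mem _ hgX), ?_⟩
    rw [Subgroup.mem_centralizer_iff]
    intro n hn
    have hn' : g⁻¹ * n * g ∈ A ⊔ C := by
      have : g⁻¹ * n * g⁻¹⁻¹ ∈ conjBy (A ⊔ C) g⁻¹ := conj_mem_conjBy hn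
      rwa [hg', inv_inv] at this
    rw [Subgroup.mem_centralizer_iff] at hk2
    have := hk2 _ hn'
    calc n * (g * k * g⁻¹) = g * ((g⁻¹ * n * g) * k) * g⁻¹ := by group
      _ = g * (k * (g⁻¹ * n * g)) * g⁻¹ := by rw [this]
      _ = g * k * g⁻¹ * n := by group
  have hN : B ⊔ D ≤ Subgroup.normalizer (K : Set G) := by
    have hsub : B ⊔ D ≤ stabNK (A ⊔ C) (B ⊔ D) := by
      apply sup_le
      · intro b hb
        exact ⟨Subgroup.mem_sup_left hb, t.conjN_B hb, t.conjN_B (B.inv_mem hb)⟩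
      · intro d hd
        exact ⟨Subgroup.mem_sup_right hd, t.conjN_D hd, t.conjN_D (D.inv_mem hd)⟩
    intro g hg
    obtain ⟨hgX, h1, h2⟩ := hsub hg
    rw [Subgroup.mem_normalizer_iff]
    intro k
    constructor
    · intro hk; exact hnorm g h1 h2 k hk hgX
    · intro hk
      have := hnorm g⁻¹ h2 (by rwa [inv_inv]) _ hk (Subgroup.inv_mem _ hgX)
      simpa [mul_assoc] using this
  rcases rankOne_normal_dichotomy' t.rankOne hKle hN with h | h
  · exfalso
    -- then `D` centralizes `C`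
    have hcen : K ⊔ B ≤ Subgroup.centralizer (C : Set G) := by
      apply sup_le
      · intro k hk
        have := (Subgroup.mem_inf.1 hk).2
        rw [Subgroup.mem_centralizer_iff] at this ⊢
        intro c hc
        exact this c (Subgroup.mem_sup_right hc)
      · intro b hb
        rw [Subgroup.mem_centralizer_iff]
        intro c hc
        exact t.cC_B c hc b hb
    obtain ⟨d, hd, hd1⟩ := exists_ne_one_of_ne_bot (t.hS.ne_bot D t.hD)
    obtain ⟨c, hc, hc1⟩ := exists_ne_one_of_ne_bot (t.hS.ne_bot C t.hC)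
    have hdc := hcen (h (Subgroup.mem_sup_right hd))
    rw [Subgroup.mem_centralizer_iff] at hdc
    exact hd1 (t.symm.eq_one_of_comm hc hc1 hd (hdc c hc))
  · intro x hx y hy
    have hmem : x ∈ Subgroup.centralizer ((B ⊔ D : Subgroup G) : Set G) :=
      mem_centralizer_sup (fun b hb => (h x hx).1 b hb) (fun d hd => (h x hx).2 d hd)
    rw [Subgroup.mem_centralizer_iff] at hmem
    exact (hmem y hy).symm

end RootQuad

end Cfsg.Agent.Lib.Helper25
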