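/-
helper25: lines `AB` (`B ∈ Λ_A`) and connected components of the graph of rank one pairs:
Timmesfeld II(2.8)/(2.9).
-/
import Mathlib
import Cfsg.Prelude.Def_RootSubgroups
import Cfsg.Agent.Lib.Helper25.RootQuad

set_option autoImplicit false

namespace Cfsg.Agent.Lib.Helper25

open Cfsg
open scoped commutatorElement

variable {G : Type*} [Group G]

/-! ### rank one pairs inside a subgroup -/

theorem rankOneCondition_subgroupOf {A C X : Subgroup G} (hC : C ≤ X)
    (h : RankOneCondition A C) : RankOneCondition (A.subgroupOf X) (C.subgroupOf X) := by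
  intro a ha ha1
  rw [Subgroup.mem_subgroupOf] at ha
  have ha1' : (a : G) ≠ 1 := fun e => ha1 (Subtype.ext e)
  obtain ⟨c, hc, hc1, hconj⟩ := h (a : G) ha ha1'
  refine ⟨⟨c, hC hc⟩, Subgroup.mem_subgroupOf.2 hc, fun e => hc1 (congrArg Subtype.val e), ?_⟩
  ext y
  rw [mem_conjBy, mem_conjBy, Subgroup.mem_subgroupOf, Subgroup.mem_subgroupOf]
  have h1 : ((⟨c, hC hc⟩ : ↥X)⁻¹⁻¹ * y * (⟨c, hC hc⟩ : ↥X)⁻¹ : ↥X) = ((c⁻¹⁻¹ * (y : G) * c⁻¹ : G)) := rfl
  have h2 : ((a⁻¹⁻¹ * y * a⁻¹ : ↥X) : G) = ((a : G)⁻¹⁻¹ * (y : G) * (a : G)⁻¹ : G) := rfl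
  rw [h1, h2, ← mem_conjBy, ← mem_conjBy, hconj]

theorem rankOnePair_subgroupOf {A C X : Subgroup G} (hA : A ≤ X) (hC : C ≤ X)
    (h : IsRankOnePair A C) : IsRankOnePair (A.subgroupOf X) (C.subgroupOf X) := by
  refine ⟨?_, ?_, ?_, rankOneCondition_subgroupOf hC h.cond_left,
    rankOneCondition_subgroupOf hA h.cond_right⟩
  · intro e
    apply h.ne
    have := congrArg (Subgroup.map X.subtype) e
    rwa [Subgroup.map_subgroupOf_eq_of_le hA, Subgroup.map_subgroupOf_eq_of_le hC] at this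
  · have := h.nilpotent_left
    exact Group.nilpotent_of_mulEquiv (Subgroup.subgroupOfEquivOfLe hA).symm
  · have := h.nilpotent_right
    exact Group.nilpotent_of_mulEquiv (Subgroup.subgroupOfEquivOfLe hC).symm

/-- A rank one pair does not live inside a nilpotent subgroup. -/
theorem rankOne_not_nilpotent_of_le {A C R : Subgroup G} (h : IsRankOnePair A C) (hA : A ≤ R)
    (hC : C ≤ R) : ¬ Group.IsNilpotent ↥R := by
  intro hnil
  have hle : A ⊔ C ≤ R := sup_le hA hC
  have hX : Group.IsNilpotent ↥(A ⊔ C) := by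
    rw [Subgroup.isNilpotent_iff_lowerCentralSeries] at hnil ⊢
    obtain ⟨n, hn⟩ := hnil
    refine ⟨n, ?_⟩
    rw [eq_bot_iff, ← hn]
    exact Subgroup.lowerCentralSeries_mono n hle
  have hp := rankOnePair_subgroupOf (X := A ⊔ C) le_sup_left le_sup_right h
  have htop : A.subgroupOf (A ⊔ C) ⊔ C.subgroupOf (A ⊔ C) = ⊤ := by
    rw [← Subgroup.subgroupOf_sup le_sup_left le_sup_right, Subgroup.subgroupOf_self]
  exact rankOne_not_nilpotent hp htop hX

/-! ### nilpotent subgroups generated by three members -/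

theorem isNilpotent_of_central_pair {P C Q : Subgroup G} (hP : IsMulCommutative P)
    (hC : IsMulCommutative C) (hQ : IsMulCommutative Q) (hPC : ⁅P, C⁆ = ⊥) (hPQ : ⁅P, Q⁆ = ⊥)
    (hcen : ∀ l ∈ ⁅C, Q⁆, ∀ x ∈ C ⊔ Q, l * x = x * l) : Group.IsNilpotent ↥(P ⊔ C ⊔ Q) := by
  have hCP : ⁅C, P⁆ = ⊥ := by rw [Subgroup.commutator_comm]; exact hPC
  have hQP : ⁅Q, P⁆ = ⊥ := by rw [Subgroup.commutator_comm]; exact hPQ
  have hKcenP : ⁅C, Q⁆ ≤ Subgroup.centralizer (P : Set G) := by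
    refine le_trans (commutator_le_sup C Q) (sup_le ?_ ?_)
    · exact Subgroup.commutator_eq_bot_iff_le_centralizer.1 hCP
    · exact Subgroup.commutator_eq_bot_iff_le_centralizer.1 hQP
  have hKP : ⁅⁅C, Q⁆, P⁆ = ⊥ := Subgroup.commutator_eq_bot_iff_le_centralizer.2 hKcenP
  have hKCQ : ⁅⁅C, Q⁆, C ⊔ Q⁆ = ⊥ := commutator_eq_bot_iff_commute.2 hcen
  have hKC : ⁅⁅C, Q⁆, C⁆ = ⊥ := by
    rw [eq_bot_iff, ← hKCQ]; exact Subgroup.commutator_mono le_rfl le_sup_left
  have hKQ : ⁅⁅C, Q⁆, Q⁆ = ⊥ := by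
    rw [eq_bot_iff, ← hKCQ]; exact Subgroup.commutator_mono le_rfl le_sup_right
  have nP : P ≤ Subgroup.normalizer ((⁅C, Q⁆ : Subgroup G) : Set G) :=
    RootTriple.le_normalizer_of_le_centralizer hKcenP
  have nC : C ≤ Subgroup.normalizer ((⁅C, Q⁆ : Subgroup G) : Set G) :=
    Subgroup.normalizer_commutator_ge_left C Q
  have nQ : Q ≤ Subgroup.normalizer ((⁅C, Q⁆ : Subgroup G) : Set G) :=
    Subgroup.normalizer_commutator_ge_right C Q
  have hbot : ∀ H : Subgroup G, H ≤ Subgroup.normalizer (((⊥ : Subgroup G) : Subgroup G) : Set G) := by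
    intro H; rw [normalizer_bot_eq_top]; exact le_top
  have hPP : ⁅P, P⁆ = ⊥ := Subgroup.commutator_self_eq_bot_iff.2 hP
  have hCC : ⁅C, C⁆ = ⊥ := Subgroup.commutator_self_eq_bot_iff.2 hC
  have hQQ : ⁅Q, Q⁆ = ⊥ := Subgroup.commutator_self_eq_bot_iff.2 hQ
  have h0P : ⁅P ⊔ C ⊔ Q, P⁆ ≤ ⁅C, Q⁆ := by
    refine commutator_sup_left_le (commutator_sup_left_le ?_ ?_ nP nC) ?_ (sup_le nP nC) nQ
    · rw [hPP]; exact bot_le
    · rw [hCP]; exact bot_le
    · rw [hQP]; exact bot_le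
  have h0C : ⁅P ⊔ C ⊔ Q, C⁆ ≤ ⁅C, Q⁆ := by
    refine commutator_sup_left_le (commutator_sup_left_le ?_ ?_ nP nC) ?_ (sup_le nP nC) nQ
    · rw [hPC]; exact bot_le
    · rw [hCC]; exact bot_le
    · rw [Subgroup.commutator_comm]
  have h0Q : ⁅P ⊔ C ⊔ Q, Q⁆ ≤ ⁅C, Q⁆ := by
    refine commutator_sup_left_le (commutator_sup_left_le ?_ ?_ nP nC) ?_ (sup_le nP nC) nQ
    · rw [hPQ]; exact bot_le
    · exact le_rfl
    · rw [hQQ]; exact bot_le
  let V : ℕ → Subgroup G := fun i =>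
    match i with
    | 0 => P ⊔ C ⊔ Q
    | 1 => ⁅C, Q⁆
    | _ => ⊥
  refine isNilpotent_of_chain (P ⊔ C ⊔ Q) V le_rfl ?_ 2 rfl
  intro i
  match i with
  | 0 => exact RootTriple.comm_R_le h0P h0C h0Q nP nC nQ
  | 1 => exact RootTriple.comm_R_le hKP.le hKC.le hKQ.le (hbot _) (hbot _) (hbot _)
  | (n + 2) =>
    show ⁅(⊥ : Subgroup G), P ⊔ C ⊔ Q⁆ ≤ ⊥
    rw [Subgroup.commutator_bot_left]

/-- Two different commuting members `P`, `Q` neither of which is a rank one partner of `C`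
generate with `C` a nilpotent subgroup. -/
theorem exists_nilpotent_of_not_rankOne {S : Set (Subgroup G)} (hS : IsRootSubgroupSet S)
    {P C Q : Subgroup G} (hP : P ∈ S) (hC : C ∈ S) (hQ : Q ∈ S) (hPQ : ⁅P, Q⁆ = ⊥)
    (h1 : ¬ IsRankOnePair P C) (h2 : ¬ IsRankOnePair C Q) :
    ∃ R : Subgroup G, Group.IsNilpotent ↥R ∧ P ≤ R ∧ C ≤ R ∧ Q ≤ R := by
  have hPc := hS.commutative P hP
  have hCc := hS.commutative C hC
  have hQc := hS.commutative Q hQ
  have hQP : ⁅Q, P⁆ = ⊥ := by rw [Subgroup.commutator_comm]; exact hPQ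
  rcases hS.pair P hP C hC with h | h | h
  · -- `P` commutes with `C`
    exact ⟨P ⊔ C ⊔ Q, isNilpotent_of_central_pair hPc hCc hQc h hPQ (pair_central hS hC hQ h2),
      le_sup_of_le_left le_sup_left, le_sup_of_le_left le_sup_right, le_sup_right⟩
  · exact absurd h h1
  · rcases hS.pair C hC Q hQ with h' | h' | h'
    · -- `Q` commutes with `C`
      have h1' : ¬ IsRankOnePair C P := fun hr => h1 (RankOnePair_symm hr)
      have hQC : ⁅Q, C⁆ = ⊥ := by rw [Subgroup.commutator_comm]; exact h'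
      exact ⟨Q ⊔ C ⊔ P, isNilpotent_of_central_pair hQc hCc hPc hQC hQP
        (pair_central hS hC hP h1'), le_sup_right, le_sup_of_le_left le_sup_right,
        le_sup_of_le_left le_sup_left⟩
    · exact absurd h' h2
    · have t : RootTriple S P C Q := RootTriple.mk' hS hP hC hQ h.1 h'.1 hPQ
      exact ⟨P ⊔ C ⊔ Q, t.isNilpotent, le_sup_of_le_left le_sup_left,
        le_sup_of_le_left le_sup_right, le_sup_right⟩

/-! ### the graph of rank one pairs -/

theorem FAdj_symm {S : Set (Subgroup G)} {A B : Subgroup G} (h : FAdj S A B) : FAdj S B A :=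
  ⟨h.2.1, h.1, RankOnePair_symm h.2.2⟩

theorem reach_symm {S : Set (Subgroup G)} {A B : Subgroup G}
    (h : Relation.ReflTransGen (FAdj S) A B) : Relation.ReflTransGen (FAdj S) B A := by
  induction h with
  | refl => exact Relation.ReflTransGen.refl
  | tail _ hbc ih => exact (Relation.ReflTransGen.single (FAdj_symm hbc)).trans ih

theorem componentOf_eq_of_reach {S : Set (Subgroup G)} {A B : Subgroup G}
    (h : Relation.ReflTransGen (FAdj S) A B) :
    componentOf (FAdj S) S A = componentOf (FAdj S) S B := by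
  have h' : Relation.ReflTransGen (FAdj S) B A := reach_symm h
  ext X
  constructor
  · rintro ⟨hX, hr⟩; exact ⟨hX, h'.trans hr⟩
  · rintro ⟨hX, hr⟩; exact ⟨hX, h.trans hr⟩

/-- A vertex whose component has another member has a neighbour. -/
theorem exists_adj_of_component {S : Set (Subgroup G)} {A : Subgroup G}
    (h : ∃ A' ∈ componentOf (FAdj S) S A, A' ≠ A) : ∃ C, FAdj S A C := by
  obtain ⟨A', ⟨_, hr⟩, hne⟩ := h
  rcases Relation.ReflTransGen.cases_head hr with h | ⟨C, hC, _⟩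
  · exact absurd h.symm hne
  · exact ⟨C, hC⟩

/-! ### lines -/

/-- II(2.8)-type lemma: `B ∈ Λ_A`, `C ∈ Ω_A`, `B ∉ Ω_C`.  Then every member `T` of `S` in `AB`
other than `A` and `B` is a rank one partner of `C`. -/
theorem rankOne_of_mem_line {S : Set (Subgroup G)} (hS : IsRootSubgroupSet S)
    {A B C T : Subgroup G} (hA : A ∈ S) (hB : B ∈ linePartners S A) (hC : C ∈ S)
    (hAC : IsRankOnePair A C) (hCB : ¬ IsRankOnePair C B)
    (hT : T ∈ membersIn S (A ⊔ B)) (hTB : T ≠ B) : IsRankOnePair C T := by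
  by_contra hCT
  obtain ⟨⟨hBS, hBA, hAB⟩, hpart⟩ := hB
  have hAm : A ∈ membersIn S (A ⊔ B) := ⟨hA, le_sup_left⟩
  have hBm : B ∈ membersIn S (A ⊔ B) := ⟨hBS, le_sup_right⟩
  -- `T` and `B` commute
  have hABc : IsMulCommutative ↥(A ⊔ B) := (pair_abelian_iff hS hA hBS).2 hAB
  have hBT : ⁅B, T⁆ = ⊥ := by
    rw [eq_bot_iff, ← Subgroup.commutator_self_eq_bot_iff.2 hABc]
    exact Subgroup.commutator_mono le_sup_right hT.2
  have hBC : ¬ IsRankOnePair B C := fun hr => hCB (RankOnePair_symm hr)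
  obtain ⟨R, hnil, hBR, hCR, hTR⟩ := exists_nilpotent_of_not_rankOne hS hBS hC hT.1 hBT hBC hCT
  -- a non-identity element of `T` is `a * b`
  obtain ⟨t, ht, ht1⟩ := exists_ne_one_of_ne_bot (hS.ne_bot T hT.1)
  have hcomm : ∀ b ∈ B, ∀ a ∈ A, b * a = a * b := fun b hb a ha =>
    ((commutator_eq_bot_iff_commute.1 hAB) a ha b hb).symm
  obtain ⟨a, ha, b, hb, he⟩ := mem_sup_of_commute (A := A) (C := B) hcomm (hT.2 ht)
  have ha1 : a ≠ 1 := by
    intro h
    rw [h, mul_one] at he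
    have : t ∈ T ⊓ B := ⟨ht, he ▸ hb⟩
    rw [hpart.2.2 T hT B hBm hTB, Subgroup.mem_bot] at this
    exact ht1 this
  have haR : a ∈ R := by
    have : a = b⁻¹ * t := by rw [he]; group
    rw [this]
    exact R.mul_mem (R.inv_mem (hBR hb)) (hTR ht)
  -- `C` and `a C a⁻¹` form a rank one pair inside `R`
  have hCu : C ∈ unipotentSubgroups A C := rankOne_right_mem_unipotentSubgroups hAC
  have hCa : conjBy C a ∈ unipotentSubgroups A C :=
    unipotentSubgroups_conjBy_mem hCu (Subgroup.mem_sup_left ha)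
  have hne : C ≠ conjBy C a := by
    intro h
    exact ha1 (rankOne_eq_one_of_mem_normalizer hAC ha (conjBy_eq_self_iff.1 h.symm))
  have hp := (rankOne_pair_of_mem hAC hCu hCa hne).1
  exact rankOne_not_nilpotent_of_le hp hCR (conjBy_le_of_mem_of_le hCR haR) hnil

/-- II(2.8): a line partner `B` of `A` lies in the component of `A`, when both have neighbours. -/
theorem line_reach {S : Set (Subgroup G)} (hS : IsRootSubgroupSet S)
    {A B C C' : Subgroup G} (hA : A ∈ S) (hBL : B ∈ linePartners S A)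
    (hAC : FAdj S A C) (hBC' : FAdj S B C') : Relation.ReflTransGen (FAdj S) A B := by
  by_contra hne
  have hB : B ∈ S := hBL.1.1
  have hAL : A ∈ linePartners S B := by
    refine ⟨⟨hA, hBL.1.2.1.symm, ?_⟩, ?_⟩
    · rw [Subgroup.commutator_comm]; exact hBL.1.2.2
    · rw [sup_comm]; exact hBL.2
  have hAm : A ∈ membersIn S (A ⊔ B) := ⟨hA, le_sup_left⟩
  have hBm : B ∈ membersIn S (A ⊔ B) := ⟨hB, le_sup_right⟩
  have hinf : A ⊓ B = ⊥ := hBL.2.2.2 A hAm B hBm hBL.1.2.1.symm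
  obtain ⟨a, ha, ha1⟩ := exists_ne_one_of_ne_bot (hS.ne_bot A hA)
  obtain ⟨b, hb, hb1⟩ := exists_ne_one_of_ne_bot (hS.ne_bot B hB)
  have hx : a * b ∈ A ⊔ B := Subgroup.mul_mem _ (Subgroup.mem_sup_left ha) (Subgroup.mem_sup_right hb)
  have hx1 : a * b ≠ 1 := by
    intro h
    have : a = b⁻¹ := eq_inv_of_mul_eq_one_left h
    have hmem : a ∈ A ⊓ B := ⟨ha, this ▸ B.inv_mem hb⟩
    rw [hinf, Subgroup.mem_bot] at hmem
    exact ha1 hmem
  obtain ⟨T, hT, hxT⟩ := hBL.2.2.1 (a * b) hx hx1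
  have hTA : T ≠ A := by
    intro h
    rw [h] at hxT
    have : b ∈ A ⊓ B := ⟨by simpa using A.mul_mem (A.inv_mem ha) hxT, hb⟩
    rw [hinf, Subgroup.mem_bot] at this
    exact hb1 this
  have hTB : T ≠ B := by
    intro h
    rw [h] at hxT
    have : a ∈ A ⊓ B := ⟨ha, by simpa using B.mul_mem hxT (B.inv_mem hb)⟩
    rw [hinf, Subgroup.mem_bot] at this
    exact ha1 this
  have h1 : ¬ IsRankOnePair C B := fun hr =>
    hne ((Relation.ReflTransGen.single hAC).tail ⟨hAC.2.1, hB, hr⟩)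
  have h2 : ¬ IsRankOnePair C' A := fun hr =>
    hne (reach_symm ((Relation.ReflTransGen.single hBC').tail ⟨hBC'.2.1, hA, hr⟩))
  have hCT : IsRankOnePair C T := rankOne_of_mem_line hS hA hBL hAC.2.1 hAC.2.2 h1 hT hTB
  have hT' : T ∈ membersIn S (B ⊔ A) := by rw [sup_comm]; exact hT
  have hC'T : IsRankOnePair C' T := rankOne_of_mem_line hS hB hAL hBC'.2.1 hBC'.2.2 h2 hT' hTA
  have r1 : Relation.ReflTransGen (FAdj S) A T :=
    (Relation.ReflTransGen.single hAC).tail ⟨hAC.2.1, hT.1, hCT⟩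
  have r2 : Relation.ReflTransGen (FAdj S) B T :=
    (Relation.ReflTransGen.single hBC').tail ⟨hBC'.2.1, hT.1, hC'T⟩
  exact hne (r1.trans (reach_symm r2))

theorem FAdj_conj {S : Set (Subgroup G)} (hS : IsRootSubgroupSet S) {A B : Subgroup G}
    (h : FAdj S A B) (g : G) : FAdj S (conjBy A g) (conjBy B g) :=
  ⟨hS.conj_mem A h.1 g, hS.conj_mem B h.2.1 g, rankOnePair_conj h.2.2 g⟩

theorem reach_conj {S : Set (Subgroup G)} (hS : IsRootSubgroupSet S) {A B : Subgroup G}
    (h : Relation.ReflTransGen (FAdj S) A B) (g : G) :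
    Relation.ReflTransGen (FAdj S) (conjBy A g) (conjBy B g) := by
  induction h with
  | refl => exact Relation.ReflTransGen.refl
  | tail _ hbc ih => exact ih.tail (FAdj_conj hS hbc g)

/-- In the commutator case (with `A` not isolated) `⁅A, D⁆` is a line partner of `A`. -/
theorem commCase_linePartner {S : Set (Subgroup G)} (hS : IsRootSubgroupSet S)
    {A D P : Subgroup G} (hA : A ∈ S) (hAP : FAdj S A P) (h : RootCommutatorCase S A D) :
    ⁅A, D⁆ ∈ linePartners S A := by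
  refine ⟨⟨h.1, (commCase_ne hS h).symm, ?_⟩, commCase_partition hS hA hAP.2.1 hAP.2.2 h⟩
  rw [commutator_eq_bot_iff_commute]
  intro a ha n hn
  exact (commCase_comm_bot_left h n hn a ha).symm

/-- Every member of `S` (all of whose members have neighbours) stabilizes each component. -/
theorem component_conj_mem {S : Set (Subgroup G)} (hS : IsRootSubgroupSet S)
    (hnb : ∀ A ∈ S, ∃ C, FAdj S A C) {A D : Subgroup G} (hA : A ∈ S) (hD : D ∈ S) {d : G}
    (hd : d ∈ D) {E : Subgroup G} (hE : Relation.ReflTransGen (FAdj S) A E) :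
    Relation.ReflTransGen (FAdj S) A (conjBy E d) := by
  -- find `N` reachable from `A` and fixed by `d`
  have key : ∃ N, Relation.ReflTransGen (FAdj S) A N ∧ conjBy N d = N := by
    rcases hS.pair A hA D hD with h | h | h
    · refine ⟨A, Relation.ReflTransGen.refl, ?_⟩
      rw [commutator_eq_bot_iff_commute] at h
      exact conjBy_eq_self_of_comm (fun a ha => (h a ha d hd).symm)
    · exact ⟨D, Relation.ReflTransGen.single ⟨hA, hD, h⟩, conjBy_eq_self_of_mem hd⟩
    · obtain ⟨P, hAP⟩ := hnb A hA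
      obtain ⟨P', hNP'⟩ := hnb _ h.1
      refine ⟨⁅A, D⁆, line_reach hS hA (commCase_linePartner hS hA hAP h) hAP hNP', ?_⟩
      exact conjBy_eq_self_of_comm (fun n hn => (commCase_comm_bot_right h n hn d hd).symm)
  obtain ⟨N, hN, hNd⟩ := key
  have h1 : Relation.ReflTransGen (FAdj S) N E := (reach_symm hN).trans hE
  have h2 := reach_conj hS h1 d
  rw [hNd] at h2
  exact hN.trans h2

/-- II(2.9): a conjugacy class of abstract root subgroups with a rank one pair has connected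
graph of rank one pairs. -/
theorem connected_of_class {S : Set (Subgroup G)} (hS : IsRootSubgroupSet S)
    (hcl : IsConjClassOfSubgroups S) {A₀ : Subgroup G} (hA₀ : A₀ ∈ S)
    (hni : ¬ IsIsolatedIn (FAdj S) S A₀) : IsConnectedFamily (FAdj S) S := by
  -- every member has a neighbour
  have h0 : ∃ C, FAdj S A₀ C := by
    by_contra hno
    apply hni
    refine ⟨hA₀, fun B => ⟨fun h => hno ⟨B, h⟩, fun h => hno ⟨B, FAdj_symm h⟩⟩⟩
  obtain ⟨C₀, hC₀⟩ := h0
  have hnb : ∀ A ∈ S, ∃ C, FAdj S A C := by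
    intro A hA
    obtain ⟨g, rfl⟩ := hcl.2 A₀ hA₀ A hA
    exact ⟨conjBy C₀ g, FAdj_conj hS hC₀ g⟩
  intro A hA B hB
  -- the stabilizer of the component of `A` is everything
  have hstab : ∀ g : G, ∀ E, Relation.ReflTransGen (FAdj S) A E →
      Relation.ReflTransGen (FAdj S) A (conjBy E g) := by
    let T : Set (Subgroup G) := {E | Relation.ReflTransGen (FAdj S) A E}
    have hle : (⨆ D ∈ S, D) ≤ stabFamily T := by
      apply iSup₂_le
      intro D hD d hd E hE
      exact ⟨component_conj_mem hS hnb hA hD hd hE,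
        component_conj_mem hS hnb hA hD (D.inv_mem hd) hE⟩
    intro g E hE
    have hg : g ∈ stabFamily T := hle (by rw [hS.generates]; exact Subgroup.mem_top g)
    exact (hg E hE).1
  obtain ⟨g, rfl⟩ := hcl.2 A hA B hB
  exact hstab g A Relation.ReflTransGen.refl

end Cfsg.Agent.Lib.Helper25
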