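/-
helper25: the structure of a line `AB` (`B ∈ Λ_A`) relative to a rank one partner `C` of `A`
with `⁅C, B⁆ ∈ S`:  `⁅A, ⁅C, B⁆⁆ = B`  (Timmesfeld II(2.6)-type lemma).
-/
import Mathlib
import Cfsg.Prelude.Def_RootSubgroups
import Cfsg.Agent.Lib.Helper25.RootLines

set_option autoImplicit false

namespace Cfsg.Agent.Lib.Helper25

open Cfsg
open scoped commutatorElement

variable {G : Type*} [Group G]

/-- A third point on the line `AB`. -/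
theorem line_mem_of_mul {S : Set (Subgroup G)} {A B : Subgroup G} (hA : A ∈ S)
    (hBL : B ∈ linePartners S A) {a b : G} (ha : a ∈ A) (ha1 : a ≠ 1) (hb : b ∈ B) (hb1 : b ≠ 1) :
    ∃ T ∈ membersIn S (A ⊔ B), a * b ∈ T ∧ T ≠ A ∧ T ≠ B := by
  have hB : B ∈ S := hBL.1.1
  have hAm : A ∈ membersIn S (A ⊔ B) := ⟨hA, le_sup_left⟩
  have hBm : B ∈ membersIn S (A ⊔ B) := ⟨hB, le_sup_right⟩
  have hinf : A ⊓ B = ⊥ := hBL.2.2.2 A hAm B hBm hBL.1.2.1.symm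
  have hx : a * b ∈ A ⊔ B := Subgroup.mul_mem _ (Subgroup.mem_sup_left ha) (Subgroup.mem_sup_right hb)
  have hx1 : a * b ≠ 1 := by
    intro h
    have : a = b⁻¹ := eq_inv_of_mul_eq_one_left h
    have hmem : a ∈ A ⊓ B := ⟨ha, this ▸ B.inv_mem hb⟩
    rw [hinf, Subgroup.mem_bot] at hmem
    exact ha1 hmem
  obtain ⟨T, hT, hxT⟩ := hBL.2.2.1 (a * b) hx hx1
  refine ⟨T, hT, hxT, ?_, ?_⟩
  · intro h
    rw [h] at hxT
    have : b ∈ A ⊓ B := ⟨by simpa using A.mul_mem (A.inv_mem ha) hxT, hb⟩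
    rw [hinf, Subgroup.mem_bot] at this
    exact hb1 this
  · intro h
    rw [h] at hxT
    have : a ∈ A ⊓ B := ⟨ha, by simpa using B.mul_mem hxT (B.inv_mem hb)⟩
    rw [hinf, Subgroup.mem_bot] at this
    exact ha1 this

/-- If `β` commutes with `T` and `c'⁻¹ T c' = t⁻¹ C t`-type relation `conjBy T c'⁻¹ = conjBy C t⁻¹` holds,
then `t c'⁻¹ β c' t⁻¹` centralizes `C`. -/
theorem conj_mem_centralizer_of_rankOne_rel {T C : Subgroup G} {t c' β : G}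
    (hβ : ∀ τ ∈ T, β * τ = τ * β) (hrel : conjBy T c'⁻¹ = conjBy C t⁻¹) :
    t * c'⁻¹ * β * c' * t⁻¹ ∈ Subgroup.centralizer (C : Set G) := by
  rw [Subgroup.mem_centralizer_iff]
  intro γ hγ
  have h1 : t⁻¹ * γ * t⁻¹⁻¹ ∈ conjBy C t⁻¹ := conj_mem_conjBy hγ
  rw [← hrel, mem_conjBy, inv_inv, inv_inv] at h1
  have h2 := hβ _ h1
  have e : γ = t * c'⁻¹ * (c' * (t⁻¹ * γ * t) * c'⁻¹) * c' * t⁻¹ := by group
  calc γ * (t * c'⁻¹ * β * c' * t⁻¹)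
      = t * c'⁻¹ * ((c' * (t⁻¹ * γ * t) * c'⁻¹) * β) * c' * t⁻¹ := by group
    _ = t * c'⁻¹ * (β * (c' * (t⁻¹ * γ * t) * c'⁻¹)) * c' * t⁻¹ := by rw [h2]
    _ = t * c'⁻¹ * β * c' * t⁻¹ * γ := by group

/-- `B ∈ Λ_A`, `C ∈ Ω_A` and `(C, B)` in the commutator case. -/
structure LineConfig (S : Set (Subgroup G)) (A B C : Subgroup G) : Prop where
  hS : IsRootSubgroupSet S
  hA : A ∈ S
  hBL : B ∈ linePartners S A
  hC : C ∈ S
  hAC : IsRankOnePair A C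
  hCB : RootCommutatorCase S C B

namespace LineConfig

variable {S : Set (Subgroup G)} {A B C : Subgroup G}

theorem hB (t : LineConfig S A B C) : B ∈ S := t.hBL.1.1

theorem cAB (t : LineConfig S A B C) : ∀ a ∈ A, ∀ b ∈ B, a * b = b * a :=
  commutator_eq_bot_iff_commute.1 t.hBL.1.2.2

theorem cQC (t : LineConfig S A B C) : ∀ q ∈ ⁅C, B⁆, ∀ c ∈ C, q * c = c * q :=
  commCase_comm_bot_left t.hCB

theorem cQB (t : LineConfig S A B C) : ∀ q ∈ ⁅C, B⁆, ∀ b ∈ B, q * b = b * q :=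
  commCase_comm_bot_right t.hCB

theorem hBC (t : LineConfig S A B C) : RootCommutatorCase S B C :=
  commutatorCase_of_commutator_mem t.hS t.hB t.hC (by rw [Subgroup.commutator_comm]; exact t.hCB.1)

theorem kappa_mem (t : LineConfig S A B C) {β c : G} (hβ : β ∈ B) (hc : c ∈ C) :
    β⁻¹ * c⁻¹ * β * c ∈ ⁅C, B⁆ := by
  rw [Subgroup.commutator_comm]
  exact commCase_comm_mem hβ hc

theorem M_comm (t : LineConfig S A B C) : ∀ x ∈ A ⊔ B, ∀ y ∈ A ⊔ B, x * y = y * x := by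
  have h := (pair_abelian_iff t.hS t.hA t.hB).2 t.hBL.1.2.2
  intro x hx y hy
  exact comm_of_isMulCommutative h hx hy

/-- `Φ` for a matched pair `(a·b, c')` on a point `T` of the line. -/
theorem phi (t : LineConfig S A B C) {T : Subgroup G} (hT : T ≤ A ⊔ B) {a b c' : G}
    (ha : a ∈ A) (hb : b ∈ B) (hc' : c' ∈ C) (hrel : conjBy T c'⁻¹ = conjBy C (a * b)⁻¹) :
    ∀ β ∈ B, β * (a * (β⁻¹ * c'⁻¹ * β * c') * a⁻¹) ∈ Subgroup.centralizer (C : Set G) := by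
  intro β hβ
  have hβT : ∀ τ ∈ T, β * τ = τ * β := fun τ hτ =>
    t.M_comm β (Subgroup.mem_sup_right hβ) τ (hT hτ)
  have h1 := conj_mem_centralizer_of_rankOne_rel (t := a * b) (c' := c') hβT hrel
  have hκ := t.kappa_mem hβ hc'
  have e1 : b * β = β * b := t.M_comm b (Subgroup.mem_sup_right hb) β (Subgroup.mem_sup_right hβ)
  have e2 : b * (β⁻¹ * c'⁻¹ * β * c') = (β⁻¹ * c'⁻¹ * β * c') * b := (t.cQB _ hκ b hb).symm
  have e3 : a * β = β * a := t.cAB a ha β hβ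
  have e : a * b * c'⁻¹ * β * c' * (a * b)⁻¹ = β * (a * (β⁻¹ * c'⁻¹ * β * c') * a⁻¹) := by
    calc a * b * c'⁻¹ * β * c' * (a * b)⁻¹
        = a * ((b * β) * (β⁻¹ * c'⁻¹ * β * c')) * b⁻¹ * a⁻¹ := by group
      _ = a * (β * (b * (β⁻¹ * c'⁻¹ * β * c'))) * b⁻¹ * a⁻¹ := by rw [e1]; group
      _ = a * (β * ((β⁻¹ * c'⁻¹ * β * c') * b)) * b⁻¹ * a⁻¹ := by rw [e2]
      _ = (a * β) * (β⁻¹ * c'⁻¹ * β * c') * a⁻¹ := by group
      _ = β * (a * (β⁻¹ * c'⁻¹ * β * c') * a⁻¹) := by rw [e3]; group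
  rw [← e]
  exact h1

/-- `Φ` for a matched pair `(a, c)` of the rank one pair `(A, C)`. -/
theorem phi0 (t : LineConfig S A B C) {a c : G} (ha : a ∈ A) (hc : c ∈ C)
    (hrel : conjBy A c⁻¹ = conjBy C a⁻¹) :
    ∀ β ∈ B, β * (a * (β⁻¹ * c⁻¹ * β * c) * a⁻¹) ∈ Subgroup.centralizer (C : Set G) := by
  have := t.phi (T := A) le_sup_left (a := a) (b := 1) (c' := c) ha B.one_mem hc
    (by rw [mul_one]; exact hrel)
  exact this

/-- `A` does not centralize `Q = ⁅C, B⁆`. -/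
theorem not_comm_Q (t : LineConfig S A B C) : ¬ ∀ a' ∈ A, ∀ q ∈ ⁅C, B⁆, a' * q = q * a' := by
  intro hcomm
  obtain ⟨a, ha, ha1⟩ := exists_ne_one_of_ne_bot (t.hS.ne_bot A t.hA)
  obtain ⟨c, hc, _, hrel⟩ := t.hAC.cond_left a ha ha1
  apply t.hS.ne_bot _ t.hCB.1
  rw [commutator_eq_bot_iff_commute]
  intro γ hγ β hβ
  have h1 := t.phi0 ha hc hrel β hβ
  have hκ := t.kappa_mem hβ hc
  have e : a * (β⁻¹ * c⁻¹ * β * c) * a⁻¹ = β⁻¹ * c⁻¹ * β * c := by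
    rw [hcomm a ha _ hκ, mul_inv_cancel_right]
  rw [e] at h1
  have hκc : β⁻¹ * c⁻¹ * β * c ∈ Subgroup.centralizer (C : Set G) := by
    rw [Subgroup.mem_centralizer_iff]
    intro γ' hγ'
    exact (t.cQC _ hκ γ' hγ').symm
  have h2 : β ∈ Subgroup.centralizer (C : Set G) := by
    have := Subgroup.mul_mem _ h1 (Subgroup.inv_mem _ hκc)
    rwa [mul_inv_cancel_right] at this
  rw [Subgroup.mem_centralizer_iff] at h2
  exact h2 γ hγ

/-- The matched element of `C` is the same for `a ∈ A` and for `a b` on its point of the line. -/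
theorem matched_eq (t : LineConfig S A B C) {T : Subgroup G} (hT : T ≤ A ⊔ B) {a b c c' : G}
    (ha : a ∈ A) (hb : b ∈ B) (hc : c ∈ C) (hc' : c' ∈ C)
    (hrel : conjBy A c⁻¹ = conjBy C a⁻¹) (hrel' : conjBy T c'⁻¹ = conjBy C (a * b)⁻¹) : c' = c := by
  by_contra hne
  have hc0 : c⁻¹ * c' ∈ C := C.mul_mem (C.inv_mem hc) hc'
  have hc01 : (c⁻¹ * c')⁻¹ ≠ 1 := by
    intro h
    apply hne
    have h' : c⁻¹ * c' = 1 := inv_eq_one.1 h
    have : c * (c⁻¹ * c') = c * 1 := by rw [h']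
    simpa using this
  have hΦ := t.phi0 ha hc hrel
  have hΦ' := t.phi hT ha hb hc' hrel'
  -- `a q a⁻¹` centralizes `C` for all `q ∈ Q`
  have hQ : ∀ q ∈ ⁅C, B⁆, a * q * a⁻¹ ∈ Subgroup.centralizer (C : Set G) := by
    intro q hq
    obtain ⟨β, hβ, he⟩ := commCase_surj t.hCB (C.inv_mem hc0) hc01 hq
    rw [inv_inv] at he
    -- κ(β, c⁻¹c') = q
    have hκ : β⁻¹ * (c⁻¹ * c')⁻¹ * β * (c⁻¹ * c') = q := by
      have hcomm := t.cQC q hq _ hc0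
      calc β⁻¹ * (c⁻¹ * c')⁻¹ * β * (c⁻¹ * c')
          = (c⁻¹ * c')⁻¹ * ((c⁻¹ * c') * β⁻¹ * (c⁻¹ * c')⁻¹ * β) * (c⁻¹ * c') := by group
        _ = (c⁻¹ * c')⁻¹ * q * (c⁻¹ * c') := by rw [he]
        _ = q := by rw [mul_assoc, hcomm, inv_mul_cancel_left]
    -- multiplicativity
    have hmul : β⁻¹ * (c⁻¹ * c')⁻¹ * β * (c⁻¹ * c') =
        (β⁻¹ * c⁻¹ * β * c)⁻¹ * (β⁻¹ * c'⁻¹ * β * c') := by
      have h1 := commCase_mul t.hBC hβ (C.inv_mem hc) hc'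
      have h2 := commCase_mul t.hBC hβ (C.inv_mem hc) hc
      rw [inv_mul_cancel] at h2
      have h3 : β⁻¹ * (c⁻¹)⁻¹ * β * c⁻¹ = (β⁻¹ * c⁻¹ * β * c)⁻¹ := by
        have : (β⁻¹ * (c⁻¹)⁻¹ * β * c⁻¹) * (β⁻¹ * c⁻¹ * β * c) = 1 := by
          rw [← h2]; group
        exact eq_inv_of_mul_eq_one_left this
      rw [h1, h3]
    have h1 := hΦ β hβ
    have h2 := hΦ' β hβ
    have h3 := Subgroup.mul_mem _ (Subgroup.inv_mem _ h1) h2
    have e : (β * (a * (β⁻¹ * c⁻¹ * β * c) * a⁻¹))⁻¹ * (β * (a * (β⁻¹ * c'⁻¹ * β * c') * a⁻¹)) =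
        a * ((β⁻¹ * c⁻¹ * β * c)⁻¹ * (β⁻¹ * c'⁻¹ * β * c')) * a⁻¹ := by group
    rw [e, ← hmul, hκ] at h3
    exact h3
  -- hence `Q` commutes with `A`
  apply t.not_comm_Q
  intro a' ha' q hq
  have h1 := hQ q hq
  rw [Subgroup.mem_centralizer_iff] at h1
  -- `c⁻¹ a' c ∈ conjBy A c⁻¹ = conjBy C a⁻¹`
  have h2 : c⁻¹ * a' * c⁻¹⁻¹ ∈ conjBy A c⁻¹ := conj_mem_conjBy ha'
  rw [hrel, mem_conjBy, inv_inv, inv_inv] at h2
  have h3 := h1 _ h2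
  -- `q` commutes with `c⁻¹ a' c`
  have h4 : (c⁻¹ * a' * c) * q = q * (c⁻¹ * a' * c) := by
    calc (c⁻¹ * a' * c) * q = a⁻¹ * ((a * (c⁻¹ * a' * c) * a⁻¹) * (a * q * a⁻¹)) * a := by group
      _ = a⁻¹ * ((a * q * a⁻¹) * (a * (c⁻¹ * a' * c) * a⁻¹)) * a := by rw [h3]
      _ = q * (c⁻¹ * a' * c) := by group
  have h5 := t.cQC q hq c hc
  have hq' : c * q * c⁻¹ = q := by rw [← h5, mul_inv_cancel_right]
  calc a' * q = a' * (c * q * c⁻¹) := by rw [hq']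
    _ = c * ((c⁻¹ * a' * c) * q) * c⁻¹ := by group
    _ = c * (q * (c⁻¹ * a' * c)) * c⁻¹ := by rw [h4]
    _ = (c * q * c⁻¹) * a' := by group
    _ = q * a' := by rw [hq']

theorem not_rankOne_CB (t : LineConfig S A B C) : ¬ IsRankOnePair C B :=
  fun hr => rankOne_not_commutatorCase hr t.hCB

/-- Every point `T ≠ B` of the line through `a b` is the conjugate of `A` by `⁅c, b⁻¹⁆ ∈ Q`. -/
theorem point_eq_conj (t : LineConfig S A B C) {T : Subgroup G} (hT : T ∈ membersIn S (A ⊔ B))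
    (hTB : T ≠ B) {a b c : G} (ha : a ∈ A) (hb : b ∈ B) (hab : a * b ∈ T) (hab1 : a * b ≠ 1)
    (hc : c ∈ C) (hrel : conjBy A c⁻¹ = conjBy C a⁻¹) : T = conjBy A ⁅c, b⁻¹⁆ := by
  have hCT : IsRankOnePair C T :=
    rankOne_of_mem_line t.hS t.hA t.hBL t.hC t.hAC t.not_rankOne_CB hT hTB
  obtain ⟨c', hc', _, hrel'⟩ := hCT.cond_right (a * b) hab hab1
  have hcc := t.matched_eq hT.2 ha hb hc hc' hrel hrel'
  subst hcc
  have hAb : conjBy A b⁻¹ = A :=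
    conjBy_eq_self_of_comm (fun a' ha' => (t.cAB a' ha' b⁻¹ (B.inv_mem hb)).symm)
  have h1 : conjBy T c'⁻¹ = conjBy A (b⁻¹ * c'⁻¹) := by
    rw [hrel', mul_inv_rev, conjBy_mul, ← hrel, ← conjBy_mul]
  have h2 : T = conjBy A (c' * (b⁻¹ * c'⁻¹)) := by
    have := conjBy_eq_iff.1 h1
    rw [inv_inv] at this
    rw [this, ← conjBy_mul]
  have e : c' * (b⁻¹ * c'⁻¹) = ⁅c', b⁻¹⁆ * b⁻¹ := by
    rw [commutatorElement_def]; group
  rw [h2, e, conjBy_mul, hAb]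

theorem conjA_le (t : LineConfig S A B C) : ∀ q ∈ ⁅C, B⁆, conjBy A q ≤ A ⊔ B := by
  intro q hq
  obtain ⟨a, ha, ha1⟩ := exists_ne_one_of_ne_bot (t.hS.ne_bot A t.hA)
  obtain ⟨c, hc, hc1, hrel⟩ := t.hAC.cond_left a ha ha1
  have hc1' : c⁻¹ ≠ 1 := by simpa using hc1
  obtain ⟨β, hβ, he⟩ := commCase_surj t.hCB (C.inv_mem hc) hc1' hq
  rw [inv_inv] at he
  have he' : ⁅c, β⁻¹⁆ = q := by
    rw [commutatorElement_def, inv_inv]; exact he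
  by_cases hβ1 : β = 1
  · subst hβ1
    have : q = 1 := by rw [← he]; group
    rw [this, conjBy_one]
    exact le_sup_left
  · obtain ⟨T, hT, hxT, _, hTB⟩ := line_mem_of_mul t.hA t.hBL ha ha1 hβ hβ1
    have hx1 : a * β ≠ 1 := by
      intro h
      have hAm : A ∈ membersIn S (A ⊔ B) := ⟨t.hA, le_sup_left⟩
      have hBm : B ∈ membersIn S (A ⊔ B) := ⟨t.hB, le_sup_right⟩
      have hinf : A ⊓ B = ⊥ := t.hBL.2.2.2 A hAm B hBm t.hBL.1.2.1.symm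
      have : a = β⁻¹ := eq_inv_of_mul_eq_one_left h
      have hmem : a ∈ A ⊓ B := ⟨ha, this ▸ B.inv_mem hβ⟩
      rw [hinf, Subgroup.mem_bot] at hmem
      exact ha1 hmem
    have := t.point_eq_conj hT hTB ha hβ hxT hx1 hc hrel
    rw [← he', ← this]
    exact hT.2

/-- **Key lemma**: `⁅A, ⁅C, B⁆⁆ = B`. -/
theorem comm_eq (t : LineConfig S A B C) : ⁅A, ⁅C, B⁆⁆ = B := by
  have hQS : ⁅C, B⁆ ∈ S := t.hCB.1
  have hAm : A ∈ membersIn S (A ⊔ B) := ⟨t.hA, le_sup_left⟩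
  have hBm : B ∈ membersIn S (A ⊔ B) := ⟨t.hB, le_sup_right⟩
  -- the pair `(A, Q)` is in the commutator case
  have hAQ : RootCommutatorCase S A ⁅C, B⁆ := by
    rcases t.hS.pair A t.hA _ hQS with h | h | h
    · exact absurd (commutator_eq_bot_iff_commute.1 h) t.not_comm_Q
    · exfalso
      obtain ⟨q, hq, hq1⟩ := exists_ne_one_of_ne_bot (t.hS.ne_bot _ hQS)
      have hAu : A ∈ unipotentSubgroups A ⁅C, B⁆ := self_mem_unipotentSubgroups _ _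
      have hAq : conjBy A q ∈ unipotentSubgroups A ⁅C, B⁆ :=
        unipotentSubgroups_conjBy_mem hAu (Subgroup.mem_sup_right hq)
      have hne : A ≠ conjBy A q := by
        intro he
        exact hq1 (rankOne_eq_one_of_mem_normalizer (RankOnePair_symm h) hq
          (conjBy_eq_self_iff.1 he.symm))
      have hp := (rankOne_pair_of_mem h hAu hAq hne).1
      apply rankOne_commutator_ne_bot hp
      rw [commutator_eq_bot_iff_commute]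
      intro x hx y hy
      exact t.M_comm x (Subgroup.mem_sup_left hx) y (t.conjA_le q hq hy)
    · exact h
  have hPS : ⁅A, ⁅C, B⁆⁆ ∈ S := hAQ.1
  have hPle : ⁅A, ⁅C, B⁆⁆ ≤ A ⊔ B := by
    rw [Subgroup.commutator_le]
    intro a' ha' q hq
    have h1 : q * a'⁻¹ * q⁻¹ ∈ conjBy A q := conj_mem_conjBy (A.inv_mem ha')
    have e : ⁅a', q⁆ = a' * (q * a'⁻¹ * q⁻¹) := by rw [commutatorElement_def]; group
    rw [e]
    exact Subgroup.mul_mem _ (Subgroup.mem_sup_left ha') (t.conjA_le q hq h1)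
  have hPm : ⁅A, ⁅C, B⁆⁆ ∈ membersIn S (A ⊔ B) := ⟨hPS, hPle⟩
  by_contra hPB
  have hPA : ⁅A, ⁅C, B⁆⁆ ≠ A := (commCase_ne t.hS hAQ).symm
  have hinfA : ⁅A, ⁅C, B⁆⁆ ⊓ A = ⊥ := t.hBL.2.2.2 _ hPm A hAm hPA
  have hinfB : ⁅A, ⁅C, B⁆⁆ ⊓ B = ⊥ := t.hBL.2.2.2 _ hPm B hBm hPB
  obtain ⟨p, hp, hp1⟩ := exists_ne_one_of_ne_bot (t.hS.ne_bot _ hPS)
  have hcomm : ∀ b ∈ B, ∀ a ∈ A, b * a = a * b := fun b hb a ha => (t.cAB a ha b hb).symm
  obtain ⟨a', ha', b', hb', he⟩ := mem_sup_of_commute (A := A) (C := B) hcomm (hPle hp)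
  have he' : p = a' * b' := by rw [he]; exact hcomm b' hb' a' ha'
  have ha'1 : a' ≠ 1 := by
    intro h
    rw [h, mul_one] at he
    have : p ∈ ⁅A, ⁅C, B⁆⁆ ⊓ B := ⟨hp, he ▸ hb'⟩
    rw [hinfB, Subgroup.mem_bot] at this
    exact hp1 this
  obtain ⟨c', hc', _, hrel⟩ := t.hAC.cond_left a' ha' ha'1
  have hab : a' * b' ∈ ⁅A, ⁅C, B⁆⁆ := he' ▸ hp
  have hab1 : a' * b' ≠ 1 := he' ▸ hp1
  have hconj := t.point_eq_conj hPm hPB ha' hb' hab hab1 hc' hrel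
  -- `P` commutes with `Q`
  have hq : ⁅c', b'⁻¹⁆ ∈ ⁅C, B⁆ := Subgroup.commutator_mem_commutator hc' (B.inv_mem hb')
  have hfix : conjBy ⁅A, ⁅C, B⁆⁆ ⁅c', b'⁻¹⁆⁻¹ = ⁅A, ⁅C, B⁆⁆ :=
    conjBy_eq_self_of_comm (fun x hx =>
      (commCase_comm_bot_right hAQ x hx _ (Subgroup.inv_mem _ hq)).symm)
  apply hPA
  have h2 := conjBy_eq_iff.1 hconj.symm
  exact (h2.trans hfix).symm

end LineConfig

end Cfsg.Agent.Lib.Helper25
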