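/-
helper25: for a line `AB` (`B ∈ Λ_A`) in a set of abstract root subgroups without isolated vertices
there is `D ∈ S` normalizing `AB`, fixing a point `P ≠ A` of the line and transitive on the other
points; double transitivity of `⟨N_S(AB)⟩` on the line (Timmesfeld II(2.7)-type results).
-/
import Mathlib
import Cfsg.Prelude.Def_RootSubgroups
import Cfsg.Agent.Lib.Helper25.RootLineQ

set_option autoImplicit false

namespace Cfsg.Agent.Lib.Helper25

open Cfsg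
open scoped commutatorElement

variable {G : Type*} [Group G]

theorem commCase_sup_conj {S : Set (Subgroup G)} {A B : Subgroup G} (h : RootCommutatorCase S A B)
    {b : G} (hb : b ∈ B) (hb1 : b ≠ 1) : A ⊔ conjBy A b = A ⊔ ⁅A, B⁆ := by
  apply le_antisymm
  · exact sup_le le_sup_left (commCase_conj_le hb)
  · refine sup_le le_sup_left ?_
    rw [← h.2.2.2 b hb hb1, Subgroup.closure_le]
    rintro _ ⟨a, ha, rfl⟩
    have h1 : b * a⁻¹ * b⁻¹ ∈ conjBy A b := conj_mem_conjBy (A.inv_mem ha)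
    have e : a * b * a⁻¹ * b⁻¹ = a * (b * a⁻¹ * b⁻¹) := by group
    show a * b * a⁻¹ * b⁻¹ ∈ A ⊔ conjBy A b
    rw [e]
    exact Subgroup.mul_mem _ (Subgroup.mem_sup_left ha) (Subgroup.mem_sup_right h1)

theorem conjBy_eq_of_forall_le {M Q : Subgroup G} (h : ∀ q ∈ Q, conjBy M q ≤ M) {q : G} (hq : q ∈ Q) :
    conjBy M q = M := by
  apply le_antisymm (h q hq)
  have := conjBy_mono (h q⁻¹ (Q.inv_mem hq)) q
  rwa [conjBy_inv_conjBy] at this

theorem le_normalizer_of_forall_conj_le {M Q : Subgroup G} (h : ∀ q ∈ Q, conjBy M q ≤ M) :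
    Q ≤ Subgroup.normalizer (M : Set G) := fun _ hq =>
  conjBy_eq_self_iff.1 (conjBy_eq_of_forall_le h hq)

/-- in the commutator case `B` normalizes `A ⊔ ⁅A, B⁆`. -/
theorem commCase_conj_sup {S : Set (Subgroup G)} {A B : Subgroup G} (h : RootCommutatorCase S A B)
    {b : G} (hb : b ∈ B) : conjBy (A ⊔ ⁅A, B⁆) b = A ⊔ ⁅A, B⁆ := by
  apply conjBy_eq_of_forall_le (Q := B) _ hb
  intro b' hb'
  rw [conjBy_sup]
  refine sup_le (commCase_conj_le hb') ?_
  rw [conjBy_eq_self_of_comm (fun n hn => (commCase_comm_bot_right h n hn b' hb').symm)]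
  exact le_sup_right

/-- The data produced for a line `M` with base point `A`. -/
def LineShiftM (S : Set (Subgroup G)) (M A D P : Subgroup G) : Prop :=
  D ∈ S ∧ P ∈ membersIn S M ∧ P ≠ A ∧ A ⊔ P = M ∧
    D ≤ Subgroup.normalizer ((M : Subgroup G) : Set G) ∧ (∀ d ∈ D, conjBy P d = P) ∧
    ∀ T ∈ membersIn S M, T ≠ P → ∃ d ∈ D, T = conjBy A d

/-- The data produced for a line. -/
def LineShift (S : Set (Subgroup G)) (A B D P : Subgroup G) : Prop :=
  LineShiftM S (A ⊔ B) A D P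

theorem lineShiftM_conj {S : Set (Subgroup G)} (hS : IsRootSubgroupSet S) {M A D P : Subgroup G}
    (h : LineShiftM S M A D P) (g : G) :
    LineShiftM S (conjBy M g) (conjBy A g) (conjBy D g) (conjBy P g) := by
  obtain ⟨hD, hP, hPA, hsup, hn, hfix, htr⟩ := h
  have key : ∀ (X : Subgroup G) (d' : G), g⁻¹ * d' * g ∈ D →
      conjBy (conjBy X g) d' = conjBy (conjBy X (g⁻¹ * d' * g)) g := by
    intro X d' _
    rw [← conjBy_mul, ← conjBy_mul]
    congr 1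
    group
  refine ⟨hS.conj_mem D hD g, ⟨hS.conj_mem P hP.1 g, conjBy_mono hP.2 g⟩, ?_, ?_, ?_, ?_, ?_⟩
  · intro e
    exact hPA (conjBy_injective g e)
  · rw [← conjBy_sup, hsup]
  · intro d' hd'
    rw [mem_conjBy] at hd'
    rw [← conjBy_eq_self_iff, key M d' hd', conjBy_eq_self_iff.2 (hn hd')]
  · intro d' hd'
    rw [mem_conjBy] at hd'
    rw [key P d' hd', hfix _ hd']
  · intro T' hT' hne
    have hT : conjBy T' g⁻¹ ∈ membersIn S M := by
      refine ⟨hS.conj_mem T' hT'.1 g⁻¹, ?_⟩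
      have := conjBy_mono hT'.2 g⁻¹
      rwa [conjBy_conjBy_inv] at this
    have hne' : conjBy T' g⁻¹ ≠ P := by
      intro e
      apply hne
      rw [← e, conjBy_inv_conjBy]
    obtain ⟨d, hd, he⟩ := htr _ hT hne'
    refine ⟨g * d * g⁻¹, conj_mem_conjBy hd, ?_⟩
    have : T' = conjBy (conjBy T' g⁻¹) g := (conjBy_inv_conjBy T' g).symm
    rw [this, he, ← conjBy_mul, ← conjBy_mul]
    congr 1
    group

/-- The basic example: in the commutator case `(C, T)` with `C` not isolated, `T` shifts the line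
`C ⁅C, T⁆` fixing `⁅C, T⁆`. -/
theorem lineShiftM_of_commCase {S : Set (Subgroup G)} (hS : IsRootSubgroupSet S)
    {C T P' : Subgroup G} (hC : C ∈ S) (hT : T ∈ S) (hP' : P' ∈ S) (hCP : IsRankOnePair C P')
    (h : RootCommutatorCase S C T) {x : G} (hx : x ∈ T) :
    LineShiftM S (C ⊔ ⁅C, T⁆) (conjBy C x⁻¹) T ⁅C, T⁆ := by
  have hQfix : ∀ t ∈ T, conjBy ⁅C, T⁆ t = ⁅C, T⁆ := fun t ht =>
    conjBy_eq_self_of_comm (fun n hn => (commCase_comm_bot_right h n hn t ht).symm)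
  have hx' : x⁻¹ ∈ T := T.inv_mem hx
  refine ⟨hT, ⟨h.1, le_sup_right⟩, ?_, ?_, ?_, hQfix, ?_⟩
  · intro e
    have h1 : conjBy ⁅C, T⁆ x = C := by rw [e, ← inv_inv x, conjBy_inv_conjBy]
    rw [hQfix x hx] at h1
    exact commCase_ne hS h h1.symm
  · have := commCase_conj_sup h hx'
    rw [conjBy_sup, hQfix _ hx'] at this
    exact this
  · exact le_normalizer_of_forall_conj_le (fun t ht => le_of_eq (commCase_conj_sup h ht))
  · intro E hE hne
    rw [commCase_membersIn hS hC hP' hCP h] at hE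
    rcases hE with ⟨t, ht, rfl⟩ | hE
    · refine ⟨t * x, T.mul_mem ht hx, ?_⟩
      show conjBy C t = conjBy (conjBy C x⁻¹) (t * x)
      rw [← conjBy_mul]
      congr 1
      group
    · exact absurd hE hne

theorem exists_lineShift_of_commCase {S : Set (Subgroup G)} {A B C : Subgroup G}
    (t : LineConfig S A B C) : LineShift S A B ⁅C, B⁆ B := by
  have hQS : ⁅C, B⁆ ∈ S := t.hCB.1
  have hAQ : RootCommutatorCase S A ⁅C, B⁆ :=
    commutatorCase_of_commutator_mem t.hS t.hA hQS (by rw [t.comm_eq]; exact t.hB)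
  have hmem := commCase_membersIn t.hS t.hA t.hC t.hAC hAQ
  rw [t.comm_eq] at hmem
  refine ⟨hQS, ⟨t.hB, le_sup_right⟩, t.hBL.1.2.1, rfl, ?_, ?_, ?_⟩
  · apply le_normalizer_of_forall_conj_le
    intro q hq
    rw [conjBy_sup]
    refine sup_le (t.conjA_le q hq) ?_
    rw [conjBy_eq_self_of_comm (fun b hb => (t.cQB q hq b hb))]
    exact le_sup_right
  · intro d hd
    exact conjBy_eq_self_of_comm (fun b hb => (t.cQB d hd b hb))
  · intro T hT hTB
    rw [hmem] at hT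
    rcases hT with ⟨d, hd, rfl⟩ | hT
    · exact ⟨d, hd, rfl⟩
    · exact absurd hT hTB

/-- Case II is impossible: a rank one partner `C` of `A` cannot commute with `B ∈ Λ_A`. -/
theorem line_not_comm {S : Set (Subgroup G)} (hS : IsRootSubgroupSet S) {A B C : Subgroup G}
    (hA : A ∈ S) (hBL : B ∈ linePartners S A) (hC : C ∈ S) (hAC : IsRankOnePair A C) :
    ⁅C, B⁆ ≠ ⊥ := by
  intro hcomm
  have hB : B ∈ S := hBL.1.1
  have hCBc := commutator_eq_bot_iff_commute.1 hcomm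
  have hnr : ¬ IsRankOnePair C B := fun h => rankOne_commutator_ne_bot h hcomm
  obtain ⟨a, ha, ha1⟩ := exists_ne_one_of_ne_bot (hS.ne_bot A hA)
  obtain ⟨b, hb, hb1⟩ := exists_ne_one_of_ne_bot (hS.ne_bot B hB)
  obtain ⟨T, hT, hxT, hTA, hTB⟩ := line_mem_of_mul hA hBL ha ha1 hb hb1
  have hCT : IsRankOnePair C T := rankOne_of_mem_line hS hA hBL hC hAC hnr hT hTB
  have hx1 : a * b ≠ 1 := by
    intro h
    have hTC := hCT.cond_right
    have hinf : A ⊓ B = ⊥ := hBL.2.2.2 A ⟨hA, le_sup_left⟩ B ⟨hB, le_sup_right⟩ hBL.1.2.1.symm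
    have : a = b⁻¹ := eq_inv_of_mul_eq_one_left h
    have hmem : a ∈ A ⊓ B := ⟨ha, this ▸ B.inv_mem hb⟩
    rw [hinf, Subgroup.mem_bot] at hmem
    exact ha1 hmem
  obtain ⟨c, hc, _, hrel⟩ := hCT.cond_right (a * b) hxT hx1
  -- `conjBy C (a*b)⁻¹ = conjBy C a⁻¹ ≤ A ⊔ C`
  have h1 : conjBy C (a * b)⁻¹ = conjBy C a⁻¹ := by
    have e : (a * b)⁻¹ = a⁻¹ * b⁻¹ := by
      have := commutator_eq_bot_iff_commute.1 hBL.1.2.2 a ha b hb
      rw [mul_inv_rev]
      have h2 : b⁻¹ * a⁻¹ = (a * b)⁻¹ := (mul_inv_rev a b).symm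
      rw [h2, this, mul_inv_rev]
    rw [e, conjBy_mul]
    congr 1
    exact conjBy_eq_self_of_comm (fun γ hγ => by
      have := hCBc γ hγ b hb
      calc b⁻¹ * γ = b⁻¹ * (γ * b) * b⁻¹ := by group
        _ = b⁻¹ * (b * γ) * b⁻¹ := by rw [this]
        _ = γ * b⁻¹ := by group)
  have h2 : conjBy C a⁻¹ ≤ A ⊔ C :=
    conjBy_le_of_mem_of_le le_sup_right (Subgroup.mem_sup_left (A.inv_mem ha))
  have hTle : T ≤ A ⊔ C := by
    have h3 : conjBy T c⁻¹ ≤ A ⊔ C := by rw [hrel, h1]; exact h2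
    have h4 := conjBy_mono h3 c
    rw [conjBy_inv_conjBy] at h4
    refine le_trans h4 ?_
    exact le_of_eq (conjBy_eq_self_of_mem (Subgroup.mem_sup_right hc))
  have hTu : T ∈ unipotentSubgroups A C :=
    mem_unipotent_of_le hS hA hAC hT.1 hTle le_sup_right (RankOnePair_symm hCT)
  have hAT := (rankOne_pair_of_mem hAC (self_mem_unipotentSubgroups A C) hTu (Ne.symm hTA)).1
  apply rankOne_commutator_ne_bot hAT
  rw [commutator_eq_bot_iff_commute]
  intro a' ha' t ht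
  have hcomm := commutator_eq_bot_iff_commute.1 hBL.1.2.2
  have hMab : ∀ x ∈ A ⊔ B, a' * x = x * a' := by
    intro x hx
    have : a' ∈ Subgroup.centralizer ((A ⊔ B : Subgroup G) : Set G) :=
      mem_centralizer_sup (fun a'' ha'' => comm_of_isMulCommutative (hS.commutative A hA) ha'' ha')
        (fun b' hb' => (hcomm a' ha' b' hb').symm)
    exact (Subgroup.mem_centralizer_iff.1 this x hx).symm
  exact hMab t (hT.2 ht)

/-- Case III: a rank one partner `C` of `A` which is also a rank one partner of `B`. -/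
theorem exists_lineShift_of_rankOne {S : Set (Subgroup G)} (hS : IsRootSubgroupSet S)
    {A B C : Subgroup G} (hA : A ∈ S) (hBL : B ∈ linePartners S A) (hC : C ∈ S)
    (hAC : IsRankOnePair A C) (hr : IsRankOnePair C B) : ∃ D P, LineShift S A B D P := by
  have hB : B ∈ S := hBL.1.1
  obtain ⟨c, hc, hc1⟩ := exists_ne_one_of_ne_bot (hS.ne_bot C hC)
  obtain ⟨a, ha, ha1, hrelA⟩ := hAC.cond_right c hc hc1
  obtain ⟨b, hb, hb1, hrelB⟩ := hr.cond_left c hc hc1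
  have hBg : conjBy B (b * c⁻¹) = C := by
    rw [conjBy_mul, ← hrelB, conjBy_inv_conjBy]
  have hAg : conjBy A (b * c⁻¹) = conjBy C (a * b⁻¹)⁻¹ := by
    rw [conjBy_mul, ← hrelA, ← conjBy_mul]
    congr 1
    group
  obtain ⟨T, hT, hxT, hTA, hTB⟩ :=
    line_mem_of_mul hA hBL ha ha1 (B.inv_mem hb) (inv_ne_one.2 hb1)
  have hxT' : (a * b⁻¹)⁻¹ ∈ T := T.inv_mem hxT
  have hne : conjBy C (a * b⁻¹)⁻¹ ≠ C := by
    intro e
    rw [← hAg] at e
    exact hBL.1.2.1 (conjBy_injective _ (e.trans hBg.symm)).symm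
  have hx1 : (a * b⁻¹)⁻¹ ≠ 1 := by
    intro h
    apply hne
    rw [h, conjBy_one]
  have hcase : RootCommutatorCase S C T := by
    rcases hS.pair C hC T hT.1 with h | h | h
    · exfalso
      apply hne
      have hcomm := commutator_eq_bot_iff_commute.1 h
      exact conjBy_eq_self_of_comm (fun γ hγ => (hcomm γ hγ _ hxT').symm)
    · exfalso
      have hu : conjBy C (a * b⁻¹)⁻¹ ∈ unipotentSubgroups C T :=
        ⟨_, Subgroup.mem_sup_right hxT', rfl⟩
      have hp := (rankOne_pair_of_mem h (self_mem_unipotentSubgroups C T) hu (Ne.symm hne)).1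
      rw [← hAg] at hp
      have hp2 : IsRankOnePair (conjBy B (b * c⁻¹)) (conjBy A (b * c⁻¹)) := by rw [hBg]; exact hp
      replace hp := hp2
      have hp' := rankOnePair_conj hp (b * c⁻¹)⁻¹
      rw [conjBy_conjBy_inv, conjBy_conjBy_inv] at hp'
      apply rankOne_commutator_ne_bot hp'
      rw [Subgroup.commutator_comm]
      exact hBL.1.2.2
    · exact h
  have hM : conjBy (A ⊔ B) (b * c⁻¹) = C ⊔ ⁅C, T⁆ := by
    rw [conjBy_sup, hAg, hBg, sup_comm, commCase_sup_conj hcase hxT' hx1]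
  have base := lineShiftM_of_commCase hS hC hT.1 hA (RankOnePair_symm hAC) hcase hxT
  rw [← hM, ← hAg] at base
  have := lineShiftM_conj hS base (b * c⁻¹)⁻¹
  rw [conjBy_conjBy_inv, conjBy_conjBy_inv] at this
  exact ⟨_, _, this⟩

/-- **Theorem T**: for a line `AB` in a set of abstract root subgroups without isolated vertices
there is `D ∈ S` normalizing `AB`, fixing a point `P ≠ A` and transitive on the other points. -/
theorem exists_lineShift {S : Set (Subgroup G)} (hS : IsRootSubgroupSet S)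
    (hnb : ∀ A ∈ S, ∃ C, FAdj S A C) {A B : Subgroup G} (hA : A ∈ S)
    (hBL : B ∈ linePartners S A) : ∃ D P, LineShift S A B D P := by
  obtain ⟨C, _, hC, hAC⟩ := hnb A hA
  have hB : B ∈ S := hBL.1.1
  rcases hS.pair C hC B hB with h | h | h
  · exact absurd h (line_not_comm hS hA hBL hC hAC)
  · exact exists_lineShift_of_rankOne hS hA hBL hC hAC h
  · exact ⟨_, _, exists_lineShift_of_commCase ⟨hS, hA, hBL, hC, hAC, h⟩⟩

/-- a line is an abelian group. -/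
theorem line_comm {S : Set (Subgroup G)} (hS : IsRootSubgroupSet S) {A B : Subgroup G}
    (hA : A ∈ S) (hBL : B ∈ linePartners S A) : ∀ x ∈ A ⊔ B, ∀ y ∈ A ⊔ B, x * y = y * x := by
  have h := (pair_abelian_iff hS hA hBL.1.1).2 hBL.1.2.2
  intro x hx y hy
  exact comm_of_isMulCommutative h hx hy

/-- a line has a point different from two given ones. -/
theorem line_exists_third {S : Set (Subgroup G)} (hS : IsRootSubgroupSet S) {A B : Subgroup G}
    (hA : A ∈ S) (hBL : B ∈ linePartners S A) (P₁ P₂ : Subgroup G) :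
    ∃ R ∈ membersIn S (A ⊔ B), R ≠ P₁ ∧ R ≠ P₂ := by
  have hB : B ∈ S := hBL.1.1
  obtain ⟨a, ha, ha1⟩ := exists_ne_one_of_ne_bot (hS.ne_bot A hA)
  obtain ⟨b, hb, hb1⟩ := exists_ne_one_of_ne_bot (hS.ne_bot B hB)
  obtain ⟨T, hT, _, hTA, hTB⟩ := line_mem_of_mul hA hBL ha ha1 hb hb1
  have hBA : B ≠ A := hBL.1.2.1
  have hAm : A ∈ membersIn S (A ⊔ B) := ⟨hA, le_sup_left⟩
  have hBm : B ∈ membersIn S (A ⊔ B) := ⟨hB, le_sup_right⟩
  by_contra hno
  push_neg at hno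
  by_cases h1 : A = P₁
  · have hB' : B = P₂ := hno B hBm (fun e => hBA (e.trans h1.symm))
    have hT' : T = P₂ := hno T hT (fun e => hTA (e.trans h1.symm))
    exact hTB (hT'.trans hB'.symm)
  · have hA' : A = P₂ := hno A hAm h1
    by_cases h2 : B = P₁
    · have hT' : T = P₂ := hno T hT (fun e => hTB (e.trans h2.symm))
      exact hTA (hT'.trans hA'.symm)
    · have hB' : B = P₂ := hno B hBm h2
      exact hBA (hB'.trans hA'.symm)

/-- II(2.7)-type: `⟨N_S(AB)⟩` is doubly transitive on the points of the line `AB`. -/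
theorem line_two_transitive {S : Set (Subgroup G)} (hS : IsRootSubgroupSet S)
    (hnb : ∀ A ∈ S, ∃ C, FAdj S A C) {A B : Subgroup G} (hA : A ∈ S)
    (hBL : B ∈ linePartners S A) :
    ∀ C₁ ∈ membersIn S (A ⊔ B), ∀ C₂ ∈ membersIn S (A ⊔ B), ∀ E₁ ∈ membersIn S (A ⊔ B),
      ∀ E₂ ∈ membersIn S (A ⊔ B), C₁ ≠ C₂ → E₁ ≠ E₂ →
        ∃ x ∈ ⨆ E ∈ normalizingMembers S (A ⊔ B), E, conjBy C₁ x = E₁ ∧ conjBy C₂ x = E₂ := by
  have hNn : (⨆ E ∈ normalizingMembers S (A ⊔ B), E) ≤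
      Subgroup.normalizer ((A ⊔ B : Subgroup G) : Set G) := iSup₂_le (fun E hE => hE.2)
  have hact : ∀ x ∈ ⨆ E ∈ normalizingMembers S (A ⊔ B), E, ∀ T ∈ membersIn S (A ⊔ B),
      conjBy T x ∈ membersIn S (A ⊔ B) := by
    intro x hx T hT
    refine ⟨hS.conj_mem T hT.1 x, ?_⟩
    have := conjBy_mono hT.2 x
    rwa [conjBy_eq_self_iff.2 (hNn hx)] at this
  obtain ⟨D₁, P₁, h1⟩ := exists_lineShift hS hnb hA hBL
  obtain ⟨hD1, hP1, hP1A, hsup1, hn1, hfix1, htr1⟩ := h1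
  have hD1N : D₁ ≤ ⨆ E ∈ normalizingMembers S (A ⊔ B), E :=
    le_iSup₂_of_le D₁ ⟨hD1, hn1⟩ le_rfl
  have e : P₁ ⊔ A = A ⊔ B := by rw [sup_comm]; exact hsup1
  have hAL' : A ∈ linePartners S P₁ := by
    refine ⟨⟨hA, hP1A.symm, ?_⟩, ?_⟩
    · rw [commutator_eq_bot_iff_commute]
      intro p hp a ha
      exact line_comm hS hA hBL p (hP1.2 hp) a (Subgroup.mem_sup_left ha)
    · rw [e]; exact hBL.2
  obtain ⟨D₂, P₂, h2⟩ := exists_lineShift hS hnb hP1.1 hAL'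
  have h2' : LineShiftM S (A ⊔ B) P₁ D₂ P₂ := by
    have := h2
    unfold LineShift at this
    rwa [e] at this
  obtain ⟨hD2, hP2, hP2P1, hsup2, hn2, hfix2, htr2⟩ := h2'
  have hD2N : D₂ ≤ ⨆ E ∈ normalizingMembers S (A ⊔ B), E :=
    le_iSup₂_of_le D₂ ⟨hD2, hn2⟩ le_rfl
  obtain ⟨R, hR, hRP1, hRP2⟩ := line_exists_third hS hA hBL P₁ P₂
  -- transitivity
  have claim1 : ∀ T ∈ membersIn S (A ⊔ B),
      ∃ x ∈ ⨆ E ∈ normalizingMembers S (A ⊔ B), E, conjBy P₁ x = T := by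
    intro T hT
    by_cases hTP2 : T = P₂
    · obtain ⟨d₂, hd₂, he₂⟩ := htr2 R hR hRP2
      obtain ⟨d, hd, he⟩ := htr1 R hR hRP1
      obtain ⟨d', hd', he'⟩ := htr1 P₂ hP2 hP2P1
      refine ⟨d' * d⁻¹ * d₂, Subgroup.mul_mem _ (Subgroup.mul_mem _ (hD1N hd')
        (Subgroup.inv_mem _ (hD1N hd))) (hD2N hd₂), ?_⟩
      rw [conjBy_mul, conjBy_mul, ← he₂, he, conjBy_conjBy_inv, hTP2, he']
    · obtain ⟨d, hd, he⟩ := htr2 T hT hTP2
      exact ⟨d, hD2N hd, he.symm⟩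
  -- the stabilizer of `P₁` is transitive on the rest
  have claim2 : ∀ R ∈ membersIn S (A ⊔ B), ∀ R' ∈ membersIn S (A ⊔ B), R ≠ P₁ → R' ≠ P₁ →
      ∃ z ∈ ⨆ E ∈ normalizingMembers S (A ⊔ B), E, conjBy P₁ z = P₁ ∧ conjBy R z = R' := by
    intro R hR R' hR' hne hne'
    obtain ⟨d, hd, he⟩ := htr1 R hR hne
    obtain ⟨d', hd', he'⟩ := htr1 R' hR' hne'
    refine ⟨d' * d⁻¹, Subgroup.mul_mem _ (hD1N hd') (Subgroup.inv_mem _ (hD1N hd)),
      hfix1 _ (D₁.mul_mem hd' (D₁.inv_mem hd)), ?_⟩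
    rw [conjBy_mul, he, conjBy_conjBy_inv, he']
  intro C₁ hC₁ C₂ hC₂ E₁ hE₁ E₂ hE₂ hC hE
  obtain ⟨x₁, hx₁, hx₁e⟩ := claim1 C₁ hC₁
  obtain ⟨y₁, hy₁, hy₁e⟩ := claim1 E₁ hE₁
  have hx₁' := Subgroup.inv_mem _ hx₁
  have hy₁' := Subgroup.inv_mem _ hy₁
  have hC₂' : conjBy C₂ x₁⁻¹ ≠ P₁ := by
    intro h
    apply hC
    rw [← hx₁e, ← h, conjBy_inv_conjBy]
  have hE₂' : conjBy E₂ y₁⁻¹ ≠ P₁ := by
    intro h
    apply hE
    rw [← hy₁e, ← h, conjBy_inv_conjBy]
  obtain ⟨z, hz, hzP, hzR⟩ := claim2 _ (hact _ hx₁' C₂ hC₂) _ (hact _ hy₁' E₂ hE₂) hC₂' hE₂'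
  refine ⟨y₁ * z * x₁⁻¹, Subgroup.mul_mem _ (Subgroup.mul_mem _ hy₁ hz) hx₁', ?_, ?_⟩
  · rw [conjBy_mul, conjBy_mul, ← hx₁e, conjBy_conjBy_inv, hzP, hy₁e]
  · rw [conjBy_mul, conjBy_mul, hzR, conjBy_inv_conjBy]

end Cfsg.Agent.Lib.Helper25
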