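/-
helper25: a rank one pair `(A, B)` in a group `G` normalizing an abelian subgroup `M` on which `A`
acts quadratically (by conjugation) but `⟨A, B⟩` does not, is special.  Application to sets of
abstract root subgroups: `B ∈ Ω_A`, `C ∈ Λ_A ∩ Ψ_B` gives `(A, B)` special (Timmesfeld II(2.5)).
-/
import Mathlib
import Cfsg.Prelude.Def_RootSubgroups
import Cfsg.Agent.Lib.Helper25.QuadSpecial
import Cfsg.Agent.Lib.Helper25.RootLineT

set_option autoImplicit false

namespace Cfsg.Agent.Lib.Helper25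

open Cfsg
open scoped commutatorElement

variable {G : Type*} [Group G]

theorem conjBy_subgroupOf {A X : Subgroup G} (x : ↥X) :
    conjBy (A.subgroupOf X) x = (conjBy A (x : G)).subgroupOf X := by
  ext y
  rw [mem_conjBy, Subgroup.mem_subgroupOf, Subgroup.mem_subgroupOf, mem_conjBy]
  rfl

/-- the conjugation action of a subgroup `X ≤ N(M)` on the abelian group `M`, additively. -/
@[reducible] def conjAddAction (X M : Subgroup G)
    (hn : X ≤ Subgroup.normalizer (M : Set G)) [CommGroup ↥M] :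
    DistribMulAction ↥X (Additive ↥M) where
  smul x n := Additive.ofMul (⟨(x : G) * ((Additive.toMul n : ↥M) : G) * (x : G)⁻¹,
    (Subgroup.mem_normalizer_iff.1 (hn x.2) _).1 (Additive.toMul n : ↥M).2⟩ : ↥M)
  one_smul n := by
    apply Additive.toMul.injective
    apply Subtype.ext
    show (1 : G) * _ * (1 : G)⁻¹ = _
    simp
  mul_smul x y n := by
    apply Additive.toMul.injective
    apply Subtype.ext
    show ((x : G) * (y : G)) * _ * ((x : G) * (y : G))⁻¹ = (x : G) * ((y : G) * _ * (y : G)⁻¹) * (x : G)⁻¹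
    group
  smul_zero x := by
    apply Additive.toMul.injective
    apply Subtype.ext
    show (x : G) * (1 : G) * (x : G)⁻¹ = 1
    simp
  smul_add x n m := by
    apply Additive.toMul.injective
    apply Subtype.ext
    show (x : G) * (((Additive.toMul n : ↥M) : G) * ((Additive.toMul m : ↥M) : G)) * (x : G)⁻¹ =
      ((x : G) * ((Additive.toMul n : ↥M) : G) * (x : G)⁻¹) *
        ((x : G) * ((Additive.toMul m : ↥M) : G) * (x : G)⁻¹)
    group

/-- A rank one pair normalizing an abelian subgroup `M` on which `A` acts quadratically but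
`⟨A, B⟩` does not is special. -/
theorem special_of_quadratic_conj {A B M : Subgroup G} (h : IsRankOnePair A B)
    (hM : ∀ m ∈ M, ∀ m' ∈ M, m * m' = m' * m)
    (hn : A ⊔ B ≤ Subgroup.normalizer (M : Set G))
    (hq : ∀ a ∈ A, ∀ a' ∈ A, ∀ m ∈ M, a' * (a * m * a⁻¹ * m⁻¹) * a'⁻¹ = a * m * a⁻¹ * m⁻¹)
    (hX : ∃ x ∈ A ⊔ B, ∃ y ∈ A ⊔ B, ∃ m ∈ M,
      y * (x * m * x⁻¹ * m⁻¹) * y⁻¹ ≠ x * m * x⁻¹ * m⁻¹) :
    IsSpecialRankOnePair A B := by
  letI : CommGroup ↥M :=
    { (inferInstance : Group ↥M) with mul_comm := fun x y => Subtype.ext (hM x x.2 y y.2) }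
  letI := conjAddAction (A ⊔ B) M hn
  have hp := rankOnePair_subgroupOf (X := A ⊔ B) le_sup_left le_sup_right h
  have htop : A.subgroupOf (A ⊔ B) ⊔ B.subgroupOf (A ⊔ B) = ⊤ := by
    rw [← Subgroup.subgroupOf_sup le_sup_left le_sup_right, Subgroup.subgroupOf_self]
  have hq' : ∀ a ∈ A.subgroupOf (A ⊔ B), ∀ a' ∈ A.subgroupOf (A ⊔ B), ∀ n : Additive ↥M,
      a' • (a • n - n) = a • n - n := by
    intro a ha a' ha' n
    rw [Subgroup.mem_subgroupOf] at ha ha'
    apply Additive.toMul.injective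
    apply Subtype.ext
    show (a' : G) * ((a : G) * ((Additive.toMul n : ↥M) : G) * (a : G)⁻¹ /
      ((Additive.toMul n : ↥M) : G)) * (a' : G)⁻¹ =
      (a : G) * ((Additive.toMul n : ↥M) : G) * (a : G)⁻¹ / ((Additive.toMul n : ↥M) : G)
    rw [div_eq_mul_inv]
    exact hq _ ha _ ha' _ (Additive.toMul n : ↥M).2
  have hX' : ∃ x y : ↥(A ⊔ B), ∃ n : Additive ↥M, y • (x • n - n) ≠ x • n - n := by
    obtain ⟨x, hx, y, hy, m, hm, hne⟩ := hX
    refine ⟨⟨x, hx⟩, ⟨y, hy⟩, Additive.ofMul (⟨m, hm⟩ : ↥M), ?_⟩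
    intro e
    apply hne
    have e2 := congrArg (fun t => ((Additive.toMul t : ↥M) : G)) e
    have e3 : y * (x * m * x⁻¹ / m) * y⁻¹ = x * m * x⁻¹ / m := e2
    rw [div_eq_mul_inv] at e3
    exact e3
  have key := quad_special (N := Additive ↥M) hp htop hq' hX'
  refine ⟨h, ?_⟩
  intro a ha ha1 b hb hb1 hconj
  have hconj' : conjBy (A.subgroupOf (A ⊔ B)) (⟨b, Subgroup.mem_sup_right hb⟩ : ↥(A ⊔ B))⁻¹ =
      conjBy (B.subgroupOf (A ⊔ B)) (⟨a, Subgroup.mem_sup_left ha⟩ : ↥(A ⊔ B))⁻¹ := by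
    rw [conjBy_subgroupOf, conjBy_subgroupOf]
    show (conjBy A b⁻¹).subgroupOf (A ⊔ B) = (conjBy B a⁻¹).subgroupOf (A ⊔ B)
    rw [hconj]
  have := key ⟨a, Subgroup.mem_sup_left ha⟩ (Subgroup.mem_subgroupOf.2 ha)
    (fun e => ha1 (congrArg Subtype.val e)) ⟨b, Subgroup.mem_sup_right hb⟩
    (Subgroup.mem_subgroupOf.2 hb) (fun e => hb1 (congrArg Subtype.val e)) hconj'
  exact congrArg Subtype.val this

/-- II(2.5)-type: if `B ∈ Λ_A`, `C ∈ Ω_A` and `⁅C, B⁆ ∈ S`, then the rank one pair `(A, C)` is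
special. -/
theorem LineConfig.special {S : Set (Subgroup G)} {A B C : Subgroup G} (t : LineConfig S A B C) :
    IsSpecialRankOnePair A C := by
  have hQS : ⁅C, B⁆ ∈ S := t.hCB.1
  have hAQ : RootCommutatorCase S A ⁅C, B⁆ :=
    commutatorCase_of_commutator_mem t.hS t.hA hQS (by rw [t.comm_eq]; exact t.hB)
  have hQA : RootCommutatorCase S ⁅C, B⁆ A :=
    commutatorCase_of_commutator_mem t.hS hQS t.hA
      (by rw [Subgroup.commutator_comm, t.comm_eq]; exact t.hB)
  have hQAeq : ⁅⁅C, B⁆, A⁆ = B := by rw [Subgroup.commutator_comm, t.comm_eq]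
  have hBCeq : ⁅B, C⁆ = ⁅C, B⁆ := Subgroup.commutator_comm B C
  have hBQ : ⁅B, ⁅C, B⁆⁆ = ⊥ := by
    rw [commutator_eq_bot_iff_commute]
    intro b hb q hq
    exact (t.cQB q hq b hb).symm
  have hMab := (pair_abelian_iff t.hS t.hB hQS).2 hBQ
  apply special_of_quadratic_conj (M := B ⊔ ⁅C, B⁆) t.hAC
  · intro m hm m' hm'
    exact comm_of_isMulCommutative hMab hm hm'
  · apply sup_le
    · apply le_normalizer_of_forall_conj_le
      intro a ha
      rw [conjBy_sup]
      apply sup_le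
      · rw [conjBy_eq_self_of_comm (fun b hb => t.cAB a ha b hb)]
        exact le_sup_left
      · have := commCase_conj_le (A := ⁅C, B⁆) (B := A) ha
        rw [hQAeq, sup_comm] at this
        exact this
    · apply le_normalizer_of_forall_conj_le
      intro c hc
      rw [conjBy_sup]
      apply sup_le
      · have := commCase_conj_le (A := B) (B := C) hc
        rw [hBCeq] at this
        exact this
      · rw [conjBy_eq_self_of_comm (fun q hq => (t.cQC q hq c hc).symm)]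
        exact le_sup_right
  · intro a ha a' ha' m hm
    obtain ⟨b, hb, q, hq, rfl⟩ := mem_sup_of_commute (A := B) (C := ⁅C, B⁆)
      (fun q hq b hb => t.cQB q hq b hb) hm
    have hba : b * a⁻¹ = a⁻¹ * b := by
      have := t.cAB a ha b hb
      calc b * a⁻¹ = a⁻¹ * (a * b) * a⁻¹ := by group
        _ = a⁻¹ * (b * a) * a⁻¹ := by rw [this]
        _ = a⁻¹ * b := by group
    have hqb : q * b = b * q := t.cQB q hq b hb
    have e : a * (q * b) * a⁻¹ * (q * b)⁻¹ = a * q * a⁻¹ * q⁻¹ := by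
      calc a * (q * b) * a⁻¹ * (q * b)⁻¹ = a * q * (b * a⁻¹) * b⁻¹ * q⁻¹ := by group
        _ = a * q * (a⁻¹ * b) * b⁻¹ * q⁻¹ := by rw [hba]
        _ = a * q * a⁻¹ * q⁻¹ := by group
    rw [e]
    have hmem : a * q * a⁻¹ * q⁻¹ ∈ B := by
      have := Subgroup.commutator_mem_commutator ha hq
      rw [commutatorElement_def, t.comm_eq] at this
      exact this
    have := t.cAB a' ha' _ hmem
    calc a' * (a * q * a⁻¹ * q⁻¹) * a'⁻¹ = (a' * (a * q * a⁻¹ * q⁻¹)) * a'⁻¹ := by group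
      _ = ((a * q * a⁻¹ * q⁻¹) * a') * a'⁻¹ := by rw [this]
      _ = a * q * a⁻¹ * q⁻¹ := by group
  · obtain ⟨a, ha, ha1⟩ := exists_ne_one_of_ne_bot (t.hS.ne_bot A t.hA)
    obtain ⟨q, hq, hq1⟩ := exists_ne_one_of_ne_bot (t.hS.ne_bot _ hQS)
    obtain ⟨c, hc, hc1⟩ := exists_ne_one_of_ne_bot (t.hS.ne_bot C t.hC)
    have hmem : a * q * a⁻¹ * q⁻¹ ∈ B := by
      have := Subgroup.commutator_mem_commutator ha hq
      rw [commutatorElement_def, t.comm_eq] at this
      exact this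
    have hne1 : a * q * a⁻¹ * q⁻¹ ≠ 1 := by
      intro h
      apply hq1
      apply commCase_eq_one_of_comm t.hS t.hA t.hC t.hAC hAQ ha ha1 hq
      calc a * q = (a * q * a⁻¹ * q⁻¹) * q * a := by group
        _ = q * a := by rw [h, one_mul]
    refine ⟨a, Subgroup.mem_sup_left ha, c, Subgroup.mem_sup_right hc, q,
      Subgroup.mem_sup_right hq, ?_⟩
    intro h
    apply hne1
    apply commCase_eq_one_of_comm t.hS t.hC t.hA (RankOnePair_symm t.hAC) t.hCB hc hc1 hmem
    calc c * (a * q * a⁻¹ * q⁻¹) = (c * (a * q * a⁻¹ * q⁻¹) * c⁻¹) * c := by group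
      _ = (a * q * a⁻¹ * q⁻¹) * c := by rw [h]

theorem rootCommutatorCase_conj {S : Set (Subgroup G)} (hS : IsRootSubgroupSet S)
    {A B : Subgroup G} (h : RootCommutatorCase S A B) (g : G) :
    RootCommutatorCase S (conjBy A g) (conjBy B g) := by
  have := rootCommutatorCase_map (MulAut.conj g).toMonoidHom h
  have himg : (fun A : Subgroup G => A.map (MulAut.conj g).toMonoidHom) '' S = S := by
    ext E
    constructor
    · rintro ⟨E', hE', rfl⟩
      exact hS.conj_mem E' hE' g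
    · intro hE
      exact ⟨conjBy E g⁻¹, hS.conj_mem E hE g⁻¹, conjBy_inv_conjBy E g⟩
  rw [himg] at this
  exact this

/-- a point `T ≠ A` of the line `AB` spanning it with `A` is a line partner of `A`. -/
theorem linePartner_of_mem_line {S : Set (Subgroup G)} (hS : IsRootSubgroupSet S)
    {A B T : Subgroup G} (hA : A ∈ S) (hBL : B ∈ linePartners S A)
    (hT : T ∈ membersIn S (A ⊔ B)) (hTA : T ≠ A) (hsup : A ⊔ T = A ⊔ B) :
    T ∈ linePartners S A := by
  refine ⟨⟨hT.1, hTA, ?_⟩, ?_⟩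
  · rw [commutator_eq_bot_iff_commute]
    intro a ha x hx
    exact line_comm hS hA hBL a (Subgroup.mem_sup_left ha) x (hT.2 hx)
  · rw [hsup]; exact hBL.2

/-- Case III: a common rank one partner `C` of the points `A`, `B` of a line is in the commutator
case with some third point of the line. -/
theorem exists_commCase_of_rankOne {S : Set (Subgroup G)} (hS : IsRootSubgroupSet S)
    {A B C : Subgroup G} (hA : A ∈ S) (hBL : B ∈ linePartners S A) (hC : C ∈ S)
    (hAC : IsRankOnePair A C) (hr : IsRankOnePair C B) :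
    ∃ T ∈ membersIn S (A ⊔ B), T ≠ A ∧ T ≠ B ∧ RootCommutatorCase S C T := by
  have hB : B ∈ S := hBL.1.1
  obtain ⟨c, hc, hc1⟩ := exists_ne_one_of_ne_bot (hS.ne_bot C hC)
  obtain ⟨a, ha, ha1, hrelA⟩ := hAC.cond_right c hc hc1
  obtain ⟨b, hb, hb1, hrelB⟩ := hr.cond_left c hc hc1
  have hBg : conjBy B (b * c⁻¹) = C := by
    rw [conjBy_mul, ← hrelB, conjBy_inv_conjBy]
  have hAg : conjBy A (b * c⁻¹) = conjBy C (a * b⁻¹)⁻¹ := by
    rw [conjBy_mul, ← hrelA, ← conjBy_mul]
    congr 1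
    group
  obtain ⟨T, hT, hxT, hTA, hTB⟩ :=
    line_mem_of_mul hA hBL ha ha1 (B.inv_mem hb) (inv_ne_one.2 hb1)
  have hxT' : (a * b⁻¹)⁻¹ ∈ T := T.inv_mem hxT
  have hne : conjBy C (a * b⁻¹)⁻¹ ≠ C := by
    intro e
    rw [← hAg] at e
    exact hBL.1.2.1 (conjBy_injective _ (e.trans hBg.symm)).symm
  refine ⟨T, hT, hTA, hTB, ?_⟩
  rcases hS.pair C hC T hT.1 with h | h | h
  · exfalso
    apply hne
    have hcomm := commutator_eq_bot_iff_commute.1 h
    exact conjBy_eq_self_of_comm (fun γ hγ => (hcomm γ hγ _ hxT').symm)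
  · exfalso
    have hu : conjBy C (a * b⁻¹)⁻¹ ∈ unipotentSubgroups C T :=
      ⟨_, Subgroup.mem_sup_right hxT', rfl⟩
    have hp := (rankOne_pair_of_mem h (self_mem_unipotentSubgroups C T) hu (Ne.symm hne)).1
    rw [← hAg] at hp
    have hp2 : IsRankOnePair (conjBy B (b * c⁻¹)) (conjBy A (b * c⁻¹)) := by rw [hBg]; exact hp
    have hp' := rankOnePair_conj hp2 (b * c⁻¹)⁻¹
    rw [conjBy_conjBy_inv, conjBy_conjBy_inv] at hp'
    apply rankOne_commutator_ne_bot hp'
    rw [Subgroup.commutator_comm]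
    exact hBL.1.2.2
  · exact h

/-- II(2.5)-type: in the presence of a commutator case partner `D` of `A`, every rank one partner
`B` of `A` is in the commutator case with some line partner `C` of `A`. -/
theorem exists_linePartner_commCase {S : Set (Subgroup G)} (hS : IsRootSubgroupSet S)
    {A B D : Subgroup G} (hA : A ∈ S) (hB : B ∈ S) (hAB : IsRankOnePair A B)
    (hAD : RootCommutatorCase S A D) :
    ∃ C ∈ linePartners S A, RootCommutatorCase S B C := by
  have hQL : ⁅A, D⁆ ∈ linePartners S A := commCase_linePartner hS hA ⟨hA, hB, hAB⟩ hAD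
  have hQ : ⁅A, D⁆ ∈ S := hAD.1
  rcases hS.pair B hB _ hQ with h | h | h
  · exact absurd h (line_not_comm hS hA hQL hB hAB)
  · obtain ⟨T, hT, hTA, hTQ, hBT⟩ := exists_commCase_of_rankOne hS hA hQL hB hAB h
    refine ⟨T, ?_, hBT⟩
    apply linePartner_of_mem_line hS hA hQL hT hTA
    have hT' := hT
    rw [commCase_membersIn hS hA hB hAB hAD] at hT'
    rcases hT' with ⟨d, hd, rfl⟩ | hT'
    · have hd1 : d ≠ 1 := by
        rintro rfl
        exact hTA (conjBy_one A)
      exact commCase_sup_conj hAD hd hd1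
    · exact absurd hT' hTQ
  · exact ⟨_, hQL, h⟩

end Cfsg.Agent.Lib.Helper25
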