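/-
helper25: for a non-degenerate class of abstract root subgroups the graph of line partners and the
commuting graph are connected (Timmesfeld II(2.12)-type results).
-/
import Mathlib
import Cfsg.Prelude.Def_RootSubgroups
import Cfsg.Agent.Lib.Helper25.RootSpecial

set_option autoImplicit false

namespace Cfsg.Agent.Lib.Helper25

open Cfsg
open scoped commutatorElement

variable {G : Type*} [Group G]

theorem linePartners_symm {S : Set (Subgroup G)} {A B : Subgroup G} (hA : A ∈ S)
    (hBL : B ∈ linePartners S A) : A ∈ linePartners S B := by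
  refine ⟨⟨hA, hBL.1.2.1.symm, ?_⟩, ?_⟩
  · rw [Subgroup.commutator_comm]; exact hBL.1.2.2
  · rw [sup_comm]; exact hBL.2

theorem DAdj_of_EAdj {S : Set (Subgroup G)} {A B : Subgroup G} (h : EAdj S S A B) : DAdj S A B :=
  ⟨h.1, h.2.1, h.2.2.1.2.1.symm, h.2.2.1.2.2⟩

/-- every member of a class with a rank one pair has a rank one partner. -/
theorem class_exists_FAdj {S : Set (Subgroup G)} (hS : IsRootSubgroupSet S)
    (hcl : IsConjClassOfSubgroups S) (h : ∃ A ∈ S, ∃ B ∈ S, IsRankOnePair A B) :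
    ∀ A ∈ S, ∃ C, FAdj S A C := by
  obtain ⟨A₀, hA₀, B₀, hB₀, h₀⟩ := h
  intro A hA
  obtain ⟨g, rfl⟩ := hcl.2 A₀ hA₀ A hA
  exact ⟨conjBy B₀ g, FAdj_conj hS ⟨hA₀, hB₀, h₀⟩ g⟩

/-- every member of a class with a commutator case pair has a commutator case partner. -/
theorem class_exists_commCase {S : Set (Subgroup G)} (hS : IsRootSubgroupSet S)
    (hcl : IsConjClassOfSubgroups S) (h : ∃ A ∈ S, ∃ B ∈ S, RootCommutatorCase S A B) :
    ∀ A ∈ S, ∃ D ∈ S, RootCommutatorCase S A D := by
  obtain ⟨A₀, hA₀, B₀, hB₀, h₀⟩ := h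
  intro A hA
  obtain ⟨g, rfl⟩ := hcl.2 A₀ hA₀ A hA
  exact ⟨conjBy B₀ g, hS.conj_mem B₀ hB₀ g, rootCommutatorCase_conj hS h₀ g⟩

theorem class_connected {S : Set (Subgroup G)} (hS : IsRootSubgroupSet S)
    (hcl : IsConjClassOfSubgroups S) (h : ∃ A ∈ S, ∃ B ∈ S, IsRankOnePair A B) :
    IsConnectedFamily (FAdj S) S := by
  obtain ⟨A₀, hA₀, B₀, hB₀, h₀⟩ := h
  apply connected_of_class hS hcl hA₀
  intro hiso
  exact (hiso.2 B₀).1 ⟨hA₀, hB₀, h₀⟩

/-- a commutator case pair is joined by a path of length two in the graph of line partners. -/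
theorem EAdj_path_of_commCase {S : Set (Subgroup G)} (hS : IsRootSubgroupSet S)
    (hnb : ∀ A ∈ S, ∃ C, FAdj S A C) {A B : Subgroup G} (hA : A ∈ S) (hB : B ∈ S)
    (h : RootCommutatorCase S A B) : Relation.ReflTransGen (EAdj S S) A B := by
  obtain ⟨P, hP⟩ := hnb A hA
  obtain ⟨P', hP'⟩ := hnb B hB
  have h' : RootCommutatorCase S B A :=
    commutatorCase_of_commutator_mem hS hB hA (by rw [Subgroup.commutator_comm]; exact h.1)
  have h1 : ⁅A, B⁆ ∈ linePartners S A := commCase_linePartner hS hA hP h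
  have h2 : ⁅B, A⁆ ∈ linePartners S B := commCase_linePartner hS hB hP' h'
  rw [Subgroup.commutator_comm] at h2
  exact (Relation.ReflTransGen.single ⟨hA, h.1, h1⟩).trans
    (Relation.ReflTransGen.single ⟨h.1, hB, linePartners_symm hB h2⟩)

/-- a rank one pair is joined by a path in the graph of line partners, in the presence of
commutator case partners. -/
theorem EAdj_path_of_rankOne {S : Set (Subgroup G)} (hS : IsRootSubgroupSet S)
    (hnb : ∀ A ∈ S, ∃ C, FAdj S A C) (hcc : ∀ A ∈ S, ∃ D ∈ S, RootCommutatorCase S A D)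
    {A B : Subgroup G} (h : FAdj S A B) : Relation.ReflTransGen (EAdj S S) A B := by
  obtain ⟨hA, hB, hAB⟩ := h
  obtain ⟨D, _, hAD⟩ := hcc A hA
  obtain ⟨C, hCL, hBC⟩ := exists_linePartner_commCase hS hA hB hAB hAD
  have hC : C ∈ S := hCL.1.1
  have hCB : RootCommutatorCase S C B :=
    commutatorCase_of_commutator_mem hS hC hB (by rw [Subgroup.commutator_comm]; exact hBC.1)
  exact (Relation.ReflTransGen.single ⟨hA, hC, hCL⟩).trans
    (EAdj_path_of_commCase hS hnb hC hB hCB)

/-- II(2.12)-type: the graph of line partners and the commuting graph of a non-degenerate class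
are connected. -/
theorem nondegenerate_class_connected {S : Set (Subgroup G)} (hS : IsRootSubgroupClass S)
    (hnd : IsNondegenerateRootSet S) :
    IsConnectedFamily (EAdj S S) S ∧ IsConnectedFamily (DAdj S) S := by
  have hnb := class_exists_FAdj hS.1 hS.2 hnd.2.1
  have hcc := class_exists_commCase hS.1 hS.2 hnd.2.2
  have hF := class_connected hS.1 hS.2 hnd.2.1
  have hE : IsConnectedFamily (EAdj S S) S := by
    intro A hA B hB
    have := hF A hA B hB
    clear hB
    induction this with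
    | refl => exact Relation.ReflTransGen.refl
    | tail _ hbc ih => exact ih.trans (EAdj_path_of_rankOne hS.1 hnb hcc hbc)
  refine ⟨hE, ?_⟩
  intro A hA B hB
  exact Relation.ReflTransGen.mono (r := EAdj S S) (p := DAdj S) (fun _ _ h => DAdj_of_EAdj h) A B
    (hE A hA B hB)

end Cfsg.Agent.Lib.Helper25
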