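/-
helper25: for a non-degenerate class `S` of abstract root subgroups, `A ∈ S` and `B ∈ Ω_A`:
`G = ⟨Λ_A, B⟩` (Timmesfeld II(2.13)-type result).
-/
import Mathlib
import Cfsg.Prelude.Def_RootSubgroups
import Cfsg.Agent.Lib.Helper25.RootGraphs

set_option autoImplicit false

namespace Cfsg.Agent.Lib.Helper25

open Cfsg
open scoped commutatorElement

variable {G : Type*} [Group G]

/-- (b): every line partner `C` of `A` is in the commutator case with some rank one partner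
of `A`. -/
theorem exists_rankOne_commCase_of_linePartner {S : Set (Subgroup G)} (hS : IsRootSubgroupSet S)
    (hnb : ∀ A ∈ S, ∃ C, FAdj S A C) {A C : Subgroup G} (hA : A ∈ S)
    (hCL : C ∈ linePartners S A) :
    ∃ B₁ ∈ S, IsRankOnePair A B₁ ∧ RootCommutatorCase S B₁ C := by
  have hC : C ∈ S := hCL.1.1
  obtain ⟨B', _, hB', hAB'⟩ := hnb A hA
  rcases hS.pair B' hB' C hC with h | h | h
  · exact absurd h (line_not_comm hS hA hCL hB' hAB')
  · obtain ⟨T₀, hT₀, hT₀A, hT₀C, hcc⟩ := exists_commCase_of_rankOne hS hA hCL hB' hAB' h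
    obtain ⟨x, _, hxA, hxT⟩ := line_two_transitive hS hnb hA hCL A ⟨hA, le_sup_left⟩ T₀ hT₀
      A ⟨hA, le_sup_left⟩ C ⟨hC, le_sup_right⟩ hT₀A.symm hCL.1.2.1.symm
    refine ⟨conjBy B' x, hS.conj_mem B' hB' x, ?_, ?_⟩
    · have := rankOnePair_conj hAB' x
      rwa [hxA] at this
    · have := rootCommutatorCase_conj hS hcc x
      rwa [hxT] at this
  · exact ⟨B', hB', hAB', h⟩

/-- any point `T ≠ A` of a line `AC` spans the line together with `A`. -/
theorem line_sup_eq {S : Set (Subgroup G)} (hS : IsRootSubgroupSet S)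
    (hnb : ∀ A ∈ S, ∃ C, FAdj S A C) {A C T : Subgroup G} (hA : A ∈ S)
    (hCL : C ∈ linePartners S A) (hT : T ∈ membersIn S (A ⊔ C)) (hTA : T ≠ A) :
    A ⊔ T = A ⊔ C := by
  by_cases hTC : T = C
  · rw [hTC]
  obtain ⟨B₁, hB₁, hAB₁, hcc⟩ := exists_rankOne_commCase_of_linePartner hS hnb hA hCL
  have t : LineConfig S A C B₁ := ⟨hS, hA, hCL, hB₁, hAB₁, hcc⟩
  have hQS : ⁅B₁, C⁆ ∈ S := hcc.1
  have hAQ : RootCommutatorCase S A ⁅B₁, C⁆ :=
    commutatorCase_of_commutator_mem hS hA hQS (by rw [t.comm_eq]; exact hCL.1.1)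
  have hmem := commCase_membersIn hS hA hB₁ hAB₁ hAQ
  rw [t.comm_eq] at hmem
  rw [hmem] at hT
  rcases hT with ⟨q, hq, rfl⟩ | hT
  · have hq1 : q ≠ 1 := by
      rintro rfl
      exact hTA (conjBy_one A)
    have := commCase_sup_conj hAQ hq hq1
    rwa [t.comm_eq] at this
  · exact absurd hT hTC

theorem linePartner_of_mem_line' {S : Set (Subgroup G)} (hS : IsRootSubgroupSet S)
    (hnb : ∀ A ∈ S, ∃ C, FAdj S A C) {A C T : Subgroup G} (hA : A ∈ S)
    (hCL : C ∈ linePartners S A) (hT : T ∈ membersIn S (A ⊔ C)) (hTA : T ≠ A) :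
    T ∈ linePartners S A :=
  linePartner_of_mem_line hS hA hCL hT hTA (line_sup_eq hS hnb hA hCL hT hTA)

/-- (a): `A ≤ ⟨Λ_A⟩` in the presence of rank one and commutator case partners. -/
theorem le_iSup_linePartners {S : Set (Subgroup G)} (hS : IsRootSubgroupSet S)
    {A B D : Subgroup G} (hA : A ∈ S) (hB : B ∈ S) (hAB : IsRankOnePair A B)
    (hAD : RootCommutatorCase S A D) : A ≤ ⨆ C ∈ linePartners S A, C := by
  obtain ⟨C, hCL, hBC⟩ := exists_linePartner_commCase hS hA hB hAB hAD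
  have t : LineConfig S A C B := ⟨hS, hA, hCL, hB, hAB, hBC⟩
  have hQS : ⁅B, C⁆ ∈ S := hBC.1
  have hAQ : RootCommutatorCase S A ⁅B, C⁆ :=
    commutatorCase_of_commutator_mem hS hA hQS (by rw [t.comm_eq]; exact hCL.1.1)
  obtain ⟨q, hq, hq1⟩ := exists_ne_one_of_ne_bot (hS.ne_bot _ hQS)
  have hsup : A ⊔ conjBy A q = A ⊔ C := by
    have := commCase_sup_conj hAQ hq hq1
    rwa [t.comm_eq] at this
  have hTm : conjBy A q ∈ membersIn S (A ⊔ C) := ⟨hS.conj_mem A hA q, t.conjA_le q hq⟩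
  have hTA : conjBy A q ≠ A := by
    intro e
    rw [e, sup_idem] at hsup
    have hCA : C ≤ A := by rw [hsup]; exact le_sup_right
    have hinf : C ⊓ A = ⊥ :=
      hCL.2.2.2 C ⟨hCL.1.1, le_sup_right⟩ A ⟨hA, le_sup_left⟩ hCL.1.2.1
    rw [inf_eq_left.2 hCA] at hinf
    exact hS.ne_bot C hCL.1.1 hinf
  have hTL : conjBy A q ∈ linePartners S A := linePartner_of_mem_line hS hA hCL hTm hTA hsup
  have h1 : C ≤ ⨆ C ∈ linePartners S A, C := le_iSup₂_of_le C hCL le_rfl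
  have h2 : conjBy A q ≤ ⨆ C ∈ linePartners S A, C := le_iSup₂_of_le _ hTL le_rfl
  intro a ha
  have hc : q * a * q⁻¹ * a⁻¹ ∈ C := by
    have := Subgroup.commutator_mem_commutator hq ha
    rw [commutatorElement_def, Subgroup.commutator_comm, t.comm_eq] at this
    exact this
  have ht : q * a * q⁻¹ ∈ conjBy A q := conj_mem_conjBy ha
  have e : a = (q * a * q⁻¹ * a⁻¹)⁻¹ * (q * a * q⁻¹) := by group
  rw [e]
  exact Subgroup.mul_mem _ (Subgroup.inv_mem _ (h1 hc)) (h2 ht)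

/-- (c): every line partner of `A` is conjugate to `A` under `⟨Λ_A, B⟩`. -/
theorem linePartner_conj_of_gen {S : Set (Subgroup G)} (hS : IsRootSubgroupSet S)
    (hnb : ∀ A ∈ S, ∃ C, FAdj S A C) {A B C : Subgroup G} (hA : A ∈ S) (hB : B ∈ S)
    (hAB : IsRankOnePair A B) (hCL : C ∈ linePartners S A) :
    ∃ y ∈ (⨆ C' ∈ linePartners S A, C') ⊔ B, C = conjBy A y := by
  have hC : C ∈ S := hCL.1.1
  have hLam : ∀ C' ∈ linePartners S A, C' ≤ (⨆ C' ∈ linePartners S A, C') ⊔ B :=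
    fun C' hC' => le_sup_of_le_left (le_iSup₂_of_le C' hC' le_rfl)
  have hBY : B ≤ (⨆ C' ∈ linePartners S A, C') ⊔ B := le_sup_right
  -- a point `T'` of the line in the commutator case with `B`
  obtain ⟨T', hT'm, hT'A, hBT'⟩ : ∃ T' ∈ membersIn S (A ⊔ C), T' ≠ A ∧
      RootCommutatorCase S B T' := by
    rcases hS.pair B hB C hC with h | h | h
    · exact absurd h (line_not_comm hS hA hCL hB hAB)
    · obtain ⟨T₀, hT₀, hT₀A, _, hcc⟩ := exists_commCase_of_rankOne hS hA hCL hB hAB h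
      exact ⟨T₀, hT₀, hT₀A, hcc⟩
    · exact ⟨C, ⟨hC, le_sup_right⟩, hCL.1.2.1, h⟩
  have hsupT' : A ⊔ T' = A ⊔ C := line_sup_eq hS hnb hA hCL hT'm hT'A
  have hT'L : T' ∈ linePartners S A := linePartner_of_mem_line hS hA hCL hT'm hT'A hsupT'
  have t : LineConfig S A T' B := ⟨hS, hA, hT'L, hB, hAB, hBT'⟩
  obtain ⟨_, _, _, _, _, _, htr⟩ := exists_lineShift_of_commCase t
  rw [hsupT'] at htr
  have hQY : ⁅B, T'⁆ ≤ (⨆ C' ∈ linePartners S A, C') ⊔ B :=
    le_trans (commutator_le_sup B T') (sup_le hBY (hLam T' hT'L))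
  by_cases hCT' : C = T'
  · subst hCT'
    -- use a third point and the line shift based at `C`
    obtain ⟨T₁, hT₁, hT₁A, hT₁C⟩ := line_exists_third hS hA hCL A C
    obtain ⟨d, hd, hT₁e⟩ := htr T₁ hT₁ hT₁C
    have hAL : A ∈ linePartners S C := linePartners_symm hA hCL
    obtain ⟨B_C, hB_C, hCB_C, hcc⟩ := exists_rankOne_commCase_of_linePartner hS hnb hC hAL
    have t' : LineConfig S C A B_C := ⟨hS, hC, hAL, hB_C, hCB_C, hcc⟩
    obtain ⟨_, _, _, _, _, _, htr'⟩ := exists_lineShift_of_commCase t'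
    rw [sup_comm] at htr'
    obtain ⟨d', hd', hT₁e'⟩ := htr' T₁ hT₁ hT₁A
    have hAB_C : RootCommutatorCase S A B_C :=
      commutatorCase_of_commutator_mem hS hA hB_C (by rw [Subgroup.commutator_comm]; exact hcc.1)
    have hQ'L : ⁅A, B_C⁆ ∈ linePartners S A := commCase_linePartner hS hA ⟨hA, hB, hAB⟩ hAB_C
    rw [Subgroup.commutator_comm] at hQ'L
    refine ⟨d'⁻¹ * d, Subgroup.mul_mem _ (Subgroup.inv_mem _ (hLam _ hQ'L hd')) (hQY hd), ?_⟩
    rw [conjBy_mul, ← hT₁e, hT₁e', conjBy_conjBy_inv]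
  · obtain ⟨d, hd, he⟩ := htr C ⟨hC, le_sup_right⟩ hCT'
    exact ⟨d, hQY hd, he⟩

theorem membersIn_conj {S : Set (Subgroup G)} (hS : IsRootSubgroupSet S) {M T : Subgroup G}
    (g : G) : T ∈ membersIn S (conjBy M g) ↔ conjBy T g⁻¹ ∈ membersIn S M := by
  constructor
  · intro h
    refine ⟨hS.conj_mem T h.1 g⁻¹, ?_⟩
    have := conjBy_mono h.2 g⁻¹
    rwa [conjBy_conjBy_inv] at this
  · intro h
    have h1 := hS.conj_mem _ h.1 g
    rw [conjBy_inv_conjBy] at h1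
    refine ⟨h1, ?_⟩
    have := conjBy_mono h.2 g
    rwa [conjBy_inv_conjBy] at this

theorem conjBy_commutator (A B : Subgroup G) (g : G) :
    conjBy ⁅A, B⁆ g = ⁅conjBy A g, conjBy B g⁆ :=
  Subgroup.map_commutator A B _

theorem conjBy_inf (A B : Subgroup G) (g : G) : conjBy (A ⊓ B) g = conjBy A g ⊓ conjBy B g :=
  Subgroup.map_inf A B _ (MulAut.conj g).injective

/-- conjugation preserves line partners. -/
theorem linePartners_conj {S : Set (Subgroup G)} (hS : IsRootSubgroupSet S) {A B : Subgroup G}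
    (hBL : B ∈ linePartners S A) (g : G) : conjBy B g ∈ linePartners S (conjBy A g) := by
  obtain ⟨⟨hB, hBA, hcomm⟩, hle, hcov, hdis⟩ := hBL
  refine ⟨⟨hS.conj_mem B hB g, fun e => hBA (conjBy_injective g e), ?_⟩, ?_, ?_, ?_⟩
  · rw [← conjBy_commutator, hcomm, conjBy_bot]
  · intro T hT
    exact hT.2
  · intro x hx hx1
    rw [← conjBy_sup, mem_conjBy] at hx
    have hx1' : g⁻¹ * x * g ≠ 1 := by
      intro e
      apply hx1
      calc x = g * (g⁻¹ * x * g) * g⁻¹ := by group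
        _ = 1 := by rw [e]; group
    obtain ⟨T, hT, hxT⟩ := hcov _ hx hx1'
    refine ⟨conjBy T g, ?_, ?_⟩
    · rw [← conjBy_sup, membersIn_conj hS, conjBy_conjBy_inv]
      exact hT
    · rw [mem_conjBy]; exact hxT
  · intro T hT T' hT' hne
    rw [← conjBy_sup, membersIn_conj hS] at hT hT'
    have hne' : conjBy T g⁻¹ ≠ conjBy T' g⁻¹ := fun e => hne (conjBy_injective g⁻¹ e)
    have h1 := hdis _ hT _ hT' hne'
    rw [← conjBy_inf, conjBy_eq_bot_iff] at h1
    exact h1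

/-- (d): all members of `S` are conjugates of `A` under `⟨Λ_A, B⟩`. -/
theorem mem_conj_of_gen {S : Set (Subgroup G)} (hS : IsRootSubgroupSet S)
    (hnb : ∀ A ∈ S, ∃ C, FAdj S A C) {A B : Subgroup G} (hA : A ∈ S) (hB : B ∈ S)
    (hAB : IsRankOnePair A B) {E : Subgroup G} (hE : Relation.ReflTransGen (EAdj S S) A E) :
    ∃ y ∈ (⨆ C' ∈ linePartners S A, C') ⊔ B, E = conjBy A y := by
  induction hE with
  | refl => exact ⟨1, Subgroup.one_mem _, (conjBy_one A).symm⟩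
  | tail _ hbc ih =>
    obtain ⟨y, hy, rfl⟩ := ih
    have h1 := linePartners_conj hS hbc.2.2 y⁻¹
    rw [conjBy_conjBy_inv] at h1
    obtain ⟨y', hy', he⟩ := linePartner_conj_of_gen hS hnb hA hB hAB h1
    refine ⟨y * y', Subgroup.mul_mem _ hy hy', ?_⟩
    rw [conjBy_mul, ← he, conjBy_inv_conjBy]

/-- II(2.13)-type: `G = ⟨Λ_A, B⟩` for a non-degenerate class, `A ∈ S` and `B ∈ Ω_A`. -/
theorem gen_linePartners_sup {S : Set (Subgroup G)} (hS : IsRootSubgroupClass S)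
    (hnd : IsNondegenerateRootSet S) {A B : Subgroup G} (hA : A ∈ S)
    (hB : B ∈ rankOnePartners S A) : (⨆ C ∈ linePartners S A, C) ⊔ B = ⊤ := by
  have hnb := class_exists_FAdj hS.1 hS.2 hnd.2.1
  have hcc := class_exists_commCase hS.1 hS.2 hnd.2.2
  have hE := (nondegenerate_class_connected hS hnd).1
  obtain ⟨D, _, hAD⟩ := hcc A hA
  have hAY : A ≤ (⨆ C ∈ linePartners S A, C) ⊔ B :=
    le_sup_of_le_left (le_iSup_linePartners hS.1 hA hB.1 hB.2 hAD)
  rw [eq_top_iff, ← hS.1.generates]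
  apply iSup₂_le
  intro E hES
  obtain ⟨y, hy, rfl⟩ := mem_conj_of_gen hS.1 hnb hA hB.1 hB.2 (hE A hA E hES)
  exact conjBy_le_of_mem_of_le hAY hy

end Cfsg.Agent.Lib.Helper25
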