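/-
helper25: root involutions (Timmesfeld), basic lemmas: the isolated vertices of the odd-order
product graph generate a normal 2-subgroup `⟨W⟩` with `⟨W⟩ ∩ D = W`; the members of `X_a` lie in
the component of `a` or in `W`; commutators between different components lie in `⟨W⟩`.
-/
import Mathlib
import Cfsg.Prelude.Def_RootSubgroups
import Cfsg.Agent.Lib.Helper25.BaerSuzuki
import Cfsg.Agent.Lib.Helper11.InvolOdd

set_option autoImplicit false

namespace Cfsg.Agent.Lib.Helper25.RootInvol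

open Cfsg
open Cfsg.Agent.Lib.Helper25

variable {G : Type*} [Group G]

theorem orderOf_conj' (g x : G) : orderOf (g * x * g⁻¹) = orderOf x :=
  orderOf_injective (MulAut.conj g).toMonoidHom (MulAut.conj g).injective x

theorem orderOf_mul_comm' (a b : G) : orderOf (a * b) = orderOf (b * a) := by
  have : a * b = a * (b * a) * a⁻¹ := by group
  rw [this, orderOf_conj']

/-- two commuting elements of order `2` and odd order `n` have product of order `2n`. -/
theorem orderOf_mul_of_invol_odd {a y : G} (hc : a * y = y * a) (ha : orderOf a = 2)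
    (hy : Odd (orderOf y)) : orderOf (a * y) = 2 * orderOf y := by
  have hco : Nat.Coprime (orderOf a) (orderOf y) := by
    rw [ha]
    exact (Nat.coprime_two_left).2 hy
  rw [Commute.orderOf_mul_eq_mul_orderOf_of_coprime hc hco, ha]

variable {D : Set G}

theorem mul_self_of_mem (hD : IsRootInvolutionSet D) {d : G} (hd : d ∈ D) : d * d = 1 := by
  have := pow_orderOf_eq_one d
  rwa [hD.orderOf_eq d hd, pow_two] at this

theorem inv_of_mem (hD : IsRootInvolutionSet D) {d : G} (hd : d ∈ D) : d⁻¹ = d :=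
  inv_eq_of_mul_eq_one_right (mul_self_of_mem hD hd)

theorem ne_one_of_mem (hD : IsRootInvolutionSet D) {d : G} (hd : d ∈ D) : d ≠ 1 := by
  rintro rfl
  have := hD.orderOf_eq 1 hd
  rw [orderOf_one] at this
  exact absurd this (by norm_num)

theorem conj_mem' (hD : IsRootInvolutionSet D) {d : G} (hd : d ∈ D) {g : G} (hg : g ∈ D) :
    g * d * g ∈ D := by
  have := hD.conj_mem d hd g
  rwa [inv_of_mem hD hg] at this

/-- two members of `D` whose product has order `2n`, `n ≥ 3` odd: impossible. -/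
theorem no_twice_odd (hD : IsRootInvolutionSet D) {u v : G} (hu : u ∈ D) (hv : v ∈ D) {n : ℕ}
    (hn : Odd n) (hn1 : n ≠ 1) (ho : orderOf (u * v) = 2 * n) : False := by
  rcases hD.pair u hu v hv with h | h | h
  · have h2 : (u * v) ^ 2 = 1 := by
      rw [pow_two]
      calc u * v * (u * v) = u * (v * u) * v := by group
        _ = u * (u * v) * v := by rw [h]
        _ = (u * u) * (v * v) := by group
        _ = 1 := by rw [mul_self_of_mem hD hu, mul_self_of_mem hD hv, one_mul]
    have := orderOf_dvd_of_pow_eq_one h2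
    rw [ho] at this
    have hn0 : 0 < n := hn.pos
    have : 2 * n ≤ 2 := Nat.le_of_dvd (by norm_num) this
    omega
  · rw [ho] at h
    exact (Nat.not_odd_iff_even.2 (even_two_mul n)) h
  · rw [ho] at h
    obtain ⟨k, hk⟩ := hn
    omega

theorem oddAdj_symm {a b : G} (h : OddAdj D a b) : OddAdj D b a :=
  ⟨h.2.1, h.1, h.2.2.1.symm, by rw [orderOf_mul_comm']; exact h.2.2.2⟩

theorem oddAdj_conj (hD : IsRootInvolutionSet D) {a b : G} (h : OddAdj D a b) (g : G) :
    OddAdj D (g * a * g⁻¹) (g * b * g⁻¹) := by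
  refine ⟨hD.conj_mem a h.1 g, hD.conj_mem b h.2.1 g, ?_, ?_⟩
  · intro e
    apply h.2.2.1
    have := congrArg (fun x => g⁻¹ * x * g) e
    simpa [mul_assoc] using this
  · have : g * a * g⁻¹ * (g * b * g⁻¹) = g * (a * b) * g⁻¹ := by group
    rw [this, orderOf_conj']
    exact h.2.2.2

/-- reachability is symmetric. -/
theorem reach_symm {a b : G} (h : Relation.ReflTransGen (OddAdj D) a b) :
    Relation.ReflTransGen (OddAdj D) b a := by
  induction h with
  | refl => exact Relation.ReflTransGen.refl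
  | tail _ hbc ih => exact Relation.ReflTransGen.head (oddAdj_symm hbc) ih

theorem comp_eq_of_reach {a b : G} (h : Relation.ReflTransGen (OddAdj D) a b) :
    elemComponentOf (OddAdj D) D a = elemComponentOf (OddAdj D) D b := by
  ext x
  constructor
  · rintro ⟨hx, hax⟩
    exact ⟨hx, (reach_symm h).trans hax⟩
  · rintro ⟨hx, hbx⟩
    exact ⟨hx, h.trans hbx⟩

/-- a non-isolated member has a neighbour. -/
theorem exists_adj_of_not_isolated {e : G} (he : e ∈ D)
    (hni : ¬ IsIsolatedElem (OddAdj D) D e) : ∃ x, OddAdj D e x := by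
  by_contra hno
  apply hni
  refine ⟨he, fun b => ⟨fun h => hno ⟨b, h⟩, fun h => hno ⟨b, oddAdj_symm h⟩⟩⟩

theorem exists_adj_of_comp_nontrivial {a : G}
    (h : ∃ a' ∈ elemComponentOf (OddAdj D) D a, a' ≠ a) : ∃ z, OddAdj D a z := by
  obtain ⟨a', ⟨_, hreach⟩, hne⟩ := h
  rcases Relation.ReflTransGen.cases_head hreach with h | ⟨c, hc, _⟩
  · exact absurd h.symm hne
  · exact ⟨c, hc⟩

/-- (L1): a neighbour `x` of `e` commutes with no `a` such that `e a = a e ∈ D`. -/
theorem not_comm_of_adj (hD : IsRootInvolutionSet D) {a e x : G} (ha : a ∈ D)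
    (hea : e * a = a * e) (hf : e * a ∈ D) (hx : OddAdj D e x) : x * a ≠ a * x := by
  intro hxa
  obtain ⟨he, hxD, hne, hodd⟩ := hx
  have hcomm : a * (e * x) = (e * x) * a := by
    rw [← mul_assoc, ← hea, mul_assoc, ← hxa, mul_assoc]
  have ho := orderOf_mul_of_invol_odd hcomm (hD.orderOf_eq a ha) hodd
  have hfx : e * a * x = a * (e * x) := by rw [hea, mul_assoc]
  rw [← hfx] at ho
  refine no_twice_odd hD hf hxD hodd ?_ ho
  intro h1
  rw [orderOf_eq_one_iff] at h1
  apply hne
  have : x = e⁻¹ := (inv_eq_of_mul_eq_one_right h1).symm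
  rw [this, inv_of_mem hD he]

theorem comm_of_invol_mul_sq {u v : G} (hu : u * u = 1) (hv : v * v = 1)
    (h : (u * v) * (u * v) = 1) : u * v = v * u := by
  have h1 : (u * v)⁻¹ = u * v := inv_eq_of_mul_eq_one_right h
  have hu' : u⁻¹ = u := inv_eq_of_mul_eq_one_right hu
  have hv' : v⁻¹ = v := inv_eq_of_mul_eq_one_right hv
  rw [← h1, mul_inv_rev, hu', hv']

/-- the square of a product `x a` of two involutions is `x · (a x a⁻¹)`. -/
theorem sq_eq_mul_conj {x a : G} (ha : a * a = 1) : (x * a) ^ 2 = x * (a * x * a⁻¹) := by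
  rw [pow_two]
  calc x * a * (x * a) = x * (a * x * a⁻¹) * (a * a) := by group
    _ = x * (a * x * a⁻¹) := by rw [ha, mul_one]

/-- (L2): a neighbour `x` of `e` has odd order product with `a` or with `e a`. -/
theorem odd_of_adj (hD : IsRootInvolutionSet D) {a e x : G} (ha : a ∈ D)
    (hea : e * a = a * e) (hf : e * a ∈ D) (hx : OddAdj D e x) :
    Odd (orderOf (x * a)) ∨ Odd (orderOf (x * (e * a))) := by
  have hxa := not_comm_of_adj hD ha hea hf hx
  have he : e ∈ D := hx.1
  have hxD : x ∈ D := hx.2.1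
  have hee := mul_self_of_mem hD he
  have haa := mul_self_of_mem hD ha
  have hxx := mul_self_of_mem hD hxD
  have hff := mul_self_of_mem hD hf
  -- `e` commutes with `e a`, and `e (e a) = a ∈ D`
  have hef : e * (e * a) = (e * a) * e := by
    rw [← mul_assoc, hee, one_mul, hea, mul_assoc, hee, mul_one]
  have hef' : e * (e * a) ∈ D := by
    rw [← mul_assoc, hee, one_mul]; exact ha
  have hxf := not_comm_of_adj hD hf hef hef' hx
  rcases hD.pair x hxD a ha with h | h | ⟨h4, hc⟩
  · exact absurd h hxa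
  · exact Or.inl h
  rcases hD.pair x hxD (e * a) hf with h | h | ⟨h4', hc'⟩
  · exact absurd h hxf
  · exact Or.inr h
  exfalso
  -- the bad case: both products have order 4
  have hx₂D : a * x * a⁻¹ ∈ D := hD.conj_mem x hxD a
  have hx₄D : e * x * e⁻¹ ∈ D := hD.conj_mem x hxD e
  have hx₆D : (e * a) * x * (e * a)⁻¹ ∈ D := hD.conj_mem x hxD (e * a)
  rw [sq_eq_mul_conj haa] at hc
  rw [sq_eq_mul_conj hff] at hc'
  -- `x` commutes with `x₂` and with `x₆`
  have hcomm12 : x * (a * x * a⁻¹) = (a * x * a⁻¹) * x :=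
    comm_of_invol_mul_sq hxx (mul_self_of_mem hD hx₂D) (mul_self_of_mem hD hc)
  have hcomm16 : x * ((e * a) * x * (e * a)⁻¹) = ((e * a) * x * (e * a)⁻¹) * x :=
    comm_of_invol_mul_sq hxx (mul_self_of_mem hD hx₆D) (mul_self_of_mem hD hc')
  -- conjugating by `a`: `x₂` commutes with `x₄`
  have haf : a * (e * a) = e := by rw [← mul_assoc, ← hea, mul_assoc, haa, mul_one]
  have hcomm24 : (a * x * a⁻¹) * (e * x * e⁻¹) = (e * x * e⁻¹) * (a * x * a⁻¹) := by
    have h1 : a * (x * ((e * a) * x * (e * a)⁻¹)) * a⁻¹ =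
        a * (((e * a) * x * (e * a)⁻¹) * x) * a⁻¹ := by rw [hcomm16]
    have e1 : a * (x * ((e * a) * x * (e * a)⁻¹)) * a⁻¹ =
        (a * x * a⁻¹) * ((a * (e * a)) * x * (a * (e * a))⁻¹) := by group
    have e2 : a * (((e * a) * x * (e * a)⁻¹) * x) * a⁻¹ =
        ((a * (e * a)) * x * (a * (e * a))⁻¹) * (a * x * a⁻¹) := by group
    rw [e1, e2, haf] at h1
    exact h1
  -- `y = x x₄ = (x e)²` has odd order `n > 1`
  have hodd := hx.2.2.2
  have hyo : orderOf (x * (e * x * e⁻¹)) = orderOf (e * x) := by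
    rw [← sq_eq_mul_conj hee, orderOf_mul_comm' e x]
    apply Nat.Coprime.orderOf_pow
    rw [orderOf_mul_comm' x e]
    exact (Nat.coprime_two_right).2 hodd
  have hcommy : (a * x * a⁻¹) * (x * (e * x * e⁻¹)) = (x * (e * x * e⁻¹)) * (a * x * a⁻¹) := by
    calc (a * x * a⁻¹) * (x * (e * x * e⁻¹))
        = ((a * x * a⁻¹) * x) * (e * x * e⁻¹) := by group
      _ = (x * (a * x * a⁻¹)) * (e * x * e⁻¹) := by rw [hcomm12]
      _ = x * ((a * x * a⁻¹) * (e * x * e⁻¹)) := by group
      _ = x * ((e * x * e⁻¹) * (a * x * a⁻¹)) := by rw [hcomm24]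
      _ = (x * (e * x * e⁻¹)) * (a * x * a⁻¹) := by group
  have hodd' : Odd (orderOf (x * (e * x * e⁻¹))) := by rw [hyo]; exact hodd
  have ho := orderOf_mul_of_invol_odd hcommy (hD.orderOf_eq _ hx₂D) hodd'
  have hprod : x * (a * x * a⁻¹) * (e * x * e⁻¹) = (a * x * a⁻¹) * (x * (e * x * e⁻¹)) := by
    rw [hcomm12]; group
  rw [← hprod] at ho
  refine no_twice_odd hD hc hx₄D hodd' ?_ ho
  rw [hyo]
  intro h1
  rw [orderOf_eq_one_iff] at h1
  apply hx.2.2.1
  have : x = e⁻¹ := (inv_eq_of_mul_eq_one_right h1).symm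
  rw [this, inv_of_mem hD he]

end Cfsg.Agent.Lib.Helper25.RootInvol
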