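/-
helper25: root involutions: the isolated vertices `W` of the odd-order product graph.
-/
import Mathlib
import Cfsg.Prelude.Def_RootSubgroups
import Cfsg.Agent.Lib.Helper25.RootInvol

set_option autoImplicit false

namespace Cfsg.Agent.Lib.Helper25.RootInvol

open Cfsg
open Cfsg.Agent.Lib.Helper25

variable {G : Type*} [Group G] {D : Set G}

/-- the set of isolated vertices. -/
def isoW (D : Set G) : Set G := {w | IsIsolatedElem (OddAdj D) D w}

theorem isoW_conj (hD : IsRootInvolutionSet D) {w : G} (hw : w ∈ isoW D) (g : G) :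
    g * w * g⁻¹ ∈ isoW D := by
  refine ⟨hD.conj_mem w hw.1 g, fun b => ⟨?_, ?_⟩⟩
  · intro h
    have h' := oddAdj_conj hD h g⁻¹
    have e : g⁻¹ * (g * w * g⁻¹) * g⁻¹⁻¹ = w := by group
    rw [e] at h'
    exact (hw.2 _).1 h'
  · intro h
    have h' := oddAdj_conj hD h g⁻¹
    have e : g⁻¹ * (g * w * g⁻¹) * g⁻¹⁻¹ = w := by group
    rw [e] at h'
    exact (hw.2 _).2 h'

theorem closure_normal_of_conj {S : Set G} (h : ∀ s ∈ S, ∀ g : G, g * s * g⁻¹ ∈ S) :
    (Subgroup.closure S).Normal := by
  constructor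
  intro n hn g
  induction hn using Subgroup.closure_induction with
  | mem x hx => exact Subgroup.subset_closure (h x hx g)
  | one => rw [mul_one, mul_inv_cancel]; exact one_mem _
  | mul x y _ _ hx hy =>
    have : g * (x * y) * g⁻¹ = (g * x * g⁻¹) * (g * y * g⁻¹) := by group
    rw [this]; exact mul_mem hx hy
  | inv x _ hx =>
    have : g * x⁻¹ * g⁻¹ = (g * x * g⁻¹)⁻¹ := by group
    rw [this]; exact inv_mem hx

theorem isoW_closure_normal (hD : IsRootInvolutionSet D) : (Subgroup.closure (isoW D)).Normal :=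
  closure_normal_of_conj (fun _ hw g => isoW_conj hD hw g)

/-- products of two isolated vertices have 2-power order. -/
theorem isoW_mul_pow (hD : IsRootInvolutionSet D) {w w' : G} (hw : w ∈ isoW D) (hw' : w' ∈ D) :
    (w * w') ^ (2 ^ 2) = 1 := by
  have hww := mul_self_of_mem hD hw.1
  have hww' := mul_self_of_mem hD hw'
  rcases hD.pair w hw.1 w' hw' with h | h | h
  · have h2 : (w * w') ^ 2 = 1 := by
      rw [pow_two]
      calc w * w' * (w * w') = w * (w' * w) * w' := by group
        _ = w * (w * w') * w' := by rw [h]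
        _ = (w * w) * (w' * w') := by group
        _ = 1 := by rw [hww, hww', one_mul]
    have e4 : (w * w') ^ 2 ^ 2 = ((w * w') ^ 2) ^ 2 := by rw [← pow_mul]; norm_num
    rw [e4, h2, one_pow]
  · by_cases e : w = w'
    · rw [← e, hww, one_pow]
    · exact absurd ⟨hw.1, hw', e, h⟩ (hw.2 w').1
  · have := pow_orderOf_eq_one (w * w')
    rw [h.1] at this
    exact this

theorem isoW_closure_isPGroup [Finite G] (hD : IsRootInvolutionSet D) :
    IsPGroup 2 ↥(Subgroup.closure (isoW D)) := by
  haveI : Fact (Nat.Prime 2) := ⟨Nat.prime_two⟩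
  obtain ⟨P⟩ : Nonempty (Sylow 2 G) := inferInstance
  have hle : Subgroup.closure (isoW D) ≤ (P : Subgroup G) := by
    rw [Subgroup.closure_le]
    intro w hw
    have hX : IsPGroup 2 ↥(Subgroup.zpowers w) := by
      apply IsPGroup.of_card (n := 1)
      rw [Nat.card_zpowers, hD.orderOf_eq w hw.1, pow_one]
    have hpair : ∀ g : G, IsPGroup 2 ↥(Subgroup.zpowers w ⊔ conjBy (Subgroup.zpowers w) g) := by
      intro g
      have hc : conjBy (Subgroup.zpowers w) g = Subgroup.zpowers (g * w * g⁻¹) := by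
        unfold conjBy
        rw [MonoidHom.map_zpowers]
        rfl
      rw [hc]
      exact Cfsg.Agent.Lib.Helper11.isPGroup_two_sup_zpowers_of_invol
        (mul_self_of_mem hD hw.1) (mul_self_of_mem hD (hD.conj_mem w hw.1 g))
        (isoW_mul_pow hD hw (hD.conj_mem w hw.1 g))
    obtain ⟨N, hN, hNp, hXN⟩ := baer_suzuki (Subgroup.zpowers w) hX hpair
    haveI := hN
    exact (hNp.le_sylow_of_normal P) (hXN (Subgroup.mem_zpowers w))
  exact P.isPGroup'.to_le hle

theorem isoW_closure_inter [Finite G] (hD : IsRootInvolutionSet D) :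
    (Subgroup.closure (isoW D) : Set G) ∩ D = isoW D := by
  ext d
  constructor
  · rintro ⟨hdN, hdD⟩
    haveI := isoW_closure_normal hD
    have key : ∀ b, ¬ OddAdj D d b := by
      rintro b ⟨_, hb, hne, hodd⟩
      -- `(d b)² = d · (b d b⁻¹) ∈ ⟨W⟩`
      have hsq : (d * b) ^ 2 ∈ Subgroup.closure (isoW D) := by
        rw [sq_eq_mul_conj (mul_self_of_mem hD hb)]
        exact mul_mem hdN (Subgroup.Normal.conj_mem inferInstance d hdN b)
      obtain ⟨k, hk⟩ := (isoW_closure_isPGroup hD) ⟨(d * b) ^ 2, hsq⟩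
      have hk' : ((d * b) ^ 2) ^ (2 ^ k) = 1 := by
        have := congrArg Subtype.val hk
        simpa using this
      have hdvd : orderOf ((d * b) ^ 2) ∣ 2 ^ k := orderOf_dvd_of_pow_eq_one hk'
      have ho : orderOf ((d * b) ^ 2) = orderOf (d * b) :=
        Nat.Coprime.orderOf_pow ((Nat.coprime_two_right).2 hodd)
      rw [ho] at hdvd
      have h1 : orderOf (d * b) = 1 := by
        have hcop : Nat.Coprime (orderOf (d * b)) (2 ^ k) :=
          Nat.Coprime.pow_right k ((Nat.coprime_two_right).2 hodd)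
        exact Nat.Coprime.eq_one_of_dvd hcop hdvd
      rw [orderOf_eq_one_iff] at h1
      apply hne
      have : b = d⁻¹ := (inv_eq_of_mul_eq_one_right h1).symm
      rw [this, inv_of_mem hD hdD]
    exact ⟨hdD, fun b => ⟨key b, fun h => key b (oddAdj_symm h)⟩⟩
  · intro hd
    exact ⟨Subgroup.subset_closure hd, hd.1⟩

/-- (Claim 6): members of `X_a` are isolated or lie in the component of `a`. -/
theorem productPartners_subset (hD : IsRootInvolutionSet D) {a : G} (ha : a ∈ D)
    (hnt : ∃ a' ∈ elemComponentOf (OddAdj D) D a, a' ≠ a) :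
    productPartners D a ⊆ elemComponentOf (OddAdj D) D a ∪ isoW D := by
  rintro e ⟨⟨he, hea, hne⟩, hf⟩
  by_cases hiso : IsIsolatedElem (OddAdj D) D e
  · exact Or.inr hiso
  left
  refine ⟨he, ?_⟩
  obtain ⟨x, hx⟩ := exists_adj_of_not_isolated he hiso
  obtain ⟨z, hz⟩ := exists_adj_of_comp_nontrivial hnt
  -- the symmetric data
  have hae : a * e = e * a := hea.symm
  have hf' : a * e ∈ D := by rw [hae]; exact hf
  have hxa := not_comm_of_adj hD ha hea hf hx
  have hze := not_comm_of_adj hD he hae hf' hz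
  have hee := mul_self_of_mem hD he
  have haa := mul_self_of_mem hD ha
  have hef : e * (e * a) = (e * a) * e := by
    rw [← mul_assoc, hee, one_mul, hea, mul_assoc, hee, mul_one]
  have hef' : e * (e * a) ∈ D := by
    rw [← mul_assoc, hee, one_mul]; exact ha
  have haf : a * (e * a) = (e * a) * a := by
    rw [← mul_assoc, ← hea]
  have haf' : a * (e * a) ∈ D := by
    rw [← mul_assoc, ← hea, mul_assoc, haa, mul_one]; exact he
  have hxf := not_comm_of_adj hD hf hef hef' hx
  have hzf := not_comm_of_adj hD hf haf haf' hz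
  rcases odd_of_adj hD ha hea hf hx with h1 | h1
  · -- `a – x – e`
    have hxa' : OddAdj D x a := ⟨hx.2.1, ha, fun e' => hxa (by rw [e']), h1⟩
    exact Relation.ReflTransGen.head (oddAdj_symm hxa')
      (Relation.ReflTransGen.single (oddAdj_symm hx))
  rcases odd_of_adj hD he hae hf' hz with h2 | h2
  · -- `a – z – e`
    have hze' : OddAdj D z e := ⟨hz.2.1, he, fun e' => hze (by rw [e']), h2⟩
    exact Relation.ReflTransGen.head hz (Relation.ReflTransGen.single hze')
  · -- `a – z – f – x – e`
    rw [hae] at h2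
    have hzf' : OddAdj D z (e * a) := ⟨hz.2.1, hf, fun e' => hzf (by rw [e']), h2⟩
    have hxf' : OddAdj D x (e * a) := ⟨hx.2.1, hf, fun e' => hxf (by rw [e']), h1⟩
    exact Relation.ReflTransGen.head hz (Relation.ReflTransGen.head hzf'
      (Relation.ReflTransGen.head (oddAdj_symm hxf')
        (Relation.ReflTransGen.single (oddAdj_symm hx))))

/-- (Claim 5): commutators between different non-trivial components lie in `⟨W⟩`. -/
theorem commutator_mem_closure_isoW (hD : IsRootInvolutionSet D) {a b : G} (ha : a ∈ D)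
    (hb : b ∈ D) (hnta : ∃ a' ∈ elemComponentOf (OddAdj D) D a, a' ≠ a)
    (hntb : ∃ b' ∈ elemComponentOf (OddAdj D) D b, b' ≠ b)
    (hne : elemComponentOf (OddAdj D) D a ≠ elemComponentOf (OddAdj D) D b) :
    a * b * a⁻¹ * b⁻¹ ∈ Subgroup.closure (isoW D) := by
  have haa := mul_self_of_mem hD ha
  have hbb := mul_self_of_mem hD hb
  rcases hD.pair a ha b hb with h | h | ⟨h4, hc⟩
  · have : a * b * a⁻¹ * b⁻¹ = 1 := by rw [h]; group
    rw [this]; exact one_mem _
  · exfalso
    apply hne
    by_cases e : a = b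
    · rw [e]
    · exact comp_eq_of_reach (Relation.ReflTransGen.single ⟨ha, hb, e, h⟩)
  · -- `c = (a b)² = [a, b] ∈ D` lies in `X_a ∩ X_b`
    have hcomm : a * b * a⁻¹ * b⁻¹ = (a * b) ^ 2 := by
      rw [inv_of_mem hD ha, inv_of_mem hD hb, pow_two]; group
    rw [hcomm]
    set c := (a * b) ^ 2 with hcdef
    have hcc := mul_self_of_mem hD hc
    have hcinv : c⁻¹ = c := inv_of_mem hD hc
    have ha' : a⁻¹ = a := inv_of_mem hD ha
    have hb' : b⁻¹ = b := inv_of_mem hD hb
    -- `c a = b a b⁻¹` and `c b = a b a⁻¹`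
    have hca : c * a = b * a * b⁻¹ := by
      have h1 : c⁻¹ * a = b⁻¹ * a⁻¹ * b⁻¹ := by
        rw [hcdef, pow_two]; group
      rw [hcinv] at h1
      rw [h1, ha', hb']
    have hcb : c * b = a * b * a⁻¹ := by
      rw [hcdef, pow_two, ha']
      calc a * b * (a * b) * b = a * b * a * (b * b) := by group
        _ = a * b * a := by rw [hbb, mul_one]
    have hcaD : c * a ∈ D := by rw [hca]; exact hD.conj_mem a ha b
    have hcbD : c * b ∈ D := by rw [hcb]; exact hD.conj_mem b hb a
    have hca_comm : c * a = a * c :=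
      comm_of_invol_mul_sq hcc haa (mul_self_of_mem hD hcaD)
    have hcb_comm : c * b = b * c :=
      comm_of_invol_mul_sq hcc hbb (mul_self_of_mem hD hcbD)
    have hc_ne_a : c ≠ a := by
      intro e
      rw [e, haa] at hcaD
      exact ne_one_of_mem hD hcaD rfl
    have hc_ne_b : c ≠ b := by
      intro e
      rw [e, hbb] at hcbD
      exact ne_one_of_mem hD hcbD rfl
    have hXa : c ∈ productPartners D a := ⟨⟨hc, hca_comm, hc_ne_a⟩, hcaD⟩
    have hXb : c ∈ productPartners D b := ⟨⟨hc, hcb_comm, hc_ne_b⟩, hcbD⟩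
    rcases productPartners_subset hD ha hnta hXa with h1 | h1
    · rcases productPartners_subset hD hb hntb hXb with h2 | h2
      · exfalso
        apply hne
        rw [comp_eq_of_reach h1.2, comp_eq_of_reach h2.2]
      · exact Subgroup.subset_closure h2
    · exact Subgroup.subset_closure h1

end Cfsg.Agent.Lib.Helper25.RootInvol
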