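/-
helper25: pulling back rank one pairs / `SL₂`-pairs / commuting pairs along an injective
homomorphism.
-/
import Mathlib
import Cfsg.Prelude.Def_RootSubgroups
import Cfsg.Agent.Lib.Helper25.RootSetMap

set_option autoImplicit false

namespace Cfsg.Agent.Lib.Helper25

open Cfsg

variable {G H : Type*} [Group G] [Group H]

theorem rankOneCondition_of_map_injective (f : G →* H) (hf : Function.Injective f)
    {A B : Subgroup G} (h : RankOneCondition (A.map f) (B.map f)) : RankOneCondition A B := by
  intro a ha ha1
  have hfa1 : f a ≠ 1 := fun e => ha1 (hf (e.trans (map_one f).symm))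
  obtain ⟨b', ⟨b, hb, rfl⟩, hb1, hconj⟩ := h (f a) (Subgroup.mem_map_of_mem f ha) hfa1
  refine ⟨b, hb, ?_, ?_⟩
  · rintro rfl
    exact hb1 (map_one f)
  · apply Subgroup.map_injective hf
    rw [map_conjBy, map_conjBy, map_inv, map_inv]
    exact hconj

theorem rankOnePair_of_map_injective (f : G →* H) (hf : Function.Injective f)
    {A B : Subgroup G} (h : IsRankOnePair (A.map f) (B.map f)) : IsRankOnePair A B := by
  refine ⟨?_, ?_, ?_, rankOneCondition_of_map_injective f hf h.cond_left,
    rankOneCondition_of_map_injective f hf h.cond_right⟩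
  · rintro rfl
    exact h.ne rfl
  · haveI := h.nilpotent_left
    exact Group.nilpotent_of_mulEquiv (Subgroup.equivMapOfInjective A f hf).symm
  · haveI := h.nilpotent_right
    exact Group.nilpotent_of_mulEquiv (Subgroup.equivMapOfInjective B f hf).symm

theorem commutator_eq_bot_of_map_injective (f : G →* H) (hf : Function.Injective f)
    {A B : Subgroup G} (h : ⁅A.map f, B.map f⁆ = ⊥) : ⁅A, B⁆ = ⊥ := by
  rw [← Subgroup.map_commutator] at h
  exact (Subgroup.map_eq_bot_iff_of_injective _ hf).1 h

theorem isMulCommutative_of_map_injective (f : G →* H) (hf : Function.Injective f)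
    {A : Subgroup G} (h : IsMulCommutative (A.map f)) : IsMulCommutative A := by
  rw [isMulCommutative_iff]
  rintro ⟨a, ha⟩ ⟨b, hb⟩
  apply Subtype.ext
  apply hf
  show f (a * b) = f (b * a)
  rw [map_mul, map_mul]
  exact comm_of_isMulCommutative h (Subgroup.mem_map_of_mem f ha) (Subgroup.mem_map_of_mem f hb)

theorem psl2Pair_of_map_injective {k : Type*} [Field k] (f : G →* H)
    (hf : Function.Injective f) {A B : Subgroup G}
    (h : IsPSL2PairOver k (A.map f) (B.map f)) : IsPSL2PairOver k A B := by
  obtain ⟨φ, hrange, hker, hup, hlow⟩ := h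
  have hle : ∀ x, φ x ∈ f.range := by
    intro x
    have : φ x ∈ φ.range := ⟨x, rfl⟩
    rw [hrange, ← Subgroup.map_sup] at this
    exact Subgroup.map_le_range f _ this
  set φ' : Matrix.SpecialLinearGroup (Fin 2) k →* G :=
    (MonoidHom.ofInjective hf).symm.toMonoidHom.comp (φ.codRestrict f.range hle) with hφ'
  have hcomp : ∀ x, f (φ' x) = φ x := by
    intro x
    exact MonoidHom.apply_ofInjective_symm hf ⟨φ x, hle x⟩
  have hcomp' : f.comp φ' = φ := MonoidHom.ext hcomp
  refine ⟨φ', ?_, ?_, ?_, ?_⟩
  · apply Subgroup.map_injective hf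
    rw [← MonoidHom.range_comp, hcomp', hrange, Subgroup.map_sup]
  · intro x hx
    apply hker
    rw [MonoidHom.mem_ker] at hx ⊢
    rw [← hcomp, hx, map_one]
  · apply Subgroup.map_injective hf
    rw [Subgroup.map_map, hcomp', hup]
  · apply Subgroup.map_injective hf
    rw [Subgroup.map_map, hcomp', hlow]

end Cfsg.Agent.Lib.Helper25
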