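/-
helper25: weak TI-subsets of a non-degenerate class of abstract root subgroups are abelian
(Timmesfeld II(2.14)/(2.15)-type result).
-/
import Mathlib
import Cfsg.Prelude.Def_RootSubgroups
import Cfsg.Agent.Lib.Helper25.RootGen

set_option autoImplicit false

namespace Cfsg.Agent.Lib.Helper25

open Cfsg
open scoped commutatorElement

variable {G : Type*} [Group G]

/-- an element of a member of `S` fixing some member of the weak TI-subset `Δ` stabilizes `Δ`. -/
theorem weakTI_mem_stab {S Δ : Set (Subgroup G)} (hΔ : IsWeakTISubset S Δ) {D : Subgroup G}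
    (hD : D ∈ S) {d : G} (hd : d ∈ D) {E : Subgroup G} (hE : E ∈ Δ) (hfix : conjBy E d = E) :
    d ∈ stabFamily Δ := by
  by_cases hd1 : d = 1
  · rw [hd1]; exact Subgroup.one_mem _
  have himg : (fun A => conjBy A d) '' Δ = Δ := by
    rcases hΔ.2.2.2 d ⟨hd1, D, hD, hd⟩ with h | h
    · exact h
    · exfalso
      have h1 : E ∈ (fun A => conjBy A d) '' Δ := ⟨E, hE, hfix⟩
      exact Set.disjoint_left.1 h h1 hE
  intro C hC
  constructor
  · rw [← himg]; exact ⟨C, hC, rfl⟩
  · have hC' := hC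
    rw [← himg] at hC'
    obtain ⟨C', hC', rfl⟩ := hC'
    show conjBy (conjBy C' d) d⁻¹ ∈ Δ
    rw [conjBy_conjBy_inv]
    exact hC'

/-- a member of `S` commuting with a member of `Δ` stabilizes `Δ`. -/
theorem weakTI_le_stab {S Δ : Set (Subgroup G)} (hΔ : IsWeakTISubset S Δ) {D : Subgroup G}
    (hD : D ∈ S) {E : Subgroup G} (hE : E ∈ Δ) (hcomm : ∀ d ∈ D, ∀ e ∈ E, d * e = e * d) :
    D ≤ stabFamily Δ := fun d hd =>
  weakTI_mem_stab hΔ hD hd hE (conjBy_eq_self_of_comm (fun e he => hcomm d hd e he))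

/-- no member of a weak TI-subset of a non-degenerate class has a rank one partner stabilizing
the subset. -/
theorem weakTI_no_rankOne {S Δ : Set (Subgroup G)} (hS : IsRootSubgroupClass S)
    (hnd : IsNondegenerateRootSet S) (hΔ : IsWeakTISubset S Δ) {A B : Subgroup G} (hA : A ∈ Δ)
    (hB : B ∈ S) (hAB : IsRankOnePair A B) (hBs : B ≤ stabFamily Δ) : False := by
  have hAS : A ∈ S := hΔ.1 hA
  have hgen := gen_linePartners_sup hS hnd hAS ⟨hB, hAB⟩
  have hle : (⨆ C ∈ linePartners S A, C) ⊔ B ≤ stabFamily Δ := by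
    apply sup_le _ hBs
    apply iSup₂_le
    intro C hC
    apply weakTI_le_stab hΔ hC.1.1 hA
    intro c hc a ha
    exact (commutator_eq_bot_iff_commute.1 hC.1.2.2 a ha c hc).symm
  rw [hgen] at hle
  apply hΔ.2.2.1
  apply Set.Subset.antisymm hΔ.1
  intro E hE
  obtain ⟨g, rfl⟩ := hS.2.2 A hAS E hE
  exact ((hle (Subgroup.mem_top g)) A hA).1

/-- II(2.15)-type: a weak TI-subset of a non-degenerate class is abelian. -/
theorem weakTI_abelian {S Δ : Set (Subgroup G)} (hS : IsRootSubgroupClass S)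
    (hnd : IsNondegenerateRootSet S) (hΔ : IsWeakTISubset S Δ) : IsAbelianFamily Δ := by
  have hnb := class_exists_FAdj hS.1 hS.2 hnd.2.1
  intro A hA B hB
  have hAS : A ∈ S := hΔ.1 hA
  have hBS : B ∈ S := hΔ.1 hB
  rcases hS.1.pair A hAS B hBS with h | h | h
  · exact commutator_eq_bot_iff_commute.1 h
  · exfalso
    apply weakTI_no_rankOne hS hnd hΔ hA hBS h
    exact weakTI_le_stab hΔ hBS hB
      (fun d hd e he => comm_of_isMulCommutative (hS.1.commutative B hBS) hd he)
  · exfalso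
    have h' : RootCommutatorCase S B A :=
      commutatorCase_of_commutator_mem hS.1 hBS hAS (by rw [Subgroup.commutator_comm]; exact h.1)
    obtain ⟨P, hP⟩ := hnb B hBS
    have hQL : ⁅B, A⁆ ∈ linePartners S B := commCase_linePartner hS.1 hBS hP h'
    have hBL : B ∈ linePartners S ⁅B, A⁆ := linePartners_symm hBS hQL
    obtain ⟨D', hD', hQD', hcc⟩ :=
      exists_rankOne_commCase_of_linePartner hS.1 hnb h'.1 hBL
    have t : LineConfig S ⁅B, A⁆ B D' := ⟨hS.1, h'.1, hBL, hD', hQD', hcc⟩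
    have q : RootQuad S B A ⁅B, A⁆ ⁅D', B⁆ :=
      ⟨hS.1, hBS, hAS, h'.1, hcc.1, rfl, t.comm_eq⟩
    apply weakTI_no_rankOne hS hnd hΔ hA hcc.1 q.rankOne
    exact weakTI_le_stab hΔ hcc.1 hB (fun d hd e he => commCase_comm_bot_right hcc d hd e he)

end Cfsg.Agent.Lib.Helper25
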