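/-
helper25: in `SL₂(F)`, `F` a field of characteristic 2, an element of finite order with
nonzero trace has odd order; with trace one it has order dividing 3.
-/
import Mathlib

set_option autoImplicit false

namespace Cfsg.Agent.Lib.Helper25.SLRoot

open Matrix

variable {F : Type*} [Field F] [CharP F 2]

/-- Cayley–Hamilton for `SL₂` in characteristic 2. -/
theorem sl2_sq (x : Matrix.SpecialLinearGroup (Fin 2) F) :
    (↑x : Matrix (Fin 2) (Fin 2) F) * (↑x : Matrix (Fin 2) (Fin 2) F) =
      ((↑x : Matrix (Fin 2) (Fin 2) F) 0 0 + (↑x : Matrix (Fin 2) (Fin 2) F) 1 1) •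
        (↑x : Matrix (Fin 2) (Fin 2) F) + 1 := by
  have hdet := x.2
  rw [Matrix.det_fin_two] at hdet
  have h2 : (2 : F) = 0 := CharTwo.two_eq_zero
  have hneg : (-1 : F) = 1 := CharTwo.neg_eq 1
  ext i j
  fin_cases i <;> fin_cases j
  · simp only [Fin.zero_eta, Fin.isValue, Matrix.mul_apply, Fin.sum_univ_two, Matrix.add_apply,
      Matrix.smul_apply, smul_eq_mul, Matrix.one_apply_eq]
    linear_combination (-1 : F) * hdet - h2
  · simp only [Fin.zero_eta, Fin.isValue, Fin.mk_one, Matrix.mul_apply, Fin.sum_univ_two,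
      Matrix.add_apply, Matrix.smul_apply, smul_eq_mul, ne_eq, zero_ne_one, not_false_eq_true,
      Matrix.one_apply_ne, add_zero]
    ring
  · simp only [Fin.zero_eta, Fin.isValue, Fin.mk_one, Matrix.mul_apply, Fin.sum_univ_two,
      Matrix.add_apply, Matrix.smul_apply, smul_eq_mul, ne_eq, one_ne_zero, not_false_eq_true,
      Matrix.one_apply_ne, add_zero]
    ring
  · simp only [Fin.isValue, Fin.mk_one, Matrix.mul_apply, Fin.sum_univ_two, Matrix.add_apply,
      Matrix.smul_apply, smul_eq_mul, Matrix.one_apply_eq]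
    linear_combination (-1 : F) * hdet - h2

/-- powers of `x` are linear combinations of `x` and `1`. -/
theorem sl2_pow_eq (x : Matrix.SpecialLinearGroup (Fin 2) F) (j : ℕ) :
    ∃ a b : F, (↑x : Matrix (Fin 2) (Fin 2) F) ^ j =
      a • (↑x : Matrix (Fin 2) (Fin 2) F) + b • (1 : Matrix (Fin 2) (Fin 2) F) := by
  induction j with
  | zero => exact ⟨0, 1, by rw [pow_zero, zero_smul, zero_add, one_smul]⟩
  | succ j ih =>
    obtain ⟨a, b, hab⟩ := ih
    refine ⟨a * ((↑x : Matrix (Fin 2) (Fin 2) F) 0 0 + (↑x : Matrix (Fin 2) (Fin 2) F) 1 1) + b,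
      a, ?_⟩
    rw [pow_succ, hab, add_mul, smul_mul_assoc, smul_mul_assoc, one_mul, sl2_sq, smul_add,
      smul_smul, add_smul]
    abel

/-- an element of `SL₂(F)` (char 2) with nonzero trace and finite order has odd order. -/
theorem sl2_odd_order (x : Matrix.SpecialLinearGroup (Fin 2) F) (hfin : IsOfFinOrder x)
    (htr : (↑x : Matrix (Fin 2) (Fin 2) F) 0 0 + (↑x : Matrix (Fin 2) (Fin 2) F) 1 1 ≠ 0) :
    Odd (orderOf x) := by
  by_contra hodd
  rw [Nat.not_odd_iff_even] at hodd
  obtain ⟨j, hj⟩ := hodd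
  have hpos : 0 < orderOf x := hfin.orderOf_pos
  have hj0 : j ≠ 0 := by omega
  have hjlt : j < orderOf x := by omega
  have hy1 : x ^ j ≠ 1 := pow_ne_one_of_lt_orderOf hj0 hjlt
  have hy2 : x ^ j * x ^ j = 1 := by
    rw [← pow_add, ← hj, pow_orderOf_eq_one]
  set X : Matrix (Fin 2) (Fin 2) F := ↑x with hX
  set τ : F := X 0 0 + X 1 1 with hτ
  obtain ⟨a, b, hab⟩ := sl2_pow_eq x j
  have hY : (↑(x ^ j) : Matrix (Fin 2) (Fin 2) F) = a • X + b • 1 := by
    rw [Matrix.SpecialLinearGroup.coe_pow, hab]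
  have hYY : (a • X + b • (1 : Matrix (Fin 2) (Fin 2) F)) * (a • X + b • 1) = 1 := by
    rw [← hY, ← Matrix.SpecialLinearGroup.coe_mul, hy2, Matrix.SpecialLinearGroup.coe_one]
  have h2 : (2 : F) = 0 := CharTwo.two_eq_zero
  have hexp : (a • X + b • (1 : Matrix (Fin 2) (Fin 2) F)) * (a • X + b • 1) =
      (a * a * τ) • X + (a * a + b * b) • 1 := by
    rw [add_mul, mul_add, mul_add, smul_mul_smul_comm, smul_mul_smul_comm, smul_mul_smul_comm,
      smul_mul_smul_comm, mul_one, one_mul, mul_one, sl2_sq x, ← hX, ← hτ, smul_add, smul_smul]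
    have : (a * b) • X + (b * a) • X = (0 : Matrix (Fin 2) (Fin 2) F) := by
      rw [← add_smul, mul_comm b a, ← two_mul, h2, zero_mul, zero_smul]
    rw [add_smul]
    calc (a * a * τ) • X + (a * a) • 1 + (a * b) • X + ((b * a) • X + (b * b) • 1)
        = (a * a * τ) • X + ((a * a) • 1 + (b * b) • 1) + ((a * b) • X + (b * a) • X) := by abel
      _ = (a * a * τ) • X + ((a * a) • 1 + (b * b) • 1) := by rw [this, add_zero]
  rw [hexp] at hYY
  -- compare entries
  have e01 := congrFun (congrFun hYY 0) 1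
  have e10 := congrFun (congrFun hYY 1) 0
  have e00 := congrFun (congrFun hYY 0) 0
  have e11 := congrFun (congrFun hYY 1) 1
  simp only [Fin.isValue, Matrix.add_apply, Matrix.smul_apply, smul_eq_mul, ne_eq, zero_ne_one,
    one_ne_zero, not_false_eq_true, Matrix.one_apply_ne, Matrix.one_apply_eq, mul_zero, add_zero,
    mul_one] at e01 e10 e00 e11
  by_cases ha : a = 0
  · -- then the power is a scalar `b` with `b² = 1`
    subst ha
    simp only [mul_zero, zero_mul, zero_add] at e00
    have hb : b = 1 := by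
      have h3 : (b + 1) * (b + 1) = 0 := by
        have : (b + 1) * (b + 1) = b * b + 2 * b + 1 := by ring
        rw [this, e00, h2, zero_mul, add_zero]
        exact CharTwo.add_self_eq_zero 1
      have h4 : b + 1 = 0 := by
        rcases mul_self_eq_zero.1 h3 with h
        exact h
      calc b = b + 1 + 1 := by rw [add_assoc, CharTwo.add_self_eq_zero, add_zero]
        _ = 1 := by rw [h4, zero_add]
    apply hy1
    apply Subtype.ext
    show (↑(x ^ j) : Matrix (Fin 2) (Fin 2) F) = 1
    rw [hY, hb, zero_smul, zero_add, one_smul]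
  · -- then `X` is scalar, so its trace vanishes
    have haτ : a * a * τ ≠ 0 := mul_ne_zero (mul_ne_zero ha ha) htr
    have hX01 : X 0 1 = 0 := (mul_eq_zero.1 e01).resolve_left haτ
    have hX10 : X 1 0 = 0 := (mul_eq_zero.1 e10).resolve_left haτ
    have hdiff : a * a * τ * (X 0 0 - X 1 1) = 0 := by linear_combination e00 - e11
    have hX00 : X 0 0 = X 1 1 := sub_eq_zero.1 ((mul_eq_zero.1 hdiff).resolve_left haτ)
    apply htr
    rw [hτ, hX00]
    exact CharTwo.add_self_eq_zero _

/-- an element of `SL₂(F)` (char 2) with trace one has cube one. -/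
theorem sl2_cube_eq_one (x : Matrix.SpecialLinearGroup (Fin 2) F)
    (htr : (↑x : Matrix (Fin 2) (Fin 2) F) 0 0 + (↑x : Matrix (Fin 2) (Fin 2) F) 1 1 = 1) :
    x ^ 3 = 1 := by
  apply Subtype.ext
  rw [Matrix.SpecialLinearGroup.coe_pow, Matrix.SpecialLinearGroup.coe_one]
  have h := sl2_sq x
  rw [htr, one_smul] at h
  have h3 : (3 : ℕ) = 2 + 1 := rfl
  rw [h3, pow_succ, pow_two, h, add_mul, one_mul, h, add_assoc, add_comm 1 _, ← add_assoc]
  have : (↑x : Matrix (Fin 2) (Fin 2) F) + (↑x : Matrix (Fin 2) (Fin 2) F) = 0 := by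
    ext i j
    exact CharTwo.add_self_eq_zero _
  rw [this, zero_add]

end Cfsg.Agent.Lib.Helper25.SLRoot
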