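/-
helper25 (S2332, stage 0 = leaf C1 of helper16's plan), SPARE of sub-leaf (S2):
the symmetry input of the rank-two exclusion for `|J| = 2`, `q ≥ 4`, from the torus element
`levi (bd c h)`, `h = 1 + (δ - 1) v φᵀ` (`φ v = 1`, `φ w = 0`), `c = δ⁻²`, `δ² ≠ 1`, together with
the shift `d(v,w) = d(v, w - t v)` (helper10 `finrank_shift`).  The proof works for every `J`.
-/
import Cfsg.Agent.Lib.Helper25.SLMinSym3
import Cfsg.Agent.Lib.Helper24.SLMinC1Rel
import Cfsg.Agent.Lib.Helper10.SLMinStage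

set_option autoImplicit false

namespace Cfsg.Agent.Lib.Helper25.SLMin

open Matrix Module Cfsg.Agent.Lib.Helper16.SLMin

section dil

variable {F : Type*} [Field F] {J : Type*} [Fintype J] [DecidableEq J]

theorem det_dilMat (δ : F) (v φ : J → F) (h : φ ⬝ᵥ v = 1) :
    (1 + vecMulVec ((δ - 1) • v) φ : Matrix J J F).det = δ := by
  rw [vecMulVec_eq Unit, det_one_add_replicateCol_mul_replicateRow, dotProduct_smul, h,
    smul_eq_mul, mul_one]
  ring

/-- the dilation `1 + (δ - 1) v φᵀ` (`φ v = 1`): multiplies `v` by `δ` and fixes `ker φ` -/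
noncomputable def dil (δ : Fˣ) (v φ : J → F) (h : φ ⬝ᵥ v = 1) : GL J F :=
  Matrix.GeneralLinearGroup.mkOfDetNeZero (1 + vecMulVec (((δ : F) - 1) • v) φ)
    (by rw [det_dilMat _ v φ h]; exact δ.ne_zero)

theorem dil_coe (δ : Fˣ) (v φ : J → F) (h : φ ⬝ᵥ v = 1) :
    ((dil δ v φ h : GL J F) : Matrix J J F) = 1 + vecMulVec (((δ : F) - 1) • v) φ := rfl

theorem det_dil (δ : Fˣ) (v φ : J → F) (h : φ ⬝ᵥ v = 1) :
    ((dil δ v φ h : GL J F) : Matrix J J F).det = (δ : F) := by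
  rw [dil_coe, det_dilMat _ v φ h]

theorem dil_mulVec (δ : Fˣ) (v φ : J → F) (h : φ ⬝ᵥ v = 1) (x : J → F) :
    ((dil δ v φ h : GL J F) : Matrix J J F) *ᵥ x = x + (φ ⬝ᵥ x) • (((δ : F) - 1) • v) := by
  rw [dil_coe, add_mulVec, one_mulVec, vecMulVec_mulVec, op_smul_eq_smul]

theorem gl_coe_inv_mul_coe (g : GL J F) :
    ((g⁻¹ : GL J F) : Matrix J J F) * (g : Matrix J J F) = 1 := by
  rw [← Units.val_mul, inv_mul_cancel, Units.val_one]

theorem gl_coe_mul_coe_inv (g : GL J F) :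
    (g : Matrix J J F) * ((g⁻¹ : GL J F) : Matrix J J F) = 1 := by
  rw [← Units.val_mul, mul_inv_cancel, Units.val_one]

theorem gl_dot_mulVec_vecMul_inv (h : GL J F) (v r : J → F) :
    v ⬝ᵥ r = ((h : Matrix J J F) *ᵥ v) ⬝ᵥ (r ᵥ* ((h⁻¹ : GL J F) : Matrix J J F)) := by
  rw [dotProduct_comm ((h : Matrix J J F) *ᵥ v), ← dotProduct_mulVec, mulVec_mulVec,
    gl_coe_inv_mul_coe, one_mulVec, dotProduct_comm]

theorem gl_smul_vecMul_inv_surjective (c : F) (hc : c ≠ 0) (h : GL J F) :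
    Function.Surjective (fun r : J → F => c • (r ᵥ* ((h⁻¹ : GL J F) : Matrix J J F))) := by
  intro r
  refine ⟨c⁻¹ • (r ᵥ* (h : Matrix J J F)), ?_⟩
  show c • ((c⁻¹ • (r ᵥ* (h : Matrix J J F))) ᵥ* ((h⁻¹ : GL J F) : Matrix J J F)) = r
  rw [smul_vecMul, vecMul_vecMul, gl_coe_mul_coe_inv, vecMul_one, smul_smul, mul_inv_cancel₀ hc,
    one_smul]

/-- the torus element acting on row 1 × J -/
theorem levi_bd_ra (c : Fˣ) (h : GL J F) (r : J → F) :
    levi (Helper24.SLMin.bd c h) * ra r * (levi (Helper24.SLMin.bd c h))⁻¹ =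
      ra ((((c : F) * (h : Matrix J J F).det)⁻¹) • (r ᵥ* ((h⁻¹ : GL J F) : Matrix J J F))) := by
  unfold ra
  rw [Helper24.SLMin.levi_bd_rad, smul_zero]

end dil

section action2

variable {F : Type*} [Field F] [Fintype F] {M : Type*} [AddCommGroup M] [Module ℂ M]
  {J : Type*} [Fintype J] [DecidableEq J]
  (ρ : Representation ℂ (SpecialLinearGroup (Unit ⊕ (Unit ⊕ J)) F) M)

theorem map_wt_ra_torus (c : Fˣ) (h : GL J F) (v : J → F) :
    Submodule.map (ρ (levi (Helper24.SLMin.bd c h))) (wt ρ (ra (F := F) (J := J)) v) =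
      wt ρ (ra (F := F) (J := J))
        (((c : F) * (h : Matrix J J F).det) • ((h : Matrix J J F) *ᵥ v)) := by
  have hdet : (c : F) * (h : Matrix J J F).det ≠ 0 := by
    apply mul_ne_zero c.ne_zero
    have := h.isUnit
    exact ((Matrix.isUnit_iff_isUnit_det _).mp h.isUnit).ne_zero
  refine map_wt_conj ρ ra ra _ _
    (gl_smul_vecMul_inv_surjective _ (inv_ne_zero hdet) h) (levi_bd_ra c h) v _ ?_
  intro r
  rw [smul_dotProduct, dotProduct_smul, smul_smul, mul_inv_cancel₀ hdet, one_smul]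
  exact gl_dot_mulVec_vecMul_inv h v r

theorem map_wt_rb_torus (c : Fˣ) (h : GL J F) (w : J → F) :
    Submodule.map (ρ (levi (Helper24.SLMin.bd c h))) (wt ρ (rb (F := F) (J := J)) w) =
      wt ρ (rb (F := F) (J := J)) (((c⁻¹ : Fˣ) : F) • ((h : Matrix J J F) *ᵥ w)) := by
  refine map_wt_conj ρ rb rb _ _
    (gl_smul_vecMul_inv_surjective _ c.ne_zero h) (Helper24.SLMin.levi_bd_rb c h) w _ ?_
  intro r
  rw [smul_dotProduct, dotProduct_smul, smul_smul, Units.inv_mul, one_smul]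
  exact gl_dot_mulVec_vecMul_inv h w r

end action2

section main2

variable {F : Type*} [Field F] [Fintype F] [DecidableEq F] {M : Type*} [AddCommGroup M]
  [Module ℂ M] [FiniteDimensional ℂ M] {J : Type*} [Fintype J] [DecidableEq J]
  (ρ : Representation ℂ (SpecialLinearGroup (Unit ⊕ (Unit ⊕ J)) F) M)

omit [DecidableEq F] in
theorem exists_unit_sq_ne_one (hq : 4 ≤ Fintype.card F) : ∃ δ : Fˣ, (δ : F) ^ 2 ≠ 1 := by
  classical
  obtain ⟨g, hg⟩ := IsCyclic.exists_generator (α := Fˣ)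
  have hord : orderOf g = Fintype.card Fˣ := by
    rw [← Nat.card_eq_fintype_card]
    exact orderOf_eq_card_of_forall_mem_zpowers hg
  refine ⟨g, fun h2 => ?_⟩
  have h2' : g ^ 2 = 1 := by
    apply Units.ext
    rw [Units.val_pow_eq_pow_val, h2, Units.val_one]
  have hdvd : orderOf g ∣ 2 := orderOf_dvd_of_pow_eq_one h2'
  have hle : orderOf g ≤ 2 := Nat.le_of_dvd (by norm_num) hdvd
  rw [hord, Fintype.card_units] at hle
  omega

/-- the torus symmetry: `d(v, w) = d(v, δ² w)` when `v, w` are independent -/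
theorem finrank_torus (δ : Fˣ) (v w : J → F) (hvw : LinearIndependent F ![v, w]) :
    finrank ℂ ↥((⊤ : Submodule ℂ M) ⊓ wt ρ (ra (F := F) (J := J)) v ⊓
        wt ρ (rb (F := F) (J := J)) (((δ : F) ^ 2) • w)) =
      finrank ℂ ↥((⊤ : Submodule ℂ M) ⊓ wt ρ (ra (F := F) (J := J)) v ⊓
        wt ρ (rb (F := F) (J := J)) w) := by
  have hwv : LinearIndependent F ![w, v] := by
    rw [LinearIndependent.pair_iff] at hvw ⊢
    intro s t hst
    have := hvw t s (by rw [add_comm]; exact hst)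
    exact ⟨this.2, this.1⟩
  obtain ⟨φ, hφw, hφv⟩ := exists_dot_functional w v hwv
  set h : GL J F := dil δ v φ hφv with hh
  set c : Fˣ := (δ ^ 2)⁻¹ with hc
  have hv' : ((c : F) * (h : Matrix J J F).det) • ((h : Matrix J J F) *ᵥ v) = v := by
    rw [hh, det_dil, dil_mulVec, hφv, one_smul, hc]
    have : v + ((δ : F) - 1) • v = (δ : F) • v := by
      rw [sub_smul, one_smul]; abel
    rw [this, smul_smul]
    have h1 : ((((δ ^ 2)⁻¹ : Fˣ) : F)) * (δ : F) * (δ : F) = 1 := by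
      rw [mul_assoc, ← pow_two, ← Units.val_pow_eq_pow_val, Units.inv_mul]
    rw [h1, one_smul]
  have hw' : ((c⁻¹ : Fˣ) : F) • ((h : Matrix J J F) *ᵥ w) = ((δ : F) ^ 2) • w := by
    rw [hh, dil_mulVec, hφw, zero_smul, add_zero, hc, inv_inv, Units.val_pow_eq_pow_val]
  rw [top_inf_eq, ← hw', ← map_wt_rb_torus ρ c h w]
  conv_lhs => rw [← hv', ← map_wt_ra_torus ρ c h v]
  rw [← map_rho_inf', finrank_map_rho']

/-- S2 (spare): the symmetry input of the rank-two exclusion for `q ≥ 4` (any `J`). -/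
theorem stage0_hSym_of_four_le (hq : 4 ≤ Fintype.card F) :
    ∀ v w : J → F, LinearIndependent F ![v, w] → ∃ S : Finset (J → F),
      Fintype.card F < S.card ∧ ∀ w' ∈ S,
        finrank ℂ ↥((⊤ : Submodule ℂ M) ⊓ wt ρ (ra (F := F) (J := J)) v ⊓
          wt ρ (rb (F := F) (J := J)) w') =
        finrank ℂ ↥((⊤ : Submodule ℂ M) ⊓ wt ρ (ra (F := F) (J := J)) v ⊓
          wt ρ (rb (F := F) (J := J)) w) := by
  classical
  intro v w hvw
  obtain ⟨δ, hδ⟩ := exists_unit_sq_ne_one hq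
  -- the shift
  have hshift : ∀ (t : F) (w₀ : J → F),
      finrank ℂ ↥((⊤ : Submodule ℂ M) ⊓ wt ρ (ra (F := F) (J := J)) v ⊓
          wt ρ (rb (F := F) (J := J)) (w₀ - t • v)) =
        finrank ℂ ↥((⊤ : Submodule ℂ M) ⊓ wt ρ (ra (F := F) (J := J)) v ⊓
          wt ρ (rb (F := F) (J := J)) w₀) := by
    intro t w₀
    exact (Helper10.SLMin.finrank_shift ρ (rx (F := F) (J := J)) ra rb
      (fun t v => Helper24.SLMin.rx_ra_comm t v) (fun t w => Helper24.SLMin.rx_rb_conj t w) ⊤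
      (fun _ _ _ => Submodule.mem_top) t v w₀).symm
  set κ : Bool → F := fun b => if b then (δ : F) ^ 2 else 1 with hκ
  set f : Bool × F → (J → F) := fun p => κ p.1 • w - p.2 • v with hf
  have hpair := LinearIndependent.pair_iff.mp hvw
  have hκinj : ∀ b b' : Bool, κ b = κ b' → b = b' := by
    intro b b' hbb
    cases b <;> cases b'
    · rfl
    · have h1 : (1 : F) = (δ : F) ^ 2 := hbb
      exact absurd h1.symm hδ
    · have h1 : (δ : F) ^ 2 = 1 := hbb
      exact absurd h1 hδ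
    · rfl
  have hinj : Function.Injective f := by
    rintro ⟨b, s⟩ ⟨b', s'⟩ hEq
    have h0 : (s' - s) • v + (κ b - κ b') • w = 0 := by
      have : κ b • w - s • v = κ b' • w - s' • v := hEq
      rw [sub_smul, sub_smul]
      have h1 : κ b • w - κ b' • w = s • v - s' • v := by
        rw [sub_eq_sub_iff_add_eq_add]
        rw [sub_eq_iff_eq_add] at this
        rw [this]; abel
      rw [h1]; abel
    obtain ⟨h1, h2⟩ := hpair _ _ h0
    have hb : b = b' := hκinj b b' (sub_eq_zero.mp h2)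
    have hs : s = s' := (sub_eq_zero.mp h1).symm
    rw [hb, hs]
  refine ⟨Finset.univ.image f, ?_, ?_⟩
  · rw [Finset.card_image_of_injective _ hinj, Finset.card_univ, Fintype.card_prod,
      Fintype.card_bool]
    have : 0 < Fintype.card F := Fintype.card_pos
    omega
  · intro w' hw'
    obtain ⟨⟨b, s⟩, -, rfl⟩ := Finset.mem_image.mp hw'
    show finrank ℂ ↥((⊤ : Submodule ℂ M) ⊓ wt ρ (ra (F := F) (J := J)) v ⊓
          wt ρ (rb (F := F) (J := J)) (κ b • w - s • v)) = _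
    rw [hshift]
    cases b
    · have h1 : κ false = 1 := rfl
      rw [h1, one_smul]
    · have h1 : κ true = (δ : F) ^ 2 := rfl
      rw [h1]
      exact finrank_torus ρ δ v w hvw

/-- S2 in the shape of the C1 split. -/
theorem stage0_hSym_eq2 (h2 : Fintype.card J = 2) (hq : 4 ≤ Fintype.card F)
    (hm1 : ∀ u : Unit ⊕ J → F, u ≠ 0 →
      finrank ℂ ↥(wt ρ (rad (F := F) (ι' := Unit ⊕ J)) u) = 1) :
    ∀ v w : J → F, LinearIndependent F ![v, w] → ∃ S : Finset (J → F),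
      Fintype.card F < S.card ∧ ∀ w' ∈ S,
        finrank ℂ ↥((⊤ : Submodule ℂ M) ⊓ wt ρ (ra (F := F) (J := J)) v ⊓
          wt ρ (rb (F := F) (J := J)) w') =
        finrank ℂ ↥((⊤ : Submodule ℂ M) ⊓ wt ρ (ra (F := F) (J := J)) v ⊓
          wt ρ (rb (F := F) (J := J)) w) :=
  stage0_hSym_of_four_le ρ hq

end main2

end Cfsg.Agent.Lib.Helper25.SLMin
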