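/-
helper25: the transvection subgroups of `SL ι k` (`|ι| ≥ 3`) form a non-degenerate class of
`k`-root subgroups with connected graph of rank one pairs.
-/
import Mathlib
import Cfsg.Prelude.Def_RootSubgroups
import Cfsg.Agent.Lib.Helper25.SLRoot5
import Cfsg.Agent.Lib.Helper25.RootGraphs

set_option autoImplicit false

namespace Cfsg.Agent.Lib.Helper25.SLRoot

open Cfsg Matrix
open Cfsg.Agent.Lib.Helper25

variable {ι : Type*} [Fintype ι] [DecidableEq ι] {k : Type*} [Field k]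

/-- the trichotomy for two transvection subgroups with centres in the orbit of `e_{i₀}`. -/
theorem rootS_trichotomy {i₀ i₁ : ι} (h01 : i₀ ≠ i₁) (g g' : Matrix.SpecialLinearGroup ι k)
    {φ ψ : ι → k} (hφ : φ ≠ 0) (hψ : ψ ≠ 0)
    (hv : φ ⬝ᵥ ((↑g : Matrix ι ι k) *ᵥ bv i₀) = 0)
    (hw : ψ ⬝ᵥ ((↑g' : Matrix ι ι k) *ᵥ bv i₀) = 0) :
    ⁅TV ((↑g : Matrix ι ι k) *ᵥ bv i₀) φ hv, TV ((↑g' : Matrix ι ι k) *ᵥ bv i₀) ψ hw⁆ = ⊥ ∨
    (IsRankOnePair (TV ((↑g : Matrix ι ι k) *ᵥ bv i₀) φ hv)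
        (TV ((↑g' : Matrix ι ι k) *ᵥ bv i₀) ψ hw) ∧
      IsPSL2PairOver k (TV ((↑g : Matrix ι ι k) *ᵥ bv i₀) φ hv)
        (TV ((↑g' : Matrix ι ι k) *ᵥ bv i₀) ψ hw)) ∨
    RootCommutatorCase (rootS i₀ i₁ h01) (TV ((↑g : Matrix ι ι k) *ᵥ bv i₀) φ hv)
      (TV ((↑g' : Matrix ι ι k) *ᵥ bv i₀) ψ hw) := by
  have hv0 : (↑g : Matrix ι ι k) *ᵥ bv i₀ ≠ 0 := mulVec_ne_zero' g (bv_ne_zero i₀)
  have hw0 : (↑g' : Matrix ι ι k) *ᵥ bv i₀ ≠ 0 := mulVec_ne_zero' g' (bv_ne_zero i₀)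
  by_cases h1 : φ ⬝ᵥ ((↑g' : Matrix ι ι k) *ᵥ bv i₀) = 0
  · by_cases h2 : ψ ⬝ᵥ ((↑g : Matrix ι ι k) *ᵥ bv i₀) = 0
    · exact Or.inl (commutator_eq_bot_of hv hw h1 h2)
    · refine Or.inr (Or.inr (rootCommutatorCase_symm ?_))
      exact commCase_of hw hv hw0 hψ hv0 hφ h2 h1 (TV_mem_rootS h01 g' hφ h1)
  · by_cases h2 : ψ ⬝ᵥ ((↑g : Matrix ι ι k) *ᵥ bv i₀) = 0
    · exact Or.inr (Or.inr (commCase_of hv hw hv0 hφ hw0 hψ h1 h2 (TV_mem_rootS h01 g hψ h2)))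
    · exact Or.inr (Or.inl ⟨rankOnePair_of hv hw hv0 hφ hw0 hψ h1 h2, psl2Pair_of hv hw h1 h2⟩)

theorem rootU_mem_rootS {i₀ i₁ : ι} (h01 : i₀ ≠ i₁) :
    rootU (k := k) i₀ i₁ h01 ∈ rootS i₀ i₁ h01 :=
  ⟨1, (conjBy_one _).symm⟩

theorem rootS_isRootSubgroupSet {i₀ i₁ : ι} (h01 : i₀ ≠ i₁) :
    IsRootSubgroupSet (rootS (k := k) i₀ i₁ h01) := by
  haveI : Nontrivial ι := ⟨⟨i₀, i₁, h01⟩⟩
  refine ⟨?_, ?_, ?_, ?_, ?_⟩
  · intro A hA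
    obtain ⟨g, ψ, h, hψ, rfl⟩ := (mem_rootS_iff h01).1 hA
    exact TV_comm h
  · intro A hA
    obtain ⟨g, ψ, h, hψ, rfl⟩ := (mem_rootS_iff h01).1 hA
    exact TV_ne_bot h (mulVec_ne_zero' g (bv_ne_zero i₀)) hψ
  · rw [eq_top_iff]
    intro x _
    refine Cfsg.Agent.Lib.Helper2.sl_transvection_induction
      (fun x => x ∈ ⨆ A ∈ rootS (k := k) i₀ i₁ h01, A) ?_ (fun a b ha hb => mul_mem ha hb) x
    intro i j hij c
    have hmem : Matrix.SpecialLinearGroup.transvection hij c ∈ TV (bv i) (bv j) (bv_dot_bv hij) := by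
      rw [mem_TV]
      refine ⟨c, ?_⟩
      apply Subtype.ext
      rw [tvSL_coe, tvMat_bv]
      rfl
    exact (le_iSup₂ (f := fun (A : Subgroup (Matrix.SpecialLinearGroup ι k))
      (_ : A ∈ rootS (k := k) i₀ i₁ h01) => A) _ (TV_bv_mem_rootS h01 hij)) hmem
  · rintro A ⟨g, rfl⟩ x
    exact ⟨x * g, (conjBy_mul _ x g).symm⟩
  · intro A hA B hB
    obtain ⟨g, φ, hv, hφ, rfl⟩ := (mem_rootS_iff h01).1 hA
    obtain ⟨g', ψ, hw, hψ, rfl⟩ := (mem_rootS_iff h01).1 hB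
    rcases rootS_trichotomy h01 g g' hφ hψ hv hw with h | h | h
    · exact Or.inl h
    · exact Or.inr (Or.inl h.1)
    · exact Or.inr (Or.inr h)

theorem rootS_conjClass {i₀ i₁ : ι} (h01 : i₀ ≠ i₁) :
    IsConjClassOfSubgroups (rootS (k := k) i₀ i₁ h01) := by
  refine ⟨⟨_, rootU_mem_rootS h01⟩, ?_⟩
  rintro A ⟨g₁, rfl⟩ B ⟨g₂, rfl⟩
  refine ⟨g₂ * g₁⁻¹, ?_⟩
  rw [← conjBy_mul, inv_mul_cancel_right]

theorem rootS_class {i₀ i₁ : ι} (h01 : i₀ ≠ i₁) :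
    IsRootSubgroupClass (rootS (k := k) i₀ i₁ h01) :=
  ⟨rootS_isRootSubgroupSet h01, rootS_conjClass h01⟩

theorem rootS_kroot {i₀ i₁ : ι} (h01 : i₀ ≠ i₁) :
    IsKRootSubgroupSet k (rootS (k := k) i₀ i₁ h01) := by
  refine ⟨rootS_isRootSubgroupSet h01, ?_⟩
  intro A hA B hB hAB
  obtain ⟨g, φ, hv, hφ, rfl⟩ := (mem_rootS_iff h01).1 hA
  obtain ⟨g', ψ, hw, hψ, rfl⟩ := (mem_rootS_iff h01).1 hB
  rcases rootS_trichotomy h01 g g' hφ hψ hv hw with h | h | h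
  · exact absurd h (rankOne_commutator_ne_bot hAB)
  · exact h.2
  · exact absurd h (rankOne_not_commutatorCase hAB)

theorem rootS_rankOne_example {i₀ i₁ : ι} (h01 : i₀ ≠ i₁) :
    IsRankOnePair (TV (bv i₀) (bv i₁) (bv_dot_bv h01) : Subgroup (Matrix.SpecialLinearGroup ι k))
      (TV (bv i₁) (bv i₀) (bv_dot_bv h01.symm)) := by
  apply rankOnePair_of _ _ (bv_ne_zero _) (bv_ne_zero _) (bv_ne_zero _) (bv_ne_zero _)
  · rw [bv_dot_bv_self]; exact one_ne_zero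
  · rw [bv_dot_bv_self]; exact one_ne_zero

theorem rootS_nondegenerate {i₀ i₁ i₂ : ι} (h01 : i₀ ≠ i₁) (h02 : i₀ ≠ i₂) (h12 : i₁ ≠ i₂) :
    IsNondegenerateRootSet (rootS (k := k) i₀ i₁ h01) := by
  refine ⟨?_, ?_, ?_⟩
  · refine ⟨_, TV_bv_mem_rootS h01 h01, _, TV_bv_mem_rootS h01 h02, ?_, ?_⟩
    · intro e
      have hmem : tvSL (bv i₀) (bv i₁) (bv_dot_bv h01) (1 : k) ∈
          TV (bv i₀) (bv i₂) (bv_dot_bv h02) := e ▸ tvSL_mem _ 1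
      obtain ⟨c, hc⟩ := mem_TV.1 hmem
      have h3 : (↑(tvSL (bv i₀) (bv i₂) (bv_dot_bv h02) c) : Matrix ι ι k) *ᵥ bv i₁ =
          (↑(tvSL (bv i₀) (bv i₁) (bv_dot_bv h01) (1 : k)) : Matrix ι ι k) *ᵥ bv i₁ := by
        rw [hc]
      rw [tvSL_mulVec, tvSL_mulVec, bv_dot_bv h12, bv_dot_bv_self, mul_zero, zero_smul,
        mul_one, one_smul, add_zero, left_eq_add] at h3
      exact bv_ne_zero i₀ h3
    · apply commutator_eq_bot_of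
      · exact bv_dot_bv h01
      · exact bv_dot_bv h02
  · exact ⟨_, TV_bv_mem_rootS h01 h01, _, TV_bv_mem_rootS h01 h01.symm,
      rootS_rankOne_example h01⟩
  · refine ⟨_, TV_bv_mem_rootS h01 h01, _, TV_bv_mem_rootS h01 h12, ?_⟩
    apply commCase_of _ _ (bv_ne_zero _) (bv_ne_zero _) (bv_ne_zero _) (bv_ne_zero _)
    · rw [bv_dot_bv_self]; exact one_ne_zero
    · exact TV_bv_mem_rootS h01 h02

theorem rootS_connected {i₀ i₁ : ι} (h01 : i₀ ≠ i₁) :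
    IsConnectedFamily (FAdj (rootS (k := k) i₀ i₁ h01)) (rootS (k := k) i₀ i₁ h01) :=
  class_connected (rootS_isRootSubgroupSet h01) (rootS_conjClass h01)
    ⟨_, TV_bv_mem_rootS h01 h01, _, TV_bv_mem_rootS h01 h01.symm, rootS_rankOne_example h01⟩

/-- the main theorem. -/
theorem rootS_main {i₀ i₁ i₂ : ι} (h01 : i₀ ≠ i₁) (h02 : i₀ ≠ i₂) (h12 : i₁ ≠ i₂) :
    IsRootSubgroupClass (rootS (k := k) i₀ i₁ h01) ∧
    IsNondegenerateRootSet (rootS (k := k) i₀ i₁ h01) ∧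
    IsKRootSubgroupSet k (rootS (k := k) i₀ i₁ h01) ∧
    IsConnectedFamily (FAdj (rootS (k := k) i₀ i₁ h01)) (rootS (k := k) i₀ i₁ h01) :=
  ⟨rootS_class h01, rootS_nondegenerate h01 h02 h12, rootS_kroot h01, rootS_connected h01⟩

end Cfsg.Agent.Lib.Helper25.SLRoot
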