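/-
helper25: the transvections of `SL ι k`, `k` a finite field of characteristic 2, `|ι| ≥ 3`, form a
class of root involutions; over the field with two elements they are `{3,4}⁺`-transpositions.
-/
import Mathlib
import Cfsg.Prelude.Def_RootSubgroups
import Cfsg.Agent.Lib.Helper25.SLRoot5
import Cfsg.Agent.Lib.Helper25.SL2Odd

set_option autoImplicit false

namespace Cfsg.Agent.Lib.Helper25.SLRoot

open Cfsg Matrix
open Cfsg.Agent.Lib.Helper25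

variable {ι : Type*} [Fintype ι] [DecidableEq ι] {k : Type*} [Field k]

/-- the set of transvections (conjugates of `1 + c E_{i₀ i₁}`, `c ≠ 0`). -/
def tvD (i₀ i₁ : ι) : Set (Matrix.SpecialLinearGroup ι k) :=
  {t | ∃ c : k, c ≠ 0 ∧ ∃ g : Matrix.SpecialLinearGroup ι k,
    ((g⁻¹ * t * g : Matrix.SpecialLinearGroup ι k) : Matrix ι ι k) = Matrix.transvection i₀ i₁ c}

theorem mem_tvD_iff {i₀ i₁ : ι} (h01 : i₀ ≠ i₁) {t : Matrix.SpecialLinearGroup ι k} :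
    t ∈ tvD i₀ i₁ ↔ ∃ (g : Matrix.SpecialLinearGroup ι k) (c : k), c ≠ 0 ∧
      t = tvSL ((↑g : Matrix ι ι k) *ᵥ bv i₀) ((bv i₁ : ι → k) ᵥ* (↑(g⁻¹) : Matrix ι ι k))
        (conj_dot (bv_dot_bv h01) g) c := by
  constructor
  · rintro ⟨c, hc, g, hg⟩
    refine ⟨g, c, hc, ?_⟩
    have h1 : g⁻¹ * t * g = tvSL (bv i₀) (bv i₁) (bv_dot_bv h01) c := by
      apply Subtype.ext
      rw [hg, tvSL_coe, tvMat_bv]
    rw [← conj_tvSL (bv_dot_bv h01) g c, ← h1]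
    group
  · rintro ⟨g, c, hc, rfl⟩
    refine ⟨c, hc, g, ?_⟩
    rw [← conj_tvSL (bv_dot_bv h01) g c]
    have : g⁻¹ * (g * tvSL (bv i₀) (bv i₁) (bv_dot_bv h01) c * g⁻¹) * g =
        tvSL (bv i₀) (bv i₁) (bv_dot_bv h01) c := by group
    rw [this, tvSL_coe, tvMat_bv]

/-- every transvection with centre in the orbit of `e_{i₀}` is in the class. -/
theorem tvSL_mem_tvD {i₀ i₁ : ι} (h01 : i₀ ≠ i₁) (g : Matrix.SpecialLinearGroup ι k)
    {ψ : ι → k} (hψ : ψ ≠ 0) (h : ψ ⬝ᵥ ((↑g : Matrix ι ι k) *ᵥ bv i₀) = 0) {r : k} (hr : r ≠ 0) :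
    tvSL ((↑g : Matrix ι ι k) *ᵥ bv i₀) ψ h r ∈ tvD i₀ i₁ := by
  have hρ : ψ ᵥ* (↑g : Matrix ι ι k) ≠ 0 := vecMul_ne_zero' g hψ
  have hρ0 : (ψ ᵥ* (↑g : Matrix ι ι k)) i₀ = 0 := by
    have e : (ψ ᵥ* (↑g : Matrix ι ι k)) i₀ = (ψ ᵥ* (↑g : Matrix ι ι k)) ⬝ᵥ bv i₀ :=
      (dot_bv _ _).symm
    rw [e, ← dotProduct_mulVec]
    exact h
  obtain ⟨u, hu, c, hc, hρu⟩ := exists_stab_adjust h01 hρ hρ0
  rw [mem_tvD_iff h01]
  refine ⟨g * u, r * c, mul_ne_zero hr hc, ?_⟩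
  have e1 : (↑(g * u) : Matrix ι ι k) *ᵥ bv i₀ = (↑g : Matrix ι ι k) *ᵥ bv i₀ := by
    rw [Matrix.SpecialLinearGroup.coe_mul, ← mulVec_mulVec, hu]
  have e2 : (bv i₁ : ι → k) ᵥ* (↑((g * u)⁻¹) : Matrix ι ι k) = c⁻¹ • ψ := by
    have h3 : (bv i₁ : ι → k) = c⁻¹ • (ψ ᵥ* (↑g : Matrix ι ι k) ᵥ* (↑u : Matrix ι ι k)) := by
      rw [hρu, smul_smul, inv_mul_cancel₀ hc, one_smul]
    rw [_root_.mul_inv_rev, Matrix.SpecialLinearGroup.coe_mul, ← vecMul_vecMul]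
    conv_lhs => rw [h3]
    rw [smul_vecMul, vecMul_vecMul _ (↑u : Matrix ι ι k), coe_mul_coe_inv, vecMul_one,
      smul_vecMul, vecMul_vecMul, coe_mul_coe_inv, vecMul_one]
  apply Subtype.ext
  rw [tvSL_coe, tvSL_coe, e1, e2, vecMulVec_smul, smul_smul, mul_assoc, mul_inv_cancel₀ hc,
    mul_one]

theorem tvD_conj_mem {i₀ i₁ : ι} {d : Matrix.SpecialLinearGroup ι k} (hd : d ∈ tvD i₀ i₁)
    (x : Matrix.SpecialLinearGroup ι k) : x * d * x⁻¹ ∈ tvD i₀ i₁ := by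
  obtain ⟨c, hc, g, hg⟩ := hd
  refine ⟨c, hc, x * g, ?_⟩
  have : (x * g)⁻¹ * (x * d * x⁻¹) * (x * g) = g⁻¹ * d * g := by group
  rw [this, hg]

theorem transvection_mem_tvD {i₀ i₁ : ι} (h01 : i₀ ≠ i₁) {i j : ι} (hij : i ≠ j) {c : k}
    (hc : c ≠ 0) : Matrix.SpecialLinearGroup.transvection hij c ∈ tvD (k := k) i₀ i₁ := by
  obtain ⟨g, hg⟩ := exists_map_bv (k := k) i₀ i
  have h : (bv j : ι → k) ⬝ᵥ ((↑g : Matrix ι ι k) *ᵥ bv i₀) = 0 := by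
    rw [hg]; exact bv_dot_bv hij
  have hmem := tvSL_mem_tvD h01 g (bv_ne_zero j) h hc
  have e : Matrix.SpecialLinearGroup.transvection hij c =
      tvSL ((↑g : Matrix ι ι k) *ᵥ bv i₀) (bv j) h c := by
    apply Subtype.ext
    rw [tvSL_coe, hg, tvMat_bv]
    rfl
  rw [e]
  exact hmem

theorem tvD_generates {i₀ i₁ : ι} (h01 : i₀ ≠ i₁) :
    Subgroup.closure (tvD (k := k) i₀ i₁) = ⊤ := by
  haveI : Nontrivial ι := ⟨⟨i₀, i₁, h01⟩⟩
  rw [eq_top_iff]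
  intro x _
  refine Cfsg.Agent.Lib.Helper2.sl_transvection_induction
    (fun x => x ∈ Subgroup.closure (tvD (k := k) i₀ i₁)) ?_ (fun a b ha hb => mul_mem ha hb) x
  intro i j hij c
  by_cases hc : c = 0
  · subst hc
    rw [Matrix.SpecialLinearGroup.transvection_coeff_zero]
    exact one_mem _
  · exact Subgroup.subset_closure (transvection_mem_tvD h01 hij hc)

/-- the elementary transvections `1 + c E_{i₀ i₁}`, `c ≠ 0`, are all conjugate (third index). -/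
theorem tvSL_bv_conj {i₀ i₁ i₂ : ι} (h01 : i₀ ≠ i₁) (h02 : i₀ ≠ i₂) (h12 : i₁ ≠ i₂) {c₁ c₂ : k}
    (hc₁ : c₁ ≠ 0) (hc₂ : c₂ ≠ 0) :
    ∃ y : Matrix.SpecialLinearGroup ι k,
      y * tvSL (bv i₀) (bv i₁) (bv_dot_bv h01) c₁ * y⁻¹ =
        tvSL (bv i₀) (bv i₁) (bv_dot_bv h01) c₂ := by
  have ha : c₂ / c₁ ≠ 0 := div_ne_zero hc₂ hc₁
  refine ⟨Matrix.SpecialLinearGroup.diag2n h02 (c₂ / c₁) ha, ?_⟩
  rw [conj_tvSL]
  have e1 : (↑(Matrix.SpecialLinearGroup.diag2n h02 (c₂ / c₁) ha) : Matrix ι ι k) *ᵥ bv i₀ =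
      (c₂ / c₁) • bv i₀ := by
    rw [Matrix.SpecialLinearGroup.diag2n_coe]
    unfold bv
    rw [diagonal_mulVec_single, if_pos rfl, mul_one]
    ext x
    by_cases hx : x = i₀
    · subst hx
      simp only [Pi.single_eq_same, Pi.smul_apply, smul_eq_mul, mul_one]
    · simp only [Pi.single_eq_of_ne hx, Pi.smul_apply, smul_eq_mul, mul_zero]
  have e2' : (bv i₁ : ι → k) ᵥ*
      (↑(Matrix.SpecialLinearGroup.diag2n h02 (c₂ / c₁) ha) : Matrix ι ι k) = bv i₁ := by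
    rw [Matrix.SpecialLinearGroup.diag2n_coe]
    ext x
    rw [vecMul_diagonal]
    by_cases hx : x = i₁
    · subst hx
      rw [if_neg h01.symm, if_neg h12, mul_one]
    · rw [bv_ne (Ne.symm hx), zero_mul]
  have e2 : (bv i₁ : ι → k) ᵥ*
      (↑((Matrix.SpecialLinearGroup.diag2n h02 (c₂ / c₁) ha)⁻¹) : Matrix ι ι k) = bv i₁ := by
    conv_lhs => rw [← e2']
    rw [vecMul_vecMul, coe_mul_coe_inv, vecMul_one]
  apply Subtype.ext
  rw [tvSL_coe, tvSL_coe, e1, e2, smul_vecMulVec, smul_smul, mul_div_cancel₀ _ hc₁]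

theorem sq_mul_of_invol {G : Type*} [Group G] {a b : G} (ha : a * a = 1) (hb : b * b = 1) :
    (a * b) ^ 2 = a * b * a⁻¹ * b⁻¹ := by
  have ha' : a⁻¹ = a := inv_eq_of_mul_eq_one_right ha
  have hb' : b⁻¹ = b := inv_eq_of_mul_eq_one_right hb
  rw [ha', hb', pow_two, mul_assoc, mul_assoc, mul_assoc]

section char2

variable [CharP k 2]

theorem tvSL_sq {v φ : ι → k} (h : φ ⬝ᵥ v = 0) (c : k) : tvSL v φ h c * tvSL v φ h c = 1 := by
  rw [tvSL_mul, CharTwo.add_self_eq_zero, tvSL_zero]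

theorem tvSL_inv_self {v φ : ι → k} (h : φ ⬝ᵥ v = 0) (c : k) : (tvSL v φ h c)⁻¹ = tvSL v φ h c := by
  rw [inv_eq_iff_mul_eq_one, tvSL_sq]

theorem tvSL_orderOf {v φ : ι → k} (h : φ ⬝ᵥ v = 0) (hv : v ≠ 0) (hφ : φ ≠ 0) {c : k}
    (hc : c ≠ 0) : orderOf (tvSL v φ h c) = 2 := by
  haveI : Fact (Nat.Prime 2) := ⟨Nat.prime_two⟩
  apply orderOf_eq_prime
  · rw [pow_two, tvSL_sq]
  · intro e
    exact hc ((tvSL_eq_one_iff h hv hφ).1 e)

theorem tvD_orderOf {i₀ i₁ : ι} (h01 : i₀ ≠ i₁) {d : Matrix.SpecialLinearGroup ι k}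
    (hd : d ∈ tvD i₀ i₁) : orderOf d = 2 := by
  obtain ⟨g, c, hc, rfl⟩ := (mem_tvD_iff h01).1 hd
  exact tvSL_orderOf _ (mulVec_ne_zero' g (bv_ne_zero i₀)) (vecMul_ne_zero' _ (bv_ne_zero i₁)) hc

/-- the rank one case: the product is the image of an element of `SL₂` with nonzero trace. -/
theorem tvSL_mul_eq_emb {v φ w ψ : ι → k} (hv : φ ⬝ᵥ v = 0) (hw : ψ ⬝ᵥ w = 0)
    (h1 : φ ⬝ᵥ w ≠ 0) (h2 : ψ ⬝ᵥ v ≠ 0) (s t : k) :
    ∃ x : Matrix.SpecialLinearGroup (Fin 2) k,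
      (↑x : Matrix (Fin 2) (Fin 2) k) 0 0 + (↑x : Matrix (Fin 2) (Fin 2) k) 1 1 =
        s * (φ ⬝ᵥ w) * (t * (ψ ⬝ᵥ v)) ∧
      tvSL v φ hv s * tvSL w ψ hw t =
        embSL (pairP v w) (pairQ v φ w ψ) (pairQ_mul_pairP hv hw h1 h2) x := by
  have hdetU : (!![1, s * (φ ⬝ᵥ w); 0, 1] : Matrix (Fin 2) (Fin 2) k).det = 1 := by
    simp [Matrix.det_fin_two]
  have hdetL : (!![1, 0; t * (ψ ⬝ᵥ v), 1] : Matrix (Fin 2) (Fin 2) k).det = 1 := by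
    simp [Matrix.det_fin_two]
  set U : Matrix.SpecialLinearGroup (Fin 2) k := ⟨!![1, s * (φ ⬝ᵥ w); 0, 1], hdetU⟩ with hUdef
  set L : Matrix.SpecialLinearGroup (Fin 2) k := ⟨!![1, 0; t * (ψ ⬝ᵥ v), 1], hdetL⟩ with hLdef
  have hUc : (↑U : Matrix (Fin 2) (Fin 2) k) = !![1, s * (φ ⬝ᵥ w); 0, 1] := rfl
  have hLc : (↑L : Matrix (Fin 2) (Fin 2) k) = !![1, 0; t * (ψ ⬝ᵥ v), 1] := rfl
  have hU : tvSL v φ hv s =
      embSL (pairP v w) (pairQ v φ w ψ) (pairQ_mul_pairP hv hw h1 h2) U := by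
    apply Subtype.ext
    have hc : (!![1, s * (φ ⬝ᵥ w); 0, 1] : Matrix (Fin 2) (Fin 2) k) 0 1 * (φ ⬝ᵥ w)⁻¹ = s := by
      show s * (φ ⬝ᵥ w) * (φ ⬝ᵥ w)⁻¹ = s
      rw [mul_assoc, mul_inv_cancel₀ h1, mul_one]
    have e := emb_upper (v := v) (φ := φ) (w := w) (ψ := ψ)
      (!![1, s * (φ ⬝ᵥ w); 0, 1] : Matrix (Fin 2) (Fin 2) k) rfl rfl rfl
    rw [hc] at e
    rw [tvSL_coe, ← e, embSL_coe, hUc]
  have hL : tvSL w ψ hw t =
      embSL (pairP v w) (pairQ v φ w ψ) (pairQ_mul_pairP hv hw h1 h2) L := by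
    apply Subtype.ext
    have hc : (!![1, 0; t * (ψ ⬝ᵥ v), 1] : Matrix (Fin 2) (Fin 2) k) 1 0 * (ψ ⬝ᵥ v)⁻¹ = t := by
      show t * (ψ ⬝ᵥ v) * (ψ ⬝ᵥ v)⁻¹ = t
      rw [mul_assoc, mul_inv_cancel₀ h2, mul_one]
    have e := emb_lower (v := v) (φ := φ) (w := w) (ψ := ψ)
      (!![1, 0; t * (ψ ⬝ᵥ v), 1] : Matrix (Fin 2) (Fin 2) k) rfl rfl rfl
    rw [hc] at e
    rw [tvSL_coe, ← e, embSL_coe, hLc]
  refine ⟨U * L, ?_, ?_⟩
  · rw [Matrix.SpecialLinearGroup.coe_mul, hUc, hLc]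
    simp only [Matrix.mul_apply, Fin.sum_univ_two, Matrix.of_apply, Matrix.cons_val',
      Matrix.cons_val_zero, Matrix.cons_val_one, Matrix.cons_val_fin_one]
    have h2' : (1 : k) + 1 = 0 := CharTwo.add_self_eq_zero 1
    linear_combination h2'
  · rw [map_mul, ← hU, ← hL]

variable [Finite k]

/-- the trichotomy for two transvections. -/
theorem tvD_pair {i₀ i₁ : ι} (h01 : i₀ ≠ i₁) {a b : Matrix.SpecialLinearGroup ι k}
    (ha : a ∈ tvD i₀ i₁) (hb : b ∈ tvD i₀ i₁) :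
    a * b = b * a ∨ (Odd (orderOf (a * b)) ∧ (Nat.card k = 2 → (a * b) ^ 3 = 1)) ∨
      (orderOf (a * b) = 4 ∧ (a * b) ^ 2 ∈ tvD i₀ i₁) := by
  obtain ⟨g, s, hs, rfl⟩ := (mem_tvD_iff h01).1 ha
  obtain ⟨g', t, ht, rfl⟩ := (mem_tvD_iff h01).1 hb
  set v := (↑g : Matrix ι ι k) *ᵥ bv i₀ with hvdef
  set w := (↑g' : Matrix ι ι k) *ᵥ bv i₀ with hwdef
  set φ := (bv i₁ : ι → k) ᵥ* (↑(g⁻¹) : Matrix ι ι k) with hφdef
  set ψ := (bv i₁ : ι → k) ᵥ* (↑(g'⁻¹) : Matrix ι ι k) with hψdef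
  have hv : φ ⬝ᵥ v = 0 := conj_dot (bv_dot_bv h01) g
  have hw : ψ ⬝ᵥ w = 0 := conj_dot (bv_dot_bv h01) g'
  have hv0 : v ≠ 0 := mulVec_ne_zero' g (bv_ne_zero i₀)
  have hw0 : w ≠ 0 := mulVec_ne_zero' g' (bv_ne_zero i₀)
  have hφ0 : φ ≠ 0 := vecMul_ne_zero' _ (bv_ne_zero i₁)
  have hψ0 : ψ ≠ 0 := vecMul_ne_zero' _ (bv_ne_zero i₁)
  haveI : Fact (Nat.Prime 2) := ⟨Nat.prime_two⟩
  -- order 4 from a square in `tvD`
  have key4 : ∀ x : Matrix.SpecialLinearGroup ι k, x ^ 2 ∈ tvD i₀ i₁ → orderOf x = 4 := by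
    intro x hx
    have h2 := tvD_orderOf h01 hx
    have h4 : orderOf x = 2 ^ (1 + 1) := by
      apply orderOf_eq_prime_pow
      · rw [pow_one]
        intro e
        rw [e, orderOf_one] at h2
        exact absurd h2 (by norm_num)
      · have h5 : (x ^ 2) ^ 2 = 1 := by
          have := pow_orderOf_eq_one (x ^ 2)
          rwa [h2] at this
        have : x ^ 2 ^ (1 + 1) = (x ^ 2) ^ 2 := by
          rw [← pow_mul]
          norm_num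
        rw [this, h5]
    rw [h4]
    norm_num
  by_cases h1 : φ ⬝ᵥ w = 0
  · by_cases h2 : ψ ⬝ᵥ v = 0
    · exact Or.inl (tvSL_commute hv hw h1 h2 s t)
    · -- commutator case, `⁅b, a⁆` is a transvection
      right; right
      have hsq : (tvSL v φ hv s * tvSL w ψ hw t) ^ 2 = tvSL w φ h1 (-(t * s * (ψ ⬝ᵥ v))) := by
        have hc := tvSL_commutatorElement hw hv h1 t s
        rw [← tvSL_inv, ← hc, sq_mul_of_invol (tvSL_sq hv s) (tvSL_sq hw t)]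
        group
      have hmem : (tvSL v φ hv s * tvSL w ψ hw t) ^ 2 ∈ tvD i₀ i₁ := by
        rw [hsq]
        exact tvSL_mem_tvD h01 g' hφ0 h1 (neg_ne_zero.2 (mul_ne_zero (mul_ne_zero ht hs) h2))
      exact ⟨key4 _ hmem, hmem⟩
  · by_cases h2 : ψ ⬝ᵥ v = 0
    · right; right
      have hsq : (tvSL v φ hv s * tvSL w ψ hw t) ^ 2 = tvSL v ψ h2 (s * t * (φ ⬝ᵥ w)) := by
        have hc := tvSL_commutatorElement hv hw h2 s t
        rw [← hc, sq_mul_of_invol (tvSL_sq hv s) (tvSL_sq hw t)]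
      have hmem : (tvSL v φ hv s * tvSL w ψ hw t) ^ 2 ∈ tvD i₀ i₁ := by
        rw [hsq]
        exact tvSL_mem_tvD h01 g hψ0 h2 (mul_ne_zero (mul_ne_zero hs ht) h1)
      exact ⟨key4 _ hmem, hmem⟩
    · -- rank one case
      right; left
      obtain ⟨x, hxtr, hx⟩ := tvSL_mul_eq_emb hv hw h1 h2 s t
      have hinj := embSL_injective (pairP v w) (pairQ v φ w ψ) (pairQ_mul_pairP hv hw h1 h2)
      have htr0 : s * (φ ⬝ᵥ w) * (t * (ψ ⬝ᵥ v)) ≠ 0 :=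
        mul_ne_zero (mul_ne_zero hs h1) (mul_ne_zero ht h2)
      constructor
      · rw [hx, orderOf_injective _ hinj]
        apply sl2_odd_order x (isOfFinOrder_of_finite x)
        rw [hxtr]
        exact htr0
      · intro hcard
        have hone : ∀ c : k, c ≠ 0 → c = 1 := by
          intro c hc
          haveI : Fintype k := Fintype.ofFinite k
          classical
          have hcu : Fintype.card kˣ = 1 := by
            rw [Fintype.card_units, ← Nat.card_eq_fintype_card, hcard]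
          have hsub : Subsingleton kˣ := Fintype.card_le_one_iff_subsingleton.1 hcu.le
          have := congrArg Units.val (Subsingleton.elim (Units.mk0 c hc) 1)
          exact this
        rw [hx, ← map_pow, sl2_cube_eq_one x, map_one]
        rw [hxtr]
        exact hone _ htr0

theorem tvD_isRootInvolutionSet {i₀ i₁ : ι} (h01 : i₀ ≠ i₁) :
    IsRootInvolutionSet (tvD (k := k) i₀ i₁) := by
  refine ⟨fun d hd => tvD_orderOf h01 hd, tvD_generates h01, fun d hd g => tvD_conj_mem hd g, ?_⟩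
  intro a ha b hb
  rcases tvD_pair h01 ha hb with h | h | h
  · exact Or.inl h
  · exact Or.inr (Or.inl h.1)
  · exact Or.inr (Or.inr h)

theorem tvD_class {i₀ i₁ i₂ : ι} (h01 : i₀ ≠ i₁) (h02 : i₀ ≠ i₂) (h12 : i₁ ≠ i₂) :
    IsRootInvolutionClass (tvD (k := k) i₀ i₁) := by
  refine ⟨tvD_isRootInvolutionSet h01, ⟨_, transvection_mem_tvD h01 h01 one_ne_zero⟩, ?_⟩
  rintro a ⟨c₁, hc₁, g₁, hg₁⟩ b ⟨c₂, hc₂, g₂, hg₂⟩
  have h1 : g₁⁻¹ * a * g₁ = tvSL (bv i₀) (bv i₁) (bv_dot_bv h01) c₁ := by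
    apply Subtype.ext
    rw [hg₁, tvSL_coe, tvMat_bv]
  have h2 : g₂⁻¹ * b * g₂ = tvSL (bv i₀) (bv i₁) (bv_dot_bv h01) c₂ := by
    apply Subtype.ext
    rw [hg₂, tvSL_coe, tvMat_bv]
  obtain ⟨y, hy⟩ := tvSL_bv_conj h01 h02 h12 hc₁ hc₂
  rw [← hy, ← h1] at h2
  refine ⟨g₂ * y * g₁⁻¹, ?_⟩
  have : b = g₂ * (g₂⁻¹ * b * g₂) * g₂⁻¹ := by group
  rw [this, h2]
  group

theorem tvD_threeFour {i₀ i₁ : ι} (h01 : i₀ ≠ i₁) (hcard : Nat.card k = 2) :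
    IsThreeFourPlusTranspositionSet (tvD (k := k) i₀ i₁) := by
  refine ⟨tvD_isRootInvolutionSet h01, ?_⟩
  intro a ha b hb hodd
  rcases tvD_pair h01 ha hb with h | h | h
  · left
    have ha2 : a ^ 2 = 1 := by
      have := pow_orderOf_eq_one a
      rwa [tvD_orderOf h01 ha] at this
    have hb2 : b ^ 2 = 1 := by
      have := pow_orderOf_eq_one b
      rwa [tvD_orderOf h01 hb] at this
    have h2 : (a * b) ^ 2 = 1 := by
      rw [(Commute.mul_pow h 2 : (a * b) ^ 2 = a ^ 2 * b ^ 2), ha2, hb2, one_mul]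
    have hdvd : orderOf (a * b) ∣ 2 := orderOf_dvd_of_pow_eq_one h2
    rcases (Nat.dvd_prime Nat.prime_two).1 hdvd with h3 | h3
    · exact h3
    · rw [h3] at hodd
      exact absurd hodd (by decide)
  · have hdvd : orderOf (a * b) ∣ 3 := orderOf_dvd_of_pow_eq_one (h.2 hcard)
    exact (Nat.dvd_prime Nat.prime_three).1 hdvd
  · rw [h.1] at hodd
    exact absurd hodd (by decide)

end char2

end Cfsg.Agent.Lib.Helper25.SLRoot
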