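import Cfsg.Agent.Lib.Helper18.SPDec
import Cfsg.Agent.Lib.Helper18.SPHom

/-! S3713 leaf GDEC (helper25): `GJ (insert o J)` is the union of the three double cosets `Ph`, `Ph y Ph`, `Ph n Ph`
of the point stabiliser `Ph = PhJ (insert o J) o`; generation of `GJ (insert o J)` by `PJ` and `S_o`. -/

set_option autoImplicit false

namespace Cfsg.Agent.Lib.Helper25.SPGDEC

open Matrix Cfsg.Agent.Lib.Helper18.SP Cfsg.Agent.Lib.Helper5 Cfsg.Agent.Lib.Helper14.SpPerfect

variable {F : Type*} [Field F] {n : ℕ}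

theorem yE_mem_GJ (o p : Fin n) : yE n F o p ∈ GJ n F {o, p} :=
  E_mem_GJ (fV_mem_VJ (Set.mem_insert o {p})) (eV_mem_VJ (Set.mem_insert_of_mem o rfl))

theorem yE_eV {o p : Fin n} (hop : o ≠ p) : act (yE n F o p) (eV n F o) = eV n F o - eV n F p := by
  have h : ω n F (fV n F o) (eV n F p) = 0 := by rw [ω_fV_eV, if_neg hop.symm]
  unfold yE
  rw [act_E _ _ _ h, ω_eV_fV, if_pos rfl, ω_eV_eV]
  module

theorem yE_not_mem_PhJ (K : Set (Fin n)) {o p : Fin n} (hop : o ≠ p) : yE n F o p ∉ PhJ n F K o := by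
  rintro ⟨-, α, -, h⟩
  rw [yE_eV hop] at h
  have := congrFun h (Sum.inl p)
  simp only [Pi.sub_apply, Pi.smul_apply, smul_eq_mul, eV_inl, if_neg hop.symm, if_pos, mul_zero,
    zero_sub] at this
  exact one_ne_zero (neg_eq_zero.mp this)

theorem yE_eq_conj {o p : Fin n} (hop : o ≠ p) :
    yE n F o p = nW n F o * (E (eV n F o) (eV n F p))⁻¹ * (nW n F o)⁻¹ := by
  have h0 : ω n F (fV n F o) (eV n F p) = 0 := by rw [ω_fV_eV, if_neg hop.symm]
  have hnp : act (nW n F o) (eV n F p) = eV n F p := ((nW_mem_SS (F := F) o) p (fun h => hop h.symm)).1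
  have e1 : nW n F o * (E (eV n F o) (eV n F p))⁻¹ * (nW n F o)⁻¹ =
      (nW n F o * E (eV n F o) (eV n F p) * (nW n F o)⁻¹)⁻¹ := by group
  rw [e1, conj_E, nW_eV, hnp]
  have e2 : E (-fV n F o) (eV n F p) = E (fV n F o) (-eV n F p) := by
    have := E_smul_smul (fV n F o) (eV n F p) (-1 : F) h0
    rwa [neg_one_smul, neg_one_smul] at this
  rw [e2, ← E_inv _ _ h0, inv_inv]
  rfl

/-- the components of a vector of `VJ (insert o J)` -/
theorem vec_split {J : Set (Fin n)} {o : Fin n} (ho : o ∉ J) {v : V n F} (hv : v ∈ VJ n F (insert o J)) :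
    ∃ u' ∈ VJ n F J, v = v (Sum.inl o) • eV n F o + v (Sum.inr o) • fV n F o + u' := by
  refine ⟨v - (v (Sum.inl o) • eV n F o + v (Sum.inr o) • fV n F o), ?_, by abel⟩
  intro k hk
  by_cases hko : k = o
  · subst hko
    simp [eV_inl, eV_inr, fV_inl, fV_inr]
  · have hk' : k ∉ insert o J := by
      intro h
      rcases h with h | h
      · exact hko h
      · exact hk h
    simp [eV_inl, eV_inr, fV_inl, fV_inr, hko, (hv k hk').1, (hv k hk').2]

/-- **GDEC** (`GJ (insert o J)` is the union of the three double cosets of the point stabiliser). -/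
theorem GJ_decomp {J : Set (Fin n)} {o p : Fin n} (ho : o ∉ J) (hp : p ∈ J) {g : Sp n F}
    (hg : g ∈ GJ n F (insert o J)) :
    ∃ p₁ ∈ PhJ n F (insert o J) o, ∃ p₂ ∈ PhJ n F (insert o J) o,
      g = p₁ * p₂ ∨ g = p₁ * yE n F o p * p₂ ∨ g = p₁ * nW n F o * p₂ := by
  have hoK : o ∈ insert o J := Set.mem_insert o J
  have hop : o ≠ p := fun h => ho (h ▸ hp)
  have hJK : J ⊆ insert o J := Set.subset_insert o J
  have hv : act g (eV n F o) ∈ VJ n F (insert o J) := act_mem_VJ hg (eV_mem_VJ hoK)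
  obtain ⟨u', hu', hdec⟩ := vec_split ho hv
  set α := act g (eV n F o) (Sum.inl o) with hα
  set γ := act g (eV n F o) (Sum.inr o) with hγ
  have hu'o : ω n F (eV n F o) u' = 0 := ω_eV_of_not_mem ho hu'
  by_cases hγ0 : γ = 0
  · rw [hγ0, zero_smul, add_zero] at hdec
    by_cases hu'0 : u' = 0
    · -- (i) `g` stabilises the point
      rw [hu'0, add_zero] at hdec
      have hgP : g ∈ PhJ n F (insert o J) o := by
        refine ⟨hg, α, ?_, hdec⟩
        intro hα0
        rw [hα0, zero_smul, act_eq_zero_iff] at hdec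
        exact eV_ne_zero o hdec
      exact ⟨g, hgP, 1, one_mem _, Or.inl (mul_one g).symm⟩
    · -- (iii) the double coset of `y`
      have hnep : -eV n F p ∈ VJ n F J := (VJ n F J).neg_mem (eV_mem_VJ hp)
      have hnep0 : -eV n F p ≠ 0 := neg_ne_zero.mpr (eV_ne_zero p)
      obtain ⟨l, hl, hlp⟩ := GJ_trans J hnep hu' hnep0 hu'0
      obtain ⟨a, ha, hδ⟩ := VJ_nondeg J u' hu' hu'0
      set w : V n F := ((α - 1) / ω n F u' a) • a with hw
      have hwV : w ∈ VJ n F J := (VJ n F J).smul_mem _ ha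
      have hwo : ω n F (eV n F o) w = 0 := ω_eV_of_not_mem ho hwV
      have hu'w : ω n F u' w = α - 1 := by
        rw [hw, ω_smul_right]
        field_simp
      set p₁ : Sp n F := E (eV n F o) w * l with hp₁
      have hp₁P : p₁ ∈ PJ n F (insert o J) o :=
        mul_mem (E_eV_mem_PJ ho hwV) (GJ_le_PJ hJK ho hl)
      have hp₁v : act p₁ (act (yE n F o p) (eV n F o)) = act g (eV n F o) := by
        rw [yE_eV hop, hp₁, act_mul, sub_eq_add_neg, act_add, (hl o ho).1, hlp, act_E _ _ _ hwo, ω_add_left,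
          ω_add_left, ω_self, hwo, hu'w, hdec]
        have : ω n F u' (eV n F o) = 0 := by rw [ω_swap, hu'o, neg_zero]
        rw [this]
        module
      set p₂ : Sp n F := (yE n F o p)⁻¹ * p₁⁻¹ * g with hp₂
      have hyK : yE n F o p ∈ GJ n F (insert o J) := by
        apply GJ_mono _ (yE_mem_GJ o p)
        intro k hk
        rcases hk with rfl | hk
        · exact hoK
        · rw [Set.mem_singleton_iff] at hk
          subst hk
          exact hJK hp
      have hp₂P : p₂ ∈ PJ n F (insert o J) o := by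
        refine ⟨mul_mem (mul_mem (inv_mem hyK) (inv_mem hp₁P.1)) hg, ?_⟩
        rw [hp₂, act_mul, act_mul, ← hp₁v, act_inv_act, act_inv_act]
      refine ⟨p₁, PJ_le_PhJ _ _ hp₁P, p₂, PJ_le_PhJ _ _ hp₂P, Or.inr (Or.inl ?_)⟩
      rw [hp₂]
      group
  · -- (ii) the double coset of `n`
    have hβ : (-γ)⁻¹ ≠ 0 := inv_ne_zero (neg_ne_zero.mpr hγ0)
    obtain ⟨t, ht, hte, htf⟩ := exists_TT (n := n) (F := F) o hβ
    have hnu' : -u' ∈ VJ n F J := (VJ n F J).neg_mem hu'
    have htu : act t (-u') = -u' := by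
      apply act_eq_of_mem_VJ_compl (J := {o}) ht.1
      apply VJ_mono _ hnu'
      intro k hk hko
      rw [Set.mem_singleton_iff] at hko
      exact ho (hko ▸ hk)
    set p₁ : Sp n F := t * qH o (-u') (α * γ) with hp₁
    have hp₁P : p₁ ∈ PhJ n F (insert o J) o :=
      mul_mem (TT_le_PhJ hoK ht) (PJ_le_PhJ _ _ (qH_mem_PJ ho hnu' _))
    have hp₁v : act p₁ (act (nW n F o) (eV n F o)) = act g (eV n F o) := by
      rw [nW_eV, hp₁, act_mul, act_neg, qH_fV ho hnu', act_neg, act_add, act_add, act_smul, hte, htf, htu,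
        inv_inv, hdec, smul_smul]
      have e1 : α * γ * (-γ)⁻¹ = -α := by
        field_simp
      rw [e1]
      module
    set p₂ : Sp n F := (nW n F o)⁻¹ * p₁⁻¹ * g with hp₂
    have hnK : nW n F o ∈ GJ n F (insert o J) := SS_le_GJ hoK (nW_mem_SS o)
    have hp₂P : p₂ ∈ PJ n F (insert o J) o := by
      refine ⟨mul_mem (mul_mem (inv_mem hnK) (inv_mem hp₁P.1)) hg, ?_⟩
      rw [hp₂, act_mul, act_mul, ← hp₁v, act_inv_act, act_inv_act]
    refine ⟨p₁, hp₁P, p₂, PJ_le_PhJ _ _ hp₂P, Or.inr (Or.inr ?_)⟩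
    rw [hp₂]
    group

/-- **GEN** -/
theorem GJ_le_closure {J : Set (Fin n)} {o p : Fin n} (ho : o ∉ J) (hp : p ∈ J) :
    GJ n F (insert o J) ≤ Subgroup.closure ((PJ n F (insert o J) o : Set (Sp n F)) ∪ (SS n F o : Set (Sp n F))) := by
  have hoK : o ∈ insert o J := Set.mem_insert o J
  have hop : o ≠ p := fun h => ho (h ▸ hp)
  have hP : ∀ x ∈ PJ n F (insert o J) o,
      x ∈ Subgroup.closure ((PJ n F (insert o J) o : Set (Sp n F)) ∪ (SS n F o : Set (Sp n F))) :=
    fun x hx => Subgroup.subset_closure (Or.inl hx)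
  have hS : ∀ x ∈ SS n F o,
      x ∈ Subgroup.closure ((PJ n F (insert o J) o : Set (Sp n F)) ∪ (SS n F o : Set (Sp n F))) :=
    fun x hx => Subgroup.subset_closure (Or.inr hx)
  have hPh : ∀ x ∈ PhJ n F (insert o J) o,
      x ∈ Subgroup.closure ((PJ n F (insert o J) o : Set (Sp n F)) ∪ (SS n F o : Set (Sp n F))) := by
    intro x hx
    obtain ⟨t, ht, q, hq, rfl⟩ := PhJ_decomp hoK hx
    exact mul_mem (hS t (TT_le_SS o ht)) (hP q hq)
  have hn := hS _ (nW_mem_SS (F := F) o)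
  have hy : yE n F o p ∈
      Subgroup.closure ((PJ n F (insert o J) o : Set (Sp n F)) ∪ (SS n F o : Set (Sp n F))) := by
    rw [yE_eq_conj hop]
    exact mul_mem (mul_mem hn (inv_mem (hP _ (E_eV_mem_PJ ho (eV_mem_VJ hp))))) (inv_mem hn)
  intro g hg
  obtain ⟨p₁, hp₁, p₂, hp₂, h | h | h⟩ := GJ_decomp ho hp hg
  · rw [h]
    exact mul_mem (hPh p₁ hp₁) (hPh p₂ hp₂)
  · rw [h]
    exact mul_mem (mul_mem (hPh p₁ hp₁) hy) (hPh p₂ hp₂)
  · rw [h]
    exact mul_mem (mul_mem (hPh p₁ hp₁) hn) (hPh p₂ hp₂)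

end Cfsg.Agent.Lib.Helper25.SPGDEC
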