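import Cfsg.Agent.Lib.Helper20.SPT2Calc
import Cfsg.Agent.Lib.Helper20.SPT2Rel
import Cfsg.Agent.Lib.Helper12.SPT2G

/-!
# S3713, T2 sub-market: STEPY and STEPN on `P1` in `_of` form (over `pair2` and `locstep`)
-/

set_option autoImplicit false

namespace Cfsg.Agent.Lib.Helper25.SPT2STEPY

open Matrix Cfsg.Agent.Lib.Helper5 Cfsg.Agent.Lib.Helper14.SpPerfect Cfsg.Agent.Lib.Helper18.SP
open Cfsg.Agent.Lib.Helper20.SPT2

variable {F : Type*} [Field F] {n : ℕ} {H : Type*} [Group H] {o p : Fin n}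

theorem Tr_ep_comm_yE (hop : o ≠ p) (d : F) :
    Tr (eV n F p) d * yE n F o p = yE n F o p * Tr (eV n F p) d := by
  have h : Tr (eV n F p) d * yE n F o p * (Tr (eV n F p) d)⁻¹ = yE n F o p := by
    unfold yE
    rw [conj_E, Tr_e_f_other hop, Tr_e_e]
  calc Tr (eV n F p) d * yE n F o p
      = (Tr (eV n F p) d * yE n F o p * (Tr (eV n F p) d)⁻¹) * Tr (eV n F p) d := by group
    _ = yE n F o p * Tr (eV n F p) d := by rw [h]

/-- the statement of `pair2` as a hypothesis -/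
def Pair2 (n : ℕ) (F : Type*) [Field F] (p : Fin n) : Prop :=
  ∀ {u : V n F}, u ∈ VJ n F {p} → ∀ {l : Sp n F}, l ∈ SS n F p →
    ∃ m ∈ SS n F p, (∃ d : F, m * l = Tr (eV n F p) d) ∧
      ((∃ α : F, act m u = α • eV n F p) ∨ (∃ γ : F, γ ≠ 0 ∧ act m u = γ • fV n F p))

section
variable (A : T2Hyp n F H o p)

theorem ho_not (A : T2Hyp n F H o p) : o ∉ ({p} : Set (Fin n)) :=
  fun h => A.hop (Set.mem_singleton_iff.mp h)

theorem SSp_le_P1 (A : T2Hyp n F H o p) : SS n F p ≤ PJ n F {o, p} o :=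
  GJ_le_PJ (Set.subset_insert o {p}) (ho_not A)

theorem SSo_le_P2 (A : T2Hyp n F H o p) : SS n F o ≤ PJ n F {o, p} p :=
  GJ_le_PJ (n := n) (F := F) (J := {o}) (K := {o, p}) (o := p)
    (Set.singleton_subset_iff.mpr (Set.mem_insert o {p}))
    (fun h => A.hop (Set.mem_singleton_iff.mp h).symm)

theorem MM_le_P1' : MM n F o p ≤ PJ n F {o, p} o :=
  MM_le_PJ (Set.mem_insert o {p}) (Set.mem_insert_of_mem o rfl) o

theorem MM_le_P2' : MM n F o p ≤ PJ n F {o, p} p :=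
  MM_le_PJ (Set.mem_insert o {p}) (Set.mem_insert_of_mem o rfl) p

/-- common reduction: `n q s` with `q = qH o u c * l ∈ P1`, `m ∈ S_p`, `s` commuting with `m l` on both sides -/
theorem step_core {φ₁ : Sp n F → H} (P1 : Phi1 A φ₁) (s : Sp n F) (st : H)
    {u : V n F} (hu : u ∈ VJ n F {p}) (c : F) {l : Sp n F} (hl : l ∈ SS n F p)
    {m : Sp n F} (hm : m ∈ SS n F p)
    (hs : (m * l) * s = s * (m * l))
    (hst : A.ψ₁ (m * l) * st = st * A.ψ₁ (m * l))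
    (hbr : SOK A φ₁ (nW n F o * qH o (act m u) c * s) (A.nto * A.ψ₁ (qH o (act m u) c) * st)) :
    SOK A φ₁ (nW n F o * (qH o u c * l) * s) (A.nto * A.ψ₁ (qH o u c * l) * st) := by
  have ho := ho_not A
  have hmP : m ∈ PJ n F {o, p} o := SSp_le_P1 A hm
  have hmiP : m⁻¹ ∈ PJ n F {o, p} o := inv_mem hmP
  have hlP : l ∈ PJ n F {o, p} o := SSp_le_P1 A hl
  have hmlP : m * l ∈ PJ n F {o, p} o := mul_mem hmP hlP
  have hmu : act m u ∈ VJ n F {p} := act_mem_VJ hm hu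
  have hqP : qH o (act m u) c ∈ PJ n F {o, p} o := qH_mem_PJ ho hmu c
  have hconj : qH o (act m u) c = m * qH o u c * m⁻¹ := (conj_qH ho hm u c).symm
  have hcomm : Commute (nW n F o) m⁻¹ :=
    GJ_commute (Set.disjoint_singleton.mpr A.hop) (nW_mem_SS o) (inv_mem hm)
  -- group side
  have hg : nW n F o * (qH o u c * l) * s
      = m⁻¹ * (nW n F o * qH o (act m u) c * s) * (m * l) := by
    have h1 : m⁻¹ * (nW n F o * qH o (act m u) c * s) * (m * l)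
        = m⁻¹ * nW n F o * qH o (act m u) c * (s * (m * l)) := by group
    rw [h1, ← hs, ← hcomm.eq, hconj]
    group
  -- H side
  have hq : qH o u c * l = m⁻¹ * qH o (act m u) c * (m * l) := by
    rw [hconj]; group
  have hh : A.nto * A.ψ₁ (qH o u c * l) * st
      = φ₁ m⁻¹ * (A.nto * A.ψ₁ (qH o (act m u) c) * st) * φ₁ (m * l) := by
    rw [P1.onP _ hmiP, P1.onP _ hmlP, hq, A.hψ₁.map_mul (mul_mem hmiP hqP) hmlP, A.hψ₁.map_mul hmiP hqP]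
    have hc1 : A.nto * A.ψ₁ m⁻¹ = A.ψ₁ m⁻¹ * A.nto := by
      rw [A.h1p _ (inv_mem hm)]
      exact (A.hD _ (nW_mem_SS o) _ (inv_mem hm)).eq
    calc A.nto * (A.ψ₁ m⁻¹ * A.ψ₁ (qH o (act m u) c) * A.ψ₁ (m * l)) * st
        = (A.nto * A.ψ₁ m⁻¹) * A.ψ₁ (qH o (act m u) c) * (A.ψ₁ (m * l) * st) := by group
      _ = (A.ψ₁ m⁻¹ * A.nto) * A.ψ₁ (qH o (act m u) c) * (st * A.ψ₁ (m * l)) := by rw [hc1, hst]
      _ = A.ψ₁ m⁻¹ * (A.nto * A.ψ₁ (qH o (act m u) c) * st) * A.ψ₁ (m * l) := by group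
  have := StepOK.mul_right P1.hom (StepOK.mul_left P1.hom hbr (PJ_le_PhJ _ o hmiP)) (PJ_le_PhJ _ o hmlP)
  exact StepOK.congr this hg hh

/-- `qH o (α • e_p) c ∈ M_{op}` -/
theorem qH_ep_mem_MM (α c : F) : qH o (α • eV n F p) c ∈ MM n F o p :=
  mul_mem (Cfsg.Agent.Lib.Helper12.SPT2G.Zg_mem_MM α) (Cfsg.Agent.Lib.Helper12.SPT2G.Tr_eo_mem_MM c)

/-- **STEPY** on `P1` over `pair2` and `locstep` -/
theorem step_y_P1_of {φ₁ : Sp n F → H} (P1 : Phi1 A φ₁) (hpair : Pair2 n F p)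
    (hloc : ∀ g ∈ PJ n F {o, p} p, SOK A φ₁ g (A.ψ₂ g))
    (hhard : ∀ γ c : F, γ ≠ 0 → SOK A φ₁ (nW n F o * (Xg n F o p γ * Tr (eV n F o) c) * yE n F o p)
      (A.nto * A.ψ₁ (Xg n F o p γ * Tr (eV n F o) c) * A.ψ₂ (yE n F o p)))
    {q : Sp n F} (hq : q ∈ PJ n F {o, p} o) :
    SOK A φ₁ (nW n F o * q * yE n F o p) (A.nto * A.ψ₁ q * A.ψ₂ (yE n F o p)) := by
  have hop := A.hop
  have ho := ho_not A
  obtain ⟨u, hu, c, l, hl, rfl⟩ := PJ_decomp ho hq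
  obtain ⟨m, hm, ⟨d, hd⟩, hcase⟩ := hpair hu hl
  have hyP2 : yE n F o p ∈ PJ n F {o, p} p := by
    rw [Cfsg.Agent.Lib.Helper12.SPT2G.yE_eq_Yg]
    exact Cfsg.Agent.Lib.Helper12.SPT2G.Yg_mem_P2 hop 1
  have hnP2 : nW n F o ∈ PJ n F {o, p} p := SSo_le_P2 A (nW_mem_SS o)
  have hTM : Tr (eV n F p) d ∈ MM n F o p := Cfsg.Agent.Lib.Helper12.SPT2G.Tr_ep_mem_MM d
  refine step_core A P1 (yE n F o p) (A.ψ₂ (yE n F o p)) hu c hl hm ?_ ?_ ?_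
  · rw [hd]; exact Tr_ep_comm_yE hop d
  · rw [hd, A.h12 _ hTM, ← A.hψ₂.map_mul (MM_le_P2' hTM) hyP2, ← A.hψ₂.map_mul hyP2 (MM_le_P2' hTM),
      Tr_ep_comm_yE hop d]
  · rcases hcase with ⟨α, hα⟩ | ⟨γ, hγ, hγu⟩
    · rw [hα]
      have hqM : qH o (α • eV n F p) c ∈ MM n F o p := qH_ep_mem_MM α c
      have hmem : nW n F o * qH o (α • eV n F p) c * yE n F o p ∈ PJ n F {o, p} p :=
        mul_mem (mul_mem hnP2 (MM_le_P2' hqM)) hyP2
      have h := hloc _ hmem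
      rw [A.hψ₂.map_mul (mul_mem hnP2 (MM_le_P2' hqM)) hyP2, A.hψ₂.map_mul hnP2 (MM_le_P2' hqM),
        A.h2o _ (nW_mem_SS o), ← A.h12 _ hqM] at h
      exact h
    · rw [hγu]
      exact hhard γ c hγ

/-- **STEPN** on `P1` over `pair2` and `locstep` -/
theorem step_n_P1_of {φ₁ : Sp n F → H} (P1 : Phi1 A φ₁) (hpair : Pair2 n F p)
    (hloc : ∀ g ∈ PJ n F {o, p} p, SOK A φ₁ g (A.ψ₂ g))
    {q : Sp n F} (hq : q ∈ PJ n F {o, p} o) :
    SOK A φ₁ (nW n F o * q * nW n F o) (A.nto * A.ψ₁ q * A.nto) := by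
  have hop := A.hop
  have ho := ho_not A
  obtain ⟨u, hu, c, l, hl, rfl⟩ := PJ_decomp ho hq
  have hnP2 : nW n F o ∈ PJ n F {o, p} p := SSo_le_P2 A (nW_mem_SS o)
  -- an `m ∈ S_p` with `m u ∈ ⟨e_p⟩`
  obtain ⟨m, hm, α, hα⟩ : ∃ m ∈ SS n F p, ∃ α : F, act m u = α • eV n F p := by
    obtain ⟨m₀, hm₀, -, hcase⟩ := hpair hu hl
    rcases hcase with ⟨α, hα⟩ | ⟨γ, -, hγu⟩
    · exact ⟨m₀, hm₀, α, hα⟩
    · refine ⟨nW n F p * m₀, mul_mem (nW_mem_SS p) hm₀, γ, ?_⟩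
      rw [act_mul, hγu, act_smul, nW_fV]
  have hmlS : m * l ∈ SS n F p := mul_mem hm hl
  have hcomm : Commute (m * l) (nW n F o) :=
    (GJ_commute (Set.disjoint_singleton.mpr hop) (nW_mem_SS o) hmlS).symm
  refine step_core A P1 (nW n F o) A.nto hu c hl hm hcomm.eq ?_ ?_
  · rw [A.h1p _ hmlS]
    exact ((A.hD _ (nW_mem_SS o) _ hmlS).symm).eq
  · rw [hα]
    have hqM : qH o (α • eV n F p) c ∈ MM n F o p := qH_ep_mem_MM α c
    have hmem : nW n F o * qH o (α • eV n F p) c * nW n F o ∈ PJ n F {o, p} p :=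
      mul_mem (mul_mem hnP2 (MM_le_P2' hqM)) hnP2
    have h := hloc _ hmem
    rw [A.hψ₂.map_mul (mul_mem hnP2 (MM_le_P2' hqM)) hnP2, A.hψ₂.map_mul hnP2 (MM_le_P2' hqM),
      A.h2o _ (nW_mem_SS o), ← A.h12 _ hqM] at h
    exact h

end

end Cfsg.Agent.Lib.Helper25.SPT2STEPY
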