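/-
helper25: S2283 (SU_3(q), two conjugate regular unipotents), the generic-`q` core in the
antidiagonal model `UJ σ 3` of helper16, on top of helper4's `SU3End.endgame3`.

One-parameter family: for `s` with `s * σ s = 1`, `1 + s ≠ 0` put `d = -s/(1+s)`,
`w = xL 1 d`, `u = xU a b` with `a = -(1+s)^2/s`, `b = -(2s^2+s+1)(1+s)/s^2`.  Then
`w * u * w` is upper triangular with diagonal `(s, s⁻², s)`, so it acts on `U/Z` by `s^3`,
and `u`, `w` are conjugate in `UJ σ 3` by an explicit element.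
-/
import Mathlib
import Cfsg.Agent.Lib.Helper4.SU3End

set_option autoImplicit false

namespace Cfsg.Agent.Lib.Helper25.SU3W

open Matrix Cfsg.Agent.Lib.Helper16.FusSU Cfsg.Agent.Lib.Helper4.SU3

variable {K : Type*} [Field K] (σ : K →+* K)

/-- the adjoint of a `3 × 3` matrix, entry by entry -/
theorem adj_three (M : Matrix (Fin 3) (Fin 3) K) :
    adj σ M = !![σ (M 2 2), σ (M 1 2), σ (M 0 2);
                 σ (M 2 1), σ (M 1 1), σ (M 0 1);
                 σ (M 2 0), σ (M 1 0), σ (M 0 0)] := by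
  ext i j
  fin_cases i <;> fin_cases j <;> rfl

/-- upper unitriangular matrix -/
def xUm (a b : K) : Matrix (Fin 3) (Fin 3) K := !![1, a, b; 0, 1, -σ a; 0, 0, 1]

/-- lower unitriangular matrix -/
def xLm (c d : K) : Matrix (Fin 3) (Fin 3) K := !![1, 0, 0; c, 1, 0; d, -σ c, 1]

theorem det_xUm (a b : K) : (xUm σ a b).det = 1 := by
  unfold xUm
  rw [Matrix.det_fin_three]
  simp

theorem det_xLm (c d : K) : (xLm σ c d).det = 1 := by
  unfold xLm
  rw [Matrix.det_fin_three]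
  simp

/-- upper unitriangular element of `SL_3` -/
def xU (a b : K) : SpecialLinearGroup (Fin 3) K := ⟨xUm σ a b, det_xUm σ a b⟩

/-- lower unitriangular element of `SL_3` -/
def xL (c d : K) : SpecialLinearGroup (Fin 3) K := ⟨xLm σ c d, det_xLm σ c d⟩

theorem xU_coe (a b : K) : ((xU σ a b : SpecialLinearGroup (Fin 3) K) : Matrix (Fin 3) (Fin 3) K) =
    xUm σ a b := rfl

theorem xL_coe (c d : K) : ((xL σ c d : SpecialLinearGroup (Fin 3) K) : Matrix (Fin 3) (Fin 3) K) =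
    xLm σ c d := rfl

variable {σ}

theorem xU_mem (hσ : ∀ x, σ (σ x) = x) {a b : K} (h : b + σ b + a * σ a = 0) :
    xU σ a b ∈ UJ σ 3 := by
  rw [mem_UJ, xU_coe, adj_three]
  unfold xUm
  ext i j
  fin_cases i <;> fin_cases j <;>
    simp [Matrix.mul_apply, Fin.sum_univ_three, hσ]
  · linear_combination h

theorem xL_mem (hσ : ∀ x, σ (σ x) = x) {c d : K} (h : d + σ d + c * σ c = 0) :
    xL σ c d ∈ UJ σ 3 := by
  rw [mem_UJ, xL_coe, adj_three]
  unfold xLm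
  ext i j
  fin_cases i <;> fin_cases j <;>
    simp [Matrix.mul_apply, Fin.sum_univ_three, hσ]
  · linear_combination h


theorem xU_mul (a b a' b' : K) :
    xU σ a b * xU σ a' b' = xU σ (a + a') (b + b' - a * σ a') := by
  apply Subtype.ext
  rw [Matrix.SpecialLinearGroup.coe_mul, xU_coe, xU_coe, xU_coe]
  unfold xUm
  ext i j
  fin_cases i <;> fin_cases j <;>
    simp [Matrix.mul_apply, Fin.sum_univ_three]
  · ring
  · ring

theorem xU_zero_zero : xU σ (0 : K) 0 = 1 := by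
  apply Subtype.ext
  rw [xU_coe, Matrix.SpecialLinearGroup.coe_one]
  unfold xUm
  ext i j
  fin_cases i <;> fin_cases j <;> simp

theorem xU_inv {a b : K} (h : b + σ b + a * σ a = 0) :
    (xU σ a b)⁻¹ = xU σ (-a) (σ b) := by
  rw [inv_eq_iff_mul_eq_one, xU_mul, ← xU_zero_zero (σ := σ)]
  congr 1
  · ring
  · rw [map_neg]; linear_combination h

/-- an upper unitriangular element of `UJ σ 3` is an `xU a b` with the unitary relation -/
theorem uni_form (hσ : ∀ x, σ (σ x) = x) {g : SpecialLinearGroup (Fin 3) K} (hg : g ∈ UJ σ 3)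
    (h10 : (g : Matrix (Fin 3) (Fin 3) K) 1 0 = 0) (h20 : (g : Matrix (Fin 3) (Fin 3) K) 2 0 = 0)
    (h21 : (g : Matrix (Fin 3) (Fin 3) K) 2 1 = 0) (h00 : (g : Matrix (Fin 3) (Fin 3) K) 0 0 = 1)
    (h11 : (g : Matrix (Fin 3) (Fin 3) K) 1 1 = 1) (h22 : (g : Matrix (Fin 3) (Fin 3) K) 2 2 = 1) :
    g = xU σ ((g : Matrix (Fin 3) (Fin 3) K) 0 1) ((g : Matrix (Fin 3) (Fin 3) K) 0 2) ∧
      (g : Matrix (Fin 3) (Fin 3) K) 0 2 + σ ((g : Matrix (Fin 3) (Fin 3) K) 0 2) +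
        (g : Matrix (Fin 3) (Fin 3) K) 0 1 * σ ((g : Matrix (Fin 3) (Fin 3) K) 0 1) = 0 := by
  have h := mem_UJ.1 hg
  rw [adj_three] at h
  have e01 := congrFun (congrFun h 0) 1
  have e02 := congrFun (congrFun h 0) 2
  simp [Matrix.mul_apply, Fin.sum_univ_three, h10, h20, h21, h00, h11, h22] at e01 e02
  -- e01 : σ (g 1 2) + g 0 1 = 0 (or similar)
  have h12 : (g : Matrix (Fin 3) (Fin 3) K) 1 2 = -σ ((g : Matrix (Fin 3) (Fin 3) K) 0 1) := by
    have := congrArg σ e01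
    rw [map_add, hσ, map_zero] at this
    linear_combination this
  refine ⟨?_, ?_⟩
  · apply Subtype.ext
    rw [xU_coe]
    unfold xUm
    ext i j
    fin_cases i <;> fin_cases j <;> simp [h10, h20, h21, h00, h11, h22, h12]
  · linear_combination e02


theorem xU_rel (hσ : ∀ x, σ (σ x) = x) {a b : K} (h : xU σ a b ∈ UJ σ 3) :
    b + σ b + a * σ a = 0 := by
  have := (uni_form hσ h (by simp [xU_coe, xUm]) (by simp [xU_coe, xUm]) (by simp [xU_coe, xUm])
    (by simp [xU_coe, xUm]) (by simp [xU_coe, xUm]) (by simp [xU_coe, xUm])).2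
  simpa [xU_coe, xUm] using this

/-- the `U/Z`-parameters of `X` -/
def Mpar (hσ : ∀ x, σ (σ x) = x) (X : Subgroup (SpecialLinearGroup (Fin 3) K))
    (hX : X ≤ UJ σ 3) : AddSubgroup K where
  carrier := {a | ∃ b, xU σ a b ∈ X}
  zero_mem' := ⟨0, by rw [xU_zero_zero]; exact X.one_mem⟩
  add_mem' := by
    rintro a a' ⟨b, hb⟩ ⟨b', hb'⟩
    exact ⟨b + b' - a * σ a', by rw [← xU_mul]; exact X.mul_mem hb hb'⟩
  neg_mem' := by
    rintro a ⟨b, hb⟩
    exact ⟨σ b, by rw [← xU_inv (xU_rel hσ (hX hb))]; exact X.inv_mem hb⟩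

theorem mem_Mpar (hσ : ∀ x, σ (σ x) = x) {X : Subgroup (SpecialLinearGroup (Fin 3) K)}
    (hX : X ≤ UJ σ 3) {a : K} : a ∈ Mpar hσ X hX ↔ ∃ b, xU σ a b ∈ X := Iff.rfl

/-- an upper triangular element of `X` acts on the `U/Z`-parameters by `x₀₀ σ(x₁₁)` -/
theorem Mpar_stable (hσ : ∀ x, σ (σ x) = x) {X : Subgroup (SpecialLinearGroup (Fin 3) K)}
    (hX : X ≤ UJ σ 3) {x : SpecialLinearGroup (Fin 3) K} (hx : x ∈ X)
    (h10 : (x : Matrix (Fin 3) (Fin 3) K) 1 0 = 0) (h20 : (x : Matrix (Fin 3) (Fin 3) K) 2 0 = 0)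
    (h21 : (x : Matrix (Fin 3) (Fin 3) K) 2 1 = 0) {a : K} (ha : a ∈ Mpar hσ X hX) :
    (x : Matrix (Fin 3) (Fin 3) K) 0 0 * σ ((x : Matrix (Fin 3) (Fin 3) K) 1 1) * a ∈
      Mpar hσ X hX := by
  obtain ⟨b, hb⟩ := ha
  have hu := mem_UJ.1 (hX hx)
  rw [adj_three] at hu
  have e00 := congrFun (congrFun hu 0) 0
  have e01 := congrFun (congrFun hu 0) 1
  have e11 := congrFun (congrFun hu 1) 1
  have e22 := congrFun (congrFun hu 2) 2
  simp [Matrix.mul_apply, Fin.sum_univ_three, h10, h20, h21] at e00 e01 e11 e22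
  obtain ⟨g, hgdef⟩ : ∃ g, g = x * xU σ a b * x⁻¹ := ⟨_, rfl⟩
  have hg : g ∈ X := by
    rw [hgdef]; exact X.mul_mem (X.mul_mem hx hb) (X.inv_mem hx)
  have hcoe : (g : Matrix (Fin 3) (Fin 3) K) =
      (x : Matrix (Fin 3) (Fin 3) K) * xUm σ a b * adj σ (x : Matrix (Fin 3) (Fin 3) K) := by
    rw [hgdef, Matrix.SpecialLinearGroup.coe_mul, Matrix.SpecialLinearGroup.coe_mul,
      UJ_inv_coe (hX hx), xU_coe]
  rw [adj_three] at hcoe
  have g10 : (g : Matrix (Fin 3) (Fin 3) K) 1 0 = 0 := by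
    rw [hcoe]; simp [Matrix.mul_apply, Fin.sum_univ_three, xUm, h10, h20, h21]
  have g20 : (g : Matrix (Fin 3) (Fin 3) K) 2 0 = 0 := by
    rw [hcoe]; simp [Matrix.mul_apply, Fin.sum_univ_three, xUm, h10, h20, h21]
  have g21 : (g : Matrix (Fin 3) (Fin 3) K) 2 1 = 0 := by
    rw [hcoe]; simp [Matrix.mul_apply, Fin.sum_univ_three, xUm, h10, h20, h21]
  have g00 : (g : Matrix (Fin 3) (Fin 3) K) 0 0 = 1 := by
    rw [hcoe]; simp [Matrix.mul_apply, Fin.sum_univ_three, xUm, h10, h20, h21]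
    linear_combination e00
  have g11 : (g : Matrix (Fin 3) (Fin 3) K) 1 1 = 1 := by
    rw [hcoe]; simp [Matrix.mul_apply, Fin.sum_univ_three, xUm, h10, h20, h21]
    linear_combination e11
  have g22 : (g : Matrix (Fin 3) (Fin 3) K) 2 2 = 1 := by
    rw [hcoe]; simp [Matrix.mul_apply, Fin.sum_univ_three, xUm, h10, h20, h21]
    linear_combination e22
  have g01 : (g : Matrix (Fin 3) (Fin 3) K) 0 1 =
      (x : Matrix (Fin 3) (Fin 3) K) 0 0 * σ ((x : Matrix (Fin 3) (Fin 3) K) 1 1) * a := by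
    rw [hcoe]; simp [Matrix.mul_apply, Fin.sum_univ_three, xUm, h10, h20, h21]
    linear_combination e01
  have := (uni_form hσ (hX hg) g10 g20 g21 g00 g11 g22).1
  refine ⟨(g : Matrix (Fin 3) (Fin 3) K) 0 2, ?_⟩
  rw [← g01, ← this]
  exact hg


theorem sh_eV : sh σ (eV : Fin 3 → K) = ![0, 0, 1] := by
  ext i
  fin_cases i
  · show σ ((eV : Fin 3 → K) 2) = 0
    simp [eV]
  · show σ ((eV : Fin 3 → K) 1) = 0
    simp [eV]
  · show σ ((eV : Fin 3 → K) 0) = 1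
    simp [eV]

theorem TJm_eV (c : K) : TJm σ (eV : Fin 3 → K) c = xUm σ 0 c := by
  unfold TJm xUm
  rw [sh_eV]
  ext i j
  rw [Matrix.add_apply, Matrix.smul_apply, vecMulVec_apply]
  fin_cases i <;> fin_cases j <;> simp [eV]

/-- if the `U/Z`-parameters are everything then the centre of `U` lies in `X` -/
theorem xU_zero_mem (hσ : ∀ x, σ (σ x) = x) {X : Subgroup (SpecialLinearGroup (Fin 3) K)}
    (hX : X ≤ UJ σ 3) (hsk : ∀ c : K, σ c = -c → ∃ z, z - σ z = c)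
    (hM : Mpar hσ X hX = ⊤) (c : K) (hc : σ c = -c) : xU σ 0 c ∈ X := by
  obtain ⟨z, hz⟩ := hsk c hc
  have h1 : (1 : K) ∈ Mpar hσ X hX := by rw [hM]; trivial
  have h2 : z ∈ Mpar hσ X hX := by rw [hM]; trivial
  obtain ⟨b₁, hb₁⟩ := h1
  obtain ⟨b₂, hb₂⟩ := h2
  have key : xU σ 0 c * (xU σ z b₂ * xU σ 1 b₁) = xU σ 1 b₁ * xU σ z b₂ := by
    rw [xU_mul, xU_mul, xU_mul]
    congr 1
    · ring
    · rw [map_one, map_add, map_one]; linear_combination -hz
  have : xU σ 0 c = xU σ 1 b₁ * xU σ z b₂ * (xU σ z b₂ * xU σ 1 b₁)⁻¹ := by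
    rw [← key, mul_inv_cancel_right]
  rw [this]
  exact X.mul_mem (X.mul_mem hb₁ hb₂) (X.inv_mem (X.mul_mem hb₂ hb₁))

theorem eV_mem_Rt (hσ : ∀ x, σ (σ x) = x) {X : Subgroup (SpecialLinearGroup (Fin 3) K)}
    (hX : X ≤ UJ σ 3) (hsk : ∀ c : K, σ c = -c → ∃ z, z - σ z = c)
    (hM : Mpar hσ X hX = ⊤) : (eV : Fin 3 → K) ∈ Rt (σ := σ) X := by
  refine ⟨?_, ?_⟩
  · rw [hJ_three]; simp [eV]
  · intro c hc
    exact ⟨xU σ 0 c, xU_zero_mem hσ hX hsk hM c hc, by rw [TJm_eV, xU_coe]⟩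

/-- **the `n = 3` endgame from `U/Z`-parameters**: if the `U/Z`-parameters of `X` are everything,
and `X` contains a regular upper element and a lower element with `d ≠ 0`, then every isotropic
vector has its full root group in `X`. -/
theorem all_Rt_of (hσ : ∀ x, σ (σ x) = x) {X : Subgroup (SpecialLinearGroup (Fin 3) K)}
    (hX : X ≤ UJ σ 3) (hne : ∃ z : K, σ z ≠ z) (hsk : ∀ c : K, σ c = -c → ∃ z, z - σ z = c)
    (hM : Mpar hσ X hX = ⊤) {a b c d : K} (ha : a ≠ 0) (hd : d ≠ 0)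
    (hu : xU σ a b ∈ X) (hw : xL σ c d ∈ X) (v : Fin 3 → K) (hv : hJ σ v v = 0) :
    v ∈ Rt (σ := σ) X := by
  have he := eV_mem_Rt hσ hX hsk hM
  -- the point `w e`
  have p1 : Pt σ (σ (c / d)) (1 / d) ∈ Rt (σ := σ) X := by
    have := Rt_smul hσ (1 / d) (Rt_ap hX hw he)
    have e : (1 / d) • ((xL σ c d : SpecialLinearGroup (Fin 3) K) : Matrix (Fin 3) (Fin 3) K) *ᵥ
        (eV : Fin 3 → K) = Pt σ (σ (c / d)) (1 / d) := by
      rw [xL_coe]
      ext i
      fin_cases i <;>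
        simp [Matrix.mulVec, dotProduct, Fin.sum_univ_three, xLm, eV, Pt, hσ] <;>
        (try field_simp) <;> (try ring)
    rwa [e] at this
  -- the point `u w e`
  have p2 : Pt σ (σ (c / d) - a) ((1 + a * c + b * d) / d) ∈ Rt (σ := σ) X := by
    have := Rt_smul hσ (1 / d) (Rt_ap hX hu (Rt_ap hX hw he))
    have e : (1 / d) • ((xU σ a b : SpecialLinearGroup (Fin 3) K) : Matrix (Fin 3) (Fin 3) K) *ᵥ
        (((xL σ c d : SpecialLinearGroup (Fin 3) K) : Matrix (Fin 3) (Fin 3) K) *ᵥ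
        (eV : Fin 3 → K)) = Pt σ (σ (c / d) - a) ((1 + a * c + b * d) / d) := by
      rw [xL_coe, xU_coe]
      ext i
      fin_cases i <;>
        simp [Matrix.mulVec, dotProduct, Fin.sum_univ_three, xLm, xUm, eV, Pt, hσ] <;>
        (try field_simp) <;> (try ring)
    rwa [e] at this
  have h12 : σ (c / d) ≠ σ (c / d) - a := by
    intro h
    apply ha
    linear_combination h
  exact endgame3 hσ hX hne he p1 p2 h12 v hv


/-! ### the one-parameter family -/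

/-- `d = -s/(1+s)` -/
def dS (s : K) : K := -s / (1 + s)
/-- `a = -(1+s)²/s` -/
def aS (s : K) : K := -(1 + s) ^ 2 / s
/-- `b = -(2s²+s+1)(1+s)/s²` -/
def bS (s : K) : K := -(2 * s ^ 2 + s + 1) * (1 + s) / s ^ 2

section family

variable {s : K} (hs : s * σ s = 1) (h1 : 1 + s ≠ 0)
include hs h1

theorem s_ne : s ≠ 0 := by
  intro h
  rw [h, zero_mul] at hs
  exact zero_ne_one hs

theorem sig_s : σ s = s⁻¹ := by
  have h0 := s_ne hs h1
  field_simp
  linear_combination hs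

theorem sig_d : σ (dS s) = -1 / (1 + s) := by
  have h0 := s_ne hs h1
  have h1' : s + 1 ≠ 0 := by rwa [add_comm] at h1
  unfold dS
  rw [map_div₀, map_neg, map_add, map_one, sig_s hs h1]
  field_simp
  ring

theorem sig_a : σ (aS s) = aS s := by
  have h0 := s_ne hs h1
  have h1' : s + 1 ≠ 0 := by rwa [add_comm] at h1
  unfold aS
  rw [map_div₀, map_neg, map_pow, map_add, map_one, sig_s hs h1]
  field_simp
  ring

theorem sig_b : σ (bS s) = -(2 + s + s ^ 2) * (1 + s) / s := by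
  have h0 := s_ne hs h1
  have h1' : s + 1 ≠ 0 := by rwa [add_comm] at h1
  unfold bS
  simp only [map_div₀, map_mul, map_neg, map_add, map_pow, map_one, map_ofNat]
  rw [sig_s hs h1]
  field_simp
  ring

theorem aS_ne : aS s ≠ 0 := by
  have h0 := s_ne hs h1
  unfold aS
  exact div_ne_zero (neg_ne_zero.2 (pow_ne_zero 2 h1)) h0

theorem dS_ne : dS s ≠ 0 := by
  have h0 := s_ne hs h1
  unfold dS
  exact div_ne_zero (neg_ne_zero.2 h0) h1

theorem rel_w : dS s + σ (dS s) + 1 * σ 1 = 0 := by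
  have h0 := s_ne hs h1
  rw [sig_d hs h1, map_one]
  unfold dS
  field_simp
  ring

theorem rel_u : bS s + σ (bS s) + aS s * σ (aS s) = 0 := by
  have h0 := s_ne hs h1
  rw [sig_b hs h1, sig_a hs h1]
  unfold bS aS
  field_simp
  ring


/-- the word `w u w` -/
def wuw (σ : K →+* K) (s : K) : SpecialLinearGroup (Fin 3) K :=
  xL σ 1 (dS s) * xU σ (aS s) (bS s) * xL σ 1 (dS s)

theorem wuw_coe : ((wuw σ s : SpecialLinearGroup (Fin 3) K) : Matrix (Fin 3) (Fin 3) K) =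
    xLm σ 1 (dS s) * xUm σ (aS s) (bS s) * xLm σ 1 (dS s) := by
  unfold wuw
  rw [Matrix.SpecialLinearGroup.coe_mul, Matrix.SpecialLinearGroup.coe_mul, xL_coe, xU_coe]

theorem wuw_10 : ((wuw σ s : SpecialLinearGroup (Fin 3) K) : Matrix (Fin 3) (Fin 3) K) 1 0 = 0 := by
  have h0 := s_ne hs h1
  have h1' : s + 1 ≠ 0 := by rwa [add_comm] at h1
  rw [wuw_coe hs h1]
  simp [Matrix.mul_apply, Fin.sum_univ_three, xLm, xUm, sig_a hs h1]
  unfold aS bS dS
  field_simp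
  ring

theorem wuw_20 : ((wuw σ s : SpecialLinearGroup (Fin 3) K) : Matrix (Fin 3) (Fin 3) K) 2 0 = 0 := by
  have h0 := s_ne hs h1
  have h1' : s + 1 ≠ 0 := by rwa [add_comm] at h1
  rw [wuw_coe hs h1]
  simp [Matrix.mul_apply, Fin.sum_univ_three, xLm, xUm, sig_a hs h1]
  unfold aS bS dS
  field_simp
  ring

theorem wuw_21 : ((wuw σ s : SpecialLinearGroup (Fin 3) K) : Matrix (Fin 3) (Fin 3) K) 2 1 = 0 := by
  have h0 := s_ne hs h1
  have h1' : s + 1 ≠ 0 := by rwa [add_comm] at h1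
  rw [wuw_coe hs h1]
  simp [Matrix.mul_apply, Fin.sum_univ_three, xLm, xUm, sig_a hs h1]
  unfold aS bS dS
  field_simp
  ring

theorem wuw_00 : ((wuw σ s : SpecialLinearGroup (Fin 3) K) : Matrix (Fin 3) (Fin 3) K) 0 0 = s := by
  have h0 := s_ne hs h1
  have h1' : s + 1 ≠ 0 := by rwa [add_comm] at h1
  rw [wuw_coe hs h1]
  simp [Matrix.mul_apply, Fin.sum_univ_three, xLm, xUm, sig_a hs h1]
  unfold aS bS dS
  field_simp
  ring

theorem wuw_11 :
    ((wuw σ s : SpecialLinearGroup (Fin 3) K) : Matrix (Fin 3) (Fin 3) K) 1 1 = (s ^ 2)⁻¹ := by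
  have h0 := s_ne hs h1
  have h1' : s + 1 ≠ 0 := by rwa [add_comm] at h1
  rw [wuw_coe hs h1]
  simp [Matrix.mul_apply, Fin.sum_univ_three, xLm, xUm, sig_a hs h1]
  unfold aS bS
  field_simp
  ring


/-- the conjugator matrix `h(a) J y` -/
def Gm (s : K) : Matrix (Fin 3) (Fin 3) K :=
  !![0, 0, aS s;
     0, -1, -(s ^ 2 + s + 1) / (s * (1 + s));
     1 / aS s, (-(s ^ 2 + s + 1) / (1 + s)) / aS s, (-(s ^ 2 + s + 1) ^ 2 / (1 + s) ^ 3) / aS s]

theorem det_Gm : (Gm s).det = 1 := by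
  have h0 := s_ne hs h1
  have ha := aS_ne hs h1
  unfold Gm
  rw [Matrix.det_fin_three]
  simp
  field_simp

/-- the conjugator -/
def Gsl : SpecialLinearGroup (Fin 3) K := ⟨Gm s, det_Gm hs h1⟩

theorem Gsl_coe : ((Gsl hs h1 : SpecialLinearGroup (Fin 3) K) : Matrix (Fin 3) (Fin 3) K) = Gm s :=
  rfl

theorem Gsl_mem : Gsl hs h1 ∈ UJ σ 3 := by
  have h0 := s_ne hs h1
  have h1' : s + 1 ≠ 0 := by rwa [add_comm] at h1
  rw [mem_UJ, Gsl_coe, adj_three]
  unfold Gm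
  ext i j
  fin_cases i <;> fin_cases j <;>
    simp [Matrix.mul_apply, Fin.sum_univ_three, sig_a hs h1, sig_s hs h1, aS_ne hs h1]
  all_goals (try simp only [aS])
  all_goals (try field_simp)
  all_goals (try ring)

theorem Gsl_conj : Gsl hs h1 * xU σ (aS s) (bS s) * (Gsl hs h1)⁻¹ = xL σ 1 (dS s) := by
  have h0 := s_ne hs h1
  have h1' : s + 1 ≠ 0 := by rwa [add_comm] at h1
  rw [mul_inv_eq_iff_eq_mul]
  apply Subtype.ext
  rw [Matrix.SpecialLinearGroup.coe_mul, Matrix.SpecialLinearGroup.coe_mul, Gsl_coe, xU_coe,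
    xL_coe]
  unfold Gm xUm xLm
  ext i j
  fin_cases i <;> fin_cases j <;>
    simp [Matrix.mul_apply, Fin.sum_univ_three, sig_a hs h1]
  all_goals (try simp only [aS, bS, dS])
  all_goals (try field_simp)
  all_goals (try ring)


theorem wuw_mul : s * σ ((s ^ 2)⁻¹) = s ^ 3 := by
  have h0 := s_ne hs h1
  rw [map_inv₀, map_pow, sig_s hs h1]
  field_simp

/-- **the generic core**: if every additive subgroup of `K` containing a nonzero element and stable
under multiplication by `s ^ 3` is everything, then any subgroup `X ≤ UJ σ 3` containing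
`u = xU (aS s) (bS s)` and its conjugate `g u g⁻¹ = xL 1 (dS s)` contains the full root group of
every isotropic vector. -/
theorem core (hσ : ∀ x, σ (σ x) = x) (hne : ∃ z : K, σ z ≠ z)
    (hsk : ∀ c : K, σ c = -c → ∃ z, z - σ z = c)
    (hfield : ∀ M : AddSubgroup K, (∃ a ∈ M, a ≠ 0) → (∀ x ∈ M, s ^ 3 * x ∈ M) → M = ⊤)
    (X : Subgroup (SpecialLinearGroup (Fin 3) K)) (hX : X ≤ UJ σ 3)
    (hu : xU σ (aS s) (bS s) ∈ X)
    (hw : Gsl hs h1 * xU σ (aS s) (bS s) * (Gsl hs h1)⁻¹ ∈ X)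
    (v : Fin 3 → K) (hv : hJ σ v v = 0) : v ∈ Rt (σ := σ) X := by
  rw [Gsl_conj hs h1] at hw
  have hx : wuw σ s ∈ X := X.mul_mem (X.mul_mem hw hu) hw
  have hM : Mpar hσ X hX = ⊤ := by
    apply hfield
    · exact ⟨aS s, ⟨bS s, hu⟩, aS_ne hs h1⟩
    · intro a ha
      have := Mpar_stable hσ hX hx (wuw_10 hs h1) (wuw_20 hs h1) (wuw_21 hs h1) ha
      rwa [wuw_00 hs h1, wuw_11 hs h1, wuw_mul hs h1] at this
  exact all_Rt_of hσ hX hne hsk hM (aS_ne hs h1) (dS_ne hs h1) hu hw v hv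

end family

/-- regularity of `xU a b` for `a ≠ 0` -/
theorem xU_regular {a : K} (b : K) (ha : a ≠ 0) :
    IsNilpotent (((xU σ a b : SpecialLinearGroup (Fin 3) K) : Matrix (Fin 3) (Fin 3) K) - 1) ∧
      (((xU σ a b : SpecialLinearGroup (Fin 3) K) : Matrix (Fin 3) (Fin 3) K) - 1) ^ (3 - 1) ≠ 0 := by
  have hσa : σ a ≠ 0 := (map_ne_zero σ).2 ha
  have e : ((xU σ a b : SpecialLinearGroup (Fin 3) K) : Matrix (Fin 3) (Fin 3) K) - 1 =
      !![0, a, b; 0, 0, -σ a; 0, 0, 0] := by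
    rw [xU_coe]
    unfold xUm
    ext i j
    fin_cases i <;> fin_cases j <;> simp
  have e2 : (!![0, a, b; 0, 0, -σ a; 0, 0, 0] : Matrix (Fin 3) (Fin 3) K) ^ 2 =
      !![0, 0, -(a * σ a); 0, 0, 0; 0, 0, 0] := by
    rw [pow_two]
    ext i j
    fin_cases i <;> fin_cases j <;> simp [Matrix.mul_apply, Fin.sum_univ_three]
  rw [e]
  refine ⟨⟨3, ?_⟩, ?_⟩
  · rw [pow_succ, e2]
    ext i j
    fin_cases i <;> fin_cases j <;> simp [Matrix.mul_apply, Fin.sum_univ_three]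
  · show (!![0, a, b; 0, 0, -σ a; 0, 0, 0] : Matrix (Fin 3) (Fin 3) K) ^ 2 ≠ 0
    rw [e2]
    intro h
    have := congrFun (congrFun h 0) 2
    have h3 : a * σ a = 0 := by simpa using this
    exact mul_ne_zero ha hσa h3

/-- **S2283 in the antidiagonal model, generic `q`**: for `s` of norm one, `s ≠ -1`, such that
every additive subgroup of `K` containing a nonzero element and stable under `s ^ 3` is everything,
there are a regular unipotent `u ∈ UJ σ 3` and `g ∈ UJ σ 3` such that every subgroup of `UJ σ 3`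
containing `u` and `g u g⁻¹` contains all root groups. -/
theorem two_gen_UJ (hσ : ∀ x, σ (σ x) = x) (hne : ∃ z : K, σ z ≠ z)
    (hsk : ∀ c : K, σ c = -c → ∃ z, z - σ z = c) {s : K} (hs : s * σ s = 1) (h1 : 1 + s ≠ 0)
    (hfield : ∀ M : AddSubgroup K, (∃ a ∈ M, a ≠ 0) → (∀ x ∈ M, s ^ 3 * x ∈ M) → M = ⊤) :
    ∃ u g : SpecialLinearGroup (Fin 3) K, u ∈ UJ σ 3 ∧ g ∈ UJ σ 3 ∧
      (IsNilpotent ((u : Matrix (Fin 3) (Fin 3) K) - 1) ∧
        ((u : Matrix (Fin 3) (Fin 3) K) - 1) ^ (3 - 1) ≠ 0) ∧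
      ∀ X : Subgroup (SpecialLinearGroup (Fin 3) K), X ≤ UJ σ 3 → u ∈ X → g * u * g⁻¹ ∈ X →
        ∀ v : Fin 3 → K, hJ σ v v = 0 → v ∈ Rt (σ := σ) X :=
  ⟨xU σ (aS s) (bS s), Gsl hs h1, xU_mem hσ (rel_u hs h1), Gsl_mem hs h1,
    xU_regular _ (aS_ne hs h1), fun X hX hu hw v hv => core hs h1 hσ hne hsk hfield X hX hu hw v hv⟩

end Cfsg.Agent.Lib.Helper25.SU3W
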