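/-
helper25: S2283, the generic case `q ∉ {2, 5, 8}` in the antidiagonal model
`UJ (frobHom hF) 3`: instantiation of `SU3W.two_gen_UJ` at `s = ζ^(q-1)` (a generator of the
norm-one group), with helper1's subfield lemma at `t = s^3` and helper8's field lemmas.
-/
import Mathlib
import Cfsg.Agent.Lib.Helper25.SU3Word
import Cfsg.Agent.Lib.Helper1.SUMuField
import Cfsg.Agent.Lib.Helper8.SUField
import Cfsg.Agent.Lib.Helper5.HermBridge

set_option autoImplicit false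

namespace Cfsg.Agent.Lib.Helper25.SU3W

open Matrix Cfsg.Agent.Lib.Helper16.FusSU Cfsg.Agent.Lib.Helper4.SU3
open Cfsg.Agent.Lib.Helper5.HermBridge

variable {F : Type*} [Field F] [Fintype F] {q : ℕ}

theorem frobHom_apply' (hF : Fintype.card F = q ^ 2) (x : F) : frobHom hF x = x ^ q := rfl

/-- a generator of the norm-one group, different from `-1` -/
theorem exists_norm_one_gen (hF : Fintype.card F = q ^ 2) :
    ∃ s : F, s ≠ 0 ∧ s * s ^ q = 1 ∧ 1 + s ≠ 0 ∧ orderOf s = q + 1 := by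
  classical
  have hq2 := Cfsg.Agent.Lib.Helper8.SUField.two_le_q hF
  obtain ⟨g, hg0, hgo, -⟩ := Cfsg.Agent.Lib.Helper8.SUField.exists_gen (F := F)
  have hcard : Fintype.card F - 1 = (q - 1) * (q + 1) := by
    rw [hF]
    have : q ^ 2 = (q - 1) * (q + 1) + 1 := by
      obtain ⟨k, rfl⟩ : ∃ k, q = k + 1 := ⟨q - 1, by omega⟩
      simp only [Nat.add_sub_cancel]
      ring
    omega
  have hord : orderOf (g ^ (q - 1)) = q + 1 := by
    rw [orderOf_pow' g (by omega : q - 1 ≠ 0), hgo, hcard, Nat.gcd_mul_right_left,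
      Nat.mul_div_cancel_left _ (by omega : 0 < q - 1)]
  refine ⟨g ^ (q - 1), pow_ne_zero _ hg0, ?_, ?_, hord⟩
  · have : g ^ (q - 1) * (g ^ (q - 1)) ^ q = (g ^ (q - 1)) ^ (q + 1) := by
      rw [pow_succ']
    rw [this, ← hord, pow_orderOf_eq_one]
  · intro h
    have hs : g ^ (q - 1) = -1 := by linear_combination h
    have h2 : (g ^ (q - 1)) ^ 2 = 1 := by rw [hs]; ring
    have := orderOf_dvd_of_pow_eq_one h2
    rw [hord] at this
    have := Nat.le_of_dvd (by norm_num) this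
    omega

/-- **S2283, generic `q`, antidiagonal model** -/
theorem su3_generic (q : ℕ) (hF : Fintype.card F = q ^ 2) (hq2 : q ≠ 2) (hq5 : q ≠ 5)
    (hq8 : q ≠ 8) :
    ∃ u g : SpecialLinearGroup (Fin 3) F, u ∈ UJ (frobHom hF) 3 ∧ g ∈ UJ (frobHom hF) 3 ∧
      (IsNilpotent ((u : Matrix (Fin 3) (Fin 3) F) - 1) ∧
        ((u : Matrix (Fin 3) (Fin 3) F) - 1) ^ (3 - 1) ≠ 0) ∧
      ∀ X : Subgroup (SpecialLinearGroup (Fin 3) F), X ≤ UJ (frobHom hF) 3 → u ∈ X →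
        g * u * g⁻¹ ∈ X →
        ∀ v : Fin 3 → F, hJ (frobHom hF) v v = 0 → v ∈ Rt (σ := frobHom hF) X := by
  have hσ : ∀ x : F, frobHom hF (frobHom hF x) = x := fun x => pow_q_pow_q hF x
  have hne : ∃ z : F, frobHom hF z ≠ z := by
    obtain ⟨τ, -, hτ⟩ := Cfsg.Agent.Lib.Helper8.SUField.exists_not_fixed hF
    exact ⟨τ, hτ⟩
  have hsk : ∀ c : F, frobHom hF c = -c → ∃ z, z - frobHom hF z = c := by
    intro c hc
    obtain ⟨s, hs⟩ := Cfsg.Agent.Lib.Helper8.SUField.exists_frob_sub_eq hF c hc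
    refine ⟨-s, ?_⟩
    rw [map_neg, frobHom_apply']
    linear_combination hs
  obtain ⟨s, hs0, hs, h1, hord⟩ := exists_norm_one_gen hF
  have hfield : ∀ M : AddSubgroup F, (∃ a ∈ M, a ≠ 0) → (∀ x ∈ M, s ^ 3 * x ∈ M) → M = ⊤ := by
    rintro M ⟨a, ha, ha0⟩ hloop
    refine Cfsg.Agent.Lib.Helper1.SUMuField.addSubgroup_eq_top_of_mul_mem hF hq2 hq5 hq8 (s ^ 3)
      (pow_ne_zero _ hs0) ?_ M a ha ha0 hloop
    rw [orderOf_pow' s (by norm_num : 3 ≠ 0), hord]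
    obtain ⟨k, hk⟩ := Nat.gcd_dvd_right (q + 1) 3
    obtain ⟨m, hm⟩ := Nat.gcd_dvd_left (q + 1) 3
    have hg0 : 0 < Nat.gcd (q + 1) 3 := Nat.gcd_pos_of_pos_right _ (by norm_num)
    refine ⟨k, ?_⟩
    have e1 : (q + 1) / Nat.gcd (q + 1) 3 = m := Nat.div_eq_of_eq_mul_right hg0 hm
    rw [e1]
    calc 3 * m = Nat.gcd (q + 1) 3 * k * m := by rw [← hk]
      _ = (Nat.gcd (q + 1) 3 * m) * k := by ring
      _ = (q + 1) * k := by rw [← hm]

  exact two_gen_UJ hσ hne hsk (s := s) hs h1 hfield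

end Cfsg.Agent.Lib.Helper25.SU3W
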