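/-
helper25: S2283, the case `q = 5` in the antidiagonal model (spare of helper8's (Q5)).
`K` has 25 elements, `ω² + ω + 1 = 0`, `σ ω = ω⁵ = -1 - ω`.  `v = xL 1 ω`, `u = xU (3+ω) (1+4ω)`,
the word `x = v u v v` is upper triangular with multiplier `t = x₀₀ σ(x₁₁) = 2 - ω ∉ F_5`, and
`u`, `v` are conjugate by an explicit element.  All matrix identities are polynomial identities
modulo `(ω² + ω + 1, 5)`, closed by script-generated `linear_combination` certificates.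
-/
import Mathlib
import Cfsg.Agent.Lib.Helper25.SU3Word
import Cfsg.Agent.Lib.Helper1.SUMuField
import Cfsg.Agent.Lib.Helper8.SUField
import Cfsg.Agent.Lib.Helper5.HermBridge

set_option autoImplicit false

namespace Cfsg.Agent.Lib.Helper25.SU3Q5

open Matrix Cfsg.Agent.Lib.Helper16.FusSU Cfsg.Agent.Lib.Helper4.SU3
open Cfsg.Agent.Lib.Helper25.SU3W

section abstract

variable {K : Type*} [Field K] {σ : K →+* K} {ω : K}

/-- `v` -/
def Vm (ω : K) : Matrix (Fin 3) (Fin 3) K := !![(1), 0, 0; (1), (1), 0; (1) * ω, (-1), (1)]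
/-- `u` -/
def Um (ω : K) : Matrix (Fin 3) (Fin 3) K := !![(1), (3) + (1) * ω, (1) + (4) * ω; 0, (1), (-2) + (1) * ω; 0, 0, (1)]
/-- the word `v u v v` -/
def Xm (ω : K) : Matrix (Fin 3) (Fin 3) K := !![(3) + (2) * ω, (1) + (3) * ω, (1) + (4) * ω; 0, (1) + (1) * ω, (4); 0, 0, (4) + (1) * ω]
/-- the conjugator -/
def Gm5 (ω : K) : Matrix (Fin 3) (Fin 3) K := !![0, 0, (3) + (1) * ω; 0, (1), (2) + (2) * ω; (4) + (3) * ω, (4) + (2) * ω, (3) + (4) * ω]
/-- its adjoint -/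
def Ga5 (ω : K) : Matrix (Fin 3) (Fin 3) K := !![(-1) + (-4) * ω, (-2) * ω, (2) + (-1) * ω; (2) + (-2) * ω, (1), 0; (1) + (-3) * ω, 0, 0]

variable (hω : ω ^ 2 + ω + 1 = 0) (h5 : (5 : K) = 0) (hσω : σ ω = -1 - ω)
include hω h5 hσω

theorem xLm_eq : xLm σ 1 ω = Vm ω := by
  unfold xLm Vm
  ext i j
  fin_cases i <;> fin_cases j <;> simp

theorem sig_a5 : σ (3 + ω) = (2) + (-1) * ω := by
  rw [map_add, map_ofNat, hσω]; ring

theorem xUm_eq : xUm σ (3 + ω) (1 + 4 * ω) = Um ω := by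
  unfold xUm Um
  rw [sig_a5 hω h5 hσω]
  ext i j
  fin_cases i <;> fin_cases j <;> simp <;> ring

theorem rel_u5 : (1 + 4 * ω) + σ (1 + 4 * ω) + (3 + ω) * σ (3 + ω) = 0 := by
  rw [sig_a5 hω h5 hσω, map_add, map_mul, map_one, map_ofNat, hσω]
  linear_combination ((-1)) * hω + ((1)) * h5

theorem rel_v5 : ω + σ ω + 1 * σ 1 = 0 := by
  rw [hσω, map_one]; ring

theorem word5 : Vm ω * Um ω * Vm ω * Vm ω = Xm ω := by
  unfold Vm Um Xm
  ext i j
  fin_cases i <;> fin_cases j <;> simp [Matrix.mul_apply, Fin.sum_univ_three]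
  all_goals first
    | linear_combination ((8)) * hω + ((-1) + (-2) * ω) * h5
    | linear_combination (0) * hω + ((-2) * ω) * h5
    | linear_combination (0) * hω + (0) * h5
    | linear_combination ((10)) * hω + ((-3) * ω) * h5
    | linear_combination (0) * hω + ((1) + (-2) * ω) * h5
    | linear_combination (0) * hω + ((-1) + (1) * ω) * h5
    | linear_combination ((-10) + (8) * ω) * hω + ((1) + (3) * ω) * h5
    | linear_combination ((-7)) * hω + ((2) * ω) * h5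
    | linear_combination ((4)) * hω + ((-1) + (-1) * ω) * h5

theorem adj_Gm5 : adj σ (Gm5 ω) = Ga5 ω := by
  rw [adj_three]
  unfold Gm5 Ga5
  ext i j
  fin_cases i <;> fin_cases j <;> simp [hσω] <;> (try simp only [map_ofNat]) <;> ring

theorem unit_Gm5 : Gm5 ω * Ga5 ω = 1 := by
  unfold Gm5 Ga5
  ext i j
  fin_cases i <;> fin_cases j <;> simp [Matrix.mul_apply, Fin.sum_univ_three]
  all_goals first
    | linear_combination ((-3)) * hω + ((1) + (-1) * ω) * h5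
    | linear_combination (0) * hω + (0) * h5
    | linear_combination ((-6)) * hω + ((2)) * h5
    | linear_combination ((-28)) * hω + ((7)) * h5
    | linear_combination ((-3)) * hω + ((2) + (1) * ω) * h5

theorem det_Gm5 : (Gm5 ω).det = 1 := by
  unfold Gm5
  rw [Matrix.det_fin_three]
  simp
  linear_combination ((-3)) * hω + ((-2) + (-2) * ω) * h5

theorem conj_Gm5 : Gm5 ω * Um ω = Vm ω * Gm5 ω := by
  unfold Gm5 Um Vm
  ext i j
  fin_cases i <;> fin_cases j <;> simp [Matrix.mul_apply, Fin.sum_univ_three]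
  all_goals first
    | linear_combination (0) * hω + (0) * h5
    | linear_combination (0) * hω + ((-1)) * h5
    | linear_combination ((3)) * hω + ((2) + (2) * ω) * h5
    | linear_combination ((13)) * hω + ((-3) + (1) * ω) * h5

end abstract


/-! ### the group elements -/

section elements

variable {K : Type*} [Field K] {σ : K →+* K} {ω : K}
variable (hω : ω ^ 2 + ω + 1 = 0) (h5 : (5 : K) = 0) (hσω : σ ω = -1 - ω)
include hω h5 hσω

/-- the conjugator as an element of `SL₃` -/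
def G5 : SpecialLinearGroup (Fin 3) K := ⟨Gm5 ω, det_Gm5 hω h5 hσω⟩

theorem G5_mem : G5 hω h5 hσω ∈ UJ σ 3 := by
  rw [mem_UJ]
  show Gm5 ω * adj σ (Gm5 ω) = 1
  rw [adj_Gm5 hω h5 hσω, unit_Gm5 hω h5 hσω]

theorem G5_conj : G5 hω h5 hσω * xU σ (3 + ω) (1 + 4 * ω) * (G5 hω h5 hσω)⁻¹ = xL σ 1 ω := by
  rw [mul_inv_eq_iff_eq_mul]
  apply Subtype.ext
  rw [Matrix.SpecialLinearGroup.coe_mul, Matrix.SpecialLinearGroup.coe_mul, xU_coe, xL_coe,
    xUm_eq hω h5 hσω, xLm_eq hω h5 hσω]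
  exact conj_Gm5 hω h5 hσω

theorem a5_ne : (3 : K) + ω ≠ 0 := by
  intro h
  have : (1 : K) = 0 := by linear_combination 3 * hω - 3 * (ω - 2) * h - 4 * h5
  exact one_ne_zero this

theorem d5_ne : ω ≠ 0 := by
  intro h
  have : (1 : K) = 0 := by linear_combination hω - (ω + 1) * h
  exact one_ne_zero this

/-- the word `v u v v` as a group element -/
def x5 (σ : K →+* K) (ω : K) : SpecialLinearGroup (Fin 3) K :=
  xL σ 1 ω * xU σ (3 + ω) (1 + 4 * ω) * xL σ 1 ω * xL σ 1 ω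

theorem x5_coe : ((x5 σ ω : SpecialLinearGroup (Fin 3) K) : Matrix (Fin 3) (Fin 3) K) = Xm ω := by
  unfold x5
  rw [Matrix.SpecialLinearGroup.coe_mul, Matrix.SpecialLinearGroup.coe_mul,
    Matrix.SpecialLinearGroup.coe_mul, xU_coe, xL_coe, xUm_eq hω h5 hσω, xLm_eq hω h5 hσω]
  exact word5 hω h5 hσω

/-- the multiplier of the word is `2 - ω` -/
theorem mult5 : ((x5 σ ω : SpecialLinearGroup (Fin 3) K) : Matrix (Fin 3) (Fin 3) K) 0 0 *
    σ (((x5 σ ω : SpecialLinearGroup (Fin 3) K) : Matrix (Fin 3) (Fin 3) K) 1 1) = 2 - ω := by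
  rw [x5_coe hω h5 hσω]
  unfold Xm
  simp [hσω]
  linear_combination (-2 : K) * hω

/-- `2 - ω` is not fixed by `σ` -/
theorem mult5_ne : σ (2 - ω) ≠ 2 - ω := by
  intro h
  rw [map_sub, map_ofNat, hσω] at h
  have h' : 2 * ω + 1 = 0 := by linear_combination h
  have : (1 : K) = 0 := by linear_combination 8 * hω - 2 * (2 * ω + 1) * h' - h5
  exact one_ne_zero this

/-- **the core for `q = 5`** (abstract: the field hypothesis for the multiplier `2 - ω` is an
assumption) -/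
theorem core5 (hσ : ∀ x, σ (σ x) = x) (hne : ∃ z : K, σ z ≠ z)
    (hsk : ∀ c : K, σ c = -c → ∃ z, z - σ z = c)
    (hfield : ∀ M : AddSubgroup K, (∃ a ∈ M, a ≠ 0) → (∀ x ∈ M, (2 - ω) * x ∈ M) → M = ⊤)
    (X : Subgroup (SpecialLinearGroup (Fin 3) K)) (hX : X ≤ UJ σ 3)
    (hu : xU σ (3 + ω) (1 + 4 * ω) ∈ X)
    (hw : G5 hω h5 hσω * xU σ (3 + ω) (1 + 4 * ω) * (G5 hω h5 hσω)⁻¹ ∈ X)
    (v : Fin 3 → K) (hv : hJ σ v v = 0) : v ∈ Rt (σ := σ) X := by
  rw [G5_conj hω h5 hσω] at hw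
  have hx : x5 σ ω ∈ X := X.mul_mem (X.mul_mem (X.mul_mem hw hu) hw) hw
  have e10 : ((x5 σ ω : SpecialLinearGroup (Fin 3) K) : Matrix (Fin 3) (Fin 3) K) 1 0 = 0 := by
    rw [x5_coe hω h5 hσω]; simp [Xm]
  have e20 : ((x5 σ ω : SpecialLinearGroup (Fin 3) K) : Matrix (Fin 3) (Fin 3) K) 2 0 = 0 := by
    rw [x5_coe hω h5 hσω]; simp [Xm]
  have e21 : ((x5 σ ω : SpecialLinearGroup (Fin 3) K) : Matrix (Fin 3) (Fin 3) K) 2 1 = 0 := by
    rw [x5_coe hω h5 hσω]; simp [Xm]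
  have hM : Mpar hσ X hX = ⊤ := by
    apply hfield
    · exact ⟨3 + ω, ⟨1 + 4 * ω, hu⟩, a5_ne hω h5 hσω⟩
    · intro a ha
      have := Mpar_stable hσ hX hx e10 e20 e21 ha
      rwa [mult5 hω h5 hσω] at this
  exact all_Rt_of hσ hX hne hsk hM (a5_ne hω h5 hσω) (d5_ne hω h5 hσω) hu hw v hv

end elements

/-! ### the field with 25 elements -/

section concrete

open Cfsg.Agent.Lib.Helper5.HermBridge

variable {K : Type*} [Field K] [Fintype K]

theorem five_eq_zero (hK : Fintype.card K = 5 ^ 2) : (5 : K) = 0 := by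
  have h := FiniteField.cast_card_eq_zero K
  rw [hK] at h
  have h2 : (5 : K) ^ 2 = 0 := by exact_mod_cast h
  exact pow_eq_zero_iff (two_ne_zero) |>.1 h2

theorem exists_omega (hK : Fintype.card K = 5 ^ 2) :
    ∃ ω : K, ω ^ 2 + ω + 1 = 0 ∧ frobHom hK ω = -1 - ω := by
  classical
  obtain ⟨g, hg0, hgo, -⟩ := Cfsg.Agent.Lib.Helper8.SUField.exists_gen (F := K)
  rw [hK] at hgo
  have h3 : (g ^ 8) ^ 3 = 1 := by
    rw [← pow_mul]
    have : 8 * 3 = 5 ^ 2 - 1 := by norm_num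
    rw [this, ← hgo, pow_orderOf_eq_one]
  have hne1 : g ^ 8 ≠ 1 := by
    intro h
    have := orderOf_dvd_of_pow_eq_one h
    rw [hgo] at this
    norm_num at this
  have hω : (g ^ 8) ^ 2 + g ^ 8 + 1 = 0 := by
    have hfac : (g ^ 8 - 1) * ((g ^ 8) ^ 2 + g ^ 8 + 1) = 0 := by
      have : (g ^ 8 - 1) * ((g ^ 8) ^ 2 + g ^ 8 + 1) = (g ^ 8) ^ 3 - 1 := by ring
      rw [this, h3, sub_self]
    rcases mul_eq_zero.1 hfac with h | h
    · exact absurd (sub_eq_zero.1 h) hne1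
    · exact h
  refine ⟨g ^ 8, hω, ?_⟩
  show (g ^ 8) ^ 5 = -1 - g ^ 8
  have : (g ^ 8) ^ 5 = (g ^ 8) ^ 3 * (g ^ 8) ^ 2 := by ring
  rw [this, h3, one_mul]
  linear_combination hω

/-- the field hypothesis: an additive subgroup stable under a non-fixed element is everything -/
theorem hfield25 (hK : Fintype.card K = 5 ^ 2) {t : K} (ht : t ^ 5 ≠ t) (M : AddSubgroup K)
    (hM : ∃ a ∈ M, a ≠ 0) (hloop : ∀ x ∈ M, t * x ∈ M) : M = ⊤ := by
  classical
  obtain ⟨a, ha, ha0⟩ := hM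
  set S := Cfsg.Agent.Lib.Helper1.SUMuField.mulStab M with hS
  have htS : t ∈ S := hloop
  have hcard : 5 ^ 2 = Fintype.card S ^ Module.finrank S K := by
    rw [← hK]
    exact Module.card_eq_pow_finrank
  have he_pos : 0 < Module.finrank S K := Module.finrank_pos
  have hr2 : 2 ≤ Fintype.card S := Fintype.one_lt_card
  have hdvd : Fintype.card S ∣ 5 ^ 2 := by
    rw [hcard]
    exact dvd_pow_self _ (by omega)
  obtain ⟨k, hk2, hk⟩ := (Nat.dvd_prime_pow Nat.prime_five).1 hdvd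
  have hST : S = ⊤ := by
    have hk' : k = 0 ∨ k = 1 ∨ k = 2 := by omega
    rcases hk' with rfl | rfl | rfl
    · rw [pow_zero] at hk; omega
    · exfalso
      apply ht
      have h1 := FiniteField.pow_card (⟨t, htS⟩ : S)
      rw [hk, pow_one] at h1
      exact congrArg Subtype.val h1
    · have hcardS : Fintype.card S = Fintype.card K := by rw [hk, hK]
      have hbij : Function.Bijective (S.subtype : S → K) :=
        (Fintype.bijective_iff_injective_and_card _).2 ⟨S.subtype_injective, hcardS⟩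
      rw [eq_top_iff]
      intro x _
      obtain ⟨y, hy⟩ := hbij.2 x
      rw [← hy]
      exact y.2
  rw [eq_top_iff]
  intro x _
  have h1 : x * a⁻¹ ∈ S := by rw [hST]; exact Subfield.mem_top _
  have h2 := h1 a ha
  rwa [mul_assoc, inv_mul_cancel₀ ha0, mul_one] at h2

/-- **S2283 for `q = 5`, antidiagonal model** (same shape as `SU3W.su3_generic`) -/
theorem su3_q5 (hK : Fintype.card K = 5 ^ 2) :
    ∃ u g : SpecialLinearGroup (Fin 3) K, u ∈ UJ (frobHom hK) 3 ∧ g ∈ UJ (frobHom hK) 3 ∧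
      (IsNilpotent ((u : Matrix (Fin 3) (Fin 3) K) - 1) ∧
        ((u : Matrix (Fin 3) (Fin 3) K) - 1) ^ (3 - 1) ≠ 0) ∧
      ∀ X : Subgroup (SpecialLinearGroup (Fin 3) K), X ≤ UJ (frobHom hK) 3 → u ∈ X →
        g * u * g⁻¹ ∈ X →
        ∀ v : Fin 3 → K, hJ (frobHom hK) v v = 0 → v ∈ Rt (σ := frobHom hK) X := by
  have hσ : ∀ x : K, frobHom hK (frobHom hK x) = x := fun x => pow_q_pow_q hK x
  have hne : ∃ z : K, frobHom hK z ≠ z := by
    obtain ⟨τ, -, hτ⟩ := Cfsg.Agent.Lib.Helper8.SUField.exists_not_fixed hK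
    exact ⟨τ, hτ⟩
  have hsk : ∀ c : K, frobHom hK c = -c → ∃ z, z - frobHom hK z = c := by
    intro c hc
    obtain ⟨s, hs⟩ := Cfsg.Agent.Lib.Helper8.SUField.exists_frob_sub_eq hK c hc
    refine ⟨-s, ?_⟩
    rw [map_neg]
    show -s - -(s ^ 5) = c
    linear_combination hs
  have h5 := five_eq_zero hK
  obtain ⟨ω, hω, hσω⟩ := exists_omega hK
  have hfield : ∀ M : AddSubgroup K, (∃ a ∈ M, a ≠ 0) → (∀ x ∈ M, (2 - ω) * x ∈ M) → M = ⊤ :=
    fun M hM hloop => hfield25 hK (mult5_ne hω h5 hσω) M hM hloop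
  exact ⟨xU (frobHom hK) (3 + ω) (1 + 4 * ω), G5 hω h5 hσω,
    xU_mem hσ (rel_u5 hω h5 hσω), G5_mem hω h5 hσω, xU_regular _ (a5_ne hω h5 hσω),
    fun X hX hu hw v hv => core5 hω h5 hσω hσ hne hsk hfield X hX hu hw v hv⟩

end concrete

end Cfsg.Agent.Lib.Helper25.SU3Q5
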