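/-
helper25: S2281, field generation from ONE long root element (the long-root loop), any field.
`Apar M a` = the additive group of parameters `γ` with `Tr a γ ∈ M`.
Geometry `Geo M a p fl` (think `a = e_{m-1}`, `p = e_{m-2}`, `fl = f_{m-1}`): the vectors
`p`, `a - p`, `a + fl`, `p + a + fl`, `fl - p` lie in the `M`-orbit of `±a`.
* `mul_sq` : `t, γ, tγ ∈ A ⇒ t²γ ∈ A`  (any characteristic);
* `two_mul_sq` : `t, γ ∈ A ⇒ 2t²γ ∈ A`  (any characteristic);
* `sq_mem` : `γ ∈ A ⇒ γ² ∈ A`  (characteristic 2, needs also `fl` in the orbit);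
* `Apar_eq_top_odd`, `Apar_eq_top_even` : `A = ⊤` when `A` contains a generator of `Fˣ`.
-/
import Mathlib
import Cfsg.Agent.Lib.Helper6.SpGenC
import Cfsg.Agent.Lib.Helper25.SpRegCalc

set_option autoImplicit false

namespace Cfsg.Agent.Lib.Helper25.SpReg

open Matrix Cfsg.Agent.Lib.Helper5 Cfsg.Agent.Lib.Helper14 Cfsg.Agent.Lib.Helper14.SpPerfect
open Cfsg.Agent.Lib.Helper6.SpGen

variable {F : Type*} [Field F] {m : ℕ}

theorem Tr_neg_vec (x : Fin m ⊕ Fin m → F) (c : F) : Tr (-x) c = Tr x c := by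
  have : -x = (-1 : F) • x := by rw [neg_smul, one_smul]
  rw [this, Tr_smul]
  congr 1
  ring

/-- the parameters of the long root group at `a` that lie in `M` -/
def Apar (M : Subgroup (Matrix.symplecticGroup (Fin m) F)) (a : Fin m ⊕ Fin m → F) :
    AddSubgroup F where
  carrier := {γ | Tr a γ ∈ M}
  zero_mem' := by
    show Tr a (0 : F) ∈ M
    rw [Tr_zero]; exact M.one_mem
  add_mem' := by
    intro x y hx hy
    show Tr a (x + y) ∈ M
    rw [← Tr_mul]; exact M.mul_mem hx hy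
  neg_mem' := by
    intro x hx
    show Tr a (-x) ∈ M
    rw [Tr_neg]; exact M.inv_mem hx

theorem mem_Apar {M : Subgroup (Matrix.symplecticGroup (Fin m) F)} {a : Fin m ⊕ Fin m → F} {γ : F} :
    γ ∈ Apar M a ↔ Tr a γ ∈ M := Iff.rfl

/-- the orbit geometry needed by the loop -/
structure Geo (M : Subgroup (Matrix.symplecticGroup (Fin m) F)) (a p fl : Fin m ⊕ Fin m → F) :
    Prop where
  hpa : Cfsg.sympForm m F p a = 0
  hpfl : Cfsg.sympForm m F p fl = 0
  hfla : Cfsg.sympForm m F fl a = 1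
  to_p : ∀ γ, Tr a γ ∈ M → Tr p γ ∈ M
  of_p : ∀ γ, Tr p γ ∈ M → Tr a γ ∈ M
  to_amp : ∀ γ, Tr a γ ∈ M → Tr (a - p) γ ∈ M
  to_afl : ∀ γ, Tr a γ ∈ M → Tr (a + fl) γ ∈ M
  to_pafl : ∀ γ, Tr a γ ∈ M → Tr (p + a + fl) γ ∈ M
  to_flmp : ∀ γ, Tr a γ ∈ M → Tr (fl - p) γ ∈ M

section Loop

variable {M : Subgroup (Matrix.symplecticGroup (Fin m) F)} {a p fl : Fin m ⊕ Fin m → F}

theorem Geo.hap (G : Geo M a p fl) : Cfsg.sympForm m F a p = 0 := by
  rw [sympForm_swap, G.hpa, neg_zero]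

theorem Geo.hflp (G : Geo M a p fl) : Cfsg.sympForm m F fl p = 0 := by
  rw [sympForm_swap, G.hpfl, neg_zero]

theorem Geo.hyp (G : Geo M a p fl) : Cfsg.sympForm m F (a + fl) p = 0 := by
  rw [sympForm_add_left, G.hap, G.hflp, add_zero]

/-- the short root element `Sh p (-a) t` lies in `M` for `t ∈ A` -/
theorem Geo.short_mem (G : Geo M a p fl) {t : F} (ht : t ∈ Apar M a) : Sh p (-a) t ∈ M := by
  apply SpReg.Sh_mem
  · have : p + -a = -(a - p) := by abel
    rw [this, Tr_neg_vec]; exact G.to_amp t ht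
  · exact G.to_p t ht
  · rw [Tr_neg_vec]; exact ht

/-- moving `Tr (a + fl) γ` by the short root element: `Tr (a + fl - t • p) γ ∈ M` -/
theorem Geo.moved (G : Geo M a p fl) {t γ : F} (ht : t ∈ Apar M a) (hγ : γ ∈ Apar M a) :
    Tr (a + fl + (-t) • p) γ ∈ M := by
  have hS := G.short_mem ht
  have hy : Tr (a + fl) γ ∈ M := G.to_afl γ hγ
  have hc := conj_Tr_Sh p (-a) (a + fl) t γ (by rw [sympForm_neg_right, G.hpa, neg_zero])
  have e1 : Cfsg.sympForm m F (a + fl) (-a) = -1 := by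
    rw [sympForm_neg_right, sympForm_add_left, sympForm_self, G.hfla, zero_add]
  rw [G.hyp, e1, mul_zero, zero_smul, add_zero, mul_neg, mul_one] at hc
  rw [← hc]
  exact M.mul_mem (M.mul_mem hS hy) (M.inv_mem hS)

/-- `t, γ, tγ ∈ A ⇒ t²γ ∈ A` -/
theorem Geo.mul_sq (G : Geo M a p fl) {t γ : F} (ht : t ∈ Apar M a) (hγ : γ ∈ Apar M a)
    (htγ : t * γ ∈ Apar M a) : t ^ 2 * γ ∈ Apar M a := by
  have h1 := G.moved ht hγ
  rw [Tr_add_smul_orth (a + fl) p (-t) γ G.hyp] at h1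
  have hy : Tr (a + fl) γ ∈ M := G.to_afl γ hγ
  have hneg : -t * γ ∈ Apar M a := by
    rw [neg_mul]; exact (Apar M a).neg_mem htγ
  have hSh : Sh (a + fl) p (-t * γ) ∈ M := by
    apply SpReg.Sh_mem
    · have : a + fl + p = p + a + fl := by abel
      rw [this]; exact G.to_pafl _ hneg
    · exact G.to_afl _ hneg
    · exact G.to_p _ hneg
  have h2 : Tr p ((-t) ^ 2 * γ) ∈ M := by
    have h1' := (Subgroup.mul_mem_cancel_right M hSh).mp h1
    exact (Subgroup.mul_mem_cancel_left M hy).mp h1'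
  rw [neg_sq] at h2
  exact G.of_p _ h2

/-- `t, γ ∈ A ⇒ 2t²γ ∈ A` -/
theorem Geo.two_mul_sq (G : Geo M a p fl) {t γ : F} (ht : t ∈ Apar M a) (hγ : γ ∈ Apar M a) :
    2 * t ^ 2 * γ ∈ Apar M a := by
  have h1 := G.moved ht hγ
  have h2 := G.moved ((Apar M a).neg_mem ht) hγ
  rw [neg_neg] at h2
  have h3 := M.mul_mem h2 h1
  have e : a + fl + (-t) • p = a + fl - t • p := by
    rw [neg_smul, sub_eq_add_neg]
  rw [e, Tr_pm (a + fl) p t γ G.hyp] at h3
  have hy : Tr (a + fl) (2 * γ) ∈ M := by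
    apply G.to_afl
    have : 2 * γ = γ + γ := by ring
    rw [this]
    exact (Apar M a).add_mem hγ hγ
  have h4 : Tr p (2 * t ^ 2 * γ) ∈ M := (Subgroup.mul_mem_cancel_left M hy).mp h3
  exact G.of_p _ h4

/-- characteristic 2: `γ ∈ A ⇒ γ² ∈ A` -/
theorem Geo.sq_mem (G : Geo M a p fl) (h2 : (2 : F) = 0)
    (to_fl : ∀ γ, Tr a γ ∈ M → Tr fl γ ∈ M) {γ : F} (hγ : γ ∈ Apar M a) :
    γ ^ 2 ∈ Apar M a := by
  have hneg : ∀ x : Fin m ⊕ Fin m → F, -x = x := by
    intro x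
    have : x + x = 0 := by
      have : x + x = (2 : F) • x := by rw [two_smul]
      rw [this, h2, zero_smul]
    exact neg_eq_of_add_eq_zero_left this
  have hS1 : Sh p fl γ ∈ M := by
    apply SpReg.Sh_mem
    · have : p + fl = fl - p := by rw [sub_eq_add_neg, hneg, add_comm]
      rw [this]; exact G.to_flmp γ hγ
    · exact G.to_p γ hγ
    · exact to_fl γ hγ
  have hS2 : Sh p a γ ∈ M := by
    apply SpReg.Sh_mem
    · have : p + a = a - p := by rw [sub_eq_add_neg, hneg, add_comm]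
      rw [this]; exact G.to_amp γ hγ
    · exact G.to_p γ hγ
    · exact hγ
  have hS3 : Sh p (fl + a) γ ∈ M := by
    apply SpReg.Sh_mem
    · have : p + (fl + a) = p + a + fl := by abel
      rw [this]; exact G.to_pafl γ hγ
    · exact G.to_p γ hγ
    · rw [add_comm]; exact G.to_afl γ hγ
  have hpen := Sh_pencil p fl a γ G.hpfl G.hpa
  have e1 : Cfsg.sympForm m F a fl = -1 := by rw [sympForm_swap, G.hfla]
  rw [e1] at hpen
  have h4 : Tr p (γ ^ 2 * -1) ∈ M := by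
    have h12 := M.mul_mem hS1 hS2
    rw [hpen] at h12
    exact (Subgroup.mul_mem_cancel_left M hS3).mp h12
  have h5 := G.of_p _ h4
  have h6 := (Apar M a).neg_mem h5
  have : -(γ ^ 2 * -1) = γ ^ 2 := by ring
  rw [this] at h6
  exact h6

end Loop

/-! ### the two field lemmas -/

/-- every nonzero element is a positive power of a generator -/
theorem exists_pow_succ_eq (ζ : Fˣ) (hζ : ∀ y : Fˣ, y ∈ Submonoid.powers ζ) {x : F} (hx : x ≠ 0) :
    ∃ k : ℕ, (ζ : F) ^ (k + 1) = x := by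
  obtain ⟨k, hk⟩ := (Submonoid.mem_powers_iff _ _).1 (hζ (ζ⁻¹ * Units.mk0 x hx))
  refine ⟨k, ?_⟩
  rw [pow_succ', ← Units.val_pow_eq_pow_val, hk, Units.val_mul, Units.val_inv_eq_inv_val,
    Units.val_mk0, mul_inv_cancel_left₀ ζ.ne_zero]

/-- characteristic 2 -/
theorem addSubgroup_eq_top_even (A : AddSubgroup F) (ζ : Fˣ)
    (hζ : ∀ y : Fˣ, y ∈ Submonoid.powers ζ) (h1 : (ζ : F) ∈ A)
    (hsq : ∀ γ ∈ A, γ ^ 2 ∈ A)
    (hmul : ∀ t γ : F, t ∈ A → γ ∈ A → t * γ ∈ A → t ^ 2 * γ ∈ A) : A = ⊤ := by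
  have hpow : ∀ k : ℕ, (ζ : F) ^ (k + 1) ∈ A ∧ (ζ : F) ^ (k + 2) ∈ A := by
    intro k
    induction k with
    | zero =>
      refine ⟨by simpa using h1, ?_⟩
      have := hsq _ h1
      simpa using this
    | succ k ih =>
      refine ⟨ih.2, ?_⟩
      have := hmul (ζ : F) ((ζ : F) ^ (k + 1)) h1 ih.1 (by
        have e : (ζ : F) * (ζ : F) ^ (k + 1) = (ζ : F) ^ (k + 2) := by ring
        rw [e]; exact ih.2)
      have e : (ζ : F) ^ 2 * (ζ : F) ^ (k + 1) = (ζ : F) ^ (k + 1 + 2) := by ring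
      rwa [e] at this
  rw [eq_top_iff]
  intro x _
  by_cases hx : x = 0
  · rw [hx]; exact A.zero_mem
  · obtain ⟨k, hk⟩ := exists_pow_succ_eq ζ hζ hx
    rw [← hk]
    exact (hpow k).1

/-- odd characteristic -/
theorem addSubgroup_eq_top_odd [Finite F] (A : AddSubgroup F) (h2 : (2 : F) ≠ 0) (ζ : Fˣ)
    (hζ : ∀ y : Fˣ, y ∈ Submonoid.powers ζ) (h1 : (ζ : F) ∈ A)
    (hmul : ∀ t γ : F, t ∈ A → γ ∈ A → 2 * t ^ 2 * γ ∈ A) : A = ⊤ := by
  -- the multiplier ring of `A`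
  let B : AddSubgroup F :=
    { carrier := {x | ∀ γ ∈ A, x * γ ∈ A}
      zero_mem' := by
        intro γ _
        show (0 : F) * γ ∈ A
        rw [zero_mul]; exact A.zero_mem
      add_mem' := by
        intro x y hx hy γ hγ
        show (x + y) * γ ∈ A
        rw [add_mul]; exact A.add_mem (hx γ hγ) (hy γ hγ)
      neg_mem' := by
        intro x hx γ hγ
        show -x * γ ∈ A
        rw [neg_mul]; exact A.neg_mem (hx γ hγ) }
  have hBmul : ∀ x y : F, x ∈ B → y ∈ B → x * y ∈ B := by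
    intro x y hx hy γ hγ
    show x * y * γ ∈ A
    rw [mul_assoc]
    exact hx _ (hy γ hγ)
  have hB1 : (1 : F) ∈ B := by
    intro γ hγ
    show (1 : F) * γ ∈ A
    rwa [one_mul]
  -- `2 t² ∈ B` for `t ∈ A`
  have hB2 : ∀ t ∈ A, 2 * t ^ 2 ∈ B := fun t ht γ hγ => hmul t γ ht hγ
  -- halving
  have hhalf : ∀ x : F, (2 : F) * x ∈ B → x ∈ B := by
    intro x hx γ hγ
    show x * γ ∈ A
    -- `x γ = k • (2 x γ)` with `k = 2⁻¹` in the prime field
    have : Fintype F := Fintype.ofFinite F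
    obtain ⟨n, hn⟩ : ∃ n : ℕ, (n : F) = (2 : F)⁻¹ := by
      -- `2⁻¹ = 2 ^ (card F - 2)`
      refine ⟨2 ^ (Fintype.card F - 2), ?_⟩
      have hc : 2 ≤ Fintype.card F := Fintype.one_lt_card
      have hpow : (2 : F) ^ (Fintype.card F - 1) = 1 := FiniteField.pow_card_sub_one_eq_one 2 h2
      have : (2 : F) ^ (Fintype.card F - 2) * 2 = 1 := by
        rw [← pow_succ]
        have : Fintype.card F - 2 + 1 = Fintype.card F - 1 := by omega
        rw [this, hpow]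
      push_cast
      exact eq_inv_of_mul_eq_one_left this
    have e : x * γ = n • ((2 : F) * x * γ) := by
      rw [nsmul_eq_mul, hn]
      field_simp
    rw [e]
    exact A.nsmul_mem (hx γ hγ) n
  have hz2 : (ζ : F) ^ 2 ∈ B := hhalf _ (hB2 _ h1)
  -- all squares lie in `B`
  have hsq : ∀ μ : F, μ ^ 2 ∈ B := by
    intro μ
    by_cases hμ : μ = 0
    · rw [hμ]
      have : (0 : F) ^ 2 = 0 := by ring
      rw [this]; exact B.zero_mem
    · obtain ⟨k, hk⟩ := exists_pow_succ_eq ζ hζ hμ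
      rw [← hk]
      have : ((ζ : F) ^ (k + 1)) ^ 2 = ((ζ : F) ^ 2) ^ (k + 1) := by ring
      rw [this]
      clear hk this
      induction k with
      | zero => simpa using hz2
      | succ k ih =>
        rw [pow_succ]
        exact hBmul _ _ ih hz2
  have hBtop : B = ⊤ := addSubgroup_eq_top_of_sq B hsq
  rw [eq_top_iff]
  intro x _
  have hx : x * (ζ : F)⁻¹ ∈ B := by rw [hBtop]; trivial
  have := hx _ h1
  rwa [mul_assoc, inv_mul_cancel₀ ζ.ne_zero, mul_one] at this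

end Cfsg.Agent.Lib.Helper25.SpReg
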