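/-
helper25: S2281, the two cores "one long root element with a generating parameter ⇒ everything".
`UW u w` bundles the `ap`-formulas of the pair (upper regular unipotent `u = u0 1`, opposite `w`).
* `core_rt`   : `u, w ∈ M`, `eV il ∈ Rt M` (or `eV 0 ∈ Rt M`) ⇒ `M = ⊤`;
* `core_odd`  : `2 ≠ 0`, `u, w ∈ M`, `Tr (eV il) ζ ∈ M`, `ζ` a generator of `Fˣ` ⇒ `M = ⊤`;
* `core_even` : `2 = 0`, same conclusion.
-/
import Mathlib
import Cfsg.Agent.Lib.Helper25.SpRegEnd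
import Cfsg.Agent.Lib.Helper25.SpRegLoop

set_option autoImplicit false

namespace Cfsg.Agent.Lib.Helper25.SpReg

open Matrix Cfsg.Agent.Lib.Helper5 Cfsg.Agent.Lib.Helper14 Cfsg.Agent.Lib.Helper14.SpPerfect
open Cfsg.Agent.Lib.Helper6.SpGen

variable {F : Type*} [Field F] {m : ℕ}

/-- the formulas of the pair `(u, w)` -/
structure UW (u w : Matrix.symplecticGroup (Fin m) F) : Prop where
  hwe : ∀ i j : Fin m, j.val = i.val + 1 → ap w (eV i) = (eV i - eV j : Fin m ⊕ Fin m → F)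
  hue : ∀ i j : Fin m, j.val = i.val + 1 → ap u (eV i - eV j : Fin m ⊕ Fin m → F) = -eV j
  hlast : ∀ i0 il : Fin m, i0.val = 0 → il.val + 1 = m →
    ap u (ap w (eV il)) = (-fV i0 : Fin m ⊕ Fin m → F)
  huf : ∀ i j : Fin m, j.val = i.val + 1 → ap u (fV i) = (fV i - fV j : Fin m ⊕ Fin m → F)
  hwf : ∀ i j : Fin m, j.val = i.val + 1 → ap w (fV i - fV j : Fin m ⊕ Fin m → F) = -fV j
  hwafl : ∀ il : Fin m, il.val + 1 = m → ap w (eV il + fV il : Fin m ⊕ Fin m → F) = eV il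
  huflp : ∀ ip il : Fin m, il.val = ip.val + 1 → il.val + 1 = m →
    ap u (fV il - eV ip : Fin m ⊕ Fin m → F) = eV il + fV il
  huafl : ∀ il : Fin m, il.val + 1 = m → (2 : F) = 0 →
    ap u (eV il + fV il : Fin m ⊕ Fin m → F) = fV il

section

variable {M : Subgroup (Matrix.symplecticGroup (Fin m) F)}

theorem Tr_mem_of_ap {g : Matrix.symplecticGroup (Fin m) F} (hg : g ∈ M)
    {x y : Fin m ⊕ Fin m → F} (h : ap g x = y) {γ : F} (hx : Tr x γ ∈ M) : Tr y γ ∈ M := by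
  rw [← h, ← conj_Tr']
  exact M.mul_mem (M.mul_mem hg hx) (M.inv_mem hg)

theorem Tr_mem_of_ap_neg {g : Matrix.symplecticGroup (Fin m) F} (hg : g ∈ M)
    {x y : Fin m ⊕ Fin m → F} (h : ap g x = -y) {γ : F} (hx : Tr x γ ∈ M) : Tr y γ ∈ M := by
  have := Tr_mem_of_ap hg h hx
  rwa [Tr_neg_vec] at this

/-- the endgame started at the last `e` -/
theorem core_rt (hm : 0 < m) {u w : Matrix.symplecticGroup (Fin m) F} (H : UW u w)
    (hu : u ∈ M) (hw : w ∈ M) (il : Fin m) (hil : il.val + 1 = m)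
    (h : (eV il : Fin m ⊕ Fin m → F) ∈ Rt M) : M = ⊤ := by
  apply endgame hm hu hw H.hwe H.hue H.hlast H.huf H.hwf
  -- descend from `e_{m-1}` to `e_0`
  have key : ∀ d : ℕ, ∀ i : Fin m, i.val + d + 1 = m → (eV i : Fin m ⊕ Fin m → F) ∈ Rt M := by
    intro d
    induction d with
    | zero =>
      intro i hi
      have : i = il := Fin.ext (by omega)
      rw [this]; exact h
    | succ d ih =>
      intro i hi
      have hj : i.val + 1 < m := by omega
      have hjR := ih ⟨i.val + 1, hj⟩ (by show i.val + 1 + d + 1 = m; omega)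
      -- `(u w)⁻¹ (-e_{i+1}) = e_i`
      have e1 : ap (u * w) (eV i) = (-eV (⟨i.val + 1, hj⟩ : Fin m) : Fin m ⊕ Fin m → F) := by
        rw [ap_mul, H.hwe i ⟨i.val + 1, hj⟩ rfl, H.hue i ⟨i.val + 1, hj⟩ rfl]
      have e2 := ap_inv_eq e1
      have := Rt_ap (M.inv_mem (M.mul_mem hu hw)) (Rt_neg hjR)
      rwa [e2] at this
  exact key (m - 1) ⟨0, hm⟩ (by show 0 + (m - 1) + 1 = m; omega)

/-- the geometry of the loop, from the formulas -/
theorem geo_of (hm : 2 ≤ m) {u w : Matrix.symplecticGroup (Fin m) F} (H : UW u w)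
    (hu : u ∈ M) (hw : w ∈ M) (ip il : Fin m) (hip : il.val = ip.val + 1) (hil : il.val + 1 = m) :
    Geo M (eV il : Fin m ⊕ Fin m → F) (eV ip) (fV il) := by
  have hne : ip ≠ il := by
    intro h; rw [h] at hip; omega
  -- the basic moves
  have g1 : ap u⁻¹ (eV il : Fin m ⊕ Fin m → F) = eV il - eV ip := by
    apply ap_inv_eq
    have := H.hue ip il hip
    have e : (eV il - eV ip : Fin m ⊕ Fin m → F) = -(eV ip - eV il) := by abel
    rw [e, ap_neg, this, neg_neg]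
  have g2 : ap w⁻¹ (eV il - eV ip : Fin m ⊕ Fin m → F) = -eV ip := by
    apply ap_inv_eq
    rw [ap_neg, H.hwe ip il hip]
    abel
  have g3 : ap w⁻¹ (eV il : Fin m ⊕ Fin m → F) = eV il + fV il := ap_inv_eq (H.hwafl il hil)
  have g4 : ap u⁻¹ (eV il + fV il : Fin m ⊕ Fin m → F) = fV il - eV ip :=
    ap_inv_eq (H.huflp ip il hip hil)
  have g5 : ap w⁻¹ (eV ip : Fin m ⊕ Fin m → F) = eV ip + eV il + fV il := by
    apply ap_inv_eq
    have e : (eV ip + eV il + fV il : Fin m ⊕ Fin m → F) = eV ip + (eV il + fV il) := by abel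
    rw [e, ap_add, H.hwe ip il hip, H.hwafl il hil]
    abel
  have hui : u⁻¹ ∈ M := M.inv_mem hu
  have hwi : w⁻¹ ∈ M := M.inv_mem hw
  have to_amp : ∀ γ, Tr (eV il : Fin m ⊕ Fin m → F) γ ∈ M → Tr (eV il - eV ip) γ ∈ M :=
    fun γ h => Tr_mem_of_ap hui g1 h
  have to_p : ∀ γ, Tr (eV il : Fin m ⊕ Fin m → F) γ ∈ M → Tr (eV ip) γ ∈ M :=
    fun γ h => Tr_mem_of_ap_neg hwi g2 (to_amp γ h)
  have to_afl : ∀ γ, Tr (eV il : Fin m ⊕ Fin m → F) γ ∈ M → Tr (eV il + fV il) γ ∈ M :=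
    fun γ h => Tr_mem_of_ap hwi g3 h
  have hpfl : Cfsg.sympForm m F (eV ip : Fin m ⊕ Fin m → F) (fV il) = 0 := by
    rw [form_eV_fV, if_neg hne.symm, neg_zero]
  have hfla : Cfsg.sympForm m F (fV il : Fin m ⊕ Fin m → F) (eV il) = 1 := by
    rw [form_fV_eV, if_pos rfl]
  refine
    { hpa := form_eV_eV ip il
      hpfl := hpfl
      hfla := hfla
      to_p := to_p
      of_p := ?_
      to_amp := to_amp
      to_afl := to_afl
      to_pafl := fun γ h => Tr_mem_of_ap hwi g5 (to_p γ h)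
      to_flmp := fun γ h => Tr_mem_of_ap hui g4 (to_afl γ h) }
  · intro γ h
    -- `a = u (w (-p))`
    have e1 : ap (u * w) (eV ip) = (-eV il : Fin m ⊕ Fin m → F) := by
      rw [ap_mul, H.hwe ip il hip, H.hue ip il hip]
    exact Tr_mem_of_ap_neg (M.mul_mem hu hw) e1 h

/-- **odd characteristic** -/
theorem core_odd [Finite F] (hm : 2 ≤ m) (h2 : (2 : F) ≠ 0)
    {u w : Matrix.symplecticGroup (Fin m) F} (H : UW u w)
    (hu : u ∈ M) (hw : w ∈ M) (ip il : Fin m) (hip : il.val = ip.val + 1) (hil : il.val + 1 = m)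
    (ζ : Fˣ) (hζ : ∀ y : Fˣ, y ∈ Submonoid.powers ζ)
    (h : Tr (eV il : Fin m ⊕ Fin m → F) (ζ : F) ∈ M) : M = ⊤ := by
  have G := geo_of hm H hu hw ip il hip hil
  have hA : Apar M (eV il : Fin m ⊕ Fin m → F) = ⊤ :=
    addSubgroup_eq_top_odd _ h2 ζ hζ h (fun t γ ht hγ => G.two_mul_sq ht hγ)
  apply core_rt (by omega) H hu hw il hil
  intro s
  have : s ∈ Apar M (eV il : Fin m ⊕ Fin m → F) := by rw [hA]; trivial
  exact this

/-- **characteristic two** -/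
theorem core_even (hm : 2 ≤ m) (h2 : (2 : F) = 0)
    {u w : Matrix.symplecticGroup (Fin m) F} (H : UW u w)
    (hu : u ∈ M) (hw : w ∈ M) (ip il : Fin m) (hip : il.val = ip.val + 1) (hil : il.val + 1 = m)
    (ζ : Fˣ) (hζ : ∀ y : Fˣ, y ∈ Submonoid.powers ζ)
    (h : Tr (eV il : Fin m ⊕ Fin m → F) (ζ : F) ∈ M) : M = ⊤ := by
  have G := geo_of hm H hu hw ip il hip hil
  have to_fl : ∀ γ, Tr (eV il : Fin m ⊕ Fin m → F) γ ∈ M → Tr (fV il) γ ∈ M :=
    fun γ hγ => Tr_mem_of_ap hu (H.huafl il hil h2) (G.to_afl γ hγ)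
  have hA : Apar M (eV il : Fin m ⊕ Fin m → F) = ⊤ :=
    addSubgroup_eq_top_even _ ζ hζ h (fun γ hγ => G.sq_mem h2 to_fl hγ)
      (fun t γ ht hγ htγ => G.mul_sq ht hγ htγ)
  apply core_rt (by omega) H hu hw il hil
  intro s
  have : s ∈ Apar M (eV il : Fin m ⊕ Fin m → F) := by rw [hA]; trivial
  exact this

end

end Cfsg.Agent.Lib.Helper25.SpReg
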