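/-
helper25: S2281, the formulas `UW (u0 m 1) (w0 m 1)` for helper26's regular unipotent `u0 1`
and its opposite `w0 1 = J (u0 1) J⁻¹`.
-/
import Mathlib
import Cfsg.Agent.Lib.Helper26.RegSpE
import Cfsg.Agent.Lib.Helper25.SpRegCore

set_option autoImplicit false

namespace Cfsg.Agent.Lib.Helper25.SpReg

open Matrix Cfsg.Agent.Lib.Helper5 Cfsg.Agent.Lib.Helper14 Cfsg.Agent.Lib.Helper14.SpPerfect
open Cfsg.Agent.Lib.Helper6.SpGen Cfsg.Agent.Lib.Helper26.RegSp

variable {F : Type*} [Field F] {m : ℕ}

theorem sum_phiF_left (k : Fin m) :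
    ∑ b : Fin m, (phiF b k : F) = if (k : ℕ) = 0 then 1 else 0 := by
  have hsplit : ∀ b : Fin m, (phiF b k : F) =
      (if b = k then 1 else 0) - (if (k : ℕ) = (b : ℕ) + 1 then 1 else 0) := by
    intro b
    unfold phiF
    by_cases h1 : k = b
    · have h2 : ¬ ((k : ℕ) = (b : ℕ) + 1) := by rw [h1]; omega
      rw [if_pos h1, if_pos h1.symm, if_neg h2, sub_zero]
    · have h1' : ¬ b = k := fun h => h1 h.symm
      by_cases h2 : (k : ℕ) = (b : ℕ) + 1
      · rw [if_neg h1, if_pos h2, if_neg h1', if_pos h2, zero_sub]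
      · rw [if_neg h1, if_neg h2, if_neg h1', if_neg h2, sub_zero]
  rw [Finset.sum_congr rfl (fun b _ => hsplit b), Finset.sum_sub_distrib,
    Finset.sum_ite_eq' Finset.univ k (fun _ => (1 : F)), if_pos (Finset.mem_univ _)]
  by_cases hk : (k : ℕ) = 0
  · rw [if_pos hk]
    have : ∑ b : Fin m, (if (k : ℕ) = (b : ℕ) + 1 then (1 : F) else 0) = 0 := by
      apply Finset.sum_eq_zero
      intro b _
      rw [if_neg (by omega)]
    rw [this, sub_zero]
  · rw [if_neg hk]
    have hk1 : (k : ℕ) - 1 < m := by have := k.2; omega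
    have : ∀ b : Fin m, (if (k : ℕ) = (b : ℕ) + 1 then (1 : F) else 0) =
        (if b = (⟨(k : ℕ) - 1, hk1⟩ : Fin m) then 1 else 0) := by
      intro b
      have : ((k : ℕ) = (b : ℕ) + 1) ↔ b = (⟨(k : ℕ) - 1, hk1⟩ : Fin m) := by
        constructor
        · intro h; apply Fin.ext; show (b : ℕ) = (k : ℕ) - 1; omega
        · intro h; rw [h]; show (k : ℕ) = (k : ℕ) - 1 + 1; omega
      simp only [this]
    rw [Finset.sum_congr rfl (fun b _ => this b),
      Finset.sum_ite_eq' Finset.univ (⟨(k : ℕ) - 1, hk1⟩ : Fin m) (fun _ => (1 : F)),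
      if_pos (Finset.mem_univ _), sub_self]

/-- `u0 1` applied to `f_0 + … + f_{m-1}` -/
theorem ap_u0_rowF_last (il : Fin m) (hil : il.val + 1 = m) (a : Fin m ⊕ Fin m) :
    ap (u0 m (1 : F)) (rowF il) a =
      Sum.elim (fun _ => (1 : F)) (fun k : Fin m => if (k : ℕ) = 0 then 1 else 0) a := by
  show ((u0 m (1 : F) : Matrix (Fin m ⊕ Fin m) (Fin m ⊕ Fin m) F) *ᵥ rowF il) a = _
  rw [Matrix.mulVec, dotProduct, Fintype.sum_sum_type]
  have h1 : ∑ x : Fin m, (u0 m (1 : F) : Matrix (Fin m ⊕ Fin m) (Fin m ⊕ Fin m) F) a (Sum.inl x) *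
      (rowF il : Fin m ⊕ Fin m → F) (Sum.inl x) = 0 := by
    apply Finset.sum_eq_zero
    intro x _
    show _ * (0 : F) = 0
    rw [mul_zero]
  have h2 : ∀ x : Fin m, (u0 m (1 : F) : Matrix (Fin m ⊕ Fin m) (Fin m ⊕ Fin m) F) a (Sum.inr x) *
      (rowF il : Fin m ⊕ Fin m → F) (Sum.inr x) = colF (1 : F) x a := by
    intro x
    rw [u0_apply_inr]
    show _ * (if x ≤ il then (1 : F) else 0) = _
    have : x ≤ il := by
      apply Fin.le_def.2
      have := x.2
      omega
    rw [if_pos this, mul_one]
  rw [h1, zero_add, Finset.sum_congr rfl (fun x _ => h2 x)]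
  rcases a with k | k
  · simp only [colF_inl, Sum.elim_inl]
    have : ∀ x : Fin m, (if (x : ℕ) + 1 = m then (1 : F) else 0) = if x = il then 1 else 0 := by
      intro x
      have : ((x : ℕ) + 1 = m) ↔ x = il := by
        constructor
        · intro h; apply Fin.ext; omega
        · intro h; rw [h]; exact hil
      simp only [this]
    rw [Finset.sum_congr rfl (fun x _ => this x),
      Finset.sum_ite_eq' Finset.univ il (fun _ => (1 : F)), if_pos (Finset.mem_univ _)]
  · simp only [colF_inr, Sum.elim_inr]
    exact sum_phiF_left k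

theorem uw_u0_w0 : UW (u0 m (1 : F)) (w0 m (1 : F)) where
  hwe := by
    intro i j hij
    rw [ap_w0_eV]
    have hi := i.2
    have hj := j.2
    funext a
    rcases a with k | k
    · show phiF i k = (eV i - eV j : Fin m ⊕ Fin m → F) (Sum.inl k)
      rw [Pi.sub_apply, eV_inl, eV_inl]
      unfold phiF
      by_cases h1 : k = i
      · have : ¬ k = j := by intro h; rw [h1] at h; rw [h] at hij; omega
        rw [if_pos h1, if_pos h1, if_neg this, sub_zero]
      · by_cases h2 : (k : ℕ) = (i : ℕ) + 1
        · have : k = j := Fin.ext (by omega)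
          rw [if_neg h1, if_pos h2, if_neg h1, if_pos this, zero_sub]
        · have : ¬ k = j := by intro h; rw [h] at h2; omega
          rw [if_neg h1, if_neg h2, if_neg h1, if_neg this, sub_zero]
    · show (if (i : ℕ) + 1 = m then -(1 : F) else 0) = (eV i - eV j : Fin m ⊕ Fin m → F) (Sum.inr k)
      rw [Pi.sub_apply, eV_inr, eV_inr, sub_zero, if_neg (by omega)]
  hue := by
    intro i j hij
    rw [ap_sub, ap_u0_eV, ap_u0_eV]
    funext a
    rcases a with k | k
    · rw [Pi.sub_apply, Pi.neg_apply, colE_inl, colE_inl, eV_inl]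
      by_cases h1 : k ≤ i
      · have h2 : k ≤ j := by
          apply Fin.le_def.2; have := Fin.le_def.1 h1; omega
        have h3 : ¬ k = j := by
          intro h; rw [h] at h1; have := Fin.le_def.1 h1; omega
        rw [if_pos h1, if_pos h2, if_neg h3, sub_self, neg_zero]
      · by_cases h3 : k = j
        · rw [if_neg h1, if_pos (by rw [h3]), if_pos h3, zero_sub]
        · have h2 : ¬ k ≤ j := by
            intro h
            have h4 := Fin.le_def.1 h
            have h5 : ¬ ((k : ℕ) ≤ (i : ℕ)) := fun h => h1 (Fin.le_def.2 h)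
            have h6 : (k : ℕ) ≠ (j : ℕ) := fun h => h3 (Fin.ext h)
            omega
          rw [if_neg h1, if_neg h2, if_neg h3, sub_self, neg_zero]
    · rw [Pi.sub_apply, Pi.neg_apply, colE_inr, colE_inr, eV_inr, sub_self, neg_zero]
  hlast := by
    intro i0 il hi0 hil
    rw [ap_w0_eV]
    have e : (rowE (1 : F) il : Fin m ⊕ Fin m → F) = eV il - rowF il := by
      funext a
      rcases a with k | k
      · show phiF il k = (eV il - rowF il : Fin m ⊕ Fin m → F) (Sum.inl k)
        rw [Pi.sub_apply, eV_inl]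
        show _ = _ - (0 : F)
        rw [sub_zero]
        unfold phiF
        have := k.2
        by_cases h1 : k = il
        · rw [if_pos h1, if_pos h1]
        · rw [if_neg h1, if_neg (by omega), if_neg h1]
      · show (if (il : ℕ) + 1 = m then -(1 : F) else 0) = (eV il - rowF il : Fin m ⊕ Fin m → F) (Sum.inr k)
        rw [Pi.sub_apply, eV_inr, if_pos hil]
        show _ = 0 - (if k ≤ il then (1 : F) else 0)
        have : k ≤ il := by apply Fin.le_def.2; have := k.2; omega
        rw [if_pos this, zero_sub]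
    rw [e, ap_sub, ap_u0_eV]
    funext a
    rw [Pi.sub_apply, ap_u0_rowF_last il hil a]
    rcases a with k | k
    · rw [colE_inl, Sum.elim_inl, Pi.neg_apply, fV_inl, neg_zero]
      have : k ≤ il := by apply Fin.le_def.2; have := k.2; omega
      rw [if_pos this, sub_self]
    · rw [colE_inr, Sum.elim_inr, Pi.neg_apply, fV_inr, zero_sub]
      have : ((k : ℕ) = 0) ↔ k = i0 := by
        constructor
        · intro h; apply Fin.ext; omega
        · intro h; rw [h]; exact hi0
      simp only [this]
  huf := by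
    intro i j hij
    rw [ap_u0_fV]
    have hi := i.2
    have hj := j.2
    funext a
    rcases a with k | k
    · rw [colF_inl, Pi.sub_apply, fV_inl, fV_inl, sub_zero, if_neg (by omega)]
    · rw [colF_inr, Pi.sub_apply, fV_inr, fV_inr]
      unfold phiF
      by_cases h1 : k = i
      · have : ¬ k = j := by intro h; rw [h1] at h; rw [h] at hij; omega
        rw [if_pos h1, if_pos h1, if_neg this, sub_zero]
      · by_cases h2 : (k : ℕ) = (i : ℕ) + 1
        · have : k = j := Fin.ext (by omega)
          rw [if_neg h1, if_pos h2, if_neg h1, if_pos this, zero_sub]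
        · have : ¬ k = j := by intro h; rw [h] at h2; omega
          rw [if_neg h1, if_neg h2, if_neg h1, if_neg this, sub_zero]
  hwf := by
    intro i j hij
    rw [ap_sub, ap_w0_fV, ap_w0_fV]
    funext a
    rcases a with k | k
    · rw [Pi.sub_apply, Pi.neg_apply, fV_inl, neg_zero]
      show (0 : F) - 0 = 0
      rw [sub_zero]
    · rw [Pi.sub_apply, Pi.neg_apply, fV_inr]
      show (if k ≤ i then (1 : F) else 0) - (if k ≤ j then 1 else 0) = _
      by_cases h1 : k ≤ i
      · have h2 : k ≤ j := by
          apply Fin.le_def.2; have := Fin.le_def.1 h1; omega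
        have h3 : ¬ k = j := by
          intro h; rw [h] at h1; have := Fin.le_def.1 h1; omega
        rw [if_pos h1, if_pos h2, if_neg h3, sub_self, neg_zero]
      · by_cases h3 : k = j
        · rw [if_neg h1, if_pos (by rw [h3]), if_pos h3, zero_sub]
        · have h2 : ¬ k ≤ j := by
            intro h
            have h4 := Fin.le_def.1 h
            have h5 : ¬ ((k : ℕ) ≤ (i : ℕ)) := fun h => h1 (Fin.le_def.2 h)
            have h6 : (k : ℕ) ≠ (j : ℕ) := fun h => h3 (Fin.ext h)
            omega
          rw [if_neg h1, if_neg h2, if_neg h3, sub_self, neg_zero]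
  hwafl := by
    intro il hil
    rw [ap_add, ap_w0_eV, ap_w0_fV]
    funext a
    rcases a with k | k
    · rw [Pi.add_apply, eV_inl]
      show phiF il k + (0 : F) = _
      rw [add_zero]
      unfold phiF
      have := k.2
      by_cases h1 : k = il
      · rw [if_pos h1, if_pos h1]
      · rw [if_neg h1, if_neg (by omega), if_neg h1]
    · rw [Pi.add_apply, eV_inr]
      show (if (il : ℕ) + 1 = m then -(1 : F) else 0) + (if k ≤ il then (1 : F) else 0) = 0
      have : k ≤ il := by apply Fin.le_def.2; have := k.2; omega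
      rw [if_pos hil, if_pos this, neg_add_cancel]
  huflp := by
    intro ip il hip hil
    rw [ap_sub, ap_u0_fV, ap_u0_eV]
    funext a
    rcases a with k | k
    · rw [Pi.sub_apply, colF_inl, colE_inl, Pi.add_apply, eV_inl, fV_inl, add_zero, if_pos hil]
      have hk := k.2
      by_cases h1 : k ≤ ip
      · have : ¬ k = il := by
          intro h; rw [h] at h1; have := Fin.le_def.1 h1; omega
        rw [if_pos h1, if_neg this, sub_self]
      · have : k = il := by
          apply Fin.ext
          have h5 : ¬ ((k : ℕ) ≤ (ip : ℕ)) := fun h => h1 (Fin.le_def.2 h)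
          omega
        rw [if_neg h1, if_pos this, sub_zero]
    · rw [Pi.sub_apply, colF_inr, colE_inr, sub_zero, Pi.add_apply, eV_inr, fV_inr, zero_add]
      unfold phiF
      have := k.2
      by_cases h1 : k = il
      · rw [if_pos h1, if_pos h1]
      · rw [if_neg h1, if_neg (by omega), if_neg h1]
  huafl := by
    intro il hil h2
    rw [ap_add, ap_u0_eV, ap_u0_fV]
    funext a
    rcases a with k | k
    · rw [Pi.add_apply, colE_inl, colF_inl, fV_inl, if_pos hil]
      have : k ≤ il := by apply Fin.le_def.2; have := k.2; omega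
      rw [if_pos this]
      rw [← h2]; norm_num
    · rw [Pi.add_apply, colE_inr, colF_inr, zero_add, fV_inr]
      unfold phiF
      have := k.2
      by_cases h1 : k = il
      · rw [if_pos h1, if_pos h1]
      · rw [if_neg h1, if_neg (by omega), if_neg h1]

end Cfsg.Agent.Lib.Helper25.SpReg
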