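/-
helper25: S2281, odd characteristic, `3 ≤ m`: the frozen conclusion, with `u = u0 1`,
`g = gQ ζ` (helper19's one-step conjugate, `g u g⁻¹ = Tr e_0 ζ * u`), `h = J`.
-/
import Mathlib
import Cfsg.Agent.Lib.Helper19.RegSpG
import Cfsg.Agent.Lib.Helper25.SpRegInst

set_option autoImplicit false

namespace Cfsg.Agent.Lib.Helper25.SpReg

open Matrix Cfsg.Agent.Lib.Helper5 Cfsg.Agent.Lib.Helper14 Cfsg.Agent.Lib.Helper14.SpPerfect
open Cfsg.Agent.Lib.Helper6.SpGen Cfsg.Agent.Lib.Helper26.RegSp Cfsg.Agent.Lib.Helper19.RegSpG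

variable {F : Type*} [Field F] {m : ℕ}

/-- transport of a long root element along the chain `e_0 → e_1 → …` -/
theorem Tr_eV_of_first {M : Subgroup (Matrix.symplecticGroup (Fin m) F)}
    {u w : Matrix.symplecticGroup (Fin m) F} (H : UW u w) (hu : u ∈ M) (hw : w ∈ M)
    (hm : 0 < m) {γ : F} (h0 : Tr (eV ⟨0, hm⟩ : Fin m ⊕ Fin m → F) γ ∈ M) :
    ∀ n : ℕ, ∀ i : Fin m, i.val = n → Tr (eV i : Fin m ⊕ Fin m → F) γ ∈ M := by
  intro n
  induction n with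
  | zero =>
    intro i hi
    have : i = ⟨0, hm⟩ := Fin.ext hi
    rw [this]; exact h0
  | succ n ih =>
    intro j hj
    have hn : n < m := by have := j.2; omega
    have hi := ih ⟨n, hn⟩ rfl
    have e1 : ap (u * w) (eV (⟨n, hn⟩ : Fin m)) = (-eV j : Fin m ⊕ Fin m → F) := by
      rw [ap_mul, H.hwe ⟨n, hn⟩ j (by simpa using hj), H.hue ⟨n, hn⟩ j (by simpa using hj)]
    exact Tr_mem_of_ap_neg (M.mul_mem hu hw) e1 hi

/-- **S2281 for odd `q` and `n ≥ 3`** -/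
theorem odd_three_le [Fintype F] (h2 : (2 : F) ≠ 0) (hm : 3 ≤ m) :
    ∃ u g h : Matrix.symplecticGroup (Fin m) F,
      IsNilpotent ((u : Matrix (Fin m ⊕ Fin m) (Fin m ⊕ Fin m) F) - 1) ∧
      ((u : Matrix (Fin m ⊕ Fin m) (Fin m ⊕ Fin m) F) - 1) ^ (2 * m - 1) ≠ 0 ∧
      Subgroup.closure ({u, g * u * g⁻¹, h * u * h⁻¹} :
        Set (Matrix.symplecticGroup (Fin m) F)) = ⊤ := by
  classical
  obtain ⟨ζ, hζ⟩ := IsCyclic.exists_monoid_generator (α := Fˣ)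
  have hm0 : 0 < m := by omega
  refine ⟨u0 m 1, gQ hm (ζ : F), Jsp m F, (u0_regular hm0 one_ne_zero).1,
    (u0_regular hm0 one_ne_zero).2, ?_⟩
  set M : Subgroup (Matrix.symplecticGroup (Fin m) F) :=
    Subgroup.closure ({u0 m 1, gQ hm (ζ : F) * u0 m 1 * (gQ hm (ζ : F))⁻¹,
      Jsp m F * u0 m 1 * (Jsp m F)⁻¹} : Set (Matrix.symplecticGroup (Fin m) F)) with hM
  have hu : u0 m (1 : F) ∈ M := Subgroup.subset_closure (by simp)
  have hg : gQ hm (ζ : F) * u0 m (1 : F) * (gQ hm (ζ : F))⁻¹ ∈ M :=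
    Subgroup.subset_closure (by simp)
  have hw : w0 m (1 : F) ∈ M := Subgroup.subset_closure (by simp [w0])
  have ht : Tr (eV ⟨0, hm0⟩ : Fin m ⊕ Fin m → F) (ζ : F) ∈ M := Tr_e0_mem hm (ζ : F) 1 M hu hg
  have hil : m - 1 < m := by omega
  have hip : m - 2 < m := by omega
  have htl := Tr_eV_of_first (uw_u0_w0 (F := F) (m := m)) hu hw hm0 ht (m - 1) ⟨m - 1, hil⟩ rfl
  exact core_odd (by omega) h2 (uw_u0_w0 (F := F) (m := m)) hu hw ⟨m - 2, hip⟩ ⟨m - 1, hil⟩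
    (by show m - 1 = m - 2 + 1; omega) (by show m - 1 + 1 = m; omega) ζ hζ htl

end Cfsg.Agent.Lib.Helper25.SpReg
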