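/-
helper25: the symplectic transvection groups `T(p)` of `Sp_{2m}(F)` form a degenerate class of
abstract `F`-root subgroups with connected graph of rank one pairs.
-/
import Mathlib
import Cfsg.Prelude.Def_RootSubgroups
import Cfsg.Prelude.Def_ClassicalGeometry
import Cfsg.Agent.Lib.Helper25.SLRoot5
import Cfsg.Agent.Lib.Helper25.RootTransfer
import Cfsg.Agent.Lib.Helper25.RootGraphs
import Cfsg.Agent.Lib.Helper5.SympGen2

set_option autoImplicit false

namespace Cfsg.Agent.Lib.Helper25.SpRoot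

open Cfsg Matrix
open Cfsg.Agent.Lib.Helper25 Cfsg.Agent.Lib.Helper25.SLRoot Cfsg.Agent.Lib.Helper5

variable {F : Type*} [Field F] {m : ℕ}

/-- the inclusion of `Sp` into `SL`. -/
def toSL (m : ℕ) (F : Type*) [Field F] :
    ↥(Matrix.symplecticGroup (Fin m) F) →* Matrix.SpecialLinearGroup (Fin m ⊕ Fin m) F where
  toFun g := ⟨(g : Matrix (Fin m ⊕ Fin m) (Fin m ⊕ Fin m) F), SymplecticGroup.det_eq_one g.2⟩
  map_one' := rfl
  map_mul' _ _ := rfl

theorem toSL_coe (g : ↥(Matrix.symplecticGroup (Fin m) F)) :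
    (↑(toSL m F g) : Matrix (Fin m ⊕ Fin m) (Fin m ⊕ Fin m) F) =
      (g : Matrix (Fin m ⊕ Fin m) (Fin m ⊕ Fin m) F) := rfl

theorem toSL_injective : Function.Injective (toSL m F) := by
  intro a b h
  apply Subtype.ext
  have := congrArg (fun x : Matrix.SpecialLinearGroup (Fin m ⊕ Fin m) F =>
    (↑x : Matrix (Fin m ⊕ Fin m) (Fin m ⊕ Fin m) F)) h
  exact this

/-- the symplectic transvection as an element of `Sp`. -/
def spTv (p : Fin m ⊕ Fin m → F) (c : F) : ↥(Matrix.symplecticGroup (Fin m) F) :=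
  ⟨Cfsg.sympTransvection m p c, sympTransvection_mem m p c⟩

/-- the transvection group with centre `p`, as in the statement. -/
def spT (p : Fin m ⊕ Fin m → F) : Subgroup ↥(Matrix.symplecticGroup (Fin m) F) :=
  Subgroup.closure {g : ↥(Matrix.symplecticGroup (Fin m) F) | ∃ c : F, ∀ v : Fin m ⊕ Fin m → F,
    (g : Matrix (Fin m ⊕ Fin m) (Fin m ⊕ Fin m) F) *ᵥ v =
      v + (c * (v ⬝ᵥ (Matrix.J (Fin m) F *ᵥ p))) • p}

theorem J_dot (p : Fin m ⊕ Fin m → F) : (Matrix.J (Fin m) F *ᵥ p) ⬝ᵥ p = 0 := J_dot_self m p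

theorem J_mulVec_ne_zero {p : Fin m ⊕ Fin m → F} (hp : p ≠ 0) : Matrix.J (Fin m) F *ᵥ p ≠ 0 := by
  intro e
  apply hp
  have := J_mulVec_J_mulVec m p
  rw [e, mulVec_zero] at this
  rw [← neg_eq_zero, ← this]

theorem toSL_spTv (p : Fin m ⊕ Fin m → F) (c : F) :
    toSL m F (spTv p c) = tvSL p (Matrix.J (Fin m) F *ᵥ p) (J_dot p) c := by
  apply Subtype.ext
  rfl

theorem genSet_eq (p : Fin m ⊕ Fin m → F) :
    {g : ↥(Matrix.symplecticGroup (Fin m) F) | ∃ c : F, ∀ v : Fin m ⊕ Fin m → F,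
      (g : Matrix (Fin m ⊕ Fin m) (Fin m ⊕ Fin m) F) *ᵥ v =
        v + (c * (v ⬝ᵥ (Matrix.J (Fin m) F *ᵥ p))) • p} = Set.range (spTv p) := by
  ext g
  constructor
  · rintro ⟨c, hc⟩
    refine ⟨c, ?_⟩
    apply Subtype.ext
    rw [Matrix.ext_iff_mulVec]
    intro v
    rw [hc v]
    show Cfsg.sympTransvection m p c *ᵥ v = _
    rw [sympTransvection_mulVec]
    rfl
  · rintro ⟨c, rfl⟩
    refine ⟨c, fun v => ?_⟩
    show Cfsg.sympTransvection m p c *ᵥ v = _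
    rw [sympTransvection_mulVec]
    rfl

theorem map_spT (p : Fin m ⊕ Fin m → F) :
    (spT p).map (toSL m F) = TV p (Matrix.J (Fin m) F *ᵥ p) (J_dot p) := by
  unfold spT
  rw [genSet_eq, MonoidHom.map_closure]
  have : (toSL m F) '' Set.range (spTv p) =
      ((TV p (Matrix.J (Fin m) F *ᵥ p) (J_dot p) :
        Subgroup (Matrix.SpecialLinearGroup (Fin m ⊕ Fin m) F)) :
        Set (Matrix.SpecialLinearGroup (Fin m ⊕ Fin m) F)) := by
    ext x
    rw [SetLike.mem_coe, mem_TV]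
    constructor
    · rintro ⟨_, ⟨c, rfl⟩, rfl⟩
      exact ⟨c, (toSL_spTv p c).symm⟩
    · rintro ⟨c, rfl⟩
      exact ⟨spTv p c, ⟨c, rfl⟩, toSL_spTv p c⟩
  rw [this, Subgroup.closure_eq]

theorem spTv_mem (p : Fin m ⊕ Fin m → F) (c : F) : spTv p c ∈ spT p := by
  unfold spT
  rw [genSet_eq]
  exact Subgroup.subset_closure ⟨c, rfl⟩

/-- conjugation moves the centre. -/
theorem conjBy_spT (p : Fin m ⊕ Fin m → F) (g : ↥(Matrix.symplecticGroup (Fin m) F)) :
    conjBy (spT p) g = spT ((g : Matrix (Fin m ⊕ Fin m) (Fin m ⊕ Fin m) F) *ᵥ p) := by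
  apply Subgroup.map_injective (toSL_injective (m := m) (F := F))
  rw [map_conjBy, map_spT, map_spT, conjBy_TV]
  apply TV_congr
  · rfl
  · -- `(J p) g⁻¹ = J (g p)`
    have hinv : (↑((toSL m F g)⁻¹) : Matrix (Fin m ⊕ Fin m) (Fin m ⊕ Fin m) F) =
        -Matrix.J (Fin m) F * (g : Matrix (Fin m ⊕ Fin m) (Fin m ⊕ Fin m) F)ᵀ *
          Matrix.J (Fin m) F := by
      rw [← map_inv, toSL_coe, SymplecticGroup.coe_inv]
    rw [hinv, ← vecMul_vecMul, ← vecMul_vecMul, vecMul_neg, J_mulVec_vecMul_J, neg_vecMul,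
      vecMul_transpose, neg_vecMul, vecMul_J, neg_neg]

/-- the set of symplectic transvection groups. -/
def spS (m : ℕ) (F : Type*) [Field F] : Set (Subgroup ↥(Matrix.symplecticGroup (Fin m) F)) :=
  {A | ∃ p : Fin m ⊕ Fin m → F, p ≠ 0 ∧ A = spT p}

theorem form_swap (p q : Fin m ⊕ Fin m → F) :
    (Matrix.J (Fin m) F *ᵥ q) ⬝ᵥ p = -((Matrix.J (Fin m) F *ᵥ p) ⬝ᵥ q) := by
  have := sympForm_swap m p q
  unfold Cfsg.sympForm at this
  rw [dotProduct_comm, this, dotProduct_comm]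

theorem spT_rankOne {p q : Fin m ⊕ Fin m → F} (hp : p ≠ 0) (hq : q ≠ 0)
    (h1 : (Matrix.J (Fin m) F *ᵥ p) ⬝ᵥ q ≠ 0) :
    IsRankOnePair (spT p) (spT q) ∧ IsPSL2PairOver F (spT p) (spT q) := by
  have h2 : (Matrix.J (Fin m) F *ᵥ q) ⬝ᵥ p ≠ 0 := by
    rw [form_swap]; exact neg_ne_zero.2 h1
  constructor
  · apply rankOnePair_of_map_injective (toSL m F) toSL_injective
    rw [map_spT, map_spT]
    exact rankOnePair_of (J_dot p) (J_dot q) hp (J_mulVec_ne_zero hp) hq (J_mulVec_ne_zero hq)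
      h1 h2
  · apply psl2Pair_of_map_injective (toSL m F) toSL_injective
    rw [map_spT, map_spT]
    exact psl2Pair_of (J_dot p) (J_dot q) h1 h2

/-- the dichotomy. -/
theorem spT_dichotomy {p q : Fin m ⊕ Fin m → F} (hp : p ≠ 0) (hq : q ≠ 0) :
    ⁅spT p, spT q⁆ = ⊥ ∨ (IsRankOnePair (spT p) (spT q) ∧ IsPSL2PairOver F (spT p) (spT q)) := by
  by_cases h1 : (Matrix.J (Fin m) F *ᵥ p) ⬝ᵥ q = 0
  · left
    have h2 : (Matrix.J (Fin m) F *ᵥ q) ⬝ᵥ p = 0 := by rw [form_swap, h1, neg_zero]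
    apply commutator_eq_bot_of_map_injective (toSL m F) toSL_injective
    rw [map_spT, map_spT]
    exact commutator_eq_bot_of (J_dot p) (J_dot q) h1 h2
  · exact Or.inr (spT_rankOne hp hq h1)

theorem spT_ne_bot {p : Fin m ⊕ Fin m → F} (hp : p ≠ 0) : spT p ≠ ⊥ := by
  intro e
  have h := map_spT p
  rw [e, Subgroup.map_bot] at h
  exact TV_ne_bot (J_dot p) hp (J_mulVec_ne_zero hp) h.symm

theorem spS_isRootSubgroupSet : IsRootSubgroupSet (spS m F) := by
  refine ⟨?_, ?_, ?_, ?_, ?_⟩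
  · rintro A ⟨p, hp, rfl⟩
    apply isMulCommutative_of_map_injective (toSL m F) toSL_injective
    rw [map_spT]
    exact TV_comm _
  · rintro A ⟨p, hp, rfl⟩
    exact spT_ne_bot hp
  · rw [eq_top_iff, ← transvGroup_eq_top]
    unfold transvGroup
    rw [Subgroup.closure_le]
    rintro A ⟨w, c, hA⟩
    by_cases hw : w = 0
    · have : A = 1 := by
        apply Subtype.ext
        rw [hA, hw]
        unfold Cfsg.sympTransvection
        rw [Matrix.zero_vecMulVec, smul_zero, add_zero]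
        rfl
      rw [this]
      exact one_mem _
    · have hmem : A ∈ spT w := by
        have : A = spTv w c := Subtype.ext hA
        rw [this]
        exact spTv_mem w c
      exact (le_iSup₂ (f := fun (B : Subgroup ↥(Matrix.symplecticGroup (Fin m) F))
        (_ : B ∈ spS m F) => B) (spT w) ⟨w, hw, rfl⟩) hmem
  · rintro A ⟨p, hp, rfl⟩ g
    refine ⟨(g : Matrix (Fin m ⊕ Fin m) (Fin m ⊕ Fin m) F) *ᵥ p, ?_, conjBy_spT p g⟩
    exact mulVec_ne_zero' (toSL m F g) hp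
  · rintro A ⟨p, hp, rfl⟩ B ⟨q, hq, rfl⟩
    rcases spT_dichotomy hp hq with h | h
    · exact Or.inl h
    · exact Or.inr (Or.inl h.1)

theorem spS_conjClass (hm : 0 < m) : IsConjClassOfSubgroups (spS m F) := by
  refine ⟨?_, ?_⟩
  · refine ⟨spT (Pi.single (Sum.inl ⟨0, hm⟩) 1), _, ?_, rfl⟩
    exact Pi.single_ne_zero_iff.2 one_ne_zero
  · rintro A ⟨p, hp, rfl⟩ B ⟨q, hq, rfl⟩
    obtain ⟨g, -, hg⟩ := transv_trans1 p q hp hq
    exact ⟨g, by rw [conjBy_spT, hg]⟩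

theorem spS_degenerate : IsDegenerateRootSet (spS m F) := by
  rintro A ⟨p, hp, rfl⟩ B ⟨q, hq, rfl⟩ hc
  rcases spT_dichotomy hp hq with h | h
  · have hmem := hc.1
    rw [h] at hmem
    obtain ⟨r, hr, hbot⟩ := hmem
    exact spT_ne_bot hr hbot.symm
  · exact rankOne_not_commutatorCase h.1 hc

theorem spS_kroot : IsKRootSubgroupSet F (spS m F) := by
  refine ⟨spS_isRootSubgroupSet, ?_⟩
  rintro A ⟨p, hp, rfl⟩ B ⟨q, hq, rfl⟩ hAB
  rcases spT_dichotomy hp hq with h | h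
  · exact absurd h (rankOne_commutator_ne_bot hAB)
  · exact h.2

theorem spS_connected (hm : 0 < m) : IsConnectedFamily (FAdj (spS m F)) (spS m F) := by
  apply class_connected spS_isRootSubgroupSet (spS_conjClass hm)
  have hp : (Pi.single (Sum.inl ⟨0, hm⟩) 1 : Fin m ⊕ Fin m → F) ≠ 0 :=
    Pi.single_ne_zero_iff.2 one_ne_zero
  obtain ⟨a, ha⟩ := sympForm_nondeg (Pi.single (Sum.inl ⟨0, hm⟩) 1 : Fin m ⊕ Fin m → F) hp
  have ha0 : a ≠ 0 := by
    rintro rfl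
    apply ha
    unfold Cfsg.sympForm
    rw [mulVec_zero, dotProduct_zero]
  have h1 : (Matrix.J (Fin m) F *ᵥ (Pi.single (Sum.inl ⟨0, hm⟩) 1 : Fin m ⊕ Fin m → F)) ⬝ᵥ a
      ≠ 0 := by
    intro e
    apply ha
    unfold Cfsg.sympForm
    rw [dotProduct_comm, form_swap, e, neg_zero]
  exact ⟨_, ⟨_, hp, rfl⟩, _, ⟨a, ha0, rfl⟩, (spT_rankOne hp ha0 h1).1⟩

/-- the main theorem. -/
theorem spS_main (hm : 0 < m) :
    IsRootSubgroupClass (spS m F) ∧ IsDegenerateRootSet (spS m F) ∧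
      IsKRootSubgroupSet F (spS m F) ∧ IsConnectedFamily (FAdj (spS m F)) (spS m F) :=
  ⟨⟨spS_isRootSubgroupSet, spS_conjClass hm⟩, spS_degenerate, spS_kroot, spS_connected hm⟩

end Cfsg.Agent.Lib.Helper25.SpRoot
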