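import Mathlib
import Cfsg.Agent.Lib.Helper25.SpTT
import Cfsg.Agent.Lib.Helper25.SpTNDefs
import Cfsg.Agent.Lib.Helper13.SpTSB
import Cfsg.Agent.Lib.Helper13.SpTI1
import Cfsg.Agent.Lib.Helper13.SpTNKA
import Cfsg.Agent.Lib.Helper13.SpTNZ
import Cfsg.Agent.Lib.Helper13.SpTNFin
import Cfsg.Agent.Lib.Helper7.SpTN
import Cfsg.Agent.Lib.Helper23.SpTKGlt
import Cfsg.Agent.Lib.Helper27.SpTGFinal
import Cfsg.Agent.Lib.Helper27.SpTNAlg
import Cfsg.Agent.Lib.Helper9.SpTNU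
import Cfsg.Agent.Lib.Helper9.SpTNIso
import Cfsg.Agent.Lib.Helper1.SpTNC
import Cfsg.Agent.Lib.Helper1.SpTND
import Cfsg.Agent.Lib.Helper1.SpTNE
import Cfsg.Agent.Lib.Helper19.SpTNMain

/-!
S5704: assembly of the core theorem from the leaves of the hierarchical market
(parts (I), (N1), (N2), (G)).
-/

set_option autoImplicit false
set_option linter.unusedSectionVars false
set_option linter.unusedVariables false

namespace Cfsg.Agent.Lib.Helper25.SpTMain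
open Matrix QuadraticMap
open Cfsg.Agent.Lib.Helper25.Tens Cfsg.Agent.Lib.Helper25.TensLeaves Cfsg.Agent.Lib.Helper19.OSub
open Cfsg.Agent.Lib.Helper25.SpT
open scoped Kronecker

variable {F : Type*} [Field F] [Fintype F] {a b : ℕ} {Q : QuadraticForm F (Idx a b → F)}
  {M : Subgroup (GL (Idx a b) F)}

/-! ## assembly -/

theorem stageI (h : MCtx a b Q M) (o : Fin b) (hne : ¬ M ≤ KG a b F) : R1 M := by
  by_contra hR
  have h0 : PI o M 0 := by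
    obtain ⟨m, hm, hmK⟩ := SetLike.not_le_iff_exists.mp hne
    exact ⟨m, hm, hmK, fun i hi => absurd hi (Nat.not_lt_zero _)⟩
  have hd : ∀ d, d ≤ a → PI o M d := by
    intro d
    induction d with
    | zero => intro _; exact h0
    | succ d ih =>
      intro hda
      exact (Cfsg.Agent.Lib.Helper13.SpTLeaf.stageI_step h o d (by omega)
        (ih (by omega))).resolve_right hR
  exact hR (Cfsg.Agent.Lib.Helper25.TensLeaf.stageI_top o M (hd a le_rfl))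

/-- assembly of the rigid half -/
theorem rigid_root (h : MCtx a b Q M) (o o' : Fin b) (ho : o.val = 0) (ho' : o'.val = 1)
    (hR2 : R2 o M) (hrig : ¬ NR o o' M) : 4 ≤ a ∧ RootA Q M := by
  obtain ⟨g, hgM, hgK, hg⟩ := hR2
  obtain ⟨h₁, hgo, hgo'⟩ := Cfsg.Agent.Lib.Helper25.TensLeaf.stab_data o g hg
  have hiso : g ∈ Cfsg.isometryGroup F ⇑Q := M_le_iso h hgM
  have hsc := Cfsg.Agent.Lib.Helper1.SpTNLeaf.rigid_scalars h o o' ho ho' hrig g hgM h₁ hgo hgo'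
  obtain ⟨β₀, μ, hμ, hα, hβ, hU⟩ :=
    Cfsg.Agent.Lib.Helper1.SpTNLeaf.exists_k0 h.toCtx o o' ho ho' g hiso h₁ hgo hgo' hsc
  have hφ := Cfsg.Agent.Lib.Helper1.SpTNLeaf.phi_scalar h o o' ho ho' hrig g hgM h₁ β₀ μ hμ hα hU
  have hk0 : (kel h₁⁻¹ β₀ : GL (Idx a b) F) ∈ Cfsg.isometryGroup F ⇑Q :=
    kel_mem_iso h.toCtx _ _ μ μ⁻¹ (mul_inv_cancel₀ hμ) hα hβ
  have hu : (g * kel h₁⁻¹ β₀ : GL (Idx a b) F) ∈ Cfsg.isometryGroup F ⇑Q :=
    (Cfsg.isometryGroup F ⇑Q).mul_mem hiso hk0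
  obtain ⟨z, Θ, hz, hΘ, hE⟩ :=
    Cfsg.Agent.Lib.Helper13.SpTNLeaf.zpart h.toCtx o o' ho ho' _ hu hU hφ
  exact Cfsg.Agent.Lib.Helper13.SpTNLeaf.rigid_final h o o' ho ho' g hgM hgK h₁ β₀ μ hμ hα z Θ hz
    hΘ hE

theorem lemmaN (h : MCtx a b Q M) (o : Fin b) (ho : o.val = 0) (hR2 : R2 o M) :
    RootB Q M ∨ (4 ≤ a ∧ RootA Q M) := by
  have hb : 1 < b := by have := h.hab; have := h.ha; omega
  by_cases hNR : NR o ⟨1, hb⟩ M
  · exact Or.inl (Cfsg.Agent.Lib.Helper19.SpTNMain.nonrigid_root h o ⟨1, hb⟩ ho rfl hNR)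
  · exact Or.inr (rigid_root h o ⟨1, hb⟩ ho rfl hR2 hNR)

theorem core (h : Ctx a b Q) (hex : ¬ (Fintype.card F = 2 ∧ a = 2)) :
    Cfsg.Geo.IsMaximalIn (Cfsg.Geo.omegaGL ⇑Q) (KG a b F ⊓ Cfsg.Geo.omegaGL ⇑Q) := by
  refine ⟨Cfsg.Agent.Lib.Helper23.SpTLeaf.KG_lt h, ?_⟩
  intro M hKM hMO
  by_cases hne : M ≤ KG a b F
  · left
    exact le_antisymm (le_inf hne hMO) hKM
  · right
    have hb : 0 < b := by have := h.hab; omega
    have hctx : MCtx a b Q M := { h with hex := hex, le := hKM, le_om := hMO }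
    have hR1 := stageI hctx ⟨0, hb⟩ hne
    have hR2 := Cfsg.Agent.Lib.Helper7.SpTLeaf.normalize hctx ⟨0, hb⟩ hR1
    have hroot := lemmaN hctx ⟨0, hb⟩ rfl hR2
    exact le_antisymm hMO (Cfsg.Agent.Lib.Helper27.SpTGLeaf.omega_le_of_root h hMO
      (fun x c => kA_mem hctx x c) (fun y c => kB_mem hctx y c) hroot)

theorem final {n : ℕ} (hn : 13 ≤ n) (Q₀ : (Fin n → F) → F)
    (hQ : Cfsg.Geo.IsNondegenerateQuadraticForm Q₀) (n₁ n₂ : ℕ) (h12 : n₁ < n₂)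
    (hex : ¬ (Fintype.card F = 2 ∧ n₁ = 2)) (e : (Fin n) ≃ Fin n₁ × Fin n₂)
    (P : Matrix.GeneralLinearGroup (Fin n) F) (f₁ : (Fin n₁ → F) → (Fin n₁ → F) → F)
    (f₂ : (Fin n₂ → F) → (Fin n₂ → F) → F) (hf₁ : Cfsg.Geo.IsSymplecticForm f₁)
    (hf₂ : Cfsg.Geo.IsSymplecticForm f₂)
    (hT : Cfsg.Geo.IsTensorFormStructure id (QuadraticMap.polar Q₀) f₁ f₂ e P)
    (hpure : ∀ (x₁ : Fin n₁ → F) (x₂ : Fin n₂ → F), Q₀ (Matrix.mulVec (P : Matrix (Fin n) (Fin n) F)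
      ((fun p : Fin n₁ × Fin n₂ => x₁ p.1 * x₂ p.2) ∘ e)) = 0) :
    Cfsg.Geo.IsMaximalIn (Cfsg.Geo.omegaGL Q₀)
      (Cfsg.Geo.tensorProductSubgroup n₁ n₂ e P ⊓ Cfsg.Geo.omegaGL Q₀) := by
  have hcard : n = n₁ * n₂ := by
    have := Fintype.card_congr e
    simpa using this
  apply Cfsg.Agent.Lib.Helper25.SpTLeaf.transport hn Q₀ hQ n₁ n₂ h12 hex e P f₁ f₂ hf₁ hf₂ hT hpure
  intro Q' hnd hp hpol
  exact Cfsg.Agent.Lib.Helper25.SpTLeaf.core_gen_of (fun Q'' h'' => core h'' hex)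
    f₁ f₂ hf₁ hf₂ h12 (by rw [← hcard]; exact hn) Q' hnd hp hpol

end Cfsg.Agent.Lib.Helper25.SpTMain
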