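import Mathlib

set_option autoImplicit false

/-!
# Even central elements of a Clifford algebra are scalars

For a quadratic form `Q` with an orthogonal basis of nonsingular vectors over a field with
`2 ≠ 0`, an element of the Clifford algebra fixed by the grade involution and commuting with all
vectors is a scalar.  The proof only uses that the products of basis vectors span the algebra
(no dimension count): averaging over conjugations by the basis vectors and over the grade
involution kills every such product that is not a scalar.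
-/

namespace Cfsg.Agent.Lib.Helper25.Spin

open Module QuadraticMap CliffordAlgebra

variable {F : Type*} [Field F] {V : Type*} [AddCommGroup V] [Module F V] (Q : QuadraticForm F V)
variable {n : ℕ} (b : Fin n → V)

/-- The product of the basis vectors along a word. -/
noncomputable def ev (w : List (Fin n)) : CliffordAlgebra Q :=
  (w.map (fun i => ι Q (b i))).prod

theorem ev_nil : ev Q b [] = 1 := rfl

theorem ev_cons (i : Fin n) (w : List (Fin n)) : ev Q b (i :: w) = ι Q (b i) * ev Q b w := by
  simp [ev]

theorem ev_append (w₁ w₂ : List (Fin n)) : ev Q b (w₁ ++ w₂) = ev Q b w₁ * ev Q b w₂ := by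
  simp [ev]

/-- The sign picked up when moving `b i` through the word `w`. -/
def sgn (F : Type*) [Field F] (i : Fin n) (w : List (Fin n)) : F := (-1) ^ (w.countP (· ≠ i))

theorem sgn_nil (i : Fin n) : sgn F i [] = 1 := by simp [sgn]

theorem sgn_cons_self (i : Fin n) (w : List (Fin n)) : sgn F i (i :: w) = sgn F i w := by
  simp [sgn]

theorem sgn_cons_ne {i j : Fin n} (h : j ≠ i) (w : List (Fin n)) :
    sgn F i (j :: w) = - sgn F i w := by
  simp [sgn, h, pow_succ]

theorem sgn_eq_or (i : Fin n) (w : List (Fin n)) : sgn F i w = 1 ∨ sgn F i w = -1 :=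
  neg_one_pow_eq_or F _

theorem countP_add_count (i : Fin n) (w : List (Fin n)) :
    w.countP (· ≠ i) + w.count i = w.length := by
  induction w with
  | nil => simp
  | cons j w ih =>
    rw [List.countP_cons, List.count_cons, List.length_cons]
    by_cases h : j = i
    · have h1 : (j == i) = true := by simpa using h
      have h2 : decide (j ≠ i) = false := by simpa using h
      rw [h1, h2]
      simp only [if_true, Bool.false_eq_true, if_false]
      omega
    · have h1 : (j == i) = false := by simpa using h
      have h2 : decide (j ≠ i) = true := by simpa using h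
      rw [h1, h2]
      simp only [if_true, Bool.false_eq_true, if_false]
      omega

variable {Q b}

theorem ι_mul_ev (hb : ∀ i j, i ≠ j → polar Q (b i) (b j) = 0) (i : Fin n)
    (w : List (Fin n)) : ι Q (b i) * ev Q b w = sgn F i w • (ev Q b w * ι Q (b i)) := by
  induction w with
  | nil => simp [ev_nil, sgn_nil]
  | cons j w ih =>
    by_cases h : j = i
    · subst h
      rw [ev_cons, sgn_cons_self]
      calc ι Q (b j) * (ι Q (b j) * ev Q b w)
          = ι Q (b j) * (sgn F j w • (ev Q b w * ι Q (b j))) := by rw [ih]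
        _ = sgn F j w • (ι Q (b j) * (ev Q b w * ι Q (b j))) := mul_smul_comm _ _ _
        _ = sgn F j w • (ι Q (b j) * ev Q b w * ι Q (b j)) := by rw [mul_assoc]
    · have hanti : ι Q (b i) * ι Q (b j) = - (ι Q (b j) * ι Q (b i)) := by
        have := ι_mul_ι_add_swap (Q := Q) (b i) (b j)
        rw [hb i j (Ne.symm h), map_zero] at this
        exact eq_neg_of_add_eq_zero_left this
      rw [ev_cons, sgn_cons_ne h, ← mul_assoc, hanti, neg_mul, mul_assoc, ih, neg_smul,
        mul_smul_comm, mul_assoc]

theorem ev_scalar_of_even (hb : ∀ i j, i ≠ j → polar Q (b i) (b j) = 0) :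
    ∀ (k : ℕ) (w : List (Fin n)), w.length = k → (∀ i, Even (w.count i)) →
      ∃ c : F, ev Q b w = algebraMap F _ c := by
  intro k
  induction k using Nat.strong_induction_on with
  | _ k ih =>
    intro w hk hw
    cases w with
    | nil => exact ⟨1, by rw [ev_nil, map_one]⟩
    | cons i w' =>
      have h1 : i ∈ w' := by
        have := hw i
        rw [List.count_cons_self] at this
        have h2 : 0 < w'.count i := by
          rcases Nat.eq_zero_or_pos (w'.count i) with h0 | h0
          · rw [h0] at this
            exact absurd this (by decide)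
          · exact h0
        exact List.count_pos_iff.1 h2
      obtain ⟨l1, l2, rfl⟩ := List.append_of_mem h1
      have hlen : (l1 ++ l2).length < k := by
        rw [← hk]
        simp
      have hcount : ∀ j, Even ((l1 ++ l2).count j) := by
        intro j
        have := hw j
        rw [List.count_cons, List.count_append, List.count_cons] at this
        rw [List.count_append]
        by_cases hji : i = j
        · subst hji
          simp at this
          rw [Nat.even_iff] at this ⊢
          omega
        · have h3 : (i == j) = false := by simpa using hji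
          simpa [h3] using this
      obtain ⟨c, hc⟩ := ih _ hlen (l1 ++ l2) rfl hcount
      refine ⟨sgn F i l1 * Q (b i) * c, ?_⟩
      rw [ev_append] at hc
      calc ev Q b (i :: (l1 ++ i :: l2))
          = (ι Q (b i) * ev Q b l1) * (ι Q (b i) * ev Q b l2) := by
            rw [ev_cons, ev_append, ev_cons, mul_assoc]
        _ = (sgn F i l1 • (ev Q b l1 * ι Q (b i))) * (ι Q (b i) * ev Q b l2) := by
            rw [ι_mul_ev hb]
        _ = sgn F i l1 • (ev Q b l1 * (ι Q (b i) * ι Q (b i)) * ev Q b l2) := by
            rw [smul_mul_assoc]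
            simp only [mul_assoc]
        _ = sgn F i l1 • (algebraMap F _ (Q (b i)) * (ev Q b l1 * ev Q b l2)) := by
            rw [ι_sq_scalar, ← Algebra.commutes, mul_assoc]
        _ = algebraMap F _ (sgn F i l1 * Q (b i) * c) := by
            rw [hc, ← map_mul, Algebra.smul_def, ← map_mul, mul_assoc]

variable (Q b)

/-- Averaging over the grade involution. -/
noncomputable def Pα : CliffordAlgebra Q →ₗ[F] CliffordAlgebra Q :=
  (2⁻¹ : F) • (LinearMap.id + (involute (Q := Q)).toLinearMap)

/-- Averaging over conjugation by the basis vector `b i`. -/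
noncomputable def Pi (i : Fin n) : CliffordAlgebra Q →ₗ[F] CliffordAlgebra Q :=
  (2⁻¹ : F) • (LinearMap.id + (Q (b i))⁻¹ •
    (LinearMap.mulLeft F (ι Q (b i))).comp (LinearMap.mulRight F (ι Q (b i))))

/-- The composite averaging operator along a list of indices. -/
noncomputable def T : List (Fin n) → (CliffordAlgebra Q →ₗ[F] CliffordAlgebra Q)
  | [] => Pα Q
  | i :: L => (Pi Q b i).comp (T L)

variable {Q b}

theorem Pα_apply (x : CliffordAlgebra Q) : Pα Q x = (2⁻¹ : F) • (x + involute x) := rfl

theorem Pi_apply (i : Fin n) (x : CliffordAlgebra Q) :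
    Pi Q b i x = (2⁻¹ : F) • (x + (Q (b i))⁻¹ • (ι Q (b i) * (x * ι Q (b i)))) := rfl

theorem half_add_self (h2 : (2 : F) ≠ 0) (x : CliffordAlgebra Q) : (2⁻¹ : F) • (x + x) = x := by
  rw [← two_smul F x, smul_smul, inv_mul_cancel₀ h2, one_smul]

theorem Pα_fix (h2 : (2 : F) ≠ 0) {x : CliffordAlgebra Q} (hx : involute x = x) :
    Pα Q x = x := by
  rw [Pα_apply, hx, half_add_self h2]

theorem Pi_fix (h2 : (2 : F) ≠ 0) (i : Fin n) (hi : Q (b i) ≠ 0) {x : CliffordAlgebra Q}
    (hx : ∀ v, ι Q v * x = x * ι Q v) : Pi Q b i x = x := by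
  rw [Pi_apply, ← mul_assoc, hx, mul_assoc, ι_sq_scalar, ← Algebra.commutes, ← Algebra.smul_def,
    smul_smul, inv_mul_cancel₀ hi, one_smul, half_add_self h2]

theorem T_fix (h2 : (2 : F) ≠ 0) (hi : ∀ i, Q (b i) ≠ 0) {x : CliffordAlgebra Q}
    (hx1 : involute x = x) (hx : ∀ v, ι Q v * x = x * ι Q v) (L : List (Fin n)) :
    T Q b L x = x := by
  induction L with
  | nil => exact Pα_fix h2 hx1
  | cons i L ih =>
    show Pi Q b i (T Q b L x) = x
    rw [ih, Pi_fix h2 i (hi i) hx]

theorem Pα_ev (w : List (Fin n)) :
    Pα Q (ev Q b w) = ((2⁻¹ : F) * (1 + (-1) ^ w.length)) • ev Q b w := by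
  rw [Pα_apply]
  have := involute_prod_map_ι (Q := Q) (w.map b)
  rw [List.map_map, List.length_map] at this
  have h3 : ev Q b w = (List.map (⇑(ι Q) ∘ b) w).prod := rfl
  rw [h3, this, ← h3, mul_smul, add_smul, one_smul]

theorem Pi_ev (hb : ∀ i j, i ≠ j → polar Q (b i) (b j) = 0) (i : Fin n) (hi : Q (b i) ≠ 0)
    (w : List (Fin n)) :
    Pi Q b i (ev Q b w) = ((2⁻¹ : F) * (1 + sgn F i w)) • ev Q b w := by
  rw [Pi_apply, ← mul_assoc, ι_mul_ev hb, smul_mul_assoc, mul_assoc, ι_sq_scalar,
    ← Algebra.commutes, ← Algebra.smul_def, smul_smul, smul_smul]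
  have hc : (Q (b i))⁻¹ * sgn F i w * Q (b i) = sgn F i w := by field_simp
  rw [hc, mul_smul, add_smul, one_smul]

theorem T_ev (hb : ∀ i j, i ≠ j → polar Q (b i) (b j) = 0) (hi : ∀ i, Q (b i) ≠ 0)
    (L : List (Fin n)) (w : List (Fin n)) :
    ∃ κ : F, T Q b L (ev Q b w) = κ • ev Q b w ∧
      (κ ≠ 0 → Even w.length ∧ ∀ i ∈ L, sgn F i w = 1) := by
  induction L with
  | nil =>
    refine ⟨(2⁻¹ : F) * (1 + (-1) ^ w.length), Pα_ev w, fun hκ => ⟨?_, fun i hi => by simp at hi⟩⟩
    by_contra hodd
    rw [Nat.not_even_iff_odd] at hodd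
    apply hκ
    rw [hodd.neg_one_pow, add_neg_cancel, mul_zero]
  | cons i L ih =>
    obtain ⟨κ', h1, h2⟩ := ih
    refine ⟨κ' * ((2⁻¹ : F) * (1 + sgn F i w)), ?_, fun hκ => ?_⟩
    · show Pi Q b i (T Q b L (ev Q b w)) = _
      rw [h1, map_smul, Pi_ev hb i (hi i), smul_smul]
    · have hκ' : κ' ≠ 0 := left_ne_zero_of_mul hκ
      have h3 : (1 : F) + sgn F i w ≠ 0 := right_ne_zero_of_mul (right_ne_zero_of_mul hκ)
      obtain ⟨h4, h5⟩ := h2 hκ'
      refine ⟨h4, fun j hj => ?_⟩
      rcases List.mem_cons.1 hj with rfl | hj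
      · rcases sgn_eq_or (F := F) j w with h6 | h6
        · exact h6
        · exfalso
          apply h3
          rw [h6, add_neg_cancel]
      · exact h5 j hj

/-- The products of basis vectors span the Clifford algebra. -/
theorem span_ev (B : Basis (Fin n) F V) :
    Submodule.span F (Set.range (ev Q (⇑B))) = ⊤ := by
  have h1 : Algebra.adjoin F (Set.range fun i => ι Q (B i)) = ⊤ := by
    rw [eq_top_iff, ← adjoin_range_ι]
    apply Algebra.adjoin_le
    rintro _ ⟨v, rfl⟩
    rw [← B.sum_repr v, map_sum]
    apply Subalgebra.sum_mem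
    intro i _
    rw [map_smul]
    exact Subalgebra.smul_mem _ (Algebra.subset_adjoin (Set.mem_range_self i)) _
  have h2 := Algebra.adjoin_eq_span (R := F) (Set.range fun i => ι Q (B i))
  rw [h1] at h2
  rw [eq_top_iff]
  have h3 : (⊤ : Submodule F (CliffordAlgebra Q)) =
      Submodule.span F (Submonoid.closure (Set.range fun i => ι Q (B i)) : Set _) := by
    rw [← h2]
    rfl
  rw [h3]
  apply Submodule.span_mono
  intro m hm
  obtain ⟨l, hl, rfl⟩ := Submonoid.exists_list_of_mem_closure hm
  have : l ∈ Set.range (List.map fun i => ι Q (B i)) := by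
    rw [Set.range_list_map]
    exact hl
  obtain ⟨w, rfl⟩ := this
  exact ⟨w, rfl⟩

/-- An element of the Clifford algebra fixed by the grade involution and commuting with all
vectors is a scalar. -/
theorem central_even_scalar (h2 : (2 : F) ≠ 0) (B : Basis (Fin n) F V)
    (hb : ∀ i j, i ≠ j → polar Q (B i) (B j) = 0) (hi : ∀ i, Q (B i) ≠ 0)
    {x : CliffordAlgebra Q} (hx1 : involute x = x) (hx : ∀ v, ι Q v * x = x * ι Q v) :
    ∃ c : F, x = algebraMap F _ c := by
  have hfix := T_fix (b := ⇑B) h2 hi hx1 hx (List.finRange n)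
  have hmem : x ∈ Submodule.span F (Set.range (ev Q (⇑B))) := by
    rw [span_ev B]; trivial
  have key : ∀ y ∈ Submodule.span F (Set.range (ev Q (⇑B))),
      T Q (⇑B) (List.finRange n) y ∈ LinearMap.range (Algebra.linearMap F (CliffordAlgebra Q)) := by
    intro y hy
    induction hy using Submodule.span_induction with
    | mem y hy =>
      obtain ⟨w, rfl⟩ := hy
      obtain ⟨κ, h1, h3⟩ := T_ev (b := ⇑B) hb hi (List.finRange n) w
      rw [h1]
      by_cases hκ : κ = 0
      · rw [hκ, zero_smul]
        exact Submodule.zero_mem _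
      · obtain ⟨h4, h5⟩ := h3 hκ
        have hcount : ∀ i, Even (w.count i) := by
          intro i
          have h6 := h5 i (List.mem_finRange i)
          unfold sgn at h6
          have hne : (-1 : F) ≠ 1 := by
            intro h
            apply h2
            linear_combination -h
          rw [neg_one_pow_eq_one_iff_even hne] at h6
          have h7 := countP_add_count i w
          rw [Nat.even_iff] at h4 h6 ⊢
          omega
        obtain ⟨c, hc⟩ := ev_scalar_of_even hb _ w rfl hcount
        rw [hc]
        exact Submodule.smul_mem _ _ ⟨c, rfl⟩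
    | zero => rw [map_zero]; exact Submodule.zero_mem _
    | add a c _ _ ha hc => rw [map_add]; exact Submodule.add_mem _ ha hc
    | smul r a _ ha => rw [map_smul]; exact Submodule.smul_mem _ _ ha
  have := key x hmem
  rw [hfix] at this
  obtain ⟨c, hc⟩ := this
  exact ⟨c, hc.symm⟩

end Cfsg.Agent.Lib.Helper25.Spin
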