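import Cfsg.Agent.Lib.Helper25.SpinCenter
import Cfsg.Agent.Lib.Helper25.CDClifford

set_option autoImplicit false

/-!
# The spinor norm is well defined (characteristic not two)

If a product of reflections `r_{v₁} ⋯ r_{v_k}` with `k` even is the identity, then
`Q(v₁) ⋯ Q(v_k)` is a square.
-/

namespace Cfsg.Agent.Lib.Helper25.Spin

open Module QuadraticMap CliffordAlgebra Cfsg.Agent.Lib.Helper25.CD

variable {F : Type*} [Field F] {V : Type*} [AddCommGroup V] [Module F V] (Q : QuadraticForm F V)

/-- The product of the reflections along a list of vectors. -/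
noncomputable def wordProd (vs : List V) : V ≃ₗ[F] V := (vs.map (reflE Q)).prod

/-- The product of the vectors in the Clifford algebra. -/
noncomputable def wordCl (vs : List V) : CliffordAlgebra Q := (vs.map (ι Q)).prod

/-- The product of the norms. -/
def normProd (vs : List V) : F := (vs.map Q).prod

theorem wordProd_nil : wordProd Q [] = 1 := rfl

theorem wordProd_cons (v : V) (vs : List V) : wordProd Q (v :: vs) = reflE Q v * wordProd Q vs := by
  simp [wordProd]

theorem wordProd_append (vs ws : List V) :
    wordProd Q (vs ++ ws) = wordProd Q vs * wordProd Q ws := by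
  simp [wordProd]

theorem wordCl_cons (v : V) (vs : List V) : wordCl Q (v :: vs) = ι Q v * wordCl Q vs := by
  simp [wordCl]

theorem normProd_nil : normProd Q [] = 1 := rfl

theorem normProd_cons (v : V) (vs : List V) : normProd Q (v :: vs) = Q v * normProd Q vs := by
  simp [normProd]

theorem normProd_append (vs ws : List V) :
    normProd Q (vs ++ ws) = normProd Q vs * normProd Q ws := by
  simp [normProd]

theorem normProd_reverse (vs : List V) : normProd Q vs.reverse = normProd Q vs := by
  simp [normProd, List.prod_reverse]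

theorem normProd_ne_zero {vs : List V} (hvs : ∀ v ∈ vs, Q v ≠ 0) : normProd Q vs ≠ 0 := by
  induction vs with
  | nil => rw [normProd_nil]; exact one_ne_zero
  | cons v vs ih =>
    rw [normProd_cons]
    exact mul_ne_zero (hvs v (List.mem_cons_self ..))
      (ih fun w hw => hvs w (List.mem_cons_of_mem _ hw))

theorem wordProd_reverse_mul (vs : List V) : wordProd Q vs.reverse * wordProd Q vs = 1 := by
  induction vs with
  | nil => simp [wordProd_nil]
  | cons v vs ih =>
    rw [List.reverse_cons, wordProd_append, wordProd_cons, wordProd_cons, wordProd_nil, mul_one,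
      mul_assoc, ← mul_assoc (reflE Q v), reflE_mul_self, one_mul, ih]

theorem wordProd_inv (vs : List V) : (wordProd Q vs)⁻¹ = wordProd Q vs.reverse :=
  inv_eq_of_mul_eq_one_left (wordProd_reverse_mul Q vs)

theorem ι_mul_ι_refl {v : V} (hv : Q v ≠ 0) (w : V) :
    ι Q v * ι Q w = -(ι Q (reflE Q v w) * ι Q v) := by
  have e1 : ι Q (reflE Q v w) = ι Q w - ((Q v)⁻¹ * polar Q v w) • ι Q v := by
    rw [reflE_apply, map_sub, map_smul]
  have e2 : ((Q v)⁻¹ * polar Q v w) • algebraMap F (CliffordAlgebra Q) (Q v)
      = algebraMap F _ (polar Q v w) := by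
    rw [Algebra.smul_def, ← RingHom.map_mul]
    congr 1
    field_simp
  rw [e1, sub_mul, smul_mul_assoc, ι_sq_scalar, e2, ι_mul_ι_comm]
  abel

theorem wordCl_mul_ι {vs : List V} (hvs : ∀ v ∈ vs, Q v ≠ 0) (w : V) :
    wordCl Q vs * ι Q w = (-1 : F) ^ vs.length • (ι Q (wordProd Q vs w) * wordCl Q vs) := by
  induction vs generalizing w with
  | nil => simp [wordCl, wordProd]
  | cons v vs ih =>
    have hv := hvs v (List.mem_cons_self ..)
    have ih' := ih (fun u hu => hvs u (List.mem_cons_of_mem _ hu)) w
    rw [wordCl_cons, mul_assoc, ih', mul_smul_comm, ← mul_assoc, ι_mul_ι_refl Q hv, neg_mul,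
      smul_neg, wordProd_cons, LinearEquiv.mul_apply, List.length_cons, pow_succ, mul_neg_one,
      neg_smul, mul_assoc]

theorem wordCl_mul_reverse (vs : List V) :
    wordCl Q vs * reverse (wordCl Q vs) = algebraMap F _ (normProd Q vs) := by
  induction vs with
  | nil => simp [wordCl, normProd]
  | cons v vs ih =>
    rw [wordCl_cons, reverse.map_mul, reverse_ι, mul_assoc, ← mul_assoc (wordCl Q vs), ih,
      ← mul_assoc, ← Algebra.commutes, mul_assoc, ι_sq_scalar, ← RingHom.map_mul, normProd_cons,
      mul_comm]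

/-- Existence of an orthogonal basis of nonsingular vectors. -/
theorem exists_orth_basis (h2 : (2 : F) ≠ 0) [FiniteDimensional F V]
    (hQ : (polarBilin Q).Nondegenerate) :
    ∃ (n : ℕ) (B : Basis (Fin n) F V), (∀ i j, i ≠ j → polar Q (B i) (B j) = 0) ∧
      ∀ i, Q (B i) ≠ 0 := by
  have : Invertible (2 : F) := invertibleOfNonzero h2
  have hsymm : (polarBilin Q).IsSymm := by
    constructor
    intro x y
    simp [polar_comm]
  obtain ⟨B, hB⟩ := LinearMap.BilinForm.exists_orthogonal_basis hsymm
  refine ⟨_, B, fun i j hij => hB hij, fun i hi => ?_⟩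
  have := LinearMap.IsOrthoᵢ.not_isOrtho_basis_self_of_separatingLeft hB hQ.1 i
  apply this
  show polarBilin Q (B i) (B i) = 0
  rw [polarBilin_apply_apply, polar_self, hi, smul_zero]

/-- Well-definedness of the spinor norm. -/
theorem isSquare_normProd (h2 : (2 : F) ≠ 0) [FiniteDimensional F V]
    (hQ : (polarBilin Q).Nondegenerate) {vs : List V} (hvs : ∀ v ∈ vs, Q v ≠ 0)
    (h1 : wordProd Q vs = 1) (hev : Even vs.length) : IsSquare (normProd Q vs) := by
  obtain ⟨n, B, hB, hBi⟩ := exists_orth_basis Q h2 hQ
  have hinv : involute (wordCl Q vs) = wordCl Q vs := by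
    have := involute_prod_map_ι (Q := Q) vs
    rw [hev.neg_one_pow, one_smul] at this
    exact this
  have hcomm : ∀ w, ι Q w * wordCl Q vs = wordCl Q vs * ι Q w := by
    intro w
    rw [wordCl_mul_ι Q hvs, h1, hev.neg_one_pow, one_smul]
    rfl
  obtain ⟨c, hc⟩ := central_even_scalar h2 B hB hBi hinv hcomm
  have h3 := wordCl_mul_reverse Q vs
  rw [hc, reverse.commutes, ← map_mul] at h3
  have hnt : Nontrivial (CliffordAlgebra Q) := clifford_nontrivial Q
  have h4 := (algebraMap F (CliffordAlgebra Q)).injective h3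
  exact ⟨c, h4.symm⟩

end Cfsg.Agent.Lib.Helper25.Spin
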