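import Cfsg.Agent.Lib.Helper25.SpinAll

set_option autoImplicit false

/-!
# Orthogonal direct sums and `Ω`
-/

namespace Cfsg.Agent.Lib.Helper25.Spin

open Module QuadraticMap Matrix Cfsg.Agent.Lib.Helper25.CD

section sum

variable {ι₁ ι₂ : Type} [Fintype ι₁] [DecidableEq ι₁] [Fintype ι₂] [DecidableEq ι₂]
  {F : Type*} [Field F] (Q₁ : QuadraticForm F (ι₁ → F)) (Q₂ : QuadraticForm F (ι₂ → F))

/-- The orthogonal direct sum of two quadratic forms on coordinate spaces. -/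
noncomputable def sumQ : QuadraticForm F (ι₁ ⊕ ι₂ → F) :=
  Q₁.comp (LinearMap.funLeft F F Sum.inl) + Q₂.comp (LinearMap.funLeft F F Sum.inr)

theorem sumQ_apply (v : ι₁ ⊕ ι₂ → F) :
    sumQ Q₁ Q₂ v = Q₁ (v ∘ Sum.inl) + Q₂ (v ∘ Sum.inr) := rfl

theorem coe_sumQ : ⇑(sumQ Q₁ Q₂) = fun v => Q₁ (v ∘ Sum.inl) + Q₂ (v ∘ Sum.inr) := rfl

theorem polar_sumQ (u v : ι₁ ⊕ ι₂ → F) :
    polar (sumQ Q₁ Q₂) u v =
      polar Q₁ (u ∘ Sum.inl) (v ∘ Sum.inl) + polar Q₂ (u ∘ Sum.inr) (v ∘ Sum.inr) := by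
  simp only [polar, sumQ_apply]
  have e1 : (u + v) ∘ Sum.inl = u ∘ Sum.inl + v ∘ (Sum.inl : ι₁ → ι₁ ⊕ ι₂) := rfl
  have e2 : (u + v) ∘ Sum.inr = u ∘ Sum.inr + v ∘ (Sum.inr : ι₂ → ι₁ ⊕ ι₂) := rfl
  rw [e1, e2]
  ring

theorem sumQ_nondeg (h₁ : (polarBilin Q₁).Nondegenerate) (h₂ : (polarBilin Q₂).Nondegenerate) :
    (polarBilin (sumQ Q₁ Q₂)).Nondegenerate := by
  constructor
  · intro x hx
    have e1 : x ∘ Sum.inl = 0 := by
      apply h₁.1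
      intro w
      have := hx (Sum.elim w 0)
      rw [polarBilin_apply_apply, polar_sumQ] at this
      simpa using this
    have e2 : x ∘ Sum.inr = 0 := by
      apply h₂.1
      intro w
      have := hx (Sum.elim 0 w)
      rw [polarBilin_apply_apply, polar_sumQ] at this
      simpa using this
    funext i
    rcases i with i | i
    · exact congrFun e1 i
    · exact congrFun e2 i
  · intro x hx
    have e1 : x ∘ Sum.inl = 0 := by
      apply h₁.2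
      intro w
      have := hx (Sum.elim w 0)
      rw [polarBilin_apply_apply, polar_sumQ] at this
      simpa using this
    have e2 : x ∘ Sum.inr = 0 := by
      apply h₂.2
      intro w
      have := hx (Sum.elim 0 w)
      rw [polarBilin_apply_apply, polar_sumQ] at this
      simpa using this
    funext i
    rcases i with i | i
    · exact congrFun e1 i
    · exact congrFun e2 i

/-- Extension of a vector of the first summand by zero. -/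
def extL (v : ι₁ → F) : ι₁ ⊕ ι₂ → F := Sum.elim v 0

theorem sumQ_extL (v : ι₁ → F) : sumQ Q₁ Q₂ (extL v) = Q₁ v := by
  rw [sumQ_apply]
  simp [extL]

theorem reflE_sumQ_extL (v a : ι₁ → F) (b : ι₂ → F) :
    reflE (sumQ Q₁ Q₂) (extL v) (Sum.elim a b) = Sum.elim (reflE Q₁ v a) b := by
  rw [reflE_apply, reflE_apply, sumQ_extL, polar_sumQ]
  funext i
  rcases i with i | i
  · simp [extL]
  · simp [extL]

theorem wordProd_map_extL (vs : List (ι₁ → F)) (a : ι₁ → F) (b : ι₂ → F) :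
    wordProd (sumQ Q₁ Q₂) (vs.map extL) (Sum.elim a b) = Sum.elim (wordProd Q₁ vs a) b := by
  induction vs with
  | nil => simp [wordProd_nil]
  | cons v vs ih =>
    rw [List.map_cons, wordProd_cons, wordProd_cons, LinearEquiv.mul_apply, LinearEquiv.mul_apply,
      ih, reflE_sumQ_extL]

theorem normProd_map_extL (vs : List (ι₁ → F)) :
    normProd (sumQ Q₁ Q₂) (vs.map extL) = normProd Q₁ vs := by
  induction vs with
  | nil => rfl
  | cons v vs ih => rw [List.map_cons, normProd_cons, normProd_cons, ih, sumQ_extL]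

theorem block_apply (vs : List (ι₁ → F)) (x : ι₁ ⊕ ι₂ → F) :
    (Matrix.fromBlocks ((wordG Q₁ vs : GL ι₁ F) : Matrix ι₁ ι₁ F) 0 0 1) *ᵥ x =
      wordProd (sumQ Q₁ Q₂) (vs.map extL) x := by
  rw [Matrix.fromBlocks_mulVec]
  simp only [Matrix.zero_mulVec, add_zero, zero_add, Matrix.one_mulVec]
  rw [← toOG_apply, toOG_wordG]
  conv_rhs => rw [← Sum.elim_comp_inl_inr x]
  rw [wordProd_map_extL]

end sum

section main

variable {ι₁ ι₂ : Type} [Fintype ι₁] [DecidableEq ι₁] [Fintype ι₂] [DecidableEq ι₂]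
  {F : Type*} [Field F] [Fintype F] (Q₁ : QuadraticForm F (ι₁ → F)) (Q₂ : QuadraticForm F (ι₂ → F))

theorem block_mem_omega_iff (h₁ : (polarBilin Q₁).Nondegenerate)
    (h₂ : (polarBilin Q₂).Nondegenerate)
    (hex1 : Fintype.card F ≠ 2 ∨ Fintype.card ι₁ ≠ 4)
    (hex : Fintype.card F ≠ 2 ∨ Fintype.card (ι₁ ⊕ ι₂) ≠ 4)
    (g₁ : ↥(Cfsg.isometryGroup F ⇑Q₁)) :
    (∃ g : ↥(Cfsg.isometryGroup F ⇑(sumQ Q₁ Q₂)), g ∈ Cfsg.Omega F ⇑(sumQ Q₁ Q₂) ∧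
      ((g : GL (ι₁ ⊕ ι₂) F) : Matrix (ι₁ ⊕ ι₂) (ι₁ ⊕ ι₂) F) =
        Matrix.fromBlocks ((g₁ : GL ι₁ F) : Matrix ι₁ ι₁ F) 0 0 1) ↔
      g₁ ∈ Cfsg.Omega F ⇑Q₁ := by
  obtain ⟨vs, hvs, rfl⟩ := exists_word' Q₁ h₁ hex1 g₁
  have hvs' : ∀ v ∈ vs.map (extL (ι₂ := ι₂)), sumQ Q₁ Q₂ v ≠ 0 := by
    intro v hv
    obtain ⟨w, hw, rfl⟩ := List.mem_map.1 hv
    rw [sumQ_extL]
    exact hvs w hw
  rw [word_mem_omega_iff' (sumQ Q₁ Q₂) (sumQ_nondeg Q₁ Q₂ h₁ h₂) hex hvs'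
    (block_apply Q₁ Q₂ vs), mem_omega_iff' Q₁ h₁ hex1 hvs, List.length_map, normProd_map_extL]

theorem block_mem_omega_iff' (h₁ : (polarBilin Q₁).Nondegenerate)
    (h₂ : (polarBilin Q₂).Nondegenerate)
    (hex1 : Fintype.card F ≠ 2 ∨ Fintype.card ι₁ ≠ 4)
    (hex : Fintype.card F ≠ 2 ∨ Fintype.card (ι₁ ⊕ ι₂) ≠ 4)
    (g₁ : ↥(Cfsg.isometryGroup F ⇑Q₁)) (q : (ι₁ ⊕ ι₂ → F) → F) (hq : ⇑(sumQ Q₁ Q₂) = q) :
    (∃ g : ↥(Cfsg.isometryGroup F q), g ∈ Cfsg.Omega F q ∧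
      ((g : GL (ι₁ ⊕ ι₂) F) : Matrix (ι₁ ⊕ ι₂) (ι₁ ⊕ ι₂) F) =
        Matrix.fromBlocks ((g₁ : GL ι₁ F) : Matrix ι₁ ι₁ F) 0 0 1) ↔
      g₁ ∈ Cfsg.Omega F ⇑Q₁ := by
  subst hq
  exact block_mem_omega_iff Q₁ Q₂ h₁ h₂ hex1 hex g₁

end main

end Cfsg.Agent.Lib.Helper25.Spin
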