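import Cfsg.Agent.Lib.Helper25.SpinAll
import Cfsg.Agent.Lib.Helper25.OrthReflRk

set_option autoImplicit false

/-!
# `Ω⁺` is transitive on each family of maximal totally singular subspaces
-/

namespace Cfsg.Agent.Lib.Helper25.Spin

open Module QuadraticMap Matrix Cfsg.Agent.Lib.Helper25.CD Cfsg.Agent.Lib.Helper25.MaxTS

section abstract

variable {F : Type*} [Field F] {V : Type*} [AddCommGroup V] [Module F V] [FiniteDimensional F V]
  (Q : QuadraticForm F V)

/-- Adjacent maximal totally singular subspaces are interchanged by a reflection of norm one. -/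
theorem exists_refl_nbr (hQ : (polarBilin Q).Nondegenerate) {m : ℕ} (hdim : finrank F V = m + m)
    {X : Submodule F V} (hX : TS Q X) (hXm : finrank F X = m) {v : V} (hv : Q v = 0)
    (hvX : v ∉ X) :
    ∃ w, Q w = 1 ∧ X.map ((reflE Q w : V ≃ₗ[F] V) : V →ₗ[F] V) = nbr Q X v := by
  have hex : ∃ x ∈ X, polar Q v x ≠ 0 := by
    by_contra hcon
    push Not at hcon
    apply hvX
    rw [← hX.perp_eq hQ hdim hXm, mem_perp]
    intro u hu
    rw [polar_comm]
    exact hcon u hu
  obtain ⟨x, hxX, hp⟩ := hex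
  obtain ⟨p, hpdef⟩ : ∃ p, p = polar Q v x := ⟨_, rfl⟩
  rw [← hpdef] at hp
  have hQx : Q x = 0 := hX x hxX
  have hQw : Q (x - (-p⁻¹) • v) = 1 := by
    rw [sub_eq_add_neg, ← neg_smul, QuadraticMap.map_add (⇑Q), QuadraticMap.map_smul, hQx, hv,
      polar_smul_right, polar_comm Q x v, ← hpdef]
    simp only [smul_eq_mul, neg_neg]
    field_simp
    ring
  refine ⟨x - (-p⁻¹) • v, hQw, ?_⟩
  obtain ⟨-, hNm, -, -, -⟩ := nbr_spec hQ hdim hX hXm hv hvX
  apply Submodule.eq_of_le_of_finrank_eq
  · rintro _ ⟨u, hu, rfl⟩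
    have hu' : u ∈ X := hu
    show reflE Q (x - (-p⁻¹) • v) u ∈ nbr Q X v
    rw [reflE_apply, hQw, inv_one, one_mul]
    have hpu : polar Q (x - (-p⁻¹) • v) u = p⁻¹ * polar Q v u := by
      rw [polar_sub_left, polar_smul_left, hX.polar_eq_zero hxX hu']
      simp only [smul_eq_mul]
      ring
    rw [hpu]
    have e : u - (p⁻¹ * polar Q v u) • (x - (-p⁻¹) • v) =
        (u - (p⁻¹ * polar Q v u) • x) + (-(p⁻¹ * polar Q v u) * p⁻¹) • v := by
      module
    rw [e]
    unfold nbr
    apply Submodule.add_mem_sup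
    · refine ⟨X.sub_mem hu' (X.smul_mem _ hxX), ?_⟩
      rw [SetLike.mem_coe, mem_perp_span, polar_sub_right, polar_smul_right, ← hpdef]
      simp only [smul_eq_mul]
      field_simp
      ring
    · exact Submodule.smul_mem _ _ (Submodule.mem_span_singleton_self v)
  · rw [LinearEquiv.finrank_map_eq, hXm, hNm]

/-- Two maximal totally singular subspaces are interchanged by a word of reflections of norm one,
of length the codimension of their intersection. -/
theorem exists_word_ts (hQ : (polarBilin Q).Nondegenerate) {m : ℕ} (hdim : finrank F V = m + m) :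
    ∀ (c : ℕ) (X X'' : Submodule F V), TS Q X → finrank F X = m → TS Q X'' →
      finrank F X'' = m → finrank F (X ⊓ X'' : Submodule F V) + c = m →
      ∃ vs : List V, (∀ w ∈ vs, Q w = 1) ∧ vs.length = c ∧
        X.map ((wordProd Q vs : V ≃ₗ[F] V) : V →ₗ[F] V) = X'' := by
  intro c
  induction c with
  | zero =>
    intro X X'' hX hXm hX'' hX''m hc
    have h1 : X ⊓ X'' = X :=
      Submodule.eq_of_le_of_finrank_eq inf_le_left (by rw [hXm]; omega)
    have h2 : X ⊓ X'' = X'' :=
      Submodule.eq_of_le_of_finrank_eq inf_le_right (by rw [hX''m]; omega)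
    have h3 : X = X'' := h1.symm.trans h2
    refine ⟨[], by simp, rfl, ?_⟩
    rw [wordProd_nil, ← h3]
    ext y
    simp
  | succ c ih =>
    intro X X'' hX hXm hX'' hX''m hc
    have hnle : ¬ X'' ≤ X := by
      intro h
      have h1 : X'' = X := Submodule.eq_of_le_of_finrank_eq h (by rw [hXm, hX''m])
      rw [h1, inf_idem, hXm] at hc
      omega
    obtain ⟨v, hvX'', hvX⟩ := SetLike.not_le_iff_exists.1 hnle
    obtain ⟨hN, hNm, hNinf, hNadj, hvN⟩ := nbr_spec hQ hdim hX hXm (hX'' v hvX'') hvX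
    have hle : (X ⊓ X'') ⊔ Submodule.span F {v} ≤ nbr Q X v ⊓ X'' := by
      apply sup_le
      · refine le_inf ?_ inf_le_right
        have h1 : X ⊓ X'' ≤ X ⊓ MaxTS.perp Q (Submodule.span F {v}) := by
          refine le_inf inf_le_left ?_
          intro t ht
          rw [mem_perp_span]
          exact hX''.polar_eq_zero hvX'' ht.2
        rw [← hNinf] at h1
        exact h1.trans inf_le_right
      · rw [Submodule.span_singleton_le_iff_mem]
        exact ⟨hvN, hvX''⟩
    have hvn : v ∉ X ⊓ X'' := fun h => hvX h.1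
    have hge := Submodule.finrank_mono hle
    rw [finrank_sup_span hvn] at hge
    have hadj1 := adjacent_parity hQ hdim hX hXm hN hNm hNadj hX'' hX''m
    rw [inf_comm X'' X, inf_comm X'' (nbr Q X v)] at hadj1
    have hstep : finrank F (nbr Q X v ⊓ X'' : Submodule F V) =
        finrank F (X ⊓ X'' : Submodule F V) + 1 := by
      rcases hadj1 with h | h
      · omega
      · exact h
    obtain ⟨vs, h1, h2, h3⟩ := ih (nbr Q X v) X'' hN hNm hX'' hX''m (by omega)
    obtain ⟨w, hw, hwN⟩ := exists_refl_nbr Q hQ hdim hX hXm (hX'' v hvX'') hvX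
    refine ⟨vs ++ [w], ?_, ?_, ?_⟩
    · intro u hu
      rcases List.mem_append.1 hu with h | h
      · exact h1 u h
      · rw [List.mem_singleton] at h
        rw [h]; exact hw
    · rw [List.length_append, h2, List.length_singleton]
    · rw [wordProd_append, wordProd_cons, wordProd_nil, mul_one, ← h3, ← hwN, ← Submodule.map_comp]
      rfl

end abstract

section matrix

variable {F : Type*} [Field F] [Fintype F] {m : ℕ}

theorem omega_trans_ts_aux (hex : Fintype.card F ≠ 2 ∨ m ≠ 2)
    (q : (Fin m ⊕ Fin m → F) → F) (hq : ⇑(plusQ m (F := F)) = q)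
    (U W : Submodule F (Fin m ⊕ Fin m → F)) (hU : finrank F U = m) (hW : finrank F W = m)
    (hU0 : ∀ u ∈ U, q u = 0) (hW0 : ∀ w ∈ W, q w = 0)
    (he : Even (m - finrank F ↥(U ⊓ W))) :
    ∃ g : ↥(Cfsg.isometryGroup F q), g ∈ Cfsg.Omega F q ∧
      U.map (Matrix.mulVecLin ((g : GL (Fin m ⊕ Fin m) F) :
        Matrix (Fin m ⊕ Fin m) (Fin m ⊕ Fin m) F)) = W := by
  subst hq
  have hQ := plusQ_nondegenerate m (F := F)
  have hdim := finrank_plus m (F := F)
  have hUts : TS (plusQ m) U := hU0
  have hWts : TS (plusQ m) W := hW0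
  have hle : finrank F ↥(U ⊓ W) ≤ m := by
    have := Submodule.finrank_mono (inf_le_left : U ⊓ W ≤ U)
    omega
  obtain ⟨vs, h1, h2, h3⟩ := exists_word_ts (plusQ m) hQ hdim (m - finrank F ↥(U ⊓ W)) U W hUts hU
    hWts hW (by omega)
  have hvs : ∀ v ∈ vs, plusQ m v ≠ 0 := by
    intro v hv
    rw [h1 v hv]
    exact one_ne_zero
  have hex' : Fintype.card F ≠ 2 ∨ Fintype.card (Fin m ⊕ Fin m) ≠ 4 := by
    rcases hex with h | h
    · exact Or.inl h
    · right
      rw [Fintype.card_sum, Fintype.card_fin]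
      omega
  refine ⟨wordG (plusQ m) vs, ?_, ?_⟩
  · rw [mem_omega_iff' (plusQ m) hQ hex' hvs, h2]
    refine ⟨he, ?_⟩
    have : normProd (plusQ m) vs = 1 := by
      unfold normProd
      apply List.prod_eq_one
      intro x hx
      obtain ⟨v, hv, rfl⟩ := List.mem_map.1 hx
      exact h1 v hv
    rw [this]
    exact IsSquare.one
  · rw [← h3]
    congr 1
    apply LinearMap.ext
    intro x
    rw [Matrix.mulVecLin_apply, ← toOG_apply, toOG_wordG]
    rfl

end matrix

end Cfsg.Agent.Lib.Helper25.Spin
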