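import Mathlib

set_option autoImplicit false

/-!
Normal form of square-zero endomorphisms, and conjugacy (with determinant one) of two square-zero
endomorphisms of the same rank over a field in which every element is a square.  Application:
involutions of `SL_n(F)`, `F` finite of characteristic two, are conjugate iff `a - 1`, `b - 1` have
the same rank.
-/

namespace Cfsg.Agent.Lib.Helper25.SqZero

open Module

variable {K V : Type*} [Field K] [AddCommGroup V] [Module K V] [FiniteDimensional K V]

/-- Normal-form basis of a square-zero endomorphism `N` of rank `r` on a space of dimension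
`r + (r + s)`: vectors `v_i`, `N v_i`, `w_j` with `N w_j = 0`. -/
theorem exists_basis (N : V →ₗ[K] V) (hN : ∀ x, N (N x) = 0) (r s : ℕ) (hr0 : 0 < r)
    (hr : finrank K (LinearMap.range N) = r) (hs : finrank K V = r + (r + s)) :
    ∃ b : Basis (Fin r ⊕ (Fin r ⊕ Fin s)) K V,
      (∀ i, N (b (Sum.inl i)) = b (Sum.inr (Sum.inl i))) ∧
      (∀ i, N (b (Sum.inr (Sum.inl i))) = 0) ∧
      (∀ j, N (b (Sum.inr (Sum.inr j))) = 0) := by
  classical
  have hle : LinearMap.range N ≤ LinearMap.ker N := by
    rintro _ ⟨x, rfl⟩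
    exact LinearMap.mem_ker.2 (hN x)
  -- basis of the range
  let u' : Basis (Fin r) K (LinearMap.range N) := finBasisOfFinrankEq K _ hr
  let u : Fin r → V := fun i => (u' i : V)
  have hu_mem : ∀ i, u i ∈ LinearMap.range N := fun i => (u' i).2
  choose v hv using hu_mem
  -- complement of the range inside the kernel
  obtain ⟨D, hD⟩ := Submodule.exists_isCompl ((LinearMap.range N).comap (LinearMap.ker N).subtype)
  have hker : finrank K (LinearMap.ker N) = r + s := by
    have := LinearMap.finrank_range_add_finrank_ker N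
    omega
  have hR' : finrank K ((LinearMap.range N).comap (LinearMap.ker N).subtype) = r := by
    rw [(Submodule.comapSubtypeEquivOfLe hle).finrank_eq, hr]
  have hDs : finrank K D = s := by
    have := Submodule.finrank_add_eq_of_isCompl hD
    omega
  let w' : Basis (Fin s) K D := finBasisOfFinrankEq K _ hDs
  let w : Fin s → V := fun j => ((w' j : LinearMap.ker N) : V)
  have hNu : ∀ i, N (u i) = 0 := fun i => LinearMap.mem_ker.1 (hle (u' i).2)
  have hNw : ∀ j, N (w j) = 0 := fun j => LinearMap.mem_ker.1 (w' j : LinearMap.ker N).2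
  -- linear independence
  have hu : LinearIndependent K u :=
    u'.linearIndependent.map' (LinearMap.range N).subtype (Submodule.ker_subtype _)
  have hw : LinearIndependent K w := by
    have h1 : LinearIndependent K (fun j => (w' j : LinearMap.ker N)) :=
      w'.linearIndependent.map' D.subtype (Submodule.ker_subtype _)
    exact h1.map' (LinearMap.ker N).subtype (Submodule.ker_subtype _)
  have hvli : LinearIndependent K v := by
    apply LinearIndependent.of_comp N
    have : (N ∘ v) = u := funext hv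
    rw [this]
    exact hu
  have hdisj1 : Disjoint (Submodule.span K (Set.range u)) (Submodule.span K (Set.range w)) := by
    have h1 : Submodule.span K (Set.range u) ≤ LinearMap.range N := by
      rw [Submodule.span_le]
      rintro _ ⟨i, rfl⟩
      exact (u' i).2
    have h2 : Submodule.span K (Set.range w) ≤ D.map (LinearMap.ker N).subtype := by
      rw [Submodule.span_le]
      rintro _ ⟨j, rfl⟩
      exact ⟨(w' j : LinearMap.ker N), (w' j).2, rfl⟩
    refine Disjoint.mono h1 h2 ?_
    rw [Submodule.disjoint_def]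
    rintro x hx ⟨y, hyD, rfl⟩
    have hy : y ∈ (LinearMap.range N).comap (LinearMap.ker N).subtype := hx
    have : y ∈ ((LinearMap.range N).comap (LinearMap.ker N).subtype) ⊓ D := ⟨hy, hyD⟩
    rw [hD.inf_eq_bot] at this
    rw [(Submodule.mem_bot K).1 this]
    rfl
  have huw : LinearIndependent K (Sum.elim u w) := LinearIndependent.sum_type hu hw hdisj1
  have hdisj2 : Disjoint (Submodule.span K (Set.range v))
      (Submodule.span K (Set.range (Sum.elim u w))) := by
    have h2 : Submodule.span K (Set.range (Sum.elim u w)) ≤ LinearMap.ker N := by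
      rw [Submodule.span_le]
      rintro _ ⟨i | j, rfl⟩
      · exact LinearMap.mem_ker.2 (hNu i)
      · exact LinearMap.mem_ker.2 (hNw j)
    refine Disjoint.mono le_rfl h2 ?_
    rw [Submodule.disjoint_def]
    intro x hx hxk
    rw [Submodule.mem_span_range_iff_exists_fun] at hx
    obtain ⟨c, rfl⟩ := hx
    have h3 : ∑ i, c i • u i = 0 := by
      have := LinearMap.mem_ker.1 hxk
      rw [map_sum] at this
      simp only [map_smul, hv] at this
      exact this
    have h4 := Fintype.linearIndependent_iff.1 hu c h3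
    simp [h4]
  have hli : LinearIndependent K (Sum.elim v (Sum.elim u w)) :=
    LinearIndependent.sum_type hvli huw hdisj2
  have hcard : Fintype.card (Fin r ⊕ (Fin r ⊕ Fin s)) = finrank K V := by
    simp [hs]
  haveI : Nonempty (Fin r ⊕ (Fin r ⊕ Fin s)) := ⟨Sum.inl ⟨0, hr0⟩⟩
  refine ⟨basisOfLinearIndependentOfCardEqFinrank hli hcard, ?_, ?_, ?_⟩
  · intro i
    rw [coe_basisOfLinearIndependentOfCardEqFinrank]
    exact hv i
  · intro i
    rw [coe_basisOfLinearIndependentOfCardEqFinrank]
    exact hNu i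
  · intro j
    rw [coe_basisOfLinearIndependentOfCardEqFinrank]
    exact hNw j

/-- Two square-zero endomorphisms of the same rank are conjugate by a linear automorphism of
determinant one, when every element of the field is a square. -/
theorem exists_conj (hsq : ∀ x : K, ∃ y : K, y * y = x) (N M : V →ₗ[K] V)
    (hN : ∀ x, N (N x) = 0) (hM : ∀ x, M (M x) = 0) (r s : ℕ) (hr0 : 0 < r)
    (hrN : finrank K (LinearMap.range N) = r) (hrM : finrank K (LinearMap.range M) = r)
    (hs : finrank K V = r + (r + s)) :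
    ∃ φ : V ≃ₗ[K] V, (∀ x, φ (N x) = M (φ x)) ∧ LinearMap.det (φ : V →ₗ[K] V) = 1 := by
  classical
  obtain ⟨b, hb1, hb2, hb3⟩ := exists_basis N hN r s hr0 hrN hs
  obtain ⟨c, hc1, hc2, hc3⟩ := exists_basis M hM r s hr0 hrM hs
  let φ₀ : V ≃ₗ[K] V := b.equiv c (Equiv.refl _)
  have hδ : IsUnit (LinearMap.det (φ₀ : V →ₗ[K] V)) := LinearEquiv.isUnit_det' φ₀
  obtain ⟨μ, hμ⟩ := hsq (LinearMap.det (φ₀ : V →ₗ[K] V))⁻¹
  have hδ0 : LinearMap.det (φ₀ : V →ₗ[K] V) ≠ 0 := hδ.ne_zero
  have hμ0 : μ ≠ 0 := by
    rintro rfl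
    rw [mul_zero] at hμ
    exact inv_ne_zero hδ0 hμ.symm
  let i₀ : Fin r := ⟨0, hr0⟩
  let wt : Fin r ⊕ (Fin r ⊕ Fin s) → Kˣ := fun x =>
    match x with
    | Sum.inl i => if i = i₀ then Units.mk0 μ hμ0 else 1
    | Sum.inr (Sum.inl i) => if i = i₀ then Units.mk0 μ hμ0 else 1
    | Sum.inr (Sum.inr _) => 1
  let c' : Basis (Fin r ⊕ (Fin r ⊕ Fin s)) K V := c.unitsSMul wt
  let φ : V ≃ₗ[K] V := b.equiv c' (Equiv.refl _)
  refine ⟨φ, ?_, ?_⟩
  · -- intertwining
    have hlin : (φ : V →ₗ[K] V) ∘ₗ N = M ∘ₗ (φ : V →ₗ[K] V) := by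
      apply b.ext
      intro x
      rcases x with i | i | j
      · simp only [LinearMap.comp_apply, LinearEquiv.coe_coe, hb1]
        rw [Basis.equiv_apply, Basis.equiv_apply]
        simp only [Equiv.refl_apply, c', Basis.unitsSMul_apply, Units.smul_def]
        rw [map_smul, hc1]
      · simp only [LinearMap.comp_apply, LinearEquiv.coe_coe, hb2]
        rw [Basis.equiv_apply, map_zero]
        simp only [Equiv.refl_apply, c', Basis.unitsSMul_apply, Units.smul_def]
        rw [map_smul, hc2, smul_zero]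
      · simp only [LinearMap.comp_apply, LinearEquiv.coe_coe, hb3]
        rw [Basis.equiv_apply, map_zero]
        simp only [Equiv.refl_apply, c', Basis.unitsSMul_apply, Units.smul_def]
        rw [map_smul, hc3, smul_zero]
    intro x
    exact LinearMap.congr_fun hlin x
  · -- determinant
    let ψ : V ≃ₗ[K] V := c.equiv c' (Equiv.refl _)
    have hφ : (φ : V →ₗ[K] V) = (ψ : V →ₗ[K] V) ∘ₗ (φ₀ : V →ₗ[K] V) := by
      apply b.ext
      intro x
      simp only [LinearMap.comp_apply, LinearEquiv.coe_coe]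
      rw [Basis.equiv_apply, Basis.equiv_apply, Basis.equiv_apply]
      rfl
    have hψ : LinearMap.det (ψ : V →ₗ[K] V) = μ * μ := by
      have h1 := Basis.det_comp c (ψ : V →ₗ[K] V) c
      rw [Basis.det_self, mul_one] at h1
      rw [← h1]
      have h2 : ((ψ : V →ₗ[K] V) ∘ (c : _ → V)) = ⇑(c.unitsSMul wt) := by
        funext x
        simp only [Function.comp_apply, LinearEquiv.coe_coe]
        rw [Basis.equiv_apply]
        rfl
      rw [h2, Basis.det_unitsSMul_self, Fintype.prod_sum_type, Fintype.prod_sum_type]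
      simp only [wt]
      have h3 : ∀ x : Fin r, ((if x = i₀ then Units.mk0 μ hμ0 else 1 : Kˣ) : K) =
          if x = i₀ then μ else 1 := by
        intro x
        split_ifs <;> rfl
      simp only [h3]
      rw [Finset.prod_ite_eq']
      simp
    rw [hφ, LinearMap.det_comp, hψ, hμ]
    exact inv_mul_cancel₀ hδ0

section SL

variable {F : Type*} [Field F] [Fintype F] [CharP F 2] {n : ℕ}

omit [Fintype F] in
theorem sq_zero_of_sq_one (A : Matrix (Fin n) (Fin n) F) (hA : A * A = 1) :
    (A - 1) * (A - 1) = 0 := by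
  have h1 : (A - 1) * (A - 1) = A * A - (A + A) + 1 := by noncomm_ring
  have h2 : A + A = 0 := by
    ext i j
    simp [CharTwo.add_self_eq_zero]
  have h3 : (1 : Matrix (Fin n) (Fin n) F) + 1 = 0 := by
    ext i j
    simp [CharTwo.add_self_eq_zero]
  rw [h1, hA, h2, sub_zero, h3]

/-- Involutions of `SL_n(F)`, `F` finite of characteristic two, are conjugate iff `a - 1` and
`b - 1` have the same rank. -/
theorem isConj_iff_rank (a b : Matrix.SpecialLinearGroup (Fin n) F) (ha : orderOf a = 2)
    (hb : orderOf b = 2) :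
    IsConj a b ↔ ((a : Matrix (Fin n) (Fin n) F) - 1).rank =
      ((b : Matrix (Fin n) (Fin n) F) - 1).rank := by
  classical
  constructor
  · intro h
    obtain ⟨c, hc⟩ := isConj_iff.1 h
    have h1 : ((b : Matrix (Fin n) (Fin n) F) - 1) =
        (c : Matrix (Fin n) (Fin n) F) * ((a : Matrix (Fin n) (Fin n) F) - 1) *
          ((c⁻¹ : Matrix.SpecialLinearGroup (Fin n) F) : Matrix (Fin n) (Fin n) F) := by
      have hcc : (c : Matrix (Fin n) (Fin n) F) *
          ((c⁻¹ : Matrix.SpecialLinearGroup (Fin n) F) : Matrix (Fin n) (Fin n) F) = 1 := by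
        rw [← Matrix.SpecialLinearGroup.coe_mul, mul_inv_cancel, Matrix.SpecialLinearGroup.coe_one]
      rw [← hc, Matrix.SpecialLinearGroup.coe_mul, Matrix.SpecialLinearGroup.coe_mul, mul_sub,
        sub_mul, mul_one, hcc]
    rw [h1, Matrix.rank_mul_eq_left_of_isUnit_det, Matrix.rank_mul_eq_right_of_isUnit_det]
    · rw [c.2]; exact isUnit_one
    · rw [(c⁻¹).2]; exact isUnit_one
  · intro hrk
    have hAA : ∀ x : Matrix.SpecialLinearGroup (Fin n) F, orderOf x = 2 →
        (x : Matrix (Fin n) (Fin n) F) * (x : Matrix (Fin n) (Fin n) F) = 1 := by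
      intro x hx
      have h1 : x ^ 2 = 1 := by rw [← hx]; exact pow_orderOf_eq_one x
      rw [pow_two] at h1
      rw [← Matrix.SpecialLinearGroup.coe_mul, h1, Matrix.SpecialLinearGroup.coe_one]
    obtain ⟨A, hAdef⟩ : ∃ A : Matrix (Fin n) (Fin n) F, A = (a : Matrix (Fin n) (Fin n) F) :=
      ⟨_, rfl⟩
    obtain ⟨B, hBdef⟩ : ∃ B : Matrix (Fin n) (Fin n) F, B = (b : Matrix (Fin n) (Fin n) F) :=
      ⟨_, rfl⟩
    rw [← hAdef, ← hBdef] at hrk
    have hA0 : (A - 1) * (A - 1) = 0 := by rw [hAdef]; exact sq_zero_of_sq_one _ (hAA a ha)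
    have hB0 : (B - 1) * (B - 1) = 0 := by rw [hBdef]; exact sq_zero_of_sq_one _ (hAA b hb)
    have hN : ∀ (X : Matrix (Fin n) (Fin n) F), (X - 1) * (X - 1) = 0 →
        ∀ x, Matrix.toLin' (X - 1) (Matrix.toLin' (X - 1) x) = 0 := by
      intro X hX x
      rw [← LinearMap.comp_apply, ← Matrix.toLin'_mul, hX, map_zero, LinearMap.zero_apply]
    have hrank : ∀ (X : Matrix (Fin n) (Fin n) F),
        finrank F (LinearMap.range (Matrix.toLin' (X - 1))) = (X - 1).rank := by
      intro X
      rw [Matrix.toLin'_apply', Matrix.rank]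
    obtain ⟨r, hr⟩ : ∃ r, r = (A - 1).rank := ⟨_, rfl⟩
    have hr0 : 0 < r := by
      rcases Nat.eq_zero_or_pos r with h0 | h0
      · exfalso
        rw [h0] at hr
        have h1 := hrank A
        rw [← hr] at h1
        have h2 : LinearMap.range (Matrix.toLin' (A - 1)) = ⊥ := Submodule.finrank_eq_zero.1 h1
        rw [LinearMap.range_eq_bot] at h2
        have h3 : A - 1 = 0 := by
          have := congrArg LinearMap.toMatrix' h2
          rwa [LinearMap.toMatrix'_toLin', map_zero] at this
        have h4 : a = 1 := by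
          apply Subtype.ext
          rw [Matrix.SpecialLinearGroup.coe_one, ← hAdef]
          exact sub_eq_zero.1 h3
        rw [h4, orderOf_one] at ha
        omega
      · exact h0
    have hdim : finrank F (Fin n → F) = n := finrank_fin_fun F
    have h2r : r + r ≤ n := by
      have h1 := LinearMap.finrank_range_add_finrank_ker (Matrix.toLin' (A - 1))
      have h2 : finrank F (LinearMap.range (Matrix.toLin' (A - 1))) ≤
          finrank F (LinearMap.ker (Matrix.toLin' (A - 1))) := by
        apply Submodule.finrank_mono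
        rintro _ ⟨x, rfl⟩
        exact LinearMap.mem_ker.2 (hN A hA0 x)
      rw [hrank A, ← hr] at h1 h2
      omega
    obtain ⟨s, hs⟩ : ∃ s, n = r + (r + s) := ⟨n - (r + r), by omega⟩
    have hsq : ∀ x : F, ∃ y : F, y * y = x := by
      intro x
      obtain ⟨y, hy⟩ := FiniteField.isSquare_of_char_two (ringChar.eq F 2) x
      exact ⟨y, hy.symm⟩
    obtain ⟨φ, hφ, hdet⟩ := exists_conj hsq (Matrix.toLin' (A - 1)) (Matrix.toLin' (B - 1))
      (hN A hA0) (hN B hB0) r s hr0 (by rw [hrank A, hr]) (by rw [hrank B, ← hrk, hr])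
      (by rw [hdim]; exact hs)
    have hgdet : (LinearMap.toMatrix' (φ : (Fin n → F) →ₗ[F] (Fin n → F))).det = 1 := by
      rw [LinearMap.det_toMatrix', hdet]
    have hcomm : LinearMap.toMatrix' (φ : (Fin n → F) →ₗ[F] (Fin n → F)) * (A - 1) =
        (B - 1) * LinearMap.toMatrix' (φ : (Fin n → F) →ₗ[F] (Fin n → F)) := by
      apply Matrix.toLin'.injective
      rw [Matrix.toLin'_mul, Matrix.toLin'_mul, Matrix.toLin'_toMatrix']
      apply LinearMap.ext
      intro x
      exact hφ x
    have hcomm2 : LinearMap.toMatrix' (φ : (Fin n → F) →ₗ[F] (Fin n → F)) * A =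
        B * LinearMap.toMatrix' (φ : (Fin n → F) →ₗ[F] (Fin n → F)) := by
      rw [mul_sub, sub_mul, mul_one, one_mul] at hcomm
      exact sub_left_injective hcomm
    rw [isConj_iff]
    obtain ⟨G, hG⟩ : ∃ G : Matrix.SpecialLinearGroup (Fin n) F,
        (G : Matrix (Fin n) (Fin n) F) =
          LinearMap.toMatrix' (φ : (Fin n → F) →ₗ[F] (Fin n → F)) := ⟨⟨_, hgdet⟩, rfl⟩
    refine ⟨G, ?_⟩
    rw [mul_inv_eq_iff_eq_mul]
    apply Subtype.ext
    rw [Matrix.SpecialLinearGroup.coe_mul, Matrix.SpecialLinearGroup.coe_mul, ← hAdef, ← hBdef, hG]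
    exact hcomm2

end SL

end Cfsg.Agent.Lib.Helper25.SqZero
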