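import Cfsg.Agent.Lib.Lead.SteinG

/-! Automorphisms of Chevalley groups stabilising `U` and `V` (continuing the lead's `Stein*`
files, for all types including the ones with two root lengths): images of the elements
`n_p(t)`, `h_p(t)`, the torus relation between the parameters, and the field automorphism attached
to each node (helper25). -/

set_option autoImplicit false

namespace Cfsg.Agent.Lib.Helper25.SteinNL

open Cfsg Cfsg.Lie Matrix Cfsg.Agent.Lib.Helper7 Cfsg.Agent.Lib.Helper3.BN Cfsg.Agent.Lib.Helper11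
open Cfsg.Agent.Lib.Lead.Stein

section Field

variable {F : Type*} [Field F] [Finite F]

/-- every element of a finite field of characteristic 2 is a square -/
theorem exists_sq_of_char_two (h2 : (2 : F) = 0) (x : F) : ∃ y : F, y ^ 2 = x := by
  have hinj : Function.Injective (fun y : F => y ^ 2) := by
    intro a b hab
    have h : (a - b) ^ 2 = 0 := by
      have : (a - b) ^ 2 = a ^ 2 - 2 * a * b + b ^ 2 := by ring
      rw [this, h2]
      simp only [zero_mul, sub_zero]
      have hab' : a ^ 2 = b ^ 2 := hab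
      rw [hab']
      have : b ^ 2 + b ^ 2 = 2 * b ^ 2 := by ring
      rw [this, h2, zero_mul]
    have := pow_eq_zero_iff (two_ne_zero) |>.mp h
    exact sub_eq_zero.mp this
  exact (Finite.injective_iff_surjective.mp hinj) x

/-- an additive map with `f 1 = 1` and `f (t²u) = f(t)² f(u)` is multiplicative -/
theorem mul_of_sq (f : F → F) (hadd : ∀ a b, f (a + b) = f a + f b) (h1 : f 1 = 1)
    (hsq : ∀ t u, f (t ^ 2 * u) = f t ^ 2 * f u) : ∀ a b, f (a * b) = f a * f b := by
  by_cases h2 : (2 : F) = 0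
  · intro a b
    obtain ⟨y, hy⟩ := exists_sq_of_char_two h2 a
    have e1 : f a = f y ^ 2 := by
      have := hsq y 1
      rw [mul_one, h1, mul_one, hy] at this
      exact this
    rw [← hy, hsq, hy, e1]
  · intro a b
    have h0 : f 0 = 0 := by
      have := hadd 0 0
      rw [add_zero] at this
      exact left_eq_add.mp this
    have hsq1 : ∀ t, f (t ^ 2) = f t ^ 2 := by
      intro t
      have := hsq t 1
      rwa [mul_one, h1, mul_one] at this
    have key := hsq (a + 1) b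
    have e1 : (a + 1) ^ 2 * b = a ^ 2 * b + (a * b + a * b) + b := by ring
    rw [e1, hadd, hadd, hadd, hsq, hadd, h1] at key
    have e2 : (f a + 1) ^ 2 * f b = f a ^ 2 * f b + (f a * f b + f a * f b) + f b := by ring
    rw [e2] at key
    have e3 : f (a * b) + f (a * b) = f a * f b + f a * f b := by
      have := add_right_cancel key
      exact add_left_cancel this
    have e4 : 2 * f (a * b) = 2 * (f a * f b) := by rw [two_mul, two_mul, e3]
    exact mul_left_cancel₀ h2 e4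

/-- such a map is a field automorphism -/
theorem exists_ringEquiv_of_sq (f : F → F) (hadd : ∀ a b, f (a + b) = f a + f b) (h1 : f 1 = 1)
    (hsq : ∀ t u, f (t ^ 2 * u) = f t ^ 2 * f u) : ∃ σ : F ≃+* F, ∀ t, σ t = f t := by
  have hmul := mul_of_sq f hadd h1 hsq
  have h0 : f 0 = 0 := by
    have := hadd 0 0
    rw [add_zero] at this
    exact left_eq_add.mp this
  let φ : F →+* F :=
    { toFun := f, map_one' := h1, map_mul' := hmul, map_zero' := h0, map_add' := hadd }
  have hinj : Function.Injective φ := φ.injective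
  have hbij : Function.Bijective φ := ⟨hinj, Finite.injective_iff_surjective.mp hinj⟩
  exact ⟨RingEquiv.ofBijective φ hbij, fun t => rfl⟩

end Field

section
variable (D : ChevalleyDatum) (hD : D ∈ [chevG2, chevB2, chevD4, chevF4, chevE6, chevE7, chevE8])
variable (F : Type*) [Field F]

/-- `n_r(t)` as an element of the group -/
noncomputable def nGt (r : ℕ) (t : F) : ↥(D.group F) :=
  ⟨wordGL D hD F (D.nWord r t), wordGL_mem_group D hD F _⟩

/-- `h_r(t)` as an element of the group -/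
noncomputable def hGt (r : ℕ) (t : F) : ↥(D.group F) :=
  ⟨wordGL D hD F (D.hWord r t), wordGL_mem_group D hD F _⟩

include hD in
theorem nGt_eq (r : ℕ) (t : F) :
    nGt D hD F r t = xG D hD F r t * xG D hD F (D.neg r) (-t⁻¹) * xG D hD F r t :=
  Subtype.ext (nGL_eq D hD F r t)

include hD in
theorem nGt_eq_hGt_mul (r : ℕ) (t : F) : nGt D hD F r t = hGt D hD F r t * nGt D hD F r 1 :=
  Subtype.ext (nGL_eq_hGL_mul D hD F r t)

include hD in
theorem hGt_eq (r : ℕ) (t : F) : hGt D hD F r t = nGt D hD F r t * (nGt D hD F r 1)⁻¹ := by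
  rw [nGt_eq_hGt_mul D hD F r t]; group

include hD in
/-- `h_r(c) x_s(u) h_r(c)⁻¹ = x_s(c^{⟨s,r^∨⟩} u)` -/
theorem hGt_conj_xG (r : ℕ) (hr : r < D.nroots) (c : F) (hc : c ≠ 0) (s : ℕ) (u : F) :
    hGt D hD F r c * xG D hD F s u * (hGt D hD F r c)⁻¹ = xG D hD F s (c ^ carR D r s * u) := by
  apply Subtype.ext
  show wordGL D hD F (D.hWord r c) * xGL D hD F s u * (wordGL D hD F (D.hWord r c))⁻¹ =
    xGL D hD F s (c ^ carR D r s * u)
  have hm : ((wordGL D hD F (D.hWord r c) : GL D.Idx F) : Matrix D.Idx D.Idx F) =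
      diagChar D F (fun s => c ^ carR D r s) := by
    rw [coe_wordGL]
    exact hMat_eq_diagChar D hD F r hr c hc
  rw [diagGL_xGL_comm D hD F _ _ (chainChar_h D hD F r c hc) hm s u]
  group

include hD in
/-- `h_r(c)⁻¹ x_s(u) h_r(c) = x_s((c^{⟨s,r^∨⟩})⁻¹ u)` -/
theorem hGt_inv_conj_xG (r : ℕ) (hr : r < D.nroots) (c : F) (hc : c ≠ 0) (s : ℕ) (u : F) :
    (hGt D hD F r c)⁻¹ * xG D hD F s u * hGt D hD F r c = xG D hD F s ((c ^ carR D r s)⁻¹ * u) := by
  have h := hGt_conj_xG D hD F r hr c hc s ((c ^ carR D r s)⁻¹ * u)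
  rw [← mul_assoc, mul_inv_cancel₀ (zpow_ne_zero _ hc), one_mul] at h
  rw [← h]; group

variable {D hD F}

include hD in
/-- the image of `n_p(t)` -/
theorem map_nGt {θ : ↥(D.group F) ≃* ↥(D.group F)} {ρ : ℕ → ℕ} {f g : ℕ → F → F}
    (h : FundData D hD F θ ρ f g)
    (hU : Stab D F θ (D.posUnipotent F)) (hV : Stab D F θ (D.negUnipotent F))
    (k : ℕ) (hk : k < D.rank) (t : F) (ht : t ≠ 0) :
    θ (nGt D hD F (D.simple k) t) = nGt D hD F (D.simple (ρ k)) (f k t) := by
  have hrel := h.rel hU hV k hk t ht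
  have hft : f k t ≠ 0 := (h.pos k hk).ne_zero t ht
  have hg : g k (-t⁻¹) = -(f k t)⁻¹ := by
    have h1 : g k (-t⁻¹) = (f k t)⁻¹ * (f k t * g k (-t⁻¹)) := by
      rw [← mul_assoc, inv_mul_cancel₀ hft, one_mul]
    rw [h1, hrel, mul_neg_one]
  rw [nGt_eq D hD F, nGt_eq D hD F, map_mul, map_mul, (h.pos k hk).map, (h.neg k hk).map, hg]

include hD in
/-- the image of `h_p(t)` -/
theorem map_hGt {θ : ↥(D.group F) ≃* ↥(D.group F)} {ρ : ℕ → ℕ} {f g : ℕ → F → F}
    (h : FundData D hD F θ ρ f g)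
    (hU : Stab D F θ (D.posUnipotent F)) (hV : Stab D F θ (D.negUnipotent F))
    (k : ℕ) (hk : k < D.rank) (t : F) (ht : t ≠ 0) :
    θ (hGt D hD F (D.simple k) t) =
      hGt D hD F (D.simple (ρ k)) (f k t) * (hGt D hD F (D.simple (ρ k)) (f k 1))⁻¹ := by
  rw [hGt_eq D hD F, map_mul, map_inv, map_nGt h hU hV k hk t ht, map_nGt h hU hV k hk 1 one_ne_zero,
    nGt_eq_hGt_mul D hD F _ (f k t), nGt_eq_hGt_mul D hD F _ (f k 1)]
  group

include hD in
/-- the torus relation between the parameters of two nodes -/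
theorem torus_rel {θ : ↥(D.group F) ≃* ↥(D.group F)} {ρ : ℕ → ℕ} {f g : ℕ → F → F}
    (h : FundData D hD F θ ρ f g)
    (hU : Stab D F θ (D.posUnipotent F)) (hV : Stab D F θ (D.negUnipotent F))
    (i j : ℕ) (hi : i < D.rank) (hj : j < D.rank) (c : F) (hc : c ≠ 0) (u : F) :
    f i (c ^ carR D (D.simple j) (D.simple i) * u) =
      (f j c) ^ carR D (D.simple (ρ j)) (D.simple (ρ i)) *
        ((f j 1) ^ carR D (D.simple (ρ j)) (D.simple (ρ i)))⁻¹ * f i u := by
  have hsj := simple_lt D hD j hj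
  have hsρj := simple_lt D hD (ρ j) (h.lt j hj)
  have hsρi := simple_lt D hD (ρ i) (h.lt i hi)
  have hfc : f j c ≠ 0 := (h.pos j hj).ne_zero c hc
  have hf1 : f j 1 ≠ 0 := (h.pos j hj).ne_zero 1 one_ne_zero
  have h1 := congrArg θ (hGt_conj_xG D hD F (D.simple j) hsj c hc (D.simple i) u)
  rw [map_mul, map_mul, map_inv, map_hGt h hU hV j hj c hc, (h.pos i hi).map, (h.pos i hi).map] at h1
  set A := hGt D hD F (D.simple (ρ j)) (f j c) with hA
  set B := hGt D hD F (D.simple (ρ j)) (f j 1) with hB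
  have h2 : A * B⁻¹ * xG D hD F (D.simple (ρ i)) (f i u) * (A * B⁻¹)⁻¹ =
      A * (B⁻¹ * xG D hD F (D.simple (ρ i)) (f i u) * B) * A⁻¹ := by group
  rw [h2, hB, hGt_inv_conj_xG D hD F _ hsρj _ hf1, hA, hGt_conj_xG D hD F _ hsρj _ hfc] at h1
  have h3 := xG_inj D hD F _ hsρi _ _ h1
  rw [← h3]; ring

include hD in
/-- the parameter of each node is a field automorphism up to a scalar -/
theorem exists_sigma [Finite F] {θ : ↥(D.group F) ≃* ↥(D.group F)} {ρ : ℕ → ℕ} {f g : ℕ → F → F}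
    (h : FundData D hD F θ ρ f g)
    (hU : Stab D F θ (D.posUnipotent F)) (hV : Stab D F θ (D.negUnipotent F))
    (k : ℕ) (hk : k < D.rank) :
    ∃ σ : F ≃+* F, ∀ t, f k t = f k 1 * σ t ∧ g k t = (f k 1)⁻¹ * σ t := by
  have hP := h.pos k hk
  have hc : f k 1 ≠ 0 := hP.ne_zero 1 one_ne_zero
  have hs := simple_lt D hD k hk
  have hsρ := simple_lt D hD (ρ k) (h.lt k hk)
  obtain ⟨σ, hσ⟩ := exists_ringEquiv_of_sq (fun t => (f k 1)⁻¹ * f k t)
    (by intro a b; show (f k 1)⁻¹ * f k (a + b) = _; rw [hP.add, mul_add])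
    (inv_mul_cancel₀ hc)
    (by
      intro t u
      show (f k 1)⁻¹ * f k (t ^ 2 * u) = ((f k 1)⁻¹ * f k t) ^ 2 * ((f k 1)⁻¹ * f k u)
      by_cases ht : t = 0
      · rw [ht, hP.zero]
        simp [hP.zero]
      · have := torus_rel h hU hV k k hk hk t ht u
        rw [carR_self D hD _ hs, carR_self D hD _ hsρ] at this
        have e : t ^ (2 : ℤ) = t ^ 2 := by norm_cast
        have e1 : f k t ^ (2 : ℤ) = f k t ^ 2 := by norm_cast
        have e2 : f k 1 ^ (2 : ℤ) = f k 1 ^ 2 := by norm_cast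
        rw [e, e1, e2] at this
        rw [this]
        field_simp)
  have hfk : ∀ t, f k t = f k 1 * σ t := by
    intro t
    rw [hσ t, ← mul_assoc, mul_inv_cancel₀ hc, one_mul]
  refine ⟨σ, fun t => ⟨hfk t, ?_⟩⟩
  by_cases ht : t = 0
  · rw [ht, (h.neg k hk).zero, map_zero, mul_zero]
  · have hrel := h.rel hU hV k hk (-t⁻¹) (neg_ne_zero.mpr (inv_ne_zero ht))
    have e : -(-t⁻¹)⁻¹ = t := by field_simp
    rw [e, hfk] at hrel
    have hst : σ (-t⁻¹) = -(σ t)⁻¹ := by rw [map_neg, map_inv₀]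
    have hst0 : σ t ≠ 0 := by
      rw [Ne, map_eq_zero_iff σ σ.injective]; exact ht
    rw [hst] at hrel
    have : f k 1 * (σ t)⁻¹ * g k t = 1 := by linear_combination -hrel
    calc g k t = (f k 1)⁻¹ * σ t * (f k 1 * (σ t)⁻¹ * g k t) := by field_simp
      _ = (f k 1)⁻¹ * σ t := by rw [this, mul_one]

include hD in
/-- the relation between the field automorphisms of two nodes -/
theorem sigma_rel {θ : ↥(D.group F) ≃* ↥(D.group F)} {ρ : ℕ → ℕ} {f g : ℕ → F → F}
    (h : FundData D hD F θ ρ f g)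
    (hU : Stab D F θ (D.posUnipotent F)) (hV : Stab D F θ (D.negUnipotent F))
    (i j : ℕ) (hi : i < D.rank) (hj : j < D.rank) (σi σj : F ≃+* F)
    (hσi : ∀ t, f i t = f i 1 * σi t) (hσj : ∀ t, f j t = f j 1 * σj t) (c : F) (hc : c ≠ 0) :
    σi c ^ carR D (D.simple j) (D.simple i) = σj c ^ carR D (D.simple (ρ j)) (D.simple (ρ i)) := by
  have hfi : f i 1 ≠ 0 := (h.pos i hi).ne_zero 1 one_ne_zero
  have hfj : f j 1 ≠ 0 := (h.pos j hj).ne_zero 1 one_ne_zero
  have h1 := torus_rel h hU hV i j hi hj c hc 1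
  rw [mul_one, hσi, hσj c, map_zpow₀, mul_zpow] at h1
  have h2 : f j 1 ^ carR D (D.simple (ρ j)) (D.simple (ρ i)) ≠ 0 := zpow_ne_zero _ hfj
  have h3 : f i 1 * σi c ^ carR D (D.simple j) (D.simple i) =
      f i 1 * σj c ^ carR D (D.simple (ρ j)) (D.simple (ρ i)) := by
    rw [h1]
    field_simp
  exact mul_left_cancel₀ hfi h3

end

end Cfsg.Agent.Lib.Helper25.SteinNL
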