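import Cfsg.Agent.Lib.Helper25.SteinNL9

/-! Complete families of graph automorphisms (`GraphDataE`) from the shape theorem: the trivial
family, and the family `{1, γ₀}` for an involutive symmetry realised by an automorphism `γ₀`
(helper25). -/

set_option autoImplicit false
set_option maxRecDepth 100000

namespace Cfsg.Agent.Lib.Helper25.SteinNL

open Cfsg Cfsg.Lie Matrix Cfsg.Agent.Lib.Helper7 Cfsg.Agent.Lib.Helper3.BN Cfsg.Agent.Lib.Helper11
open Cfsg.Agent.Lib.Lead.ChevCent Cfsg.Agent.Lib.Lead.ChevFix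
open Cfsg.Agent.Lib.Lead.Stein Cfsg.Agent.Lib.Helper25.SteinConv

section
variable (D : ChevalleyDatum) (hD : D ∈ [chevG2, chevB2, chevD4, chevF4, chevE6, chevE7, chevE8])
variable (F : Type*) [Field F]

/-- the trivial family, complete when every automorphism stabilising `U` and `V` fixes the nodes -/
noncomputable def trivialGDE (hrank : 0 < D.rank) (hS : ShapeH D hD F)
    (hρ : ∀ (θ : ↥(D.group F) ≃* ↥(D.group F)) (ρ : ℕ → ℕ) (f g : ℕ → F → F),
      FundData D hD F θ ρ f g → Stab D F θ (D.posUnipotent F) → Stab D F θ (D.negUnipotent F) →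
      ∀ k < D.rank, ρ k = k) : GraphDataE D hD F where
  Γ := Unit
  perm := fun _ k => k
  ex := fun _ _ => 1
  γ := fun _ => MulEquiv.refl _
  perm_lt := fun _ _ hk => hk
  perm_inj := fun _ _ _ _ _ h => h
  γ_pos := fun _ _ _ _ => by rw [pow_one]; rfl
  γ_neg := fun _ _ _ _ => by rw [pow_one]; rfl
  γ_mem := fun _ => (autUV D F).one_mem
  ext := fun _ _ _ => rfl
  ex_one := fun _ => ⟨0, hrank, rfl⟩
  complete := by
    intro θ ρ f g h hU hV
    obtain ⟨-, ⟨σ, hσ⟩, -⟩ := hS θ ρ f g hU hV h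
    have hid := hρ θ ρ f g h hU hV
    refine ⟨(), σ, fun k hk => (hid k hk).symm, fun k hk t => ?_⟩
    have := hσ k hk t
    rw [hid k hk, graphExp_self] at this
    exact this

theorem card_trivialGDE (hrank : 0 < D.rank) (hS : ShapeH D hD F)
    (hρ : ∀ (θ : ↥(D.group F) ≃* ↥(D.group F)) (ρ : ℕ → ℕ) (f g : ℕ → F → F),
      FundData D hD F θ ρ f g → Stab D F θ (D.posUnipotent F) → Stab D F θ (D.negUnipotent F) →
      ∀ k < D.rank, ρ k = k) : Nat.card (trivialGDE D hD F hrank hS hρ).Γ = 1 := by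
  show Nat.card Unit = 1
  rw [Nat.card_unique]

/-- the family `{1, γ₀}` for a symmetry `ρ₀` without fixed nodes... (only `ρ₀ 0 ≠ 0` is used) realised
by `γ₀` -/
noncomputable def pairGDE (hrank : 0 < D.rank) (hS : ShapeH D hD F) (ρ₀ : ℕ → ℕ)
    (hρ₀lt : ∀ k < D.rank, ρ₀ k < D.rank)
    (hρ₀inj : ∀ k < D.rank, ∀ k' < D.rank, ρ₀ k = ρ₀ k' → k = k') (hρ₀0 : ρ₀ 0 ≠ 0)
    (hex : ∃ k < D.rank, D.graphExp (ringChar F) k (ρ₀ k) = 1)
    (γ₀ : ↥(D.group F) ≃* ↥(D.group F)) (hγmem : (γ₀ : MulAut ↥(D.group F)) ∈ autUV D F)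
    (hγ : ∀ k < D.rank, ∀ t : F,
      γ₀ (xG D hD F (D.simple k) t) =
        xG D hD F (D.simple (ρ₀ k)) (t ^ D.graphExp (ringChar F) k (ρ₀ k)) ∧
      γ₀ (xG D hD F (D.neg (D.simple k)) t) =
        xG D hD F (D.neg (D.simple (ρ₀ k))) (t ^ D.graphExp (ringChar F) k (ρ₀ k)))
    (hρ : ∀ (θ : ↥(D.group F) ≃* ↥(D.group F)) (ρ : ℕ → ℕ) (f g : ℕ → F → F),
      FundData D hD F θ ρ f g → Stab D F θ (D.posUnipotent F) → Stab D F θ (D.negUnipotent F) →
      (∀ k < D.rank, ρ k = k) ∨ (∀ k < D.rank, ρ k = ρ₀ k)) : GraphDataE D hD F where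
  Γ := Bool
  perm := fun b k => if b then ρ₀ k else k
  ex := fun b k => if b then D.graphExp (ringChar F) k (ρ₀ k) else 1
  γ := fun b => if b then γ₀ else MulEquiv.refl _
  perm_lt := by
    intro b k hk
    cases b
    · exact hk
    · exact hρ₀lt k hk
  perm_inj := by
    intro b k hk k' hk' h
    cases b
    · exact h
    · exact hρ₀inj k hk k' hk' h
  γ_pos := by
    intro b k hk t
    cases b
    · simp
    · exact (hγ k hk t).1
  γ_neg := by
    intro b k hk t
    cases b
    · simp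
    · exact (hγ k hk t).2
  γ_mem := by
    intro b
    cases b
    · exact (autUV D F).one_mem
    · exact hγmem
  ext := by
    intro a b h
    cases a <;> cases b
    · rfl
    · exfalso
      have := h 0 hrank
      simp only [if_true] at this
      exact hρ₀0 this.symm
    · exfalso
      have := h 0 hrank
      simp only [if_true] at this
      exact hρ₀0 this
    · rfl
  ex_one := by
    intro b
    cases b
    · exact ⟨0, hrank, rfl⟩
    · obtain ⟨k, hk, hk1⟩ := hex
      exact ⟨k, hk, hk1⟩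
  complete := by
    intro θ ρ f g h hU hV
    obtain ⟨-, ⟨σ, hσ⟩, -⟩ := hS θ ρ f g hU hV h
    rcases hρ θ ρ f g h hU hV with hid | hsw
    · refine ⟨false, σ, fun k hk => (hid k hk).symm, fun k hk t => ?_⟩
      have := hσ k hk t
      rw [hid k hk, graphExp_self] at this
      exact this
    · refine ⟨true, σ, fun k hk => (hsw k hk).symm, fun k hk t => ?_⟩
      have := hσ k hk t
      rw [hsw k hk] at this
      exact this

end

end Cfsg.Agent.Lib.Helper25.SteinNL
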