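import Cfsg.Agent.Lib.Helper25.SteinNL10
import Cfsg.Agent.Lib.Lead.SteinJ
import Cfsg.Agent.Lib.Helper7.ChevHCardFin

/-! Orders of the outer automorphism groups of `G₂(q)` and `F₄(q)` (helper25). -/

set_option autoImplicit false
set_option maxRecDepth 100000

namespace Cfsg.Agent.Lib.Helper25.SteinNL

open Cfsg Cfsg.Lie Matrix Cfsg.Agent.Lib.Helper7 Cfsg.Agent.Lib.Helper3.BN Cfsg.Agent.Lib.Helper11
open Cfsg.Agent.Lib.Lead.ChevCent Cfsg.Agent.Lib.Lead.ChevFix
open Cfsg.Agent.Lib.Lead.Stein Cfsg.Agent.Lib.Helper25.SteinConv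

section
variable {D : ChevalleyDatum} {hD : D ∈ [chevG2, chevB2, chevD4, chevF4, chevE6, chevE7, chevE8]}
variable {F : Type*} [Field F]

include hD in
/-- rank 2: the permutation of the nodes is the identity or the swap -/
theorem rank2_cases (hrk : D.rank = 2) {θ : ↥(D.group F) ≃* ↥(D.group F)} {ρ : ℕ → ℕ}
    {f g : ℕ → F → F} (h : FundData D hD F θ ρ f g) :
    (∀ k < D.rank, ρ k = k) ∨ (∀ k < D.rank, ρ k = 1 - k) := by
  have hr0 : (0 : ℕ) < D.rank := by rw [hrk]; norm_num
  have hr1 : (1 : ℕ) < D.rank := by rw [hrk]; norm_num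
  have hl0 := h.lt 0 hr0
  have hl1 := h.lt 1 hr1
  rw [hrk] at hl0 hl1
  have hne : ρ 0 ≠ ρ 1 := fun he => absurd (h.inj 0 1 hr0 hr1 he) (by norm_num)
  have hcase : (ρ 0 = 0 ∧ ρ 1 = 1) ∨ (ρ 0 = 1 ∧ ρ 1 = 0) := by omega
  rcases hcase with ⟨e0, e1⟩ | ⟨e0, e1⟩
  · left
    intro k hk
    rw [hrk] at hk
    have hk' : k = 0 ∨ k = 1 := by omega
    rcases hk' with rfl | rfl <;> assumption
  · right
    intro k hk
    rw [hrk] at hk
    have hk' : k = 0 ∨ k = 1 := by omega
    rcases hk' with rfl | rfl <;> assumption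

end

section G2
variable (F : Type*) [Field F]

/-- the complete family of graph automorphisms of `G₂(F)` in characteristic 3 -/
noncomputable def gdeG2_three [Finite F] [CharP F 3] : GraphDataE chevG2 hD_G2 F :=
  have hch : ringChar F = 3 := ringChar.eq F 3
  pairGDE chevG2 hD_G2 F (by decide) (shapeH chevG2 hD_G2 F) (fun k => 1 - k)
    (by intro k hk; have : chevG2.rank = 2 := rfl; omega)
    (by intro k hk k' hk' h; have : chevG2.rank = 2 := rfl; omega)
    (by norm_num)
    ⟨1, by decide, by rw [hch]; exact (g2_graphExp 3).2⟩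
    (Classical.choose (exists_exotic_G2 F))
    (Classical.choose_spec (exists_exotic_G2 F)).1
    (by rw [hch]; exact (Classical.choose_spec (exists_exotic_G2 F)).2)
    (fun _ _ _ _ h _ _ => rank2_cases rfl h)

/-- the complete family of graph automorphisms of `G₂(F)` in characteristic not 3 -/
noncomputable def gdeG2_other [Finite F] (h3 : ringChar F ≠ 3) : GraphDataE chevG2 hD_G2 F :=
  trivialGDE chevG2 hD_G2 F (by decide) (shapeH chevG2 hD_G2 F)
    (by
      intro θ ρ f g h hU hV
      rcases rank2_cases rfl h with hid | hsw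
      · exact hid
      · exfalso
        obtain ⟨-, -, h3', -⟩ := shapeH chevG2 hD_G2 F θ ρ f g hU hV h
        exact h3 (h3' rfl (hsw 0 (by decide))))

theorem card_gdeG2_three [Finite F] [CharP F 3] : Nat.card (gdeG2_three F).Γ = 2 := by
  show Nat.card Bool = 2
  rw [Nat.card_eq_fintype_card, Fintype.card_bool]

theorem card_gdeG2_other [Finite F] (h3 : ringChar F ≠ 3) : Nat.card (gdeG2_other F h3).Γ = 1 := by
  show Nat.card Unit = 1
  rw [Nat.card_unique]

theorem card_diagonal_G2' [Fintype F] :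
    Nat.card (chevG2.diagonalSubgroup F) = (Fintype.card F - 1) ^ 2 := by
  rw [card_diagonal chevG2 (by simp) F hcA_G2 hcR_G2 hcP_G2 hcPi_G2 hcQ_G2 hcQi_G2 hcD_G2
    rootCoefOKB_G2 smithOKB_G2]
  have hr : chevG2.rank = 2 := rfl
  rw [Fin.prod_univ_eq_prod_range
    (fun k => (Fintype.card F - 1) / (Fintype.card F - 1).gcd (hcD_G2.getD k 0)) chevG2.rank, hr]
  simp [Finset.prod_range_succ, hcD_G2, pow_two]

/-- the order of the outer automorphism group of `G₂(q)` -/
theorem card_out_G2 [Fintype F] (p f : ℕ) [Fact p.Prime] [CharP F p] (hF : Fintype.card F = p ^ f) :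
    Nat.card (Cfsg.Out ↥(chevG2.group F)) = if p = 3 then 2 * f else f := by
  have hq : 0 < (Fintype.card F - 1) ^ chevG2.rank := by
    apply pow_pos
    have := Fintype.one_lt_card (α := F)
    omega
  have hH := card_diagonal_G2' F
  have hAut := card_ringEquiv_field p hF
  have hrk : chevG2.rank = 2 := rfl
  split_ifs with hp
  · subst hp
    have h1 := (gdeG2_three F).card_out 3
    rw [card_gdeG2_three, hAut, hH] at h1
    have h1' : Nat.card (Cfsg.Out ↥(chevG2.group F)) * (Fintype.card F - 1) ^ 2 =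
        (Fintype.card F - 1) ^ 2 * (2 * f) := h1
    have hq' : 0 < (Fintype.card F - 1) ^ 2 := hq
    have h2 : Nat.card (Cfsg.Out ↥(chevG2.group F)) * (Fintype.card F - 1) ^ 2 =
        (2 * f) * (Fintype.card F - 1) ^ 2 := by rw [h1']; ring
    exact Nat.eq_of_mul_eq_mul_right hq' h2
  · have h3 : ringChar F ≠ 3 := by rw [ringChar.eq F p]; exact hp
    have h1 := (gdeG2_other F h3).card_out p
    rw [card_gdeG2_other, hAut, hH] at h1
    have h1' : Nat.card (Cfsg.Out ↥(chevG2.group F)) * (Fintype.card F - 1) ^ 2 =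
        (Fintype.card F - 1) ^ 2 * (1 * f) := h1
    have hq' : 0 < (Fintype.card F - 1) ^ 2 := hq
    have h2 : Nat.card (Cfsg.Out ↥(chevG2.group F)) * (Fintype.card F - 1) ^ 2 =
        f * (Fintype.card F - 1) ^ 2 := by rw [h1']; ring
    exact Nat.eq_of_mul_eq_mul_right hq' h2

end G2

section F4
variable (F : Type*) [Field F]

theorem f4_rho_cases {θ : ↥(chevF4.group F) ≃* ↥(chevF4.group F)} {ρ : ℕ → ℕ} {f g : ℕ → F → F}
    (h : FundData chevF4 hD_F4 F θ ρ f g)
    (hU : Stab chevF4 F θ (chevF4.posUnipotent F)) (hV : Stab chevF4 F θ (chevF4.negUnipotent F)) :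
    (∀ k < chevF4.rank, ρ k = k) ∨ (∀ k < chevF4.rank, ρ k = 3 - k) := by
  have hrk : chevF4.rank = 4 := rfl
  rcases f4_rho h hU hV with ⟨e0, e1, e2, e3⟩ | ⟨e0, e1, e2, e3⟩
  · left
    intro k hk
    rw [hrk] at hk
    interval_cases k <;> assumption
  · right
    intro k hk
    rw [hrk] at hk
    interval_cases k <;> assumption

/-- the complete family of graph automorphisms of `F₄(F)` in characteristic 2 -/
noncomputable def gdeF4_two [Finite F] [CharP F 2] : GraphDataE chevF4 hD_F4 F :=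
  have hch : ringChar F = 2 := ringChar.eq F 2
  pairGDE chevF4 hD_F4 F (by decide) (shapeH chevF4 hD_F4 F) (fun k => 3 - k)
    (by intro k hk; have : chevF4.rank = 4 := rfl; omega)
    (by intro k hk k' hk' h; have : chevF4.rank = 4 := rfl; omega)
    (by norm_num)
    ⟨3, by decide, by rw [hch]; exact (f4_graphExp 2).2.2.2⟩
    (Classical.choose (exists_exotic_F4 F))
    (Classical.choose_spec (exists_exotic_F4 F)).1
    (by rw [hch]; exact (Classical.choose_spec (exists_exotic_F4 F)).2)
    (fun _ _ _ _ h hU hV => f4_rho_cases F h hU hV)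

/-- the complete family of graph automorphisms of `F₄(F)` in characteristic not 2 -/
noncomputable def gdeF4_other [Finite F] (h2 : ringChar F ≠ 2) : GraphDataE chevF4 hD_F4 F :=
  trivialGDE chevF4 hD_F4 F (by decide) (shapeH chevF4 hD_F4 F)
    (by
      intro θ ρ f g h hU hV
      rcases f4_rho_cases F h hU hV with hid | hsw
      · exact hid
      · exfalso
        obtain ⟨-, -, -, -, h2'⟩ := shapeH chevF4 hD_F4 F θ ρ f g hU hV h
        exact h2 (h2' rfl (hsw 0 (by decide))))

theorem card_gdeF4_two [Finite F] [CharP F 2] : Nat.card (gdeF4_two F).Γ = 2 := by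
  show Nat.card Bool = 2
  rw [Nat.card_eq_fintype_card, Fintype.card_bool]

theorem card_gdeF4_other [Finite F] (h2 : ringChar F ≠ 2) : Nat.card (gdeF4_other F h2).Γ = 1 := by
  show Nat.card Unit = 1
  rw [Nat.card_unique]

/-- the order of the outer automorphism group of `F₄(q)` -/
theorem card_out_F4 [Fintype F] (p f : ℕ) [Fact p.Prime] [CharP F p] (hF : Fintype.card F = p ^ f) :
    Nat.card (Cfsg.Out ↥(chevF4.group F)) = Nat.gcd 2 p * f := by
  have hq : 0 < (Fintype.card F - 1) ^ chevF4.rank := by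
    apply pow_pos
    have := Fintype.one_lt_card (α := F)
    omega
  have hH := card_diagonal_F4 F
  have hAut := card_ringEquiv_field p hF
  have hrk : chevF4.rank = 4 := rfl
  by_cases hp : p = 2
  · subst hp
    have h1 := (gdeF4_two F).card_out 2
    rw [card_gdeF4_two, hAut, hH] at h1
    have h1' : Nat.card (Cfsg.Out ↥(chevF4.group F)) * (Fintype.card F - 1) ^ 4 =
        (Fintype.card F - 1) ^ 4 * (2 * f) := h1
    have hq' : 0 < (Fintype.card F - 1) ^ 4 := hq
    have h2 : Nat.card (Cfsg.Out ↥(chevF4.group F)) * (Fintype.card F - 1) ^ 4 =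
        (Nat.gcd 2 2 * f) * (Fintype.card F - 1) ^ 4 := by rw [h1', Nat.gcd_self]; ring
    exact Nat.eq_of_mul_eq_mul_right hq' h2
  · have h2 : ringChar F ≠ 2 := by rw [ringChar.eq F p]; exact hp
    have h1 := (gdeF4_other F h2).card_out p
    rw [card_gdeF4_other, hAut, hH] at h1
    have h1' : Nat.card (Cfsg.Out ↥(chevF4.group F)) * (Fintype.card F - 1) ^ 4 =
        (Fintype.card F - 1) ^ 4 * (1 * f) := h1
    have hq' : 0 < (Fintype.card F - 1) ^ 4 := hq
    have hg : Nat.gcd 2 p = 1 := by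
      have hpp : p.Prime := Fact.out
      exact (Nat.coprime_primes Nat.prime_two hpp).mpr (fun e => hp e.symm)
    have h3 : Nat.card (Cfsg.Out ↥(chevF4.group F)) * (Fintype.card F - 1) ^ 4 =
        (Nat.gcd 2 p * f) * (Fintype.card F - 1) ^ 4 := by rw [h1', hg]; ring
    exact Nat.eq_of_mul_eq_mul_right hq' h3

end F4

end Cfsg.Agent.Lib.Helper25.SteinNL
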