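import Cfsg.Agent.Lib.Helper25.SteinNL1

/-! Automorphisms of Chevalley groups stabilising `U` and `V`: transport of root subgroups by the
fundamental reflections, and transport of commutator relations (helper25). -/

set_option autoImplicit false

namespace Cfsg.Agent.Lib.Helper25.SteinNL

open Cfsg Cfsg.Lie Matrix Cfsg.Agent.Lib.Helper7 Cfsg.Agent.Lib.Helper3.BN Cfsg.Agent.Lib.Helper11
open Cfsg.Agent.Lib.Lead.Stein

section
variable (D : ChevalleyDatum) (hD : D ∈ [chevG2, chevB2, chevD4, chevF4, chevE6, chevE7, chevE8])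
variable (F : Type*) [Field F]

variable {D hD F} in
include hD in
/-- a root parametrisation maps the root subgroup onto the root subgroup -/
theorem RootParam.maps {θ : ↥(D.group F) ≃* ↥(D.group F)} {r s : ℕ} {f : F → F}
    (h : RootParam D hD F θ r s f) :
    Maps D F θ (D.rootSubgroup F r) (D.rootSubgroup F s) := by
  intro g
  rw [mem_rootSubgroup_iff D hD F, mem_rootSubgroup_iff D hD F]
  constructor
  · rintro ⟨c, hc⟩
    obtain ⟨t, rfl⟩ := h.bij.2 c
    have h1 : θ g = θ (xG D hD F r t) := by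
      rw [h.map]; exact Subtype.ext hc
    exact ⟨t, congrArg Subtype.val (θ.injective h1)⟩
  · rintro ⟨t, ht⟩
    have h1 : g = xG D hD F r t := Subtype.ext ht
    exact ⟨f t, by rw [h1, h.map]; rfl⟩

include hD in
/-- conjugation by `n_k` maps `X_r` onto `X_{w_k r}` -/
theorem maps_conj_nGt (k : ℕ) (hk : k < D.rank) (r : ℕ) (hr : r < D.nroots) :
    Maps D F (MulAut.conj (nGt D hD F (D.simple k) 1)) (D.rootSubgroup F r)
      (D.rootSubgroup F (D.reflectRoot k r)) := by
  have h1 := maps_conj (nGt D hD F (D.simple k) 1) (D.rootSubgroup F r)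
  have h2 := rootSubgroup_map_conj D hD F [k] (by intro i hi; rw [List.mem_singleton] at hi; omega) r hr
  have e1 : nLongGL D hD F [k] = wordGL D hD F (D.nWord (D.simple k) 1) := by
    unfold nLongGL
    simp
  have e2 : actW D [k] r = D.reflectRoot k r := rfl
  rw [e1, e2] at h2
  rw [← h2]
  exact h1

include hD in
/-- conjugation by `h_r(c)` stabilises every root subgroup -/
theorem maps_conj_hGt (r : ℕ) (hr : r < D.nroots) (c : F) (hc : c ≠ 0) (s : ℕ) :
    Maps D F (MulAut.conj (hGt D hD F r c)) (D.rootSubgroup F s) (D.rootSubgroup F s) := by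
  intro g
  rw [mem_rootSubgroup_iff D hD F, mem_rootSubgroup_iff D hD F, MulAut.conj_apply]
  constructor
  · rintro ⟨t, ht⟩
    have h1 : hGt D hD F r c * g * (hGt D hD F r c)⁻¹ = xG D hD F s t := Subtype.ext ht
    have h2 : g = (hGt D hD F r c)⁻¹ * xG D hD F s t * hGt D hD F r c := by
      rw [← h1]; group
    rw [hGt_inv_conj_xG D hD F r hr c hc] at h2
    exact ⟨_, congrArg Subtype.val h2⟩
  · rintro ⟨t, ht⟩
    have h1 : g = xG D hD F s t := Subtype.ext ht
    rw [h1, hGt_conj_xG D hD F r hr c hc]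
    exact ⟨_, rfl⟩

variable {D hD F}

include hD in
/-- transport of root subgroups by a fundamental reflection -/
theorem maps_reflect {θ : ↥(D.group F) ≃* ↥(D.group F)} {ρ : ℕ → ℕ} {f g : ℕ → F → F}
    (h : FundData D hD F θ ρ f g)
    (hU : Stab D F θ (D.posUnipotent F)) (hV : Stab D F θ (D.negUnipotent F))
    (k : ℕ) (hk : k < D.rank) (r r' : ℕ) (hr : r < D.nroots) (hr' : r' < D.nroots)
    (hm : Maps D F θ (D.rootSubgroup F r) (D.rootSubgroup F r')) :
    Maps D F θ (D.rootSubgroup F (D.reflectRoot k r)) (D.rootSubgroup F (D.reflectRoot (ρ k) r')) := by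
  have hρk := h.lt k hk
  have hf1 : f k 1 ≠ 0 := (h.pos k hk).ne_zero 1 one_ne_zero
  set n := nGt D hD F (D.simple k) 1 with hn
  set n' := nGt D hD F (D.simple (ρ k)) 1 with hn'
  set h' := hGt D hD F (D.simple (ρ k)) (f k 1) with hh'
  have hθn : θ n = h' * n' := by
    rw [hn, map_nGt h hU hV k hk 1 one_ne_zero, nGt_eq_hGt_mul D hD F]
  have m1 := (maps_conj_nGt D hD F k hk r hr).symm
  have m2 := maps_conj_nGt D hD F (ρ k) hρk r' hr'
  have m3 := maps_conj_hGt D hD F (D.simple (ρ k)) (simple_lt D hD _ hρk) (f k 1) hf1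
    (D.reflectRoot (ρ k) r')
  have m := m1.trans (hm.trans (m2.trans m3))
  have he : θ = (MulAut.conj n).symm.trans (θ.trans ((MulAut.conj n').trans (MulAut.conj h'))) := by
    ext y
    simp only [MulEquiv.trans_apply, MulAut.conj_apply, MulAut.conj_symm_apply, map_mul, map_inv, hθn]
    group
  rw [he]
  exact m

end

section
variable (D : ChevalleyDatum) (hD : D ∈ [chevG2, chevB2, chevD4, chevF4, chevE6, chevE7, chevE8])
variable (F : Type*) [Field F]
include hD

/-- commutator formula for two roots whose sum is not a root -/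
theorem xGL_comm_of_nil' (r s : ℕ) (hr : r < D.nroots) (hs : s < D.nroots) (hsr : s ≠ r)
    (hsn : s ≠ D.neg r) (h : D.commTerms r s = []) (t u : F) :
    xGL D hD F s u * xGL D hD F r t = xGL D hD F r t * xGL D hD F s u := by
  have := comm_formula_GL D hD F r s hr hs hsr hsn t u
  unfold ChevalleyDatum.commWord at this
  rw [h] at this
  have e : wordGL D hD F ([] : List (ℕ × F)) = 1 := rfl
  rw [List.map_nil, e, mul_one] at this
  exact this

/-- commutator formula for two roots with a single commutator term -/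
theorem xGL_comm_of_single' (r s : ℕ) (hr : r < D.nroots) (hs : s < D.nroots) (hsr : s ≠ r)
    (hsn : s ≠ D.neg r) (k : ℕ) (C : ℤ) (h : D.commTerms r s = [(k, C, 1, 1)]) (t u : F) :
    xGL D hD F s u * xGL D hD F r t =
      xGL D hD F r t * xGL D hD F s u * xGL D hD F k ((C : F) * (-t) * u) := by
  have := comm_formula_GL D hD F r s hr hs hsr hsn t u
  unfold ChevalleyDatum.commWord at this
  rw [h] at this
  simp only [List.map_cons, List.map_nil, pow_one] at this
  have e : wordGL D hD F [(k, (C : F) * -t * u)] = xGL D hD F k ((C : F) * -t * u) := by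
    unfold wordGL; simp
  rw [e] at this
  exact this

/-- if `θ` maps a pair of root subgroups with a single commutator term `x_k(C t u)` to a commuting
pair of root subgroups, then `C = 0` in `F` -/
theorem comm_transport (θ : ↥(D.group F) ≃* ↥(D.group F)) (r s r' s' k : ℕ) (C : ℤ)
    (hr : r < D.nroots) (hs : s < D.nroots) (hr' : r' < D.nroots) (hs' : s' < D.nroots)
    (hk : k < D.nroots) (hsr : s ≠ r) (hsn : s ≠ D.neg r) (hsr' : s' ≠ r') (hsn' : s' ≠ D.neg r')
    (h1 : Maps D F θ (D.rootSubgroup F r) (D.rootSubgroup F r'))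
    (h2 : Maps D F θ (D.rootSubgroup F s) (D.rootSubgroup F s'))
    (hc : D.commTerms r s = [(k, C, 1, 1)]) (hc' : D.commTerms r' s' = []) : (C : F) = 0 := by
  obtain ⟨f₁, hf₁⟩ := exists_rootParam D hD F θ r r' hr hr' h1
  obtain ⟨f₂, hf₂⟩ := exists_rootParam D hD F θ s s' hs hs' h2
  have e1 : xG D hD F s 1 * xG D hD F r 1 =
      xG D hD F r 1 * xG D hD F s 1 * xG D hD F k ((C : F) * (-1) * 1) :=
    Subtype.ext (xGL_comm_of_single' D hD F r s hr hs hsr hsn k C hc 1 1)
  have e2 : xG D hD F s' (f₂ 1) * xG D hD F r' (f₁ 1) = xG D hD F r' (f₁ 1) * xG D hD F s' (f₂ 1) :=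
    Subtype.ext (xGL_comm_of_nil' D hD F r' s' hr' hs' hsr' hsn' hc' _ _)
  have e3 := congrArg θ e1
  rw [map_mul, map_mul, map_mul, hf₁.map, hf₂.map, e2] at e3
  have e4 : θ (xG D hD F k ((C : F) * (-1) * 1)) = 1 := by
    have := mul_left_cancel (a := xG D hD F r' (f₁ 1) * xG D hD F s' (f₂ 1)) (b := 1)
      (c := θ (xG D hD F k ((C : F) * (-1) * 1))) (by rw [mul_one]; exact e3)
    exact this.symm
  have e5 : xG D hD F k ((C : F) * (-1) * 1) = 1 := by
    rw [← map_one θ] at e4
    exact θ.injective e4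
  have e6 : xG D hD F k ((C : F) * (-1) * 1) = xG D hD F k 0 := by
    rw [e5]
    exact (Subtype.ext (xGL_zero D hD F k)).symm
  have e7 := xG_inj D hD F k hk _ _ e6
  linear_combination -e7

end

end Cfsg.Agent.Lib.Helper25.SteinNL
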