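import Cfsg.Agent.Lib.Lead.SteinN
import Cfsg.Agent.Lib.Helper25.SteinNL2
import Cfsg.Prelude.Def_ChevAutomorphisms

/-! Complete families of graph automorphisms with exponents (all seven types): the automorphisms
stabilising `U` and `V` are the products of a diagonal, a graph and a field automorphism; order of the
outer automorphism group (helper25, generalising the lead's `GraphData`). -/

set_option autoImplicit false

namespace Cfsg.Agent.Lib.Helper25.SteinNL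

open Cfsg Cfsg.Lie Matrix Cfsg.Agent.Lib.Helper7 Cfsg.Agent.Lib.Helper3.BN Cfsg.Agent.Lib.Helper11
open Cfsg.Agent.Lib.Lead.ChevCent Cfsg.Agent.Lib.Lead.ChevFix
open Cfsg.Agent.Lib.Lead.Stein

/-- a complete family of graph automorphisms, with exponents -/
structure GraphDataE (D : ChevalleyDatum)
    (hD : D ∈ [chevG2, chevB2, chevD4, chevF4, chevE6, chevE7, chevE8]) (F : Type*) [Field F] where
  Γ : Type
  perm : Γ → ℕ → ℕ
  ex : Γ → ℕ → ℕ
  γ : Γ → (↥(D.group F) ≃* ↥(D.group F))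
  perm_lt : ∀ a, ∀ k < D.rank, perm a k < D.rank
  perm_inj : ∀ a, ∀ k < D.rank, ∀ k' < D.rank, perm a k = perm a k' → k = k'
  γ_pos : ∀ a, ∀ k < D.rank, ∀ t : F,
    γ a (xG D hD F (D.simple k) t) = xG D hD F (D.simple (perm a k)) (t ^ ex a k)
  γ_neg : ∀ a, ∀ k < D.rank, ∀ t : F,
    γ a (xG D hD F (D.neg (D.simple k)) t) = xG D hD F (D.neg (D.simple (perm a k))) (t ^ ex a k)
  γ_mem : ∀ a, γ a ∈ autUV D F
  ext : ∀ a b, (∀ k < D.rank, perm a k = perm b k) → a = b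
  ex_one : ∀ a, ∃ k < D.rank, ex a k = 1
  complete : ∀ (θ : ↥(D.group F) ≃* ↥(D.group F)) (ρ : ℕ → ℕ) (f g : ℕ → F → F),
    FundData D hD F θ ρ f g → Stab D F θ (D.posUnipotent F) → Stab D F θ (D.negUnipotent F) →
    ∃ (a : Γ) (σ : F ≃+* F), (∀ k < D.rank, perm a k = ρ k) ∧
      ∀ k < D.rank, ∀ t : F, f k t = f k 1 * σ t ^ ex a k ∧ g k t = (f k 1)⁻¹ * σ t ^ ex a k

section
variable {D : ChevalleyDatum} {hD : D ∈ [chevG2, chevB2, chevD4, chevF4, chevE6, chevE7, chevE8]}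
variable {F : Type*} [Field F]

theorem GraphDataE.perm_surj (GD : GraphDataE D hD F) (a : GD.Γ) (m : ℕ) (hm : m < D.rank) :
    ∃ k < D.rank, GD.perm a k = m := by
  let pF : Fin D.rank → Fin D.rank := fun k => ⟨GD.perm a k, GD.perm_lt a k k.isLt⟩
  have hinj : Function.Injective pF := by
    intro k k' h
    exact Fin.ext (GD.perm_inj a k k.isLt k' k'.isLt (Fin.mk.inj_iff.mp h))
  obtain ⟨k, hk⟩ := Finite.injective_iff_surjective.mp hinj ⟨m, hm⟩
  exact ⟨k.val, k.isLt, Fin.mk.inj_iff.mp hk⟩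

/-- the product of a diagonal, a graph and a field automorphism -/
noncomputable def GraphDataE.prodAut (GD : GraphDataE D hD F)
    (x : (Fin D.rank → Fˣ) × GD.Γ × (F ≃+* F)) : ↥(autUV D F) :=
  ⟨(diagAut D hD F (chiOf D hD F x.1) (chiOf_chainChar D hD F x.1) : MulAut ↥(D.group F)) *
      (GD.γ x.2.1 * (phiOf D x.2.2 : MulAut ↥(D.group F))),
    Subgroup.mul_mem _ ⟨diagAut_stab_pos D hD F _ _, diagAut_stab_neg D hD F _ _⟩
      (Subgroup.mul_mem _ (GD.γ_mem x.2.1) ⟨phiOf_stab_pos D x.2.2, phiOf_stab_neg D x.2.2⟩)⟩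

theorem GraphDataE.prodAut_apply (GD : GraphDataE D hD F)
    (x : (Fin D.rank → Fˣ) × GD.Γ × (F ≃+* F)) (y : ↥(D.group F)) :
    (GD.prodAut x : MulAut ↥(D.group F)) y =
      diagAut D hD F (chiOf D hD F x.1) (chiOf_chainChar D hD F x.1) (GD.γ x.2.1 (phiOf D x.2.2 y)) :=
  rfl

theorem GraphDataE.prodAut_pos (GD : GraphDataE D hD F) (x : (Fin D.rank → Fˣ) × GD.Γ × (F ≃+* F))
    (k : ℕ) (hk : k < D.rank) (t : F) :
    (GD.prodAut x : MulAut ↥(D.group F)) (xG D hD F (D.simple k) t) =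
      xG D hD F (D.simple (GD.perm x.2.1 k))
        (((x.1 ⟨GD.perm x.2.1 k, GD.perm_lt x.2.1 k hk⟩ : Fˣ) : F) * x.2.2 t ^ GD.ex x.2.1 k) := by
  rw [GD.prodAut_apply, phiOf_xG, GD.γ_pos _ k hk, diagAut_xG,
    chiOf_simple D hD F x.1 _ (GD.perm_lt x.2.1 k hk)]

theorem GraphDataE.prodAut_neg (GD : GraphDataE D hD F) (x : (Fin D.rank → Fˣ) × GD.Γ × (F ≃+* F))
    (k : ℕ) (hk : k < D.rank) (t : F) :
    (GD.prodAut x : MulAut ↥(D.group F)) (xG D hD F (D.neg (D.simple k)) t) =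
      xG D hD F (D.neg (D.simple (GD.perm x.2.1 k)))
        ((((x.1 ⟨GD.perm x.2.1 k, GD.perm_lt x.2.1 k hk⟩ : Fˣ) : F))⁻¹ * x.2.2 t ^ GD.ex x.2.1 k) := by
  rw [GD.prodAut_apply, phiOf_xG, GD.γ_neg _ k hk, diagAut_xG,
    chiOf_neg_simple D hD F x.1 _ (GD.perm_lt x.2.1 k hk)]

include hD in
theorem GraphDataE.prodAut_injective (GD : GraphDataE D hD F) :
    Function.Injective GD.prodAut := by
  rintro ⟨c, a, σ⟩ ⟨c', a', σ'⟩ he
  have he' : ∀ (k : ℕ) (hk : k < D.rank) (t : F),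
      xG D hD F (D.simple (GD.perm a k))
        (((c ⟨GD.perm a k, GD.perm_lt a k hk⟩ : Fˣ) : F) * σ t ^ GD.ex a k) =
      xG D hD F (D.simple (GD.perm a' k))
        (((c' ⟨GD.perm a' k, GD.perm_lt a' k hk⟩ : Fˣ) : F) * σ' t ^ GD.ex a' k) := by
    intro k hk t
    have h1 := GD.prodAut_pos (c, a, σ) k hk t
    have h2 := GD.prodAut_pos (c', a', σ') k hk t
    rw [he] at h1
    rw [← h1, ← h2]
  have hperm : ∀ k < D.rank, GD.perm a k = GD.perm a' k := by
    intro k hk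
    have h1 := congrArg Subtype.val (he' k hk 1)
    rw [coe_xG, coe_xG] at h1
    have h2 := xGL_root_inj D hD F _ _ (simple_lt D hD _ (GD.perm_lt a k hk))
      (simple_lt D hD _ (GD.perm_lt a' k hk)) _ _
      (by rw [map_one, one_pow, mul_one]; exact Units.ne_zero _) h1
    exact simple_inj D hD _ _ (GD.perm_lt a k hk) (GD.perm_lt a' k hk) h2
  have haa : a = a' := GD.ext a a' hperm
  subst haa
  have hval : ∀ (k : ℕ) (hk : k < D.rank) (t : F),
      ((c ⟨GD.perm a k, GD.perm_lt a k hk⟩ : Fˣ) : F) * σ t ^ GD.ex a k =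
        ((c' ⟨GD.perm a k, GD.perm_lt a k hk⟩ : Fˣ) : F) * σ' t ^ GD.ex a k := by
    intro k hk t
    exact xG_inj D hD F _ (simple_lt D hD _ (GD.perm_lt a k hk)) _ _ (he' k hk t)
  have hcc : c = c' := by
    funext m
    obtain ⟨k, hk, hkm⟩ := GD.perm_surj a m.val m.isLt
    have := hval k hk 1
    rw [map_one, map_one, one_pow, mul_one, mul_one] at this
    have e : (⟨GD.perm a k, GD.perm_lt a k hk⟩ : Fin D.rank) = m := Fin.ext hkm
    rw [e] at this
    exact Units.ext this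
  subst hcc
  have hσ : σ = σ' := by
    ext t
    obtain ⟨k, hk, hek⟩ := GD.ex_one a
    have := hval k hk t
    rw [hek, pow_one, pow_one] at this
    exact mul_left_cancel₀ (Units.ne_zero _) this
  subst hσ
  rfl

include hD in
theorem GraphDataE.prodAut_surjective (GD : GraphDataE D hD F) : Function.Surjective GD.prodAut := by
  rintro ⟨θ, hU, hV⟩
  obtain ⟨ρ, f, g, hFD⟩ := exists_fundData D hD F θ hU hV
  obtain ⟨a, σ, ha, hσ⟩ := GD.complete θ ρ f g hFD hU hV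
  have hc : ∀ k < D.rank, f k 1 ≠ 0 := fun k hk => (hFD.pos k hk).ne_zero 1 one_ne_zero
  have hex : ∀ m : Fin D.rank, ∃ k : Fin D.rank, ρ k.val = m.val := by
    intro m
    obtain ⟨k, hk, hkm⟩ := GD.perm_surj a m.val m.isLt
    exact ⟨⟨k, hk⟩, by rw [← ha k hk]; exact hkm⟩
  choose inv hinv using hex
  let c : Fin D.rank → Fˣ := fun m => Units.mk0 (f (inv m).val 1) (hc _ (inv m).isLt)
  have hcρ : ∀ k (hk : k < D.rank), ((c ⟨ρ k, hFD.lt k hk⟩ : Fˣ) : F) = f k 1 := by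
    intro k hk
    have h1 : (inv ⟨ρ k, hFD.lt k hk⟩).val = k :=
      hFD.inj _ _ (inv _).isLt hk (hinv ⟨ρ k, hFD.lt k hk⟩)
    show f (inv ⟨ρ k, hFD.lt k hk⟩).val 1 = f k 1
    rw [h1]
  refine ⟨(c, a, σ), ?_⟩
  apply Subtype.ext
  have heq : ((GD.prodAut (c, a, σ) : MulAut ↥(D.group F)) : ↥(D.group F) ≃* ↥(D.group F)).toMonoidHom =
      θ.toMonoidHom := by
    apply hom_ext_of_fund D hD F
    · intro j hj t
      show (GD.prodAut (c, a, σ) : MulAut ↥(D.group F)) _ = θ _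
      rw [GD.prodAut_pos (c, a, σ) j hj t, (hFD.pos j hj).map, (hσ j hj t).1]
      have e : (⟨GD.perm a j, GD.perm_lt a j hj⟩ : Fin D.rank) = ⟨ρ j, hFD.lt j hj⟩ :=
        Fin.ext (ha j hj)
      show xG D hD F (D.simple (GD.perm a j))
        (((c ⟨GD.perm a j, _⟩ : Fˣ) : F) * σ t ^ GD.ex a j) = _
      rw [e, hcρ j hj, ha j hj]
    · intro j hj t
      show (GD.prodAut (c, a, σ) : MulAut ↥(D.group F)) _ = θ _
      rw [GD.prodAut_neg (c, a, σ) j hj t, (hFD.neg j hj).map, (hσ j hj t).2]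
      have e : (⟨GD.perm a j, GD.perm_lt a j hj⟩ : Fin D.rank) = ⟨ρ j, hFD.lt j hj⟩ :=
        Fin.ext (ha j hj)
      show xG D hD F (D.neg (D.simple (GD.perm a j)))
        ((((c ⟨GD.perm a j, _⟩ : Fˣ) : F))⁻¹ * σ t ^ GD.ex a j) = _
      rw [e, hcρ j hj, ha j hj]
  refine MulEquiv.ext (fun y => ?_)
  exact congrArg (fun φ : ↥(D.group F) →* ↥(D.group F) => φ y) heq

include hD in
/-- the order of the outer automorphism group -/
theorem GraphDataE.card_out [Fintype F] (GD : GraphDataE D hD F) (p : ℕ) [Fact p.Prime] [CharP F p] :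
    Nat.card (Cfsg.Out ↥(D.group F)) * Nat.card ↥(D.diagonalSubgroup F) =
      (Fintype.card F - 1) ^ D.rank * (Nat.card GD.Γ * Nat.card (F ≃+* F)) := by
  rw [← card_autUV D hD F p,
    ← Nat.card_congr (Equiv.ofBijective GD.prodAut
      ⟨GD.prodAut_injective, GD.prodAut_surjective⟩),
    Nat.card_prod, Nat.card_prod, Nat.card_fun, Nat.card_units, Nat.card_eq_fintype_card,
    Nat.card_eq_fintype_card, Fintype.card_fin]

include hD in
/-- every automorphism is the product of an inner, a diagonal, a graph and a field automorphism of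
the family -/
theorem GraphDataE.exists_decomp [Fintype F] (GD : GraphDataE D hD F) (p : ℕ) [Fact p.Prime]
    [CharP F p] (θ : ↥(D.group F) ≃* ↥(D.group F)) :
    ∃ (z : ↥(D.group F)) (c : Fin D.rank → Fˣ) (a : GD.Γ) (σ : F ≃+* F), ∀ y,
      θ y = z * diagAut D hD F (chiOf D hD F c) (chiOf_chainChar D hD F c)
        (GD.γ a (phiOf D σ y)) * z⁻¹ := by
  obtain ⟨x₁, hU, hV⟩ := exists_stab D hD F p θ
  obtain ⟨⟨c, a, σ⟩, hx⟩ := GD.prodAut_surjective ⟨θ.trans (MulAut.conj x₁), hU, hV⟩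
  refine ⟨x₁⁻¹, c, a, σ, fun y => ?_⟩
  have h1 := congrArg (fun φ : ↥(autUV D F) => (φ : MulAut ↥(D.group F)) y) hx
  simp only [GD.prodAut_apply] at h1
  rw [h1]
  simp only [MulEquiv.trans_apply, MulAut.conj_apply]
  group

end

end Cfsg.Agent.Lib.Helper25.SteinNL
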