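import Cfsg.Agent.Lib.Helper25.SteinNL3
import Cfsg.Agent.Lib.Helper25.SteinConv

/-! The decomposition theorem (inner, diagonal, graph, field) in the frozen form, for a complete
family of graph automorphisms (helper25). -/

set_option autoImplicit false

namespace Cfsg.Agent.Lib.Helper25.SteinNL

open Cfsg Cfsg.Lie Matrix Cfsg.Agent.Lib.Helper7 Cfsg.Agent.Lib.Helper3.BN Cfsg.Agent.Lib.Helper11
open Cfsg.Agent.Lib.Lead.ChevCent Cfsg.Agent.Lib.Lead.ChevFix
open Cfsg.Agent.Lib.Lead.Stein Cfsg.Agent.Lib.Helper25.SteinConv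

section
variable {D : ChevalleyDatum} {hD : D ∈ [chevG2, chevB2, chevD4, chevF4, chevE6, chevE7, chevE8]}
variable {F : Type*} [Field F]

include hD in
/-- the decomposition theorem in the frozen form, for a complete family of graph automorphisms -/
theorem GraphDataE.decomp [Finite F] (GD : GraphDataE D hD F) (hgraph : ∀ a, D.IsGraphAut (GD.γ a))
    (θ : ↥(D.group F) ≃* ↥(D.group F)) :
    ∃ (x : ↥(D.group F)) (d g f : ↥(D.group F) ≃* ↥(D.group F)),
      D.IsDiagonalAut d ∧ D.IsGraphAut g ∧ D.IsFieldAut f ∧ ∀ y : ↥(D.group F),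
        θ y = x * d (g (f y)) * x⁻¹ := by
  haveI : Fintype F := Fintype.ofFinite F
  obtain ⟨p, hp⟩ := CharP.exists F
  haveI := hp
  haveI : Fact p.Prime := ⟨CharP.char_is_prime F p⟩
  obtain ⟨z, c, a, σ, h⟩ := GD.exists_decomp p θ
  exact ⟨z, diagAut D hD F (chiOf D hD F c) (chiOf_chainChar D hD F c), GD.γ a, phiOf D σ,
    isDiagonalAut_diagAut D hD F _ _, hgraph a, isFieldAut_phiOf D hD F σ, h⟩

end

end Cfsg.Agent.Lib.Helper25.SteinNL
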