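import Cfsg.Agent.Lib.Helper25.SteinNL4

/-! An automorphism of a finite Chevalley group mapping root elements of positive (negative) roots
to root elements of positive (negative) roots stabilises `U` and `V` (helper25). -/

set_option autoImplicit false

namespace Cfsg.Agent.Lib.Helper25.SteinNL

open Cfsg Cfsg.Lie Matrix Cfsg.Agent.Lib.Helper7 Cfsg.Agent.Lib.Helper3.BN Cfsg.Agent.Lib.Helper11
open Cfsg.Agent.Lib.Lead.ChevCent Cfsg.Agent.Lib.Lead.ChevFix
open Cfsg.Agent.Lib.Lead.Stein

section
variable (D : ChevalleyDatum) (hD : D ∈ [chevG2, chevB2, chevD4, chevF4, chevE6, chevE7, chevE8])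
variable (F : Type*) [Field F]

omit hD in
/-- a stabilisation criterion over a finite group: forward inclusion suffices -/
theorem stab_of_forward [Finite F] (α : ↥(D.group F) ≃* ↥(D.group F)) (A : Subgroup (GL D.Idx F))
    (h : ∀ g : ↥(D.group F), (g : GL D.Idx F) ∈ A → (α g : GL D.Idx F) ∈ A) : Stab D F α A := by
  haveI : Finite (GL D.Idx F) :=
    Finite.of_injective (fun g : GL D.Idx F => (g : Matrix D.Idx D.Idx F)) Units.val_injective
  let S := A.subgroupOf (D.group F)
  let φ : ↥S → ↥S := fun g => ⟨α g.1, Subgroup.mem_subgroupOf.mpr (h g.1 (Subgroup.mem_subgroupOf.mp g.2))⟩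
  have hinj : Function.Injective φ := by
    intro a b hab
    have : α a.1 = α b.1 := congrArg Subtype.val hab
    exact Subtype.ext (α.injective this)
  have hsurj := Finite.injective_iff_surjective.mp hinj
  intro g
  constructor
  · intro hg
    obtain ⟨g', hg'⟩ := hsurj ⟨α g, Subgroup.mem_subgroupOf.mpr hg⟩
    have : α g'.1 = α g := congrArg Subtype.val hg'
    rw [← α.injective this]
    exact Subgroup.mem_subgroupOf.mp g'.2
  · exact h g

include hD in
/-- an automorphism mapping positive root elements to positive root elements maps `U` into `U` -/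
theorem map_mem_posUnipotent (α : ↥(D.group F) ≃* ↥(D.group F)) (bar : ℕ → ℕ) (c : ℕ → F → F)
    (hα : ∀ r, D.IsPosRoot r → ∀ t, α (xG D hD F r t) = xG D hD F (bar r) (c r t))
    (hpos : ∀ r, D.IsPosRoot r → D.IsPosRoot (bar r)) (u : GL D.Idx F) (hu : u ∈ D.posUnipotent F) :
    ∀ hG : u ∈ D.group F, (α ⟨u, hG⟩ : GL D.Idx F) ∈ D.posUnipotent F := by
  have hUG := posUnipotent_le_group D hD F
  unfold ChevalleyDatum.posUnipotent at hu
  induction hu using Subgroup.closure_induction with
  | mem u hu =>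
    intro hG
    obtain ⟨r, t, hr, hum⟩ := hu
    have : (⟨u, hG⟩ : ↥(D.group F)) = xG D hD F r t := eq_xG_of_coe D hD F _ r t hum
    rw [this, hα r hr t]
    exact xGL_pos_mem D hD F _ (hpos r hr) _
  | one =>
    intro hG
    have : (⟨1, hG⟩ : ↥(D.group F)) = 1 := rfl
    rw [this, map_one]
    exact Subgroup.one_mem _
  | mul a b ha hb iha ihb =>
    intro hG
    have haG : a ∈ D.group F := hUG ha
    have hbG : b ∈ D.group F := hUG hb
    have : (⟨a * b, hG⟩ : ↥(D.group F)) = ⟨a, haG⟩ * ⟨b, hbG⟩ := rfl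
    rw [this, map_mul]
    exact Subgroup.mul_mem _ (iha haG) (ihb hbG)
  | inv a ha iha =>
    intro hG
    have haG : a ∈ D.group F := hUG ha
    have : (⟨a⁻¹, hG⟩ : ↥(D.group F)) = (⟨a, haG⟩ : ↥(D.group F))⁻¹ := rfl
    rw [this, map_inv]
    exact Subgroup.inv_mem _ (iha haG)

include hD in
/-- an automorphism mapping negative root elements to negative root elements maps `V` into `V` -/
theorem map_mem_negUnipotent (α : ↥(D.group F) ≃* ↥(D.group F)) (bar : ℕ → ℕ) (c : ℕ → F → F)
    (hα : ∀ r, D.IsNegRoot r → ∀ t, α (xG D hD F r t) = xG D hD F (bar r) (c r t))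
    (hneg : ∀ r, D.IsNegRoot r → D.IsNegRoot (bar r)) (u : GL D.Idx F) (hu : u ∈ D.negUnipotent F) :
    ∀ hG : u ∈ D.group F, (α ⟨u, hG⟩ : GL D.Idx F) ∈ D.negUnipotent F := by
  have hUG := negUnipotent_le_group D hD F
  unfold ChevalleyDatum.negUnipotent at hu
  induction hu using Subgroup.closure_induction with
  | mem u hu =>
    intro hG
    obtain ⟨r, t, hr, hum⟩ := hu
    have : (⟨u, hG⟩ : ↥(D.group F)) = xG D hD F r t := eq_xG_of_coe D hD F _ r t hum
    rw [this, hα r hr t]
    exact xGL_neg_mem D hD F _ (hneg r hr) _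
  | one =>
    intro hG
    have : (⟨1, hG⟩ : ↥(D.group F)) = 1 := rfl
    rw [this, map_one]
    exact Subgroup.one_mem _
  | mul a b ha hb iha ihb =>
    intro hG
    have haG : a ∈ D.group F := hUG ha
    have hbG : b ∈ D.group F := hUG hb
    have : (⟨a * b, hG⟩ : ↥(D.group F)) = ⟨a, haG⟩ * ⟨b, hbG⟩ := rfl
    rw [this, map_mul]
    exact Subgroup.mul_mem _ (iha haG) (ihb hbG)
  | inv a ha iha =>
    intro hG
    have haG : a ∈ D.group F := hUG ha
    have : (⟨a⁻¹, hG⟩ : ↥(D.group F)) = (⟨a, haG⟩ : ↥(D.group F))⁻¹ := rfl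
    rw [this, map_inv]
    exact Subgroup.inv_mem _ (iha haG)

include hD in
/-- an automorphism of a finite Chevalley group permuting the root elements and preserving the signs
of the roots stabilises `U` and `V` -/
theorem mem_autUV_of_root_map [Finite F] (α : ↥(D.group F) ≃* ↥(D.group F)) (bar : ℕ → ℕ)
    (c : ℕ → F → F)
    (hα : ∀ r < D.nroots, ∀ t, α (xG D hD F r t) = xG D hD F (bar r) (c r t))
    (hpos : ∀ r, D.IsPosRoot r → D.IsPosRoot (bar r))
    (hneg : ∀ r, D.IsNegRoot r → D.IsNegRoot (bar r)) :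
    (α : MulAut ↥(D.group F)) ∈ autUV D F := by
  constructor
  · apply stab_of_forward D F α
    intro g hg
    exact map_mem_posUnipotent D hD F α bar c (fun r hr t => hα r hr.1 t) hpos _ hg g.2
  · apply stab_of_forward D F α
    intro g hg
    exact map_mem_negUnipotent D hD F α bar c (fun r hr t => hα r hr.1 t) hneg _ hg g.2

end

end Cfsg.Agent.Lib.Helper25.SteinNL
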