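import Cfsg.Agent.Lib.Helper25.SteinNL5
import Cfsg.Agent.Lib.Helper11.IsogG2
import Cfsg.Agent.Lib.Helper11.IsogB2
import Cfsg.Agent.Lib.Helper11.IsogF4

/-! The exceptional graph automorphisms of `G₂(F)` (characteristic 3), `B₂(F)`, `F₄(F)`
(characteristic 2), `F` finite, from helper11's special isogenies, packaged as elements of the
lead's `autUV` (helper25). -/

set_option autoImplicit false
set_option maxRecDepth 100000

namespace Cfsg.Agent.Lib.Helper25.SteinNL

open Cfsg Cfsg.Lie Matrix Cfsg.Agent.Lib.Helper7 Cfsg.Agent.Lib.Helper3.BN Cfsg.Agent.Lib.Helper11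
open Cfsg.Agent.Lib.Lead.ChevCent Cfsg.Agent.Lib.Lead.ChevFix
open Cfsg.Agent.Lib.Lead.Stein Cfsg.Agent.Lib.Helper11.Isog

/-- a finite field of characteristic `p` is perfect -/
theorem exists_pow_char (F : Type*) [Field F] [Finite F] (p : ℕ) [Fact p.Prime] [CharP F p] (x : F) :
    ∃ y : F, y ^ p = x := by
  have hinj : Function.Injective (frobenius F p) := frobenius_inj F p
  obtain ⟨y, hy⟩ := Finite.injective_iff_surjective.mp hinj x
  exact ⟨y, hy⟩

theorem hD_G2 : chevG2 ∈ [chevG2, chevB2, chevD4, chevF4, chevE6, chevE7, chevE8] := by simp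
theorem hD_B2 : chevB2 ∈ [chevG2, chevB2, chevD4, chevF4, chevE6, chevE7, chevE8] := by simp
theorem hD_F4 : chevF4 ∈ [chevG2, chevB2, chevD4, chevF4, chevE6, chevE7, chevE8] := by simp

theorem g2_bar_pos : ∀ r, chevG2.IsPosRoot r → chevG2.IsPosRoot (g2Data.bar r) := by
  intro r hr
  have h : ∀ r < chevG2.nroots, chevG2.IsPosRoot r → chevG2.IsPosRoot (g2Data.bar r) := by decide
  exact h r hr.1 hr

theorem g2_bar_neg : ∀ r, chevG2.IsNegRoot r → chevG2.IsNegRoot (g2Data.bar r) := by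
  intro r hr
  have h : ∀ r < chevG2.nroots, chevG2.IsNegRoot r → chevG2.IsNegRoot (g2Data.bar r) := by decide
  exact h r hr.1 hr

theorem b2_bar_pos : ∀ r, chevB2.IsPosRoot r → chevB2.IsPosRoot (b2Data.bar r) := by
  intro r hr
  have h : ∀ r < chevB2.nroots, chevB2.IsPosRoot r → chevB2.IsPosRoot (b2Data.bar r) := by decide
  exact h r hr.1 hr

theorem b2_bar_neg : ∀ r, chevB2.IsNegRoot r → chevB2.IsNegRoot (b2Data.bar r) := by
  intro r hr
  have h : ∀ r < chevB2.nroots, chevB2.IsNegRoot r → chevB2.IsNegRoot (b2Data.bar r) := by decide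
  exact h r hr.1 hr

theorem f4_bar_pos : ∀ r, chevF4.IsPosRoot r → chevF4.IsPosRoot (f4Data.bar r) := by
  intro r hr
  have h : ∀ r < chevF4.nroots, chevF4.IsPosRoot r → chevF4.IsPosRoot (f4Data.bar r) := by
    decide +kernel
  exact h r hr.1 hr

theorem f4_bar_neg : ∀ r, chevF4.IsNegRoot r → chevF4.IsNegRoot (f4Data.bar r) := by
  intro r hr
  have h : ∀ r < chevF4.nroots, chevF4.IsNegRoot r → chevF4.IsNegRoot (f4Data.bar r) := by
    decide +kernel
  exact h r hr.1 hr

/-- table facts for the exceptional symmetry `k ↦ 1 - k` of `G₂` -/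
theorem g2_exotic_tab : ∀ k < chevG2.rank,
    g2Data.bar (chevG2.simple k) = chevG2.simple (1 - k) ∧
    g2Data.lam (chevG2.simple k) = chevG2.graphExp 3 k (1 - k) ∧
    g2Data.bar (chevG2.neg (chevG2.simple k)) = chevG2.neg (chevG2.simple (1 - k)) ∧
    g2Data.lam (chevG2.neg (chevG2.simple k)) = chevG2.graphExp 3 k (1 - k) ∧
    chevG2.simple k < chevG2.nroots ∧ chevG2.neg (chevG2.simple k) < chevG2.nroots := by
  decide +kernel

theorem b2_exotic_tab : ∀ k < chevB2.rank,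
    b2Data.bar (chevB2.simple k) = chevB2.simple (1 - k) ∧
    b2Data.lam (chevB2.simple k) = chevB2.graphExp 2 k (1 - k) ∧
    b2Data.bar (chevB2.neg (chevB2.simple k)) = chevB2.neg (chevB2.simple (1 - k)) ∧
    b2Data.lam (chevB2.neg (chevB2.simple k)) = chevB2.graphExp 2 k (1 - k) ∧
    chevB2.simple k < chevB2.nroots ∧ chevB2.neg (chevB2.simple k) < chevB2.nroots := by
  decide +kernel

theorem f4_exotic_tab : ∀ k < chevF4.rank,
    f4Data.bar (chevF4.simple k) = chevF4.simple (3 - k) ∧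
    f4Data.lam (chevF4.simple k) = chevF4.graphExp 2 k (3 - k) ∧
    f4Data.bar (chevF4.neg (chevF4.simple k)) = chevF4.neg (chevF4.simple (3 - k)) ∧
    f4Data.lam (chevF4.neg (chevF4.simple k)) = chevF4.graphExp 2 k (3 - k) ∧
    chevF4.simple k < chevF4.nroots ∧ chevF4.neg (chevF4.simple k) < chevF4.nroots := by
  decide +kernel

/-- the exceptional graph automorphism of `G₂(F)`, `F` finite of characteristic 3 -/
theorem exists_exotic_G2 (F : Type*) [Field F] [Finite F] [CharP F 3] :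
    ∃ γ : ↥(chevG2.group F) ≃* ↥(chevG2.group F), (γ : MulAut ↥(chevG2.group F)) ∈ autUV chevG2 F ∧
      ∀ k < chevG2.rank, ∀ t : F,
        γ (xG chevG2 hD_G2 F (chevG2.simple k) t) =
          xG chevG2 hD_G2 F (chevG2.simple (1 - k)) (t ^ chevG2.graphExp 3 k (1 - k)) ∧
        γ (xG chevG2 hD_G2 F (chevG2.neg (chevG2.simple k)) t) =
          xG chevG2 hD_G2 F (chevG2.neg (chevG2.simple (1 - k))) (t ^ chevG2.graphExp 3 k (1 - k)) := by
  haveI : Fact (Nat.Prime 3) := ⟨by norm_num⟩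
  obtain ⟨α, hα⟩ := g2_exists_equiv F (exists_pow_char F 3)
  refine ⟨α, mem_autUV_of_root_map chevG2 hD_G2 F α g2Data.bar (fun r t => t ^ g2Data.lam r)
    hα g2_bar_pos g2_bar_neg, ?_⟩
  intro k hk t
  obtain ⟨e1, e2, e3, e4, h1, h2⟩ := g2_exotic_tab k hk
  refine ⟨?_, ?_⟩
  · have := hα _ h1 t
    rw [e1, e2] at this
    exact this
  · have := hα _ h2 t
    rw [e3, e4] at this
    exact this

/-- the exceptional graph automorphism of `B₂(F)`, `F` finite of characteristic 2 -/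
theorem exists_exotic_B2 (F : Type*) [Field F] [Finite F] [CharP F 2] :
    ∃ γ : ↥(chevB2.group F) ≃* ↥(chevB2.group F), (γ : MulAut ↥(chevB2.group F)) ∈ autUV chevB2 F ∧
      ∀ k < chevB2.rank, ∀ t : F,
        γ (xG chevB2 hD_B2 F (chevB2.simple k) t) =
          xG chevB2 hD_B2 F (chevB2.simple (1 - k)) (t ^ chevB2.graphExp 2 k (1 - k)) ∧
        γ (xG chevB2 hD_B2 F (chevB2.neg (chevB2.simple k)) t) =
          xG chevB2 hD_B2 F (chevB2.neg (chevB2.simple (1 - k))) (t ^ chevB2.graphExp 2 k (1 - k)) := by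
  haveI : Fact (Nat.Prime 2) := ⟨by norm_num⟩
  obtain ⟨α, hα⟩ := b2_exists_equiv F (exists_pow_char F 2)
  refine ⟨α, mem_autUV_of_root_map chevB2 hD_B2 F α b2Data.bar (fun r t => t ^ b2Data.lam r)
    hα b2_bar_pos b2_bar_neg, ?_⟩
  intro k hk t
  obtain ⟨e1, e2, e3, e4, h1, h2⟩ := b2_exotic_tab k hk
  refine ⟨?_, ?_⟩
  · have := hα _ h1 t
    rw [e1, e2] at this
    exact this
  · have := hα _ h2 t
    rw [e3, e4] at this
    exact this

/-- the exceptional graph automorphism of `F₄(F)`, `F` finite of characteristic 2 -/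
theorem exists_exotic_F4 (F : Type*) [Field F] [Finite F] [CharP F 2] :
    ∃ γ : ↥(chevF4.group F) ≃* ↥(chevF4.group F), (γ : MulAut ↥(chevF4.group F)) ∈ autUV chevF4 F ∧
      ∀ k < chevF4.rank, ∀ t : F,
        γ (xG chevF4 hD_F4 F (chevF4.simple k) t) =
          xG chevF4 hD_F4 F (chevF4.simple (3 - k)) (t ^ chevF4.graphExp 2 k (3 - k)) ∧
        γ (xG chevF4 hD_F4 F (chevF4.neg (chevF4.simple k)) t) =
          xG chevF4 hD_F4 F (chevF4.neg (chevF4.simple (3 - k))) (t ^ chevF4.graphExp 2 k (3 - k)) := by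
  haveI : Fact (Nat.Prime 2) := ⟨by norm_num⟩
  obtain ⟨α, hα⟩ := f4_exists_equiv F (exists_pow_char F 2)
  refine ⟨α, mem_autUV_of_root_map chevF4 hD_F4 F α f4Data.bar (fun r t => t ^ f4Data.lam r)
    hα f4_bar_pos f4_bar_neg, ?_⟩
  intro k hk t
  obtain ⟨e1, e2, e3, e4, h1, h2⟩ := f4_exotic_tab k hk
  refine ⟨?_, ?_⟩
  · have := hα _ h1 t
    rw [e1, e2] at this
    exact this
  · have := hα _ h2 t
    rw [e3, e4] at this
    exact this

end Cfsg.Agent.Lib.Helper25.SteinNL
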