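import Cfsg.Agent.Lib.Helper25.SteinNL6

/-! The shape of the automorphisms of `G₂(F)` and `B₂(F)` stabilising `U` and `V`
(torus-relation route; helper25). -/

set_option autoImplicit false
set_option maxRecDepth 100000

namespace Cfsg.Agent.Lib.Helper25.SteinNL

open Cfsg Cfsg.Lie Matrix Cfsg.Agent.Lib.Helper7 Cfsg.Agent.Lib.Helper3.BN Cfsg.Agent.Lib.Helper11
open Cfsg.Agent.Lib.Lead.ChevCent Cfsg.Agent.Lib.Lead.ChevFix
open Cfsg.Agent.Lib.Lead.Stein Cfsg.Agent.Lib.Helper25.SteinConv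

/-- the shape statement: all the information on the automorphisms stabilising `U` and `V`
(same body as the lead's `Shape`) -/
def ShapeH (D : ChevalleyDatum) (hD : D ∈ [chevG2, chevB2, chevD4, chevF4, chevE6, chevE7, chevE8])
    (F : Type*) [Field F] : Prop :=
  ∀ (θ : ↥(D.group F) ≃* ↥(D.group F)) (ρ : ℕ → ℕ) (f g : ℕ → F → F),
    Stab D F θ (D.posUnipotent F) → Stab D F θ (D.negUnipotent F) → FundData D hD F θ ρ f g →
    (∀ i < D.rank, ∀ j < D.rank, i ≠ j → D.bonds (ρ i) (ρ j) = D.bonds i j) ∧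
    (∃ σ : F ≃+* F, ∀ k < D.rank, ∀ t, f k t = f k 1 * σ t ^ D.graphExp (ringChar F) k (ρ k) ∧
      g k t = (f k 1)⁻¹ * σ t ^ D.graphExp (ringChar F) k (ρ k)) ∧
    (D = chevG2 → ρ 0 = 1 → ringChar F = 3) ∧ (D = chevB2 → ρ 0 = 1 → ringChar F = 2) ∧
    (D = chevF4 → ρ 0 = 3 → ringChar F = 2)

section
variable {D : ChevalleyDatum} {hD : D ∈ [chevG2, chevB2, chevD4, chevF4, chevE6, chevE7, chevE8]}
variable {F : Type*} [Field F]

include hD in
/-- the image of a root subgroup is unique -/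
theorem maps_root_unique (θ : ↥(D.group F) ≃* ↥(D.group F)) (r s s' : ℕ) (hs : s < D.nroots)
    (hs' : s' < D.nroots)
    (h1 : Maps D F θ (D.rootSubgroup F r) (D.rootSubgroup F s))
    (h2 : Maps D F θ (D.rootSubgroup F r) (D.rootSubgroup F s')) : s = s' := by
  have e1 : ((xG D hD F s 1 : ↥(D.group F)) : GL D.Idx F) ∈ D.rootSubgroup F s :=
    (mem_rootSubgroup_iff D hD F s _).mpr ⟨1, rfl⟩
  have e2 := (h1.symm _).mpr e1
  have e3 := (h2 (θ.symm (xG D hD F s 1))).mpr e2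
  rw [MulEquiv.apply_symm_apply, mem_rootSubgroup_iff D hD F] at e3
  obtain ⟨t, ht⟩ := e3
  exact xGL_root_inj D hD F s s' hs hs' 1 t one_ne_zero ht

theorem eq_of_zpow_neg_one {a b : F} (h : a ^ (-1 : ℤ) = b ^ (-1 : ℤ)) : a = b := by
  rw [_root_.zpow_neg_one, _root_.zpow_neg_one] at h
  exact inv_inj.mp h

theorem eq_pow_of_zpow_neg {a b : F} (n : ℕ) (h : a ^ (-1 : ℤ) = b ^ (-(n : ℤ))) : a = b ^ n := by
  rw [_root_.zpow_neg_one, _root_.zpow_neg, _root_.zpow_natCast] at h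
  exact inv_inj.mp h

end

section G2
variable {F : Type*} [Field F]

theorem g2_tab :
    carR chevG2 (chevG2.simple 1) (chevG2.simple 0) = -1 ∧
    carR chevG2 (chevG2.simple 0) (chevG2.simple 1) = -3 ∧
    chevG2.simple 0 = 7 ∧ chevG2.simple 1 = 6 ∧
    chevG2.reflectRoot 1 7 = 8 ∧ chevG2.reflectRoot 0 6 = 10 ∧
    chevG2.reflectRoot 0 8 = 9 ∧ chevG2.reflectRoot 1 10 = 11 ∧
    chevG2.commTerms 7 9 = [(10, 3, 1, 1)] ∧ chevG2.commTerms 6 11 = [] ∧
    chevG2.neg 7 = 4 ∧ chevG2.neg 6 = 5 ∧ chevG2.nroots = 12 ∧ chevG2.rank = 2 := by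
  decide +kernel

theorem g2_graphExp (c : ℕ) : chevG2.graphExp c 0 1 = c ∧ chevG2.graphExp c 1 0 = 1 := by
  have h1 : chevG2.isLong (chevG2.simple 0) = false := by decide +kernel
  have h2 : chevG2.isLong (chevG2.simple 1) = true := by decide +kernel
  unfold ChevalleyDatum.graphExp
  rw [h1, h2]
  simp

/-- if the nodes of `G₂` are swapped then `3 = 0` in `F` -/
theorem g2_three_eq_zero {θ : ↥(chevG2.group F) ≃* ↥(chevG2.group F)} {ρ : ℕ → ℕ} {f g : ℕ → F → F}
    (h : FundData chevG2 hD_G2 F θ ρ f g)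
    (hU : Stab chevG2 F θ (chevG2.posUnipotent F)) (hV : Stab chevG2 F θ (chevG2.negUnipotent F))
    (h0 : ρ 0 = 1) (h1 : ρ 1 = 0) : (3 : F) = 0 := by
  obtain ⟨-, -, s0, s1, r1, r2, r3, r4, c1, c2, n1, n2, hn, hrk⟩ := g2_tab
  have m0 := RootParam.maps (h.pos 0 (by rw [hrk]; norm_num))
  have m1 := RootParam.maps (h.pos 1 (by rw [hrk]; norm_num))
  rw [h0, s0, s1] at m0
  rw [h1, s0, s1] at m1
  have m2 := maps_reflect h hU hV 1 (by rw [hrk]; norm_num) 7 6 (by rw [hn]; norm_num)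
    (by rw [hn]; norm_num) m0
  rw [h1, r1, r2] at m2
  have m3 := maps_reflect h hU hV 0 (by rw [hrk]; norm_num) 8 10 (by rw [hn]; norm_num)
    (by rw [hn]; norm_num) m2
  rw [h0, r3, r4] at m3
  have := comm_transport chevG2 hD_G2 F θ 7 9 6 11 10 3 (by rw [hn]; norm_num) (by rw [hn]; norm_num)
    (by rw [hn]; norm_num) (by rw [hn]; norm_num) (by rw [hn]; norm_num) (by norm_num)
    (by rw [n1]; norm_num) (by norm_num) (by rw [n2]; norm_num) m0 m3 c1 c2
  exact_mod_cast this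

/-- the shape of the automorphisms of `G₂(F)` stabilising `U` and `V` -/
theorem shapeH_G2 [Finite F] : ShapeH chevG2 hD_G2 F := by
  intro θ ρ f g hU hV h
  obtain ⟨a1, a2, -, -, -, -, -, -, -, -, -, -, -, hrk⟩ := g2_tab
  have hr0 : (0 : ℕ) < chevG2.rank := by rw [hrk]; norm_num
  have hr1 : (1 : ℕ) < chevG2.rank := by rw [hrk]; norm_num
  have hl0 := h.lt 0 hr0
  have hl1 := h.lt 1 hr1
  rw [hrk] at hl0 hl1
  have hne : ρ 0 ≠ ρ 1 := fun he => absurd (h.inj 0 1 hr0 hr1 he) (by norm_num)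
  obtain ⟨σ0, hσ0⟩ := exists_sigma h hU hV 0 hr0
  obtain ⟨σ1, hσ1⟩ := exists_sigma h hU hV 1 hr1
  have hrel := sigma_rel h hU hV 0 1 hr0 hr1 σ0 σ1 (fun t => (hσ0 t).1) (fun t => (hσ1 t).1)
  have hcase : (ρ 0 = 0 ∧ ρ 1 = 1) ∨ (ρ 0 = 1 ∧ ρ 1 = 0) := by omega
  have hbonds : ∀ i < chevG2.rank, ∀ j < chevG2.rank, i ≠ j →
      chevG2.bonds (ρ i) (ρ j) = chevG2.bonds i j := by
    intro i hi j hj hij
    rw [hrk] at hi hj
    have hsym : ∀ a b, chevG2.bonds a b = chevG2.bonds b a := by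
      intro a b; unfold ChevalleyDatum.bonds; ring
    rcases hcase with ⟨e0, e1⟩ | ⟨e0, e1⟩
    · have hi' : i = 0 ∨ i = 1 := by omega
      have hj' : j = 0 ∨ j = 1 := by omega
      rcases hi' with rfl | rfl <;> rcases hj' with rfl | rfl <;> simp_all
    · have hi' : i = 0 ∨ i = 1 := by omega
      have hj' : j = 0 ∨ j = 1 := by omega
      rcases hi' with rfl | rfl <;> rcases hj' with rfl | rfl
      · exact absurd rfl hij
      · rw [e0, e1]; exact hsym 1 0
      · rw [e0, e1]; exact hsym 0 1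
      · exact absurd rfl hij
  refine ⟨hbonds, ?_, ?_, fun hD => absurd (congrArg ChevalleyDatum.nroots hD) (by decide),
    fun hD => absurd (congrArg ChevalleyDatum.nroots hD) (by decide)⟩
  · rcases hcase with ⟨e0, e1⟩ | ⟨e0, e1⟩
    · -- identity: the two field automorphisms agree
      have hσ : ∀ c, σ0 c = σ1 c := by
        intro c
        by_cases hc : c = 0
        · rw [hc, map_zero, map_zero]
        · have := hrel c hc
          rw [e0, e1, a1] at this
          exact eq_of_zpow_neg_one this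
      refine ⟨σ1, fun k hk t => ?_⟩
      rw [hrk] at hk
      have hk' : k = 0 ∨ k = 1 := by omega
      rcases hk' with rfl | rfl
      · rw [e0, graphExp_self, pow_one, ← hσ]; exact hσ0 t
      · rw [e1, graphExp_self, pow_one]; exact hσ1 t
    · -- swap
      have h3 := g2_three_eq_zero h hU hV e0 e1
      have hch : ringChar F = 3 :=
        CharP.ringChar_of_prime_eq_zero (by norm_num) (by exact_mod_cast h3)
      have hσ : ∀ c, σ0 c = σ1 c ^ 3 := by
        intro c
        by_cases hc : c = 0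
        · rw [hc, map_zero, map_zero]; norm_num
        · have := hrel c hc
          rw [e0, e1, a1, a2] at this
          exact eq_pow_of_zpow_neg 3 this
      refine ⟨σ1, fun k hk t => ?_⟩
      rw [hrk] at hk
      have hk' : k = 0 ∨ k = 1 := by omega
      rcases hk' with rfl | rfl
      · rw [e0, hch, (g2_graphExp 3).1, ← hσ]; exact hσ0 t
      · rw [e1, hch, (g2_graphExp 3).2, pow_one]; exact hσ1 t
  · intro _ e0
    have e1 : ρ 1 = 0 := by omega
    have h3 := g2_three_eq_zero h hU hV e0 e1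
    exact CharP.ringChar_of_prime_eq_zero (by norm_num) (by exact_mod_cast h3)

end G2

section B2
variable {F : Type*} [Field F]

theorem b2_tab :
    carR chevB2 (chevB2.simple 1) (chevB2.simple 0) = -1 ∧
    carR chevB2 (chevB2.simple 0) (chevB2.simple 1) = -2 ∧
    chevB2.simple 0 = 5 ∧ chevB2.simple 1 = 4 ∧
    chevB2.reflectRoot 1 5 = 6 ∧ chevB2.reflectRoot 0 4 = 7 ∧
    chevB2.commTerms 5 6 = [(7, 2, 1, 1)] ∧ chevB2.commTerms 4 7 = [] ∧
    chevB2.neg 5 = 2 ∧ chevB2.neg 4 = 3 ∧ chevB2.nroots = 8 ∧ chevB2.rank = 2 := by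
  decide +kernel

theorem b2_graphExp (c : ℕ) : chevB2.graphExp c 0 1 = c ∧ chevB2.graphExp c 1 0 = 1 := by
  have h1 : chevB2.isLong (chevB2.simple 0) = false := by decide +kernel
  have h2 : chevB2.isLong (chevB2.simple 1) = true := by decide +kernel
  unfold ChevalleyDatum.graphExp
  rw [h1, h2]
  simp

/-- if the nodes of `B₂` are swapped then `2 = 0` in `F` -/
theorem b2_two_eq_zero {θ : ↥(chevB2.group F) ≃* ↥(chevB2.group F)} {ρ : ℕ → ℕ} {f g : ℕ → F → F}
    (h : FundData chevB2 hD_B2 F θ ρ f g)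
    (hU : Stab chevB2 F θ (chevB2.posUnipotent F)) (hV : Stab chevB2 F θ (chevB2.negUnipotent F))
    (h0 : ρ 0 = 1) (h1 : ρ 1 = 0) : (2 : F) = 0 := by
  obtain ⟨-, -, s0, s1, r1, r2, c1, c2, n1, n2, hn, hrk⟩ := b2_tab
  have m0 := RootParam.maps (h.pos 0 (by rw [hrk]; norm_num))
  rw [h0, s0, s1] at m0
  have m2 := maps_reflect h hU hV 1 (by rw [hrk]; norm_num) 5 4 (by rw [hn]; norm_num)
    (by rw [hn]; norm_num) m0
  rw [h1, r1, r2] at m2
  have := comm_transport chevB2 hD_B2 F θ 5 6 4 7 7 2 (by rw [hn]; norm_num) (by rw [hn]; norm_num)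
    (by rw [hn]; norm_num) (by rw [hn]; norm_num) (by rw [hn]; norm_num) (by norm_num)
    (by rw [n1]; norm_num) (by norm_num) (by rw [n2]; norm_num) m0 m2 c1 c2
  exact_mod_cast this

/-- the shape of the automorphisms of `B₂(F)` stabilising `U` and `V` -/
theorem shapeH_B2 [Finite F] : ShapeH chevB2 hD_B2 F := by
  intro θ ρ f g hU hV h
  obtain ⟨a1, a2, -, -, -, -, -, -, -, -, -, hrk⟩ := b2_tab
  have hr0 : (0 : ℕ) < chevB2.rank := by rw [hrk]; norm_num
  have hr1 : (1 : ℕ) < chevB2.rank := by rw [hrk]; norm_num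
  have hl0 := h.lt 0 hr0
  have hl1 := h.lt 1 hr1
  rw [hrk] at hl0 hl1
  have hne : ρ 0 ≠ ρ 1 := fun he => absurd (h.inj 0 1 hr0 hr1 he) (by norm_num)
  obtain ⟨σ0, hσ0⟩ := exists_sigma h hU hV 0 hr0
  obtain ⟨σ1, hσ1⟩ := exists_sigma h hU hV 1 hr1
  have hrel := sigma_rel h hU hV 0 1 hr0 hr1 σ0 σ1 (fun t => (hσ0 t).1) (fun t => (hσ1 t).1)
  have hcase : (ρ 0 = 0 ∧ ρ 1 = 1) ∨ (ρ 0 = 1 ∧ ρ 1 = 0) := by omega
  have hbonds : ∀ i < chevB2.rank, ∀ j < chevB2.rank, i ≠ j →
      chevB2.bonds (ρ i) (ρ j) = chevB2.bonds i j := by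
    intro i hi j hj hij
    rw [hrk] at hi hj
    have hsym : ∀ a b, chevB2.bonds a b = chevB2.bonds b a := by
      intro a b; unfold ChevalleyDatum.bonds; ring
    rcases hcase with ⟨e0, e1⟩ | ⟨e0, e1⟩
    · have hi' : i = 0 ∨ i = 1 := by omega
      have hj' : j = 0 ∨ j = 1 := by omega
      rcases hi' with rfl | rfl <;> rcases hj' with rfl | rfl <;> simp_all
    · have hi' : i = 0 ∨ i = 1 := by omega
      have hj' : j = 0 ∨ j = 1 := by omega
      rcases hi' with rfl | rfl <;> rcases hj' with rfl | rfl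
      · exact absurd rfl hij
      · rw [e0, e1]; exact hsym 1 0
      · rw [e0, e1]; exact hsym 0 1
      · exact absurd rfl hij
  refine ⟨hbonds, ?_, fun hD => absurd (congrArg ChevalleyDatum.nroots hD) (by decide), ?_,
    fun hD => absurd (congrArg ChevalleyDatum.nroots hD) (by decide)⟩
  · rcases hcase with ⟨e0, e1⟩ | ⟨e0, e1⟩
    · have hσ : ∀ c, σ0 c = σ1 c := by
        intro c
        by_cases hc : c = 0
        · rw [hc, map_zero, map_zero]
        · have := hrel c hc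
          rw [e0, e1, a1] at this
          exact eq_of_zpow_neg_one this
      refine ⟨σ1, fun k hk t => ?_⟩
      rw [hrk] at hk
      have hk' : k = 0 ∨ k = 1 := by omega
      rcases hk' with rfl | rfl
      · rw [e0, graphExp_self, pow_one, ← hσ]; exact hσ0 t
      · rw [e1, graphExp_self, pow_one]; exact hσ1 t
    · have h2 := b2_two_eq_zero h hU hV e0 e1
      have hch : ringChar F = 2 :=
        CharP.ringChar_of_prime_eq_zero (by norm_num) (by exact_mod_cast h2)
      have hσ : ∀ c, σ0 c = σ1 c ^ 2 := by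
        intro c
        by_cases hc : c = 0
        · rw [hc, map_zero, map_zero]; norm_num
        · have := hrel c hc
          rw [e0, e1, a1, a2] at this
          exact eq_pow_of_zpow_neg 2 this
      refine ⟨σ1, fun k hk t => ?_⟩
      rw [hrk] at hk
      have hk' : k = 0 ∨ k = 1 := by omega
      rcases hk' with rfl | rfl
      · rw [e0, hch, (b2_graphExp 2).1, ← hσ]; exact hσ0 t
      · rw [e1, hch, (b2_graphExp 2).2, pow_one]; exact hσ1 t
  · intro _ e0
    have e1 : ρ 1 = 0 := by omega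
    have h2 := b2_two_eq_zero h hU hV e0 e1
    exact CharP.ringChar_of_prime_eq_zero (by norm_num) (by exact_mod_cast h2)

end B2

end Cfsg.Agent.Lib.Helper25.SteinNL
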