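import Cfsg.Agent.Lib.Helper25.SteinNL7

/-! The shape of the automorphisms of `F₄(F)` stabilising `U` and `V`
(torus-relation route; helper25). -/

set_option autoImplicit false
set_option maxRecDepth 100000

namespace Cfsg.Agent.Lib.Helper25.SteinNL

open Cfsg Cfsg.Lie Matrix Cfsg.Agent.Lib.Helper7 Cfsg.Agent.Lib.Helper3.BN Cfsg.Agent.Lib.Helper11
open Cfsg.Agent.Lib.Lead.ChevCent Cfsg.Agent.Lib.Lead.ChevFix
open Cfsg.Agent.Lib.Lead.Stein Cfsg.Agent.Lib.Helper25.SteinConv

section F4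
variable {F : Type*} [Field F]

theorem f4_tab :
    carR chevF4 (chevF4.simple 0) (chevF4.simple 1) = -1 ∧
    carR chevF4 (chevF4.simple 2) (chevF4.simple 1) = -1 ∧
    carR chevF4 (chevF4.simple 3) (chevF4.simple 2) = -1 ∧
    carR chevF4 (chevF4.simple 1) (chevF4.simple 2) = -2 ∧
    chevF4.simple 1 = 27 ∧ chevF4.simple 2 = 25 ∧
    chevF4.reflectRoot 2 27 = 28 ∧ chevF4.reflectRoot 1 25 = 30 ∧
    chevF4.commTerms 27 28 = [(30, 2, 1, 1)] ∧ chevF4.commTerms 25 30 = [] ∧
    chevF4.neg 27 = 20 ∧ chevF4.neg 25 = 22 ∧ chevF4.nroots = 48 ∧ chevF4.rank = 4 := by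
  decide +kernel

/-- non-adjacent nodes: the reflection fixes the fundamental root -/
theorem f4_nonadj : chevF4.reflectRoot 0 (chevF4.simple 2) = chevF4.simple 2 ∧
    chevF4.reflectRoot 0 (chevF4.simple 3) = chevF4.simple 3 ∧
    chevF4.reflectRoot 1 (chevF4.simple 3) = chevF4.simple 3 := by
  decide +kernel

/-- a permutation of the nodes of `F₄` preserving non-adjacency is the identity or the reversal -/
theorem f4_class_fin : ∀ a b c d : Fin 4, a ≠ b → a ≠ c → a ≠ d → b ≠ c → b ≠ d → c ≠ d →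
    chevF4.reflectRoot a.val (chevF4.simple c.val) = chevF4.simple c.val →
    chevF4.reflectRoot a.val (chevF4.simple d.val) = chevF4.simple d.val →
    chevF4.reflectRoot b.val (chevF4.simple d.val) = chevF4.simple d.val →
    (a.val = 0 ∧ b.val = 1 ∧ c.val = 2 ∧ d.val = 3) ∨ (a.val = 3 ∧ b.val = 2 ∧ c.val = 1 ∧ d.val = 0) := by
  decide +kernel

theorem f4_class : ∀ a < 4, ∀ b < 4, ∀ c < 4, ∀ d < 4, a ≠ b → a ≠ c → a ≠ d → b ≠ c → b ≠ d → c ≠ d →
    chevF4.reflectRoot a (chevF4.simple c) = chevF4.simple c →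
    chevF4.reflectRoot a (chevF4.simple d) = chevF4.simple d →
    chevF4.reflectRoot b (chevF4.simple d) = chevF4.simple d →
    (a = 0 ∧ b = 1 ∧ c = 2 ∧ d = 3) ∨ (a = 3 ∧ b = 2 ∧ c = 1 ∧ d = 0) := by
  intro a ha b hb c hc d hd h1 h2 h3 h4 h5 h6 n1 n2 n3
  exact f4_class_fin ⟨a, ha⟩ ⟨b, hb⟩ ⟨c, hc⟩ ⟨d, hd⟩
    (fun h => h1 (Fin.mk.inj_iff.mp h)) (fun h => h2 (Fin.mk.inj_iff.mp h))
    (fun h => h3 (Fin.mk.inj_iff.mp h)) (fun h => h4 (Fin.mk.inj_iff.mp h))
    (fun h => h5 (Fin.mk.inj_iff.mp h)) (fun h => h6 (Fin.mk.inj_iff.mp h)) n1 n2 n3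

theorem f4_bonds_rev : ∀ i < 4, ∀ j < 4, chevF4.bonds (3 - i) (3 - j) = chevF4.bonds i j := by
  decide +kernel

theorem f4_graphExp (c : ℕ) : chevF4.graphExp c 0 3 = c ∧ chevF4.graphExp c 1 2 = c ∧
    chevF4.graphExp c 2 1 = 1 ∧ chevF4.graphExp c 3 0 = 1 := by
  have h0 : chevF4.isLong (chevF4.simple 0) = false := by decide +kernel
  have h1 : chevF4.isLong (chevF4.simple 1) = false := by decide +kernel
  have h2 : chevF4.isLong (chevF4.simple 2) = true := by decide +kernel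
  have h3 : chevF4.isLong (chevF4.simple 3) = true := by decide +kernel
  unfold ChevalleyDatum.graphExp
  rw [h0, h1, h2, h3]
  simp

/-- transport of non-adjacency -/
theorem f4_nonadj_map {θ : ↥(chevF4.group F) ≃* ↥(chevF4.group F)} {ρ : ℕ → ℕ} {f g : ℕ → F → F}
    (h : FundData chevF4 hD_F4 F θ ρ f g)
    (hU : Stab chevF4 F θ (chevF4.posUnipotent F)) (hV : Stab chevF4 F θ (chevF4.negUnipotent F))
    (i j : ℕ) (hi : i < chevF4.rank) (hj : j < chevF4.rank)
    (hij : chevF4.reflectRoot i (chevF4.simple j) = chevF4.simple j) :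
    chevF4.reflectRoot (ρ i) (chevF4.simple (ρ j)) = chevF4.simple (ρ j) := by
  have m0 := RootParam.maps (h.pos j hj)
  have hsj := simple_lt chevF4 hD_F4 j hj
  have hsρj := simple_lt chevF4 hD_F4 (ρ j) (h.lt j hj)
  have m1 := maps_reflect h hU hV i hi _ _ hsj hsρj m0
  rw [hij] at m1
  have hlt : chevF4.reflectRoot (ρ i) (chevF4.simple (ρ j)) < chevF4.nroots :=
    (conjFacts_of_mem chevF4 hD_F4 (ρ i) (h.lt i hi)).wlt _ hsρj
  exact (maps_root_unique (hD := hD_F4) θ _ _ _ hsρj hlt m0 m1).symm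

/-- the permutation of the nodes of `F₄` is the identity or the reversal -/
theorem f4_rho {θ : ↥(chevF4.group F) ≃* ↥(chevF4.group F)} {ρ : ℕ → ℕ} {f g : ℕ → F → F}
    (h : FundData chevF4 hD_F4 F θ ρ f g)
    (hU : Stab chevF4 F θ (chevF4.posUnipotent F)) (hV : Stab chevF4 F θ (chevF4.negUnipotent F)) :
    (ρ 0 = 0 ∧ ρ 1 = 1 ∧ ρ 2 = 2 ∧ ρ 3 = 3) ∨ (ρ 0 = 3 ∧ ρ 1 = 2 ∧ ρ 2 = 1 ∧ ρ 3 = 0) := by
  have hrk : chevF4.rank = 4 := rfl
  have hr : ∀ k < 4, k < chevF4.rank := fun k hk => by rw [hrk]; exact hk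
  have hl : ∀ k < 4, ρ k < 4 := fun k hk => by have := h.lt k (hr k hk); rwa [hrk] at this
  have hne : ∀ k < 4, ∀ k' < 4, k ≠ k' → ρ k ≠ ρ k' :=
    fun k hk k' hk' hkk he => hkk (h.inj k k' (hr k hk) (hr k' hk') he)
  obtain ⟨n1, n2, n3⟩ := f4_nonadj
  exact f4_class (ρ 0) (hl 0 (by norm_num)) (ρ 1) (hl 1 (by norm_num)) (ρ 2) (hl 2 (by norm_num))
    (ρ 3) (hl 3 (by norm_num))
    (hne 0 (by norm_num) 1 (by norm_num) (by norm_num))
    (hne 0 (by norm_num) 2 (by norm_num) (by norm_num))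
    (hne 0 (by norm_num) 3 (by norm_num) (by norm_num))
    (hne 1 (by norm_num) 2 (by norm_num) (by norm_num))
    (hne 1 (by norm_num) 3 (by norm_num) (by norm_num))
    (hne 2 (by norm_num) 3 (by norm_num) (by norm_num))
    (f4_nonadj_map h hU hV 0 2 (hr 0 (by norm_num)) (hr 2 (by norm_num)) n1)
    (f4_nonadj_map h hU hV 0 3 (hr 0 (by norm_num)) (hr 3 (by norm_num)) n2)
    (f4_nonadj_map h hU hV 1 3 (hr 1 (by norm_num)) (hr 3 (by norm_num)) n3)

/-- if the diagram of `F₄` is reversed then `2 = 0` in `F` -/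
theorem f4_two_eq_zero {θ : ↥(chevF4.group F) ≃* ↥(chevF4.group F)} {ρ : ℕ → ℕ} {f g : ℕ → F → F}
    (h : FundData chevF4 hD_F4 F θ ρ f g)
    (hU : Stab chevF4 F θ (chevF4.posUnipotent F)) (hV : Stab chevF4 F θ (chevF4.negUnipotent F))
    (h1 : ρ 1 = 2) (h2 : ρ 2 = 1) : (2 : F) = 0 := by
  obtain ⟨-, -, -, -, s1, s2, r1, r2, c1, c2, n1, n2, hn, hrk⟩ := f4_tab
  have m0 := RootParam.maps (h.pos 1 (by rw [hrk]; norm_num))
  rw [h1, s1, s2] at m0
  have m2 := maps_reflect h hU hV 2 (by rw [hrk]; norm_num) 27 25 (by rw [hn]; norm_num)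
    (by rw [hn]; norm_num) m0
  rw [h2, r1, r2] at m2
  have := comm_transport chevF4 hD_F4 F θ 27 28 25 30 30 2 (by rw [hn]; norm_num)
    (by rw [hn]; norm_num) (by rw [hn]; norm_num) (by rw [hn]; norm_num) (by rw [hn]; norm_num)
    (by norm_num) (by rw [n1]; norm_num) (by norm_num) (by rw [n2]; norm_num) m0 m2 c1 c2
  exact_mod_cast this

/-- the shape of the automorphisms of `F₄(F)` stabilising `U` and `V` -/
theorem shapeH_F4 [Finite F] : ShapeH chevF4 hD_F4 F := by
  intro θ ρ f g hU hV h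
  obtain ⟨a01, a21, a32, a12, -, -, -, -, -, -, -, -, -, hrk⟩ := f4_tab
  have hr : ∀ k < 4, k < chevF4.rank := fun k hk => by rw [hrk]; exact hk
  obtain ⟨σ0, hσ0⟩ := exists_sigma h hU hV 0 (hr 0 (by norm_num))
  obtain ⟨σ1, hσ1⟩ := exists_sigma h hU hV 1 (hr 1 (by norm_num))
  obtain ⟨σ2, hσ2⟩ := exists_sigma h hU hV 2 (hr 2 (by norm_num))
  obtain ⟨σ3, hσ3⟩ := exists_sigma h hU hV 3 (hr 3 (by norm_num))
  -- relations: (i, j) = (1, 0), (1, 2), (2, 3)
  have hrel10 := sigma_rel h hU hV 1 0 (hr 1 (by norm_num)) (hr 0 (by norm_num)) σ1 σ0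
    (fun t => (hσ1 t).1) (fun t => (hσ0 t).1)
  have hrel12 := sigma_rel h hU hV 1 2 (hr 1 (by norm_num)) (hr 2 (by norm_num)) σ1 σ2
    (fun t => (hσ1 t).1) (fun t => (hσ2 t).1)
  have hrel23 := sigma_rel h hU hV 2 3 (hr 2 (by norm_num)) (hr 3 (by norm_num)) σ2 σ3
    (fun t => (hσ2 t).1) (fun t => (hσ3 t).1)
  have hcase := f4_rho h hU hV
  have hbonds : ∀ i < chevF4.rank, ∀ j < chevF4.rank, i ≠ j →
      chevF4.bonds (ρ i) (ρ j) = chevF4.bonds i j := by
    intro i hi j hj _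
    rw [hrk] at hi hj
    rcases hcase with ⟨e0, e1, e2, e3⟩ | ⟨e0, e1, e2, e3⟩
    · have hρ : ∀ k < 4, ρ k = k := by
        intro k hk
        interval_cases k <;> assumption
      rw [hρ i hi, hρ j hj]
    · have hρ : ∀ k < 4, ρ k = 3 - k := by
        intro k hk
        interval_cases k <;> assumption
      rw [hρ i hi, hρ j hj]
      exact f4_bonds_rev i hi j hj
  refine ⟨hbonds, ?_, fun hD => absurd (congrArg ChevalleyDatum.nroots hD) (by decide),
    fun hD => absurd (congrArg ChevalleyDatum.nroots hD) (by decide), ?_⟩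
  · rcases hcase with ⟨e0, e1, e2, e3⟩ | ⟨e0, e1, e2, e3⟩
    · -- identity
      have h10 : ∀ c, σ1 c = σ0 c := by
        intro c
        by_cases hc : c = 0
        · rw [hc, map_zero, map_zero]
        · have := hrel10 c hc
          rw [e0, e1, a01] at this
          exact eq_of_zpow_neg_one this
      have h12 : ∀ c, σ1 c = σ2 c := by
        intro c
        by_cases hc : c = 0
        · rw [hc, map_zero, map_zero]
        · have := hrel12 c hc
          rw [e1, e2, a21] at this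
          exact eq_of_zpow_neg_one this
      have h23 : ∀ c, σ2 c = σ3 c := by
        intro c
        by_cases hc : c = 0
        · rw [hc, map_zero, map_zero]
        · have := hrel23 c hc
          rw [e2, e3, a32] at this
          exact eq_of_zpow_neg_one this
      refine ⟨σ1, fun k hk t => ?_⟩
      rw [hrk] at hk
      interval_cases k
      · rw [e0, graphExp_self, pow_one, h10]; exact hσ0 t
      · rw [e1, graphExp_self, pow_one]; exact hσ1 t
      · rw [e2, graphExp_self, pow_one, h12]; exact hσ2 t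
      · rw [e3, graphExp_self, pow_one, h12, h23]; exact hσ3 t
    · -- reversal
      have h2 := f4_two_eq_zero h hU hV e1 e2
      have hch : ringChar F = 2 :=
        CharP.ringChar_of_prime_eq_zero (by norm_num) (by exact_mod_cast h2)
      have h10 : ∀ c, σ1 c = σ0 c := by
        intro c
        by_cases hc : c = 0
        · rw [hc, map_zero, map_zero]
        · have := hrel10 c hc
          rw [e0, e1, a01, a32] at this
          exact eq_of_zpow_neg_one this
      have h12 : ∀ c, σ1 c = σ2 c ^ 2 := by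
        intro c
        by_cases hc : c = 0
        · rw [hc, map_zero, map_zero]; norm_num
        · have := hrel12 c hc
          rw [e1, e2, a21, a12] at this
          exact eq_pow_of_zpow_neg 2 this
      have h23 : ∀ c, σ2 c = σ3 c := by
        intro c
        by_cases hc : c = 0
        · rw [hc, map_zero, map_zero]
        · have := hrel23 c hc
          rw [e2, e3, a32, a01] at this
          exact eq_of_zpow_neg_one this
      obtain ⟨g0, g1, g2, g3⟩ := f4_graphExp 2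
      refine ⟨σ2, fun k hk t => ?_⟩
      rw [hrk] at hk
      interval_cases k
      · rw [e0, hch, g0, ← h12, h10]; exact hσ0 t
      · rw [e1, hch, g1, ← h12]; exact hσ1 t
      · rw [e2, hch, g2, pow_one]; exact hσ2 t
      · rw [e3, hch, g3, pow_one, h23]; exact hσ3 t
  · intro _ e0
    rcases hcase with ⟨e0', -, -, -⟩ | ⟨-, e1, e2, -⟩
    · omega
    · have h2 := f4_two_eq_zero h hU hV e1 e2
      exact CharP.ringChar_of_prime_eq_zero (by norm_num) (by exact_mod_cast h2)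

end F4

end Cfsg.Agent.Lib.Helper25.SteinNL
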