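import Cfsg.Agent.Lib.Helper25.SteinNL8

/-! The shape of the automorphisms stabilising `U` and `V`, all seven types (simply laced types from
the lead's `SteinH`; helper25). -/

set_option autoImplicit false
set_option maxRecDepth 100000

namespace Cfsg.Agent.Lib.Helper25.SteinNL

open Cfsg Cfsg.Lie Matrix Cfsg.Agent.Lib.Helper7 Cfsg.Agent.Lib.Helper3.BN Cfsg.Agent.Lib.Helper11
open Cfsg.Agent.Lib.Lead.ChevCent Cfsg.Agent.Lib.Lead.ChevFix
open Cfsg.Agent.Lib.Lead.Stein Cfsg.Agent.Lib.Helper25.SteinConv

/-- no fundamental root is long (one root length) -/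
def noLongB (D : ChevalleyDatum) : Bool :=
  (List.range D.rank).all fun j => !D.isLong (D.simple j)

theorem graphExp_of_noLongB (D : ChevalleyDatum) (h : noLongB D = true) (c i j : ℕ) (hj : j < D.rank) :
    D.graphExp c i j = 1 := by
  unfold noLongB at h
  rw [List.all_eq_true] at h
  have := h j (List.mem_range.mpr hj)
  simp only [Bool.not_eq_true'] at this
  unfold ChevalleyDatum.graphExp
  rw [this]
  simp

theorem noLongB_D4 : noLongB chevD4 = true := by decide +kernel
theorem noLongB_E6 : noLongB chevE6 = true := by decide +kernel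
theorem noLongB_E7 : noLongB chevE7 = true := by decide +kernel
theorem noLongB_E8 : noLongB chevE8 = true := by decide +kernel

section
variable {D : ChevalleyDatum} {hD : D ∈ [chevG2, chevB2, chevD4, chevF4, chevE6, chevE7, chevE8]}
variable {F : Type*} [Field F]

/-- the shape for the simply laced types -/
theorem shapeH_of_simplyLaced (hSL : SimplyLaced D) (hconn : connB D = true)
    (hlong : noLongB D = true) (h1 : D ≠ chevG2) (h2 : D ≠ chevB2) (h3 : D ≠ chevF4) :
    ShapeH D hD F := by
  intro θ ρ f g hU hV h
  refine ⟨fun i hi j hj hij => h.bonds_eq hSL i j hi hj hij, ?_, fun e => absurd e h1,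
    fun e => absurd e h2, fun e => absurd e h3⟩
  obtain ⟨σ, hσ⟩ := h.exists_field hSL hconn hU hV
  refine ⟨σ, fun k hk t => ?_⟩
  rw [graphExp_of_noLongB D hlong _ _ _ (h.lt k hk), pow_one]
  exact hσ k hk t

end

/-- the shape of the automorphisms stabilising `U` and `V`, for the seven types over a finite field -/
theorem shapeH (D : ChevalleyDatum) (hD : D ∈ [chevG2, chevB2, chevD4, chevF4, chevE6, chevE7, chevE8])
    (F : Type*) [Field F] [Finite F] : ShapeH D hD F := by
  have key : ∀ hD', ShapeH D hD' F :=
    mem_seven_cases (P := fun D => ∀ hD', ShapeH D hD' F)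
      (fun _ => shapeH_G2) (fun _ => shapeH_B2)
      (fun _ => shapeH_of_simplyLaced simplyLaced_D4 connB_D4 noLongB_D4
        (fun e => absurd (congrArg ChevalleyDatum.nroots e) (by decide))
        (fun e => absurd (congrArg ChevalleyDatum.nroots e) (by decide))
        (fun e => absurd (congrArg ChevalleyDatum.nroots e) (by decide)))
      (fun _ => shapeH_F4)
      (fun _ => shapeH_of_simplyLaced simplyLaced_E6 connB_E6 noLongB_E6
        (fun e => absurd (congrArg ChevalleyDatum.nroots e) (by decide))
        (fun e => absurd (congrArg ChevalleyDatum.nroots e) (by decide))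
        (fun e => absurd (congrArg ChevalleyDatum.nroots e) (by decide)))
      (fun _ => shapeH_of_simplyLaced simplyLaced_E7 connB_E7 noLongB_E7
        (fun e => absurd (congrArg ChevalleyDatum.nroots e) (by decide))
        (fun e => absurd (congrArg ChevalleyDatum.nroots e) (by decide))
        (fun e => absurd (congrArg ChevalleyDatum.nroots e) (by decide)))
      (fun _ => shapeH_of_simplyLaced simplyLaced_E8 connB_E8 noLongB_E8
        (fun e => absurd (congrArg ChevalleyDatum.nroots e) (by decide))
        (fun e => absurd (congrArg ChevalleyDatum.nroots e) (by decide))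
        (fun e => absurd (congrArg ChevalleyDatum.nroots e) (by decide)))
      D hD
  exact key hD

end Cfsg.Agent.Lib.Helper25.SteinNL
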