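/-
helper25: S4707 T2P market, leaf T2P-ARITH (`arith`): `(2a+1) ∣ (2a²+2a)(2a²+2a-1)`, `a > 0` forces `a = 1`
(with `u = 2a+1`: `4 (2a²+2a)(2a²+2a-1) = u⁴ - 4u² + 3`, so `u ∣ 3`).
-/
import Mathlib

set_option autoImplicit false

namespace Cfsg.Agent.Lib.Helper25.T2PARITH

/-- T2P-ARITH (header ARITH). -/
theorem arith (a : ℕ) (ha : 0 < a)
    (h : (2 * a + 1) ∣ (2 * a ^ 2 + 2 * a) * (2 * a ^ 2 + 2 * a - 1)) : a = 1 := by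
  have h1 : ((2 * a + 1 : ℕ) : ℤ) ∣ (((2 * a ^ 2 + 2 * a) * (2 * a ^ 2 + 2 * a - 1) : ℕ) : ℤ) :=
    Int.natCast_dvd_natCast.mpr h
  have hge : 1 ≤ 2 * a ^ 2 + 2 * a := by nlinarith
  have hsub : ((2 * a ^ 2 + 2 * a - 1 : ℕ) : ℤ) = 2 * (a : ℤ) ^ 2 + 2 * a - 1 := by
    rw [Nat.cast_sub hge]
    push_cast
    ring
  rw [Nat.cast_mul, hsub] at h1
  push_cast at h1
  have h3 : (2 * (a : ℤ) + 1) ∣ 3 := by
    have e : (3 : ℤ) = 4 * ((2 * (a : ℤ) ^ 2 + 2 * a) * (2 * (a : ℤ) ^ 2 + 2 * a - 1)) -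
        (2 * (a : ℤ) + 1) * ((2 * (a : ℤ) + 1) ^ 3 - 4 * (2 * a + 1)) := by ring
    rw [e]
    exact dvd_sub (Dvd.dvd.mul_left h1 4) (dvd_mul_right _ _)
  have h4 : 2 * (a : ℤ) + 1 ≤ 3 := Int.le_of_dvd (by norm_num) h3
  omega

end Cfsg.Agent.Lib.Helper25.T2PARITH
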