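/-
helper25: S4707 T2P market, leaf T2P-BND (`value_le`): an integer value of an irreducible character `χ` with
`χ 1 = p - 1` is at most `p - 1`, with equality only at `1` when `χ` is faithful.
-/
import Mathlib
import Cfsg.Agent.Lib.Helper19.PDegC
import Cfsg.Agent.Lib.Helper14.BREEASYX

set_option autoImplicit false

namespace Cfsg.Agent.Lib.Helper25.T2PBND

open Cfsg Cfsg.Agent.CharLib Cfsg.Agent.Lib.Helper19.PDeg
open scoped ComplexConjugate

universe u v

section abstract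

variable {G : Type u} [Group G] [Finite G] {p : ℕ} [hp : Fact p.Prime]

variable {P : Subgroup G} {χ χ₁ : IrrCharacter G} {Y : Finset (IrrCharacter G)}

/-- T2P-BND: an integer value of `χ` is at most `p - 1`, with equality only at `1`. -/
theorem value_le (hχ1 : (χ : G → ℂ) 1 = (p : ℂ) - 1)
    (hfaith : ∀ g : G, (χ : G → ℂ) g = (χ : G → ℂ) 1 → g = 1) (g : G) (n : ℤ)
    (hn : (χ : G → ℂ) g = (n : ℂ)) : n ≤ (p : ℤ) - 1 ∧ (n = (p : ℤ) - 1 → g = 1) := by
  have h1 := Cfsg.Agent.Lib.Helper14.BREEASYX.norm_apply_le χ g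
  have h2 := Cfsg.Agent.Lib.Helper24.irr_apply_one χ
  have hp1 : 1 ≤ p := hp.out.one_le
  have h4 : charDegree (χ : G → ℂ) = p - 1 := by
    have : ((charDegree (χ : G → ℂ) : ℕ) : ℂ) = ((p - 1 : ℕ) : ℂ) := by
      rw [← h2, hχ1, Nat.cast_sub hp1]
      simp
    exact_mod_cast this
  rw [hn, h4] at h1
  have h5 : ‖((n : ℤ) : ℂ)‖ = |(n : ℝ)| := by
    rw [← Complex.ofReal_intCast, Complex.norm_real]
    rfl
  rw [h5] at h1
  have h6 : (n : ℝ) ≤ ((p - 1 : ℕ) : ℝ) := le_trans (le_abs_self _) h1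
  have h7 : n ≤ ((p - 1 : ℕ) : ℤ) := by exact_mod_cast h6
  refine ⟨by omega, ?_⟩
  intro hnp
  apply hfaith
  rw [hn, hχ1, hnp]
  push_cast
  ring

end abstract

end Cfsg.Agent.Lib.Helper25.T2PBND
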