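/-
helper25 (S4885/S4886 market, planner helper14): leaf (NQ1) `navHyp_map`.
The hypothesis of NAV passes to quotients: an `Ā`-invariant irreducible character of `K̄` inflates to
an `A`-invariant irreducible character of `K` of the same degree.
-/
import Mathlib
import Cfsg.Prelude.Def_Blocks
import Cfsg.Prelude.Def_Local
import Cfsg.Agent.Lib.Helper6.Clifford
import Cfsg.Agent.Lib.Helper6.CliffordCorr
import Cfsg.Agent.Lib.Helper24.PSolvable
import Cfsg.Agent.Lib.Helper14.TPDefs
import Cfsg.Agent.Lib.Helper23.CentralProdB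

set_option autoImplicit false

namespace Cfsg.Agent.Lib.Helper25.TP

open Cfsg Cfsg.Agent.CharLib Cfsg.Agent.Lib.Helper6 Cfsg.Agent.Lib.Helper2.Glaub
open Cfsg.Agent.Lib.Helper14.TP
open scoped Pointwise

universe u

variable {Γ : Type u} [Group Γ] [Finite Γ]

/-- **S4885 leaf (NQ1)** (frozen signature of `notes/S4885_leaves.lean`). -/
theorem navHyp_map (q : ℕ) (N K A : Subgroup Γ) [N.Normal] (h : NavHyp q K A) :
    NavHyp q (K.map (QuotientGroup.mk' N)) (A.map (QuotientGroup.mk' N)) := by
  intro θ hθ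
  have hf : Function.Surjective ((QuotientGroup.mk' N).subgroupMap K) :=
    MonoidHom.subgroupMap_surjective (QuotientGroup.mk' N) K
  have hirr : IsIrrCharacter K
      ((θ : ↥(K.map (QuotientGroup.mk' N)) → ℂ) ∘ ((QuotientGroup.mk' N).subgroupMap K)) :=
    Cfsg.Agent.Lib.Helper23.IsIrrCharacter.comp_surjective θ.2 _ hf
  have hinv : InvUnder K A
      ((θ : ↥(K.map (QuotientGroup.mk' N)) → ℂ) ∘ ((QuotientGroup.mk' N).subgroupMap K)) := by
    intro t ht g g' hg'
    refine hθ ((QuotientGroup.mk' N) t) (Subgroup.mem_map_of_mem _ ht)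
      ((QuotientGroup.mk' N).subgroupMap K g) ((QuotientGroup.mk' N).subgroupMap K g') ?_
    show (QuotientGroup.mk' N) (g' : Γ) =
      (QuotientGroup.mk' N) t * (QuotientGroup.mk' N) (g : Γ) * ((QuotientGroup.mk' N) t)⁻¹
    rw [hg', map_mul, map_mul, map_inv]
  have h1 := h ⟨_, hirr⟩ hinv
  have h2 : charDegree ((⟨_, hirr⟩ : IrrCharacter K) : K → ℂ) =
      charDegree (θ : ↥(K.map (QuotientGroup.mk' N)) → ℂ) := by
    unfold charDegree
    simp only [Function.comp_apply, map_one]
  rw [h2] at h1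
  exact h1

end Cfsg.Agent.Lib.Helper25.TP
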