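/-
helper25: S3797 leaf QUAD, part a: the group-level identities for the quadratic map `x ↦ x ^ (2 ^ m)` on a
critical subgroup `C`.
-/
import Mathlib
import Cfsg.Prelude.Def_Local
import Cfsg.Agent.Lib.Helper25.TSDefs

set_option autoImplicit false

namespace Cfsg.Agent.Lib.Helper25.TS

open scoped commutatorElement

variable {G : Type*} [Group G] {T C : Subgroup G}

/-- `Z(C)` as a subgroup of `G` -/
abbrev ZC (C : Subgroup G) : Subgroup G := C ⊓ Subgroup.centralizer (C : Set G)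

theorem mem_ZC_iff {x : G} : x ∈ ZC C ↔ x ∈ C ∧ ∀ y ∈ C, y * x = x * y := by
  unfold ZC
  rw [Subgroup.mem_inf, Subgroup.mem_centralizer_iff]
  rfl

theorem Crit.comm_mem (cr : Crit T C) {x y : G} (hx : x ∈ C) (hy : y ∈ C) : ⁅x, y⁆ ∈ ZC C := by
  have hCn := cr.normal
  rw [mem_ZC_iff]
  refine ⟨?_, fun z hz => (cr.comm x (cr.le hx) y hy z hz).symm⟩
  rw [commutatorElement_def]
  exact C.mul_mem (hCn.conj_mem y hy x) (C.inv_mem hy)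

theorem Crit.sq_mem (cr : Crit T C) {x : G} (hx : x ∈ C) : x ^ 2 ∈ ZC C := by
  rw [mem_ZC_iff]
  exact ⟨C.pow_mem hx 2, fun z hz => (cr.sq x hx z hz).symm⟩

theorem ZC_comm {a b : G} (ha : a ∈ ZC C) (hb : b ∈ ZC C) : Commute a b := by
  rw [mem_ZC_iff] at ha hb
  exact (ha.2 b hb.1).symm

/-- `(xy)² = x² y² [y,x]` -/
theorem Crit.mul_sq (cr : Crit T C) {x y : G} (hx : x ∈ C) (hy : y ∈ C) :
    (x * y) ^ 2 = x ^ 2 * y ^ 2 * ⁅y, x⁆ := by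
  have hc := (mem_ZC_iff.mp (cr.comm_mem hy hx)).2
  have h1 : ⁅y, x⁆ * (x * y) = y * x := by rw [commutatorElement_def]; group
  calc (x * y) ^ 2 = x * (y * x) * y := by rw [pow_two]; group
    _ = x * (⁅y, x⁆ * (x * y)) * y := by rw [h1]
    _ = (x * ⁅y, x⁆) * (x * y * y) := by group
    _ = (⁅y, x⁆ * x) * (x * y * y) := by rw [hc x hx]
    _ = ⁅y, x⁆ * (x ^ 2 * y ^ 2) := by rw [pow_two, pow_two]; group
    _ = x ^ 2 * y ^ 2 * ⁅y, x⁆ := by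
        have := hc (x ^ 2 * y ^ 2) (C.mul_mem (C.pow_mem hx 2) (C.pow_mem hy 2))
        exact this.symm

theorem pow_two_pow_succ (x : G) (n : ℕ) : x ^ (2 ^ (n + 1)) = (x ^ 2) ^ (2 ^ n) := by
  rw [← pow_mul, pow_succ, mul_comm]

/-- `(xy)^(2^m) = x^(2^m) y^(2^m) [y,x]^(2^(m-1))` -/
theorem Crit.mul_pow_two_pow (cr : Crit T C) {x y : G} (hx : x ∈ C) (hy : y ∈ C) (n : ℕ) :
    (x * y) ^ (2 ^ (n + 1)) = x ^ (2 ^ (n + 1)) * y ^ (2 ^ (n + 1)) * ⁅y, x⁆ ^ (2 ^ n) := by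
  rw [pow_two_pow_succ, pow_two_pow_succ x, pow_two_pow_succ y, cr.mul_sq hx hy]
  have h1 : Commute (x ^ 2) (y ^ 2) := ZC_comm (cr.sq_mem hx) (cr.sq_mem hy)
  have h2 : Commute (x ^ 2 * y ^ 2) ⁅y, x⁆ :=
    ZC_comm ((ZC C).mul_mem (cr.sq_mem hx) (cr.sq_mem hy)) (cr.comm_mem hy hx)
  rw [h2.mul_pow, h1.mul_pow]

/-- `[y, x x'] = [y,x] [y,x']` -/
theorem Crit.comm_mul_right (cr : Crit T C) {x x' y : G} (hx : x ∈ C) (hx' : x' ∈ C) (hy : y ∈ C) :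
    ⁅y, x * x'⁆ = ⁅y, x⁆ * ⁅y, x'⁆ := by
  have hc := (mem_ZC_iff.mp (cr.comm_mem hy hx')).2
  have h1 : ⁅y, x * x'⁆ = ⁅y, x⁆ * (x * ⁅y, x'⁆ * x⁻¹) := by
    simp only [commutatorElement_def]; group
  rw [h1, hc x hx, mul_inv_cancel_right]

theorem Crit.comm_mul_left (cr : Crit T C) {x x' y : G} (hx : x ∈ C) (hx' : x' ∈ C) (hy : y ∈ C) :
    ⁅x * x', y⁆ = ⁅x, y⁆ * ⁅x', y⁆ := by
  have hc := (mem_ZC_iff.mp (cr.comm_mem hx' hy)).2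
  have h1 : ⁅x * x', y⁆ = (x * ⁅x', y⁆ * x⁻¹) * ⁅x, y⁆ := by
    simp only [commutatorElement_def]; group
  rw [h1, hc x hx, mul_inv_cancel_right]
  exact (ZC_comm (cr.comm_mem hx' hy) (cr.comm_mem hx hy)).eq

/-- the squares of commutators are trivial -/
theorem Crit.comm_sq (cr : Crit T C) {x y : G} (hx : x ∈ C) (hy : y ∈ C) : ⁅x, y⁆ ^ 2 = 1 := by
  have h1 : ⁅x * x, y⁆ = ⁅x, y⁆ * ⁅x, y⁆ := cr.comm_mul_left hx hx hy
  rw [pow_two, ← h1, ← pow_two]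
  have h2 := (mem_ZC_iff.mp (cr.sq_mem hx)).2 y hy
  rw [commutatorElement_def, ← h2]
  group

end Cfsg.Agent.Lib.Helper25.TS
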