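/-
helper25: S3797 leaf QUAD `exists_quadratic`: the anisotropic quadratic map `q : C/Z(C) → E`, `q(xZ) = x^(2^m)`.
-/
import Mathlib
import Cfsg.Prelude.Def_Local
import Cfsg.Agent.Lib.Helper25.TSDefs
import Cfsg.Agent.Lib.Helper25.TSQUADa

set_option autoImplicit false
set_option linter.style.haveILetI false

namespace Cfsg.Agent.Lib.Helper25.TSQUAD

open Cfsg.Agent.Lib.Helper25.TS
open scoped commutatorElement

universe u

section conj

variable {G : Type u} [Group G] (C : Subgroup G) [hCn : C.Normal]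

/-- `C / Z(C)` -/
abbrev Qt : Type u := ↥C ⧸ Subgroup.center ↥C

/-- conjugation by `g` on `C / Z(C)` -/
noncomputable def conjQ (g : G) : Qt C →* Qt C :=
  QuotientGroup.map (Subgroup.center ↥C) (Subgroup.center ↥C)
    (MulAut.conjNormal g : MulAut ↥C).toMonoidHom (by
      intro z hz
      rw [Subgroup.mem_comap]
      rw [Subgroup.mem_center_iff] at hz ⊢
      intro y
      have h := hz ((MulAut.conjNormal g : MulAut ↥C).symm y)
      have h2 := congrArg (MulAut.conjNormal g : MulAut ↥C) h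
      simpa using h2)

theorem conjQ_mk (g : G) (x : ↥C) :
    conjQ C g (QuotientGroup.mk x) =
      QuotientGroup.mk ⟨g * (x : G) * g⁻¹, hCn.conj_mem x x.2 g⟩ := by
  unfold conjQ
  rw [QuotientGroup.map_mk]
  congr 1

theorem conjQ_one : conjQ C 1 = MonoidHom.id _ := by
  ext x
  show conjQ C 1 (QuotientGroup.mk x) = QuotientGroup.mk x
  rw [conjQ_mk]
  simp

theorem conjQ_mul (g h : G) : conjQ C (g * h) = (conjQ C g).comp (conjQ C h) := by
  ext x
  show conjQ C (g * h) (QuotientGroup.mk x) = conjQ C g (conjQ C h (QuotientGroup.mk x))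
  rw [conjQ_mk, conjQ_mk, conjQ_mk]
  congr 1
  apply Subtype.ext
  simp only [mul_inv_rev]
  group

end conj

section main

variable {G : Type u} [Group G] [Finite G]

omit [Finite G] in
theorem mem_center_iff_mem_ZC {C : Subgroup G} (x : ↥C) :
    x ∈ Subgroup.center ↥C ↔ (x : G) ∈ ZC C := by
  rw [Subgroup.mem_center_iff, mem_ZC_iff]
  constructor
  · intro h
    refine ⟨x.2, fun y hy => ?_⟩
    exact congrArg Subtype.val (h ⟨y, hy⟩)
  · intro h y
    exact Subtype.ext (h.2 y y.2)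

theorem exists_quadratic {T E C : Subgroup G} (c : Cfg G T E) (cr : Crit T C) (m : ℕ) (hm : 1 ≤ m)
    (hexp : ∀ z ∈ C ⊓ Subgroup.centralizer (C : Set G), z ^ (2 ^ m) = 1)
    (hstar : ∀ z ∈ C ⊓ Subgroup.centralizer (C : Set G), z ^ (2 ^ (m - 1)) = 1 →
      ∃ w ∈ C ⊓ Subgroup.centralizer (C : Set G), w ^ 2 = z) :
    ∃ (V : Type u) (_ : AddCommGroup V) (_ : Finite V) (E' : Type u) (_ : AddCommGroup E')
      (_ : Finite E') (ρ : G →* AddMonoid.End V) (σ : G → E' → E') (ι : E' → G) (q : V → E'),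
      QCtx q ∧ (∀ g v, q (ρ g v) = σ g (q v)) ∧
      (∀ g : G, ρ g = 1 ↔ ∀ x ∈ C, ⁅g, x⁆ ∈ C ⊓ Subgroup.centralizer (C : Set G)) ∧
      Function.Injective ι ∧ Set.range ι = (E : Set G) ∧ ι 0 = 1 ∧
      (∀ g e, ι (σ g e) = g * ι e * g⁻¹) := by
  classical
  obtain ⟨n, rfl⟩ : ∃ n, m = n + 1 := ⟨m - 1, by omega⟩
  simp only [Nat.add_sub_cancel] at hstar
  haveI hCn : C.Normal := cr.normal
  haveI hEn : E.Normal := c.E_normal
  have hEcent : E ≤ Subgroup.centralizer (C : Set G) := by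
    intro e he
    rw [Subgroup.mem_centralizer_iff]
    intro x hx
    exact (c.E_central e he x (cr.le hx)).symm
  have hEZ : E ≤ ZC C := fun e he => ⟨cr.self_cent ⟨c.E_le he, hEcent he⟩, hEcent he⟩
  -- powers land in `E`
  have hpowE : ∀ x ∈ C, x ^ (2 ^ (n + 1)) ∈ E := by
    intro x hx
    rw [c.mem_E, ← pow_mul, mul_comm, pow_mul]
    exact hexp _ (cr.sq_mem hx)
  -- well-definedness
  have hwd : ∀ x ∈ C, ∀ z ∈ ZC C, (x * z) ^ (2 ^ (n + 1)) = x ^ (2 ^ (n + 1)) := by
    intro x hx z hz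
    have hcz : Commute x z := ((mem_ZC_iff.mp hz).2 x hx)
    rw [hcz.mul_pow, hexp z hz, mul_one]
  -- anisotropy
  have haniso : ∀ x ∈ C, x ^ (2 ^ (n + 1)) = 1 → x ∈ ZC C := by
    intro x hx hx1
    rw [pow_two_pow_succ] at hx1
    obtain ⟨w, hw, hw2⟩ := hstar _ (cr.sq_mem hx) hx1
    have hcw : Commute x w⁻¹ := ((mem_ZC_iff.mp ((ZC C).inv_mem hw)).2 x hx)
    have h1 : (x * w⁻¹) ^ 2 = 1 := by
      rw [hcw.mul_pow, inv_pow, hw2, mul_inv_cancel]
    have h2 : x * w⁻¹ ∈ ZC C := hEZ ((c.mem_E _).mpr h1)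
    have := (ZC C).mul_mem h2 hw
    rwa [inv_mul_cancel_right] at this
  -- the commutative structures
  have hQcomm : ∀ a b : Qt C, a * b = b * a := by
    intro a b
    induction a using QuotientGroup.induction_on with
    | H x =>
      induction b using QuotientGroup.induction_on with
      | H y =>
        rw [← QuotientGroup.mk_mul, ← QuotientGroup.mk_mul, QuotientGroup.eq, mem_center_iff_mem_ZC]
        have h := cr.comm_mem (C.inv_mem y.2) (C.inv_mem x.2)
        have e : (((x * y)⁻¹ * (y * x) : ↥C) : G) = ⁅(y : G)⁻¹, (x : G)⁻¹⁆ := by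
          rw [commutatorElement_def]
          simp only [Subgroup.coe_mul, Subgroup.coe_inv, mul_inv_rev, inv_inv]
          group
        rw [e]
        exact h
  letI iQ : CommGroup (Qt C) := { (inferInstance : Group (Qt C)) with mul_comm := hQcomm }
  letI iE : CommGroup ↥E :=
    { (inferInstance : Group ↥E) with
      mul_comm := fun a b => Subtype.ext (c.E_comm a a.2 b b.2) }
  -- the map
  let q0 : ↥C → ↥E := fun x => ⟨(x : G) ^ (2 ^ (n + 1)), hpowE x x.2⟩
  have hq0 : ∀ a b : ↥C, (QuotientGroup.leftRel (Subgroup.center ↥C)) a b → q0 a = q0 b := by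
    intro a b hab
    rw [QuotientGroup.leftRel_apply, mem_center_iff_mem_ZC] at hab
    apply Subtype.ext
    show (a : G) ^ (2 ^ (n + 1)) = (b : G) ^ (2 ^ (n + 1))
    have := hwd a a.2 _ hab
    rw [← this]
    congr 1
    simp
  let qm : Qt C → ↥E := fun v => Quotient.liftOn' v q0 hq0
  have hqm : ∀ x : ↥C, qm (QuotientGroup.mk x) = q0 x := fun x => rfl
  let q : Additive (Qt C) → Additive ↥E := fun v => Additive.ofMul (qm (Additive.toMul v))
  let ρ : G →* AddMonoid.End (Additive (Qt C)) :=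
    { toFun := fun g => MonoidHom.toAdditive (conjQ C g)
      map_one' := by
        rw [conjQ_one]; rfl
      map_mul' := by
        intro g h
        rw [conjQ_mul]; rfl }
  let σ : G → Additive ↥E → Additive ↥E := fun g e =>
    Additive.ofMul ⟨g * ((Additive.toMul e : ↥E) : G) * g⁻¹, hEn.conj_mem _ (Additive.toMul e).2 g⟩
  let ι : Additive ↥E → G := fun e => ((Additive.toMul e : ↥E) : G)
  have hsurj : ∀ v : Additive (Qt C), ∃ x : ↥C, v = Additive.ofMul (QuotientGroup.mk x) := by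
    intro v
    obtain ⟨x, hx⟩ := QuotientGroup.mk_surjective (s := Subgroup.center ↥C) (Additive.toMul v)
    exact ⟨x, by rw [hx]; rfl⟩
  have hq_mk : ∀ x : ↥C, q (Additive.ofMul (QuotientGroup.mk x)) = Additive.ofMul (q0 x) :=
    fun x => rfl
  have hadd_mk : ∀ x y : ↥C, (Additive.ofMul (QuotientGroup.mk x) : Additive (Qt C)) +
      Additive.ofMul (QuotientGroup.mk y) = Additive.ofMul (QuotientGroup.mk (x * y)) := fun x y => rfl
  have hbbE : ∀ x y : ↥C, ⁅(y : G), (x : G)⁆ ^ (2 ^ n) ∈ E := by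
    intro x y
    rw [c.mem_E, ← pow_mul, mul_comm, pow_mul, cr.comm_sq y.2 x.2, one_pow]
  have hpol : ∀ x y : ↥C, pol q (Additive.ofMul (QuotientGroup.mk x)) (Additive.ofMul (QuotientGroup.mk y)) =
      Additive.ofMul (⟨⁅(y : G), (x : G)⁆ ^ (2 ^ n), hbbE x y⟩ : ↥E) := by
    intro x y
    unfold pol
    rw [hadd_mk, hq_mk, hq_mk, hq_mk, ← ofMul_div, ← ofMul_div]
    congr 1
    apply Subtype.ext
    show ((x * y : ↥C) : G) ^ (2 ^ (n + 1)) / (x : G) ^ (2 ^ (n + 1)) / (y : G) ^ (2 ^ (n + 1)) =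
      ⁅(y : G), (x : G)⁆ ^ (2 ^ n)
    rw [Subgroup.coe_mul, cr.mul_pow_two_pow x.2 y.2 n]
    have hx' : (x : G) ^ (2 ^ (n + 1)) ∈ ZC C := hEZ (hpowE x x.2)
    have hy' : (y : G) ^ (2 ^ (n + 1)) ∈ ZC C := hEZ (hpowE y y.2)
    have hc' : ⁅(y : G), (x : G)⁆ ^ (2 ^ n) ∈ ZC C := hEZ (hbbE x y)
    have h1 : Commute ((x : G) ^ (2 ^ (n + 1))) ((y : G) ^ (2 ^ (n + 1)) * ⁅(y : G), (x : G)⁆ ^ (2 ^ n)) :=
      ZC_comm hx' ((ZC C).mul_mem hy' hc')
    have h2 : Commute ((y : G) ^ (2 ^ (n + 1))) (⁅(y : G), (x : G)⁆ ^ (2 ^ n)) := ZC_comm hy' hc'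
    have key : ∀ A B d : G, Commute A (B * d) → Commute B d → A * B * d / A / B = d := by
      intro A B d hA hB
      rw [mul_assoc, hA.eq, mul_div_cancel_right, hB.eq, mul_div_cancel_right]
    exact key _ _ _ h1 h2
  refine ⟨Additive (Qt C), inferInstance, inferInstance, Additive ↥E, inferInstance, inferInstance,
    ρ, σ, ι, q, ?_, ?_, ?_, ?_, ?_, ?_, ?_⟩
  · refine ⟨?_, ?_, ?_, ?_⟩
    · intro v
      obtain ⟨x, rfl⟩ := hsurj v
      rw [hadd_mk]
      show Additive.ofMul (QuotientGroup.mk (x * x) : Qt C) = Additive.ofMul 1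
      congr 1
      rw [QuotientGroup.eq_one_iff, mem_center_iff_mem_ZC, Subgroup.coe_mul, ← pow_two]
      exact cr.sq_mem x.2
    · intro e
      show Additive.ofMul (Additive.toMul e * Additive.toMul e) = Additive.ofMul 1
      congr 1
      apply Subtype.ext
      rw [Subgroup.coe_mul, ← pow_two]
      exact (c.mem_E _).mp (Additive.toMul e).2
    · intro a b z
      obtain ⟨x, rfl⟩ := hsurj a
      obtain ⟨y, rfl⟩ := hsurj b
      obtain ⟨w, rfl⟩ := hsurj z
      rw [hadd_mk, hpol, hpol, hpol, ← ofMul_mul]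
      congr 1
      apply Subtype.ext
      show ⁅(w : G), ((x * y : ↥C) : G)⁆ ^ (2 ^ n) = ⁅(w : G), (x : G)⁆ ^ (2 ^ n) * ⁅(w : G), (y : G)⁆ ^ (2 ^ n)
      rw [Subgroup.coe_mul, cr.comm_mul_right x.2 y.2 w.2,
        (ZC_comm (cr.comm_mem w.2 x.2) (cr.comm_mem w.2 y.2)).mul_pow]
    · intro v hv
      obtain ⟨x, rfl⟩ := hsurj v
      rw [hq_mk] at hv
      have h1 : q0 x = 1 := hv
      have h2 : (x : G) ^ (2 ^ (n + 1)) = 1 := congrArg Subtype.val h1
      have h3 := haniso x x.2 h2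
      show Additive.ofMul (QuotientGroup.mk x : Qt C) = Additive.ofMul 1
      congr 1
      rw [QuotientGroup.eq_one_iff, mem_center_iff_mem_ZC]
      exact h3
  · intro g v
    obtain ⟨x, rfl⟩ := hsurj v
    have h1 : ρ g (Additive.ofMul (QuotientGroup.mk x)) =
        Additive.ofMul (QuotientGroup.mk ⟨g * (x : G) * g⁻¹, hCn.conj_mem x x.2 g⟩) := by
      show Additive.ofMul (conjQ C g (QuotientGroup.mk x)) = _
      rw [conjQ_mk]
    rw [h1, hq_mk, hq_mk]
    show Additive.ofMul _ = Additive.ofMul _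
    congr 1
    apply Subtype.ext
    show (g * (x : G) * g⁻¹) ^ (2 ^ (n + 1)) = g * (x : G) ^ (2 ^ (n + 1)) * g⁻¹
    rw [conj_pow]
  · intro g
    constructor
    · intro h x hx
      have h1 : ρ g (Additive.ofMul (QuotientGroup.mk ⟨x, hx⟩)) =
          Additive.ofMul (QuotientGroup.mk ⟨x, hx⟩) := by rw [h]; rfl
      have h2 : conjQ C g (QuotientGroup.mk ⟨x, hx⟩) = QuotientGroup.mk ⟨x, hx⟩ := h1
      rw [conjQ_mk, QuotientGroup.eq, mem_center_iff_mem_ZC] at h2
      have h3 := (ZC C).inv_mem h2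
      have hZn : (ZC C).Normal := by
        haveI : (Subgroup.centralizer (C : Set G)).Normal := inferInstance
        infer_instance
      have h4 := hZn.conj_mem _ h3 x
      have e : x * ((⟨g * x * g⁻¹, hCn.conj_mem x hx g⟩ : ↥C)⁻¹ * ⟨x, hx⟩ : ↥C).1⁻¹ * x⁻¹ = ⁅g, x⁆ := by
        rw [commutatorElement_def]
        simp only [Subgroup.coe_mul, Subgroup.coe_inv, mul_inv_rev, inv_inv]
        group
      rw [e] at h4
      exact h4
    · intro h
      apply AddMonoidHom.ext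
      intro v
      obtain ⟨x, rfl⟩ := hsurj v
      show Additive.ofMul (conjQ C g (QuotientGroup.mk x)) = Additive.ofMul (QuotientGroup.mk x)
      congr 1
      rw [conjQ_mk, QuotientGroup.eq, mem_center_iff_mem_ZC]
      have h1 := h x x.2
      have h2 := (ZC C).inv_mem h1
      have hZn : (ZC C).Normal := by
        haveI : (Subgroup.centralizer (C : Set G)).Normal := inferInstance
        infer_instance
      have h4 := hZn.conj_mem _ h2 (x : G)⁻¹
      have e : ((⟨g * x * g⁻¹, hCn.conj_mem x x.2 g⟩ : ↥C)⁻¹ * x : ↥C).1 =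
          (x : G)⁻¹ * ⁅g, (x : G)⁆⁻¹ * (x : G)⁻¹⁻¹ := by
        rw [commutatorElement_def]
        simp only [Subgroup.coe_mul, Subgroup.coe_inv, mul_inv_rev, inv_inv]
        group
      rw [e]
      exact h4
  · intro a b hab
    have h1 : (Additive.toMul a : ↥E) = Additive.toMul b := Subtype.ext hab
    exact Additive.toMul.injective h1
  · ext x
    constructor
    · rintro ⟨e, rfl⟩
      exact (Additive.toMul e).2
    · intro hx
      exact ⟨Additive.ofMul ⟨x, hx⟩, rfl⟩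
  · rfl
  · intro g e
    rfl

end main

end Cfsg.Agent.Lib.Helper25.TSQUAD
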