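/-
helper25: S3797 hub - the leaves of `notes/S3797_leaves.lean` under their frozen names, each an alias of the landed module.
-/
import Mathlib
import Cfsg.Prelude.Def_Local
import Cfsg.Agent.Lib.Helper25.TSDefs
import Cfsg.Agent.Lib.Helper10.TSCARD
import Cfsg.Agent.Lib.Helper10.TSEND
import Cfsg.Agent.Lib.Helper10.TSST3
import Cfsg.Agent.Lib.Helper10.TSST4
import Cfsg.Agent.Lib.Helper12.TSCOPR
import Cfsg.Agent.Lib.Helper12.TSCSUP
import Cfsg.Agent.Lib.Helper12.TSFREE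
import Cfsg.Agent.Lib.Helper12.TSST1
import Cfsg.Agent.Lib.Helper12.TSST2
import Cfsg.Agent.Lib.Helper13.TSHOMO
import Cfsg.Agent.Lib.Helper16.TSCENTK
import Cfsg.Agent.Lib.Helper16.TSCFG
import Cfsg.Agent.Lib.Helper16.TSPY
import Cfsg.Agent.Lib.Helper19.TSCRIT
import Cfsg.Agent.Lib.Helper19.TSFAITH
import Cfsg.Agent.Lib.Helper19.TSSYLCE
import Cfsg.Agent.Lib.Helper20.TSEXPO
import Cfsg.Agent.Lib.Helper20.TSHYP0
import Cfsg.Agent.Lib.Helper20.TSKCFG
import Cfsg.Agent.Lib.Helper20.TSODDB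
import Cfsg.Agent.Lib.Helper20.TSQUOT
import Cfsg.Agent.Lib.Helper22.TSGEN
import Cfsg.Agent.Lib.Helper22.TSXFER
import Cfsg.Agent.Lib.Helper25.TSQUAD
import Cfsg.Agent.Lib.Helper29.TSCW
import Cfsg.Agent.Lib.Helper29.TSDIV
import Cfsg.Agent.Lib.Helper29.TSQADD
import Cfsg.Agent.Lib.Helper29.TSQCOMM
import Cfsg.Agent.Lib.Helper29.TSQFIX
import Cfsg.Agent.Lib.Helper29.TSQODD
import Cfsg.Agent.Lib.Helper7.TSDBOT
import Cfsg.Agent.Lib.Helper7.TSDICH
import Cfsg.Agent.Lib.Helper7.TSHALL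
import Cfsg.Agent.Lib.Helper7.TSHYPN

set_option autoImplicit false

namespace Cfsg.Agent.Lib.Helper25.TSLeaves

alias hyp_of_sylow := Cfsg.Agent.Lib.Helper20.TSHYP0.hyp_of_sylow
alias hyp_quotient := Cfsg.Agent.Lib.Helper20.TSQUOT.hyp_quotient
alias cfg_of_hyp := Cfsg.Agent.Lib.Helper16.TSCFG.cfg_of_hyp
alias kcfg_K2 := Cfsg.Agent.Lib.Helper20.TSKCFG.kcfg_K2
alias mem_K_of_comm_mem := Cfsg.Agent.Lib.Helper16.TSCENTK.mem_K_of_comm_mem
alias exists_hall_complement := Cfsg.Agent.Lib.Helper7.TSHALL.exists_hall_complement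
alias centralizer_dichotomy := Cfsg.Agent.Lib.Helper7.TSDICH.centralizer_dichotomy
alias sylow_le_of_inf_eq_bot := Cfsg.Agent.Lib.Helper7.TSDBOT.sylow_le_of_inf_eq_bot
alias hyp_normalizer := Cfsg.Agent.Lib.Helper7.TSHYPN.hyp_normalizer
alias sylow_le_centralizer := Cfsg.Agent.Lib.Helper19.TSSYLCE.sylow_le_centralizer
alias exists_odd_transitive := Cfsg.Agent.Lib.Helper20.TSODDB.exists_odd_transitive
alias exists_crit := Cfsg.Agent.Lib.Helper19.TSCRIT.exists_crit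
alias exists_exponent := Cfsg.Agent.Lib.Helper20.TSEXPO.exists_exponent
alias mem_T_of_comm_mem_center := Cfsg.Agent.Lib.Helper19.TSFAITH.mem_T_of_comm_mem_center
alias exists_quadratic := Cfsg.Agent.Lib.Helper25.TSQUAD.exists_quadratic
alias q_comm_add := Cfsg.Agent.Lib.Helper29.TSQADD.q_comm_add
alias smul_comm_eq := Cfsg.Agent.Lib.Helper29.TSQFIX.smul_comm_eq
alias commSub_facts := Cfsg.Agent.Lib.Helper29.TSQCOMM.commSub_facts
alias smul_eq_of_mem_commSub := Cfsg.Agent.Lib.Helper29.TSQODD.smul_eq_of_mem_commSub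
alias card_le_sq := Cfsg.Agent.Lib.Helper29.TSCW.card_le_sq
alias card_invariant := Cfsg.Agent.Lib.Helper29.TSDIV.card_invariant
alias free_of_inverted := Cfsg.Agent.Lib.Helper12.TSFREE.free_of_inverted
alias commSub_iSup := Cfsg.Agent.Lib.Helper12.TSCSUP.commSub_iSup
alias coprime_decomp := Cfsg.Agent.Lib.Helper12.TSCOPR.coprime_decomp
alias stage_one := Cfsg.Agent.Lib.Helper12.TSST1.stage_one
alias stage_two := Cfsg.Agent.Lib.Helper12.TSST2.stage_two
alias stage_three := Cfsg.Agent.Lib.Helper10.TSST3.stage_three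
alias hyperplane_facts := Cfsg.Agent.Lib.Helper10.TSST4.hyperplane_facts
alias iSup_cen_eq := Cfsg.Agent.Lib.Helper22.TSGEN.iSup_cen_eq
alias card_iSup_le := Cfsg.Agent.Lib.Helper10.TSCARD.card_iSup_le
alias card_iSup_of_indep := Cfsg.Agent.Lib.Helper10.TSCARD.card_iSup_of_indep
alias act_end := Cfsg.Agent.Lib.Helper10.TSEND.act_end
alias act_group_false := Cfsg.Agent.Lib.Helper22.TSXFER.act_group_false
alias exists_solvable_transitive := Cfsg.Agent.Lib.Helper16.TSPY.exists_solvable_transitive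
alias homocyclic_of_transitive := Cfsg.Agent.Lib.Helper13.TSHOMO.homocyclic_of_transitive

end Cfsg.Agent.Lib.Helper25.TSLeaves
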