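/-
helper25: assembly of S3797 from the leaves (TSLeaves).
-/
import Mathlib
import Cfsg.Prelude.Def_Local
import Cfsg.Agent.Lib.Helper25.TSDefs
import Cfsg.Agent.Lib.Helper25.TSHub
import Cfsg.Agent.Lib.Helper1.PLenSeries
import Cfsg.Agent.Lib.Helper12.Cores
import Cfsg.Agent.Lib.Helper24.PSolvable

set_option autoImplicit false
set_option linter.style.haveILetI false

namespace Cfsg.Agent.Lib.Helper25.TSAsm

open Cfsg.Agent.Lib.Helper25.TS Cfsg.Agent.Lib.Helper25.TSLeaves
open scoped commutatorElement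

universe u

/-- the module-level contradiction -/
theorem act_false (V E : Type u) [AddCommGroup V] [AddCommGroup E] [Finite V] [Finite E]
    (Γ : Type u) [Group Γ] [Finite Γ] [DistribMulAction Γ V] (q : V → E) (F U B : Subgroup Γ)
    (a : ActCtx q F U B) : False := by
  obtain ⟨hW, hV, hfixU, hE⟩ := stage_one a
  have h2 := stage_two a hfixU
  obtain ⟨-, h3b⟩ := stage_three a hV hE
  have hadd := (commSub_facts a.hq U a.U_isom a.U_two).1
  exact act_end a hW hV hfixU hadd h3b
    (fun U₀ h => (hyperplane_facts a h2 U₀ h).2.1)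
    (fun U₀ h => (hyperplane_facts a h2 U₀ h).2.2.1)
    (fun U₀ h => (hyperplane_facts a h2 U₀ h).2.2.2)
    (iSup_cen_eq a) (commSub_iSup _)

section core

variable {G : Type u} [Group G] [Finite G]

/-- a 2-element of `K` lies in `T` when `|K : T|` is odd -/
theorem mem_of_two_power {T K : Subgroup G} (hT : T.Normal) (hTK : T ≤ K) (hodd : Odd (T.relIndex K))
    {s : G} (hsK : s ∈ K) {a : ℕ} (hs : s ^ (2 ^ a) = 1) : s ∈ T := by
  haveI : (T.subgroupOf K).Normal := hT.subgroupOf K
  have h1 : ((QuotientGroup.mk' (T.subgroupOf K)) ⟨s, hsK⟩) ^ (2 ^ a) = 1 := by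
    rw [← map_pow]
    have : (⟨s, hsK⟩ : K) ^ (2 ^ a) = 1 := Subtype.ext (by simpa using hs)
    rw [this, map_one]
  have h2 : ((QuotientGroup.mk' (T.subgroupOf K)) ⟨s, hsK⟩) ^ (T.relIndex K) = 1 := by
    have : T.relIndex K = Nat.card (↥K ⧸ T.subgroupOf K) := by
      rw [Subgroup.relIndex, Subgroup.index_eq_card]
    rw [this]
    exact pow_card_eq_one'
  have hcop : Nat.Coprime (2 ^ a) (T.relIndex K) :=
    Nat.Coprime.pow_left a (Nat.coprime_two_left.mpr hodd)
  have h3 : (QuotientGroup.mk' (T.subgroupOf K)) ⟨s, hsK⟩ = 1 := by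
    have := pow_gcd_eq_one.mpr ⟨h1, h2⟩
    rwa [hcop, pow_one] at this
  have h4 : (⟨s, hsK⟩ : K) ∈ T.subgroupOf K := (QuotientGroup.eq_one_iff _).mp h3
  exact Subgroup.mem_subgroupOf.mp h4

theorem core {T E K : Subgroup G} (c : Cfg G T E) (k : KCfg T K)
    (IH : ∀ N : Subgroup G, N ≠ ⊤ → Hyp ↥N → Cfsg.PLengthLE 2 1 ↥N) (S : Sylow 2 G) :
    (S : Subgroup G) ≤ T := by
  haveI : Fact (Nat.Prime 2) := ⟨Nat.prime_two⟩
  by_contra hST
  have hTn := c.T_normal
  have h10 := mem_K_of_comm_mem c k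
  have hcop : (Nat.card T).Coprime (T.relIndex K) := by
    obtain ⟨n, hn⟩ := IsPGroup.iff_card.mp c.T_two
    rw [hn]
    exact Nat.Coprime.pow_left n (Nat.coprime_two_left.mpr k.odd)
  obtain ⟨Q, hQK, hQcard, hTQ, hTQbot, hTN⟩ :=
    exists_hall_complement c.hyp.sol T K c.T_normal k.K_normal k.T_le hcop
  rcases centralizer_dichotomy c Q hTN with hD | hQE
  · exact hST (sylow_le_of_inf_eq_bot c Q hTN hTQbot hD S)
  · have hKE : K ≤ Subgroup.centralizer (E : Set G) := by
      rw [← hTQ]; exact sup_le c.T_le_centralizer hQE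
    by_cases hNtop : Subgroup.normalizer (Q : Set G) = ⊤
    · have hQn : Q.Normal := Subgroup.normalizer_eq_top_iff.mp hNtop
      have hQodd : Odd (Nat.card Q) := hQcard ▸ k.odd
      have hQbot := c.odd_normal Q hQn hQodd
      have hKT : K = T := by rw [← hTQ, hQbot, sup_bot_eq]
      apply hST
      intro s _
      have hsK : s ∈ K := h10 s (fun x hx => by
        rw [hKT] at hx
        rw [commutatorElement_def]
        have h1 : s * x * s⁻¹ ∈ T := hTn.conj_mem x hx s
        exact T.mul_mem h1 (T.inv_mem hx))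
      rwa [hKT] at hsK
    · have hN := IH _ hNtop (hyp_normalizer c Q hTN hQE)
      have hSE := sylow_le_centralizer c k _ hTN hKE hN S
      obtain ⟨B, hBS, hBodd, hBtr⟩ := exists_odd_transitive c S hSE
      obtain ⟨C, cr⟩ := exists_crit T c.T_normal c.T_two
      have hCn := cr.normal
      have hZn : (C ⊓ Subgroup.centralizer (C : Set G)).Normal := by
        haveI := hCn
        infer_instance
      have hZ2 : IsPGroup 2 ↥(C ⊓ Subgroup.centralizer (C : Set G)) :=
        c.T_two.to_le (inf_le_left.trans cr.le)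
      have hZc : ∀ a ∈ C ⊓ Subgroup.centralizer (C : Set G),
          ∀ b ∈ C ⊓ Subgroup.centralizer (C : Set G), a * b = b * a := by
        intro a ha b hb
        have h1 := Subgroup.mem_centralizer_iff.mp ha.2 b hb.1
        exact h1.symm
      have hEcent : E ≤ Subgroup.centralizer (C : Set G) := by
        intro e he
        rw [Subgroup.mem_centralizer_iff]
        intro x hx
        exact (c.E_central e he x (cr.le hx)).symm
      have hEZ : E ≤ C ⊓ Subgroup.centralizer (C : Set G) := by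
        intro e he
        exact ⟨cr.self_cent ⟨c.E_le he, hEcent he⟩, hEcent he⟩
      obtain ⟨m, hm, hexp, hstar⟩ := exists_exponent c _ hZn hZ2 hZc hEZ
      have h9 := mem_T_of_comm_mem_center c k hKE h10 cr
      obtain ⟨V, iV, fV, E', iE, fE, ρ, σ, ι, q, hq, hρσ, hker, hιinj, hιrange, hι0, hισ⟩ :=
        exists_quadratic c cr m hm hexp hstar
      have hker' : ∀ g : G, ρ g = 1 ↔ g ∈ T := by
        intro g
        constructor
        · intro h
          exact h9 g ((hker g).mp h)
        · intro h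
          apply (hker g).mpr
          intro x hx
          have hcx : ⁅g, x⁆ ∈ C := by
            rw [commutatorElement_def]
            exact C.mul_mem (hCn.conj_mem x hx g) (C.inv_mem hx)
          refine Subgroup.mem_inf.mpr ⟨hcx, ?_⟩
          rw [Subgroup.mem_centralizer_iff]
          intro y hy
          exact (cr.comm g h x hx y hy).symm
      have hιE : ∀ e : E', ι e ∈ E := by
        intro e
        have : ι e ∈ Set.range ι := ⟨e, rfl⟩
        rw [hιrange] at this
        exact this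
      have hσ_of_cent : ∀ g : G, g ∈ Subgroup.centralizer (E : Set G) → ∀ e, σ g e = e := by
        intro g hg e
        apply hιinj
        rw [hισ]
        have h1 := Subgroup.mem_centralizer_iff.mp hg (ι e) (hιE e)
        rw [← h1, mul_inv_cancel_right]
      have hTS : T ≤ (S : Subgroup G) := by
        haveI := hTn
        exact Cfsg.Agent.Lib.Helper24.normal_pgroup_le_sylow T c.T_two S
      have hCK : ∀ s ∈ (S : Subgroup G), (∀ x ∈ K, ⁅s, x⁆ ∈ T) → s ∈ T := by
        intro s hs hsK
        have h1 : s ∈ K := h10 s hsK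
        obtain ⟨a, ha⟩ := (IsPGroup.iff_orderOf.mp S.isPGroup') ⟨s, hs⟩
        have h2 : s ^ (2 ^ a) = 1 := by
          have := pow_orderOf_eq_one (⟨s, hs⟩ : (S : Subgroup G))
          rw [ha] at this
          exact congrArg Subtype.val this
        exact mem_of_two_power hTn k.T_le k.odd h1 h2
      have htr : ∀ e e' : E', e ≠ 0 → e' ≠ 0 → ∃ b ∈ B, σ b e = e' := by
        intro e e' he he'
        have h1 : ι e ≠ 1 := fun h => he (hιinj (h.trans hι0.symm))
        have h2 : ι e' ≠ 1 := fun h => he' (hιinj (h.trans hι0.symm))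
        obtain ⟨b, hb, hbe⟩ := hBtr (ι e) (hιE e) (ι e') (hιE e') h1 h2
        refine ⟨b, hb, hιinj ?_⟩
        rw [hισ, hbe]
      have hfix : ∀ s ∈ (S : Subgroup G), (∀ b ∈ B, b * s = s * b) → s = 1 := by
        intro s hs hsB
        by_contra hs1
        obtain ⟨a, ha⟩ := (IsPGroup.iff_orderOf.mp S.isPGroup') ⟨s, hs⟩
        have hord : orderOf s = 2 ^ a := by
          rw [← ha]; exact (Subgroup.orderOf_mk s hs).symm
        have ha0 : a ≠ 0 := by
          intro h
          rw [h, pow_zero, orderOf_eq_one_iff] at hord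
          exact hs1 hord
        obtain ⟨a', rfl⟩ := Nat.exists_eq_succ_of_ne_zero ha0
        set x := s ^ (2 ^ a') with hx
        have hx2 : x ^ 2 = 1 := by
          rw [hx, ← pow_mul, ← pow_succ, ← hord, pow_orderOf_eq_one]
        have hx1 : x ≠ 1 := by
          intro h
          have hd := orderOf_dvd_of_pow_eq_one h
          rw [hord] at hd
          have := Nat.le_of_dvd (by positivity) hd
          have hlt : 2 ^ a' < 2 ^ (a' + 1) := Nat.pow_lt_pow_right (by norm_num) (by omega)
          omega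
        have hxE : x ∈ E := (c.mem_E x).mpr hx2
        have hxB : ∀ b ∈ B, b * x * b⁻¹ = x := by
          intro b hb
          have hc : Commute b s := hsB b hb
          have := (hc.pow_right (2 ^ a')).eq
          rw [← hx] at this
          rw [this, mul_inv_cancel_right]
        obtain ⟨y1, hy1E, y2, hy2E, hy12, hy11, hy21⟩ := c.exists_two
        by_cases hxy : x = y1
        · obtain ⟨b, hb, hbe⟩ := hBtr x hxE y2 hy2E hx1 hy21
          rw [hxB b hb] at hbe
          exact hy12 (hxy.symm.trans hbe)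
        · obtain ⟨b, hb, hbe⟩ := hBtr x hxE y1 hy1E hx1 hy11
          rw [hxB b hb] at hbe
          exact hxy hbe
      exact act_group_false act_false q hq ρ σ hρσ T K S B hker' hTS S.isPGroup' hST k.K_normal
        k.T_le k.odd (fun x hx => hσ_of_cent x (hKE hx)) (fun s hs => hσ_of_cent s (hSE hs)) hBS hCK
        hBodd htr hfix

end core

section main

open Cfsg.Agent.Lib.Helper1.PLen

/-- P1 : if `O_2(G)` contains the Sylow 2-subgroups then `G` has 2-length at most one. -/
theorem pLengthLE_of_sylow_le {G : Type u} [Group G] [Finite G]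
    (h : ∀ S : Sylow 2 G, (S : Subgroup G) ≤ Cfsg.pCore 2 G) : Cfsg.PLengthLE 2 1 G := by
  haveI : Fact (Nat.Prime 2) := ⟨Nat.prime_two⟩
  have h1 : Cfsg.PLengthLE 2 1 ↥(Cfsg.pCore 2 G) :=
    pLengthLE_one_of_isPGroup 2 (Cfsg.Agent.Lib.Helper12.pCore_isPGroup' 2)
  have h0 : Cfsg.PLengthLE 2 0 (G ⧸ Cfsg.pCore 2 G) := by
    apply pLengthLE_zero_of_coprime 2
    rw [← Subgroup.index_eq_card]
    obtain ⟨S⟩ : Nonempty (Sylow 2 G) := inferInstance
    have hd : (Cfsg.pCore 2 G).index ∣ (S : Subgroup G).index := Subgroup.index_dvd_of_le (h S)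
    have hS : ¬ 2 ∣ (S : Subgroup G).index := S.not_dvd_index
    exact ((Nat.Prime.coprime_iff_not_dvd Nat.prime_two).mpr
      (fun h2 => hS (dvd_trans h2 hd))).symm
  have h2 := pLengthLE_of_extension 2 (Cfsg.pCore 2 G) h1 h0
  simpa using h2

/-- P1' : 2-length of `G / O(G)`. -/
theorem pLengthLE_of_quotient {G : Type u} [Group G] [Finite G]
    (h : Cfsg.PLengthLE 2 1 (G ⧸ Cfsg.pPrimeCore 2 G)) : Cfsg.PLengthLE 2 1 G := by
  haveI : Fact (Nat.Prime 2) := ⟨Nat.prime_two⟩
  have h0 : Cfsg.PLengthLE 2 0 ↥(Cfsg.pPrimeCore 2 G) :=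
    pLengthLE_zero_of_coprime 2 (Cfsg.Agent.Lib.Helper12.pPrimeCore_coprime 2)
  have h2 := pLengthLE_of_extension 2 (Cfsg.pPrimeCore 2 G) h0 h
  simpa using h2

theorem main : ∀ (n : ℕ) (G : Type u) [Group G] [Finite G], Nat.card G = n → Hyp G →
    Cfsg.PLengthLE 2 1 G := by
  intro n
  induction n using Nat.strong_induction_on with
  | _ n ih =>
    intro G _ _ hn h
    by_cases hO : Cfsg.pPrimeCore 2 G = ⊥
    · have c := cfg_of_hyp h hO
      have k := kcfg_K2 (G := G)
      apply pLengthLE_of_sylow_le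
      intro S
      apply core c k _ S
      intro N hN hyp
      have hlt : Nat.card N < n := by
        rw [← hn]
        have h1 : Nat.card N ≤ Nat.card G := Subgroup.card_le_card_group N
        rcases Nat.lt_or_ge (Nat.card N) (Nat.card G) with h2 | h2
        · exact h2
        · exact absurd (Subgroup.card_eq_iff_eq_top N |>.mp (le_antisymm h1 h2)) hN
      exact ih _ hlt ↥N rfl hyp
    · have hq := hyp_quotient h
      have hlt : Nat.card (G ⧸ Cfsg.pPrimeCore 2 G) < n := by
        rw [← hn, ← Subgroup.index_eq_card]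
        have h1 := (Cfsg.pPrimeCore 2 G).card_mul_index
        have h2 : 1 < Nat.card ↥(Cfsg.pPrimeCore 2 G) := by
          rw [Subgroup.one_lt_card_iff_ne_bot]; exact hO
        have h3 : 0 < (Cfsg.pPrimeCore 2 G).index := Nat.pos_of_ne_zero Subgroup.index_ne_zero_of_finite
        nlinarith
      exact pLengthLE_of_quotient (ih _ hlt _ rfl hq)

end main

/-- **S3797** in unbundled form. -/
theorem thompson_one_class {G : Type u} [Group G] [Finite G] (hG : Group.IsSolvable G)
    (S : Sylow 2 G)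
    (htwo : ∃ x y : G, x ∈ (S : Subgroup G) ∧ y ∈ (S : Subgroup G) ∧ x ≠ y ∧ x ≠ 1 ∧ x ^ 2 = 1 ∧
      y ≠ 1 ∧ y ^ 2 = 1)
    (hconj : ∀ x y : G, x ≠ 1 → x ^ 2 = 1 → y ≠ 1 → y ^ 2 = 1 → IsConj x y) :
    Cfsg.PLengthLE 2 1 G ∧
      ((∃ m r : ℕ, Nonempty (↥(S : Subgroup G) ≃* (Fin r → Multiplicative (ZMod (2 ^ m))))) ∨
        (¬ IsMulCommutative (S : Subgroup G) ∧ ∃ Y : Subgroup (MulAut ↥(S : Subgroup G)),
          Group.IsSolvable Y ∧ ∀ x y : ↥(S : Subgroup G), x ≠ 1 → x ^ 2 = 1 → y ≠ 1 → y ^ 2 = 1 →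
            ∃ a ∈ Y, a x = y)) := by
  have h := hyp_of_sylow hG S htwo hconj
  have hlen := main _ G rfl h
  refine ⟨hlen, ?_⟩
  obtain ⟨Y, hYs, hYt⟩ := exists_solvable_transitive hG S hconj hlen
  by_cases hc : IsMulCommutative (S : Subgroup G)
  · left
    exact homocyclic_of_transitive S.isPGroup' (fun a b => hc.is_comm.comm a b) Y hYt
  · right
    exact ⟨hc, Y, hYs, hYt⟩

end Cfsg.Agent.Lib.Helper25.TSAsm
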