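/-
helper25: `K`-forms `TVK v φ K = {1 + c • v φᵀ | c ∈ K}` (`K` an additive subgroup of the field) of
the transvection subgroups of `SL ι k`: conjugation, scaling, rank one pairs, and images of
`SL₂(L)` for a subfield `L`.
-/
import Mathlib
import Cfsg.Prelude.Def_RootSubgroups
import Cfsg.Agent.Lib.Helper25.SLRoot4

set_option autoImplicit false

namespace Cfsg.Agent.Lib.Helper25.SLRoot

open Cfsg Matrix
open Cfsg.Agent.Lib.Helper25

variable {ι : Type*} [Fintype ι] [DecidableEq ι] {k : Type*} [Field k]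

/-- the `K`-form of the transvection subgroup attached to `(v, φ)`. -/
def TVK (v φ : ι → k) (h : φ ⬝ᵥ v = 0) (K : AddSubgroup k) :
    Subgroup (Matrix.SpecialLinearGroup ι k) where
  carrier := {g | ∃ c ∈ K, tvSL v φ h c = g}
  mul_mem' := by
    rintro _ _ ⟨a, ha, rfl⟩ ⟨b, hb, rfl⟩
    exact ⟨a + b, K.add_mem ha hb, (tvSL_mul h a b).symm⟩
  one_mem' := ⟨0, K.zero_mem, tvSL_zero h⟩
  inv_mem' := by
    rintro _ ⟨a, ha, rfl⟩
    exact ⟨-a, K.neg_mem ha, (tvSL_inv h a).symm⟩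

theorem mem_TVK {v φ : ι → k} {h : φ ⬝ᵥ v = 0} {K : AddSubgroup k}
    {g : Matrix.SpecialLinearGroup ι k} : g ∈ TVK v φ h K ↔ ∃ c ∈ K, tvSL v φ h c = g := Iff.rfl

theorem tvSL_mem_TVK {v φ : ι → k} (h : φ ⬝ᵥ v = 0) {K : AddSubgroup k} {c : k} (hc : c ∈ K) :
    tvSL v φ h c ∈ TVK v φ h K := ⟨c, hc, rfl⟩

theorem TVK_le_TV {v φ : ι → k} (h : φ ⬝ᵥ v = 0) (K : AddSubgroup k) : TVK v φ h K ≤ TV v φ h := by
  rintro _ ⟨c, -, rfl⟩
  exact tvSL_mem h c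

theorem TVK_comm {v φ : ι → k} (h : φ ⬝ᵥ v = 0) (K : AddSubgroup k) :
    IsMulCommutative (TVK v φ h K) := by
  rw [isMulCommutative_iff]
  rintro ⟨_, a, -, rfl⟩ ⟨_, b, -, rfl⟩
  apply Subtype.ext
  show tvSL v φ h a * tvSL v φ h b = tvSL v φ h b * tvSL v φ h a
  rw [tvSL_mul, tvSL_mul, add_comm]

theorem TVK_ne_bot {v φ : ι → k} (h : φ ⬝ᵥ v = 0) (hv : v ≠ 0) (hφ : φ ≠ 0) {K : AddSubgroup k}
    (hK : ∃ c ∈ K, c ≠ 0) : TVK v φ h K ≠ ⊥ := by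
  intro e
  obtain ⟨c, hc, hc0⟩ := hK
  have h1 : tvSL v φ h c ∈ TVK v φ h K := tvSL_mem_TVK h hc
  rw [e, Subgroup.mem_bot, tvSL_eq_one_iff h hv hφ] at h1
  exact hc0 h1

theorem conjBy_TVK {v φ : ι → k} (h : φ ⬝ᵥ v = 0) (K : AddSubgroup k)
    (g : Matrix.SpecialLinearGroup ι k) :
    conjBy (TVK v φ h K) g =
      TVK ((↑g : Matrix ι ι k) *ᵥ v) (φ ᵥ* (↑(g⁻¹) : Matrix ι ι k)) (conj_dot h g) K := by
  ext x
  rw [mem_conjBy, mem_TVK, mem_TVK]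
  constructor
  · rintro ⟨c, hcK, hc⟩
    refine ⟨c, hcK, ?_⟩
    rw [← conj_tvSL h g c, hc]
    group
  · rintro ⟨c, hcK, rfl⟩
    refine ⟨c, hcK, ?_⟩
    rw [← conj_tvSL h g c]
    group

/-- scaling by factors whose product preserves `K`. -/
theorem TVK_smul {v φ : ι → k} (h : φ ⬝ᵥ v = 0) {K : AddSubgroup k} {a b : k} (ha : a ≠ 0)
    (hb : b ≠ 0) (h1 : ∀ c ∈ K, c * a * b ∈ K) (h2 : ∀ c ∈ K, c / (a * b) ∈ K)
    (h' : (b • φ) ⬝ᵥ (a • v) = 0) : TVK (a • v) (b • φ) h' K = TVK v φ h K := by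
  have key : ∀ c : k, tvSL (a • v) (b • φ) h' c = tvSL v φ h (c * a * b) := by
    intro c
    apply Subtype.ext
    show 1 + c • vecMulVec (a • v) (b • φ) = 1 + (c * a * b) • vecMulVec v φ
    rw [smul_vecMulVec, vecMulVec_smul, smul_smul, smul_smul]
  ext x
  rw [mem_TVK, mem_TVK]
  constructor
  · rintro ⟨c, hc, rfl⟩
    exact ⟨c * a * b, h1 c hc, (key c).symm⟩
  · rintro ⟨c, hc, rfl⟩
    refine ⟨c / (a * b), h2 c hc, ?_⟩
    rw [key]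
    congr 1
    field_simp

theorem TVK_congr {v φ v' φ' : ι → k} (h : φ ⬝ᵥ v = 0) (K : AddSubgroup k) (hv : v = v')
    (hφ : φ = φ') (h' : φ' ⬝ᵥ v' = 0) : TVK v φ h K = TVK v' φ' h' K := by
  subst hv; subst hφ; rfl

theorem commutator_TVK_eq_bot {v φ w ψ : ι → k} (hv : φ ⬝ᵥ v = 0) (hw : ψ ⬝ᵥ w = 0)
    (h1 : φ ⬝ᵥ w = 0) (h2 : ψ ⬝ᵥ v = 0) (K K' : AddSubgroup k) :
    ⁅TVK v φ hv K, TVK w ψ hw K'⁆ = ⊥ := by
  have h := commutator_eq_bot_of hv hw h1 h2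
  rw [← le_bot_iff, ← h]
  exact Subgroup.commutator_mono (TVK_le_TV hv K) (TVK_le_TV hw K')

/-- the one-sided rank one condition for `K`-forms. -/
theorem rankOneCondition_TVK {v φ w ψ : ι → k} (hv : φ ⬝ᵥ v = 0) (hw : ψ ⬝ᵥ w = 0)
    (hv0 : v ≠ 0) (hφ0 : φ ≠ 0) (hw0 : w ≠ 0) (hψ0 : ψ ≠ 0)
    (h1 : φ ⬝ᵥ w ≠ 0) (h2 : ψ ⬝ᵥ v ≠ 0) {K : AddSubgroup k}
    (hinv : ∀ s ∈ K, s ≠ 0 → (s * (φ ⬝ᵥ w) * (ψ ⬝ᵥ v))⁻¹ ∈ K)
    (hratio : ∀ s ∈ K, ∀ t ∈ K, ∀ c ∈ K, s ≠ 0 → t * s⁻¹ * c ∈ K) :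
    RankOneCondition (TVK v φ hv K) (TVK w ψ hw K) := by
  intro a ha ha1
  obtain ⟨s, hsK, rfl⟩ := mem_TVK.1 ha
  have hs : s ≠ 0 := fun e => ha1 ((tvSL_eq_one_iff hv hv0 hφ0).2 e)
  set α := φ ⬝ᵥ w with hα
  set β := ψ ⬝ᵥ v with hβ
  have ht0 : (s * α * β)⁻¹ ≠ 0 := inv_ne_zero (mul_ne_zero (mul_ne_zero hs h1) h2)
  have htK : (s * α * β)⁻¹ ∈ K := hinv s hsK hs
  refine ⟨tvSL w ψ hw (s * α * β)⁻¹, tvSL_mem_TVK hw htK, ?_, ?_⟩
  · intro e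
    exact ht0 ((tvSL_eq_one_iff hw hw0 hψ0).1 e)
  · rw [conjBy_TVK, conjBy_TVK]
    have e1 : (↑((tvSL w ψ hw (s * α * β)⁻¹)⁻¹) : Matrix ι ι k) *ᵥ v =
        (-((s * α * β)⁻¹ * β)) • ((↑((tvSL v φ hv s)⁻¹) : Matrix ι ι k) *ᵥ w) := by
      rw [tvSL_inv, tvSL_inv, tvSL_mulVec, tvSL_mulVec, ← hα, ← hβ, smul_add, smul_smul]
      have : -((s * α * β)⁻¹ * β) * (-s * α) = 1 := by field_simp
      rw [this, one_smul, add_comm]
      congr 1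
      rw [neg_mul]
    have e2 : φ ᵥ* (↑((tvSL w ψ hw (s * α * β)⁻¹)⁻¹⁻¹) : Matrix ι ι k) =
        ((s * α * β)⁻¹ * α) • (ψ ᵥ* (↑((tvSL v φ hv s)⁻¹⁻¹) : Matrix ι ι k)) := by
      rw [inv_inv, inv_inv, vecMul_tvSL, vecMul_tvSL, ← hα, ← hβ, smul_add, smul_smul]
      have : (s * α * β)⁻¹ * α * (s * β) = 1 := by field_simp
      rw [this, one_smul, add_comm]
    have hne1 : -((s * α * β)⁻¹ * β) ≠ 0 := neg_ne_zero.2 (mul_ne_zero ht0 h2)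
    have hne2 : (s * α * β)⁻¹ * α ≠ 0 := mul_ne_zero ht0 h1
    rw [TVK_congr _ K e1 e2 (by
      rw [← e1, ← e2]
      exact conj_dot hv _)]
    refine TVK_smul _ hne1 hne2 ?_ ?_ _
    · intro c hc
      have h3 := K.neg_mem (hratio s hsK _ htK c hc hs)
      have e3 : c * -((s * α * β)⁻¹ * β) * ((s * α * β)⁻¹ * α) =
          -((s * α * β)⁻¹ * s⁻¹ * c) := by field_simp
      rw [e3]
      exact h3
    · intro c hc
      have h3 := K.neg_mem (hratio _ htK s hsK c hc ht0)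
      have e3 : c / (-((s * α * β)⁻¹ * β) * ((s * α * β)⁻¹ * α)) =
          -(s * ((s * α * β)⁻¹)⁻¹ * c) := by field_simp
      rw [e3]
      exact h3

/-- the rank one case for `K`-forms. -/
theorem rankOnePair_TVK {v φ w ψ : ι → k} (hv : φ ⬝ᵥ v = 0) (hw : ψ ⬝ᵥ w = 0)
    (hv0 : v ≠ 0) (hφ0 : φ ≠ 0) (hw0 : w ≠ 0) (hψ0 : ψ ≠ 0)
    (h1 : φ ⬝ᵥ w ≠ 0) (h2 : ψ ⬝ᵥ v ≠ 0) {K : AddSubgroup k} (hK : ∃ c ∈ K, c ≠ 0)
    (hinv : ∀ s ∈ K, s ≠ 0 → (s * (φ ⬝ᵥ w) * (ψ ⬝ᵥ v))⁻¹ ∈ K)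
    (hratio : ∀ s ∈ K, ∀ t ∈ K, ∀ c ∈ K, s ≠ 0 → t * s⁻¹ * c ∈ K) :
    IsRankOnePair (TVK v φ hv K) (TVK w ψ hw K) := by
  refine ⟨?_, isNilpotent_of_isMulCommutative (TVK_comm hv K),
    isNilpotent_of_isMulCommutative (TVK_comm hw K),
    rankOneCondition_TVK hv hw hv0 hφ0 hw0 hψ0 h1 h2 hinv hratio,
    rankOneCondition_TVK hw hv hw0 hψ0 hv0 hφ0 h2 h1 ?_ hratio⟩
  · intro e
    obtain ⟨ε, hεK, hε0⟩ := hK
    have hmem : tvSL v φ hv ε ∈ TVK w ψ hw K := e ▸ tvSL_mem_TVK hv hεK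
    obtain ⟨c, -, hc⟩ := mem_TVK.1 hmem
    have h3 : (↑(tvSL w ψ hw c) : Matrix ι ι k) *ᵥ w = (↑(tvSL v φ hv ε) : Matrix ι ι k) *ᵥ w := by
      rw [hc]
    rw [tvSL_mulVec, tvSL_mulVec, hw, mul_zero, zero_smul, add_zero, left_eq_add,
      smul_eq_zero] at h3
    rcases h3 with h3 | h3
    · exact (mul_ne_zero hε0 h1) h3
    · exact hv0 h3
  · intro s hs hs0
    have := hinv s hs hs0
    rwa [mul_assoc, mul_comm (ψ ⬝ᵥ v), ← mul_assoc]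

section psl2

variable {L : Type*} [Field L]

/-- a rank one pair of `K`-forms, `K = ε • j(L)` for a subfield `j : L → k`, is the image of
`SL₂(L)` under an injective homomorphism. -/
theorem psl2Pair_TVK {v φ w ψ : ι → k} (hv : φ ⬝ᵥ v = 0) (hw : ψ ⬝ᵥ w = 0)
    (h1 : φ ⬝ᵥ w ≠ 0) (h2 : ψ ⬝ᵥ v ≠ 0) {K : AddSubgroup k} (j : L →+* k) {ε : k} (hε : ε ≠ 0)
    (hK : ∀ c, c ∈ K ↔ ∃ x : L, c = ε * j x)
    (hN : ∃ u : L, j u = ε ^ 2 * (φ ⬝ᵥ w) * (ψ ⬝ᵥ v)) :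
    IsPSL2PairOver L (TVK v φ hv K) (TVK w ψ hw K) := by
  obtain ⟨u, hu⟩ := hN
  set α := φ ⬝ᵥ w with hα
  set β := ψ ⬝ᵥ v with hβ
  have hu0 : u ≠ 0 := by
    rintro rfl
    rw [map_zero] at hu
    exact (mul_ne_zero (mul_ne_zero (pow_ne_zero 2 hε) h1) h2) hu.symm
  have hδ : ε * α ≠ 0 := mul_ne_zero hε h1
  have hv' : φ ⬝ᵥ ((ε * α) • v) = 0 := by rw [dotProduct_smul, hv, smul_zero]
  have h2' : ψ ⬝ᵥ ((ε * α) • v) ≠ 0 := by
    rw [dotProduct_smul, smul_eq_mul]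
    exact mul_ne_zero hδ h2
  have hβ' : ψ ⬝ᵥ ((ε * α) • v) = ε * α * β := by rw [dotProduct_smul, smul_eq_mul]
  obtain ⟨Φ, hΦ⟩ : ∃ Φ : Matrix.SpecialLinearGroup (Fin 2) L →* Matrix.SpecialLinearGroup ι k,
      Φ = (embSL (pairP ((ε * α) • v) w) (pairQ ((ε * α) • v) φ w ψ)
        (pairQ_mul_pairP hv' hw h1 h2')).comp (Matrix.SpecialLinearGroup.map j) := ⟨_, rfl⟩
  have hΦcoe : ∀ g : Matrix.SpecialLinearGroup (Fin 2) L, (↑(Φ g) : Matrix ι ι k) =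
      1 + pairP ((ε * α) • v) w * ((↑g : Matrix (Fin 2) (Fin 2) L).map j - 1) *
        pairQ ((ε * α) • v) φ w ψ := by
    intro g
    rw [hΦ]
    rfl
  have hΦinj : Function.Injective Φ := by
    intro a b hab0
    rw [hΦ] at hab0
    have hab : Matrix.SpecialLinearGroup.map j a = Matrix.SpecialLinearGroup.map j b :=
      embSL_injective _ _ (pairQ_mul_pairP hv' hw h1 h2') hab0
    apply Subtype.ext
    have h3 : (↑(Matrix.SpecialLinearGroup.map j a) : Matrix (Fin 2) (Fin 2) k) =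
        ↑(Matrix.SpecialLinearGroup.map j b) := by rw [hab]
    ext r c
    have h4 := congrFun (congrFun h3 r) c
    exact j.injective h4
  -- the image of an upper unitriangular matrix
  have hup : ∀ g : Matrix.SpecialLinearGroup (Fin 2) L,
      (g : Matrix (Fin 2) (Fin 2) L) 1 0 = 0 → (g : Matrix (Fin 2) (Fin 2) L) 0 0 = 1 →
      (g : Matrix (Fin 2) (Fin 2) L) 1 1 = 1 →
      Φ g = tvSL v φ hv (ε * j ((g : Matrix (Fin 2) (Fin 2) L) 0 1)) := by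
    intro g h10 h00 h11
    apply Subtype.ext
    rw [hΦcoe, tvSL_coe, emb_upper _ (by rw [Matrix.map_apply, h00, map_one])
      (by rw [Matrix.map_apply, h10, map_zero]) (by rw [Matrix.map_apply, h11, map_one]),
      Matrix.map_apply, smul_vecMulVec, smul_smul]
    congr 2
    rw [← hα]
    field_simp
  have hlow : ∀ g : Matrix.SpecialLinearGroup (Fin 2) L,
      (g : Matrix (Fin 2) (Fin 2) L) 0 1 = 0 → (g : Matrix (Fin 2) (Fin 2) L) 0 0 = 1 →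
      (g : Matrix (Fin 2) (Fin 2) L) 1 1 = 1 →
      Φ g = tvSL w ψ hw (ε * j ((g : Matrix (Fin 2) (Fin 2) L) 1 0 * u⁻¹)) := by
    intro g h01 h00 h11
    apply Subtype.ext
    rw [hΦcoe, tvSL_coe, emb_lower _ (by rw [Matrix.map_apply, h00, map_one])
      (by rw [Matrix.map_apply, h01, map_zero]) (by rw [Matrix.map_apply, h11, map_one]),
      Matrix.map_apply, hβ', map_mul, map_inv₀, hu]
    congr 2
    field_simp
  have hmapU : (upperUnipotentSL2 L).map Φ = TVK v φ hv K := by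
    unfold upperUnipotentSL2
    rw [MonoidHom.map_closure]
    have himg : Φ '' {g : Matrix.SpecialLinearGroup (Fin 2) L |
        (g : Matrix (Fin 2) (Fin 2) L) 1 0 = 0 ∧
        (g : Matrix (Fin 2) (Fin 2) L) 0 0 = 1 ∧ (g : Matrix (Fin 2) (Fin 2) L) 1 1 = 1} =
        (TVK v φ hv K : Set (Matrix.SpecialLinearGroup ι k)) := by
      ext x
      constructor
      · rintro ⟨g, ⟨h10, h00, h11⟩, rfl⟩
        rw [hup g h10 h00 h11]
        exact tvSL_mem_TVK hv ((hK _).2 ⟨_, rfl⟩)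
      · rintro ⟨c, hc, rfl⟩
        obtain ⟨x, rfl⟩ := (hK c).1 hc
        have hdet : (!![1, x; 0, 1] : Matrix (Fin 2) (Fin 2) L).det = 1 := by
          simp [Matrix.det_fin_two]
        refine ⟨⟨!![1, x; 0, 1], hdet⟩, ⟨rfl, rfl, rfl⟩, ?_⟩
        exact hup (⟨!![1, x; 0, 1], hdet⟩ : Matrix.SpecialLinearGroup (Fin 2) L) rfl rfl rfl
    rw [himg, Subgroup.closure_eq]
  have hmapL : (lowerUnipotentSL2 L).map Φ = TVK w ψ hw K := by
    unfold lowerUnipotentSL2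
    rw [MonoidHom.map_closure]
    have himg : Φ '' {g : Matrix.SpecialLinearGroup (Fin 2) L |
        (g : Matrix (Fin 2) (Fin 2) L) 0 1 = 0 ∧
        (g : Matrix (Fin 2) (Fin 2) L) 0 0 = 1 ∧ (g : Matrix (Fin 2) (Fin 2) L) 1 1 = 1} =
        (TVK w ψ hw K : Set (Matrix.SpecialLinearGroup ι k)) := by
      ext x
      constructor
      · rintro ⟨g, ⟨h01, h00, h11⟩, rfl⟩
        rw [hlow g h01 h00 h11]
        exact tvSL_mem_TVK hw ((hK _).2 ⟨_, rfl⟩)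
      · rintro ⟨c, hc, rfl⟩
        obtain ⟨x, rfl⟩ := (hK c).1 hc
        have hdet : (!![1, 0; x * u, 1] : Matrix (Fin 2) (Fin 2) L).det = 1 := by
          simp [Matrix.det_fin_two]
        refine ⟨⟨!![1, 0; x * u, 1], hdet⟩, ⟨rfl, rfl, rfl⟩, ?_⟩
        have h5 := hlow (⟨!![1, 0; x * u, 1], hdet⟩ : Matrix.SpecialLinearGroup (Fin 2) L)
          rfl rfl rfl
        have : (!![1, 0; x * u, 1] : Matrix (Fin 2) (Fin 2) L) 1 0 * u⁻¹ = x := by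
          show x * u * u⁻¹ = x
          rw [mul_assoc, mul_inv_cancel₀ hu0, mul_one]
        rw [h5]
        show tvSL w ψ hw (ε * j ((!![1, 0; x * u, 1] : Matrix (Fin 2) (Fin 2) L) 1 0 * u⁻¹)) = _
        rw [this]
    rw [himg, Subgroup.closure_eq]
  refine ⟨Φ, ?_, ?_, hmapU, hmapL⟩
  · apply le_antisymm
    · rintro _ ⟨g, rfl⟩
      refine Cfsg.Agent.Lib.Helper2.sl_transvection_induction
        (fun g => Φ g ∈ TVK v φ hv K ⊔ TVK w ψ hw K) ?_ ?_ g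
      · intro i j' hij c
        have hcases : (i = 0 ∧ j' = 1) ∨ (i = 1 ∧ j' = 0) := by
          fin_cases i <;> fin_cases j' <;> simp_all
        rcases hcases with ⟨rfl, rfl⟩ | ⟨rfl, rfl⟩
        · apply Subgroup.mem_sup_left
          rw [← hmapU]
          refine Subgroup.mem_map_of_mem _ (Subgroup.subset_closure ?_)
          show (1 + Matrix.single (0 : Fin 2) 1 c : Matrix (Fin 2) (Fin 2) L) 1 0 = 0 ∧
            (1 + Matrix.single (0 : Fin 2) 1 c : Matrix (Fin 2) (Fin 2) L) 0 0 = 1 ∧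
            (1 + Matrix.single (0 : Fin 2) 1 c : Matrix (Fin 2) (Fin 2) L) 1 1 = 1
          simp
        · apply Subgroup.mem_sup_right
          rw [← hmapL]
          refine Subgroup.mem_map_of_mem _ (Subgroup.subset_closure ?_)
          show (1 + Matrix.single (1 : Fin 2) 0 c : Matrix (Fin 2) (Fin 2) L) 0 1 = 0 ∧
            (1 + Matrix.single (1 : Fin 2) 0 c : Matrix (Fin 2) (Fin 2) L) 0 0 = 1 ∧
            (1 + Matrix.single (1 : Fin 2) 0 c : Matrix (Fin 2) (Fin 2) L) 1 1 = 1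
          simp
      · intro a b ha hb
        show Φ (a * b) ∈ _
        rw [map_mul]
        exact mul_mem ha hb
    · rw [sup_le_iff]
      constructor
      · rw [← hmapU]
        exact Subgroup.map_le_range _ _
      · rw [← hmapL]
        exact Subgroup.map_le_range _ _
  · rw [(MonoidHom.ker_eq_bot_iff _).2 hΦinj]
    exact bot_le

end psl2

end Cfsg.Agent.Lib.Helper25.SLRoot
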