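import Mathlib
import Cfsg.Agent.Lib.Helper25.TWDefs
import Cfsg.Agent.Lib.Helper1.PRDefs

/-!
# Leaf TW3T of market "TW" (S3613)

Coprime suborbits give a block of the point stabilizer: with `PR.TwoTrans`, `PR.FewOrbits`, no
`PR.NontrivABlock` and `|Ω| = q + 2`, `q` an odd prime, the two-point stabilizers are transitive on
the other points.
-/

set_option autoImplicit false

namespace Cfsg.Agent.Lib.Helper25.TW3T

open MulAction Cfsg.Agent.Lib.Helper1.PR Cfsg.Agent.Lib.Helper25.TW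

/-- coprime orbit lengths: the stabilizer of `c` is transitive on the orbit of `d` -/
theorem cop {H X : Type*} [Group H] [Finite H] [MulAction H X] (c d : X)
    (hcop : Nat.Coprime (Nat.card ↥(orbit H c)) (Nat.card ↥(orbit H d))) :
    ∀ d' ∈ orbit H d, ∃ h : H, h • c = c ∧ h • d = d' := by
  classical
  set Hc : Subgroup H := stabilizer H c with hHc
  set Hd : Subgroup H := stabilizer H d with hHd
  have hc_idx : Hc.index = Nat.card ↥(orbit H c) := by
    rw [hHc, MulAction.index_stabilizer, Nat.card_coe_set_eq]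
  have hd_idx : Hd.index = Nat.card ↥(orbit H d) := by
    rw [hHd, MulAction.index_stabilizer, Nat.card_coe_set_eq]
  have hstab : stabilizer ↥Hc d = Hd.subgroupOf Hc := by
    ext k
    simp only [mem_stabilizer_iff, Subgroup.mem_subgroupOf, hHd]
    rfl
  have hrel : Hd.relIndex Hc = (orbit ↥Hc d).ncard := by
    rw [← MulAction.index_stabilizer, hstab]
    rfl
  have h1 : Hd.relIndex Hc * Hc.index = (Hc ⊓ Hd).index := by
    rw [← Subgroup.inf_relIndex_left Hc Hd]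
    exact Subgroup.relIndex_mul_index inf_le_left
  have h2 : Hc.relIndex Hd * Hd.index = (Hc ⊓ Hd).index := by
    rw [← Subgroup.inf_relIndex_right Hc Hd]
    exact Subgroup.relIndex_mul_index inf_le_right
  have hdvd : Hd.index ∣ Hd.relIndex Hc := by
    have : Hd.index ∣ Hd.relIndex Hc * Hc.index := by
      rw [h1, ← h2]; exact Dvd.intro_left _ rfl
    refine Nat.Coprime.dvd_of_dvd_mul_right ?_ this
    rw [hc_idx, hd_idx]
    exact hcop.symm
  have hsub : orbit ↥Hc d ⊆ orbit H d := by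
    rintro _ ⟨k, rfl⟩
    exact ⟨(k : H), rfl⟩
  have hfin : (orbit H d).Finite := Set.finite_range _
  have hpos : 0 < (orbit ↥Hc d).ncard := by
    rw [Set.ncard_pos (hfin.subset hsub)]
    exact ⟨d, mem_orbit_self d⟩
  have heq : orbit ↥Hc d = orbit H d := by
    apply Set.eq_of_subset_of_ncard_le hsub _ hfin
    rw [← hrel]
    have : (orbit H d).ncard = Hd.index := by
      rw [hd_idx, Nat.card_coe_set_eq]
    rw [this]
    exact Nat.le_of_dvd (by rw [hrel]; exact hpos) hdvd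
  intro d' hd'
  rw [← heq] at hd'
  obtain ⟨k, hk⟩ := hd'
  exact ⟨(k : H), mem_stabilizer_iff.1 k.2, hk⟩

/-- two-point form of `cop` -/
theorem cop2 {H X : Type*} [Group H] [Finite H] [MulAction H X] (c d : X)
    (hcop : Nat.Coprime (Nat.card ↥(orbit H c)) (Nat.card ↥(orbit H d))) :
    ∀ x ∈ orbit H d, ∀ y ∈ orbit H d, ∃ h : H, h • c = c ∧ h • x = y := by
  intro x hx y hy
  obtain ⟨h₁, h₁c, h₁d⟩ := cop c d hcop x hx
  obtain ⟨h₂, h₂c, h₂d⟩ := cop c d hcop y hy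
  refine ⟨h₂ * h₁⁻¹, ?_, ?_⟩
  · rw [mul_smul, inv_smul_eq_iff.2 h₁c.symm, h₂c]
  · rw [mul_smul, inv_smul_eq_iff.2 h₁d.symm, h₂d]

/-- an injective self-map of a finite set is onto -/
theorem finite_inv {G Ω : Type*} [Group G] [MulAction G Ω] (L : Set Ω) (hfin : L.Finite) (g : G)
    (h : ∀ x ∈ L, g • x ∈ L) : ∀ x, g • x ∈ L → x ∈ L := by
  have himg : (fun x => g • x) '' L = L := by
    apply Set.eq_of_subset_of_ncard_le _ _ hfin
    · rintro _ ⟨x, hx, rfl⟩; exact h x hx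
    · rw [Set.ncard_image_of_injective _ (MulAction.injective g)]
  intro x hx
  rw [← himg] at hx
  obtain ⟨y, hy, hyx⟩ := hx
  have : y = x := MulAction.injective g hyx
  rwa [← this]

/-- the block `{b} ∪ S` -/
theorem core {G Ω : Type*} [Group G] [MulAction G Ω] [Finite Ω] (h2 : TwoTrans G Ω) (a b : Ω)
    (hab : a ≠ b) (S L : Set Ω)
    (hSab : ∀ x ∈ S, x ≠ a ∧ x ≠ b) (hLab : ∀ x ∈ L, x ≠ a ∧ x ≠ b)
    (hcov : ∀ x, x ≠ a → x ≠ b → x ∈ S ∨ x ∈ L)
    (hdisj : ∀ x ∈ S, x ∉ L)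
    (hLinv : ∀ g : G, g • a = a → g • b = b → ∀ x ∈ L, g • x ∈ L)
    (hSinv : ∀ g : G, g • a = a → g • b = b → ∀ x ∈ S, g • x ∈ S)
    (hT : ∀ s ∈ S, ∀ x ∈ L, ∀ y ∈ L, ∃ g : G, g • a = a ∧ g • b = b ∧ g • s = s ∧ g • x = y)
    (hcard : S.ncard < L.ncard) (s₀ : Ω) (hs₀ : s₀ ∈ S) (l₀ : Ω) (hl₀ : l₀ ∈ L) :
    NontrivABlock G a {x | x ≠ a ∧ x ∉ L} := by
  have hLfin : L.Finite := Set.toFinite _
  have hSfin : S.Finite := Set.toFinite _
  -- the CLAIM
  have claim : ∀ g : G, g • a = a → (g • b = b ∨ g • b ∈ S) → ∀ x, x ∈ L ↔ g • x ∈ L := by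
    intro g hga hgb x
    have hginva : g⁻¹ • a = a := by rw [inv_smul_eq_iff, hga]
    rcases hgb with hgb | hgb
    · have hginvb : g⁻¹ • b = b := by rw [inv_smul_eq_iff, hgb]
      refine ⟨hLinv g hga hgb x, fun h => ?_⟩
      have := hLinv g⁻¹ hginva hginvb _ h
      rwa [inv_smul_smul] at this
    · -- `c' = g • b ∈ S`
      have hy₀a : g⁻¹ • l₀ ≠ a := by
        intro h
        rw [inv_smul_eq_iff, hga] at h
        exact (hLab l₀ hl₀).1 h
      have hy₀b : g⁻¹ • l₀ ≠ b := by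
        intro h
        rw [inv_smul_eq_iff] at h
        rw [h] at hl₀
        exact hdisj _ hgb hl₀
      -- every `g⁻¹ • d`, `d ∈ L`, is in the orbit of `g⁻¹ • l₀`
      have horb : ∀ d ∈ L, ∃ k : G, k • a = a ∧ k • b = b ∧ k • (g⁻¹ • l₀) = g⁻¹ • d := by
        intro d hd
        obtain ⟨h, hha, hhb, hhc, hhd⟩ := hT _ hgb l₀ hl₀ d hd
        refine ⟨g⁻¹ * h * g, ?_, ?_, ?_⟩
        · rw [mul_smul, mul_smul, hga, hha, hginva]
        · rw [mul_smul, mul_smul, hhc, inv_smul_smul]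
        · rw [mul_smul, mul_smul, smul_inv_smul, hhd]
      rcases hcov _ hy₀a hy₀b with hy₀ | hy₀
      · -- `g⁻¹ L ⊆ S`: too big
        exfalso
        have hsub : (fun x => g⁻¹ • x) '' L ⊆ S := by
          rintro _ ⟨d, hd, rfl⟩
          obtain ⟨k, hka, hkb, hk⟩ := horb d hd
          have := hSinv k hka hkb _ hy₀
          rwa [hk] at this
        have h1 := Set.ncard_le_ncard hsub hSfin
        rw [Set.ncard_image_of_injective _ (MulAction.injective g⁻¹)] at h1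
        omega
      · have hsub : ∀ d ∈ L, g⁻¹ • d ∈ L := by
          intro d hd
          obtain ⟨k, hka, hkb, hk⟩ := horb d hd
          have := hLinv k hka hkb _ hy₀
          rwa [hk] at this
        have hinv := finite_inv L hLfin g⁻¹ hsub
        refine ⟨fun h => hinv _ (by rwa [inv_smul_smul]), fun h => ?_⟩
        have := hsub _ h
        rwa [inv_smul_smul] at this
  refine ⟨⟨fun h => h.1 rfl, ?_⟩, ⟨b, ⟨hab.symm, fun h => (hLab b h).2 rfl⟩, s₀,
    ⟨(hSab s₀ hs₀).1, hdisj s₀ hs₀⟩, fun h => (hSab s₀ hs₀).2 h.symm⟩,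
    ⟨l₀, (hLab l₀ hl₀).1, fun h => h.2 hl₀⟩⟩
  intro g hga
  by_cases hex : ∃ y, (y ≠ a ∧ y ∉ L) ∧ (g • y ≠ a ∧ g • y ∉ L)
  · left
    obtain ⟨y, ⟨hya, hyL⟩, hgya, hgyL⟩ := hex
    obtain ⟨g₁, hg₁a, hg₁b⟩ := h2 a b a y hab hya.symm
    have hy' : g₁ • b = b ∨ g₁ • b ∈ S := by
      rw [hg₁b]
      by_cases hyb : y = b
      · left; exact hyb
      · right; exact (hcov y hya hyb).resolve_right hyL
    have hgy' : (g * g₁) • b = b ∨ (g * g₁) • b ∈ S := by
      rw [mul_smul, hg₁b]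
      by_cases hyb : g • y = b
      · left; exact hyb
      · right; exact (hcov _ hgya hyb).resolve_right hgyL
    have c1 := claim g₁ hg₁a hy'
    have c2 := claim (g * g₁) (by rw [mul_smul, hg₁a, hga]) hgy'
    have hgL : ∀ x, x ∈ L ↔ g • x ∈ L := by
      intro x
      have e1 := c1 (g₁⁻¹ • x)
      have e2 := c2 (g₁⁻¹ • x)
      rw [smul_inv_smul] at e1
      rw [mul_smul, smul_inv_smul] at e2
      exact e1.symm.trans e2
    rintro z ⟨hza, hzL⟩
    refine ⟨fun h => hza ?_, fun h => hzL ((hgL z).2 h)⟩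
    exact smul_left_cancel g (h.trans hga.symm)
  · right
    rintro z hz hgz
    exact hex ⟨z, hz, hgz⟩

/-- the asymmetric case -/
theorem aux {G Ω : Type*} [Group G] [Finite G] [MulAction G Ω] [Finite Ω] (q : ℕ) (hq : q.Prime)
    (hΩ : Nat.card Ω = q + 2) (h2 : TwoTrans G Ω) (h4 : FewOrbits G Ω)
    (hno : ∀ (a : Ω) (B : Set Ω), ¬ NontrivABlock G a B) (a b : Ω) (hab : a ≠ b) (c d : Ω)
    (hca : c ≠ a) (hcb : c ≠ b) (hda : d ≠ a) (hdb : d ≠ b)
    (hcd : ∀ g : G, g • a = a → g • b = b → g • c ≠ d) :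
    (orbit ↥(stabilizer G a ⊓ stabilizer G b) c).ncard +
        (orbit ↥(stabilizer G a ⊓ stabilizer G b) d).ncard = q ∧
      ((orbit ↥(stabilizer G a ⊓ stabilizer G b) c).ncard <
        (orbit ↥(stabilizer G a ⊓ stabilizer G b) d).ncard → False) := by
  set A : Set Ω := orbit ↥(stabilizer G a ⊓ stabilizer G b) c with hA
  set B : Set Ω := orbit ↥(stabilizer G a ⊓ stabilizer G b) d with hB
  have memorb : ∀ u x : Ω, x ∈ orbit ↥(stabilizer G a ⊓ stabilizer G b) u ↔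
      ∃ g : G, g • a = a ∧ g • b = b ∧ g • u = x := by
    intro u x
    constructor
    · rintro ⟨⟨g, hg⟩, rfl⟩
      exact ⟨g, mem_stabilizer_iff.1 hg.1, mem_stabilizer_iff.1 hg.2, rfl⟩
    · rintro ⟨g, hga, hgb, rfl⟩
      exact ⟨⟨g, mem_stabilizer_iff.2 hga, mem_stabilizer_iff.2 hgb⟩, rfl⟩
  have hne : ∀ u : Ω, u ≠ a → u ≠ b → ∀ x ∈ orbit ↥(stabilizer G a ⊓ stabilizer G b) u,
      x ≠ a ∧ x ≠ b := by
    intro u hua hub x hx
    obtain ⟨g, hga, hgb, rfl⟩ := (memorb u x).1 hx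
    exact ⟨fun h => hua (smul_left_cancel g (h.trans hga.symm)),
      fun h => hub (smul_left_cancel g (h.trans hgb.symm))⟩
  have hinv : ∀ u : Ω, ∀ g : G, g • a = a → g • b = b →
      ∀ x ∈ orbit ↥(stabilizer G a ⊓ stabilizer G b) u,
      g • x ∈ orbit ↥(stabilizer G a ⊓ stabilizer G b) u := by
    intro u g hga hgb x hx
    obtain ⟨k, hka, hkb, rfl⟩ := (memorb u x).1 hx
    exact (memorb u _).2 ⟨g * k, by rw [mul_smul, hka, hga], by rw [mul_smul, hkb, hgb],
      mul_smul g k u⟩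
  have hdisj : ∀ x ∈ A, x ∉ B := by
    intro x hxA hxB
    obtain ⟨g₁, h1a, h1b, h1⟩ := (memorb c x).1 hxA
    obtain ⟨g₂, h2a, h2b, h2'⟩ := (memorb d x).1 hxB
    refine hcd (g₂⁻¹ * g₁) ?_ ?_ ?_
    · rw [mul_smul, h1a, inv_smul_eq_iff, h2a]
    · rw [mul_smul, h1b, inv_smul_eq_iff, h2b]
    · rw [mul_smul, h1, inv_smul_eq_iff, h2']
  have hcov : ∀ x, x ≠ a → x ≠ b → x ∈ A ∨ x ∈ B := by
    intro x hxa hxb
    by_cases hxA : x ∈ A
    · exact Or.inl hxA
    · right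
      have hdA : d ∉ A := by
        intro h
        obtain ⟨g, hga, hgb, hg⟩ := (memorb c d).1 h
        exact hcd g hga hgb hg
      obtain ⟨g, hga, hgb, hg⟩ := h4 a b hab {x | x ≠ a ∧ x ≠ b ∧ x ∉ A} (by
          rintro g hga hgb y ⟨hya, hyb, hyA⟩
          refine ⟨fun h => hya (smul_left_cancel g (h.trans hga.symm)),
            fun h => hyb (smul_left_cancel g (h.trans hgb.symm)), fun h => hyA ?_⟩
          have := hinv c g⁻¹ (by rw [inv_smul_eq_iff, hga]) (by rw [inv_smul_eq_iff, hgb]) _ h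
          rwa [inv_smul_smul] at this)
        (fun h => h.1 rfl) (fun h => h.2.1 rfl)
        ⟨c, fun h => h.2.2 (mem_orbit_self c), hca, hcb⟩ d ⟨hda, hdb, hdA⟩ x ⟨hxa, hxb, hxA⟩
      exact (memorb d x).2 ⟨g, hga, hgb, hg⟩
  -- cardinalities
  have hunion : A ∪ B = ({a, b} : Set Ω)ᶜ := by
    ext x
    simp only [Set.mem_union, Set.mem_compl_iff, Set.mem_insert_iff, Set.mem_singleton_iff, not_or]
    constructor
    · rintro (h | h)
      · exact hne c hca hcb x h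
      · exact hne d hda hdb x h
    · rintro ⟨hxa, hxb⟩
      exact hcov x hxa hxb
  have hsum : A.ncard + B.ncard = q := by
    rw [← Set.ncard_union_eq (Set.disjoint_left.2 hdisj) (Set.toFinite _) (Set.toFinite _), hunion,
      Set.ncard_compl, Set.ncard_pair hab, hΩ]
    omega
  refine ⟨hsum, fun hlt => ?_⟩
  have hApos : 0 < A.ncard := by
    rw [Set.ncard_pos (Set.toFinite _)]
    exact ⟨c, mem_orbit_self c⟩
  have hcop : Nat.Coprime A.ncard B.ncard := by
    have h1 : Nat.Coprime A.ncard q := by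
      refine Nat.Coprime.symm ((Nat.Prime.coprime_iff_not_dvd hq).2 ?_)
      exact Nat.not_dvd_of_pos_of_lt hApos (by omega)
    rw [← hsum] at h1
    exact (Nat.coprime_add_self_right.1 (by rwa [add_comm] at h1))
  -- transitivity of the stabilizer of `s ∈ A` on `B`
  have hT : ∀ s ∈ A, ∀ x ∈ B, ∀ y ∈ B,
      ∃ g : G, g • a = a ∧ g • b = b ∧ g • s = s ∧ g • x = y := by
    intro s hs x hx y hy
    have hsA : orbit ↥(stabilizer G a ⊓ stabilizer G b) s = A := MulAction.orbit_eq_iff.2 hs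
    have hcop' : Nat.Coprime (Nat.card ↥(orbit ↥(stabilizer G a ⊓ stabilizer G b) s))
        (Nat.card ↥(orbit ↥(stabilizer G a ⊓ stabilizer G b) d)) := by
      rw [hsA, Nat.card_coe_set_eq, Nat.card_coe_set_eq]
      exact hcop
    obtain ⟨⟨g, hg⟩, hgs, hgx⟩ := cop2 s d hcop' x hx y hy
    exact ⟨g, mem_stabilizer_iff.1 hg.1, mem_stabilizer_iff.1 hg.2, hgs, hgx⟩
  exact hno a _ (core h2 a b hab A B (hne c hca hcb) (hne d hda hdb) hcov hdisj (hinv d) (hinv c)
    hT hlt c (mem_orbit_self c) d (mem_orbit_self d))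

/-- **TW3T**.  Coprime suborbits give a block: the two-point stabilizers are transitive on the
other `q` points. -/
theorem TW3T {G Ω : Type*} [Group G] [Finite G] [MulAction G Ω] [Finite Ω] (q : ℕ) (hq : q.Prime)
    (hq2 : q ≠ 2) (hΩ : Nat.card Ω = q + 2) (h2 : TwoTrans G Ω) (h4 : FewOrbits G Ω)
    (hno : ∀ (a : Ω) (B : Set Ω), ¬ NontrivABlock G a B) (a b : Ω) (hab : a ≠ b) :
    TransOff2 G a b := by
  by_contra hcon
  unfold TransOff2 at hcon
  push Not at hcon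
  obtain ⟨c, d, hca, hcb, hda, hdb, hcd⟩ := hcon
  have hdc : ∀ g : G, g • a = a → g • b = b → g • d ≠ c := by
    intro g hga hgb h
    refine hcd g⁻¹ ?_ ?_ ?_
    · rw [inv_smul_eq_iff, hga]
    · rw [inv_smul_eq_iff, hgb]
    · rw [inv_smul_eq_iff, h]
  rcases lt_trichotomy (orbit ↥(stabilizer G a ⊓ stabilizer G b) c).ncard
    (orbit ↥(stabilizer G a ⊓ stabilizer G b) d).ncard with hlt | heq | hgt
  · exact (aux q hq hΩ h2 h4 hno a b hab c d hca hcb hda hdb hcd).2 hlt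
  · -- equal sizes: `q` even
    have hsum := (aux q hq hΩ h2 h4 hno a b hab c d hca hcb hda hdb hcd).1
    rw [heq] at hsum
    rcases hq.eq_one_or_self_of_dvd 2 ⟨_, by rw [← hsum, two_mul]⟩ with h | h
    · omega
    · exact hq2 h.symm
  · exact (aux q hq hΩ h2 h4 hno a b hab d c hda hdb hca hcb hdc).2 hgt

end Cfsg.Agent.Lib.Helper25.TW3T
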