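import Mathlib
import Cfsg.Agent.Lib.Helper25.TWDefs
import Cfsg.Agent.Lib.Helper25.TW3T
import Cfsg.Agent.Lib.Helper1.PRDefs
import Cfsg.Agent.Lib.Helper1.PRAsm
import Cfsg.Agent.Lib.Helper23.TWSUCC
import Cfsg.Agent.Lib.Helper24.TWGAL
import Cfsg.Agent.Lib.Helper29.TWCARD
import Cfsg.Agent.Lib.Helper29.TWSYL
import Cfsg.Agent.Lib.Helper15.TWARITH
import Cfsg.Agent.Lib.Helper15.TWNOSWAP
import Cfsg.Agent.Lib.Helper29.TW4T
import Cfsg.Agent.Lib.Helper29.TW5T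

/-!
# Assembly of market "TW" (S3613): prime degree `p = q + 2` (twin primes, `q > 5`),
`2 |N_G(P)| = p (p - 1)`, `G` insoluble ⟹ `G` is 5-transitive.

Leaves: TWSUCC, TWCOP (helper23), TWGAL (helper24), TWCARD, TWSYL, TW4T (helper29), TWARITH, TWFRAT,
TWPAR, TWNOSWAP (helper15), TW676 (helper14), TW3T (helper25), TW5T; the S3611 / S3612 leaves
(markets "PD", "PR") give 2-transitivity, at most two suborbits and primitivity of the point
stabilizer.  Math: `notes/S3613_leaves.lean`.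
-/

set_option autoImplicit false

namespace Cfsg.Agent.Lib.Helper25.TWAsm

open MulAction Cfsg.Agent.Lib.Helper1.PR Cfsg.Agent.Lib.Helper25.TW

/-! ## Spine (planner) -/

/-- the two-point stabilizers are insoluble -/
theorem insoluble {G Ω : Type*} [Group G] [Finite G] [MulAction G Ω] [FaithfulSMul G Ω] [Finite Ω]
    (p q : ℕ) [Fact p.Prime] (hq : q.Prime) (hpq : p = q + 2) (hp13 : 13 ≤ p)
    (hΩ : Nat.card Ω = p) (h2 : TwoTrans G Ω) (P : Sylow p G)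
    (hN : 2 * Nat.card ↥(Subgroup.normalizer ((P : Subgroup G) : Set G)) = p * (p - 1))
    (a b : Ω) (hab : a ≠ b) (htr : TransOff2 G a b) :
    ¬ Group.IsSolvable ↥(stabilizer G a ⊓ stabilizer G b) := by
  intro hsol
  -- the action of H on the other points
  let S : SubMulAction ↥(stabilizer G a ⊓ stabilizer G b) Ω :=
    { carrier := {x | x ≠ a ∧ x ≠ b}
      smul_mem' := by
        rintro ⟨g, hg⟩ x ⟨hxa, hxb⟩
        have hga : g • a = a := mem_stabilizer_iff.1 hg.1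
        have hgb : g • b = b := mem_stabilizer_iff.1 hg.2
        exact ⟨fun h => hxa (smul_left_cancel g (h.trans hga.symm)),
          fun h => hxb (smul_left_cancel g (h.trans hgb.symm))⟩ }
  have hSmem : ∀ x : Ω, x ∈ S ↔ x ≠ a ∧ x ≠ b := fun x => Iff.rfl
  have : FaithfulSMul ↥(stabilizer G a ⊓ stabilizer G b) ↥S := by
    refine ⟨fun {g₁ g₂} h => ?_⟩
    apply Subtype.ext
    apply FaithfulSMul.eq_of_smul_eq_smul (α := Ω)
    intro x
    have h1a : (g₁ : G) • a = a := mem_stabilizer_iff.1 g₁.2.1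
    have h1b : (g₁ : G) • b = b := mem_stabilizer_iff.1 g₁.2.2
    have h2a : (g₂ : G) • a = a := mem_stabilizer_iff.1 g₂.2.1
    have h2b : (g₂ : G) • b = b := mem_stabilizer_iff.1 g₂.2.2
    by_cases hxa : x = a
    · rw [hxa, h1a, h2a]
    · by_cases hxb : x = b
      · rw [hxb, h1b, h2b]
      · have := congrArg (fun t : ↥S => (t : Ω)) (h ⟨x, ⟨hxa, hxb⟩⟩)
        exact this
  have htrS : MulAction.IsPretransitive ↥(stabilizer G a ⊓ stabilizer G b) ↥S := by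
    refine ⟨fun x y => ?_⟩
    obtain ⟨g, hga, hgb, hgxy⟩ := htr x y x.2.1 x.2.2 y.2.1 y.2.2
    refine ⟨⟨g, ⟨mem_stabilizer_iff.2 hga, mem_stabilizer_iff.2 hgb⟩⟩, ?_⟩
    apply Subtype.ext
    exact hgxy
  have hcardS : Nat.card ↥S = q := by
    have h1 : Nat.card ↥S = ({x | x ≠ a ∧ x ≠ b} : Set Ω).ncard := rfl
    have h2' : ({x | x ≠ a ∧ x ≠ b} : Set Ω) = ({a, b} : Set Ω)ᶜ := by
      ext x; simp [not_or]
    rw [h1, h2', Set.ncard_compl, Set.ncard_pair hab, hΩ, hpq]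
    omega
  obtain ⟨d, hd, hH⟩ := Cfsg.Agent.Lib.Helper24.TWGAL.TWGAL q hq hcardS htrS hsol
  have hG := Cfsg.Agent.Lib.Helper29.TWCARD.TWCARD h2 a b hab
  rw [hΩ, hH] at hG
  have hsyl := Cfsg.Agent.Lib.Helper29.TWSYL.TWSYL p P hN (q * d) hG
  have hq' : q = p - 2 := by omega
  have hd' : d ∣ p - 3 := by
    have h3 : p - 3 = q - 1 := by omega
    rw [h3]; exact hd
  apply Cfsg.Agent.Lib.Helper15.TWARITH.TWARITH p d hp13 hd'
  rw [← hq']
  exact hsyl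

/-- **S3613**. -/
theorem main {G Ω : Type*} [Group G] [Finite G] [MulAction G Ω] [FaithfulSMul G Ω] [Finite Ω]
    (p : ℕ) (hp : p.Prime) (hΩ : Nat.card Ω = p) (htrans : MulAction.IsPretransitive G Ω)
    (hins : ¬ Group.IsSolvable G) (P : Sylow p G)
    (hN : 2 * Nat.card ↥(Subgroup.normalizer ((P : Subgroup G) : Set G)) = p * (p - 1))
    (q : ℕ) (hq : q.Prime) (hq5 : 5 < q) (hpq : p = q + 2) :
    MulAction.IsMultiplyPretransitive G Ω 5 := by
  classical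
  have : Fact p.Prime := ⟨hp⟩
  haveI : Fintype Ω := Fintype.ofFinite Ω
  have hΩ' : Fintype.card Ω = p := by rw [← Nat.card_eq_fintype_card, hΩ]
  -- p ≥ 13
  have hp13 : 13 ≤ p := by
    have hq6 : q ≠ 6 := by rintro rfl; exact absurd hq (by decide)
    have hq7 : q ≠ 7 := by rintro rfl; rw [hpq] at hp; exact absurd hp (by decide)
    have hq8 : q ≠ 8 := by rintro rfl; exact absurd hq (by decide)
    have hq9 : q ≠ 9 := by rintro rfl; exact absurd hq (by decide)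
    have hq10 : q ≠ 10 := by rintro rfl; exact absurd hq (by decide)
    omega
  have hq2 : q ≠ 2 := by omega
  -- the S3612 machinery
  obtain ⟨h2', h4', x, e, hxN, hx, hNaff⟩ :=
    Cfsg.Agent.Lib.Helper22.PRWIRE.PRWIRE (by omega) hΩ' htrans hins P hN
  have hC : Coord G e := Cfsg.Agent.Lib.Helper25.PRSQ.PRSQ (by omega) e x hx _ hxN hNaff hN
  have h2 : TwoTrans G Ω := Cfsg.Agent.Lib.Helper22.PR2T.PR2T h2'
  have h4 : FewOrbits G Ω := Cfsg.Agent.Lib.Helper1.PRORB.PRORB h4'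
  have hodd : Odd (Nat.card Ω) := by
    rw [hΩ]
    exact hp.odd_of_ne_two (by omega)
  have hno : ∀ (a : Ω) (B : Set Ω), ¬ NontrivABlock G a B := by
    intro a B hB
    obtain ⟨star, hs⟩ := Cfsg.Agent.Lib.Helper1.PRSTAR.PRSTAR (by omega) h2 h4
      (fun a B hB => Cfsg.Agent.Lib.Helper1.PRAsm.size_two hodd h2 h4 e hC a B hB)
      (fun a b B hB hb => Cfsg.Agent.Lib.Helper25.PRSYM.PRSYM hodd h2 h4 a b B hB hb) a B hB
    exact Cfsg.Agent.Lib.Helper1.PRAsm.star_absurd (by omega) e hC star hs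
  have hΩq : Nat.card Ω = q + 2 := by rw [hΩ, hpq]
  -- the three steps
  have h3 : ∀ a b : Ω, a ≠ b → TransOff2 G a b :=
    fun a b hab => Cfsg.Agent.Lib.Helper25.TW3T.TW3T q hq hq2 hΩq h2 h4 hno a b hab
  have hinsH : ∀ a b : Ω, a ≠ b → ¬ Group.IsSolvable ↥(stabilizer G a ⊓ stabilizer G b) :=
    fun a b hab => insoluble p q hq hpq hp13 hΩ h2 P hN a b hab (h3 a b hab)
  have h4t : ∀ a b : Ω, a ≠ b → TwoTransOff2 G a b :=
    fun a b hab => Cfsg.Agent.Lib.Helper29.TW4T.TW4T q hq hΩq a b hab (h3 a b hab) (hinsH a b hab)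
  have h5t : ∀ a b c d : Ω, a ≠ b → c ≠ a → c ≠ b → d ≠ a → d ≠ b → c ≠ d → TransOff4 G a b c d := by
    intro a b c d hab hca hcb hda hdb hcd
    obtain ⟨s, hsa, hsb⟩ := h2 a b b a hab hab.symm
    refine Cfsg.Agent.Lib.Helper29.TW5T.TW5T q hq hq2 hΩq a b hab ⟨s, hsa, hsb⟩ ?_ (h3 a b hab) (hinsH a b hab) c d hca hcb hda
      hdb hcd
    rintro ⟨τ, hτa, hτb, hτ⟩
    exact Cfsg.Agent.Lib.Helper15.TWNOSWAP.TWNOSWAP p (by omega) hΩ h2 P hN a b hab τ hτa hτb hτ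
  -- 2 → 3 → 4 → 5
  have m3 : MulAction.IsMultiplyPretransitive G Ω 3 := by
    refine Cfsg.Agent.Lib.Helper23.TWSUCC.TWSUCC 2 h2' ?_
    intro x₀ y y' hy hy'
    have hab : x₀ 0 ≠ x₀ 1 := fun h => absurd (x₀.injective h) (by decide)
    obtain ⟨g, hga, hgb, hgy⟩ := h3 (x₀ 0) (x₀ 1) hab y y'
      (fun h => hy ⟨0, h.symm⟩) (fun h => hy ⟨1, h.symm⟩)
      (fun h => hy' ⟨0, h.symm⟩) (fun h => hy' ⟨1, h.symm⟩)
    refine ⟨g, ?_, hgy⟩
    intro i
    fin_cases i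
    · exact hga
    · exact hgb
  have m4 : MulAction.IsMultiplyPretransitive G Ω 4 := by
    refine Cfsg.Agent.Lib.Helper23.TWSUCC.TWSUCC 3 m3 ?_
    intro x₀ y y' hy hy'
    have hab : x₀ 0 ≠ x₀ 1 := fun h => absurd (x₀.injective h) (by decide)
    have hca : x₀ 2 ≠ x₀ 0 := fun h => absurd (x₀.injective h) (by decide)
    have hcb : x₀ 2 ≠ x₀ 1 := fun h => absurd (x₀.injective h) (by decide)
    obtain ⟨g, hga, hgb, hgc, hgy⟩ := h4t (x₀ 0) (x₀ 1) hab (x₀ 2) y (x₀ 2) y' hca hcb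
      (fun h => hy ⟨0, h.symm⟩) (fun h => hy ⟨1, h.symm⟩) hca hcb
      (fun h => hy' ⟨0, h.symm⟩) (fun h => hy' ⟨1, h.symm⟩)
      (fun h => hy ⟨2, h⟩) (fun h => hy' ⟨2, h⟩)
    refine ⟨g, ?_, hgy⟩
    intro i
    fin_cases i
    · exact hga
    · exact hgb
    · exact hgc
  refine Cfsg.Agent.Lib.Helper23.TWSUCC.TWSUCC 4 m4 ?_
  intro x₀ y y' hy hy'
  have hab : x₀ 0 ≠ x₀ 1 := fun h => absurd (x₀.injective h) (by decide)
  have hca : x₀ 2 ≠ x₀ 0 := fun h => absurd (x₀.injective h) (by decide)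
  have hcb : x₀ 2 ≠ x₀ 1 := fun h => absurd (x₀.injective h) (by decide)
  have hda : x₀ 3 ≠ x₀ 0 := fun h => absurd (x₀.injective h) (by decide)
  have hdb : x₀ 3 ≠ x₀ 1 := fun h => absurd (x₀.injective h) (by decide)
  have hcd : x₀ 2 ≠ x₀ 3 := fun h => absurd (x₀.injective h) (by decide)
  obtain ⟨g, hga, hgb, hgc, hgd, hgy⟩ := h5t (x₀ 0) (x₀ 1) (x₀ 2) (x₀ 3) hab hca hcb hda hdb hcd y y'
    (fun h => hy ⟨0, h.symm⟩) (fun h => hy ⟨1, h.symm⟩) (fun h => hy ⟨2, h.symm⟩)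
    (fun h => hy ⟨3, h.symm⟩)
    (fun h => hy' ⟨0, h.symm⟩) (fun h => hy' ⟨1, h.symm⟩) (fun h => hy' ⟨2, h.symm⟩)
    (fun h => hy' ⟨3, h.symm⟩)
  refine ⟨g, ?_, hgy⟩
  intro i
  fin_cases i
  · exact hga
  · exact hgb
  · exact hgc
  · exact hgd

end Cfsg.Agent.Lib.Helper25.TWAsm
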