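import Mathlib
import Cfsg.Agent.Lib.Helper25.CharP

set_option autoImplicit false

/-!
The centralizer of a transvection in `SL_n(2)` has characteristic 2: `F*(C) = O_2(C)`.
-/

namespace Cfsg.Agent.Lib.Helper25.TransvCent

open Cfsg

variable {F : Type*} [Field F] [Fintype F] [DecidableEq F] {n : ℕ}

theorem eq_zero_or_one (hF : Fintype.card F = 2) (x : F) : x = 0 ∨ x = 1 := by
  by_contra h
  push Not at h
  have : 2 < Fintype.card F := Fintype.two_lt_card_iff.2 ⟨0, 1, x, zero_ne_one, h.1.symm, h.2.symm⟩
  omega

theorem one_add_one (hF : Fintype.card F = 2) : (1 : F) + 1 = 0 := by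
  rcases eq_zero_or_one hF ((1 : F) + 1) with h | h
  · exact h
  · exfalso
    have : (1 : F) = 0 := by
      have := congrArg (fun x => x - 1) h
      simp at this
    exact one_ne_zero this

/-- all rows except row `i` are standard -/
def RowsStd (i : Fin n) (M : Matrix (Fin n) (Fin n) F) : Prop :=
  ∀ k, k ≠ i → ∀ b, M k b = if k = b then 1 else 0

theorem RowsStd.mul {i : Fin n} {M N : Matrix (Fin n) (Fin n) F} (hM : RowsStd i M)
    (hN : RowsStd i N) : RowsStd i (M * N) := by
  intro k hk b
  rw [Matrix.mul_apply, Finset.sum_eq_single k]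
  · rw [hM k hk k, if_pos rfl, one_mul, hN k hk b]
  · intro c _ hck
    rw [hM k hk c, if_neg (Ne.symm hck), zero_mul]
  · intro h'; exact absurd (Finset.mem_univ k) h'

theorem RowsStd.of_mul_eq_one {i : Fin n} {M N : Matrix (Fin n) (Fin n) F} (hM : RowsStd i M)
    (h : M * N = 1) : RowsStd i N := by
  intro k hk b
  have h1 : (M * N) k b = if k = b then 1 else 0 := by rw [h, Matrix.one_apply]
  rw [Matrix.mul_apply, Finset.sum_eq_single k] at h1
  · rwa [hM k hk k, if_pos rfl, one_mul] at h1
  · intro c _ hck
    rw [hM k hk c, if_neg (Ne.symm hck), zero_mul]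
  · intro h'; exact absurd (Finset.mem_univ k) h'

/-- The transvections with centre `e_i`: all rows except row `i` are standard. -/
def A₀ (i : Fin n) : Subgroup (Matrix.SpecialLinearGroup (Fin n) F) where
  carrier := {g : Matrix.SpecialLinearGroup (Fin n) F | RowsStd i (g : Matrix (Fin n) (Fin n) F)}
  mul_mem' := by
    intro g h hg hh
    change RowsStd i ((g * h : Matrix.SpecialLinearGroup (Fin n) F) : Matrix (Fin n) (Fin n) F)
    rw [Matrix.SpecialLinearGroup.coe_mul]
    exact RowsStd.mul hg hh
  one_mem' := by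
    change RowsStd i ((1 : Matrix.SpecialLinearGroup (Fin n) F) : Matrix (Fin n) (Fin n) F)
    rw [Matrix.SpecialLinearGroup.coe_one]
    intro k _ b
    rw [Matrix.one_apply]
  inv_mem' := by
    intro g hg
    change RowsStd i ((g⁻¹ : Matrix.SpecialLinearGroup (Fin n) F) : Matrix (Fin n) (Fin n) F)
    apply RowsStd.of_mul_eq_one hg
    rw [← Matrix.SpecialLinearGroup.coe_mul, mul_inv_cancel, Matrix.SpecialLinearGroup.coe_one]

theorem mem_A₀ {i : Fin n} {g : Matrix.SpecialLinearGroup (Fin n) F} :
    g ∈ A₀ i ↔ RowsStd i (g : Matrix (Fin n) (Fin n) F) :=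
  Iff.rfl

/-- the transvection `1 + E_{ik}` as an element of `SL` -/
def tv (i k : Fin n) (hik : i ≠ k) : Matrix.SpecialLinearGroup (Fin n) F :=
  ⟨Matrix.transvection i k 1, Matrix.det_transvection_of_ne i k hik 1⟩

theorem tv_mem_A₀ (i k : Fin n) (hik : i ≠ k) : (tv i k hik : Matrix.SpecialLinearGroup (Fin n) F) ∈ A₀ i := by
  intro a ha b
  change Matrix.transvection i k (1 : F) a b = _
  rw [Matrix.transvection, Matrix.add_apply, Matrix.one_apply,
    Matrix.single_apply_of_row_ne (Ne.symm ha), add_zero]

theorem tv_comm (i j k : Fin n) (hij : i ≠ j) (hik : i ≠ k) :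
    (tv i j hij : Matrix.SpecialLinearGroup (Fin n) F) * tv i k hik = tv i k hik * tv i j hij := by
  apply Subtype.ext
  change Matrix.transvection i j (1 : F) * Matrix.transvection i k 1 =
    Matrix.transvection i k 1 * Matrix.transvection i j 1
  simp only [Matrix.transvection, add_mul, mul_add, one_mul, mul_one]
  rw [Matrix.single_mul_single_of_ne _ _ _ _ (Ne.symm hik), Matrix.single_mul_single_of_ne _ _ _ _ (Ne.symm hij)]
  abel

/-- elements commuting with `1 + E_{ij}` over the field with two elements fix `e_i` -/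
theorem col_of_comm (hF : Fintype.card F = 2) {i j : Fin n} (hij : i ≠ j)
    {g : Matrix.SpecialLinearGroup (Fin n) F} (hg : g * tv i j hij = tv i j hij * g) (a : Fin n) :
    (g : Matrix (Fin n) (Fin n) F) a i = if a = i then 1 else 0 := by
  have h1 : (g : Matrix (Fin n) (Fin n) F) * Matrix.single i j 1 =
      Matrix.single i j 1 * (g : Matrix (Fin n) (Fin n) F) := by
    have := congrArg (fun x : Matrix.SpecialLinearGroup (Fin n) F => (x : Matrix (Fin n) (Fin n) F)) hg
    simp only [Matrix.SpecialLinearGroup.coe_mul] at this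
    change (g : Matrix (Fin n) (Fin n) F) * Matrix.transvection i j 1 =
      Matrix.transvection i j 1 * (g : Matrix (Fin n) (Fin n) F) at this
    simp only [Matrix.transvection, mul_add, add_mul, mul_one, one_mul] at this
    exact add_left_cancel this
  have h2 : ∀ a, (g : Matrix (Fin n) (Fin n) F) a i =
      if a = i then (g : Matrix (Fin n) (Fin n) F) j j else 0 := by
    intro a
    have := congrFun (congrFun h1 a) j
    rw [Matrix.mul_single_apply_same, mul_one] at this
    rw [this]
    split_ifs with h
    · subst h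
      rw [Matrix.single_mul_apply_same, one_mul]
    · rw [Matrix.single_mul_apply_of_ne _ _ _ _ _ h]
  have h3 : (g : Matrix (Fin n) (Fin n) F) j j ≠ 0 := by
    intro h0
    have hcol : ∀ a, (g : Matrix (Fin n) (Fin n) F) a i = 0 := fun a => by
      rw [h2 a, h0]; split_ifs <;> rfl
    have : (g : Matrix (Fin n) (Fin n) F).det = 0 := Matrix.det_eq_zero_of_column_eq_zero i hcol
    rw [g.2] at this
    exact one_ne_zero this
  have h4 : (g : Matrix (Fin n) (Fin n) F) j j = 1 := (eq_zero_or_one hF _).resolve_left h3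
  rw [h2 a, h4]

/-- elements with standard column `i` commuting with `1 + E_{ik}` have standard row `k` -/
theorem row_of_comm {i k : Fin n} (hik : i ≠ k)
    {g : Matrix.SpecialLinearGroup (Fin n) F} (hcol : (g : Matrix (Fin n) (Fin n) F) i i = 1)
    (hg : g * tv i k hik = tv i k hik * g) (b : Fin n) :
    (g : Matrix (Fin n) (Fin n) F) k b = if k = b then 1 else 0 := by
  have h1 : (g : Matrix (Fin n) (Fin n) F) * Matrix.single i k 1 =
      Matrix.single i k 1 * (g : Matrix (Fin n) (Fin n) F) := by
    have := congrArg (fun x : Matrix.SpecialLinearGroup (Fin n) F => (x : Matrix (Fin n) (Fin n) F)) hg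
    simp only [Matrix.SpecialLinearGroup.coe_mul] at this
    change (g : Matrix (Fin n) (Fin n) F) * Matrix.transvection i k 1 =
      Matrix.transvection i k 1 * (g : Matrix (Fin n) (Fin n) F) at this
    simp only [Matrix.transvection, mul_add, add_mul, mul_one, one_mul] at this
    exact add_left_cancel this
  have := congrFun (congrFun h1 i) b
  rw [Matrix.single_mul_apply_same, one_mul] at this
  rw [← this]
  split_ifs with h
  · subst h
    rw [Matrix.mul_single_apply_same, mul_one, hcol]
  · rw [Matrix.mul_single_apply_of_ne _ _ _ _ _ (Ne.symm h)]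

omit [Fintype F] [DecidableEq F] in
/-- conjugation by a matrix with standard column `i` preserves `RowsStd i` -/
theorem RowsStd.conj {i : Fin n} {M N N' : Matrix (Fin n) (Fin n) F} (hM : RowsStd i M)
    (hcol : ∀ a, a ≠ i → N a i = 0) (hNN' : N * N' = 1) : RowsStd i (N * M * N') := by
  have h1 : ∀ k, k ≠ i → ∀ x, (N * M) k x = N k x := by
    intro k hk x
    rw [Matrix.mul_apply, Finset.sum_eq_single x]
    · by_cases hx : x = i
      · subst hx
        rw [hcol k hk, zero_mul]
      · rw [hM x hx x, if_pos rfl, mul_one]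
    · intro y _ hyx
      by_cases hy : y = i
      · subst hy
        rw [hcol k hk, zero_mul]
      · rw [hM y hy x, if_neg hyx, mul_zero]
    · intro h'; exact absurd (Finset.mem_univ x) h'
  intro k hk b
  rw [Matrix.mul_apply]
  simp only [h1 k hk]
  rw [← Matrix.mul_apply, hNN', Matrix.one_apply]

/-- elements of `A₀` with `g_ii = 1` are involutions in characteristic 2 -/
theorem sq_eq_one (hF : Fintype.card F = 2) {i : Fin n} {M : Matrix (Fin n) (Fin n) F}
    (hM : RowsStd i M) (hii : M i i = 1) : M * M = 1 := by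
  ext a b
  by_cases ha : a = i
  · subst ha
    rw [Matrix.mul_apply, Matrix.one_apply]
    by_cases hb : a = b
    · subst hb
      rw [if_pos rfl, Finset.sum_eq_single a]
      · rw [hii, one_mul]
      · intro c _ hca
        rw [hM c hca a, if_neg hca, mul_zero]
      · intro h'; exact absurd (Finset.mem_univ a) h'
    · rw [if_neg hb, Finset.sum_eq_add a b hb]
      · rw [hii, one_mul, hM b (Ne.symm hb) b, if_pos rfl, mul_one, ← two_mul]
        have h2 : (2 : F) = 0 := by rw [← one_add_one_eq_two]; exact one_add_one hF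
        rw [h2, zero_mul]
      · intro c _ hc
        rw [hM c hc.1 b, if_neg hc.2, mul_zero]
      · intro h'; exact absurd (Finset.mem_univ a) h'
      · intro h'; exact absurd (Finset.mem_univ b) h'
  · have := RowsStd.mul hM hM a ha b
    rw [this, Matrix.one_apply]

/-- Main theorem: the centralizer of `1 + E_{ij}` in `SL_n(2)` has `F* = O_2`. -/
theorem main (hF : Fintype.card F = 2) (i j : Fin n) (hij : i ≠ j)
    (t : Matrix.SpecialLinearGroup (Fin n) F)
    (ht : (t : Matrix (Fin n) (Fin n) F) = Matrix.transvection i j 1) :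
    Cfsg.generalizedFittingSubgroup
        ↥(Subgroup.centralizer ({t} : Set (Matrix.SpecialLinearGroup (Fin n) F))) =
      Cfsg.pCore 2 ↥(Subgroup.centralizer ({t} : Set (Matrix.SpecialLinearGroup (Fin n) F))) := by
  have htt : t = tv i j hij := Subtype.ext ht
  subst htt
  haveI : Fact (Nat.Prime 2) := ⟨Nat.prime_two⟩
  -- membership in the centralizer
  have hC : ∀ g : Matrix.SpecialLinearGroup (Fin n) F,
      g ∈ Subgroup.centralizer ({tv i j hij} : Set (Matrix.SpecialLinearGroup (Fin n) F)) ↔
        g * tv i j hij = tv i j hij * g := by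
    intro g
    rw [Subgroup.mem_centralizer_iff]
    constructor
    · intro h; exact (h _ rfl).symm
    · intro h x hx
      rw [Set.mem_singleton_iff] at hx
      subst hx
      exact h.symm
  obtain ⟨C, hCdef⟩ : ∃ C : Subgroup (Matrix.SpecialLinearGroup (Fin n) F),
      C = Subgroup.centralizer ({tv i j hij} : Set (Matrix.SpecialLinearGroup (Fin n) F)) :=
    ⟨_, rfl⟩
  rw [← hCdef]
  have hC' : ∀ g : Matrix.SpecialLinearGroup (Fin n) F,
      g ∈ C ↔ g * tv i j hij = tv i j hij * g := by
    rw [hCdef]; exact hC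
  have hcolC : ∀ c : C, ∀ a, ((c : Matrix.SpecialLinearGroup (Fin n) F) :
      Matrix (Fin n) (Fin n) F) a i = if a = i then 1 else 0 :=
    fun c a => col_of_comm hF hij ((hC' _).1 c.2) a
  have hQn : ((A₀ i).subgroupOf C).Normal := by
    constructor
    intro x hx c
    rw [Subgroup.mem_subgroupOf] at hx ⊢
    rw [mem_A₀] at hx ⊢
    have : (((c * x * c⁻¹ : C) : Matrix.SpecialLinearGroup (Fin n) F) :
        Matrix (Fin n) (Fin n) F) =
        ((c : Matrix.SpecialLinearGroup (Fin n) F) : Matrix (Fin n) (Fin n) F) *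
          ((x : Matrix.SpecialLinearGroup (Fin n) F) : Matrix (Fin n) (Fin n) F) *
          (((c⁻¹ : C) : Matrix.SpecialLinearGroup (Fin n) F) : Matrix (Fin n) (Fin n) F) := by
      rw [Subgroup.coe_mul, Subgroup.coe_mul, Matrix.SpecialLinearGroup.coe_mul,
        Matrix.SpecialLinearGroup.coe_mul]
    rw [this]
    apply RowsStd.conj hx
    · intro a ha
      rw [hcolC c a, if_neg ha]
    · rw [← Matrix.SpecialLinearGroup.coe_mul, ← Subgroup.coe_mul, mul_inv_cancel,
        Subgroup.coe_one, Matrix.SpecialLinearGroup.coe_one]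
  have hQp : IsPGroup 2 ((A₀ i).subgroupOf C) := by
    intro x
    refine ⟨1, ?_⟩
    rw [pow_one, pow_two]
    have hx : ((x : C) : Matrix.SpecialLinearGroup (Fin n) F) ∈ A₀ i := x.2
    rw [mem_A₀] at hx
    have hii := hcolC (x : C) i
    rw [if_pos rfl] at hii
    have hsq := sq_eq_one hF hx hii
    apply Subtype.ext
    apply Subtype.ext
    apply Subtype.ext
    rw [Subgroup.coe_mul, Subgroup.coe_mul, Matrix.SpecialLinearGroup.coe_mul, hsq]
    rfl
  have hCQ : Subgroup.centralizer (((A₀ i).subgroupOf C : Subgroup C) : Set C) ≤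
      (A₀ i).subgroupOf C := by
    intro g hg
    rw [Subgroup.mem_subgroupOf, mem_A₀]
    intro k hk b
    have hik : i ≠ k := Ne.symm hk
    have htvC : (tv i k hik : Matrix.SpecialLinearGroup (Fin n) F) ∈ C := by
      rw [hC']
      exact (tv_comm i j k hij hik).symm
    have hmem : (⟨tv i k hik, htvC⟩ : C) ∈ (A₀ i).subgroupOf C := by
      rw [Subgroup.mem_subgroupOf]
      exact tv_mem_A₀ i k hik
    have hcomm := (Subgroup.mem_centralizer_iff.1 hg) _ hmem
    have hcomm' : (g : Matrix.SpecialLinearGroup (Fin n) F) * tv i k hik =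
        tv i k hik * (g : Matrix.SpecialLinearGroup (Fin n) F) := by
      have := congrArg (fun x : C => (x : Matrix.SpecialLinearGroup (Fin n) F)) hcomm
      simp only [Subgroup.coe_mul] at this
      exact this.symm
    have hii := hcolC g i
    rw [if_pos rfl] at hii
    exact row_of_comm hik hii hcomm' b
  exact generalizedFittingSubgroup_eq_pCore_of_normal_pSubgroup _ hQn hQp hCQ

end Cfsg.Agent.Lib.Helper25.TransvCent
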