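import Cfsg.Agent.Lib.Helper25.AutO17
import Cfsg.Agent.Lib.Helper18.OrthAutP
import Cfsg.Agent.Lib.Helper25.AutPlus1

set_option autoImplicit false
set_option linter.unusedSectionVars false
set_option linter.unusedVariables false
set_option linter.unusedSimpArgs false

/-!
# Triality, part 1: an automorphism of `PΩ(Q)` preserving the relation "the lines meet in a point
and are not perpendicular" on root subgroups is induced by a semisimilarity
-/

namespace Cfsg.Agent.Lib.Helper25.Tri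

open Module QuadraticMap Matrix Cfsg.Agent.Lib.Helper25.CD Cfsg.Agent.Lib.Helper25.Siegel
  Cfsg.Agent.Lib.Helper25.PS Cfsg.Agent.Lib.Helper25.PAut Cfsg.Agent.Lib.Helper15
  Cfsg.Agent.Lib.Helper25.AutO Cfsg.Agent.Lib.Helper25.GraphSplit
  Cfsg.Agent.Lib.Helper25.MaxTS

section single

open Cfsg.Agent.Lib.Helper18.OrthAut

variable {ι : Type} [Fintype ι] [DecidableEq ι] {F : Type*} [Field F] [Fintype F]
  (Q : QuadraticForm F (ι → F))

theorem permutes_trans_conj {β : Cfsg.POmega F ⇑Q ≃* Cfsg.POmega F ⇑Q}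
    (h : Cfsg.Agent.Lib.Helper18.OrthAut.Permutes Q β) (k : ↥(Cfsg.Omega F ⇑Q)) :
    Cfsg.Agent.Lib.Helper18.OrthAut.Permutes Q
      (β.trans (MulAut.conj (QuotientGroup.mk k : Cfsg.POmega F ⇑Q))) := by
  intro u hu0 hu
  obtain ⟨u', hu0', hu', hmap⟩ := h u hu0 hu
  refine ⟨toOG Q k.1 u', ?_, by rw [Q_toOG, hu'], ?_⟩
  · intro h0
    apply hu0'
    have := congrArg (toOG Q k.1).symm h0
    rwa [LinearEquiv.symm_apply_apply, map_zero] at this
  · rw [← Cfsg.Agent.Lib.Helper18.OrthAut.map_conj_Rbar Q k hu', ← hmap, Subgroup.map_map]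
    rfl

/-- an automorphism permuting the groups `R̄_u` is induced by a semisimilarity -/
theorem aut_induced_single (hQ : (polarBilin Q).Nondegenerate) (hn : 7 ≤ Fintype.card ι)
    (β : Cfsg.POmega F ⇑Q ≃* Cfsg.POmega F ⇑Q)
    (hperm : Cfsg.Agent.Lib.Helper18.OrthAut.Permutes Q β) :
    ∃ (g : GL ι F) (σ : F ≃+* F), Cfsg.IsSemisimilarityPair (⇑Q) g σ ∧
      Cfsg.IsInducedBySemilinearPOmega (⇑Q) g σ β := by
  have hfr : finrank F (ι → F) = Fintype.card ι := Module.finrank_fintype_fun_eq_card F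
  obtain ⟨e, he0, he⟩ := exists_singular_of_three_le Q (by omega)
  obtain ⟨f, hf, hef⟩ := Cfsg.Agent.Lib.Helper25.Fam.exists_sing_partner Q hQ he0 he
  have h : HypPair Q e f := ⟨he, hf, hef⟩
  obtain ⟨k, hke, hkf⟩ := exists_normalise Q hQ hn h β hperm
  obtain ⟨σ, μ, γ, hμ0, hadd, hsmul, hform, hInd⟩ :=
    exists_gamma Q hQ hn h _ hke hkf (permutes_trans_conj Q hperm k)
  obtain ⟨g', hsemi, hind⟩ := induced_of_gamma Q hQ _ σ μ γ hμ0 hadd hsmul hform hInd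
  refine ⟨(k.1.1)⁻¹ * g', σ, ?_, ?_⟩
  · obtain ⟨c, hc⟩ := hsemi
    refine ⟨c, fun v => ?_⟩
    rw [Units.val_mul, ← Matrix.mulVec_mulVec]
    have hk : (k.1⁻¹ : ↥(Cfsg.isometryGroup F ⇑Q)).1 ∈ Cfsg.isometryGroup F ⇑Q :=
      (k.1⁻¹ : ↥(Cfsg.isometryGroup F ⇑Q)).2
    have h1 := hk ((g' : Matrix ι ι F) *ᵥ fun i => σ (v i))
      ((g' : Matrix ι ι F) *ᵥ fun i => σ (v i))
    rw [← hc v]
    exact h1
  · intro s s' hss'
    have h1 := hind s (k * s' * k⁻¹) (by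
      show (k.1.1 * s'.1.1 * (k.1.1)⁻¹ : GL ι F).1 = _
      rw [Units.val_mul, Units.val_mul, hss']
      exact conj_matrix_aux k.1.1 g' _)
    have h2 : (β.trans (MulAut.conj (QuotientGroup.mk k : Cfsg.POmega F ⇑Q)))
        (QuotientGroup.mk s) =
        (QuotientGroup.mk k : Cfsg.POmega F ⇑Q) * β (QuotientGroup.mk s) *
          (QuotientGroup.mk k)⁻¹ := rfl
    rw [h2, QuotientGroup.mk_mul, QuotientGroup.mk_mul, QuotientGroup.mk_inv] at h1
    exact mul_left_cancel (mul_right_cancel h1)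

end single

section presA1

variable {ι : Type} [Fintype ι] [DecidableEq ι] {F : Type*} [Field F] [Fintype F]
  (Q : QuadraticForm F (ι → F))

/-- lines meeting in a point and not perpendicular -/
def A1 (L K : Submodule F (ι → F)) : Prop := L ⊓ K ≠ ⊥ ∧ ¬ L ≤ MaxTS.perp Q K

/-- the automorphism preserves the relation `A1` on root subgroups -/
def PresA1 (β : Cfsg.POmega F ⇑Q ≃* Cfsg.POmega F ⇑Q) : Prop :=
  ∀ L K L' K' : Submodule F (ι → F), IsLine Q L → IsLine Q K → IsLine Q L' → IsLine Q K' →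
    mp β (XB Q L) = XB Q L' → mp β (XB Q K) = XB Q K' → (A1 Q L K ↔ A1 Q L' K')

variable (hQ : (polarBilin Q).Nondegenerate) (hn : 7 ≤ Fintype.card ι)

include hQ hn in
theorem exists_image_line (p : ℕ) [Fact p.Prime] [CharP F p]
    (β : Cfsg.POmega F ⇑Q ≃* Cfsg.POmega F ⇑Q) {L : Submodule F (ι → F)}
    (hL : IsLine Q L) : ∃ L', IsLine Q L' ∧ mp β (XB Q L) = XB Q L' := by
  have h1 : XB Q L ∈ rootSub p (Cfsg.POmega F ⇑Q) := by
    rw [rootSub_pomega Q p hQ hn]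
    exact ⟨L, hL, rfl⟩
  have h2 := rootSub_autInv (G := Cfsg.POmega F ⇑Q) p β _ h1
  rw [rootSub_pomega Q p hQ hn] at h2
  exact h2

include hQ hn in
theorem meet_cases (p : ℕ) [Fact p.Prime] [CharP F p] {L K : Submodule F (ι → F)} (hL : IsLine Q L) (hK : IsLine Q K) :
    L ⊓ K ≠ ⊥ ↔ (L = K ∨ Adj (rootSub p (Cfsg.POmega F ⇑Q)) (XB Q L) (XB Q K) ∨ A1 Q L K) := by
  constructor
  · intro hm
    by_cases hp : L ≤ MaxTS.perp Q K
    · by_cases hLK : L = K
      · exact Or.inl hLK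
      · exact Or.inr (Or.inl ((Adj_XB_iff Q p hQ hn hL hK).2 ⟨hLK, hm, hp⟩))
    · exact Or.inr (Or.inr ⟨hm, hp⟩)
  · rintro (h | h | h)
    · rw [h, inf_idem]
      exact hK.ne_bot Q
    · exact ((Adj_XB_iff Q p hQ hn hL hK).1 h).2.1
    · exact h.1

include hQ hn in
theorem meet_iff_of_presA1 (p : ℕ) [Fact p.Prime] [CharP F p] {β : Cfsg.POmega F ⇑Q ≃* Cfsg.POmega F ⇑Q} (hβ : PresA1 Q β)
    {L K L' K' : Submodule F (ι → F)} (hL : IsLine Q L) (hK : IsLine Q K) (hL' : IsLine Q L')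
    (hK' : IsLine Q K') (eL : mp β (XB Q L) = XB Q L') (eK : mp β (XB Q K) = XB Q K') :
    L ⊓ K ≠ ⊥ ↔ L' ⊓ K' ≠ ⊥ := by
  rw [meet_cases Q hQ hn p hL hK, meet_cases Q hQ hn p hL' hK', ← eL, ← eK,
    Adj_mp_iff (rootSub_autInv p), hβ L K L' K' hL hK hL' hK' eL eK]
  constructor
  · rintro (h | h | h)
    · left
      apply XB_injective Q p hQ hn hL' hK'
      rw [← eL, ← eK, h]
    · exact Or.inr (Or.inl h)
    · exact Or.inr (Or.inr h)
  · rintro (h | h | h)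
    · left
      apply XB_injective Q p hQ hn hL hK
      apply mp_injective β
      rw [eL, eK, h]
    · exact Or.inr (Or.inl h)
    · exact Or.inr (Or.inr h)

include hQ hn in
/-- an automorphism preserving `A1` permutes the groups `R̄_u` -/
theorem RB_map_of_presA1 (p : ℕ) [Fact p.Prime] [CharP F p] {β : Cfsg.POmega F ⇑Q ≃* Cfsg.POmega F ⇑Q} (hβ : PresA1 Q β)
    (u : ι → F) (hu0 : u ≠ 0) (hu : Q u = 0) :
    ∃ (u' : ι → F) (hu' : Q u' = 0), u' ≠ 0 ∧
      (RB Q u hu).map β.toMonoidHom = RB Q u' hu' := by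
  obtain ⟨v, w, hv, hw, hvw⟩ := exists_nonperp_lines Q hQ hn hu0 hu
  have hL := hv.isLine Q
  have hK := hw.isLine Q
  have huL : u ∈ Submodule.span F ({u, v} : Set (ι → F)) := Submodule.subset_span (by simp)
  have huK : u ∈ Submodule.span F ({u, w} : Set (ι → F)) := Submodule.subset_span (by simp)
  have hA : A1 Q (Submodule.span F ({u, v} : Set (ι → F)))
      (Submodule.span F ({u, w} : Set (ι → F))) := by
    refine ⟨fun h0 => ?_, fun h => hvw ((perp_iff_of_common Q hv hw).1 h)⟩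
    have : u ∈ Submodule.span F ({u, v} : Set (ι → F)) ⊓
        Submodule.span F ({u, w} : Set (ι → F)) := ⟨huL, huK⟩
    rw [h0, Submodule.mem_bot] at this
    exact hu0 this
  obtain ⟨L', hL', eL⟩ := exists_image_line Q hQ hn p β hL
  obtain ⟨K', hK', eK⟩ := exists_image_line Q hQ hn p β hK
  have hA' : A1 Q L' K' := (hβ _ _ L' K' hL hK hL' hK' eL eK).1 hA
  obtain ⟨a, v', w', hv', hw', rfl, rfl⟩ := exists_common_basis Q hL' hK' hA'.1
  have hvw' : polar Q v' w' ≠ 0 := fun h => hA'.2 ((perp_iff_of_common Q hv' hw').2 h)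
  have ha0 := hv'.ne_zero_left Q
  have haL : a ∈ Submodule.span F ({a, v'} : Set (ι → F)) := Submodule.subset_span (by simp)
  have haK : a ∈ Submodule.span F ({a, w'} : Set (ι → F)) := Submodule.subset_span (by simp)
  refine ⟨a, hv'.hu, ha0, ?_⟩
  unfold RB
  rw [RU_eq_closure Q hQ hn hu0 hu, RU_eq_closure Q hQ hn ha0 hv'.hu, MonoidHom.map_closure,
    MonoidHom.map_closure, MonoidHom.map_closure]
  congr 1
  ext g
  constructor
  · rintro ⟨_, ⟨g₀, ⟨J, hJ, huJ, hg₀⟩, rfl⟩, rfl⟩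
    obtain ⟨J', hJ', eJ⟩ := exists_image_line Q hQ hn p β hJ
    have hm1 : J ⊓ Submodule.span F ({u, v} : Set (ι → F)) ≠ ⊥ := by
      intro h0
      have : u ∈ J ⊓ Submodule.span F ({u, v} : Set (ι → F)) := ⟨huJ, huL⟩
      rw [h0, Submodule.mem_bot] at this
      exact hu0 this
    have hm2 : J ⊓ Submodule.span F ({u, w} : Set (ι → F)) ≠ ⊥ := by
      intro h0
      have : u ∈ J ⊓ Submodule.span F ({u, w} : Set (ι → F)) := ⟨huJ, huK⟩
      rw [h0, Submodule.mem_bot] at this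
      exact hu0 this
    have hm1' := (meet_iff_of_presA1 Q hQ hn p hβ hJ hL hJ' hL' eJ eL).1 hm1
    have hm2' := (meet_iff_of_presA1 Q hQ hn p hβ hJ hK hJ' hK' eJ eK).1 hm2
    have ha : a ∈ J' := mem_of_meets_both Q hv' hw' hvw' hJ' hm1' hm2'
    have h3 : β (prZ ↥(Cfsg.Omega F ⇑Q) g₀) ∈ XB Q J' := by
      rw [← eJ]
      exact apply_mem_mp.2 (Subgroup.mem_map_of_mem _ hg₀)
    obtain ⟨g₁, hg₁, e⟩ := h3
    exact ⟨g₁, ⟨J', hJ', ha, hg₁⟩, e⟩
  · rintro ⟨g₁, ⟨J', hJ', haJ', hg₁⟩, rfl⟩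
    obtain ⟨J, hJ, eJ⟩ := exists_image_line Q hQ hn p β.symm hJ'
    have eJ' : mp β (XB Q J) = XB Q J' := by rw [← eJ, mp_mp_symm]
    have hm1' : J' ⊓ Submodule.span F ({a, v'} : Set (ι → F)) ≠ ⊥ := by
      intro h0
      have : a ∈ J' ⊓ Submodule.span F ({a, v'} : Set (ι → F)) := ⟨haJ', haL⟩
      rw [h0, Submodule.mem_bot] at this
      exact ha0 this
    have hm2' : J' ⊓ Submodule.span F ({a, w'} : Set (ι → F)) ≠ ⊥ := by
      intro h0
      have : a ∈ J' ⊓ Submodule.span F ({a, w'} : Set (ι → F)) := ⟨haJ', haK⟩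
      rw [h0, Submodule.mem_bot] at this
      exact ha0 this
    have hm1 := (meet_iff_of_presA1 Q hQ hn p hβ hJ hL hJ' hL' eJ' eL).2 hm1'
    have hm2 := (meet_iff_of_presA1 Q hQ hn p hβ hJ hK hJ' hK' eJ' eK).2 hm2'
    have huJ : u ∈ J := mem_of_meets_both Q hv hw hvw hJ hm1 hm2
    have h3 : β.symm (prZ ↥(Cfsg.Omega F ⇑Q) g₁) ∈ XB Q J := by
      rw [← eJ]
      exact apply_mem_mp.2 (Subgroup.mem_map_of_mem _ hg₁)
    obtain ⟨g₀, hg₀, e⟩ := h3
    refine ⟨prZ ↥(Cfsg.Omega F ⇑Q) g₀, ⟨g₀, ⟨J, hJ, huJ, hg₀⟩, rfl⟩, ?_⟩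
    rw [e]
    exact β.apply_symm_apply _

include hQ hn in
/-- an automorphism preserving `A1` lies in the image of `PΓO` -/
theorem mem_gamma_of_presA1 (p : ℕ) [Fact p.Prime] [CharP F p] {β : Cfsg.POmega F ⇑Q ≃* Cfsg.POmega F ⇑Q} (hβ : PresA1 Q β) :
    β ∈ Cfsg.gammaPOmega F ⇑Q := by
  apply Cfsg.Agent.Lib.Helper25.AutPlus.mem_gamma_of_pair
  apply aut_induced_single Q hQ hn β
  apply Cfsg.Agent.Lib.Helper18.OrthAut.permutes_of_AutO
  intro u hu0 hu
  obtain ⟨u', hu', hu0', h⟩ := RB_map_of_presA1 Q hQ hn p hβ u hu0 hu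
  exact ⟨u', hu0', hu', h⟩

end presA1

end Cfsg.Agent.Lib.Helper25.Tri
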