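import Cfsg.Agent.Lib.Helper25.Tri1

set_option autoImplicit false
set_option linter.unusedSectionVars false
set_option linter.unusedVariables false
set_option linter.unusedSimpArgs false

/-!
# Triality, part 2: stabilisers of a standard pair of root subgroups; automorphisms induced by
semisimilarities act on the root subgroups through the lines
-/

namespace Cfsg.Agent.Lib.Helper25.Tri

open Module QuadraticMap Matrix Cfsg.Agent.Lib.Helper25.CD Cfsg.Agent.Lib.Helper25.Siegel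
  Cfsg.Agent.Lib.Helper25.PS Cfsg.Agent.Lib.Helper25.PAut Cfsg.Agent.Lib.Helper15
  Cfsg.Agent.Lib.Helper25.AutO Cfsg.Agent.Lib.Helper25.GraphSplit
  Cfsg.Agent.Lib.Helper25.MaxTS

section abstract

variable {G : Type*} [Group G]

theorem mp_mul (β γ : MulAut G) (X : Subgroup G) : mp (β * γ) X = mp β (mp γ X) := by
  ext x
  rw [mem_mp, mem_mp, mem_mp]
  rfl

theorem mp_one (X : Subgroup G) : mp (1 : MulAut G) X = X := by
  ext x
  rw [mem_mp]
  rfl

theorem mp_inv_mp (β : MulAut G) (X : Subgroup G) : mp β⁻¹ (mp β X) = X := by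
  rw [← mp_mul, inv_mul_cancel, mp_one]

theorem mp_mp_inv (β : MulAut G) (X : Subgroup G) : mp β (mp β⁻¹ X) = X := by
  rw [← mp_mul, mul_inv_cancel, mp_one]

theorem mp_conj_comm (γ : MulAut G) (x : G) (X : Subgroup G) :
    mp γ (mp (MulAut.conj x) X) = mp (MulAut.conj (γ x)) (mp γ X) := by
  rw [← mp_mul, ← mp_mul]
  congr 1
  ext y
  simp [MulAut.conj_apply]

end abstract

section lines

variable {ι : Type} [Fintype ι] [DecidableEq ι] {F : Type*} [Field F] [Fintype F]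
  (Q : QuadraticForm F (ι → F))

/-- the action of `Ω` on subspaces -/
noncomputable abbrev mapL (g : ↥(Cfsg.Omega F ⇑Q)) (L : Submodule F (ι → F)) :
    Submodule F (ι → F) :=
  L.map ((act Q g : (ι → F) ≃ₗ[F] (ι → F)) : (ι → F) →ₗ[F] (ι → F))

theorem mapL_span_pair (g : ↥(Cfsg.Omega F ⇑Q)) (u v : ι → F) :
    mapL Q g (Submodule.span F ({u, v} : Set (ι → F))) =
      Submodule.span F ({act Q g u, act Q g v} : Set (ι → F)) := by
  unfold mapL
  rw [Submodule.map_span, Set.image_pair]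
  rfl

theorem mapL_mapL (g h : ↥(Cfsg.Omega F ⇑Q)) (L : Submodule F (ι → F)) :
    mapL Q g (mapL Q h L) = mapL Q (g * h) L := by
  unfold mapL
  rw [← Submodule.map_comp]
  congr 1
  ext x
  simp [act_mul]

theorem mapL_one (L : Submodule F (ι → F)) : mapL Q 1 L = L := by
  unfold mapL
  have : ((act Q 1 : (ι → F) ≃ₗ[F] (ι → F)) : (ι → F) →ₗ[F] (ι → F)) = LinearMap.id := by
    ext x
    simp [act_one]
  rw [this, Submodule.map_id]

theorem mapL_inv_mapL (g : ↥(Cfsg.Omega F ⇑Q)) (L : Submodule F (ι → F)) :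
    mapL Q g⁻¹ (mapL Q g L) = L := by
  rw [mapL_mapL, inv_mul_cancel, mapL_one]

theorem isLine_mapL (g : ↥(Cfsg.Omega F ⇑Q)) {L : Submodule F (ι → F)} (hL : IsLine Q L) :
    IsLine Q (mapL Q g L) := by
  obtain ⟨u, v, h, rfl⟩ := hL
  rw [mapL_span_pair]
  exact (h.map Q (act Q g) (Q_act Q g)).isLine Q

theorem XB_conj (g : ↥(Cfsg.Omega F ⇑Q)) {L : Submodule F (ι → F)} (hL : IsLine Q L) :
    mp (MulAut.conj (prZ ↥(Cfsg.Omega F ⇑Q) g)) (XB Q L) = XB Q (mapL Q g L) := by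
  have h := XS_conj Q g hL
  show ((XS Q L).map (prZ ↥(Cfsg.Omega F ⇑Q))).map
    (MulAut.conj (prZ ↥(Cfsg.Omega F ⇑Q) g)).toMonoidHom = (XS Q (mapL Q g L)).map _
  rw [← h]
  show _ = ((XS Q L).map (MulAut.conj g).toMonoidHom).map _
  rw [Subgroup.map_map, Subgroup.map_map]
  congr 1

theorem A1_mapL (g : ↥(Cfsg.Omega F ⇑Q)) {L K : Submodule F (ι → F)} (h : A1 Q L K) :
    A1 Q (mapL Q g L) (mapL Q g K) := by
  obtain ⟨h1, h2⟩ := h
  constructor
  · obtain ⟨a, ha, ha0⟩ := (Submodule.ne_bot_iff _).1 h1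
    intro h0
    have : act Q g a ∈ mapL Q g L ⊓ mapL Q g K :=
      ⟨Submodule.mem_map_of_mem ha.1, Submodule.mem_map_of_mem ha.2⟩
    rw [h0, Submodule.mem_bot] at this
    apply ha0
    have h3 := congrArg (act Q g⁻¹) this
    rwa [act_inv_act, map_zero] at h3
  · intro hp
    apply h2
    intro x hx
    rw [MaxTS.mem_perp]
    intro y hy
    have h3 := MaxTS.mem_perp.1 (hp (Submodule.mem_map_of_mem (f := ((act Q g :
      (ι → F) ≃ₗ[F] (ι → F)) : (ι → F) →ₗ[F] (ι → F))) hx)) (act Q g y)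
      (Submodule.mem_map_of_mem hy)
    have h4 : polar Q (act Q g y) (act Q g x) = polar Q y x := polar_act Q g y x
    rw [← h4]
    exact h3

end lines

section stab

variable {ι : Type} [Fintype ι] [DecidableEq ι] {F : Type*} [Field F] [Fintype F]
  (Q : QuadraticForm F (ι → F)) (hQ : (polarBilin Q).Nondegenerate) (hn : 7 ≤ Fintype.card ι)

/-- `Ω` is transitive on the pairs of lines in relation `A1` -/
def Trans1 (L1 L2 : Submodule F (ι → F)) : Prop :=
  ∀ L K : Submodule F (ι → F), IsLine Q L → IsLine Q K → A1 Q L K →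
    ∃ g : ↥(Cfsg.Omega F ⇑Q), L = mapL Q g L1 ∧ K = mapL Q g L2

include hQ hn in
theorem presA1_half (p : ℕ) [Fact p.Prime] [CharP F p] {L1 L2 : Submodule F (ι → F)}
    (hL1 : IsLine Q L1) (hL2 : IsLine Q L2) (hA12 : A1 Q L1 L2) (hT : Trans1 Q L1 L2)
    {γ : MulAut (Cfsg.POmega F ⇑Q)} (h1 : mp γ (XB Q L1) = XB Q L1)
    (h2 : mp γ (XB Q L2) = XB Q L2) {L K L' K' : Submodule F (ι → F)} (hL : IsLine Q L)
    (hK : IsLine Q K) (hL' : IsLine Q L') (hK' : IsLine Q K') (eL : mp γ (XB Q L) = XB Q L')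
    (eK : mp γ (XB Q K) = XB Q K') (hA : A1 Q L K) : A1 Q L' K' := by
  obtain ⟨g, rfl, rfl⟩ := hT L K hL hK hA
  obtain ⟨g', hg'⟩ := prZ_surjective (G := ↥(Cfsg.Omega F ⇑Q)) (γ (prZ ↥(Cfsg.Omega F ⇑Q) g))
  have e1 : XB Q L' = XB Q (mapL Q g' L1) := by
    rw [← eL, ← XB_conj Q g hL1, mp_conj_comm, h1, ← hg', XB_conj Q g' hL1]
  have e2 : XB Q K' = XB Q (mapL Q g' L2) := by
    rw [← eK, ← XB_conj Q g hL2, mp_conj_comm, h2, ← hg', XB_conj Q g' hL2]
  rw [XB_injective Q p hQ hn hL' (isLine_mapL Q g' hL1) e1,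
    XB_injective Q p hQ hn hK' (isLine_mapL Q g' hL2) e2]
  exact A1_mapL Q g' hA12

include hQ hn in
/-- an automorphism fixing a standard pair of root subgroups preserves the relation `A1` -/
theorem presA1_of_fix (p : ℕ) [Fact p.Prime] [CharP F p] {L1 L2 : Submodule F (ι → F)}
    (hL1 : IsLine Q L1) (hL2 : IsLine Q L2) (hA12 : A1 Q L1 L2) (hT : Trans1 Q L1 L2)
    {γ : MulAut (Cfsg.POmega F ⇑Q)} (h1 : mp γ (XB Q L1) = XB Q L1)
    (h2 : mp γ (XB Q L2) = XB Q L2) : PresA1 Q γ := by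
  intro L K L' K' hL hK hL' hK' eL eK
  constructor
  · exact presA1_half Q hQ hn p hL1 hL2 hA12 hT h1 h2 hL hK hL' hK' eL eK
  · have h1' : mp γ⁻¹ (XB Q L1) = XB Q L1 := by
      conv_lhs => rw [← h1]
      exact mp_inv_mp γ _
    have h2' : mp γ⁻¹ (XB Q L2) = XB Q L2 := by
      conv_lhs => rw [← h2]
      exact mp_inv_mp γ _
    have eL' : mp γ⁻¹ (XB Q L') = XB Q L := by
      rw [← eL]
      exact mp_inv_mp γ _
    have eK' : mp γ⁻¹ (XB Q K') = XB Q K := by
      rw [← eK]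
      exact mp_inv_mp γ _
    exact presA1_half Q hQ hn p hL1 hL2 hA12 hT h1' h2' hL' hK' hL hK eL' eK'

include hQ hn in
theorem mem_gamma_of_fix (p : ℕ) [Fact p.Prime] [CharP F p] {L1 L2 : Submodule F (ι → F)}
    (hL1 : IsLine Q L1) (hL2 : IsLine Q L2) (hA12 : A1 Q L1 L2) (hT : Trans1 Q L1 L2)
    {γ : MulAut (Cfsg.POmega F ⇑Q)} (h1 : mp γ (XB Q L1) = XB Q L1)
    (h2 : mp γ (XB Q L2) = XB Q L2) : γ ∈ Cfsg.gammaPOmega F ⇑Q :=
  mem_gamma_of_presA1 Q hQ hn p (presA1_of_fix Q hQ hn p hL1 hL2 hA12 hT h1 h2)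

end stab

section semi

variable {ι : Type} [Fintype ι] [DecidableEq ι] {F : Type*} [Field F] [Fintype F]
  (Q : QuadraticForm F (ι → F)) (hQ : (polarBilin Q).Nondegenerate) (hn : 7 ≤ Fintype.card ι)

include hQ hn in
theorem eq_of_XS_le {L K : Submodule F (ι → F)} (hL : IsLine Q L) (hK : IsLine Q K)
    (h : XS Q L ≤ XS Q K) : L = K := by
  apply hL.eq_of_le Q hK
  obtain ⟨u, v, huv, rfl⟩ := hL
  have hg : SG Q hQ hn huv 1 ∈ XS Q K := h (SG_mem Q hQ hn huv 1)
  rw [Submodule.span_le]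
  intro x hx
  rcases hx with rfl | rfl
  · obtain ⟨z, hz⟩ := siegF_image_left Q hQ huv (one_ne_zero (α := F))
    rw [← hz, ← act_SG Q hQ hn huv]
    exact act_sub_mem_of_mem_XS Q hK hg z
  · obtain ⟨z, hz⟩ := siegF_image_right Q hQ huv (one_ne_zero (α := F))
    rw [← hz, ← act_SG Q hQ hn huv]
    exact act_sub_mem_of_mem_XS Q hK hg z

variable {g : GL ι F} {σ : F ≃+* F} (hp : Cfsg.IsSemisimilarityPair (⇑Q) g σ)

theorem polar_semiMap {c : Fˣ} (hc : ∀ v, Q (semiMap g σ v) = (c : F) * σ (Q v)) (x y : ι → F) :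
    polar Q (semiMap g σ x) (semiMap g σ y) = (c : F) * σ (polar Q x y) := by
  unfold polar
  rw [← semiMap_add, hc, hc, hc, map_sub, map_sub]
  ring

theorem TSL_semiMap {c : Fˣ} (hc : ∀ v, Q (semiMap g σ v) = (c : F) * σ (Q v)) {u v : ι → F}
    (h : TSL Q u v) : TSL Q (semiMap g σ u) (semiMap g σ v) := by
  refine ⟨by rw [hc, h.hu, map_zero, mul_zero], by rw [hc, h.hv, map_zero, mul_zero],
    by rw [polar_semiMap Q hc, h.huv, map_zero, mul_zero], fun a b hab => ?_⟩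
  have h1 : semiMap g σ (σ.symm a • u + σ.symm b • v) = 0 := by
    rw [semiMap_add, semiMap_smul, semiMap_smul, RingEquiv.apply_symm_apply,
      RingEquiv.apply_symm_apply, hab]
  have h2 : σ.symm a • u + σ.symm b • v = 0 := by
    apply semiMap_injective g σ
    rw [h1, semiMap_zero]
  have h3 := h.ind _ _ h2
  constructor
  · have := congrArg σ h3.1
    rwa [RingEquiv.apply_symm_apply, map_zero] at this
  · have := congrArg σ h3.2
    rwa [RingEquiv.apply_symm_apply, map_zero] at this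

include hp in
/-- the automorphism of `Ω` induced by a semisimilarity maps `X_L` into `X_{γ L}` -/
theorem semiOmega_mem_XS {c : Fˣ} (hc : ∀ v, Q (semiMap g σ v) = (c : F) * σ (Q v))
    {u v : ι → F} (h : TSL Q u v) {s : ↥(Cfsg.Omega F ⇑Q)}
    (hs : s ∈ XS Q (Submodule.span F ({u, v} : Set (ι → F)))) :
    semiOmega (⇑Q) hp s ∈
      XS Q (Submodule.span F ({semiMap g σ u, semiMap g σ v} : Set (ι → F))) := by
  obtain ⟨t, ht⟩ := (mem_XS_span Q h).1 hs
  rw [mem_XS_span Q (TSL_semiMap Q hc h)]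
  refine ⟨σ t * (c : F)⁻¹, fun y => ?_⟩
  obtain ⟨w, rfl⟩ := semiMap_surjective g σ y
  have e1 : act Q (semiOmega (⇑Q) hp s) (semiMap g σ w) = semiMap g σ (act Q s w) := by
    show ((semiOmega (⇑Q) hp s).1.1 : Matrix ι ι F) *ᵥ semiMap g σ w = _
    rw [semiOmega_val]
    exact semiMap_conj g s.1.1 σ w
  rw [e1, ht]
  unfold siegF
  rw [semiMap_add, semiMap_smul, polar_semiMap Q hc, polar_semiMap Q hc]
  have e2 : semiMap g σ (polar Q u w • v - polar Q v w • u) =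
      σ (polar Q u w) • semiMap g σ v - σ (polar Q v w) • semiMap g σ u := by
    rw [sub_eq_add_neg, ← neg_smul, semiMap_add, semiMap_smul, semiMap_smul, map_neg, neg_smul,
      ← sub_eq_add_neg]
  rw [e2]
  have hc0 : (c : F) ≠ 0 := c.ne_zero
  congr 1
  rw [smul_sub, smul_sub, smul_smul, smul_smul, smul_smul, smul_smul]
  congr 2
  · field_simp
  · field_simp

include hQ hn hp in
/-- an automorphism induced by a semisimilarity `γ` maps `X̄_L` to `X̄_{γ L}` -/
theorem induced_XB (p : ℕ) [Fact p.Prime] [CharP F p] {c : Fˣ}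
    (hc : ∀ v, Q (semiMap g σ v) = (c : F) * σ (Q v))
    {β : Cfsg.POmega F ⇑Q ≃* Cfsg.POmega F ⇑Q}
    (hind : Cfsg.IsInducedBySemilinearPOmega (⇑Q) g σ β) {u v : ι → F} (h : TSL Q u v) :
    mp β (XB Q (Submodule.span F ({u, v} : Set (ι → F)))) =
      XB Q (Submodule.span F ({semiMap g σ u, semiMap g σ v} : Set (ι → F))) := by
  have hle : mp β (XB Q (Submodule.span F ({u, v} : Set (ι → F)))) ≤
      XB Q (Submodule.span F ({semiMap g σ u, semiMap g σ v} : Set (ι → F))) := by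
    rintro _ ⟨_, ⟨s, hs, rfl⟩, rfl⟩
    show β (QuotientGroup.mk s) ∈ _
    rw [induced_mk (⇑Q) hp hind s]
    exact Subgroup.mem_map_of_mem _ (semiOmega_mem_XS Q hp hc h hs)
  obtain ⟨L', hL', eL⟩ := exists_image_line Q hQ hn p β (h.isLine Q)
  rw [eL] at hle ⊢
  have h' := (TSL_semiMap Q hc h).isLine Q
  rw [eq_of_XS_le Q hQ hn hL' h' (XS_le_of_XB_le Q p hQ hn hL' h' hle)]

end semi

end Cfsg.Agent.Lib.Helper25.Tri
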