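import Cfsg.Agent.Lib.Helper25.Tri2
import Cfsg.Agent.Lib.Helper25.D4E

set_option autoImplicit false
set_option linter.unusedSectionVars false
set_option linter.unusedVariables false
set_option linter.unusedSimpArgs false

/-!
# Triality, part 3: `Ω₈⁺(F)` on pairs of totally singular lines (vector computations)
-/

namespace Cfsg.Agent.Lib.Helper25.Tri

open Module QuadraticMap Matrix Cfsg.Agent.Lib.Helper25.CD Cfsg.Agent.Lib.Helper25.Siegel
  Cfsg.Agent.Lib.Helper25.AutO Cfsg.Agent.Lib.Helper25.Spin Cfsg.Agent.Lib.Helper25.D4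

section vectors

variable {F : Type*} [Field F]

theorem polar_Qp (x y : I8 → F) : polar (Qp 4 F) x y = bil x y := by
  unfold polar
  have e : ∀ z, Qp 4 F z = Q8 F z := fun z => rfl
  rw [e, e, e, Q8_add]
  ring

theorem Qp_eq (x : I8 → F) : Qp 4 F x = Q8 F x := rfl

theorem Q8_sub_smul_ev (x : I8 → F) (t : F) (c : I8) :
    Q8 F (x - t • ev c) = Q8 F x - t * x (op c) := by
  have h : x - t • ev c = x + (-t) • (ev c : I8 → F) := by rw [neg_smul, sub_eq_add_neg]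
  rw [h, Q8_add, Q8_ev, bil_smul_right, bil_ev_right]
  ring

theorem bil_sub_smul_ev_left (x y : I8 → F) (t : F) (c : I8) :
    bil (x - t • ev c) y = bil x y - t * y (op c) := by
  rw [bil_comm, bil_sub_right, bil_smul_right, bil_ev_right, bil_comm]

theorem ev_apply (c d : I8) : (ev c : I8 → F) d = if d = c then 1 else 0 := by
  simp [Pi.single_apply]

theorem lev_lt_one {c : I8} (h : lev c < 1) : c = Sum.inl 0 ∨ c = Sum.inr 0 := by
  rcases c with i | i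
  · left
    congr 1
    apply Fin.ext
    have : i.val < 1 := h
    simp only [Fin.val_zero]
    omega
  · right
    congr 1
    apply Fin.ext
    have : i.val < 1 := h
    simp only [Fin.val_zero]
    omega

/-- a totally singular line can be moved to `⟨e₀, e₁⟩` -/
theorem T0v {a v : I8 → F} (ha0 : a ≠ 0) (hQa : Q8 F a = 0) (hQv : Q8 F v = 0)
    (hav : bil a v = 0) (hind : ∀ c : F, v ≠ c • a) :
    ∃ h ∈ E0 F, ∃ c : F, h.val *ᵥ a = ev (Sum.inl 0) ∧
      h.val *ᵥ v = ev (Sum.inl 1) + c • ev (Sum.inl 0) := by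
  obtain ⟨h0, hh0, e0⟩ := vec_to_ev 0 (by omega) (Sum.inl 0) rfl a ha0 hQa
    (fun c hc => absurd hc (Nat.not_lt_zero _))
  have hO0 : h0 ∈ O8 F := EF_le_O8 0 hh0
  obtain ⟨v1, hv1⟩ : ∃ v1, v1 = h0.val *ᵥ v := ⟨_, rfl⟩
  have h1 : v1 (Sum.inr 0) = 0 := by
    have := bil_of_O8 hO0 v a
    rw [e0, bil_ev_right, ← hv1, bil_comm, hav] at this
    exact this
  have hQv1 : Q8 F v1 = 0 := by rw [hv1, (mem_O8_iff h0).1 hO0, hQv]
  obtain ⟨x, hx⟩ : ∃ x, x = v1 - v1 (Sum.inl 0) • (ev (Sum.inl 0) : I8 → F) := ⟨_, rfl⟩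
  have hx_low : ∀ c, lev c < 1 → x c = 0 := by
    intro c hc
    rcases lev_lt_one hc with rfl | rfl
    · rw [hx]; simp
    · rw [hx]; simp [h1]
  have hQx : Q8 F x = 0 := by
    rw [hx, Q8_sub_smul_ev, hQv1]
    show 0 - _ * v1 (Sum.inr 0) = 0
    rw [h1]; ring
  have hx0 : x ≠ 0 := by
    intro h0x
    have e1 : v1 = v1 (Sum.inl 0) • (ev (Sum.inl 0) : I8 → F) := by
      rw [hx, sub_eq_zero] at h0x
      exact h0x
    apply hind (v1 (Sum.inl 0))
    have e2 : h0.val *ᵥ v = h0.val *ᵥ (v1 (Sum.inl 0) • a) := by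
      rw [Matrix.mulVec_smul, e0, ← hv1]
      exact e1
    have := congrArg (fun z => (h0⁻¹).val *ᵥ z) e2
    simp only [Matrix.mulVec_mulVec, ← Units.val_mul, inv_mul_cancel, Units.val_one,
      Matrix.one_mulVec] at this
    exact this
  obtain ⟨h1', hh1, e1⟩ := vec_to_ev 1 (by omega) (Sum.inl 1) rfl x hx0 hQx hx_low
  have hfix : h1'.val *ᵥ (ev (Sum.inl 0) : I8 → F) = ev (Sum.inl 0) :=
    hh1.2 (Sum.inl 0) (by show (0 : ℕ) < 1; omega)
  refine ⟨h1' * h0, mul_mem hh1.1 hh0.1, v1 (Sum.inl 0), ?_, ?_⟩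
  · rw [val_mul_mulVec, e0, hfix]
  · rw [val_mul_mulVec, ← hv1]
    have e2 : v1 = x + v1 (Sum.inl 0) • (ev (Sum.inl 0) : I8 → F) := by rw [hx]; abel
    conv_lhs => rw [e2]
    rw [Matrix.mulVec_add, Matrix.mulVec_smul, e1, hfix]

/-- two lines meeting in a point and not perpendicular can be moved to `⟨e₀, e₁⟩`, `⟨e₀, f₁⟩` -/
theorem F1v {a v w : I8 → F} (ha0 : a ≠ 0) (hQa : Q8 F a = 0) (hQv : Q8 F v = 0)
    (hQw : Q8 F w = 0) (hav : bil a v = 0) (haw : bil a w = 0) (hvw : bil v w ≠ 0) :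
    ∃ h ∈ E0 F, ∃ c d k : F, k ≠ 0 ∧ h.val *ᵥ a = ev (Sum.inl 0) ∧
      h.val *ᵥ v = ev (Sum.inl 1) + c • ev (Sum.inl 0) ∧
      h.val *ᵥ w = k • ev (Sum.inr 1) + d • ev (Sum.inl 0) := by
  have hind : ∀ c : F, v ≠ c • a := by
    intro c hc
    apply hvw
    rw [hc, bil_smul_left, haw, mul_zero]
  obtain ⟨h, hh, c, ea, ev'⟩ := T0v ha0 hQa hQv hav hind
  have hO : h ∈ O8 F := E0_le_O8 hh
  obtain ⟨w2, hw2⟩ : ∃ w2, w2 = h.val *ᵥ w := ⟨_, rfl⟩
  have hQw2 : Q8 F w2 = 0 := by rw [hw2, (mem_O8_iff h).1 hO, hQw]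
  have h1 : w2 (Sum.inr 0) = 0 := by
    have := bil_of_O8 hO w a
    rw [ea, bil_ev_right, ← hw2, bil_comm, haw] at this
    exact this
  have h2 : w2 (Sum.inr 1) = bil v w := by
    have := bil_of_O8 hO w v
    rw [ev', bil_add_right, bil_smul_right, bil_ev_right, bil_ev_right, ← hw2] at this
    have e1 : w2 (op (Sum.inl 0)) = w2 (Sum.inr 0) := rfl
    have e2 : w2 (op (Sum.inl 1)) = w2 (Sum.inr 1) := rfl
    rw [e1, e2, h1, mul_zero, add_zero, bil_comm w v] at this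
    exact this
  obtain ⟨k, hk⟩ : ∃ k, k = bil v w := ⟨_, rfl⟩
  rw [← hk] at h2 hvw
  obtain ⟨y, hy⟩ : ∃ y, y = k⁻¹ • (w2 - w2 (Sum.inl 0) • (ev (Sum.inl 0) : I8 → F)) := ⟨_, rfl⟩
  have hy1 : y (Sum.inr 1) = 1 := by
    rw [hy]
    simp [h2, hvw]
  have hylow : ∀ c, lev c < 1 → y c = 0 := by
    intro c hc
    rcases lev_lt_one hc with rfl | rfl
    · rw [hy]; simp
    · rw [hy]; simp [h1]
  have hQy : Q8 F y = 0 := by
    rw [hy, Q8_smul, Q8_sub_smul_ev, hQw2]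
    show _ * (0 - _ * w2 (Sum.inr 0)) = 0
    rw [h1]; ring
  obtain ⟨h3, hh3, e3, e4⟩ := elim_final 1 (Sum.inr 1) rfl y hy1 hQy hylow
  have e3' : h3.val *ᵥ (ev (Sum.inl 1) : I8 → F) = ev (Sum.inl 1) := e3
  have hfix : h3.val *ᵥ (ev (Sum.inl 0) : I8 → F) = ev (Sum.inl 0) :=
    hh3.2 (Sum.inl 0) (by show (0 : ℕ) < 1; omega)
  refine ⟨h3 * h, mul_mem hh3.1 hh, c, w2 (Sum.inl 0), k, hvw, ?_, ?_, ?_⟩
  · rw [val_mul_mulVec, ea, hfix]
  · rw [val_mul_mulVec, ev', Matrix.mulVec_add, Matrix.mulVec_smul, e3', hfix]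
  · rw [val_mul_mulVec, ← hw2]
    have e5 : w2 = k • y + w2 (Sum.inl 0) • (ev (Sum.inl 0) : I8 → F) := by
      rw [hy, smul_smul, mul_inv_cancel₀ hvw, one_smul]; abel
    conv_lhs => rw [e5]
    rw [Matrix.mulVec_add, Matrix.mulVec_smul, Matrix.mulVec_smul, e4, hfix]


theorem I8_cases (c : I8) : c = Sum.inl 0 ∨ c = Sum.inr 0 ∨ c = Sum.inl 1 ∨ c = Sum.inr 1 ∨
    c = Sum.inl 2 ∨ c = Sum.inr 2 ∨ c = Sum.inl 3 ∨ c = Sum.inr 3 := by
  revert c; decide

theorem lev_lt_two {c : I8} (h : lev c < 2) :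
    c = Sum.inl 0 ∨ c = Sum.inr 0 ∨ c = Sum.inl 1 ∨ c = Sum.inr 1 := by
  revert c; decide

theorem lev_ge_two {c : I8} (h : 2 ≤ lev c) :
    c = Sum.inl 2 ∨ c = Sum.inr 2 ∨ c = Sum.inl 3 ∨ c = Sum.inr 3 := by
  revert c; decide

theorem Eab_low (a d : I8) (hne : a ≠ op (op d)) (t : F) (y : I8 → F) (hy : y (op a) = 0) :
    (Eab a (op d) hne t).val *ᵥ y = y + (t * y d) • (ev a : I8 → F) := by
  rw [Eab_mulVec, op_op, hy, zero_smul, sub_zero, smul_smul]

/-- clearing the `e₀, e₁` coordinates of a vector perpendicular to `e₀, e₁`, with pivot `d` -/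
theorem clear2 (d : I8) (hd : 2 ≤ lev d) (x : I8 → F) (hx0 : x (Sum.inr 0) = 0)
    (hx1 : x (Sum.inr 1) = 0) (hxd : x d ≠ 0) :
    ∃ h ∈ E0 F, h.val *ᵥ x =
        x - x (Sum.inl 0) • (ev (Sum.inl 0) : I8 → F) - x (Sum.inl 1) • (ev (Sum.inl 1) : I8 → F) ∧
      ∀ y : I8 → F, y d = 0 → y (Sum.inr 0) = 0 → y (Sum.inr 1) = 0 → h.val *ᵥ y = y := by
  have hd0 : (Sum.inl 0 : I8) ≠ d := by
    intro h; rw [← h] at hd; exact absurd hd (by decide)
  have hd1 : (Sum.inl 1 : I8) ≠ d := by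
    intro h; rw [← h] at hd; exact absurd hd (by decide)
  have hne0 : (Sum.inl 0 : I8) ≠ op (op d) := by rw [op_op]; exact hd0
  have hne1 : (Sum.inl 1 : I8) ≠ op (op d) := by rw [op_op]; exact hd1
  refine ⟨Eab (Sum.inl 0) (op d) hne0 (-x (Sum.inl 0) / x d) *
    Eab (Sum.inl 1) (op d) hne1 (-x (Sum.inl 1) / x d),
    mul_mem (Eab_mem_E0 _ _ _ _) (Eab_mem_E0 _ _ _ _), ?_, ?_⟩
  · rw [val_mul_mulVec, Eab_low _ _ _ _ _ (show x (op (Sum.inl 1)) = 0 from hx1)]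
    have e1 : -x (Sum.inl 1) / x d * x d = -x (Sum.inl 1) := by field_simp
    rw [e1]
    have h2 : (x + (-x (Sum.inl 1)) • (ev (Sum.inl 1) : I8 → F)) (op (Sum.inl 0)) = 0 := by
      show (x + (-x (Sum.inl 1)) • (ev (Sum.inl 1) : I8 → F)) (Sum.inr 0) = 0
      simp [hx0]
    rw [Eab_low _ _ _ _ _ h2]
    have h3 : (x + (-x (Sum.inl 1)) • (ev (Sum.inl 1) : I8 → F)) d = x d := by
      simp [Pi.single_apply, hd1.symm]
    rw [h3]
    have e0 : -x (Sum.inl 0) / x d * x d = -x (Sum.inl 0) := by field_simp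
    rw [e0, neg_smul, neg_smul]
    abel
  · intro y hyd hy0 hy1
    rw [val_mul_mulVec, Eab_low _ _ _ _ _ (show y (op (Sum.inl 1)) = 0 from hy1), hyd, mul_zero,
      zero_smul, add_zero, Eab_low _ _ _ _ _ (show y (op (Sum.inl 0)) = 0 from hy0), hyd, mul_zero,
      zero_smul, add_zero]

theorem Q8_four (z : I8 → F) : Q8 F z = z (Sum.inl 0) * z (Sum.inr 0) + z (Sum.inl 1) * z (Sum.inr 1) +
    z (Sum.inl 2) * z (Sum.inr 2) + z (Sum.inl 3) * z (Sum.inr 3) := by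
  rw [Q8_def, Fin.sum_univ_four]

theorem mulVec_inv_cancel (g : GL I8 F) (x : I8 → F) : (g⁻¹).val *ᵥ (g.val *ᵥ x) = x := by
  rw [Matrix.mulVec_mulVec, ← Units.val_mul, inv_mul_cancel, Units.val_one, Matrix.one_mulVec]


/-- a vector supported on the coordinates `e₀, e₁` -/
theorem eq_of_support01 (z : I8 → F) (h0 : z (Sum.inr 0) = 0) (h1 : z (Sum.inr 1) = 0)
    (h2 : ∀ j, 2 ≤ lev j → z j = 0) :
    z = z (Sum.inl 0) • (ev (Sum.inl 0) : I8 → F) + z (Sum.inl 1) • (ev (Sum.inl 1) : I8 → F) := by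
  funext j
  rcases I8_cases j with rfl | rfl | rfl | rfl | rfl | rfl | rfl | rfl
  · simp
  · simp [h0]
  · simp
  · simp [h1]
  · simp [h2 (Sum.inl 2) (by decide)]
  · simp [h2 (Sum.inr 2) (by decide)]
  · simp [h2 (Sum.inl 3) (by decide)]
  · simp [h2 (Sum.inr 3) (by decide)]

/-- a line disjoint from and perpendicular to `⟨e₀, e₁⟩` can be moved to `⟨e₂, e₃⟩` or
`⟨e₂, f₃⟩` by an element fixing `e₀` and `e₁` -/
theorem F2v {b c : I8 → F} (hQb : Q8 F b = 0) (hQc : Q8 F c = 0) (hbc : bil b c = 0)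
    (hb0 : b (Sum.inr 0) = 0) (hb1 : b (Sum.inr 1) = 0) (hc0 : c (Sum.inr 0) = 0)
    (hc1 : c (Sum.inr 1) = 0)
    (hdisj : ∀ s t : F, (∀ j, 2 ≤ lev j → (s • b + t • c) j = 0) → s = 0 ∧ t = 0) :
    ∃ h ∈ E0 F, h.val *ᵥ (ev (Sum.inl 0) : I8 → F) = ev (Sum.inl 0) ∧
      h.val *ᵥ (ev (Sum.inl 1) : I8 → F) = ev (Sum.inl 1) ∧
      ∃ l m : F, m ≠ 0 ∧ h.val *ᵥ b = ev (Sum.inl 2) ∧
        (h.val *ᵥ c = m • (ev (Sum.inl 3) : I8 → F) + l • (ev (Sum.inl 2) : I8 → F) ∨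
         h.val *ᵥ c = m • (ev (Sum.inr 3) : I8 → F) + l • (ev (Sum.inl 2) : I8 → F)) := by
  -- Step A: move the high part of `b` to `e₂`
  obtain ⟨b', hb'⟩ : ∃ b', b' = b - b (Sum.inl 0) • (ev (Sum.inl 0) : I8 → F) -
      b (Sum.inl 1) • (ev (Sum.inl 1) : I8 → F) := ⟨_, rfl⟩
  have hb'low : ∀ j, lev j < 2 → b' j = 0 := by
    intro j hj
    rcases lev_lt_two hj with rfl | rfl | rfl | rfl <;> rw [hb'] <;> simp [hb0, hb1]
  have hb'high : ∀ j, 2 ≤ lev j → b' j = b j := by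
    intro j hj
    rcases lev_ge_two hj with rfl | rfl | rfl | rfl <;> rw [hb'] <;> simp
  have hQb' : Q8 F b' = 0 := by
    rw [hb', Q8_sub_smul_ev, Q8_sub_smul_ev, hQb]
    show 0 - _ * b (Sum.inr 0) - _ * (b - _) (Sum.inr 1) = 0
    simp [hb0, hb1]
  have hb'0 : b' ≠ 0 := by
    intro h0
    have := hdisj 1 0 (fun j hj => by
      rw [one_smul, zero_smul, add_zero, ← hb'high j hj, h0]; rfl)
    exact one_ne_zero this.1
  obtain ⟨hA, hhA, eA⟩ := vec_to_ev 2 (by omega) (Sum.inl 2) rfl b' hb'0 hQb' hb'low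
  have hOA : hA ∈ O8 F := EF_le_O8 2 hhA
  have hA0 : hA.val *ᵥ (ev (Sum.inl 0) : I8 → F) = ev (Sum.inl 0) := hhA.2 _ (by decide)
  have hA1 : hA.val *ᵥ (ev (Sum.inl 1) : I8 → F) = ev (Sum.inl 1) := hhA.2 _ (by decide)
  obtain ⟨bA, hbA⟩ : ∃ bA, bA = hA.val *ᵥ b := ⟨_, rfl⟩
  have ebA : bA = ev (Sum.inl 2) + b (Sum.inl 0) • (ev (Sum.inl 0) : I8 → F) +
      b (Sum.inl 1) • (ev (Sum.inl 1) : I8 → F) := by
    have : b = b' + b (Sum.inl 0) • (ev (Sum.inl 0) : I8 → F) +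
        b (Sum.inl 1) • (ev (Sum.inl 1) : I8 → F) := by rw [hb']; abel
    rw [hbA]
    conv_lhs => rw [this]
    rw [Matrix.mulVec_add, Matrix.mulVec_add, Matrix.mulVec_smul, Matrix.mulVec_smul, eA, hA0, hA1]
  have hQbA : Q8 F bA = 0 := by rw [hbA, (mem_O8_iff hA).1 hOA, hQb]
  -- Step B: the second vector
  obtain ⟨cA, hcA⟩ : ∃ cA, cA = hA.val *ᵥ c := ⟨_, rfl⟩
  have hQcA : Q8 F cA = 0 := by rw [hcA, (mem_O8_iff hA).1 hOA, hQc]
  have hcA0 : cA (Sum.inr 0) = 0 := by rw [hcA, coord_of_Stab hOA hhA.2 (by decide), hc0]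
  have hcA1 : cA (Sum.inr 1) = 0 := by rw [hcA, coord_of_Stab hOA hhA.2 (by decide), hc1]
  have hbcA : bil cA bA = 0 := by rw [hcA, hbA, bil_of_O8 hOA, bil_comm, hbc]
  have hcA2 : cA (Sum.inr 2) = 0 := by
    have := hbcA
    rw [ebA, bil_add_right, bil_add_right, bil_smul_right, bil_smul_right, bil_ev_right,
      bil_ev_right, bil_ev_right] at this
    have e0 : cA (op (Sum.inl 0)) = cA (Sum.inr 0) := rfl
    have e1 : cA (op (Sum.inl 1)) = cA (Sum.inr 1) := rfl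
    have e2 : cA (op (Sum.inl 2)) = cA (Sum.inr 2) := rfl
    rw [e0, e1, e2, hcA0, hcA1] at this
    linear_combination this
  obtain ⟨l, hl⟩ : ∃ l, l = cA (Sum.inl 2) := ⟨_, rfl⟩
  obtain ⟨ct, hct⟩ : ∃ ct, ct = cA - l • bA := ⟨_, rfl⟩
  have hbA2 : bA (Sum.inl 2) = 1 := by rw [ebA]; simp
  have hbAr0 : bA (Sum.inr 0) = 0 := by rw [ebA]; simp
  have hbAr1 : bA (Sum.inr 1) = 0 := by rw [ebA]; simp
  have hbAr2 : bA (Sum.inr 2) = 0 := by rw [ebA]; simp
  have hbA3 : bA (Sum.inl 3) = 0 := by rw [ebA]; simp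
  have hbAr3 : bA (Sum.inr 3) = 0 := by rw [ebA]; simp
  have hct2 : ct (Sum.inl 2) = 0 := by rw [hct]; simp [hbA2, hl]
  have hctr0 : ct (Sum.inr 0) = 0 := by rw [hct]; simp [hbAr0, hcA0]
  have hctr1 : ct (Sum.inr 1) = 0 := by rw [hct]; simp [hbAr1, hcA1]
  have hctr2 : ct (Sum.inr 2) = 0 := by rw [hct]; simp [hbAr2, hcA2]
  have hQct : Q8 F ct = 0 := by
    have h1 : ct = cA + (-l) • bA := by rw [hct, neg_smul, sub_eq_add_neg]
    rw [h1, Q8_add, Q8_smul, bil_smul_right, hQcA, hQbA, hbcA]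
    ring
  have hprod : ct (Sum.inl 3) * ct (Sum.inr 3) = 0 := by
    have := hQct
    rw [Q8_four, hctr0, hctr1, hctr2] at this
    linear_combination this
  have hnot : ¬ (ct (Sum.inl 3) = 0 ∧ ct (Sum.inr 3) = 0) := by
    rintro ⟨h3, h3'⟩
    have hsupp : ∀ j, 2 ≤ lev j → ct j = 0 := by
      intro j hj
      rcases lev_ge_two hj with rfl | rfl | rfl | rfl
      · exact hct2
      · exact hctr2
      · exact h3
      · exact h3'
    have e1 := eq_of_support01 ct hctr0 hctr1 hsupp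
    have e2 : ct = hA.val *ᵥ (c - l • b) := by
      rw [hct, hcA, hbA, Matrix.mulVec_sub, Matrix.mulVec_smul]
    have e3 : c - l • b = ct (Sum.inl 0) • (ev (Sum.inl 0) : I8 → F) +
        ct (Sum.inl 1) • (ev (Sum.inl 1) : I8 → F) := by
      have h4 : (hA⁻¹).val *ᵥ ct = c - l • b := by rw [e2, mulVec_inv_cancel]
      rw [← h4]
      conv_lhs => rw [e1]
      have hi0 : (hA⁻¹).val *ᵥ (ev (Sum.inl 0) : I8 → F) = ev (Sum.inl 0) := by
        conv_lhs => rw [← hA0]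
        exact mulVec_inv_cancel hA _
      have hi1 : (hA⁻¹).val *ᵥ (ev (Sum.inl 1) : I8 → F) = ev (Sum.inl 1) := by
        conv_lhs => rw [← hA1]
        exact mulVec_inv_cancel hA _
      rw [Matrix.mulVec_add, Matrix.mulVec_smul, Matrix.mulVec_smul, hi0, hi1]
    have := hdisj (-l) 1 (fun j hj => by
      have e4 : (-l) • b + (1 : F) • c = c - l • b := by rw [one_smul, neg_smul]; abel
      rw [e4, e3]
      rcases lev_ge_two hj with rfl | rfl | rfl | rfl <;> simp)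
    exact one_ne_zero this.2
  -- Step C: clear the low coordinates of `bA`
  obtain ⟨hC, hhC, eC, fixC⟩ := clear2 (Sum.inl 2) (by decide) bA hbAr0 hbAr1
    (by rw [hbA2]; exact one_ne_zero)
  have eC' : hC.val *ᵥ bA = ev (Sum.inl 2) := by
    rw [eC, ebA]
    funext j
    rcases I8_cases j with rfl | rfl | rfl | rfl | rfl | rfl | rfl | rfl <;> simp
  have hC0 : hC.val *ᵥ (ev (Sum.inl 0) : I8 → F) = ev (Sum.inl 0) :=
    fixC _ (by simp) (by simp) (by simp)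
  have hC1 : hC.val *ᵥ (ev (Sum.inl 1) : I8 → F) = ev (Sum.inl 1) :=
    fixC _ (by simp) (by simp) (by simp)
  have hCct : hC.val *ᵥ ct = ct := fixC ct hct2 hctr0 hctr1
  have ecA : cA = ct + l • bA := by rw [hct]; abel
  -- Step D
  by_cases h3 : ct (Sum.inl 3) = 0
  · have h3' : ct (Sum.inr 3) ≠ 0 := fun h => hnot ⟨h3, h⟩
    obtain ⟨hD, hhD, eD, fixD⟩ := clear2 (Sum.inr 3) (by decide) ct hctr0 hctr1 h3'
    have eD' : hD.val *ᵥ ct = ct (Sum.inr 3) • (ev (Sum.inr 3) : I8 → F) := by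
      rw [eD]
      funext j
      rcases I8_cases j with rfl | rfl | rfl | rfl | rfl | rfl | rfl | rfl <;>
        simp [hctr0, hctr1, hctr2, hct2, h3]
    have hD0 : hD.val *ᵥ (ev (Sum.inl 0) : I8 → F) = ev (Sum.inl 0) :=
      fixD _ (by simp) (by simp) (by simp)
    have hD1 : hD.val *ᵥ (ev (Sum.inl 1) : I8 → F) = ev (Sum.inl 1) :=
      fixD _ (by simp) (by simp) (by simp)
    have hD2 : hD.val *ᵥ (ev (Sum.inl 2) : I8 → F) = ev (Sum.inl 2) :=
      fixD _ (by simp) (by simp) (by simp)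
    refine ⟨hD * hC * hA, mul_mem (mul_mem hhD hhC) hhA.1, ?_, ?_, l, ct (Sum.inr 3), h3', ?_,
      Or.inr ?_⟩
    · rw [val_mul_mulVec, hA0, val_mul_mulVec, hC0, hD0]
    · rw [val_mul_mulVec, hA1, val_mul_mulVec, hC1, hD1]
    · rw [val_mul_mulVec, ← hbA, val_mul_mulVec, eC', hD2]
    · rw [val_mul_mulVec, ← hcA, val_mul_mulVec, ecA, Matrix.mulVec_add, Matrix.mulVec_smul, hCct,
        eC', Matrix.mulVec_add, Matrix.mulVec_smul, eD', hD2]
  · have h3' : ct (Sum.inr 3) = 0 := by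
      rcases mul_eq_zero.1 hprod with h | h
      · exact absurd h h3
      · exact h
    obtain ⟨hD, hhD, eD, fixD⟩ := clear2 (Sum.inl 3) (by decide) ct hctr0 hctr1 h3
    have eD' : hD.val *ᵥ ct = ct (Sum.inl 3) • (ev (Sum.inl 3) : I8 → F) := by
      rw [eD]
      funext j
      rcases I8_cases j with rfl | rfl | rfl | rfl | rfl | rfl | rfl | rfl <;>
        simp [hctr0, hctr1, hctr2, hct2, h3']
    have hD0 : hD.val *ᵥ (ev (Sum.inl 0) : I8 → F) = ev (Sum.inl 0) :=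
      fixD _ (by simp) (by simp) (by simp)
    have hD1 : hD.val *ᵥ (ev (Sum.inl 1) : I8 → F) = ev (Sum.inl 1) :=
      fixD _ (by simp) (by simp) (by simp)
    have hD2 : hD.val *ᵥ (ev (Sum.inl 2) : I8 → F) = ev (Sum.inl 2) :=
      fixD _ (by simp) (by simp) (by simp)
    refine ⟨hD * hC * hA, mul_mem (mul_mem hhD hhC) hhA.1, ?_, ?_, l, ct (Sum.inl 3), h3, ?_,
      Or.inl ?_⟩
    · rw [val_mul_mulVec, hA0, val_mul_mulVec, hC0, hD0]
    · rw [val_mul_mulVec, hA1, val_mul_mulVec, hC1, hD1]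
    · rw [val_mul_mulVec, ← hbA, val_mul_mulVec, eC', hD2]
    · rw [val_mul_mulVec, ← hcA, val_mul_mulVec, ecA, Matrix.mulVec_add, Matrix.mulVec_smul, hCct,
        eC', Matrix.mulVec_add, Matrix.mulVec_smul, eD', hD2]

end vectors


section lines

variable {F : Type*} [Field F] [Fintype F]

theorem TSL_ev {a b : I8} (hab : a ≠ b) (hab' : a ≠ op b) :
    TSL (Qp 4 F) (ev a : I8 → F) (ev b) := by
  refine ⟨Q8_ev_one a, Q8_ev_one b, ?_, fun s t hst => ?_⟩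
  · rw [polar_Qp, bil_ev_right, ev_apply, if_neg (fun h => hab' h.symm)]
  · constructor
    · have := congrFun hst a
      simpa [Pi.single_apply, hab] using this
    · have := congrFun hst b
      simpa [Pi.single_apply, hab.symm] using this

/-- the standard line `⟨e_a, e_b⟩` -/
noncomputable abbrev Lab (F : Type*) [Field F] (a b : I8) : Submodule F (I8 → F) :=
  Submodule.span F ({(ev a : I8 → F), ev b} : Set (I8 → F))

theorem isLine_Lab {a b : I8} (hab : a ≠ b) (hab' : a ≠ op b) : IsLine (Qp 4 F) (Lab F a b) :=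
  (TSL_ev hab hab').isLine _

theorem exists_omega_lift {g : GL I8 F} (hg : g ∈ E0 F) :
    ∃ w : ↥(Cfsg.Omega F ⇑(Qp 4 F)), ∀ x, act (Qp 4 F) w x = g.val *ᵥ x := by
  obtain ⟨x, hx, rfl⟩ := E0_le_Om8 hg
  exact ⟨⟨x, hx⟩, fun _ => rfl⟩

theorem span_pair_add_smul {V : Type*} [AddCommGroup V] [Module F V] (u v : V) (c : F) :
    Submodule.span F ({u, v + c • u} : Set V) = Submodule.span F ({u, v} : Set V) := by
  apply le_antisymm
  · rw [Submodule.span_le]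
    rintro x (rfl | rfl)
    · exact Submodule.subset_span (by simp)
    · exact Submodule.add_mem _ (Submodule.subset_span (by simp))
        (Submodule.smul_mem _ _ (Submodule.subset_span (by simp)))
  · rw [Submodule.span_le]
    rintro x (rfl | rfl)
    · exact Submodule.subset_span (by simp)
    · have : x = (x + c • u) - c • u := by abel
      rw [this]
      exact Submodule.sub_mem _ (Submodule.subset_span (by simp))
        (Submodule.smul_mem _ _ (Submodule.subset_span (by simp)))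

theorem span_pair_smul {V : Type*} [AddCommGroup V] [Module F V] (u v : V) {k : F} (hk : k ≠ 0) :
    Submodule.span F ({u, k • v} : Set V) = Submodule.span F ({u, v} : Set V) := by
  apply le_antisymm
  · rw [Submodule.span_le]
    rintro x (rfl | rfl)
    · exact Submodule.subset_span (by simp)
    · exact Submodule.smul_mem _ _ (Submodule.subset_span (by simp))
  · rw [Submodule.span_le]
    rintro x (rfl | rfl)
    · exact Submodule.subset_span (by simp)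
    · have h2 : k⁻¹ • (k • x) ∈ Submodule.span F ({u, k • x} : Set V) :=
        Submodule.smul_mem _ _ (Submodule.subset_span (by simp))
      rwa [smul_smul, inv_mul_cancel₀ hk, one_smul] at h2

theorem TSL_data {a v : I8 → F} (h : TSL (Qp 4 F) a v) :
    Q8 F a = 0 ∧ Q8 F v = 0 ∧ bil a v = 0 := by
  refine ⟨h.hu, h.hv, ?_⟩
  rw [← polar_Qp]
  exact h.huv

/-- `Ω₈⁺` is transitive on the pairs of lines meeting in a point and not perpendicular -/
theorem trans1_std :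
    Trans1 (Qp 4 F) (Lab F (Sum.inl 0) (Sum.inl 1)) (Lab F (Sum.inl 0) (Sum.inr 1)) := by
  intro L K hL hK hA
  obtain ⟨a, v, w, hv, hw, rfl, rfl⟩ := exists_common_basis (Qp 4 F) hL hK hA.1
  have hvw : bil v w ≠ 0 := by
    rw [← polar_Qp]
    exact fun h => hA.2 ((perp_iff_of_common (Qp 4 F) hv hw).2 h)
  obtain ⟨hQa, hQv, hav⟩ := TSL_data hv
  obtain ⟨-, hQw, haw⟩ := TSL_data hw
  obtain ⟨h, hh, c, d, k, hk, e1, e2, e3⟩ :=
    F1v (hv.ne_zero_left _) hQa hQv hQw hav haw hvw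
  obtain ⟨g, hg⟩ := exists_omega_lift hh
  refine ⟨g⁻¹, ?_, ?_⟩
  · have : mapL (Qp 4 F) g (Submodule.span F ({a, v} : Set (I8 → F))) =
        Lab F (Sum.inl 0) (Sum.inl 1) := by
      rw [mapL_span_pair, hg, hg, e1, e2, span_pair_add_smul]
    rw [← this, mapL_inv_mapL]
  · have : mapL (Qp 4 F) g (Submodule.span F ({a, w} : Set (I8 → F))) =
        Lab F (Sum.inl 0) (Sum.inr 1) := by
      rw [mapL_span_pair, hg, hg, e1, e3, span_pair_add_smul, span_pair_smul _ _ hk]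
    rw [← this, mapL_inv_mapL]

/-- `Ω₈⁺` has at most two orbits on the pairs of disjoint perpendicular lines -/
theorem trans2_std {L K : Submodule F (I8 → F)} (hL : IsLine (Qp 4 F) L)
    (hK : IsLine (Qp 4 F) K) (hdisj : L ⊓ K = ⊥)
    (hperp : L ≤ Cfsg.Agent.Lib.Helper25.MaxTS.perp (Qp 4 F) K) :
    ∃ g : ↥(Cfsg.Omega F ⇑(Qp 4 F)), L = mapL (Qp 4 F) g (Lab F (Sum.inl 0) (Sum.inl 1)) ∧
      (K = mapL (Qp 4 F) g (Lab F (Sum.inl 2) (Sum.inl 3)) ∨
        K = mapL (Qp 4 F) g (Lab F (Sum.inl 2) (Sum.inr 3))) := by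
  obtain ⟨a, v, hav, rfl⟩ := hL
  obtain ⟨hQa, hQv, hbav⟩ := TSL_data hav
  have hind : ∀ c : F, v ≠ c • a := by
    intro c hc
    have := hav.ind c (-1) (by rw [hc]; simp)
    simpa using this.2
  obtain ⟨h1, hh1, c1, e1, e2⟩ := T0v (hav.ne_zero_left _) hQa hQv hbav hind
  obtain ⟨g1, hg1⟩ := exists_omega_lift hh1
  have eL1 : mapL (Qp 4 F) g1 (Submodule.span F ({a, v} : Set (I8 → F))) =
      Lab F (Sum.inl 0) (Sum.inl 1) := by
    rw [mapL_span_pair, hg1, hg1, e1, e2, span_pair_add_smul]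
  obtain ⟨b, c, hbc, eK1⟩ := isLine_mapL (Qp 4 F) g1 hK
  have hperp1 : ∀ x ∈ mapL (Qp 4 F) g1 K, x (Sum.inr 0) = 0 ∧ x (Sum.inr 1) = 0 := by
    rintro _ ⟨y, hy, rfl⟩
    have ha : polar (Qp 4 F) y a = 0 :=
      Cfsg.Agent.Lib.Helper25.MaxTS.mem_perp.1 (hperp (Submodule.subset_span (by simp))) y hy
    have hv' : polar (Qp 4 F) y v = 0 :=
      Cfsg.Agent.Lib.Helper25.MaxTS.mem_perp.1 (hperp (Submodule.subset_span (by simp))) y hy
    have k1 := polar_act (Qp 4 F) g1 y a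
    have k2 := polar_act (Qp 4 F) g1 y v
    rw [ha, polar_Qp, hg1 a, e1, bil_ev_right] at k1
    rw [hv', polar_Qp, hg1 v, e2, bil_add_right, bil_smul_right, bil_ev_right, bil_ev_right] at k2
    have k1' : (act (Qp 4 F) g1 y) (Sum.inr 0) = 0 := k1
    have k2' : (act (Qp 4 F) g1 y) (Sum.inr 1) + c1 * (act (Qp 4 F) g1 y) (Sum.inr 0) = 0 := k2
    refine ⟨k1', ?_⟩
    rw [k1'] at k2'
    linear_combination k2'
  have hbK : b ∈ mapL (Qp 4 F) g1 K := by rw [eK1]; exact Submodule.subset_span (by simp)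
  have hcK : c ∈ mapL (Qp 4 F) g1 K := by rw [eK1]; exact Submodule.subset_span (by simp)
  have hb := hperp1 b hbK
  have hc := hperp1 c hcK
  have hdisj1 : ∀ s t : F, (∀ j, 2 ≤ lev j → (s • b + t • c) j = 0) → s = 0 ∧ t = 0 := by
    intro s t hst
    apply hbc.ind
    have hxK : s • b + t • c ∈ mapL (Qp 4 F) g1 K :=
      Submodule.add_mem _ (Submodule.smul_mem _ _ hbK) (Submodule.smul_mem _ _ hcK)
    obtain ⟨hx0, hx1⟩ := hperp1 _ hxK
    have ex := eq_of_support01 _ hx0 hx1 hst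
    have hxL : s • b + t • c ∈ mapL (Qp 4 F) g1 (Submodule.span F ({a, v} : Set (I8 → F))) := by
      rw [eL1, ex]
      exact Submodule.add_mem _ (Submodule.smul_mem _ _ (Submodule.subset_span (by simp)))
        (Submodule.smul_mem _ _ (Submodule.subset_span (by simp)))
    obtain ⟨y, hy, hyx⟩ := hxL
    obtain ⟨y', hy', hyx'⟩ := hxK
    have hyy : y = y' := (act (Qp 4 F) g1).injective (hyx.trans hyx'.symm)
    have hy0 : y ∈ Submodule.span F ({a, v} : Set (I8 → F)) ⊓ K := ⟨hy, hyy ▸ hy'⟩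
    rw [hdisj, Submodule.mem_bot] at hy0
    rw [← hyx, hy0]
    exact map_zero _
  obtain ⟨hQb, hQc, hbbc⟩ := TSL_data hbc
  obtain ⟨h2, hh2, f0, f1, l, m, hm, eb, ec⟩ := F2v hQb hQc hbbc hb.1 hb.2 hc.1 hc.2 hdisj1
  obtain ⟨g2, hg2⟩ := exists_omega_lift hh2
  refine ⟨(g2 * g1)⁻¹, ?_, ?_⟩
  · have : mapL (Qp 4 F) (g2 * g1) (Submodule.span F ({a, v} : Set (I8 → F))) =
        Lab F (Sum.inl 0) (Sum.inl 1) := by
      rw [← mapL_mapL, eL1, mapL_span_pair, hg2, hg2, f0, f1]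
    rw [← this, mapL_inv_mapL]
  · rcases ec with ec | ec
    · left
      have : mapL (Qp 4 F) (g2 * g1) K = Lab F (Sum.inl 2) (Sum.inl 3) := by
        rw [← mapL_mapL, eK1, mapL_span_pair, hg2, hg2, eb, ec, span_pair_add_smul,
          span_pair_smul _ _ hm]
      rw [← this, mapL_inv_mapL]
    · right
      have : mapL (Qp 4 F) (g2 * g1) K = Lab F (Sum.inl 2) (Sum.inr 3) := by
        rw [← mapL_mapL, eK1, mapL_span_pair, hg2, hg2, eb, ec, span_pair_add_smul,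
          span_pair_smul _ _ hm]
      rw [← this, mapL_inv_mapL]

end lines

end Cfsg.Agent.Lib.Helper25.Tri
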