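import Cfsg.Agent.Lib.Helper25.Tri3
import Cfsg.Agent.Lib.Helper7.ChevGraphTab

set_option autoImplicit false
set_option linter.unusedSectionVars false
set_option linter.unusedVariables false
set_option linter.unusedSimpArgs false

/-!
# Triality, part 4: the triality automorphism of `PΩ₈⁺(F)`, transported from the graph
automorphism of `D₄(F)`
-/

namespace Cfsg.Agent.Lib.Helper25.Tri

open Module QuadraticMap Matrix Cfsg.Agent.Lib.Helper25.CD Cfsg.Agent.Lib.Helper25.Siegel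
  Cfsg.Agent.Lib.Helper25.AutO Cfsg.Agent.Lib.Helper25.Spin Cfsg.Agent.Lib.Helper25.D4
  Cfsg.Lie Cfsg.Agent.Lib.Helper7

section field

variable {F : Type*} [Field F]

/-- `PΩ₈⁺(F) ≃* D₄(F)` -/
noncomputable def Phi : Cfsg.POmega F (Cfsg.quadFormPlus 4 F) ≃* ↥(chevD4.group F) :=
  ((QuotientGroup.quotientMulEquivOfEq (rhoOm_ker (F := F)).symm).trans
    (QuotientGroup.quotientKerEquivRange (rhoOm (F := F)))).trans
      (MulEquiv.subgroupCongr (rhoOm_range (F := F)))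

theorem Phi_mk (w : ↥(Cfsg.Omega F (Cfsg.quadFormPlus 4 F))) :
    ((Phi (QuotientGroup.mk w) : ↥(chevD4.group F)) : GL Idx F) = rhoOm w := rfl

theorem hD4 : chevD4 ∈ [chevG2, chevB2, chevD4, chevF4, chevE6, chevE7, chevE8] := by simp

/-- the triality graph automorphism of `D₄(F)` -/
noncomputable def tauD (F : Type*) [Field F] : ↥(chevD4.group F) ≃* ↥(chevD4.group F) :=
  graphAut chevD4 hD4 _ _ _ _ _
    (graphFacts_of_graphOKB chevD4 grPv_D4_1 grPvInv_D4_1 grRho_D4_1 grRhoInv_D4_1 grEps_D4_1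
      graphOKB_D4_1) F

theorem tauD_x (g : ↥(chevD4.group F)) (s : ℕ) (hs : s < chevD4.nroots) (t : F)
    (hg : ((g : GL chevD4.Idx F) : Matrix chevD4.Idx chevD4.Idx F) = chevD4.x F s t) :
    ((tauD F g : GL chevD4.Idx F) : Matrix chevD4.Idx chevD4.Idx F) =
      chevD4.x F (grRho_D4_1.getD s 0) (((grEps_D4_1.getD s 0 : ℤ) : F) * t) :=
  graphAut_x chevD4 hD4 _ _ _ _ _ _ F g s hs t hg

/-- triality on `PΩ₈⁺(F)` -/
noncomputable def tau (F : Type*) [Field F] : MulAut (Cfsg.POmega F (Cfsg.quadFormPlus 4 F)) :=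
  (Phi.trans (tauD F)).trans Phi.symm

theorem Phi_tau (x : Cfsg.POmega F (Cfsg.quadFormPlus 4 F)) : Phi (tau F x) = tauD F (Phi x) := by
  show Phi (Phi.symm (tauD F (Phi x))) = _
  rw [MulEquiv.apply_symm_apply]

theorem exists_Eroot_lift (r : Fin chevD4.nroots) (t : F) :
    ∃ w : ↥(Cfsg.Omega F (Cfsg.quadFormPlus 4 F)), (w.1.1 : GL I8 F) = Eroot r t := by
  obtain ⟨w, hw, hwe⟩ := Eab_mem_Om8 (F := F) (ra r.val) (rb r.val) (rootPair_ok r).1
    (((eps r.val : ℤ) : F) * t)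
  exact ⟨⟨w, hw⟩, hwe⟩

/-- the root element `E_r(t)` as an element of `Ω₈⁺(F)` -/
noncomputable def ErO (r : Fin chevD4.nroots) (t : F) : ↥(Cfsg.Omega F (Cfsg.quadFormPlus 4 F)) :=
  (exists_Eroot_lift r t).choose

theorem ErO_val (r : Fin chevD4.nroots) (t : F) : ((ErO r t).1.1 : GL I8 F) = Eroot r t :=
  (exists_Eroot_lift r t).choose_spec

theorem Phi_ErO (r : Fin chevD4.nroots) (t : F) :
    (((Phi (QuotientGroup.mk (ErO r t)) : ↥(chevD4.group F)) : GL chevD4.Idx F) :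
      Matrix chevD4.Idx chevD4.Idx F) = chevD4.x F r.val t := by
  rw [Phi_mk, rhoOm_apply, rho_val, ErO_val, Rmat_Eroot, x_eq_xMat chevD4 F r.val r.isLt]

theorem rho1_lt (r : Fin chevD4.nroots) : grRho_D4_1.getD r.val 0 < chevD4.nroots := by
  revert r; decide

/-- the permutation of the roots induced by triality -/
def rho1 (r : Fin chevD4.nroots) : Fin chevD4.nroots := ⟨grRho_D4_1.getD r.val 0, rho1_lt r⟩

/-- triality maps root elements to root elements -/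
theorem tau_ErO (r : Fin chevD4.nroots) (t : F) :
    tau F (QuotientGroup.mk (ErO r t)) =
      QuotientGroup.mk (ErO (rho1 r) (((grEps_D4_1.getD r.val 0 : ℤ) : F) * t)) := by
  apply Phi.injective
  rw [Phi_tau]
  apply Subtype.ext
  apply Units.ext
  rw [tauD_x _ r.val r.isLt t (Phi_ErO r t), Phi_ErO]
  rfl

end field


section fin

variable {F : Type*} [Field F] [Fintype F]

theorem siegF_ev (a b : I8) (t : F) (x : I8 → F) :
    siegF (Qp 4 F) (ev a) (ev b) t x = x + t • (x (op a) • (ev b : I8 → F) - x (op b) • ev a) := by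
  unfold siegF
  rw [polar_Qp, polar_Qp, bil_ev_left, bil_ev_left]

/-- the root subgroup of `Ω` attached to the standard line `⟨e_a, e_b⟩` -/
theorem mem_XS_Lab {a b : I8} (hab : a ≠ b) (hab' : a ≠ op b) (w : ↥(Cfsg.Omega F ⇑(Qp 4 F))) :
    w ∈ XS (Qp 4 F) (Lab F a b) ↔ ∃ t : F, (w.1.1 : GL I8 F) = Eab a b hab' t := by
  rw [mem_XS_span (Qp 4 F) (TSL_ev hab hab')]
  constructor
  · rintro ⟨c, hc⟩
    refine ⟨-c, GL_ext_mulVec fun x => ?_⟩
    have h1 : (w.1.1 : GL I8 F).val *ᵥ x = siegF (Qp 4 F) (ev a) (ev b) c x := hc x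
    rw [h1, siegF_ev, Eab_mulVec]
    module
  · rintro ⟨t, ht⟩
    refine ⟨-t, fun x => ?_⟩
    show (w.1.1 : GL I8 F).val *ᵥ x = _
    rw [ht, Eab_mulVec, siegF_ev]
    module

/-- triality as an automorphism of `PΩ(Q)`, `Q` the bundled form -/
noncomputable def tauQ (F : Type*) [Field F] : MulAut (Cfsg.POmega F ⇑(Qp 4 F)) := tau F

/-- the root element `E_r(t)` in `Ω(Q)`, `Q` the bundled form -/
noncomputable def ErQ (r : Fin chevD4.nroots) (t : F) : ↥(Cfsg.Omega F ⇑(Qp 4 F)) := ErO r t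

theorem ErQ_val (r : Fin chevD4.nroots) (t : F) : ((ErQ r t).1.1 : GL I8 F) = Eroot r t :=
  ErO_val r t

theorem tauQ_ErQ (r : Fin chevD4.nroots) (t : F) :
    tauQ F (prZ ↥(Cfsg.Omega F ⇑(Qp 4 F)) (ErQ r t)) =
      prZ ↥(Cfsg.Omega F ⇑(Qp 4 F)) (ErQ (rho1 r) (((grEps_D4_1.getD r.val 0 : ℤ) : F) * t)) :=
  tau_ErO r t

/-- the standard line of a root -/
noncomputable abbrev Lr (F : Type*) [Field F] (r : Fin chevD4.nroots) : Submodule F (I8 → F) :=
  Lab F (ra r.val) (rb r.val)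

theorem isLine_Lr (r : Fin chevD4.nroots) : IsLine (Qp 4 F) (Lr F r) :=
  isLine_Lab (rootPair_ok r).2 (rootPair_ok r).1

theorem mem_XB_Lr (r : Fin chevD4.nroots) (x : Cfsg.POmega F ⇑(Qp 4 F)) :
    x ∈ XB (Qp 4 F) (Lr F r) ↔ ∃ t : F, x = prZ ↥(Cfsg.Omega F ⇑(Qp 4 F)) (ErQ r t) := by
  constructor
  · rintro ⟨w, hw, rfl⟩
    obtain ⟨t, ht⟩ := (mem_XS_Lab (rootPair_ok r).2 (rootPair_ok r).1 w).1 hw
    refine ⟨((eps r.val : ℤ) : F) * t, ?_⟩
    congr 1
    apply Subtype.ext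
    apply Subtype.ext
    rw [ht, ErQ_val, Eab_eq_Eroot]
  · rintro ⟨t, rfl⟩
    refine Subgroup.mem_map_of_mem _ ?_
    rw [mem_XS_Lab (rootPair_ok r).2 (rootPair_ok r).1]
    exact ⟨((eps r.val : ℤ) : F) * t, ErQ_val r t⟩

theorem eps1_sq : ∀ r : Fin chevD4.nroots,
    grEps_D4_1.getD r.val 0 * grEps_D4_1.getD r.val 0 = 1 := by decide

/-- triality permutes the standard root subgroups -/
theorem tauQ_XB (r : Fin chevD4.nroots) :
    mp (tauQ F) (XB (Qp 4 F) (Lr F r)) = XB (Qp 4 F) (Lr F (rho1 r)) := by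
  ext y
  rw [mem_mp, mem_XB_Lr, mem_XB_Lr]
  constructor
  · rintro ⟨t, ht⟩
    refine ⟨((grEps_D4_1.getD r.val 0 : ℤ) : F) * t, ?_⟩
    rw [← tauQ_ErQ, ← ht, MulEquiv.apply_symm_apply]
  · rintro ⟨t, rfl⟩
    refine ⟨((grEps_D4_1.getD r.val 0 : ℤ) : F) * t, ?_⟩
    rw [MulEquiv.symm_apply_eq, tauQ_ErQ, ← mul_assoc, ← Int.cast_mul, eps1_sq]
    simp

end fin

end Cfsg.Agent.Lib.Helper25.Tri
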