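import Cfsg.Agent.Lib.Helper25.Tri4

set_option autoImplicit false
set_option linter.unusedSectionVars false
set_option linter.unusedVariables false
set_option linter.unusedSimpArgs false

/-!
# Triality, part 5: `Aut(PΩ₈⁺(q)) = Γ ∪ τΓ ∪ τ²Γ`, where `Γ` is the image of `PΓO₈⁺(q)` and `τ`
the triality automorphism; the order of `Aut(PΩ₈⁺(q))`
-/

namespace Cfsg.Agent.Lib.Helper25.Tri

open Module QuadraticMap Matrix Cfsg.Agent.Lib.Helper25.CD Cfsg.Agent.Lib.Helper25.Siegel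
  Cfsg.Agent.Lib.Helper25.AutO Cfsg.Agent.Lib.Helper25.Spin Cfsg.Agent.Lib.Helper25.D4
  Cfsg.Lie Cfsg.Agent.Lib.Helper7 Cfsg.Agent.Lib.Helper25.GraphSplit
  Cfsg.Agent.Lib.Helper25.AutOut Cfsg.Agent.Lib.Helper25.AutPlus

section abstract

theorem index_eq_three {G : Type*} [Group G] (H : Subgroup G) (t : G)
    (hcov : ∀ x, x ∈ H ∨ t⁻¹ * x ∈ H ∨ (t ^ 2)⁻¹ * x ∈ H) (h1 : t ∉ H) (h2 : t ^ 2 ∉ H) :
    H.index = 3 := by
  have h1' : t⁻¹ ∉ H := fun h => h1 (by simpa using H.inv_mem h)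
  have h2' : (t ^ 2)⁻¹ ∉ H := fun h => h2 (by simpa using H.inv_mem h)
  let f : Fin 3 → G ⧸ H := fun i => QuotientGroup.mk (t ^ i.val)
  have hinj : Function.Injective f := by
    intro i j hij
    have h : (t ^ i.val)⁻¹ * t ^ j.val ∈ H := QuotientGroup.eq.1 hij
    fin_cases i <;> fin_cases j
    · rfl
    · exfalso; apply h1; simpa using h
    · exfalso; apply h2; simpa using h
    · exfalso; apply h1'; simpa using h
    · rfl
    · exfalso; apply h1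
      have e : (t ^ (1 : ℕ))⁻¹ * t ^ (2 : ℕ) = t := by group
      have h' : (t ^ (1 : ℕ))⁻¹ * t ^ (2 : ℕ) ∈ H := h
      rwa [e] at h'
    · exfalso; apply h2'; simpa using h
    · exfalso; apply h1'
      have e : (t ^ (2 : ℕ))⁻¹ * t ^ (1 : ℕ) = t⁻¹ := by group
      have h' : (t ^ (2 : ℕ))⁻¹ * t ^ (1 : ℕ) ∈ H := h
      rwa [e] at h'
    · rfl
  have hsurj : Function.Surjective f := by
    intro q
    induction q using QuotientGroup.induction_on with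
    | H x =>
      rcases hcov x with h | h | h
      · exact ⟨0, QuotientGroup.eq.2 (by simpa using h)⟩
      · exact ⟨1, QuotientGroup.eq.2 (by simpa using h)⟩
      · exact ⟨2, QuotientGroup.eq.2 (by simpa using h)⟩
  unfold Subgroup.index
  rw [← Nat.card_congr (Equiv.ofBijective f ⟨hinj, hsurj⟩), Nat.card_eq_fintype_card,
    Fintype.card_fin]

theorem conj_mul_conj {G : Type*} [Group G] (α : MulAut G) (x : G) :
    α * MulAut.conj x * α⁻¹ = MulAut.conj (α x) := by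
  ext y
  simp [MulAut.conj_apply]

end abstract

section general

variable {ι : Type} [Fintype ι] [DecidableEq ι] {F : Type*} [Field F] [Fintype F]
  (Q : QuadraticForm F (ι → F)) (hQ : (polarBilin Q).Nondegenerate) (hn : 7 ≤ Fintype.card ι)

include hQ hn in
/-- distinct commuting non-adjacent root subgroups: the lines meet in a point and are not
perpendicular, or they are disjoint and perpendicular -/
theorem nc_cases (p : ℕ) [Fact p.Prime] [CharP F p] {L K : Submodule F (ι → F)}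
    (hL : IsLine Q L) (hK : IsLine Q K) (hne : XB Q L ≠ XB Q K) (hc : Comm (XB Q L) (XB Q K))
    (hna : ¬ Adj (rootSub p (Cfsg.POmega F ⇑Q)) (XB Q L) (XB Q K)) :
    A1 Q L K ∨ (L ⊓ K = ⊥ ∧ L ≤ Cfsg.Agent.Lib.Helper25.MaxTS.perp Q K) := by
  have hc' := (Comm_XB_iff Q p hQ hn hL hK).1 hc
  have hLK : L ≠ K := fun h => hne (by rw [h])
  by_cases hm : L ⊓ K = ⊥
  · right
    exact ⟨hm, (perp_or_meet_of_Comm Q hQ hn hL hK hc').resolve_right (not_not.2 hm)⟩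
  · left
    refine ⟨hm, fun hp => hna ((Adj_XB_iff Q p hQ hn hL hK).2 ⟨hLK, hm, hp⟩)⟩

include hQ hn in
theorem nc_of_A1 (p : ℕ) [Fact p.Prime] [CharP F p] {L K : Submodule F (ι → F)}
    (hL : IsLine Q L) (hK : IsLine Q K) (hA : A1 Q L K) :
    XB Q L ≠ XB Q K ∧ Comm (XB Q L) (XB Q K) ∧
      ¬ Adj (rootSub p (Cfsg.POmega F ⇑Q)) (XB Q L) (XB Q K) := by
  refine ⟨fun h => ?_, (Comm_XB_iff Q p hQ hn hL hK).2 (comm_of_meet Q hL hK hA.1),
    fun h => hA.2 ((Adj_XB_iff Q p hQ hn hL hK).1 h).2.2⟩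
  have := XB_injective Q p hQ hn hL hK h
  subst this
  exact hA.2 (hL.ts Q).le_perp

theorem conj_mem_gamma (x : Cfsg.POmega F ⇑Q) : MulAut.conj x ∈ Cfsg.gammaPOmega F ⇑Q :=
  pgoAut_le_gamma Q (inn_le_pgoAut Q trivial ⟨x, rfl⟩)

include hQ hn in
/-- the coset of an automorphism is determined by the image of a standard pair -/
theorem mem_coset_of_image (p : ℕ) [Fact p.Prime] [CharP F p] {L1 L2 K : Submodule F (ι → F)}
    (hL1 : IsLine Q L1) (hL2 : IsLine Q L2) (hA12 : A1 Q L1 L2) (hT : Trans1 Q L1 L2)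
    (α β : MulAut (Cfsg.POmega F ⇑Q)) (hα1 : mp α (XB Q L1) = XB Q L1)
    (hα2 : mp α (XB Q L2) = XB Q K) (hK : IsLine Q K) (g : ↥(Cfsg.Omega F ⇑Q))
    (h1 : mp β (XB Q L1) = XB Q (mapL Q g L1)) (h2 : mp β (XB Q L2) = XB Q (mapL Q g K)) :
    α⁻¹ * β ∈ Cfsg.gammaPOmega F ⇑Q := by
  have k1 : mp (α⁻¹ * (MulAut.conj (prZ ↥(Cfsg.Omega F ⇑Q) g))⁻¹ * β) (XB Q L1) = XB Q L1 := by
    rw [mp_mul, mp_mul, h1, ← XB_conj Q g hL1, mp_inv_mp]
    conv_lhs => rw [← hα1]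
    exact mp_inv_mp α _
  have k2 : mp (α⁻¹ * (MulAut.conj (prZ ↥(Cfsg.Omega F ⇑Q) g))⁻¹ * β) (XB Q L2) = XB Q L2 := by
    rw [mp_mul, mp_mul, h2, ← XB_conj Q g hK, mp_inv_mp, ← hα2]
    exact mp_inv_mp α _
  have hγ := mem_gamma_of_fix Q hQ hn p hL1 hL2 hA12 hT k1 k2
  have e : α⁻¹ * β = (α⁻¹ * MulAut.conj (prZ ↥(Cfsg.Omega F ⇑Q) g) * α⁻¹⁻¹) *
      (α⁻¹ * (MulAut.conj (prZ ↥(Cfsg.Omega F ⇑Q) g))⁻¹ * β) := by group
  rw [e, conj_mul_conj]
  exact mul_mem (conj_mem_gamma Q _) hγ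

include hQ hn in
/-- an automorphism induced by a semisimilarity cannot separate two meeting lines -/
theorem not_mem_gamma_of_disj (p : ℕ) [Fact p.Prime] [CharP F p] {a v w : ι → F}
    (hv : TSL Q a v) (hw : TSL Q a w) {K : Submodule F (ι → F)} (hK : IsLine Q K)
    (α : MulAut (Cfsg.POmega F ⇑Q))
    (h1 : mp α (XB Q (Submodule.span F ({a, v} : Set (ι → F)))) =
      XB Q (Submodule.span F ({a, v} : Set (ι → F))))
    (h2 : mp α (XB Q (Submodule.span F ({a, w} : Set (ι → F)))) = XB Q K)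
    (hd : Submodule.span F ({a, v} : Set (ι → F)) ⊓ K = ⊥) : α ∉ Cfsg.gammaPOmega F ⇑Q := by
  intro hα
  obtain ⟨g, σ, hp, hind⟩ := isPairAut_of_mem_gamma (⇑Q) hα
  obtain ⟨c, hc⟩ := pair_apply (⇑Q) hp
  have e1 := induced_XB Q hQ hn hp p hc hind hv
  have e2 := induced_XB Q hQ hn hp p hc hind hw
  rw [h1] at e1
  rw [h2] at e2
  have k1 := XB_injective Q p hQ hn (hv.isLine Q) ((TSL_semiMap Q hc hv).isLine Q) e1
  have k2 := XB_injective Q p hQ hn hK ((TSL_semiMap Q hc hw).isLine Q) e2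
  have hmem : semiMap g σ a ∈ Submodule.span F ({a, v} : Set (ι → F)) ⊓ K := by
    constructor
    · rw [k1]; exact Submodule.subset_span (by simp)
    · rw [k2]; exact Submodule.subset_span (by simp)
  rw [hd, Submodule.mem_bot] at hmem
  apply hv.ne_zero_left Q
  apply semiMap_injective g σ
  rw [hmem, semiMap_zero]

end general


section D4

variable {F : Type*} [Field F] [Fintype F]

/-- the highest root `ε₁ + ε₂` -/
def r23 : Fin chevD4.nroots := ⟨23, by decide⟩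
/-- the simple root `ε₁ - ε₂` -/
def r18 : Fin chevD4.nroots := ⟨18, by decide⟩
/-- the simple root `ε₃ - ε₄` -/
def r13 : Fin chevD4.nroots := ⟨13, by decide⟩
/-- the simple root `ε₃ + ε₄` -/
def r12 : Fin chevD4.nroots := ⟨12, by decide⟩

theorem Lr_r23 : Lr F r23 = Lab F (Sum.inl 0) (Sum.inl 1) := rfl
theorem Lr_r18 : Lr F r18 = Lab F (Sum.inl 0) (Sum.inr 1) := rfl
theorem Lr_r13 : Lr F r13 = Lab F (Sum.inl 2) (Sum.inr 3) := rfl
theorem Lr_r12 : Lr F r12 = Lab F (Sum.inl 2) (Sum.inl 3) := rfl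
theorem rho1_r23 : rho1 r23 = r23 := by decide
theorem rho1_r18 : rho1 r18 = r13 := by decide
theorem rho1_r13 : rho1 r13 = r12 := by decide

theorem hQ4 : (polarBilin (Qp 4 F)).Nondegenerate := qfOf_nondeg _

theorem hn4 : 7 ≤ Fintype.card I8 := by
  simp only [Fintype.card_sum, Fintype.card_fin]
  omega

theorem isLine_L1 : IsLine (Qp 4 F) (Lab F (Sum.inl 0) (Sum.inl 1)) :=
  isLine_Lab (by decide) (by decide)
theorem isLine_L2 : IsLine (Qp 4 F) (Lab F (Sum.inl 0) (Sum.inr 1)) :=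
  isLine_Lab (by decide) (by decide)
theorem isLine_K3 : IsLine (Qp 4 F) (Lab F (Sum.inl 2) (Sum.inl 3)) :=
  isLine_Lab (by decide) (by decide)
theorem isLine_K4 : IsLine (Qp 4 F) (Lab F (Sum.inl 2) (Sum.inr 3)) :=
  isLine_Lab (by decide) (by decide)

theorem A1_std : A1 (Qp 4 F) (Lab F (Sum.inl 0) (Sum.inl 1)) (Lab F (Sum.inl 0) (Sum.inr 1)) := by
  have hv : TSL (Qp 4 F) (ev (Sum.inl 0) : I8 → F) (ev (Sum.inl 1)) :=
    TSL_ev (by decide) (by decide)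
  have hw : TSL (Qp 4 F) (ev (Sum.inl 0) : I8 → F) (ev (Sum.inr 1)) :=
    TSL_ev (by decide) (by decide)
  constructor
  · intro h0
    have : (ev (Sum.inl 0) : I8 → F) ∈ Lab F (Sum.inl 0) (Sum.inl 1) ⊓
        Lab F (Sum.inl 0) (Sum.inr 1) :=
      ⟨Submodule.subset_span (by simp), Submodule.subset_span (by simp)⟩
    rw [h0, Submodule.mem_bot] at this
    exact ev_ne_zero _ this
  · intro hp
    have := (perp_iff_of_common (Qp 4 F) hv hw).1 hp
    rw [polar_Qp, bil_ev_right] at this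
    have e : (ev (Sum.inl 1) : I8 → F) (op (Sum.inr 1)) = 1 := by
      show (ev (Sum.inl 1) : I8 → F) (Sum.inl 1) = 1
      simp
    rw [e] at this
    exact one_ne_zero this

theorem disj_std (d : I8) (hd : d = Sum.inl 3 ∨ d = Sum.inr 3) :
    Lab F (Sum.inl 0) (Sum.inl 1) ⊓ Lab F (Sum.inl 2) d = ⊥ := by
  rw [eq_bot_iff]
  rintro x ⟨hx1, hx2⟩
  obtain ⟨s, t, rfl⟩ := Submodule.mem_span_pair.1 hx1
  obtain ⟨s', t', hx⟩ := Submodule.mem_span_pair.1 hx2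
  have h0 := congrFun hx (Sum.inl 0)
  have h1 := congrFun hx (Sum.inl 1)
  rw [Submodule.mem_bot]
  rcases hd with rfl | rfl
  · simp at h0 h1
    rw [← h0, ← h1]
    simp
  · simp at h0 h1
    rw [← h0, ← h1]
    simp

theorem tau_fix1 : mp (tauQ F) (XB (Qp 4 F) (Lab F (Sum.inl 0) (Sum.inl 1))) =
    XB (Qp 4 F) (Lab F (Sum.inl 0) (Sum.inl 1)) := by
  have := tauQ_XB (F := F) r23
  rw [rho1_r23] at this
  exact this

theorem tau_L2 : mp (tauQ F) (XB (Qp 4 F) (Lab F (Sum.inl 0) (Sum.inr 1))) =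
    XB (Qp 4 F) (Lab F (Sum.inl 2) (Sum.inr 3)) := by
  have := tauQ_XB (F := F) r18
  rw [rho1_r18] at this
  exact this

theorem tau_K4 : mp (tauQ F) (XB (Qp 4 F) (Lab F (Sum.inl 2) (Sum.inr 3))) =
    XB (Qp 4 F) (Lab F (Sum.inl 2) (Sum.inl 3)) := by
  have := tauQ_XB (F := F) r13
  rw [rho1_r13] at this
  exact this

theorem tau2_fix1 : mp (tauQ F ^ 2) (XB (Qp 4 F) (Lab F (Sum.inl 0) (Sum.inl 1))) =
    XB (Qp 4 F) (Lab F (Sum.inl 0) (Sum.inl 1)) := by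
  rw [pow_two, mp_mul, tau_fix1, tau_fix1]

theorem tau2_L2 : mp (tauQ F ^ 2) (XB (Qp 4 F) (Lab F (Sum.inl 0) (Sum.inr 1))) =
    XB (Qp 4 F) (Lab F (Sum.inl 2) (Sum.inl 3)) := by
  rw [pow_two, mp_mul, tau_L2, tau_K4]

/-- every automorphism of `PΩ₈⁺(q)` lies in `Γ ∪ τΓ ∪ τ²Γ` -/
theorem aut_cases (p : ℕ) [Fact p.Prime] [CharP F p] (β : MulAut (Cfsg.POmega F ⇑(Qp 4 F))) :
    β ∈ Cfsg.gammaPOmega F ⇑(Qp 4 F) ∨ (tauQ F)⁻¹ * β ∈ Cfsg.gammaPOmega F ⇑(Qp 4 F) ∨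
      (tauQ F ^ 2)⁻¹ * β ∈ Cfsg.gammaPOmega F ⇑(Qp 4 F) := by
  obtain ⟨L', hL', eL⟩ := exists_image_line (Qp 4 F) hQ4 hn4 p β (isLine_L1 (F := F))
  obtain ⟨K', hK', eK⟩ := exists_image_line (Qp 4 F) hQ4 hn4 p β (isLine_L2 (F := F))
  obtain ⟨n1, n2, n3⟩ := nc_of_A1 (Qp 4 F) hQ4 hn4 p isLine_L1 isLine_L2 (A1_std (F := F))
  have m1 : XB (Qp 4 F) L' ≠ XB (Qp 4 F) K' := by
    rw [← eL, ← eK]
    exact fun h => n1 (mp_injective β h)
  have m2 : Comm (XB (Qp 4 F) L') (XB (Qp 4 F) K') := by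
    rw [← eL, ← eK]
    exact n2.img β
  have m3 : ¬ Adj (rootSub p (Cfsg.POmega F ⇑(Qp 4 F))) (XB (Qp 4 F) L') (XB (Qp 4 F) K') := by
    rw [← eL, ← eK, Adj_mp_iff (rootSub_autInv p)]
    exact n3
  rcases nc_cases (Qp 4 F) hQ4 hn4 p hL' hK' m1 m2 m3 with hA | ⟨hd, hp⟩
  · obtain ⟨g, rfl, rfl⟩ := trans1_std L' K' hL' hK' hA
    left
    have := mem_coset_of_image (Qp 4 F) hQ4 hn4 p isLine_L1 isLine_L2 A1_std trans1_std 1 β
      (mp_one _) (mp_one _) isLine_L2 g eL eK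
    simpa using this
  · obtain ⟨g, rfl, hK⟩ := trans2_std hL' hK' hd hp
    rcases hK with rfl | rfl
    · right; right
      exact mem_coset_of_image (Qp 4 F) hQ4 hn4 p isLine_L1 isLine_L2 A1_std trans1_std
        (tauQ F ^ 2) β tau2_fix1 tau2_L2 isLine_K3 g eL eK
    · right; left
      exact mem_coset_of_image (Qp 4 F) hQ4 hn4 p isLine_L1 isLine_L2 A1_std trans1_std
        (tauQ F) β tau_fix1 tau_L2 isLine_K4 g eL eK

theorem tau_not_mem (p : ℕ) [Fact p.Prime] [CharP F p] :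
    tauQ F ∉ Cfsg.gammaPOmega F ⇑(Qp 4 F) :=
  not_mem_gamma_of_disj (Qp 4 F) hQ4 hn4 p (TSL_ev (by decide) (by decide))
    (TSL_ev (by decide) (by decide)) isLine_K4 (tauQ F) tau_fix1 tau_L2
    (disj_std _ (Or.inr rfl))

theorem tau2_not_mem (p : ℕ) [Fact p.Prime] [CharP F p] :
    tauQ F ^ 2 ∉ Cfsg.gammaPOmega F ⇑(Qp 4 F) :=
  not_mem_gamma_of_disj (Qp 4 F) hQ4 hn4 p (TSL_ev (by decide) (by decide))
    (TSL_ev (by decide) (by decide)) isLine_K3 (tauQ F ^ 2) tau2_fix1 tau2_L2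
    (disj_std _ (Or.inl rfl))

/-- the image of `PΓO₈⁺(q)` has index three in `Aut(PΩ₈⁺(q))` -/
theorem index_gamma4 (p : ℕ) [Fact p.Prime] [CharP F p] :
    (Cfsg.gammaPOmega F ⇑(Qp 4 F)).index = 3 :=
  index_eq_three _ (tauQ F) (aut_cases p) (tau_not_mem p) (tau2_not_mem p)

/-- the order of `Aut(PΩ₈⁺(q))` -/
theorem card_aut_plus4 (p f : ℕ) [Fact p.Prime] (hF : Fintype.card F = p ^ f) :
    Nat.card (MulAut (Cfsg.POmega F ⇑(Qp 4 F))) =
      3 * (if p = 2 then 2 else (if Even (4 * (p ^ f - 1) / 2) then 8 else 4)) * f *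
        Nat.card (Cfsg.POmega F ⇑(Qp 4 F)) := by
  haveI : CharP F p := charP_of_card_eq_prime_pow hF
  rw [← Subgroup.card_mul_index (Cfsg.gammaPOmega F ⇑(Qp 4 F)), index_gamma4 p,
    card_gamma_plus p f hF (le_refl 4)]
  ring

end D4

end Cfsg.Agent.Lib.Helper25.Tri
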