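import Cfsg.Agent.Lib.Helper25.Tri5

set_option autoImplicit false
set_option linter.unusedSectionVars false
set_option linter.unusedVariables false
set_option linter.unusedSimpArgs false

/-!
# Triality, part 6: the field-automorphism homomorphism on the whole of `Aut(PΩ₈⁺(q))`

An automorphism `β` of `PΩ(Q)` is `σ`-semilinear if on every root subgroup it acts as
`x_{u,v}(c) ↦ x_{u',v'}(μ σ(c))`.  Automorphisms induced by semisimilarities and the triality
automorphism are semilinear, the field automorphism is unique, and `β ↦ σ` is a homomorphism.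
-/

namespace Cfsg.Agent.Lib.Helper25.Tri

open Module QuadraticMap Matrix Cfsg.Agent.Lib.Helper25.CD Cfsg.Agent.Lib.Helper25.Siegel
  Cfsg.Agent.Lib.Helper25.AutO Cfsg.Agent.Lib.Helper25.Spin Cfsg.Agent.Lib.Helper25.D4
  Cfsg.Lie Cfsg.Agent.Lib.Helper7 Cfsg.Agent.Lib.Helper25.GraphSplit
  Cfsg.Agent.Lib.Helper25.AutOut Cfsg.Agent.Lib.Helper25.AutPlus

section general

variable {ι : Type} [Fintype ι] [DecidableEq ι] {F : Type*} [Field F] [Fintype F]
  (Q : QuadraticForm F (ι → F)) (hQ : (polarBilin Q).Nondegenerate) (hn : 7 ≤ Fintype.card ι)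

theorem SG_unique {u v : ι → F} (h : TSL Q u v) {c : F} {s : ↥(Cfsg.Omega F ⇑Q)}
    (hs : ∀ x, act Q s x = siegF Q u v c x) : s = SG Q hQ hn h c :=
  act_ext Q (fun x => by rw [hs, act_SG])

theorem SG_basis_change {u v u' v' : ι → F} (h : TSL Q u v) (h' : TSL Q u' v')
    (hu' : u' ∈ Submodule.span F ({u, v} : Set (ι → F)))
    (hv' : v' ∈ Submodule.span F ({u, v} : Set (ι → F))) :
    ∃ d : F, d ≠ 0 ∧ ∀ c, SG Q hQ hn h' c = SG Q hQ hn h (c * d) := by
  obtain ⟨a, b, hab⟩ := Submodule.mem_span_pair.1 hu'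
  obtain ⟨c', d', hcd⟩ := Submodule.mem_span_pair.1 hv'
  have hdet : a * d' - b * c' ≠ 0 := by
    apply h.det_ne_zero
    rw [hab, hcd]
    exact h'.ind
  refine ⟨a * d' - b * c', hdet, fun c => ?_⟩
  symm
  apply SG_unique
  intro x
  rw [act_SG, ← hab, ← hcd, siegF_lin]

theorem conj_SG (k : ↥(Cfsg.Omega F ⇑Q)) {u v : ι → F} (h : TSL Q u v) (c : F) :
    k * SG Q hQ hn h c * k⁻¹ = SG Q hQ hn (h.map Q (act Q k) (Q_act Q k)) c := by
  apply SG_unique
  intro x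
  exact conj_act_siegF Q k _ h.hv (act_SG Q hQ hn h c) x

theorem SG_zero {u v : ι → F} (h : TSL Q u v) : SG Q hQ hn h 0 = 1 := by
  symm
  apply SG_unique
  intro x
  rw [Cfsg.Agent.Lib.Helper25.AutO.act_one]
  unfold siegF
  rw [zero_smul, add_zero]

theorem SG_injective {u v : ι → F} (h : TSL Q u v) {c c' : F}
    (e : SG Q hQ hn h c = SG Q hQ hn h c') : c = c' := by
  obtain ⟨z, hz1, hz2⟩ := h.exists_dual_right Q hQ
  have h1 : act Q (SG Q hQ hn h c) z = act Q (SG Q hQ hn h c') z := by rw [e]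
  rw [act_SG, act_SG] at h1
  unfold siegF at h1
  rw [hz1, hz2, zero_smul, zero_sub, one_smul, smul_neg, smul_neg] at h1
  have h2 : (c - c') • u = 0 := by
    rw [sub_smul]
    have := add_left_cancel h1
    rw [neg_inj] at this
    rw [this, sub_self]
  rcases smul_eq_zero.1 h2 with h3 | h3
  · exact sub_eq_zero.1 h3
  · exact absurd h3 (h.ne_zero_left Q)

theorem prZ_SG_injective (p : ℕ) [Fact p.Prime] [CharP F p] {u v : ι → F} (h : TSL Q u v)
    {c c' : F}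
    (e : prZ ↥(Cfsg.Omega F ⇑Q) (SG Q hQ hn h c) = prZ ↥(Cfsg.Omega F ⇑Q) (SG Q hQ hn h c')) :
    c = c' := by
  apply SG_injective Q hQ hn h
  exact eq_of_prZ_eq p (centerP'_omega Q p hQ hn)
    (XS_pow_p' Q p (h.isLine Q) (SG_mem Q hQ hn h c))
    (XS_pow_p' Q p (h.isLine Q) (SG_mem Q hQ hn h c')) e

/-- `β` acts `σ`-semilinearly on the root subgroups -/
def SemiLin (β : MulAut (Cfsg.POmega F ⇑Q)) (σ : RingAut F) : Prop :=
  ∀ (u v : ι → F) (h : TSL Q u v), ∃ (u' v' : ι → F) (h' : TSL Q u' v') (μ : F),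
    ∀ c : F, β (prZ ↥(Cfsg.Omega F ⇑Q) (SG Q hQ hn h c)) =
      prZ ↥(Cfsg.Omega F ⇑Q) (SG Q hQ hn h' (μ * σ c))

theorem semiLin_one : SemiLin Q hQ hn 1 1 := by
  intro u v h
  exact ⟨u, v, h, 1, fun c => by rw [one_mul]; rfl⟩

theorem SemiLin.mul {β β' : MulAut (Cfsg.POmega F ⇑Q)} {σ σ' : RingAut F}
    (H' : SemiLin Q hQ hn β' σ') (H : SemiLin Q hQ hn β σ) :
    SemiLin Q hQ hn (β' * β) (σ' * σ) := by
  intro u v h
  obtain ⟨u', v', h', μ, e⟩ := H u v h
  obtain ⟨u'', v'', h'', μ', e'⟩ := H' u' v' h'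
  refine ⟨u'', v'', h'', μ' * σ' μ, fun c => ?_⟩
  rw [MulAut.mul_apply, e, e', RingAut.mul_apply, map_mul, mul_assoc]

include hQ hn in
/-- the field automorphism of a semilinear automorphism is unique -/
theorem SemiLin.unique (p : ℕ) [Fact p.Prime] [CharP F p] {β : MulAut (Cfsg.POmega F ⇑Q)}
    {σ σ' : RingAut F} (H : SemiLin Q hQ hn β σ) (H' : SemiLin Q hQ hn β σ') {u v : ι → F}
    (h : TSL Q u v) : σ = σ' := by
  obtain ⟨u', v', h', μ, e⟩ := H u v h
  obtain ⟨u'', v'', h'', μ', e'⟩ := H' u v h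
  have hZ := centerP'_omega Q p hQ hn
  have hpow : ∀ {a b : ι → F} (k : TSL Q a b) (c : F), SG Q hQ hn k c ^ p ^ 1 = 1 :=
    fun k c => XS_pow_p' Q p (k.isLine Q) (SG_mem Q hQ hn k c)
  -- `μ ≠ 0`
  have hμ : μ ≠ 0 := by
    intro h0
    have h1 := e 1
    rw [h0, zero_mul, SG_zero, map_one] at h1
    have h2 : prZ ↥(Cfsg.Omega F ⇑Q) (SG Q hQ hn h 1) = 1 := by
      apply β.injective
      rw [h1, map_one]
    exact ne_one_of_prZ p hZ (hpow h 1) (SG_ne_one Q hQ hn h) h2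
  -- the two image lines coincide
  have hs : SG Q hQ hn h' μ = SG Q hQ hn h'' μ' := by
    have h1 := e 1
    have h2 := e' 1
    rw [map_one, mul_one] at h1 h2
    exact eq_of_prZ_eq p hZ (hpow h' μ) (hpow h'' μ') (h1.symm.trans h2)
  have hmem : SG Q hQ hn h' μ ∈ XS Q (Submodule.span F ({u'', v''} : Set (ι → F))) := by
    rw [hs]
    exact SG_mem Q hQ hn h'' μ'
  have hle : Submodule.span F ({u', v'} : Set (ι → F)) ≤
      Submodule.span F ({u'', v''} : Set (ι → F)) := by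
    rw [Submodule.span_le]
    intro x hx
    rcases hx with rfl | rfl
    · obtain ⟨z, hz⟩ := siegF_image_left Q hQ h' hμ
      rw [← hz, ← act_SG Q hQ hn h']
      exact act_sub_mem_of_mem_XS Q (h''.isLine Q) hmem z
    · obtain ⟨z, hz⟩ := siegF_image_right Q hQ h' hμ
      rw [← hz, ← act_SG Q hQ hn h']
      exact act_sub_mem_of_mem_XS Q (h''.isLine Q) hmem z
  have hLL := (h'.isLine Q).eq_of_le Q (h''.isLine Q) hle
  obtain ⟨d, hd, hch⟩ := SG_basis_change Q hQ hn h' h''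
    (by rw [hLL]; exact Submodule.subset_span (by simp))
    (by rw [hLL]; exact Submodule.subset_span (by simp))
  have key : ∀ c : F, μ * σ c = μ' * σ' c * d := by
    intro c
    apply prZ_SG_injective Q hQ hn p h'
    rw [← e c, e' c, hch]
  have k1 := key 1
  rw [map_one, map_one, mul_one, mul_one] at k1
  ext c
  have k2 := key c
  rw [k1] at k2
  have hμ' : μ' * d ≠ 0 := by rw [← k1]; exact hμ
  apply mul_left_cancel₀ hμ'
  rw [k2]
  ring

variable {g : GL ι F} {σ : F ≃+* F} (hp : Cfsg.IsSemisimilarityPair (⇑Q) g σ)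

include hp in
theorem act_semiOmega_siegF {c : Fˣ} (hc : ∀ v, Q (semiMap g σ v) = (c : F) * σ (Q v))
    {u v : ι → F} {t : F} {s : ↥(Cfsg.Omega F ⇑Q)} (hs : ∀ x, act Q s x = siegF Q u v t x)
    (y : ι → F) :
    act Q (semiOmega (⇑Q) hp s) y =
      siegF Q (semiMap g σ u) (semiMap g σ v) ((c : F)⁻¹ * σ t) y := by
  obtain ⟨w, rfl⟩ := semiMap_surjective g σ y
  have e1 : act Q (semiOmega (⇑Q) hp s) (semiMap g σ w) = semiMap g σ (act Q s w) := by
    show ((semiOmega (⇑Q) hp s).1.1 : Matrix ι ι F) *ᵥ semiMap g σ w = _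
    rw [semiOmega_val]
    exact semiMap_conj g s.1.1 σ w
  rw [e1, hs]
  unfold siegF
  rw [semiMap_add, semiMap_smul, polar_semiMap Q hc, polar_semiMap Q hc]
  have e2 : semiMap g σ (polar Q u w • v - polar Q v w • u) =
      σ (polar Q u w) • semiMap g σ v - σ (polar Q v w) • semiMap g σ u := by
    rw [sub_eq_add_neg, ← neg_smul, semiMap_add, semiMap_smul, semiMap_smul, map_neg, neg_smul,
      ← sub_eq_add_neg]
  rw [e2]
  have hc0 : (c : F) ≠ 0 := c.ne_zero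
  congr 1
  rw [smul_sub, smul_sub, smul_smul, smul_smul, smul_smul, smul_smul]
  congr 2
  · field_simp
  · field_simp

include hp in
/-- automorphisms induced by semisimilarities are semilinear -/
theorem semiLin_of_induced {β : MulAut (Cfsg.POmega F ⇑Q)}
    (hind : Cfsg.IsInducedBySemilinearPOmega (⇑Q) g σ β) : SemiLin Q hQ hn β σ := by
  obtain ⟨c, hc⟩ := pair_apply (⇑Q) hp
  intro u v h
  refine ⟨semiMap g σ u, semiMap g σ v, TSL_semiMap Q hc h, (c : F)⁻¹, fun t => ?_⟩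
  show β (QuotientGroup.mk (SG Q hQ hn h t)) = _
  rw [induced_mk (⇑Q) hp hind]
  congr 1
  apply SG_unique
  intro y
  exact act_semiOmega_siegF Q hp hc (act_SG Q hQ hn h t) y


/-- semilinearity at a single root subgroup -/
def SemiLinAt (β : MulAut (Cfsg.POmega F ⇑Q)) (σ : RingAut F) {u v : ι → F} (h : TSL Q u v) :
    Prop :=
  ∃ (u' v' : ι → F) (h' : TSL Q u' v') (μ : F),
    ∀ c : F, β (prZ ↥(Cfsg.Omega F ⇑Q) (SG Q hQ hn h c)) =
      prZ ↥(Cfsg.Omega F ⇑Q) (SG Q hQ hn h' (μ * σ c))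

/-- semilinearity is transported along the action of `Ω` on the lines -/
theorem semiLinAt_transport {β : MulAut (Cfsg.POmega F ⇑Q)} {σ : RingAut F} {u0 v0 : ι → F}
    {h0 : TSL Q u0 v0} (H : SemiLinAt Q hQ hn β σ h0) (g : ↥(Cfsg.Omega F ⇑Q)) {u v : ι → F}
    (h : TSL Q u v)
    (hu : u ∈ Submodule.span F ({act Q g u0, act Q g v0} : Set (ι → F)))
    (hv : v ∈ Submodule.span F ({act Q g u0, act Q g v0} : Set (ι → F))) :
    SemiLinAt Q hQ hn β σ h := by
  obtain ⟨u', v', h', μ, e⟩ := H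
  obtain ⟨d, hd, hch⟩ := SG_basis_change Q hQ hn (h0.map Q (act Q g) (Q_act Q g)) h hu hv
  obtain ⟨k, hk⟩ := QuotientGroup.mk_surjective (β (prZ ↥(Cfsg.Omega F ⇑Q) g))
  refine ⟨act Q k u', act Q k v', h'.map Q (act Q k) (Q_act Q k), μ * σ d, fun c => ?_⟩
  have hk' : prZ ↥(Cfsg.Omega F ⇑Q) k = β (prZ ↥(Cfsg.Omega F ⇑Q) g) := hk
  rw [hch, ← conj_SG Q hQ hn g h0, ← conj_SG Q hQ hn k h', map_mul, map_mul, map_mul, map_mul, map_inv, map_inv,
    e, ← hk', map_mul, mul_assoc μ, mul_comm (σ d), map_mul, map_mul, map_inv]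

end general

section D4

variable {F : Type*} [Field F] [Fintype F]

/-- every totally singular line is an `Ω`-image of the standard line `⟨e₀, e₁⟩` -/
theorem exists_to_L1 {u v : I8 → F} (h : TSL (Qp 4 F) u v) :
    ∃ g : ↥(Cfsg.Omega F ⇑(Qp 4 F)),
      u ∈ Submodule.span F ({act (Qp 4 F) g (ev (Sum.inl 0)),
        act (Qp 4 F) g (ev (Sum.inl 1))} : Set (I8 → F)) ∧
      v ∈ Submodule.span F ({act (Qp 4 F) g (ev (Sum.inl 0)),
        act (Qp 4 F) g (ev (Sum.inl 1))} : Set (I8 → F)) := by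
  obtain ⟨hQa, hQv, hbav⟩ := TSL_data h
  have hind : ∀ c : F, v ≠ c • u := by
    intro c hc
    have := h.ind c (-1) (by rw [hc]; simp)
    simpa using this.2
  obtain ⟨h1, hh1, c1, e1, e2⟩ := T0v (h.ne_zero_left _) hQa hQv hbav hind
  obtain ⟨g1, hg1⟩ := exists_omega_lift hh1
  have eL1 : mapL (Qp 4 F) g1 (Submodule.span F ({u, v} : Set (I8 → F))) =
      Lab F (Sum.inl 0) (Sum.inl 1) := by
    rw [mapL_span_pair, hg1, hg1, e1, e2, span_pair_add_smul]
  have eL2 : Submodule.span F ({u, v} : Set (I8 → F)) =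
      Submodule.span F ({act (Qp 4 F) g1⁻¹ (ev (Sum.inl 0)),
        act (Qp 4 F) g1⁻¹ (ev (Sum.inl 1))} : Set (I8 → F)) := by
    rw [← mapL_span_pair]
    show _ = mapL (Qp 4 F) g1⁻¹ (Lab F (Sum.inl 0) (Sum.inl 1))
    rw [← eL1, mapL_inv_mapL]
  refine ⟨g1⁻¹, ?_, ?_⟩
  · rw [← eL2]; exact Submodule.subset_span (by simp)
  · rw [← eL2]; exact Submodule.subset_span (by simp)

/-- semilinearity on the standard root subgroup implies semilinearity -/
theorem semiLin_of_std {β : MulAut (Cfsg.POmega F ⇑(Qp 4 F))} {σ : RingAut F}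
    (H : SemiLinAt (Qp 4 F) hQ4 hn4 β σ
      (TSL_ev (F := F) (a := Sum.inl 0) (b := Sum.inl 1) (by decide) (by decide))) :
    SemiLin (Qp 4 F) hQ4 hn4 β σ := by
  intro u v h
  obtain ⟨g, hu, hv⟩ := exists_to_L1 h
  exact semiLinAt_transport (Qp 4 F) hQ4 hn4 H g h hu hv

/-- the Siegel elements of the standard lines are the root elements -/
theorem SG_ev_eq_ErQ (r : Fin chevD4.nroots) (c : F) :
    SG (Qp 4 F) hQ4 hn4 (TSL_ev (F := F) (rootPair_ok r).2 (rootPair_ok r).1) c =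
      ErQ r (((eps r.val : ℤ) : F) * (-c)) := by
  symm
  apply SG_unique
  intro x
  show ((ErQ r (((eps r.val : ℤ) : F) * (-c))).1.1 : GL I8 F).val *ᵥ x = _
  rw [ErQ_val, ← Eab_eq_Eroot r (rootPair_ok r).1, Eab_mulVec, siegF_ev]
  module

theorem eps_sq : ∀ r : Fin chevD4.nroots, eps r.val * eps r.val = 1 := by decide

/-- triality is semilinear with trivial field automorphism -/
theorem semiLin_tau : SemiLin (Qp 4 F) hQ4 hn4 (tauQ F) 1 := by
  apply semiLin_of_std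
  refine ⟨ev (Sum.inl 0), ev (Sum.inl 1), TSL_ev (by decide) (by decide), 1, fun c => ?_⟩
  have e1 := SG_ev_eq_ErQ (F := F) r23 c
  have e2 : (((eps r23.val : ℤ) : F)) = -1 := by
    have : eps r23.val = -1 := by decide
    rw [this]; simp
  have e3 : ((grEps_D4_1.getD r23.val 0 : ℤ) : F) = 1 := by
    have : grEps_D4_1.getD r23.val 0 = 1 := by decide
    rw [this]; simp
  rw [e2] at e1
  have e1' : SG (Qp 4 F) hQ4 hn4
      (TSL_ev (F := F) (a := Sum.inl 0) (b := Sum.inl 1) (by decide) (by decide)) c =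
      ErQ r23 c := by
    refine e1.trans ?_
    congr 1
    ring
  rw [one_mul]
  show tauQ F (prZ _ (SG (Qp 4 F) hQ4 hn4 _ c)) = prZ _ (SG (Qp 4 F) hQ4 hn4 _ c)
  rw [e1', tauQ_ErQ, rho1_r23, e3, one_mul]

theorem semiLin_of_mem_gamma {γ : MulAut (Cfsg.POmega F ⇑(Qp 4 F))}
    (hγ : γ ∈ Cfsg.gammaPOmega F ⇑(Qp 4 F)) : ∃ σ : RingAut F, SemiLin (Qp 4 F) hQ4 hn4 γ σ := by
  obtain ⟨g, σ, hp, hind⟩ := (mem_gamma_iff (Qp 4 F)).1 hγ
  exact ⟨σ, semiLin_of_induced (Qp 4 F) hQ4 hn4 hp hind⟩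

/-- every automorphism of `PΩ₈⁺(q)` is semilinear -/
theorem exists_semiLin (p : ℕ) [Fact p.Prime] [CharP F p]
    (β : MulAut (Cfsg.POmega F ⇑(Qp 4 F))) : ∃ σ : RingAut F, SemiLin (Qp 4 F) hQ4 hn4 β σ := by
  rcases aut_cases p β with h | h | h
  · exact semiLin_of_mem_gamma h
  · obtain ⟨σ, hσ⟩ := semiLin_of_mem_gamma h
    refine ⟨1 * σ, ?_⟩
    have := SemiLin.mul (Qp 4 F) hQ4 hn4 semiLin_tau hσ
    rwa [mul_inv_cancel_left] at this
  · obtain ⟨σ, hσ⟩ := semiLin_of_mem_gamma h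
    refine ⟨1 * 1 * σ, ?_⟩
    have h2 : SemiLin (Qp 4 F) hQ4 hn4 (tauQ F ^ 2) (1 * 1) := by
      rw [pow_two]
      exact SemiLin.mul (Qp 4 F) hQ4 hn4 semiLin_tau semiLin_tau
    have := SemiLin.mul (Qp 4 F) hQ4 hn4 h2 hσ
    rwa [mul_inv_cancel_left] at this

/-- the field automorphism of an automorphism of `PΩ₈⁺(q)` -/
noncomputable def fieldHomA (p : ℕ) [Fact p.Prime] [CharP F p] :
    MulAut (Cfsg.POmega F ⇑(Qp 4 F)) →* RingAut F where
  toFun β := (exists_semiLin p β).choose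
  map_one' :=
    SemiLin.unique (Qp 4 F) hQ4 hn4 p (exists_semiLin p 1).choose_spec
      (semiLin_one (Qp 4 F) hQ4 hn4)
      (TSL_ev (F := F) (a := Sum.inl 0) (b := Sum.inl 1) (by decide) (by decide))
  map_mul' β β' :=
    SemiLin.unique (Qp 4 F) hQ4 hn4 p (exists_semiLin p (β * β')).choose_spec
      (SemiLin.mul (Qp 4 F) hQ4 hn4 (exists_semiLin p β).choose_spec
        (exists_semiLin p β').choose_spec)
      (TSL_ev (F := F) (a := Sum.inl 0) (b := Sum.inl 1) (by decide) (by decide))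

theorem fieldHomA_eq (p : ℕ) [Fact p.Prime] [CharP F p] {β : MulAut (Cfsg.POmega F ⇑(Qp 4 F))}
    {σ : RingAut F} (H : SemiLin (Qp 4 F) hQ4 hn4 β σ) : fieldHomA p β = σ :=
  SemiLin.unique (Qp 4 F) hQ4 hn4 p (exists_semiLin p β).choose_spec H
    (TSL_ev (F := F) (a := Sum.inl 0) (b := Sum.inl 1) (by decide) (by decide))

theorem fieldHomA_tau (p : ℕ) [Fact p.Prime] [CharP F p] : fieldHomA p (tauQ F) = 1 :=
  fieldHomA_eq p semiLin_tau

theorem fieldHomA_gamma (p : ℕ) [Fact p.Prime] [CharP F p]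
    (γ : ↥(Cfsg.gammaPOmega F ⇑(Qp 4 F))) :
    fieldHomA p γ.1 = fieldHomG (Qp 4 F) hQ4 hn4 γ := by
  obtain ⟨g, σ, hp, hind⟩ := (mem_gamma_iff (Qp 4 F)).1 γ.2
  rw [fieldHomG_eq (Qp 4 F) hQ4 hn4 hp hind]
  exact fieldHomA_eq p (semiLin_of_induced (Qp 4 F) hQ4 hn4 hp hind)

theorem fieldHomA_surjective (p : ℕ) [Fact p.Prime] [CharP F p] :
    Function.Surjective (fieldHomA (F := F) p) := by
  intro σ
  obtain ⟨γ, hγ⟩ := fieldHomG_surjective (Qp 4 F) hQ4 hn4 plus_semisim σ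
  exact ⟨γ.1, by rw [fieldHomA_gamma, hγ]⟩

end D4

end Cfsg.Agent.Lib.Helper25.Tri
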