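import Cfsg.Agent.Lib.Helper25.Tri6

set_option autoImplicit false
set_option linter.unusedSectionVars false
set_option linter.unusedVariables false
set_option linter.unusedSimpArgs false

/-!
# Triality, part 7: `Out(PΩ₈⁺(2^f)) ≅ S₃ × C_f`

The homomorphism `Θ = (Θ₁, Θ₂)` from `Aut(PΩ₈⁺(q))` to `Sym(Aut/Γ) × Aut(F)`, where `Θ₁` is the
action on the three cosets of the image `Γ` of `PΓO₈⁺(q)` and `Θ₂` the field automorphism, has
kernel `Inn` in characteristic two.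
-/

namespace Cfsg.Agent.Lib.Helper25.Tri

open Module QuadraticMap Matrix Cfsg.Agent.Lib.Helper25.CD Cfsg.Agent.Lib.Helper25.Siegel
  Cfsg.Agent.Lib.Helper25.AutO Cfsg.Agent.Lib.Helper25.Spin Cfsg.Agent.Lib.Helper25.D4
  Cfsg.Lie Cfsg.Agent.Lib.Helper7 Cfsg.Agent.Lib.Helper25.GraphSplit
  Cfsg.Agent.Lib.Helper25.AutOut Cfsg.Agent.Lib.Helper25.AutPlus Cfsg.Agent.Lib.Helper25.PSim

section abstract

/-- a homomorphism with kernel `N` onto a group of the right order identifies the quotient -/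
theorem quot_equiv_of_ker {A : Type*} [Group A] [Finite A] (N : Subgroup A) [N.Normal]
    {T : Type*} [Group T] [Finite T] (Θ : A →* T) (hker : Θ.ker = N)
    (hcard : Nat.card A = Nat.card N * Nat.card T) : Nonempty (A ⧸ N ≃* T) := by
  have h1 := Subgroup.card_mul_index Θ.ker
  rw [Subgroup.index_ker, hker, hcard] at h1
  have hN : 0 < Nat.card N := Nat.card_pos
  have h2 : Nat.card Θ.range = Nat.card T := Nat.eq_of_mul_eq_mul_left hN h1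
  have h3 : Θ.range = ⊤ := (Subgroup.card_eq_iff_eq_top _).1 h2
  have hs : Function.Surjective Θ := MonoidHom.range_eq_top.1 h3
  exact ⟨(QuotientGroup.quotientMulEquivOfEq hker.symm).trans
    (QuotientGroup.quotientKerEquivOfSurjective Θ hs)⟩

end abstract

section D4

variable {F : Type*} [Field F] [Fintype F]

theorem Sw_mem_sim : (Sw : GL I8 F) ∈ Cfsg.Geo.quadSimilarityGroup (F := F) ⇑(Qp 4 F) :=
  ⟨1, fun v => by
    rw [Units.val_one, one_mul]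
    exact (mem_O8_iff Sw).1 Sw_mem_O8 v⟩

/-- the automorphism of `PΩ₈⁺(q)` induced by the reflection swapping `e₄` and `f₄` -/
noncomputable def reflA (F : Type*) [Field F] [Fintype F] : MulAut (Cfsg.POmega F ⇑(Qp 4 F)) :=
  theta (⇑(Qp 4 F)) ⟨Sw, Sw_mem_sim⟩

theorem reflA_mem_pgo : reflA F ∈ Cfsg.pgoAut F ⇑(Qp 4 F) := by
  rw [pgoAut_eq]
  exact ⟨_, rfl⟩

theorem semiMap_Sw_ev (a : I8) :
    semiMap (Sw : GL I8 F) (RingEquiv.refl F) (ev a) = ev (sig a) := by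
  funext c
  show ((Sw : GL I8 F).val *ᵥ (ev a : I8 → F)) c = _
  rw [Sw_mulVec, ev_apply, ev_apply]
  by_cases h : c = sig a
  · rw [if_pos h, if_pos (by rw [h, sig_sig])]
  · rw [if_neg h, if_neg (fun h' => h (by rw [← h', sig_sig]))]

/-- the reflection automorphism permutes the standard root subgroups -/
theorem reflA_XB (p : ℕ) [Fact p.Prime] [CharP F p] {a b : I8} (hab : a ≠ b) (hab' : a ≠ op b) :
    mp (reflA F) (XB (Qp 4 F) (Lab F a b)) = XB (Qp 4 F) (Lab F (sig a) (sig b)) := by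
  have hp : Cfsg.IsSemisimilarityPair (⇑(Qp 4 F)) (Sw : GL I8 F) (RingEquiv.refl F) :=
    pair_of_sim _ Sw_mem_sim
  have hind : Cfsg.IsInducedBySemilinearPOmega (⇑(Qp 4 F)) (Sw : GL I8 F) (RingEquiv.refl F)
      (reflA F) := (induced_iff _ Sw Sw_mem_sim _).2 rfl
  have hc : ∀ v, Qp 4 F (semiMap (Sw : GL I8 F) (RingEquiv.refl F) v) =
      ((1 : Fˣ) : F) * (RingEquiv.refl F) (Qp 4 F v) := by
    intro v
    rw [Units.val_one, one_mul]
    exact (mem_O8_iff Sw).1 Sw_mem_O8 v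
  have := induced_XB (Qp 4 F) hQ4 hn4 hp p hc hind (TSL_ev (F := F) hab hab')
  rw [semiMap_Sw_ev, semiMap_Sw_ev] at this
  exact this

theorem sig_fix : ∀ c : I8, c ≠ Sum.inl 3 → c ≠ Sum.inr 3 → sig c = c := by decide

theorem tau_inv_fix1 : mp (tauQ F)⁻¹ (XB (Qp 4 F) (Lab F (Sum.inl 0) (Sum.inl 1))) =
    XB (Qp 4 F) (Lab F (Sum.inl 0) (Sum.inl 1)) := by
  conv_lhs => rw [← tau_fix1 (F := F)]
  exact mp_inv_mp _ _

/-- `τ⁻¹ r τ² ∈ Γ` -/
theorem conj_refl_mem (p : ℕ) [Fact p.Prime] [CharP F p] :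
    (tauQ F)⁻¹ * reflA F * tauQ F ^ 2 ∈ Cfsg.gammaPOmega F ⇑(Qp 4 F) := by
  apply mem_gamma_of_fix (Qp 4 F) hQ4 hn4 p isLine_L1 isLine_L2 A1_std trans1_std
  · rw [mp_mul, mp_mul, tau2_fix1, reflA_XB p (by decide) (by decide),
      sig_fix _ (by decide) (by decide), sig_fix _ (by decide) (by decide), tau_inv_fix1]
  · rw [mp_mul, mp_mul, tau2_L2, reflA_XB p (by decide) (by decide),
      sig_fix _ (by decide) (by decide)]
    have : sig (Sum.inl 3) = Sum.inr 3 := by decide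
    rw [this, ← tau_L2 (F := F)]
    exact mp_inv_mp _ _

/-- the action on the cosets of `Γ` -/
noncomputable def Theta1 (F : Type*) [Field F] [Fintype F] :
    MulAut (Cfsg.POmega F ⇑(Qp 4 F)) →*
      Equiv.Perm (MulAut (Cfsg.POmega F ⇑(Qp 4 F)) ⧸ Cfsg.gammaPOmega F ⇑(Qp 4 F)) :=
  MulAction.toPermHom _ _

theorem Theta1_mk (β a : MulAut (Cfsg.POmega F ⇑(Qp 4 F))) :
    Theta1 F β (QuotientGroup.mk a) = QuotientGroup.mk (β * a) := rfl

theorem mem_gamma_of_Theta1 {β : MulAut (Cfsg.POmega F ⇑(Qp 4 F))} (h : Theta1 F β = 1) :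
    β ∈ Cfsg.gammaPOmega F ⇑(Qp 4 F) := by
  have h1 := Theta1_mk β 1
  rw [h, Equiv.Perm.one_apply, mul_one] at h1
  have := QuotientGroup.eq.1 h1
  rwa [inv_one, one_mul] at this

theorem Theta1_inn (x : Cfsg.POmega F ⇑(Qp 4 F)) : Theta1 F (MulAut.conj x) = 1 := by
  ext y
  induction y using QuotientGroup.induction_on with
  | H a =>
    rw [Theta1_mk, Equiv.Perm.one_apply]
    symm
    apply QuotientGroup.eq.2
    have e : a⁻¹ * (MulAut.conj x * a) = a⁻¹ * MulAut.conj x * a⁻¹⁻¹ := by group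
    rw [e, conj_mul_conj]
    exact conj_mem_gamma _ _

theorem Theta1_refl_ne_one (p : ℕ) [Fact p.Prime] [CharP F p] : Theta1 F (reflA F) ≠ 1 := by
  intro h
  have h1 := Theta1_mk (reflA F) (tauQ F ^ 2)
  rw [h, Equiv.Perm.one_apply] at h1
  have h2 : (QuotientGroup.mk (tauQ F) :
      MulAut (Cfsg.POmega F ⇑(Qp 4 F)) ⧸ Cfsg.gammaPOmega F ⇑(Qp 4 F)) =
      QuotientGroup.mk (reflA F * tauQ F ^ 2) := by
    apply QuotientGroup.eq.2
    have := conj_refl_mem (F := F) p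
    rwa [mul_assoc] at this
  have h3 := QuotientGroup.eq.1 (h2.trans h1.symm)
  have e : (tauQ F)⁻¹ * tauQ F ^ 2 = tauQ F := by group
  rw [e] at h3
  exact tau_not_mem p h3

/-- the homomorphism `Θ` -/
noncomputable def ThetaA (p : ℕ) [Fact p.Prime] [CharP F p] :
    MulAut (Cfsg.POmega F ⇑(Qp 4 F)) →*
      Equiv.Perm (MulAut (Cfsg.POmega F ⇑(Qp 4 F)) ⧸ Cfsg.gammaPOmega F ⇑(Qp 4 F)) × RingAut F :=
  (Theta1 F).prod (fieldHomA p)

theorem fieldHomA_of_pgo (p : ℕ) [Fact p.Prime] [CharP F p]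
    {β : MulAut (Cfsg.POmega F ⇑(Qp 4 F))} (h : β ∈ Cfsg.pgoAut F ⇑(Qp 4 F)) :
    fieldHomA p β = 1 := by
  have hγ : β ∈ Cfsg.gammaPOmega F ⇑(Qp 4 F) := pgoAut_le_gamma _ h
  have h1 := fieldHomA_gamma p ⟨β, hγ⟩
  rw [h1]
  have : (⟨β, hγ⟩ : ↥(Cfsg.gammaPOmega F ⇑(Qp 4 F))) ∈ (fieldHomG (Qp 4 F) hQ4 hn4).ker := by
    rw [fieldHomG_ker, Subgroup.mem_subgroupOf]
    exact h
  exact this

theorem inn_le_ker_ThetaA (p : ℕ) [Fact p.Prime] [CharP F p] :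
    Cfsg.Inn (Cfsg.POmega F ⇑(Qp 4 F)) ≤ (ThetaA (F := F) p).ker := by
  rintro _ ⟨x, rfl⟩
  rw [MonoidHom.mem_ker]
  unfold ThetaA
  rw [MonoidHom.prod_apply, Prod.mk_eq_one]
  exact ⟨Theta1_inn x, fieldHomA_of_pgo p (inn_le_pgoAut _ trivial ⟨x, rfl⟩)⟩

/-- in characteristic two the kernel of `Θ` is `Inn` -/
theorem ker_ThetaA_two [CharP F 2] :
    (ThetaA (F := F) 2).ker = Cfsg.Inn (Cfsg.POmega F ⇑(Qp 4 F)) := by
  apply le_antisymm _ (inn_le_ker_ThetaA 2)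
  intro β hβ
  rw [MonoidHom.mem_ker] at hβ
  unfold ThetaA at hβ
  rw [MonoidHom.prod_apply, Prod.mk_eq_one] at hβ
  obtain ⟨hβ1, hβ2⟩ := hβ
  have hγ := mem_gamma_of_Theta1 hβ1
  rw [fieldHomA_gamma 2 ⟨β, hγ⟩] at hβ2
  have hker : (⟨β, hγ⟩ : ↥(Cfsg.gammaPOmega F ⇑(Qp 4 F))) ∈
      (fieldHomG (Qp 4 F) hQ4 hn4).ker := hβ2
  rw [fieldHomG_ker, Subgroup.mem_subgroupOf] at hker
  have hβP : β ∈ Cfsg.pgoAut F ⇑(Qp 4 F) := hker
  have hidx : (Cfsg.Inn (Cfsg.POmega F ⇑(Qp 4 F))).relIndex (Cfsg.pgoAut F ⇑(Qp 4 F)) = 2 :=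
    relIndex_inn_pgo_char2 (Qp 4 F) hQ4 hn4
  by_contra hβI
  have hrI : reflA F ∉ Cfsg.Inn (Cfsg.POmega F ⇑(Qp 4 F)) := by
    rintro ⟨x, hx⟩
    apply Theta1_refl_ne_one (F := F) 2
    rw [← hx]
    exact Theta1_inn x
  have hmul := Subgroup.mul_mem_iff_of_index_two hidx
    (a := (⟨(reflA F)⁻¹, inv_mem reflA_mem_pgo⟩ : ↥(Cfsg.pgoAut F ⇑(Qp 4 F))))
    (b := (⟨β, hβP⟩ : ↥(Cfsg.pgoAut F ⇑(Qp 4 F))))
  have hmem : (reflA F)⁻¹ * β ∈ Cfsg.Inn (Cfsg.POmega F ⇑(Qp 4 F)) := by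
    have : (⟨(reflA F)⁻¹, inv_mem reflA_mem_pgo⟩ * ⟨β, hβP⟩ : ↥(Cfsg.pgoAut F ⇑(Qp 4 F))) ∈
        (Cfsg.Inn (Cfsg.POmega F ⇑(Qp 4 F))).subgroupOf (Cfsg.pgoAut F ⇑(Qp 4 F)) := by
      rw [hmul, Subgroup.mem_subgroupOf, Subgroup.mem_subgroupOf]
      constructor
      · intro h
        exact absurd (inv_mem_iff.1 h) hrI
      · intro h
        exact absurd h hβI
    exact this
  obtain ⟨x, hx⟩ := hmem
  have h1 : Theta1 F ((reflA F)⁻¹ * β) = 1 := by rw [← hx]; exact Theta1_inn x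
  rw [map_mul, hβ1, mul_one, map_inv, inv_eq_one] at h1
  exact Theta1_refl_ne_one (F := F) 2 h1

end D4

end Cfsg.Agent.Lib.Helper25.Tri
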