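import Cfsg.Agent.Lib.Helper25.Tri7

set_option autoImplicit false
set_option linter.unusedSectionVars false
set_option linter.unusedVariables false
set_option linter.unusedSimpArgs false

/-!
# Triality, part 8: diagonal automorphisms of `PΩ₈⁺(q)` and their conjugates under triality

* root elements generate `PΩ₈⁺(q)`: automorphisms are determined by their values on them;
* the automorphism `θ(ν^x)` induced by the diagonal similarity with exponent vector `x`;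
* triality conjugates `θ(ν^x)` to `θ(ν^x')` when the characters on the roots correspond.
-/

namespace Cfsg.Agent.Lib.Helper25.Tri

open Module QuadraticMap Matrix Cfsg.Agent.Lib.Helper25.CD Cfsg.Agent.Lib.Helper25.Siegel
  Cfsg.Agent.Lib.Helper25.AutO Cfsg.Agent.Lib.Helper25.Spin Cfsg.Agent.Lib.Helper25.D4
  Cfsg.Lie Cfsg.Agent.Lib.Helper7 Cfsg.Agent.Lib.Helper25.GraphSplit
  Cfsg.Agent.Lib.Helper25.AutOut Cfsg.Agent.Lib.Helper25.AutPlus Cfsg.Agent.Lib.Helper25.PSim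

section gen

variable {F : Type*} [Field F] [Fintype F]

/-- automorphisms of `PΩ₈⁺(q)` agreeing on the root elements are equal -/
theorem aut_ext_root {α β : MulAut (Cfsg.POmega F ⇑(Qp 4 F))}
    (h : ∀ (r : Fin chevD4.nroots) (t : F),
      α (prZ ↥(Cfsg.Omega F ⇑(Qp 4 F)) (ErQ r t)) = β (prZ ↥(Cfsg.Omega F ⇑(Qp 4 F)) (ErQ r t))) :
    α = β := by
  obtain ⟨PhiQ, hPhiQ⟩ : ∃ P : Cfsg.POmega F ⇑(Qp 4 F) ≃* ↥(chevD4.group F),
      ∀ (r : Fin chevD4.nroots) (t : F), P (prZ ↥(Cfsg.Omega F ⇑(Qp 4 F)) (ErQ r t)) =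
        Phi (QuotientGroup.mk (ErO r t)) := ⟨Phi, fun _ _ => rfl⟩
  apply MulEquiv.ext
  intro x
  obtain ⟨y, rfl⟩ := PhiQ.symm.surjective x
  obtain ⟨y, hy⟩ := y
  refine Subgroup.closure_induction
    (p := fun z hz => α (PhiQ.symm ⟨z, hz⟩) = β (PhiQ.symm ⟨z, hz⟩)) ?_ ?_ ?_ ?_ hy
  · rintro z ⟨r, t, hrt⟩
    have e' : PhiQ.symm ⟨z, Subgroup.subset_closure ⟨r, t, hrt⟩⟩ =
        prZ ↥(Cfsg.Omega F ⇑(Qp 4 F)) (ErQ r t) := by
      rw [MulEquiv.symm_apply_eq, hPhiQ]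
      apply Subtype.ext
      apply Units.ext
      rw [Phi_ErO, x_eq_xMat chevD4 F r.val r.isLt]
      exact hrt
    rw [e']
    exact h r t
  · have e : (⟨1, Subgroup.one_mem _⟩ : ↥(chevD4.group F)) = 1 := rfl
    rw [e, map_one, map_one, map_one]
  · intro a b ha hb iha ihb
    have e : (⟨a * b, Subgroup.mul_mem _ ha hb⟩ : ↥(chevD4.group F)) = ⟨a, ha⟩ * ⟨b, hb⟩ := rfl
    rw [e, map_mul, map_mul, map_mul, iha, ihb]
  · intro a ha iha
    have e : (⟨a⁻¹, Subgroup.inv_mem _ ha⟩ : ↥(chevD4.group F)) = ⟨a, ha⟩⁻¹ := rfl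
    rw [e, map_inv, map_inv, map_inv, iha]

end gen

section diag

variable {F : Type*} [Field F] [Fintype F]

/-- conjugation of root elements by diagonal similarities -/
theorem diagU_mul_Eab' (μ : I8 → Fˣ) (κ : Fˣ) (hμ : ∀ c, μ c * μ (op c) = κ) (a b : I8)
    (h : a ≠ op b) (t : F) :
    diagU μ * Eab a b h t = Eab a b h (μ a * μ b * (κ : F)⁻¹ * t) * diagU μ := by
  apply GL_ext_mulVec
  intro x
  funext c
  rw [val_mul_mulVec, val_mul_mulVec, diagU_mulVec, Eab_mulVec_apply, Eab_mulVec_apply, diagU_mulVec,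
    diagU_mulVec, diagU_mulVec]
  have ha : (μ a : F) * (μ (op a) : F) = κ := by rw [← Units.val_mul, hμ]
  have hb : (μ b : F) * (μ (op b) : F) = κ := by rw [← Units.val_mul, hμ]
  have hκ : (κ : F) ≠ 0 := Units.ne_zero _
  by_cases hca : c = a
  · by_cases hcb : c = b
    · subst hca; subst hcb
      simp only [if_true]
      field_simp
      linear_combination (t * x (op c) * (μ c : F) - t * x (op c) * (μ c : F)) * ha
    · subst hca
      simp only [if_true, if_neg hcb]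
      field_simp
      linear_combination (-(t * x (op b))) * hb
  · by_cases hcb : c = b
    · subst hcb
      simp only [if_true, if_neg hca]
      field_simp
      linear_combination (t * x (op a)) * ha
    · simp only [if_neg hca, if_neg hcb]
      ring

theorem diagU_mem_sim (μ : I8 → Fˣ) (κ : Fˣ) (hμ : ∀ c, μ c * μ (op c) = κ) :
    diagU μ ∈ Cfsg.Geo.quadSimilarityGroup (F := F) ⇑(Qp 4 F) := by
  refine ⟨κ, fun x => ?_⟩
  show Q8 F ((diagU μ).val *ᵥ x) = (κ : F) * Q8 F x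
  rw [Q8_def, Q8_def, Finset.mul_sum]
  apply Finset.sum_congr rfl
  intro i _
  rw [diagU_mulVec, diagU_mulVec]
  have := hμ (Sum.inl i)
  rw [op_inl] at this
  rw [← this, Units.val_mul]
  ring

/-- the diagonal similarity with entries `μ` -/
noncomputable def diagS (μ : I8 → Fˣ) (κ : Fˣ) (hμ : ∀ c, μ c * μ (op c) = κ) :
    ↥(Cfsg.Geo.quadSimilarityGroup (F := F) ⇑(Qp 4 F)) := ⟨diagU μ, diagU_mem_sim μ κ hμ⟩

theorem Eroot_eq_Eab (r : Fin chevD4.nroots) (t : F) :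
    Eroot r t = Eab (ra r.val) (rb r.val) (rootPair_ok r).1 (((eps r.val : ℤ) : F) * t) := by
  rw [Eab_eq_Eroot, ← mul_assoc, ← Int.cast_mul, eps_sq]
  simp

/-- a diagonal similarity acts on the root elements through a character -/
theorem theta_diagS_ErQ (μ : I8 → Fˣ) (κ : Fˣ) (hμ : ∀ c, μ c * μ (op c) = κ)
    (r : Fin chevD4.nroots) (t : F) :
    theta (⇑(Qp 4 F)) (diagS μ κ hμ) (prZ ↥(Cfsg.Omega F ⇑(Qp 4 F)) (ErQ r t)) =
      prZ ↥(Cfsg.Omega F ⇑(Qp 4 F))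
        (ErQ r ((μ (ra r.val) : F) * (μ (rb r.val) : F) * (κ : F)⁻¹ * t)) := by
  show theta (⇑(Qp 4 F)) (diagS μ κ hμ) (QuotientGroup.mk (ErQ r t)) = _
  rw [theta_mk]
  congr 1
  apply Subtype.ext
  apply Subtype.ext
  rw [char_val, ErQ_val, ErQ_val]
  show diagU μ * Eroot r t * (diagU μ)⁻¹ = _
  rw [Eroot_eq_Eab, diagU_mul_Eab' μ κ hμ, mul_inv_cancel_right, Eroot_eq_Eab]
  congr 1
  ring

/-- diagonal automorphisms fix the standard root subgroups -/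
theorem theta_diagS_XB (μ : I8 → Fˣ) (κ : Fˣ) (hμ : ∀ c, μ c * μ (op c) = κ)
    (r : Fin chevD4.nroots) :
    mp (theta (⇑(Qp 4 F)) (diagS μ κ hμ)) (XB (Qp 4 F) (Lr F r)) = XB (Qp 4 F) (Lr F r) := by
  have hc0 : (μ (ra r.val) : F) * (μ (rb r.val) : F) * (κ : F)⁻¹ ≠ 0 :=
    mul_ne_zero (mul_ne_zero (Units.ne_zero _) (Units.ne_zero _)) (inv_ne_zero (Units.ne_zero _))
  ext y
  rw [mem_mp, mem_XB_Lr, mem_XB_Lr]
  constructor
  · rintro ⟨t, ht⟩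
    refine ⟨(μ (ra r.val) : F) * (μ (rb r.val) : F) * (κ : F)⁻¹ * t, ?_⟩
    rw [← theta_diagS_ErQ μ κ hμ, ← ht, MulEquiv.apply_symm_apply]
  · rintro ⟨t, rfl⟩
    refine ⟨((μ (ra r.val) : F) * (μ (rb r.val) : F) * (κ : F)⁻¹)⁻¹ * t, ?_⟩
    rw [MulEquiv.symm_apply_eq, theta_diagS_ErQ μ κ hμ, ← mul_assoc, mul_inv_cancel₀ hc0, one_mul]

theorem theta_diagS_mem_pgo (μ : I8 → Fˣ) (κ : Fˣ) (hμ : ∀ c, μ c * μ (op c) = κ) :
    theta (⇑(Qp 4 F)) (diagS μ κ hμ) ∈ Cfsg.pgoAut F ⇑(Qp 4 F) := by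
  rw [pgoAut_eq]
  exact ⟨_, rfl⟩

end diag

section expo

variable {F : Type*} [Field F] [Fintype F]

/-- the diagonal entries `ν ^ x c` -/
def dexp (ν : Fˣ) (x : I8 → ℤ) : I8 → Fˣ := fun c => ν ^ x c

theorem dexp_mul (ν : Fˣ) (x : I8 → ℤ) (k : ℤ) (hx : ∀ c, x c + x (op c) = k) (c : I8) :
    dexp ν x c * dexp ν x (op c) = ν ^ k := by
  unfold dexp
  rw [← _root_.zpow_add, hx]

/-- the automorphism induced by the diagonal similarity `ν ^ x` -/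
noncomputable def thetaE (ν : Fˣ) (x : I8 → ℤ) (k : ℤ) (hx : ∀ c, x c + x (op c) = k) :
    MulAut (Cfsg.POmega F ⇑(Qp 4 F)) :=
  theta (⇑(Qp 4 F)) (diagS (dexp ν x) (ν ^ k) (dexp_mul ν x k hx))

theorem thetaE_ErQ (ν : Fˣ) (x : I8 → ℤ) (k : ℤ) (hx : ∀ c, x c + x (op c) = k)
    (r : Fin chevD4.nroots) (t : F) :
    thetaE ν x k hx (prZ ↥(Cfsg.Omega F ⇑(Qp 4 F)) (ErQ r t)) =
      prZ ↥(Cfsg.Omega F ⇑(Qp 4 F))
        (ErQ r (((ν ^ (x (ra r.val) + x (rb r.val) - k) : Fˣ) : F) * t)) := by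
  unfold thetaE
  rw [theta_diagS_ErQ]
  congr 3
  unfold dexp
  rw [_root_.zpow_sub, _root_.zpow_add, Units.val_mul, Units.val_mul, Units.val_inv_eq_inv_val]

theorem thetaE_XB (ν : Fˣ) (x : I8 → ℤ) (k : ℤ) (hx : ∀ c, x c + x (op c) = k)
    (r : Fin chevD4.nroots) :
    mp (thetaE (F := F) ν x k hx) (XB (Qp 4 F) (Lr F r)) = XB (Qp 4 F) (Lr F r) :=
  theta_diagS_XB _ _ _ r

theorem thetaE_mem_pgo (ν : Fˣ) (x : I8 → ℤ) (k : ℤ) (hx : ∀ c, x c + x (op c) = k) :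
    thetaE (F := F) ν x k hx ∈ Cfsg.pgoAut F ⇑(Qp 4 F) :=
  theta_diagS_mem_pgo _ _ _

/-- triality conjugates diagonal automorphisms to diagonal automorphisms -/
theorem tau_thetaE (ν : Fˣ) (x x' : I8 → ℤ) (k k' : ℤ) (hx : ∀ c, x c + x (op c) = k)
    (hx' : ∀ c, x' c + x' (op c) = k')
    (hχ : ∀ r : Fin chevD4.nroots, x (ra r.val) + x (rb r.val) - k =
      x' (ra (rho1 r).val) + x' (rb (rho1 r).val) - k') :
    tauQ F * thetaE ν x k hx = thetaE ν x' k' hx' * tauQ F := by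
  apply aut_ext_root
  intro r t
  rw [MulAut.mul_apply, MulAut.mul_apply, thetaE_ErQ, tauQ_ErQ, tauQ_ErQ, thetaE_ErQ, hχ r]
  congr 2
  ring

/-- the exponents of `h = diag(ν, 1, 1, 1; ν⁻¹, 1, 1, 1)` -/
def xh : I8 → ℤ := fun c => if c = Sum.inl 0 then 1 else if c = Sum.inr 0 then -1 else 0

/-- the exponents of `g = diag(ν, ν, ν, 1; 1, 1, 1, ν)` -/
def xg : I8 → ℤ := fun c =>
  if c = Sum.inl 0 ∨ c = Sum.inl 1 ∨ c = Sum.inl 2 ∨ c = Sum.inr 3 then 1 else 0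

theorem xh_op : ∀ c, xh c + xh (op c) = 0 := by decide

theorem xg_op : ∀ c, xg c + xg (op c) = 1 := by decide

theorem chi_hg : ∀ r : Fin chevD4.nroots, xh (ra r.val) + xh (rb r.val) - 0 =
    xg (ra (rho1 r).val) + xg (rb (rho1 r).val) - 1 := by decide

/-- `τ θ(h) τ⁻¹ = θ(g)` -/
theorem tau_thetaE_h (ν : Fˣ) :
    tauQ F * thetaE ν xh 0 xh_op * (tauQ F)⁻¹ = thetaE ν xg 1 xg_op := by
  rw [tau_thetaE ν xh xg 0 1 xh_op xg_op chi_hg, mul_inv_cancel_right]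

end expo

section core

variable {F : Type*} [Field F] [Fintype F]

/-- an automorphism all of whose conjugates by `1, τ, τ²` lie in `Γ` acts trivially on the cosets
of `Γ` -/
theorem Theta1_eq_one_of_conj (p : ℕ) [Fact p.Prime] [CharP F p]
    {x : MulAut (Cfsg.POmega F ⇑(Qp 4 F))} (h0 : x ∈ Cfsg.gammaPOmega F ⇑(Qp 4 F))
    (h1 : (tauQ F)⁻¹ * x * tauQ F ∈ Cfsg.gammaPOmega F ⇑(Qp 4 F))
    (h2 : (tauQ F ^ 2)⁻¹ * x * tauQ F ^ 2 ∈ Cfsg.gammaPOmega F ⇑(Qp 4 F)) :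
    Theta1 F x = 1 := by
  ext y
  induction y using QuotientGroup.induction_on with
  | H a =>
    rw [Theta1_mk, Equiv.Perm.one_apply]
    symm
    apply QuotientGroup.eq.2
    have key : ∀ (b : MulAut (Cfsg.POmega F ⇑(Qp 4 F))),
        b⁻¹ * x * b ∈ Cfsg.gammaPOmega F ⇑(Qp 4 F) →
        b⁻¹ * a ∈ Cfsg.gammaPOmega F ⇑(Qp 4 F) →
        a⁻¹ * (x * a) ∈ Cfsg.gammaPOmega F ⇑(Qp 4 F) := by
      intro b hb hba
      have e : a⁻¹ * (x * a) = (b⁻¹ * a)⁻¹ * (b⁻¹ * x * b) * (b⁻¹ * a) := by group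
      rw [e]
      exact mul_mem (mul_mem (inv_mem hba) hb) hba
    rcases aut_cases p a with h | h | h
    · apply key 1
      · rwa [inv_one, one_mul, mul_one]
      · rwa [inv_one, one_mul]
    · exact key _ h1 h
    · exact key _ h2 h

/-- conjugates of an automorphism fixing the standard root subgroups fix `X̄_{L₁}`, `X̄_{L₂}` -/
theorem conj_mem_gamma_of_fix (p : ℕ) [Fact p.Prime] [CharP F p]
    {x a : MulAut (Cfsg.POmega F ⇑(Qp 4 F))}
    (hx : ∀ r : Fin chevD4.nroots, mp x (XB (Qp 4 F) (Lr F r)) = XB (Qp 4 F) (Lr F r))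
    {r1 r2 : Fin chevD4.nroots}
    (ha1 : mp a (XB (Qp 4 F) (Lab F (Sum.inl 0) (Sum.inl 1))) = XB (Qp 4 F) (Lr F r1))
    (ha2 : mp a (XB (Qp 4 F) (Lab F (Sum.inl 0) (Sum.inr 1))) = XB (Qp 4 F) (Lr F r2)) :
    a⁻¹ * x * a ∈ Cfsg.gammaPOmega F ⇑(Qp 4 F) := by
  apply mem_gamma_of_fix (Qp 4 F) hQ4 hn4 p isLine_L1 isLine_L2 A1_std trans1_std
  · rw [mp_mul, mp_mul, ha1, hx, ← ha1, mp_inv_mp]
  · rw [mp_mul, mp_mul, ha2, hx, ← ha2, mp_inv_mp]

/-- diagonal automorphisms act trivially on the cosets of `Γ` -/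
theorem Theta1_thetaE (p : ℕ) [Fact p.Prime] [CharP F p] (ν : Fˣ) (x : I8 → ℤ) (k : ℤ)
    (hx : ∀ c, x c + x (op c) = k) : Theta1 F (thetaE ν x k hx) = 1 := by
  apply Theta1_eq_one_of_conj p
  · exact pgoAut_le_gamma _ (thetaE_mem_pgo ν x k hx)
  · exact conj_mem_gamma_of_fix p (thetaE_XB ν x k hx) (r1 := r23) (r2 := r13) tau_fix1 tau_L2
  · exact conj_mem_gamma_of_fix p (thetaE_XB ν x k hx) (r1 := r23) (r2 := r12) tau2_fix1 tau2_L2

theorem fieldHomA_thetaE (p : ℕ) [Fact p.Prime] [CharP F p] (ν : Fˣ) (x : I8 → ℤ) (k : ℤ)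
    (hx : ∀ c, x c + x (op c) = k) : fieldHomA p (thetaE (F := F) ν x k hx) = 1 :=
  fieldHomA_of_pgo p (thetaE_mem_pgo ν x k hx)

end core

end Cfsg.Agent.Lib.Helper25.Tri
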