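import Cfsg.Agent.Lib.Helper25.Tri8
import Cfsg.Agent.Lib.Helper25.AutOut15

set_option autoImplicit false
set_option linter.unusedSectionVars false
set_option linter.unusedVariables false
set_option linter.unusedSimpArgs false

/-!
# Triality, part 9: `Out(PΩ₈⁺(q)) ≅ S₄ × C_f` for `q = p^f` odd
-/

namespace Cfsg.Agent.Lib.Helper25.Tri

open Module QuadraticMap Matrix Cfsg.Agent.Lib.Helper25.CD Cfsg.Agent.Lib.Helper25.Siegel
  Cfsg.Agent.Lib.Helper25.AutO Cfsg.Agent.Lib.Helper25.Spin Cfsg.Agent.Lib.Helper25.D4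
  Cfsg.Lie Cfsg.Agent.Lib.Helper7 Cfsg.Agent.Lib.Helper25.GraphSplit
  Cfsg.Agent.Lib.Helper25.AutOut Cfsg.Agent.Lib.Helper25.AutPlus Cfsg.Agent.Lib.Helper25.PSim

section noninner

variable {F : Type*} [Field F] [Fintype F]

theorem Qp_diagU (μ : I8 → Fˣ) (κ : Fˣ) (hμ : ∀ c, μ c * μ (op c) = κ) (x : I8 → F) :
    Qp 4 F ((diagU μ).val *ᵥ x) = (κ : F) * Qp 4 F x := by
  show Q8 F ((diagU μ).val *ᵥ x) = (κ : F) * Q8 F x
  rw [Q8_def, Q8_def, Finset.mul_sum]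
  apply Finset.sum_congr rfl
  intro i _
  rw [diagU_mulVec, diagU_mulVec]
  have := hμ (Sum.inl i)
  rw [op_inl] at this
  rw [← this, Units.val_mul]
  ring

theorem card_I8 : Fintype.card I8 = 2 * 4 := by
  simp only [Fintype.card_sum, Fintype.card_fin]

/-- the commutator of triality with the diagonal automorphism `θ(h)` is not inner -/
theorem comm_tau_thetaE_not_inn (h2 : (2 : F) ≠ 0) (ν : Fˣ) (hν : ¬ IsSquare (ν : F)) :
    tauQ F * thetaE ν xh 0 xh_op * (tauQ F)⁻¹ * (thetaE ν xh 0 xh_op)⁻¹ ∉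
      Cfsg.Inn (Cfsg.POmega F ⇑(Qp 4 F)) := by
  intro hmem
  rw [tau_thetaE_h] at hmem
  have hfin : 2 ≤ finrank F (I8 → F) := by
    rw [Module.finrank_fintype_fun_eq_card, card_I8]
    norm_num
  obtain ⟨u₀, hu₀⟩ := exists_rep (Qp 4 F) hQ4 hfin 1
  obtain ⟨d, hd⟩ : ∃ d : ↥(Cfsg.Geo.quadSimilarityGroup (F := F) ⇑(Qp 4 F)),
      d = diagS (dexp ν xg) (ν ^ (1 : ℤ)) (dexp_mul ν xg 1 xg_op) *
        (diagS (dexp ν xh) (ν ^ (0 : ℤ)) (dexp_mul ν xh 0 xh_op))⁻¹ := ⟨_, rfl⟩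
  have e : thetaE (F := F) ν xg 1 xg_op * (thetaE ν xh 0 xh_op)⁻¹ = theta (⇑(Qp 4 F)) d := by
    rw [hd, map_mul, map_inv]
    rfl
  rw [e] at hmem
  have hpso := inn_le_psoAut (Qp 4 F) h2 hQ4 hmem
  rw [← Psi_eq_one_iff_pso (Qp 4 F) u₀ hu₀ h2 hQ4 card_I8 hn4, Psi_eq_one_iff] at hpso
  apply hν
  have hm : ∀ (μ : I8 → Fˣ) (κ : Fˣ) (hμ : ∀ c, μ c * μ (op c) = κ),
      mult (Qp 4 F) u₀ hu₀ (diagS μ κ hμ) = κ := by
    intro μ κ hμ
    apply Units.ext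
    rw [mult_val]
    show Qp 4 F ((diagU μ).val *ᵥ u₀) = κ
    rw [Qp_diagU μ κ hμ, hu₀, mul_one]
  have hmd : (mult (Qp 4 F) u₀ hu₀ d : F) = ν := by
    rw [hd, map_mul, map_inv, hm, hm]
    simp
  rw [← hmd]
  exact hpso.1

end noninner

section main

variable {F : Type*} [Field F] [Fintype F]

theorem s3_cube : ∀ σ : Equiv.Perm (Fin 3), σ ≠ 1 → σ ^ 2 ≠ 1 → σ ^ 3 = 1 := by decide

/-- `Out(PΩ₈⁺(q)) ≅ S₄ × C_f`, `q = p^f` odd -/
theorem out_plus4_odd (p f : ℕ) [Fact p.Prime] (hf : 1 ≤ f) (hF : Fintype.card F = p ^ f)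
    (hp : p ≠ 2) :
    Nonempty (Cfsg.Out (Cfsg.POmega F ⇑(Qp 4 F)) ≃*
      Equiv.Perm (Fin 4) × Multiplicative (ZMod f)) := by
  haveI : CharP F p := charP_of_card_eq_prime_pow hF
  have hoddp : Odd p := (Fact.out : p.Prime).odd_of_ne_two hp
  have hoddF : Odd (Fintype.card F) := by rw [hF]; exact hoddp.pow
  have h2 := two_ne_zero_of_odd_card hoddF
  have hcyc : IsCyclic (RingAut F) := Cfsg.Agent.Lib.Helper18.PSL2Aut.ringAut_cyclic p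
  have hRA : Nat.card (RingAut F) = f := Cfsg.Agent.Lib.Helper18.PSL2Aut.ringAut_card p hF
  have hf0 : f ≠ 0 := by omega
  -- the order of `Aut`
  have hev : Even (4 * (p ^ f - 1) / 2) := by
    have : 4 * (p ^ f - 1) / 2 = 2 * (p ^ f - 1) := by omega
    rw [this]
    exact even_two_mul _
  have hcardA := card_aut_plus4 (F := F) p f hF
  rw [if_neg hp, if_pos hev] at hcardA
  have hPpos : 0 < Nat.card (Cfsg.POmega F ⇑(Qp 4 F)) := Nat.card_pos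
  haveI : Finite (MulAut (Cfsg.POmega F ⇑(Qp 4 F))) := by
    apply Nat.finite_of_card_ne_zero
    rw [hcardA]
    positivity
  have hcardOut : Nat.card (Cfsg.Out (Cfsg.POmega F ⇑(Qp 4 F))) = 24 * f := by
    have h1 := Subgroup.card_mul_index (Cfsg.Inn (Cfsg.POmega F ⇑(Qp 4 F)))
    rw [card_inn _ hQ4 hn4, hcardA] at h1
    have h3 : (Cfsg.Inn (Cfsg.POmega F ⇑(Qp 4 F))).index = 24 * f := by
      apply Nat.eq_of_mul_eq_mul_left hPpos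
      rw [h1]
      ring
    exact h3
  have hidx3 : Nat.card (MulAut (Cfsg.POmega F ⇑(Qp 4 F)) ⧸ Cfsg.gammaPOmega F ⇑(Qp 4 F)) = 3 :=
    index_gamma4 (F := F) p
  -- the two homomorphisms on `Out`
  obtain ⟨e3⟩ : Nonempty (Equiv.Perm (MulAut (Cfsg.POmega F ⇑(Qp 4 F)) ⧸
      Cfsg.gammaPOmega F ⇑(Qp 4 F)) ≃* Equiv.Perm (Fin 3)) :=
    ⟨(Finite.equivFinOfCardEq hidx3).permCongrHom⟩
  have hinn1 : ∀ β ∈ Cfsg.Inn (Cfsg.POmega F ⇑(Qp 4 F)),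
      (e3.toMonoidHom.comp (Theta1 F)) β = 1 := by
    rintro _ ⟨x, rfl⟩
    show e3 (Theta1 F (MulAut.conj x)) = 1
    rw [Theta1_inn, map_one]
  have hinn2 : ∀ β ∈ Cfsg.Inn (Cfsg.POmega F ⇑(Qp 4 F)), fieldHomA p β = 1 :=
    fun β hβ => fieldHomA_of_pgo p (inn_le_pgoAut _ trivial hβ)
  obtain ⟨π1, hπ1⟩ : ∃ π1 : Cfsg.Out (Cfsg.POmega F ⇑(Qp 4 F)) →* Equiv.Perm (Fin 3),
      ∀ β, π1 (QuotientGroup.mk β) = e3 (Theta1 F β) :=
    ⟨QuotientGroup.lift _ (e3.toMonoidHom.comp (Theta1 F)) hinn1, fun _ => rfl⟩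
  obtain ⟨π2, hπ2⟩ : ∃ π2 : Cfsg.Out (Cfsg.POmega F ⇑(Qp 4 F)) →* RingAut F,
      ∀ β, π2 (QuotientGroup.mk β) = fieldHomA p β :=
    ⟨QuotientGroup.lift _ (fieldHomA p) hinn2, fun _ => rfl⟩
  have hπ1one : ∀ β, π1 (QuotientGroup.mk β) = 1 ↔ Theta1 F β = 1 := by
    intro β
    rw [hπ1]
    exact EmbeddingLike.map_eq_one_iff
  have hπ2s : Function.Surjective π2 := by
    intro σ
    obtain ⟨β, hβ⟩ := fieldHomA_surjective (F := F) p σ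
    exact ⟨QuotientGroup.mk β, by rw [hπ2, hβ]⟩
  haveI : Finite (Cfsg.Out (Cfsg.POmega F ⇑(Qp 4 F))) := inferInstance
  -- the bound on `V`
  have hidx8 : (Cfsg.Inn (Cfsg.POmega F ⇑(Qp 4 F))).relIndex (Cfsg.pgoAut F ⇑(Qp 4 F)) = 8 := by
    rw [relIndex_plus p f hF (le_refl 4), if_neg hp, if_pos hev]
  set D := (Cfsg.pgoAut F ⇑(Qp 4 F)).map
    (QuotientGroup.mk' (Cfsg.Inn (Cfsg.POmega F ⇑(Qp 4 F)))) with hDdef
  have hD8 : Nat.card ↥D = 8 := by rw [hDdef, card_pgo_image, hidx8]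
  have hVD : π1.ker ⊓ π2.ker ≤ D := by
    intro x hx
    rw [Subgroup.mem_inf, MonoidHom.mem_ker, MonoidHom.mem_ker] at hx
    obtain ⟨β, rfl⟩ := QuotientGroup.mk_surjective x
    obtain ⟨hx1, hx2⟩ := hx
    rw [hπ1one] at hx1
    rw [hπ2] at hx2
    have hγ := mem_gamma_of_Theta1 hx1
    rw [fieldHomA_gamma p ⟨β, hγ⟩] at hx2
    have hker : (⟨β, hγ⟩ : ↥(Cfsg.gammaPOmega F ⇑(Qp 4 F))) ∈
        (fieldHomG (Qp 4 F) hQ4 hn4).ker := hx2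
    rw [fieldHomG_ker, Subgroup.mem_subgroupOf] at hker
    exact ⟨β, hker, rfl⟩
  have hV4 : Nat.card ↥(π1.ker ⊓ π2.ker) ≤ 4 := by
    have hdvd : Nat.card ↥(π1.ker ⊓ π2.ker) ∣ 8 := by
      rw [← hD8]
      exact Subgroup.card_dvd_of_le hVD
    have hne : Nat.card ↥(π1.ker ⊓ π2.ker) ≠ 8 := by
      intro h8
      haveI : Finite ↥D := inferInstance
      have heq : π1.ker ⊓ π2.ker = D :=
        Subgroup.eq_of_le_of_card_ge hVD (by rw [hD8, h8])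
      have hr : (QuotientGroup.mk (reflA F) : Cfsg.Out (Cfsg.POmega F ⇑(Qp 4 F))) ∈ D :=
        ⟨reflA F, reflA_mem_pgo, rfl⟩
      rw [← heq, Subgroup.mem_inf, MonoidHom.mem_ker, hπ1one] at hr
      exact Theta1_refl_ne_one (F := F) p hr.1
    have hle : Nat.card ↥(π1.ker ⊓ π2.ker) ≤ 8 := Nat.le_of_dvd (by norm_num) hdvd
    interval_cases h : Nat.card ↥(π1.ker ⊓ π2.ker) <;> simp_all
  -- the two elements
  obtain ⟨ν₀, hν₀⟩ := FiniteField.exists_nonsquare (F := F) (ringChar_ne_two h2)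
  have hν₀0 : ν₀ ≠ 0 := by
    rintro rfl
    exact hν₀ ⟨0, by simp⟩
  obtain ⟨ν, hνdef⟩ : ∃ ν : Fˣ, (ν : F) = ν₀ := ⟨Units.mk0 ν₀ hν₀0, rfl⟩
  have hν : ¬ IsSquare (ν : F) := by rw [hνdef]; exact hν₀
  have ht2 : (QuotientGroup.mk (tauQ F) : Cfsg.Out (Cfsg.POmega F ⇑(Qp 4 F))) ∈ π2.ker := by
    rw [MonoidHom.mem_ker, hπ2, fieldHomA_tau]
  have ht1 : π1 (QuotientGroup.mk (tauQ F)) ≠ 1 := by
    intro h
    rw [hπ1one] at h
    exact tau_not_mem (F := F) p (mem_gamma_of_Theta1 h)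
  have ht3 : π1 (QuotientGroup.mk (tauQ F)) ^ 3 = 1 := by
    apply s3_cube _ ht1
    intro h
    rw [← map_pow, ← QuotientGroup.mk_pow, hπ1one] at h
    exact tau2_not_mem (F := F) p (mem_gamma_of_Theta1 h)
  have hv1 : (QuotientGroup.mk (thetaE ν xh 0 xh_op) : Cfsg.Out (Cfsg.POmega F ⇑(Qp 4 F))) ∈
      π1.ker := by
    rw [MonoidHom.mem_ker, hπ1one]
    exact Theta1_thetaE p ν xh 0 xh_op
  have hv2 : (QuotientGroup.mk (thetaE ν xh 0 xh_op) : Cfsg.Out (Cfsg.POmega F ⇑(Qp 4 F))) ∈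
      π2.ker := by
    rw [MonoidHom.mem_ker, hπ2]
    exact fieldHomA_thetaE p ν xh 0 xh_op
  have htv : (QuotientGroup.mk (tauQ F) : Cfsg.Out (Cfsg.POmega F ⇑(Qp 4 F))) *
      QuotientGroup.mk (thetaE ν xh 0 xh_op) ≠
      QuotientGroup.mk (thetaE ν xh 0 xh_op) * QuotientGroup.mk (tauQ F) := by
    intro hcomm
    apply comm_tau_thetaE_not_inn h2 ν hν
    rw [← QuotientGroup.eq_one_iff]
    have h5 : (QuotientGroup.mk (tauQ F) : Cfsg.Out (Cfsg.POmega F ⇑(Qp 4 F))) *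
        QuotientGroup.mk (thetaE ν xh 0 xh_op) * (QuotientGroup.mk (tauQ F))⁻¹ *
        (QuotientGroup.mk (thetaE ν xh 0 xh_op))⁻¹ = 1 := by
      rw [hcomm]
      group
    exact h5
  obtain ⟨e⟩ := nonempty_mulEquiv_s4_prod f (by omega) π1 π2 hπ2s hRA hcardOut hV4 _ _
    ht2 ht1 ht3 hv1 hv2 htv
  subst hRA
  exact ⟨e.trans (MulEquiv.prodCongr (MulEquiv.refl _) (zmodCyclicMulEquiv hcyc).symm)⟩

end main

end Cfsg.Agent.Lib.Helper25.Tri
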