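import Mathlib
import Cfsg.Prelude.Def_RootSubgroups
import Cfsg.Agent.Lib.Helper25.RankOne

set_option autoImplicit false

/-!
Baer–Suzuki / Alperin–Lyons for unipotent linear groups, via closed nilpotent subspaces of `End M`.
-/

namespace Cfsg.Agent.Lib.Helper25.UnipBS

open Cfsg Pointwise

section alg

variable {k : Type*} [Field k] {R : Type*} [Ring R] [Algebra k R]

/-- `L` is a (non-unital) nilpotent subalgebra. -/
def CN (L : Submodule k R) : Prop := L * L ≤ L ∧ ∃ n : ℕ, L ^ n = ⊥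

theorem CN.of_le {L L' : Submodule k R} (hL : CN L) (hle : L' ≤ L) (hc : L' * L' ≤ L') : CN L' := by
  obtain ⟨n, hn⟩ := hL.2
  exact ⟨hc, n, le_bot_iff.1 (hn ▸ pow_le_pow_left' hle n)⟩

theorem CN.inf {L₁ L₂ : Submodule k R} (h₁ : CN L₁) (h₂ : CN L₂) : CN (L₁ ⊓ L₂) :=
  h₁.of_le inf_le_left (le_inf ((mul_le_mul' inf_le_left inf_le_left).trans h₁.1)
    ((mul_le_mul' inf_le_right inf_le_right).trans h₂.1))

theorem CN_bot : CN (⊥ : Submodule k R) := ⟨by rw [Submodule.bot_mul], 1, pow_one _⟩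

theorem pow_succ_le_of_closed {L : Submodule k R} (hL : L * L ≤ L) (j : ℕ) : L ^ (j + 1) ≤ L := by
  induction j with
  | zero => rw [zero_add, pow_one]
  | succ j ih => rw [pow_succ]; exact (mul_le_mul' ih le_rfl).trans hL

/-- The idealizer of `D` inside `L`. -/
def idz (D L : Submodule k R) : Submodule k R where
  carrier := {x | x ∈ L ∧ (∀ y ∈ D, x * y ∈ D) ∧ (∀ y ∈ D, y * x ∈ D)}
  add_mem' := by
    rintro _ _ ⟨h1, h2, h3⟩ ⟨h1', h2', h3'⟩
    exact ⟨L.add_mem h1 h1', fun y hy => by rw [add_mul]; exact D.add_mem (h2 y hy) (h2' y hy),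
      fun y hy => by rw [mul_add]; exact D.add_mem (h3 y hy) (h3' y hy)⟩
  zero_mem' := ⟨L.zero_mem, fun _ _ => by rw [zero_mul]; exact D.zero_mem,
    fun _ _ => by rw [mul_zero]; exact D.zero_mem⟩
  smul_mem' := by
    rintro c x ⟨h1, h2, h3⟩
    exact ⟨L.smul_mem c h1, fun y hy => by rw [smul_mul_assoc]; exact D.smul_mem c (h2 y hy),
      fun y hy => by rw [mul_smul_comm]; exact D.smul_mem c (h3 y hy)⟩

theorem mem_idz {D L : Submodule k R} {x : R} :
    x ∈ idz D L ↔ x ∈ L ∧ (∀ y ∈ D, x * y ∈ D) ∧ (∀ y ∈ D, y * x ∈ D) := Iff.rfl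

theorem idz_le (D L : Submodule k R) : idz D L ≤ L := fun _ hx => hx.1

theorem le_idz {D L : Submodule k R} (hDL : D ≤ L) (hD : D * D ≤ D) : D ≤ idz D L :=
  fun x hx => ⟨hDL hx, fun y hy => hD (Submodule.mul_mem_mul hx hy),
    fun y hy => hD (Submodule.mul_mem_mul hy hx)⟩

theorem idz_closed {D L : Submodule k R} (hL : L * L ≤ L) : idz D L * idz D L ≤ idz D L := by
  rw [Submodule.mul_le]
  rintro x ⟨h1, h2, h3⟩ x' ⟨h1', h2', h3'⟩
  refine ⟨hL (Submodule.mul_mem_mul h1 h1'), fun y hy => ?_, fun y hy => ?_⟩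
  · rw [mul_assoc]; exact h2 _ (h2' y hy)
  · rw [← mul_assoc]; exact h3' _ (h3 y hy)

theorem CN.idz {D L : Submodule k R} (hL : CN L) : CN (idz D L) :=
  hL.of_le (idz_le D L) (idz_closed hL.1)

/-- In a nilpotent algebra proper subalgebras are properly contained in their idealizers. -/
theorem lt_idz {D L : Submodule k R} (hL : CN L) (hD : D * D ≤ D) (hlt : D < L) :
    D < idz D L := by
  classical
  refine lt_of_le_of_ne (le_idz hlt.le hD) ?_
  intro heq
  obtain ⟨n, hn⟩ := hL.2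
  have hex : ∃ j, L ^ (j + 1) ≤ D := ⟨n, by
    rw [pow_succ, hn, Submodule.bot_mul]; exact bot_le⟩
  have hmin : ∀ m, m < Nat.find hex → ¬ L ^ (m + 1) ≤ D := fun m hm => Nat.find_min hex hm
  have hspec := Nat.find_spec hex
  rcases Nat.eq_zero_or_pos (Nat.find hex) with h0 | hpos
  · rw [h0, zero_add, pow_one] at hspec
    exact absurd (le_antisymm hlt.le hspec) hlt.ne
  · obtain ⟨j, hj⟩ : ∃ j, Nat.find hex = j + 1 := ⟨Nat.find hex - 1, by omega⟩
    have hnot : ¬ L ^ (j + 1) ≤ D := hmin j (by omega)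
    rw [hj] at hspec
    apply hnot
    intro x hx
    rw [heq]
    have hxL : x ∈ L := pow_succ_le_of_closed hL.1 j hx
    refine ⟨hxL, fun y hy => hspec ?_, fun y hy => hspec ?_⟩
    · rw [pow_succ _ (j + 1)]
      exact Submodule.mul_mem_mul hx (hlt.le hy)
    · rw [pow_succ' _ (j + 1)]
      exact Submodule.mul_mem_mul (hlt.le hy) hx

/-- Combination lemma: `P`, `Q` nilpotent subalgebras with `Q * P ≤ P ⊔ P * Q`; then
`Q ⊔ P * (1 ⊔ Q)` is a nilpotent subalgebra. -/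
theorem CN.comb {P Q : Submodule k R} (hP : CN P) (hQ : CN Q) (h : Q * P ≤ P ⊔ P * Q) :
    CN (Q ⊔ P * (1 ⊔ Q)) := by
  obtain ⟨S, hS⟩ : ∃ S : Submodule k R, S = 1 ⊔ Q := ⟨_, rfl⟩
  rw [← hS]
  have hSS : S * S ≤ S := by
    rw [hS, Submodule.sup_mul, Submodule.mul_sup, Submodule.mul_sup, one_mul, one_mul, mul_one]
    exact sup_le le_rfl (sup_le le_sup_right (hQ.1.trans le_sup_right))
  have hQS : Q ≤ S := hS ▸ le_sup_right
  have hSP : S * P ≤ P * S := by
    rw [hS, Submodule.sup_mul, one_mul, Submodule.mul_sup, mul_one]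
    exact sup_le le_sup_left h
  obtain ⟨N, hN⟩ : ∃ N : Submodule k R, N = P * S := ⟨_, rfl⟩
  rw [← hN]
  have hNpow : ∀ r, N ^ (r + 1) ≤ P ^ (r + 1) * S := by
    intro r
    induction r with
    | zero => rw [zero_add, pow_one, pow_one, hN]
    | succ r ih =>
      calc N ^ (r + 1 + 1) = N ^ (r + 1) * N := pow_succ _ _
        _ ≤ (P ^ (r + 1) * S) * (P * S) := mul_le_mul' ih hN.le
        _ = P ^ (r + 1) * (S * P) * S := by simp only [mul_assoc]
        _ ≤ P ^ (r + 1) * (P * S) * S := mul_le_mul' (mul_le_mul' le_rfl hSP) le_rfl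
        _ = P ^ (r + 1 + 1) * (S * S) := by rw [pow_succ _ (r + 1)]; simp only [mul_assoc]
        _ ≤ P ^ (r + 1 + 1) * S := mul_le_mul' le_rfl hSS
  have hNN : N * N ≤ N := by
    have := hNpow 1
    rw [pow_succ, pow_one] at this
    refine this.trans ?_
    rw [hN]
    exact mul_le_mul' (pow_succ_le_of_closed hP.1 1) le_rfl
  have hQN : Q * N ≤ N := by
    calc Q * N = (Q * P) * S := by rw [hN, mul_assoc]
      _ ≤ (S * P) * S := mul_le_mul' (mul_le_mul' hQS le_rfl) le_rfl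
      _ ≤ (P * S) * S := mul_le_mul' hSP le_rfl
      _ = P * (S * S) := mul_assoc _ _ _
      _ ≤ P * S := mul_le_mul' le_rfl hSS
      _ = N := hN.symm
  have hNQ : N * Q ≤ N := by
    calc N * Q = P * (S * Q) := by rw [hN, mul_assoc]
      _ ≤ P * (S * S) := mul_le_mul' le_rfl (mul_le_mul' le_rfl hQS)
      _ ≤ P * S := mul_le_mul' le_rfl hSS
      _ = N := hN.symm
  have hclosed : (Q ⊔ N) * (Q ⊔ N) ≤ Q ⊔ N := by
    rw [Submodule.sup_mul, Submodule.mul_sup, Submodule.mul_sup]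
    exact sup_le (sup_le (hQ.1.trans le_sup_left) (hQN.trans le_sup_right))
      (sup_le (hNQ.trans le_sup_right) (hNN.trans le_sup_right))
  refine ⟨hclosed, ?_⟩
  obtain ⟨a, ha⟩ := hP.2
  obtain ⟨c, hc⟩ := hQ.2
  have hQcN : ∀ c, Q ^ c * N ≤ N := by
    intro c
    induction c with
    | zero => rw [pow_zero, one_mul]
    | succ c ih =>
      rw [pow_succ, mul_assoc]
      exact (mul_le_mul' le_rfl hQN).trans ih
  have hT : ∀ c, (Q ⊔ N) ^ c ≤ Q ^ c ⊔ N := by
    intro c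
    induction c with
    | zero => rw [pow_zero, pow_zero]; exact le_sup_left
    | succ c ih =>
      calc (Q ⊔ N) ^ (c + 1) = (Q ⊔ N) ^ c * (Q ⊔ N) := pow_succ _ _
        _ ≤ (Q ^ c ⊔ N) * (Q ⊔ N) := mul_le_mul' ih le_rfl
        _ = (Q ^ c * Q ⊔ Q ^ c * N) ⊔ (N * Q ⊔ N * N) := by
          rw [Submodule.sup_mul, Submodule.mul_sup, Submodule.mul_sup]
        _ ≤ Q ^ (c + 1) ⊔ N := by
          rw [← pow_succ]
          exact sup_le (sup_le le_sup_left ((hQcN c).trans le_sup_right))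
            (sup_le (hNQ.trans le_sup_right) (hNN.trans le_sup_right))
  refine ⟨c * (a + 1), ?_⟩
  rw [pow_mul, ← le_bot_iff]
  have h1 : (Q ⊔ N) ^ c ≤ N := by
    have := hT c
    rwa [hc, bot_sup_eq] at this
  calc ((Q ⊔ N) ^ c) ^ (a + 1) ≤ N ^ (a + 1) := pow_le_pow_left' h1 _
    _ ≤ P ^ (a + 1) * S := hNpow a
    _ = ⊥ := by rw [pow_succ, ha, Submodule.bot_mul, Submodule.bot_mul]

end alg

section grp

variable {k : Type*} [Field k] {M : Type*} [AddCommGroup M] [Module k M]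

/-- `δ g = g - 1`. -/
def δ (g : LinearMap.GeneralLinearGroup k M) : Module.End k M := (g : M →ₗ[k] M) - 1

theorem δ_one : δ (1 : LinearMap.GeneralLinearGroup k M) = 0 := by
  unfold δ; rw [Units.val_one, sub_self]

theorem δ_mul (g h : LinearMap.GeneralLinearGroup k M) : δ (g * h) = δ g + δ h + δ g * δ h := by
  unfold δ; rw [Units.val_mul]; noncomm_ring

theorem δ_mul_δ (g h : LinearMap.GeneralLinearGroup k M) : δ g * δ h = δ (g * h) - δ g - δ h := by
  rw [δ_mul]; abel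

theorem δ_conj (a h : LinearMap.GeneralLinearGroup k M) :
    δ (a * h * a⁻¹) = δ h + δ a * δ h + δ h * δ a⁻¹ + δ a * δ h * δ a⁻¹ := by
  have h1 : (a : Module.End k M) * ((a⁻¹ : LinearMap.GeneralLinearGroup k M) : Module.End k M) = 1 := by
    rw [← Units.val_mul, mul_inv_cancel, Units.val_one]
  unfold δ
  rw [Units.val_mul, Units.val_mul]
  have : ((a : Module.End k M) - 1) * ((h : Module.End k M) - 1) *
      (((a⁻¹ : LinearMap.GeneralLinearGroup k M) : Module.End k M) - 1) =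
      (a : Module.End k M) * h * ((a⁻¹ : LinearMap.GeneralLinearGroup k M) : Module.End k M)
      - (a : Module.End k M) * h - (a : Module.End k M) * ((a⁻¹ : LinearMap.GeneralLinearGroup k M) : Module.End k M)
      + (a : Module.End k M)
      - (h : Module.End k M) * ((a⁻¹ : LinearMap.GeneralLinearGroup k M) : Module.End k M) + h
      + ((a⁻¹ : LinearMap.GeneralLinearGroup k M) : Module.End k M) - 1 := by noncomm_ring
  rw [this, h1]
  noncomm_ring

theorem δ_swap (g u : LinearMap.GeneralLinearGroup k M) :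
    δ g * δ u = δ (g * u * g⁻¹) + δ (g * u * g⁻¹) * δ g - δ u := by
  have h1 : (((g⁻¹ : LinearMap.GeneralLinearGroup k M) : Module.End k M)) * (g : Module.End k M) = 1 := by
    rw [← Units.val_mul, inv_mul_cancel, Units.val_one]
  unfold δ
  rw [Units.val_mul, Units.val_mul]
  have : ((g : Module.End k M) * u * ((g⁻¹ : LinearMap.GeneralLinearGroup k M) : Module.End k M) - 1) *
      ((g : Module.End k M) - 1) = (g : Module.End k M) * u *
        (((g⁻¹ : LinearMap.GeneralLinearGroup k M) : Module.End k M) * g)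
      - (g : Module.End k M) * u * ((g⁻¹ : LinearMap.GeneralLinearGroup k M) : Module.End k M)
      - g + 1 := by noncomm_ring
  rw [this, h1]
  noncomm_ring

/-- The group of `1 + L`. -/
def Q (L : Submodule k (Module.End k M)) (hL : L * L ≤ L) :
    Subgroup (LinearMap.GeneralLinearGroup k M) where
  carrier := {g | δ g ∈ L ∧ δ g⁻¹ ∈ L}
  mul_mem' := by
    rintro g h ⟨h1, h2⟩ ⟨h3, h4⟩
    refine ⟨?_, ?_⟩
    · rw [δ_mul]
      exact L.add_mem (L.add_mem h1 h3) (hL (Submodule.mul_mem_mul h1 h3))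
    · rw [mul_inv_rev, δ_mul]
      exact L.add_mem (L.add_mem h4 h2) (hL (Submodule.mul_mem_mul h4 h2))
  one_mem' := by
    refine ⟨?_, ?_⟩
    · rw [δ_one]; exact L.zero_mem
    · rw [inv_one, δ_one]; exact L.zero_mem
  inv_mem' := by
    rintro g ⟨h1, h2⟩
    exact ⟨h2, by rwa [inv_inv]⟩

theorem mem_Q {L : Submodule k (Module.End k M)} {hL : L * L ≤ L}
    {g : LinearMap.GeneralLinearGroup k M} : g ∈ Q L hL ↔ δ g ∈ L ∧ δ g⁻¹ ∈ L := Iff.rfl

theorem le_Q {L : Submodule k (Module.End k M)} {hL : L * L ≤ L}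
    {A : Subgroup (LinearMap.GeneralLinearGroup k M)} (h : ∀ a ∈ A, δ a ∈ L) : A ≤ Q L hL :=
  fun a ha => ⟨h a ha, h _ (A.inv_mem ha)⟩

/-- the span of `δ H` is closed under multiplication -/
theorem span_δ_closed (H : Subgroup (LinearMap.GeneralLinearGroup k M)) :
    Submodule.span k (δ '' (H : Set (LinearMap.GeneralLinearGroup k M))) *
      Submodule.span k (δ '' (H : Set (LinearMap.GeneralLinearGroup k M))) ≤
      Submodule.span k (δ '' (H : Set (LinearMap.GeneralLinearGroup k M))) := by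
  rw [Submodule.span_mul_span, Submodule.span_le]
  rintro _ ⟨_, ⟨g, hg, rfl⟩, _, ⟨h, hh, rfl⟩, rfl⟩
  change δ g * δ h ∈ _
  rw [δ_mul_δ]
  exact Submodule.sub_mem _ (Submodule.sub_mem _
    (Submodule.subset_span ⟨_, H.mul_mem hg hh, rfl⟩) (Submodule.subset_span ⟨_, hg, rfl⟩))
    (Submodule.subset_span ⟨_, hh, rfl⟩)

theorem isUnipotentOn_iff (H : Subgroup (LinearMap.GeneralLinearGroup k M)) :
    IsUnipotentOn H ↔ ∃ n : ℕ, ∀ l : List (LinearMap.GeneralLinearGroup k M),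
      (∀ g ∈ l, g ∈ H) → l.length = n → (l.map δ).prod = 0 := by
  have key : ∀ l : List (LinearMap.GeneralLinearGroup k M),
      (l.map fun g => (g : M →ₗ[k] M) - 1) = l.map δ := by
    intro l
    simp only [bind_pure_comp, List.map_eq_map, List.map_map]
    rfl
  unfold IsUnipotentOn
  simp only [key]

theorem isUnipotentOn_of_nil (H : Subgroup (LinearMap.GeneralLinearGroup k M))
    (L : Submodule k (Module.End k M)) (hn : ∃ n : ℕ, L ^ n = ⊥) (h : ∀ g ∈ H, δ g ∈ L) :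
    IsUnipotentOn H := by
  rw [isUnipotentOn_iff]
  obtain ⟨n, hn⟩ := hn
  refine ⟨n, fun l hl hlen => ?_⟩
  have key : ∀ l : List (LinearMap.GeneralLinearGroup k M), (∀ g ∈ l, g ∈ H) →
      (l.map δ).prod ∈ L ^ l.length := by
    intro l
    induction l with
    | nil =>
      intro _
      rw [List.map_nil, List.prod_nil, List.length_nil, pow_zero]
      exact Submodule.one_le.1 le_rfl
    | cons g l ih =>
      intro hl
      rw [List.map_cons, List.prod_cons, List.length_cons, pow_succ']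
      exact Submodule.mul_mem_mul (h g (hl g (List.mem_cons_self ..)))
        (ih fun x hx => hl x (List.mem_cons_of_mem _ hx))
  have := key l hl
  rw [hlen, hn] at this
  exact (Submodule.mem_bot k).1 this

theorem nil_of_isUnipotentOn (H : Subgroup (LinearMap.GeneralLinearGroup k M))
    (h : IsUnipotentOn H) :
    ∃ n : ℕ, Submodule.span k (δ '' (H : Set (LinearMap.GeneralLinearGroup k M))) ^ n = ⊥ := by
  rw [isUnipotentOn_iff] at h
  obtain ⟨n, hn⟩ := h
  refine ⟨n, ?_⟩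
  rw [Submodule.span_pow, Submodule.span_eq_bot]
  intro x hx
  rw [Set.mem_pow] at hx
  obtain ⟨f, rfl⟩ := hx
  have hf : ∀ i, ∃ g, g ∈ H ∧ δ g = (f i : Module.End k M) := fun i => by
    obtain ⟨g, hg, hgf⟩ := (f i).2
    exact ⟨g, hg, hgf⟩
  choose g hg hgf using hf
  have := hn (List.ofFn g) (by
    intro x hx
    rw [List.mem_ofFn] at hx
    obtain ⟨i, rfl⟩ := hx
    exact hg i) (List.length_ofFn)
  rw [List.map_ofFn] at this
  rw [← this]
  congr 1
  apply List.ofFn_inj.2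
  funext i
  exact (hgf i).symm

theorem CN_span_of_isUnipotentOn (H : Subgroup (LinearMap.GeneralLinearGroup k M))
    (h : IsUnipotentOn H) :
    CN (Submodule.span k (δ '' (H : Set (LinearMap.GeneralLinearGroup k M)))) :=
  ⟨span_δ_closed H, nil_of_isUnipotentOn H h⟩

end grp

section main

variable {k : Type*} [Field k] {M : Type*} [AddCommGroup M] [Module k M]
  (W : Set (Subgroup (LinearMap.GeneralLinearGroup k M)))

/-- members of `W` inside `1 + L` -/
def Wsub (L : Submodule k (Module.End k M)) : Set (Subgroup (LinearMap.GeneralLinearGroup k M)) :=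
  {A | A ∈ W ∧ ∀ a ∈ A, δ a ∈ L}

/-- the group they generate -/
def U (L : Submodule k (Module.End k M)) : Subgroup (LinearMap.GeneralLinearGroup k M) :=
  ⨆ A ∈ Wsub W L, A

/-- the tight core of `L` -/
def core (L : Submodule k (Module.End k M)) : Submodule k (Module.End k M) :=
  Submodule.span k (δ '' (U W L : Set (LinearMap.GeneralLinearGroup k M)))

variable {W}

theorem Wsub_mono {L L' : Submodule k (Module.End k M)} (h : L ≤ L') : Wsub W L ⊆ Wsub W L' :=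
  fun _ hA => ⟨hA.1, fun a ha => h (hA.2 a ha)⟩

theorem U_mono_of_subset {L L' : Submodule k (Module.End k M)} (h : Wsub W L ⊆ Wsub W L') :
    U W L ≤ U W L' := biSup_mono h

theorem core_mono_of_subset {L L' : Submodule k (Module.End k M)} (h : Wsub W L ⊆ Wsub W L') :
    core W L ≤ core W L' :=
  Submodule.span_mono (Set.image_mono (U_mono_of_subset h))

theorem core_congr {L L' : Submodule k (Module.End k M)} (h : Wsub W L = Wsub W L') :
    core W L = core W L' :=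
  le_antisymm (core_mono_of_subset h.le) (core_mono_of_subset h.ge)

theorem le_U {L : Submodule k (Module.End k M)} {A : Subgroup (LinearMap.GeneralLinearGroup k M)}
    (hA : A ∈ Wsub W L) : A ≤ U W L := le_biSup (fun A => A) hA

theorem U_le_Q {L : Submodule k (Module.End k M)} (hL : L * L ≤ L) : U W L ≤ Q L hL :=
  iSup₂_le fun _ hA => le_Q hA.2

theorem δ_mem_of_mem_U {L : Submodule k (Module.End k M)} (hL : L * L ≤ L)
    {g : LinearMap.GeneralLinearGroup k M} (hg : g ∈ U W L) : δ g ∈ L := (U_le_Q hL hg).1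

theorem core_le {L : Submodule k (Module.End k M)} (hL : L * L ≤ L) : core W L ≤ L := by
  unfold core
  rw [Submodule.span_le]
  rintro _ ⟨g, hg, rfl⟩
  exact δ_mem_of_mem_U hL hg

theorem Wsub_core {L : Submodule k (Module.End k M)} (hL : L * L ≤ L) :
    Wsub W (core W L) = Wsub W L := by
  apply Set.Subset.antisymm
  · exact Wsub_mono (core_le hL)
  · intro A hA
    exact ⟨hA.1, fun a ha => Submodule.subset_span ⟨a, le_U hA ha, rfl⟩⟩

theorem CN_core {L : Submodule k (Module.End k M)} (hL : CN L) : CN (core W L) :=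
  hL.of_le (core_le hL.1) (span_δ_closed _)

theorem core_core {L : Submodule k (Module.End k M)} (hL : L * L ≤ L) :
    core W (core W L) = core W L := core_congr (Wsub_core hL)

theorem core_bot : core W (⊥ : Submodule k (Module.End k M)) = ⊥ :=
  le_bot_iff.1 (core_le (by rw [Submodule.bot_mul]))

/-- conjugation by `a` with `δ a, δ a⁻¹` in the idealizer of `D'` maps `1 + D'` to itself -/
theorem δ_conj_mem {D' L : Submodule k (Module.End k M)}
    {a h : LinearMap.GeneralLinearGroup k M} (ha : δ a ∈ idz D' L) (ha' : δ a⁻¹ ∈ idz D' L)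
    (hh : δ h ∈ D') : δ (a * h * a⁻¹) ∈ D' := by
  rw [δ_conj]
  have h1 : δ a * δ h ∈ D' := ha.2.1 _ hh
  have h2 : δ h * δ a⁻¹ ∈ D' := ha'.2.2 _ hh
  have h3 : δ a * δ h * δ a⁻¹ ∈ D' := ha'.2.2 _ h1
  exact D'.add_mem (D'.add_mem (D'.add_mem hh h1) h2) h3

theorem exists_normalizing [FiniteDimensional k M]
    {G : Subgroup (LinearMap.GeneralLinearGroup k M)} (hWG : ∀ A ∈ W, A ≤ G)
    (hWconj : ∀ A ∈ W, ∀ g ∈ G, conjBy A g ∈ W)
    {D L : Submodule k (Module.End k M)} (hD : CN D) (hL : CN L) (hDL : D ≤ L)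
    (hne : Wsub W D ≠ Wsub W L) :
    ∃ A ∈ Wsub W L, A ∉ Wsub W D ∧
      A ≤ Subgroup.normalizer (U W D : Set (LinearMap.GeneralLinearGroup k M)) := by
  obtain ⟨S, hSdef⟩ : ∃ S : Set (Submodule k (Module.End k M)),
      S = {D' | CN D' ∧ D ≤ D' ∧ D' ≤ L ∧ Wsub W D' = Wsub W D} := ⟨_, rfl⟩
  have hS : S.Nonempty := ⟨D, by rw [hSdef]; exact ⟨hD, le_rfl, hDL, rfl⟩⟩
  obtain ⟨D', hD'S, hmax⟩ := WellFounded.has_min wellFounded_gt S hS
  have hD'S' := hD'S
  rw [hSdef] at hD'S'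
  obtain ⟨hD'cn, hDD', hD'L, hW'⟩ := hD'S'
  have hD'ne : D' ≠ L := by
    rintro rfl
    exact hne hW'.symm
  have hlt : D' < L := lt_of_le_of_ne hD'L hD'ne
  have hI := lt_idz hL hD'cn.1 hlt
  have hIcn : CN (idz D' L) := hL.idz
  have hInot : idz D' L ∉ S := fun h => hmax _ h hI
  have hWI : Wsub W (idz D' L) ≠ Wsub W D := fun h =>
    hInot (by rw [hSdef]; exact ⟨hIcn, hDD'.trans hI.le, idz_le _ _, h⟩)
  have hsub : Wsub W D ⊆ Wsub W (idz D' L) := hW' ▸ Wsub_mono hI.le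
  obtain ⟨A, hAI, hAD⟩ : ∃ A ∈ Wsub W (idz D' L), A ∉ Wsub W D := by
    by_contra hcon
    push Not at hcon
    exact hWI (Set.Subset.antisymm hcon hsub)
  refine ⟨A, Wsub_mono (idz_le _ _) hAI, hAD, ?_⟩
  have hconj : ∀ a ∈ A, ∀ u ∈ U W D, a * u * a⁻¹ ∈ U W D := by
    intro a ha u hu
    have haG : a ∈ G := hWG A hAI.1 ha
    have h1 : conjBy (U W D) a ≤ U W D := by
      unfold U conjBy
      simp only [Subgroup.map_iSup]
      apply iSup₂_le
      intro B hB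
      have hBW : conjBy B a ∈ W := hWconj B hB.1 a haG
      have hB' : B ∈ Wsub W D' := hW' ▸ hB
      have : conjBy B a ∈ Wsub W D' := ⟨hBW, fun x hx => by
        obtain ⟨b, hb, rfl⟩ := hx
        exact δ_conj_mem (hAI.2 a ha) (hAI.2 _ (A.inv_mem ha)) (hB'.2 b hb)⟩
      rw [hW'] at this
      exact le_U this
    exact h1 (conj_mem_conjBy hu)
  intro a ha
  rw [Subgroup.mem_normalizer_iff]
  intro u
  constructor
  · exact hconj a ha u
  · intro h
    have := hconj a⁻¹ (A.inv_mem ha) _ h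
    simpa [mul_assoc] using this

theorem CN_comb_grp {Uu X : Subgroup (LinearMap.GeneralLinearGroup k M)}
    (hU : CN (Submodule.span k (δ '' (Uu : Set (LinearMap.GeneralLinearGroup k M)))))
    (hX : CN (Submodule.span k (δ '' (X : Set (LinearMap.GeneralLinearGroup k M)))))
    (hnorm : X ≤ Subgroup.normalizer (Uu : Set (LinearMap.GeneralLinearGroup k M))) :
    CN (Submodule.span k (δ '' (X : Set (LinearMap.GeneralLinearGroup k M))) ⊔
      Submodule.span k (δ '' (Uu : Set (LinearMap.GeneralLinearGroup k M))) *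
        (1 ⊔ Submodule.span k (δ '' (X : Set (LinearMap.GeneralLinearGroup k M))))) := by
  apply CN.comb hU hX
  rw [Submodule.span_mul_span, Submodule.span_le]
  rintro _ ⟨_, ⟨g, hg, rfl⟩, _, ⟨u, hu, rfl⟩, rfl⟩
  change δ g * δ u ∈ _
  rw [δ_swap]
  have hu' : g * u * g⁻¹ ∈ Uu := (Subgroup.mem_normalizer_iff.1 (hnorm hg) u).1 hu
  have h1 : δ (g * u * g⁻¹) ∈ Submodule.span k (δ '' (Uu : Set (LinearMap.GeneralLinearGroup k M))) :=
    Submodule.subset_span ⟨_, hu', rfl⟩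
  have h2 : δ g ∈ Submodule.span k (δ '' (X : Set (LinearMap.GeneralLinearGroup k M))) :=
    Submodule.subset_span ⟨_, hg, rfl⟩
  have h3 : δ u ∈ Submodule.span k (δ '' (Uu : Set (LinearMap.GeneralLinearGroup k M))) :=
    Submodule.subset_span ⟨_, hu, rfl⟩
  exact Submodule.sub_mem _ (Submodule.add_mem _ (Submodule.mem_sup_left h1)
    (Submodule.mem_sup_right (Submodule.mul_mem_mul h1 h2))) (Submodule.mem_sup_left h3)

variable (W) in
/-- `L` is a nilpotent subalgebra spanned by `δ` of the group generated by the members inside it -/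
def Tight (L : Submodule k (Module.End k M)) : Prop := CN L ∧ core W L = L

variable (W) in
def MaxTight (L : Submodule k (Module.End k M)) : Prop :=
  Tight W L ∧ ∀ L', Tight W L' → L ≤ L' → L' = L

theorem tight_core {L : Submodule k (Module.End k M)} (hL : CN L) : Tight W (core W L) :=
  ⟨CN_core hL, core_core hL.1⟩

theorem tight_bot : Tight W (⊥ : Submodule k (Module.End k M)) := ⟨CN_bot, core_bot⟩

theorem exists_maxTight [FiniteDimensional k M] {L : Submodule k (Module.End k M)}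
    (hL : Tight W L) : ∃ L', MaxTight W L' ∧ L ≤ L' := by
  obtain ⟨L', ⟨hT, hle⟩, hmax⟩ := WellFounded.has_min wellFounded_gt
    {L' : Submodule k (Module.End k M) | Tight W L' ∧ L ≤ L'} ⟨L, hL, le_rfl⟩
  refine ⟨L', ⟨hT, fun L'' hT'' hle'' => ?_⟩, hle⟩
  by_contra hne
  exact hmax L'' ⟨hT'', hle.trans hle''⟩ (lt_of_le_of_ne hle'' (Ne.symm hne))

theorem bad_pair_step [FiniteDimensional k M]
    {G : Subgroup (LinearMap.GeneralLinearGroup k M)} (hWG : ∀ A ∈ W, A ≤ G)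
    (hWW : ∀ A ∈ W, ∀ B ∈ W, IsUnipotentOn (A ⊔ B))
    (hWconj : ∀ A ∈ W, ∀ g ∈ G, conjBy A g ∈ W)
    {L₁ L₂ : Submodule k (Module.End k M)} (h₁ : MaxTight W L₁) (h₂ : MaxTight W L₂)
    (hne : L₁ ≠ L₂) :
    ∃ L₃, MaxTight W L₃ ∧ (L₃ ≠ L₁ → core W (L₁ ⊓ L₂) < core W (L₃ ⊓ L₁)) ∧
      (L₃ ≠ L₂ → core W (L₁ ⊓ L₂) < core W (L₃ ⊓ L₂)) := by
  have hcn12 : CN (L₁ ⊓ L₂) := h₁.1.1.inf h₂.1.1
  obtain ⟨D, hDdef⟩ : ∃ D, D = core W (L₁ ⊓ L₂) := ⟨_, rfl⟩
  rw [← hDdef]
  have hDt : Tight W D := hDdef ▸ tight_core hcn12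
  have hDle : D ≤ L₁ ⊓ L₂ := hDdef ▸ core_le hcn12.1
  have hWD : Wsub W D = Wsub W (L₁ ⊓ L₂) := hDdef ▸ Wsub_core hcn12.1
  have hne1 : Wsub W D ≠ Wsub W L₁ := by
    intro h
    have : L₁ = D := by rw [← h₁.1.2, ← hDt.2]; exact (core_congr h).symm
    have hle : L₁ ≤ L₂ := this ▸ hDle.trans inf_le_right
    exact hne (h₁.2 L₂ h₂.1 hle).symm
  have hne2 : Wsub W D ≠ Wsub W L₂ := by
    intro h
    have : L₂ = D := by rw [← h₂.1.2, ← hDt.2]; exact (core_congr h).symm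
    have hle : L₂ ≤ L₁ := this ▸ hDle.trans inf_le_left
    exact hne (h₂.2 L₁ h₁.1 hle)
  obtain ⟨A₁, hA₁L, hA₁D, hA₁n⟩ :=
    exists_normalizing hWG hWconj hDt.1 h₁.1.1 (hDle.trans inf_le_left) hne1
  obtain ⟨A₂, hA₂L, hA₂D, hA₂n⟩ :=
    exists_normalizing hWG hWconj hDt.1 h₂.1.1 (hDle.trans inf_le_right) hne2
  have hX : CN (Submodule.span k (δ '' ((A₁ ⊔ A₂ : Subgroup (LinearMap.GeneralLinearGroup k M)) :
      Set (LinearMap.GeneralLinearGroup k M)))) :=
    CN_span_of_isUnipotentOn _ (hWW A₁ hA₁L.1 A₂ hA₂L.1)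
  have hUD : Submodule.span k (δ '' (U W D : Set (LinearMap.GeneralLinearGroup k M))) = D := hDt.2
  have hT := CN_comb_grp (Uu := U W D) (X := A₁ ⊔ A₂) (hUD.symm ▸ hDt.1) hX (sup_le hA₁n hA₂n)
  rw [hUD] at hT
  obtain ⟨T, hTdef⟩ : ∃ T, T = Submodule.span k (δ '' ((A₁ ⊔ A₂ :
      Subgroup (LinearMap.GeneralLinearGroup k M)) : Set (LinearMap.GeneralLinearGroup k M))) ⊔
      D * (1 ⊔ Submodule.span k (δ '' ((A₁ ⊔ A₂ : Subgroup (LinearMap.GeneralLinearGroup k M)) :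
      Set (LinearMap.GeneralLinearGroup k M)))) := ⟨_, rfl⟩
  rw [← hTdef] at hT
  have hDT : D ≤ T := by
    rw [hTdef]
    refine le_trans ?_ le_sup_right
    calc D = D * 1 := (mul_one D).symm
      _ ≤ D * (1 ⊔ _) := mul_le_mul' le_rfl le_sup_left
  have hXT : Submodule.span k (δ '' ((A₁ ⊔ A₂ : Subgroup (LinearMap.GeneralLinearGroup k M)) :
      Set (LinearMap.GeneralLinearGroup k M))) ≤ T := hTdef ▸ le_sup_left
  have hA₁T : A₁ ∈ Wsub W T := ⟨hA₁L.1, fun a ha =>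
    hXT (Submodule.subset_span ⟨a, (le_sup_left : A₁ ≤ A₁ ⊔ A₂) ha, rfl⟩)⟩
  have hA₂T : A₂ ∈ Wsub W T := ⟨hA₂L.1, fun a ha =>
    hXT (Submodule.subset_span ⟨a, (le_sup_right : A₂ ≤ A₁ ⊔ A₂) ha, rfl⟩)⟩
  obtain ⟨L₃, hL₃, hle₃⟩ := exists_maxTight (tight_core (W := W) hT)
  have hWT3 : Wsub W T ⊆ Wsub W L₃ := by
    rw [← Wsub_core hT.1]
    exact Wsub_mono hle₃
  have hWD3 : Wsub W D ⊆ Wsub W L₃ := (Wsub_mono hDT).trans hWT3
  refine ⟨L₃, hL₃, fun _ => ?_, fun _ => ?_⟩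
  · have hsub : Wsub W D ⊆ Wsub W (L₃ ⊓ L₁) := fun B hB =>
      ⟨hB.1, fun b hb => ⟨(hWD3 hB).2 b hb, (hDle.trans inf_le_left) (hB.2 b hb)⟩⟩
    have hle : D ≤ core W (L₃ ⊓ L₁) := by
      rw [← hDt.2]
      exact core_mono_of_subset hsub
    refine lt_of_le_of_ne hle ?_
    intro heq
    apply hA₁D
    have h31 : CN (L₃ ⊓ L₁) := hL₃.1.1.inf h₁.1.1
    rw [heq, Wsub_core h31.1]
    exact ⟨hA₁L.1, fun a ha => ⟨(hWT3 hA₁T).2 a ha, hA₁L.2 a ha⟩⟩
  · have hsub : Wsub W D ⊆ Wsub W (L₃ ⊓ L₂) := fun B hB =>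
      ⟨hB.1, fun b hb => ⟨(hWD3 hB).2 b hb, (hDle.trans inf_le_right) (hB.2 b hb)⟩⟩
    have hle : D ≤ core W (L₃ ⊓ L₂) := by
      rw [← hDt.2]
      exact core_mono_of_subset hsub
    refine lt_of_le_of_ne hle ?_
    intro heq
    apply hA₂D
    have h32 : CN (L₃ ⊓ L₂) := hL₃.1.1.inf h₂.1.1
    rw [heq, Wsub_core h32.1]
    exact ⟨hA₂L.1, fun a ha => ⟨(hWT3 hA₂T).2 a ha, hA₂L.2 a ha⟩⟩

theorem maxTight_unique [FiniteDimensional k M]
    {G : Subgroup (LinearMap.GeneralLinearGroup k M)} (hWG : ∀ A ∈ W, A ≤ G)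
    (hWW : ∀ A ∈ W, ∀ B ∈ W, IsUnipotentOn (A ⊔ B))
    (hWconj : ∀ A ∈ W, ∀ g ∈ G, conjBy A g ∈ W)
    {L₁ L₂ : Submodule k (Module.End k M)} (h₁ : MaxTight W L₁) (h₂ : MaxTight W L₂) :
    L₁ = L₂ := by
  by_contra hne
  obtain ⟨E, ⟨K₁, K₂, hK₁, hK₂, hKne, rfl⟩, hmax⟩ := WellFounded.has_min wellFounded_gt
    {E : Submodule k (Module.End k M) | ∃ K₁ K₂, MaxTight W K₁ ∧ MaxTight W K₂ ∧ K₁ ≠ K₂ ∧
      E = core W (K₁ ⊓ K₂)} ⟨_, L₁, L₂, h₁, h₂, hne, rfl⟩
  obtain ⟨L₃, hL₃, h31, h32⟩ := bad_pair_step hWG hWW hWconj hK₁ hK₂ hKne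
  by_cases h : L₃ = K₁
  · have h' : L₃ ≠ K₂ := fun h' => hKne (h.symm.trans h')
    exact hmax _ ⟨L₃, K₂, hL₃, hK₂, h', rfl⟩ (h32 h')
  · exact hmax _ ⟨L₃, K₁, hL₃, hK₁, h, rfl⟩ (h31 h)

/-- Main theorem: there is a nilpotent subalgebra `L` of `End M` containing `δ A` for all `A ∈ W`. -/
theorem main [FiniteDimensional k M]
    {G : Subgroup (LinearMap.GeneralLinearGroup k M)} (hWG : ∀ A ∈ W, A ≤ G)
    (hWW : ∀ A ∈ W, ∀ B ∈ W, IsUnipotentOn (A ⊔ B))
    (hWconj : ∀ A ∈ W, ∀ g ∈ G, conjBy A g ∈ W) :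
    ∃ L : Submodule k (Module.End k M), CN L ∧ ∀ A ∈ W, ∀ a ∈ A, δ a ∈ L := by
  obtain ⟨L, hL, -⟩ := exists_maxTight (tight_bot (W := W))
  refine ⟨L, hL.1.1, fun A hA a ha => ?_⟩
  have hA0 : CN (Submodule.span k (δ '' (A : Set (LinearMap.GeneralLinearGroup k M)))) := by
    have := hWW A hA A hA
    rw [sup_idem] at this
    exact CN_span_of_isUnipotentOn A this
  have hAW : A ∈ Wsub W (Submodule.span k (δ '' (A : Set (LinearMap.GeneralLinearGroup k M)))) :=
    ⟨hA, fun b hb => Submodule.subset_span ⟨b, hb, rfl⟩⟩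
  have hT0 : Tight W (Submodule.span k (δ '' (A : Set (LinearMap.GeneralLinearGroup k M)))) := by
    refine ⟨hA0, le_antisymm (core_le hA0.1) ?_⟩
    exact Submodule.span_mono (Set.image_mono (le_U hAW))
  obtain ⟨L', hL', hle⟩ := exists_maxTight hT0
  have : L' = L := maxTight_unique hWG hWW hWconj hL' hL
  rw [← this]
  exact hle (Submodule.subset_span ⟨a, ha, rfl⟩)

/-- The statement: `⟨W⟩` is unipotent and normalized by `G`. -/
theorem statement [FiniteDimensional k M]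
    {G : Subgroup (LinearMap.GeneralLinearGroup k M)} (hWG : ∀ A ∈ W, A ≤ G)
    (hWW : ∀ A ∈ W, ∀ B ∈ W, IsUnipotentOn (A ⊔ B))
    (hWconj : ∀ A ∈ W, ∀ g ∈ G, conjBy A g ∈ W) :
    IsUnipotentOn (⨆ A ∈ W, A) ∧ ∀ g ∈ G, conjBy (⨆ A ∈ W, A) g = ⨆ A ∈ W, A := by
  obtain ⟨L, hL, hLW⟩ := main hWG hWW hWconj
  refine ⟨?_, ?_⟩
  · apply isUnipotentOn_of_nil _ L hL.2
    have hle : (⨆ A ∈ W, A) ≤ Q L hL.1 := iSup₂_le fun A hA => le_Q (hLW A hA)
    exact fun g hg => (hle hg).1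
  · have hsub : ∀ g ∈ G, conjBy (⨆ A ∈ W, A) g ≤ ⨆ A ∈ W, A := by
      intro g hg
      unfold conjBy
      simp only [Subgroup.map_iSup]
      exact iSup₂_le fun A hA => le_biSup (fun A => A) (hWconj A hA g hg)
    intro g hg
    apply le_antisymm (hsub g hg)
    intro x hx
    have := hsub g⁻¹ (G.inv_mem hg) (conj_mem_conjBy (g := g⁻¹) hx)
    rw [mem_conjBy]
    rwa [inv_inv] at this

end main

end Cfsg.Agent.Lib.Helper25.UnipBS
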