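/-
helper25: the isotropic transvection groups of a unitary group (over a field `F` with an involution
`σ` whose trace is onto the fixed field) form a degenerate class of abstract root subgroups of the
group they generate, with connected graph of rank one pairs.
-/
import Mathlib
import Cfsg.Prelude.Def_RootSubgroups
import Cfsg.Agent.Lib.Helper25.TVK
import Cfsg.Agent.Lib.Helper25.SLRoot5
import Cfsg.Agent.Lib.Helper25.RootTransfer
import Cfsg.Agent.Lib.Helper25.RootGraphs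
import Cfsg.Agent.Lib.Helper25.RankOneOmega

set_option autoImplicit false

namespace Cfsg.Agent.Lib.Helper25.UnitaryRoot

open Cfsg Matrix
open Cfsg.Agent.Lib.Helper25 Cfsg.Agent.Lib.Helper25.SLRoot

variable {ι : Type*} [Fintype ι] [DecidableEq ι] {F : Type*} [Field F]

section basic

variable (σ : F →+* F)

/-- the conjugate vector. -/
def bar (p : ι → F) : ι → F := fun i => σ (p i)

/-- the hermitian form `Σ uᵢ σ(vᵢ)`. -/
def herm (u v : ι → F) : F := u ⬝ᵥ bar σ v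

theorem bar_add (u v : ι → F) : bar σ (u + v) = bar σ u + bar σ v := by
  ext i; simp [bar]

theorem bar_smul (a : F) (u : ι → F) : bar σ (a • u) = σ a • bar σ u := by
  ext i; simp [bar]

theorem bar_ne_zero {p : ι → F} (hp : p ≠ 0) : bar σ p ≠ 0 := by
  intro e
  apply hp
  ext i
  have := congrFun e i
  simp only [bar, Pi.zero_apply] at this
  exact (map_eq_zero σ).1 this

theorem herm_add_left (u u' v : ι → F) : herm σ (u + u') v = herm σ u v + herm σ u' v :=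
  add_dotProduct _ _ _

theorem herm_sub_left (u u' v : ι → F) : herm σ (u - u') v = herm σ u v - herm σ u' v :=
  sub_dotProduct _ _ _

theorem herm_add_right (u v v' : ι → F) : herm σ u (v + v') = herm σ u v + herm σ u v' := by
  unfold herm
  rw [bar_add, dotProduct_add]

theorem herm_smul_left (a : F) (u v : ι → F) : herm σ (a • u) v = a * herm σ u v := by
  unfold herm
  rw [smul_dotProduct, smul_eq_mul]

theorem herm_smul_right (a : F) (u v : ι → F) : herm σ u (a • v) = σ a * herm σ u v := by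
  unfold herm
  rw [bar_smul, dotProduct_smul, smul_eq_mul]

theorem herm_eq_bar_dot (u v : ι → F) : herm σ u v = bar σ v ⬝ᵥ u := dotProduct_comm _ _

theorem herm_single (i : ι) (p : ι → F) : herm σ (Pi.single i 1) p = σ (p i) := by
  unfold herm
  rw [single_dotProduct, one_mul]
  rfl

theorem exists_herm_ne_zero {p : ι → F} (hp : p ≠ 0) : ∃ v, herm σ v p ≠ 0 := by
  obtain ⟨i, hi⟩ := Function.ne_iff.1 hp
  refine ⟨Pi.single i 1, ?_⟩
  rw [herm_single]
  exact fun e => hi ((map_eq_zero σ).1 e)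

/-- the additive group of trace zero elements. -/
def trZero : AddSubgroup F where
  carrier := {a | σ a = -a}
  add_mem' := by
    intro a b ha hb
    show σ (a + b) = -(a + b)
    rw [map_add, ha, hb, neg_add]
  zero_mem' := by
    show σ 0 = -0
    rw [map_zero, neg_zero]
  neg_mem' := by
    intro a ha
    show σ (-a) = - -a
    rw [map_neg, ha]

theorem mem_trZero {a : F} : a ∈ trZero σ ↔ σ a = -a := Iff.rfl

/-- the unitary transvection group with centre `p`. -/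
def UT (p : ι → F) (hp : bar σ p ⬝ᵥ p = 0) : Subgroup (Matrix.SpecialLinearGroup ι F) :=
  TVK p (bar σ p) hp (trZero σ)

variable {σ}

theorem herm_swap (hσ : ∀ x, σ (σ x) = x) (u v : ι → F) : σ (herm σ u v) = herm σ v u := by
  unfold herm bar dotProduct
  rw [map_sum]
  apply Finset.sum_congr rfl
  intro i _
  rw [map_mul, hσ, mul_comm]

theorem herm_ne_zero_swap (hσ : ∀ x, σ (σ x) = x) {u v : ι → F} (h : herm σ u v ≠ 0) :
    herm σ v u ≠ 0 := by
  rw [← herm_swap hσ]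
  exact fun e => h ((map_eq_zero σ).1 e)

theorem herm_eq_zero_swap (hσ : ∀ x, σ (σ x) = x) {u v : ι → F} (h : herm σ u v = 0) :
    herm σ v u = 0 := by
  rw [← herm_swap hσ, h, map_zero]

/-- for a unitary `g`, the covector `p̄ g⁻¹` is the conjugate of `g p`. -/
theorem bar_vecMul_inv (hσ : ∀ x, σ (σ x) = x) {g : Matrix.SpecialLinearGroup ι F}
    (hg : ∀ u v, herm σ ((↑g : Matrix ι ι F) *ᵥ u) ((↑g : Matrix ι ι F) *ᵥ v) = herm σ u v)
    (p : ι → F) :
    bar σ p ᵥ* (↑(g⁻¹) : Matrix ι ι F) = bar σ ((↑g : Matrix ι ι F) *ᵥ p) := by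
  have key : ∀ w, (bar σ p ᵥ* (↑(g⁻¹) : Matrix ι ι F)) ⬝ᵥ w =
      bar σ ((↑g : Matrix ι ι F) *ᵥ p) ⬝ᵥ w := by
    intro w
    rw [← dotProduct_mulVec, ← herm_eq_bar_dot, ← herm_eq_bar_dot,
      ← hg ((↑(g⁻¹) : Matrix ι ι F) *ᵥ w) p, mulVec_mulVec, coe_mul_coe_inv, one_mulVec]
  ext i
  have := key (Pi.single i 1)
  rwa [dotProduct_single, dotProduct_single, mul_one, mul_one] at this

theorem isotropic_map {g : Matrix.SpecialLinearGroup ι F}
    (hg : ∀ u v, herm σ ((↑g : Matrix ι ι F) *ᵥ u) ((↑g : Matrix ι ι F) *ᵥ v) = herm σ u v)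
    {p : ι → F} (hp : bar σ p ⬝ᵥ p = 0) :
    bar σ ((↑g : Matrix ι ι F) *ᵥ p) ⬝ᵥ ((↑g : Matrix ι ι F) *ᵥ p) = 0 := by
  rw [← herm_eq_bar_dot, hg, herm_eq_bar_dot, hp]

theorem conjBy_UT (hσ : ∀ x, σ (σ x) = x) {g : Matrix.SpecialLinearGroup ι F}
    (hg : ∀ u v, herm σ ((↑g : Matrix ι ι F) *ᵥ u) ((↑g : Matrix ι ι F) *ᵥ v) = herm σ u v)
    {p : ι → F} (hp : bar σ p ⬝ᵥ p = 0) :
    conjBy (UT σ p hp) g = UT σ ((↑g : Matrix ι ι F) *ᵥ p) (isotropic_map hg hp) := by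
  unfold UT
  rw [conjBy_TVK]
  exact TVK_congr _ _ rfl (bar_vecMul_inv hσ hg p) _

theorem UT_comm (p : ι → F) (hp : bar σ p ⬝ᵥ p = 0) : IsMulCommutative (UT σ p hp) :=
  TVK_comm hp _

theorem UT_ne_bot {ε : F} (hε0 : ε ≠ 0) (hε : σ ε = -ε) {p : ι → F} (hp0 : p ≠ 0)
    (hp : bar σ p ⬝ᵥ p = 0) : UT σ p hp ≠ ⊥ :=
  TVK_ne_bot hp hp0 (bar_ne_zero σ hp0) ⟨ε, hε, hε0⟩

theorem UT_commutator_eq_bot (hσ : ∀ x, σ (σ x) = x) {p r : ι → F} (hp : bar σ p ⬝ᵥ p = 0)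
    (hr : bar σ r ⬝ᵥ r = 0) (h0 : herm σ p r = 0) : ⁅UT σ p hp, UT σ r hr⁆ = ⊥ := by
  unfold UT
  apply commutator_TVK_eq_bot
  · rw [← herm_eq_bar_dot]
    exact herm_eq_zero_swap hσ h0
  · rw [← herm_eq_bar_dot]
    exact h0

theorem UT_rankOne (hσ : ∀ x, σ (σ x) = x) {ε : F} (hε0 : ε ≠ 0) (hε : σ ε = -ε) {p r : ι → F}
    (hp0 : p ≠ 0) (hr0 : r ≠ 0) (hp : bar σ p ⬝ᵥ p = 0) (hr : bar σ r ⬝ᵥ r = 0)
    (h1 : herm σ p r ≠ 0) : IsRankOnePair (UT σ p hp) (UT σ r hr) := by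
  unfold UT
  have hα : bar σ p ⬝ᵥ r ≠ 0 := by
    rw [← herm_eq_bar_dot]
    exact herm_ne_zero_swap hσ h1
  have hβ : bar σ r ⬝ᵥ p ≠ 0 := by
    rw [← herm_eq_bar_dot]
    exact h1
  have hαβ : σ (bar σ p ⬝ᵥ r) = bar σ r ⬝ᵥ p := by
    rw [← herm_eq_bar_dot, ← herm_eq_bar_dot, herm_swap hσ]
  have hβα : σ (bar σ r ⬝ᵥ p) = bar σ p ⬝ᵥ r := by
    rw [← herm_eq_bar_dot, ← herm_eq_bar_dot, herm_swap hσ]
  apply rankOnePair_TVK hp hr hp0 (bar_ne_zero σ hp0) hr0 (bar_ne_zero σ hr0) hα hβ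
    ⟨ε, hε, hε0⟩
  · intro s hs hs0
    rw [mem_trZero] at hs ⊢
    rw [map_inv₀, map_mul, map_mul, hs, hαβ, hβα, ← inv_neg]
    congr 1
    ring
  · intro s hs t ht c hc hs0
    rw [mem_trZero] at hs ht hc ⊢
    rw [map_mul, map_mul, map_inv₀, hs, ht, hc, inv_neg]
    ring

section psl2

variable {L : Type*} [Field L]

theorem UT_psl2 (hσ : ∀ x, σ (σ x) = x) (j : L →+* F) (hj : ∀ x, σ x = x ↔ ∃ y, j y = x)
    {ε : F} (hε0 : ε ≠ 0) (hε : σ ε = -ε) {p r : ι → F}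
    (hp : bar σ p ⬝ᵥ p = 0) (hr : bar σ r ⬝ᵥ r = 0)
    (h1 : herm σ p r ≠ 0) : IsPSL2PairOver L (UT σ p hp) (UT σ r hr) := by
  unfold UT
  have hα : bar σ p ⬝ᵥ r ≠ 0 := by
    rw [← herm_eq_bar_dot]
    exact herm_ne_zero_swap hσ h1
  have hβ : bar σ r ⬝ᵥ p ≠ 0 := by
    rw [← herm_eq_bar_dot]
    exact h1
  have hαβ : σ (bar σ p ⬝ᵥ r) = bar σ r ⬝ᵥ p := by
    rw [← herm_eq_bar_dot, ← herm_eq_bar_dot, herm_swap hσ]
  have hβα : σ (bar σ r ⬝ᵥ p) = bar σ p ⬝ᵥ r := by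
    rw [← herm_eq_bar_dot, ← herm_eq_bar_dot, herm_swap hσ]
  apply psl2Pair_TVK hp hr hα hβ j hε0
  · intro c
    rw [mem_trZero]
    constructor
    · intro hc
      have h2 : σ (c / ε) = c / ε := by
        rw [map_div₀, hc, hε, neg_div_neg_eq]
      obtain ⟨y, hy⟩ := (hj _).1 h2
      refine ⟨y, ?_⟩
      rw [hy]
      field_simp
    · rintro ⟨x, rfl⟩
      rw [map_mul, hε, (hj (j x)).2 ⟨x, rfl⟩, neg_mul]
  · have h2 : σ (ε ^ 2 * (bar σ p ⬝ᵥ r) * (bar σ r ⬝ᵥ p)) =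
        ε ^ 2 * (bar σ p ⬝ᵥ r) * (bar σ r ⬝ᵥ p) := by
      rw [map_mul, map_mul, map_pow, hε, hαβ, hβα]
      ring
    exact (hj _).1 h2

end psl2

/-- two perpendicular isotropic points have a common non-perpendicular isotropic neighbour. -/
theorem exists_common_neighbor (hσ : ∀ x, σ (σ x) = x)
    (htr : ∀ γ, σ γ = γ → ∃ x, x + σ x = γ) {p r : ι → F} (hp0 : p ≠ 0) (hr0 : r ≠ 0)
    (hp : herm σ p p = 0) (hpr : herm σ p r = 0) :
    ∃ s, s ≠ 0 ∧ herm σ s s = 0 ∧ herm σ s p ≠ 0 ∧ herm σ s r ≠ 0 := by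
  -- first a vector not perpendicular to `p` nor to `r`
  obtain ⟨s', hs'p, hs'r⟩ : ∃ s', herm σ s' p ≠ 0 ∧ herm σ s' r ≠ 0 := by
    obtain ⟨v₁, hv₁⟩ := exists_herm_ne_zero σ hp0
    obtain ⟨v₂, hv₂⟩ := exists_herm_ne_zero σ hr0
    by_cases h1 : herm σ v₁ r = 0
    · by_cases h2 : herm σ v₂ p = 0
      · refine ⟨v₁ + v₂, ?_, ?_⟩
        · rw [herm_add_left, h2, add_zero]
          exact hv₁
        · rw [herm_add_left, h1, zero_add]
          exact hv₂
      · exact ⟨v₂, h2, hv₂⟩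
    · exact ⟨v₁, hv₁, h1⟩
  have hc : herm σ p s' ≠ 0 := herm_ne_zero_swap hσ hs'p
  have hfix : σ (-herm σ s' s') = -herm σ s' s' := by rw [map_neg, herm_swap hσ]
  obtain ⟨x, hx⟩ := htr _ hfix
  have hrp : herm σ r p = 0 := herm_eq_zero_swap hσ hpr
  refine ⟨s' + (x / herm σ p s') • p, ?_, ?_, ?_, ?_⟩
  · intro e
    apply hs'p
    have h3 : herm σ (s' + (x / herm σ p s') • p) p = 0 := by
      rw [e]
      unfold herm
      rw [zero_dotProduct]
    rwa [herm_add_left, herm_smul_left, hp, mul_zero, add_zero] at h3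
  · rw [herm_add_left, herm_add_right, herm_add_right, herm_smul_left, herm_smul_left,
      herm_smul_right, herm_smul_right, hp, mul_zero, mul_zero, add_zero,
      ← herm_swap hσ p s', ← map_mul]
    have h4 : x / herm σ p s' * herm σ p s' = x := div_mul_cancel₀ x hc
    rw [h4, add_assoc, add_comm (σ x), hx, add_neg_cancel]
  · rw [herm_add_left, herm_smul_left, hp, mul_zero, add_zero]
    exact hs'p
  · rw [herm_add_left, herm_smul_left, hpr, mul_zero, add_zero]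
    exact hs'r

end basic

end Cfsg.Agent.Lib.Helper25.UnitaryRoot
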