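/-
helper25: the isotropic transvection groups of a unitary group: the main abstract theorem, for a
group `G` embedded in `SL ι F` by unitary matrices and a set `S'` of subgroups mapping onto the
groups `UT p`, and its specialisation to the subgroup generated by the transvection groups.
-/
import Mathlib
import Cfsg.Prelude.Def_RootSubgroups
import Cfsg.Agent.Lib.Helper25.UnitaryRoot

set_option autoImplicit false

namespace Cfsg.Agent.Lib.Helper25.UnitaryRoot

open Cfsg Matrix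
open Cfsg.Agent.Lib.Helper25 Cfsg.Agent.Lib.Helper25.SLRoot

variable {ι : Type*} [Fintype ι] [DecidableEq ι] {F : Type*} [Field F]

section main

variable {σ : F →+* F} {L : Type*} [Field L] {G : Type*} [Group G]

theorem root_main (hσ : ∀ x, σ (σ x) = x) (htr : ∀ γ, σ γ = γ → ∃ x, x + σ x = γ)
    {ε : F} (hε0 : ε ≠ 0) (hε : σ ε = -ε) (j : L →+* F) (hj : ∀ x, σ x = x ↔ ∃ y, j y = x)
    (f : G →* Matrix.SpecialLinearGroup ι F) (hf : Function.Injective f)
    (hunit : ∀ g u v, herm σ ((↑(f g) : Matrix ι ι F) *ᵥ u) ((↑(f g) : Matrix ι ι F) *ᵥ v) =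
      herm σ u v)
    (S' : Set (Subgroup G))
    (hS1 : ∀ A ∈ S', ∃ (p : ι → F) (hp : bar σ p ⬝ᵥ p = 0), p ≠ 0 ∧ A.map f = UT σ p hp)
    (hS2 : ∀ (p : ι → F) (hp : bar σ p ⬝ᵥ p = 0), p ≠ 0 → ∃ A ∈ S', A.map f = UT σ p hp)
    (hgen : (⨆ A ∈ S', A) = ⊤) (hne : S'.Nonempty) :
    IsRootSubgroupClass S' ∧ IsDegenerateRootSet S' ∧ IsKRootSubgroupSet L S' ∧
      IsConnectedFamily (FAdj S') S' := by
  have hnebot : ∀ A ∈ S', A ≠ ⊥ := by
    intro A hA e
    obtain ⟨p, hp, hp0, hAp⟩ := hS1 A hA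
    rw [e, Subgroup.map_bot] at hAp
    exact UT_ne_bot hε0 hε hp0 hp hAp.symm
  have hadj : ∀ A ∈ S', ∀ B ∈ S', ∀ (p : ι → F) (hp : bar σ p ⬝ᵥ p = 0) (r : ι → F)
      (hr : bar σ r ⬝ᵥ r = 0), p ≠ 0 → r ≠ 0 → A.map f = UT σ p hp → B.map f = UT σ r hr →
      herm σ p r ≠ 0 → IsRankOnePair A B ∧ IsPSL2PairOver L A B := by
    intro A _ B _ p hp r hr hp0 hr0 hAp hBr h1
    constructor
    · apply rankOnePair_of_map_injective f hf
      rw [hAp, hBr]
      exact UT_rankOne hσ hε0 hε hp0 hr0 hp hr h1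
    · apply psl2Pair_of_map_injective f hf
      rw [hAp, hBr]
      exact UT_psl2 hσ j hj hε0 hε hp hr h1
  have dich : ∀ A ∈ S', ∀ B ∈ S', ⁅A, B⁆ = ⊥ ∨ (IsRankOnePair A B ∧ IsPSL2PairOver L A B) := by
    intro A hA B hB
    obtain ⟨p, hp, hp0, hAp⟩ := hS1 A hA
    obtain ⟨r, hr, hr0, hBr⟩ := hS1 B hB
    by_cases h0 : herm σ p r = 0
    · left
      apply commutator_eq_bot_of_map_injective f hf
      rw [hAp, hBr]
      exact UT_commutator_eq_bot hσ hp hr h0
    · right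
      exact hadj A hA B hB p hp r hr hp0 hr0 hAp hBr h0
  have hroot : IsRootSubgroupSet S' := by
    refine ⟨?_, hnebot, hgen, ?_, ?_⟩
    · intro A hA
      obtain ⟨p, hp, hp0, hAp⟩ := hS1 A hA
      apply isMulCommutative_of_map_injective f hf
      rw [hAp]
      exact UT_comm p hp
    · intro A hA g
      obtain ⟨p, hp, hp0, hAp⟩ := hS1 A hA
      obtain ⟨A', hA', hA'p⟩ := hS2 ((↑(f g) : Matrix ι ι F) *ᵥ p) (isotropic_map (hunit g) hp)
        (mulVec_ne_zero' (f g) hp0)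
      have : conjBy A g = A' := by
        apply Subgroup.map_injective hf
        rw [map_conjBy, hAp, hA'p, conjBy_UT hσ (hunit g) hp]
      rw [this]
      exact hA'
    · intro A hA B hB
      rcases dich A hA B hB with h | h
      · exact Or.inl h
      · exact Or.inr (Or.inl h.1)
  have hconn : IsConnectedFamily (FAdj S') S' := by
    intro A hA B hB
    obtain ⟨p, hp, hp0, hAp⟩ := hS1 A hA
    obtain ⟨r, hr, hr0, hBr⟩ := hS1 B hB
    by_cases h0 : herm σ p r = 0
    · have hpp : herm σ p p = 0 := by rw [herm_eq_bar_dot, hp]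
      obtain ⟨s, hs0, hss, hsp, hsr⟩ := exists_common_neighbor hσ htr hp0 hr0 hpp h0
      have hs : bar σ s ⬝ᵥ s = 0 := by rw [← herm_eq_bar_dot, hss]
      obtain ⟨C, hC, hCs⟩ := hS2 s hs hs0
      have e1 : FAdj S' A C :=
        ⟨hA, hC, (hadj A hA C hC p hp s hs hp0 hs0 hAp hCs (herm_ne_zero_swap hσ hsp)).1⟩
      have e2 : FAdj S' C B := ⟨hC, hB, (hadj C hC B hB s hs r hr hs0 hr0 hCs hBr hsr).1⟩
      exact Relation.ReflTransGen.tail (Relation.ReflTransGen.single e1) e2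
    · exact Relation.ReflTransGen.single
        ⟨hA, hB, (hadj A hA B hB p hp r hr hp0 hr0 hAp hBr h0).1⟩
  have hclass : IsConjClassOfSubgroups S' := by
    refine ⟨hne, ?_⟩
    intro A hA B hB
    have hpath := hconn A hA B hB
    induction hpath with
    | refl => exact ⟨1, (conjBy_one A).symm⟩
    | tail _ hCB ih =>
      rename_i C B'
      obtain ⟨g, hg⟩ := ih hCB.1
      obtain ⟨x, -, hx⟩ := rankOne_right_mem_unipotentSubgroups hCB.2.2
      refine ⟨x * g, ?_⟩
      rw [conjBy_mul, ← hg, ← hx]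
  refine ⟨⟨hroot, hclass⟩, ?_, ⟨hroot, ?_⟩, hconn⟩
  · intro A hA B hB hc
    rcases dich A hA B hB with h | h
    · have hmem := hc.1
      rw [h] at hmem
      exact hnebot ⊥ hmem rfl
    · exact rankOne_not_commutatorCase h.1 hc
  · intro A hA B hB hAB
    rcases dich A hA B hB with h | h
    · exact absurd h (rankOne_commutator_ne_bot hAB)
    · exact h.2

end main

section generated

variable {G : Type*} [Group G]

/-- the members of a set of subgroups, viewed inside the subgroup they generate, generate it. -/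
theorem iSup_subgroupOf_eq_top (S : Set (Subgroup G)) :
    (⨆ A ∈ (fun A : Subgroup G => A.subgroupOf (⨆ B ∈ S, B)) '' S, A) = ⊤ := by
  rw [iSup_image]
  apply Subgroup.map_injective (Subgroup.subtype_injective (⨆ B ∈ S, B))
  rw [Subgroup.map_iSup, ← MonoidHom.range_eq_map, Subgroup.range_subtype]
  apply le_antisymm
  · apply iSup_le
    intro A
    rw [Subgroup.map_iSup]
    apply iSup_le
    intro hA
    rw [Subgroup.map_subgroupOf_eq_of_le (le_iSup₂ (f := fun (B : Subgroup G) (_ : B ∈ S) => B) A hA)]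
    exact le_iSup₂ (f := fun (B : Subgroup G) (_ : B ∈ S) => B) A hA
  · apply iSup₂_le
    intro A hA
    refine le_trans ?_ (le_iSup _ A)
    rw [Subgroup.map_iSup]
    refine le_trans ?_ (le_iSup _ hA)
    rw [Subgroup.map_subgroupOf_eq_of_le (le_iSup₂ (f := fun (B : Subgroup G) (_ : B ∈ S) => B) A hA)]

end generated

section statement

variable (U : Subgroup (Matrix.SpecialLinearGroup ι F)) (h : (ι → F) → (ι → F) → F)

/-- the generating set of the transvection group with centre `p`, as in the statement. -/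
def tsetOf (p : ι → F) : Set ↥U :=
  {g : ↥U | (∀ v : ι → F, ∃ c : F,
      ((g : Matrix.SpecialLinearGroup ι F) : Matrix ι ι F) *ᵥ v = v + c • p) ∧
    ∀ v : ι → F, h v p = 0 → ((g : Matrix.SpecialLinearGroup ι F) : Matrix ι ι F) *ᵥ v = v}

/-- the set of transvection groups. -/
def sigmaOf : Set (Subgroup ↥U) :=
  {A | ∃ p : ι → F, p ≠ 0 ∧ h p p = 0 ∧ A = Subgroup.closure (tsetOf U h p)}

variable {U} {σ : F →+* F}

theorem map_closure_tset (hσ : ∀ x, σ (σ x) = x)
    (hU : ∀ g, g ∈ U ↔ ∀ u v, herm σ ((↑g : Matrix ι ι F) *ᵥ u) ((↑g : Matrix ι ι F) *ᵥ v) =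
      herm σ u v) {p : ι → F} (hp0 : p ≠ 0) (hp : bar σ p ⬝ᵥ p = 0) :
    (Subgroup.closure (tsetOf U (herm σ) p)).map U.subtype = UT σ p hp := by
  rw [MonoidHom.map_closure]
  have hpp : herm σ p p = 0 := by rw [herm_eq_bar_dot, hp]
  have himg : U.subtype '' tsetOf U (herm σ) p =
      (UT σ p hp : Set (Matrix.SpecialLinearGroup ι F)) := by
    ext x
    constructor
    · rintro ⟨g, ⟨hg1, hg2⟩, rfl⟩
      have hunit := (hU g).1 g.2
      obtain ⟨i, hi⟩ := Function.ne_iff.1 hp0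
      have hi' : σ (p i) ≠ 0 := fun e => hi ((map_eq_zero σ).1 e)
      obtain ⟨v₀, hv₀⟩ : ∃ v₀ : ι → F, herm σ v₀ p = 1 := by
        refine ⟨(σ (p i))⁻¹ • Pi.single i 1, ?_⟩
        rw [herm_smul_left, herm_single, inv_mul_cancel₀ hi']
      obtain ⟨a, ha⟩ := hg1 v₀
      have key : ∀ v : ι → F, ((g : Matrix.SpecialLinearGroup ι F) : Matrix ι ι F) *ᵥ v =
          v + (a * herm σ v p) • p := by
        intro v
        have h3 := hg2 (v - herm σ v p • v₀) (by
          rw [herm_sub_left, herm_smul_left, hv₀, mul_one, sub_self])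
        rw [mulVec_sub, mulVec_smul, ha, sub_eq_iff_eq_add] at h3
        rw [h3, smul_add, smul_smul, mul_comm a]
        abel
      have haK : a ∈ trZero σ := by
        rw [mem_trZero]
        have h4 := hunit v₀ v₀
        rw [ha, herm_add_left, herm_add_right, herm_add_right, herm_smul_left, herm_smul_left,
          herm_smul_right, herm_smul_right, hpp, mul_zero, mul_zero, add_zero, hv₀,
          ← herm_swap hσ v₀ p, hv₀, map_one, mul_one, mul_one, add_assoc, add_eq_left] at h4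
        exact eq_neg_of_add_eq_zero_left h4
      refine ⟨a, haK, ?_⟩
      apply Subtype.ext
      rw [Matrix.ext_iff_mulVec]
      intro v
      rw [tvSL_mulVec, ← herm_eq_bar_dot]
      exact (key v).symm
    · rintro ⟨a, ha, rfl⟩
      rw [mem_trZero] at ha
      have hmem : tvSL p (bar σ p) hp a ∈ U := by
        rw [hU]
        intro u v
        rw [tvSL_mulVec, tvSL_mulVec, ← herm_eq_bar_dot, ← herm_eq_bar_dot, herm_add_left,
          herm_add_right, herm_add_right, herm_smul_left, herm_smul_left, herm_smul_right,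
          herm_smul_right, hpp, mul_zero, mul_zero, add_zero, map_mul, ha,
          ← herm_swap hσ v p]
        ring
      refine ⟨⟨tvSL p (bar σ p) hp a, hmem⟩, ⟨?_, ?_⟩, rfl⟩
      · intro v
        exact ⟨a * (bar σ p ⬝ᵥ v), tvSL_mulVec hp a v⟩
      · intro v hv
        show (↑(tvSL p (bar σ p) hp a) : Matrix ι ι F) *ᵥ v = v
        rw [tvSL_mulVec, ← herm_eq_bar_dot, hv, mul_zero, zero_smul, add_zero]
  rw [himg, Subgroup.closure_eq]

variable {L : Type*} [Field L]

/-- the statement, for a subgroup `U` of `SL ι F` consisting of the matrices preserving the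
hermitian form. -/
theorem unitary_statement (hσ : ∀ x, σ (σ x) = x) (htr : ∀ γ, σ γ = γ → ∃ x, x + σ x = γ)
    {ε : F} (hε0 : ε ≠ 0) (hε : σ ε = -ε) (j : L →+* F) (hj : ∀ x, σ x = x ↔ ∃ y, j y = x)
    (hU : ∀ g, g ∈ U ↔ ∀ u v, herm σ ((↑g : Matrix ι ι F) *ᵥ u) ((↑g : Matrix ι ι F) *ᵥ v) =
      herm σ u v)
    (hh : ∀ u v, h u v = herm σ u v) (hiso : ∃ p : ι → F, p ≠ 0 ∧ herm σ p p = 0) :
    IsRootSubgroupClass ((fun A : Subgroup ↥U => A.subgroupOf (⨆ B ∈ sigmaOf U h, B)) ''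
      sigmaOf U h) ∧
    IsDegenerateRootSet ((fun A : Subgroup ↥U => A.subgroupOf (⨆ B ∈ sigmaOf U h, B)) ''
      sigmaOf U h) ∧
    IsKRootSubgroupSet L ((fun A : Subgroup ↥U => A.subgroupOf (⨆ B ∈ sigmaOf U h, B)) ''
      sigmaOf U h) ∧
    IsConnectedFamily (FAdj ((fun A : Subgroup ↥U => A.subgroupOf (⨆ B ∈ sigmaOf U h, B)) ''
      sigmaOf U h)) ((fun A : Subgroup ↥U => A.subgroupOf (⨆ B ∈ sigmaOf U h, B)) ''
      sigmaOf U h) := by
  obtain rfl : h = herm σ := by
    funext u v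
    exact hh u v
  have hle : ∀ A ∈ sigmaOf U (herm σ), A ≤ ⨆ B ∈ sigmaOf U (herm σ), B := fun A hA =>
    le_iSup₂ (f := fun (B : Subgroup ↥U) (_ : B ∈ sigmaOf U (herm σ)) => B) A hA
  have hmap : ∀ A ∈ sigmaOf U (herm σ),
      (A.subgroupOf (⨆ B ∈ sigmaOf U (herm σ), B)).map
        (U.subtype.comp (⨆ B ∈ sigmaOf U (herm σ), B).subtype) = A.map U.subtype := by
    intro A hA
    rw [← Subgroup.map_map, Subgroup.map_subgroupOf_eq_of_le (hle A hA)]
  refine root_main hσ htr hε0 hε j hj (U.subtype.comp (⨆ B ∈ sigmaOf U (herm σ), B).subtype)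
    ((Subgroup.subtype_injective U).comp (Subgroup.subtype_injective _)) ?_ _ ?_ ?_
    (iSup_subgroupOf_eq_top _) ?_
  · intro g u v
    exact (hU _).1 (g : ↥U).2 u v
  · rintro _ ⟨A, hA, rfl⟩
    obtain ⟨p, hp0, hpp, rfl⟩ := hA
    have hp : bar σ p ⬝ᵥ p = 0 := by rw [← herm_eq_bar_dot, hpp]
    refine ⟨p, hp, hp0, ?_⟩
    rw [hmap _ ⟨p, hp0, hpp, rfl⟩]
    exact map_closure_tset hσ hU hp0 hp
  · intro p hp hp0
    have hpp : herm σ p p = 0 := by rw [herm_eq_bar_dot, hp]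
    refine ⟨_, ⟨Subgroup.closure (tsetOf U (herm σ) p), ⟨p, hp0, hpp, rfl⟩, rfl⟩, ?_⟩
    rw [hmap _ ⟨p, hp0, hpp, rfl⟩]
    exact map_closure_tset hσ hU hp0 hp
  · obtain ⟨p, hp0, hpp⟩ := hiso
    exact ⟨_, ⟨Subgroup.closure (tsetOf U (herm σ) p), ⟨p, hp0, hpp, rfl⟩, rfl⟩⟩

end statement

end Cfsg.Agent.Lib.Helper25.UnitaryRoot
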