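/-
helper25: the finite field input for the unitary transvection groups: for `|F| = q²` the map
`x ↦ x ^ q` is an involutive field automorphism whose trace and norm are onto the fixed field,
which has `q` elements.
-/
import Mathlib
import Cfsg.Prelude.Def_RootSubgroups
import Cfsg.Prelude.Def_Classical
import Cfsg.Agent.Lib.Helper25.UnitaryRoot2

set_option autoImplicit false

namespace Cfsg.Agent.Lib.Helper25.UnitaryRoot

open Cfsg Matrix Polynomial
open Cfsg.Agent.Lib.Helper25 Cfsg.Agent.Lib.Helper25.SLRoot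

section finite

variable {F : Type*} [Field F] [Fintype F]

theorem one_lt_of_card_sq {q : ℕ} (hF : Fintype.card F = q ^ 2) : 1 < q := by
  have h1 : 1 < Fintype.card F := Fintype.one_lt_card
  rw [hF] at h1
  by_contra h
  have h2 : q ≤ 1 := Nat.le_of_not_lt h
  have h3 : q ^ 2 ≤ 1 ^ 2 := Nat.pow_le_pow_left h2 2
  omega

/-- the involution `x ↦ x ^ q`. -/
theorem exists_frob {q : ℕ} (hF : Fintype.card F = q ^ 2) :
    ∃ σ : F →+* F, (∀ x, σ x = x ^ q) ∧ (∀ x, σ (σ x) = x) := by
  obtain ⟨p, hchar, n, hp, hn⟩ := FiniteField.card' F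
  have hq : q ∣ p ^ (n : ℕ) := by
    rw [← hn, hF]
    exact dvd_pow_self q two_ne_zero
  obtain ⟨m, -, rfl⟩ := (Nat.dvd_prime_pow hp).1 hq
  haveI := hchar
  haveI : ExpChar F p := ExpChar.prime hp
  refine ⟨iterateFrobenius F p m, fun x => iterateFrobenius_def p m x, fun x => ?_⟩
  rw [iterateFrobenius_def, iterateFrobenius_def, ← pow_mul, ← sq, ← hF, FiniteField.pow_card]

variable {σ : F →+* F} {q : ℕ}

theorem card_fixed_le [DecidableEq F] (hσq : ∀ x, σ x = x ^ q) (hq : 1 < q) :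
    (Finset.univ.filter (fun x : F => σ x = x)).card ≤ q := by
  calc (Finset.univ.filter (fun x : F => σ x = x)).card
      ≤ (X ^ q - X : F[X]).roots.toFinset.card := by
        apply Finset.card_le_card
        intro x hx
        have hx' : σ x = x := (Finset.mem_filter.1 hx).2
        rw [Multiset.mem_toFinset, mem_roots (FiniteField.X_pow_card_sub_X_ne_zero F hq),
          IsRoot.def, eval_sub, eval_pow, eval_X, ← hσq, hx', sub_self]
    _ ≤ Multiset.card (X ^ q - X : F[X]).roots := Multiset.toFinset_card_le _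
    _ ≤ (X ^ q - X : F[X]).natDegree := Polynomial.card_roots' _
    _ = q := FiniteField.X_pow_card_sub_X_natDegree_eq F hq

/-- trace is onto the fixed field, which has `q` elements; there is a nonzero trace zero element. -/
theorem trace_facts [DecidableEq F] (hσq : ∀ x, σ x = x ^ q) (hσ : ∀ x, σ (σ x) = x)
    (hF : Fintype.card F = q ^ 2) :
    (∀ γ, σ γ = γ → ∃ x, x + σ x = γ) ∧ (∃ ε, ε ≠ 0 ∧ σ ε = -ε) ∧
      (Finset.univ.filter (fun x : F => σ x = x)).card = q := by
  have hq : 1 < q := one_lt_of_card_sq hF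
  have hA : (Finset.univ.filter (fun x : F => σ x = x)).card ≤ q := card_fixed_le hσq hq
  -- a non-fixed element
  obtain ⟨x₀, hx₀⟩ : ∃ x₀, σ x₀ ≠ x₀ := by
    by_contra hall
    push Not at hall
    have : Finset.univ.filter (fun x : F => σ x = x) = Finset.univ := by
      rw [Finset.filter_eq_self]
      intro x _
      exact hall x
    rw [this, Finset.card_univ, hF] at hA
    nlinarith
  obtain ⟨ε, hε0, hε⟩ : ∃ ε, ε ≠ 0 ∧ σ ε = -ε := by
    refine ⟨x₀ - σ x₀, sub_ne_zero.2 (Ne.symm hx₀), ?_⟩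
    rw [map_sub, hσ, neg_sub]
  have himg : Finset.univ.image (fun x : F => x + σ x) ⊆
      Finset.univ.filter (fun x : F => σ x = x) := by
    intro a ha
    obtain ⟨x, -, rfl⟩ := Finset.mem_image.1 ha
    rw [Finset.mem_filter]
    refine ⟨Finset.mem_univ _, ?_⟩
    rw [map_add, hσ, add_comm]
  have hfib : ∀ a ∈ Finset.univ.image (fun x : F => x + σ x),
      (Finset.univ.filter (fun x : F => x + σ x = a)).card ≤ q := by
    intro a ha
    obtain ⟨y, -, rfl⟩ := Finset.mem_image.1 ha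
    refine le_trans ?_ hA
    apply Finset.card_le_card_of_injOn (fun x => (x - y) / ε)
    · intro x hx
      have hx' : x + σ x = y + σ y := (Finset.mem_filter.1 hx).2
      rw [Finset.mem_coe, Finset.mem_filter]
      refine ⟨Finset.mem_univ _, ?_⟩
      have h1 : σ x - σ y = -(x - y) := by
        have : σ x = y + σ y - x := by rw [← hx']; ring
        rw [this]; ring
      rw [map_div₀, map_sub, hε, h1, neg_div_neg_eq]
    · intro x _ x' _ hxx
      have h2 : (x - y) / ε = (x' - y) / ε := hxx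
      rw [div_left_inj' hε0] at h2
      exact sub_left_injective h2
  have hcard := Finset.card_le_mul_card_image (Finset.univ : Finset F) q hfib
  rw [Finset.card_univ, hF] at hcard
  have h3 : q ≤ (Finset.univ.image (fun x : F => x + σ x)).card := by
    have : q * q ≤ q * (Finset.univ.image (fun x : F => x + σ x)).card := by
      rw [← sq]; exact hcard
    exact Nat.le_of_mul_le_mul_left this (by omega)
  have heq : Finset.univ.image (fun x : F => x + σ x) =
      Finset.univ.filter (fun x : F => σ x = x) :=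
    Finset.eq_of_subset_of_card_le himg (hA.trans h3)
  refine ⟨?_, ⟨ε, hε0, hε⟩, le_antisymm hA ?_⟩
  · intro γ hγ
    have : γ ∈ Finset.univ.image (fun x : F => x + σ x) := by
      rw [heq, Finset.mem_filter]
      exact ⟨Finset.mem_univ _, hγ⟩
    obtain ⟨x, -, hx⟩ := Finset.mem_image.1 this
    exact ⟨x, hx⟩
  · rw [← heq]
    exact h3

/-- `-1` is a norm. -/
theorem exists_norm_neg_one [DecidableEq F] (hσq : ∀ x, σ x = x ^ q) (hσ : ∀ x, σ (σ x) = x)
    (hF : Fintype.card F = q ^ 2) : ∃ l : F, l * σ l = -1 := by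
  have hq : 1 < q := one_lt_of_card_sq hF
  have hAq := (trace_facts hσq hσ hF).2.2
  have hs : (Finset.univ.filter (fun x : F => x ≠ 0)).card = q ^ 2 - 1 := by
    rw [Finset.filter_ne', Finset.card_erase_of_mem (Finset.mem_univ _), Finset.card_univ, hF]
  have himg : (Finset.univ.filter (fun x : F => x ≠ 0)).image (fun x : F => x * σ x) ⊆
      (Finset.univ.filter (fun x : F => σ x = x)).erase 0 := by
    intro a ha
    obtain ⟨x, hx, rfl⟩ := Finset.mem_image.1 ha
    have hx0 : x ≠ 0 := (Finset.mem_filter.1 hx).2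
    rw [Finset.mem_erase, Finset.mem_filter]
    refine ⟨mul_ne_zero hx0 (fun e => hx0 ((map_eq_zero σ).1 e)), Finset.mem_univ _, ?_⟩
    rw [map_mul, hσ, mul_comm]
  have hfib : ∀ a ∈ (Finset.univ.filter (fun x : F => x ≠ 0)).image (fun x : F => x * σ x),
      ((Finset.univ.filter (fun x : F => x ≠ 0)).filter (fun x : F => x * σ x = a)).card ≤
        q + 1 := by
    intro a ha
    obtain ⟨y, hy, rfl⟩ := Finset.mem_image.1 ha
    have hy0 : y ≠ 0 := (Finset.mem_filter.1 hy).2
    have hNy : y * σ y ≠ 0 := mul_ne_zero hy0 (fun e => hy0 ((map_eq_zero σ).1 e))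
    calc ((Finset.univ.filter (fun x : F => x ≠ 0)).filter (fun x : F => x * σ x = y * σ y)).card
        ≤ (nthRoots (q + 1) (1 : F)).toFinset.card := by
          apply Finset.card_le_card_of_injOn (fun x => x / y)
          · intro x hx
            have hx' : x * σ x = y * σ y := (Finset.mem_filter.1 hx).2
            rw [Finset.mem_coe, Multiset.mem_toFinset, mem_nthRoots (by omega), div_pow,
              pow_succ', pow_succ', ← hσq, ← hσq, hx', div_self hNy]
          · intro x _ x' _ hxx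
            have h2 : x / y = x' / y := hxx
            rwa [div_left_inj' hy0] at h2
      _ ≤ Multiset.card (nthRoots (q + 1) (1 : F)) := Multiset.toFinset_card_le _
      _ ≤ q + 1 := card_nthRoots _ _
  have hcard := Finset.card_le_mul_card_image (Finset.univ.filter (fun x : F => x ≠ 0)) (q + 1) hfib
  rw [hs] at hcard
  have hA0 : ((Finset.univ.filter (fun x : F => σ x = x)).erase 0).card = q - 1 := by
    rw [Finset.card_erase_of_mem, hAq]
    rw [Finset.mem_filter]
    exact ⟨Finset.mem_univ _, map_zero σ⟩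
  have h3 : q - 1 ≤
      ((Finset.univ.filter (fun x : F => x ≠ 0)).image (fun x : F => x * σ x)).card := by
    obtain ⟨r, rfl⟩ : ∃ r, q = r + 1 := ⟨q - 1, by omega⟩
    have e1 : (r + 1) ^ 2 - 1 = (r + 1 + 1) * r := by
      apply Nat.sub_eq_of_eq_add
      ring
    rw [e1] at hcard
    have := Nat.le_of_mul_le_mul_left hcard (by omega)
    simpa using this
  have heq := Finset.eq_of_subset_of_card_le himg (by rw [hA0]; exact h3)
  have hmem : (-1 : F) ∈ (Finset.univ.filter (fun x : F => σ x = x)).erase 0 := by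
    rw [Finset.mem_erase, Finset.mem_filter]
    refine ⟨neg_ne_zero.2 one_ne_zero, Finset.mem_univ _, ?_⟩
    rw [map_neg, map_one]
  rw [← heq] at hmem
  obtain ⟨l, -, hl⟩ := Finset.mem_image.1 hmem
  exact ⟨l, hl⟩

end finite

section isotropic

variable {ι : Type*} [Fintype ι] [DecidableEq ι] {F : Type*} [Field F] (σ : F →+* F)

theorem exists_isotropic {i₀ i₁ : ι} (h01 : i₀ ≠ i₁) {l : F} (hl : l * σ l = -1) :
    ∃ p : ι → F, p ≠ 0 ∧ herm σ p p = 0 := by
  refine ⟨Pi.single i₀ 1 + l • Pi.single i₁ 1, ?_, ?_⟩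
  · intro e
    have := congrFun e i₀
    simp [h01] at this
  · rw [herm_add_left, herm_smul_left, herm_single, herm_single]
    simp only [Pi.add_apply, Pi.smul_apply, Pi.single_eq_same, smul_eq_mul, mul_one,
      Pi.single_eq_of_ne h01, Pi.single_eq_of_ne h01.symm, mul_zero, add_zero, zero_add, map_one]
    rw [hl, add_neg_cancel]

end isotropic

end Cfsg.Agent.Lib.Helper25.UnitaryRoot

namespace Cfsg.Agent.Lib.Helper25.UnitaryRoot

open Cfsg Matrix
open Cfsg.Agent.Lib.Helper25 Cfsg.Agent.Lib.Helper25.SLRoot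

/-- the unitary transvection groups of `SU_{n+2}(q)`, in the form of the statement. -/
theorem su_statement (F : Type*) [Field F] [Fintype F] (q n : ℕ) (hF : Fintype.card F = q ^ 2) :
    IsRootSubgroupClass ((fun A : Subgroup ↥(Cfsg.SU (n + 2) F q) =>
      A.subgroupOf (⨆ B ∈ sigmaOf (Cfsg.SU (n + 2) F q) (Cfsg.hermForm (n + 2) F q), B)) ''
      sigmaOf (Cfsg.SU (n + 2) F q) (Cfsg.hermForm (n + 2) F q)) ∧
    IsDegenerateRootSet ((fun A : Subgroup ↥(Cfsg.SU (n + 2) F q) =>
      A.subgroupOf (⨆ B ∈ sigmaOf (Cfsg.SU (n + 2) F q) (Cfsg.hermForm (n + 2) F q), B)) ''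
      sigmaOf (Cfsg.SU (n + 2) F q) (Cfsg.hermForm (n + 2) F q)) ∧
    (∃ (L : Type) (_ : Field L) (_ : Fintype L), Fintype.card L = q ∧
      IsKRootSubgroupSet L ((fun A : Subgroup ↥(Cfsg.SU (n + 2) F q) =>
      A.subgroupOf (⨆ B ∈ sigmaOf (Cfsg.SU (n + 2) F q) (Cfsg.hermForm (n + 2) F q), B)) ''
      sigmaOf (Cfsg.SU (n + 2) F q) (Cfsg.hermForm (n + 2) F q))) ∧
    IsConnectedFamily (FAdj ((fun A : Subgroup ↥(Cfsg.SU (n + 2) F q) =>
      A.subgroupOf (⨆ B ∈ sigmaOf (Cfsg.SU (n + 2) F q) (Cfsg.hermForm (n + 2) F q), B)) ''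
      sigmaOf (Cfsg.SU (n + 2) F q) (Cfsg.hermForm (n + 2) F q)))
      ((fun A : Subgroup ↥(Cfsg.SU (n + 2) F q) =>
      A.subgroupOf (⨆ B ∈ sigmaOf (Cfsg.SU (n + 2) F q) (Cfsg.hermForm (n + 2) F q), B)) ''
      sigmaOf (Cfsg.SU (n + 2) F q) (Cfsg.hermForm (n + 2) F q)) := by
  classical
  obtain ⟨σ, hσq, hσ⟩ := exists_frob hF
  obtain ⟨htr, ⟨ε, hε0, hε⟩, hcard⟩ := trace_facts hσq hσ hF
  obtain ⟨l, hl⟩ := exists_norm_neg_one hσq hσ hF
  have hiso : ∃ p : Fin (n + 2) → F, p ≠ 0 ∧ herm σ p p = 0 :=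
    exists_isotropic σ (i₀ := (0 : Fin (n + 2))) (i₁ := 1) (by simp) hl
  have hh : ∀ u v : Fin (n + 2) → F, Cfsg.hermForm (n + 2) F q u v = herm σ u v := by
    intro u v
    simp only [Cfsg.hermForm, herm, bar, dotProduct, hσq]
  have hU : ∀ g : Matrix.SpecialLinearGroup (Fin (n + 2)) F, g ∈ Cfsg.SU (n + 2) F q ↔
      ∀ u v, herm σ ((↑g : Matrix (Fin (n + 2)) (Fin (n + 2)) F) *ᵥ u)
        ((↑g : Matrix (Fin (n + 2)) (Fin (n + 2)) F) *ᵥ v) = herm σ u v := by
    intro g
    constructor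
    · intro hg u v
      have := hg u v
      rw [hh, hh] at this
      exact this
    · intro hg u v
      rw [hh, hh]
      exact hg u v
  -- the fixed field and its small copy
  obtain ⟨k₀, hk₀⟩ : ∃ k₀ : Subfield F, ∀ x, x ∈ k₀ ↔ σ x = x :=
    ⟨σ.eqLocusField (RingHom.id F), fun x => Iff.rfl⟩
  haveI : Fintype ↥k₀ := Fintype.ofFinite _
  have hcard₀ : Fintype.card ↥k₀ = q := by
    rw [← hcard]
    apply Fintype.card_of_subtype
    intro x
    rw [Finset.mem_filter]
    constructor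
    · rintro ⟨-, hx⟩
      exact (hk₀ x).2 hx
    · intro hx
      exact ⟨Finset.mem_univ _, (hk₀ x).1 hx⟩
  have hs : Small.{0} ↥k₀ := inferInstance
  have e₀ : ↥k₀ ≃ Shrink.{0} ↥k₀ := @equivShrink ↥k₀ hs
  have e : Shrink.{0} ↥k₀ ≃+* ↥k₀ := @Shrink.ringEquiv ↥k₀ hs _ _
  letI instFt : Fintype (Shrink.{0} ↥k₀) := Fintype.ofEquiv ↥k₀ e₀
  have hcardL : Fintype.card (Shrink.{0} ↥k₀) = q := by
    rw [← hcard₀]
    exact Fintype.card_congr e₀.symm
  obtain ⟨j, hj⟩ : ∃ j : Shrink.{0} ↥k₀ →+* F, ∀ x, σ x = x ↔ ∃ y, j y = x := by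
    refine ⟨k₀.subtype.comp e.toRingHom, ?_⟩
    intro x
    constructor
    · intro hx
      refine ⟨e.symm ⟨x, (hk₀ x).2 hx⟩, ?_⟩
      show (↑(e (e.symm ⟨x, (hk₀ x).2 hx⟩)) : F) = x
      rw [RingEquiv.apply_symm_apply]
    · rintro ⟨y, rfl⟩
      exact (hk₀ _).1 (e y).2
  have key := unitary_statement (U := Cfsg.SU (n + 2) F q) (Cfsg.hermForm (n + 2) F q)
    hσ htr hε0 hε j hj hU hh hiso
  exact ⟨key.1, key.2.1, ⟨Shrink.{0} ↥k₀, inferInstance, instFt, hcardL, key.2.2.1⟩, key.2.2.2⟩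

end Cfsg.Agent.Lib.Helper25.UnitaryRoot
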