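import Mathlib
import Cfsg.Agent.Lib.Helper25.EngelLocal
import Cfsg.Agent.Lib.Helper25.NilpChain

/-!
Local lemma for the Wielandt–Yoshida transfer theorem (helper25) and the fact that homs of
exponent `p` into abelian groups kill the Frattini subgroup.
-/

set_option autoImplicit false

namespace Cfsg.Agent.Lib.Helper25

open Cfsg.Agent.S4216 (ext1 ext1_of_mem)

variable {P : Type*} [Group P] {A : Type*} [CommGroup A]

theorem transfer_pow_eq_one [Finite P] (Q : Subgroup P) (ν : Q →* A) (p : ℕ)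
    (hν : ∀ q, ν q ^ p = 1) (m : P) : MonoidHom.transfer ν m ^ p = 1 := by
  classical
  let _ : Fintype (Quotient (MulAction.orbitRel (Subgroup.zpowers m) (P ⧸ Q))) :=
    Fintype.ofFinite _
  rw [MonoidHom.transfer_eq_prod_quotient_orbitRel_zpowers_quot, ← Finset.prod_pow]
  exact Finset.prod_eq_one (fun q _ => hν _)

theorem prod_cosetFn_eq_one_of_engel_normal [Finite P] {p : ℕ} [hp : Fact p.Prime]
    (hP : IsPGroup p P) (W : Subgroup P) [W.Normal] (Q : Subgroup P) (hWQ : ¬ W ≤ Q)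
    (ν : Q →* A) (hν : ∀ q, ν q ^ p = 1) (u : P)
    (hK : ∀ (x : P) (n : ℕ), n ≠ 1 → n ∣ orderOf u → ∀ h : x⁻¹ * u ^ n * x ∈ Q, ν ⟨_, h⟩ = 1)
    (hE : ∀ (Q₁ : Subgroup P) (n : P), n ∈ W → n ∈ Subgroup.normalizer (Q₁ : Set P) → n ∉ Q₁ →
      n ^ p ∈ Q₁ → W ≤ Q₁ ⊔ Subgroup.zpowers n → ∀ τ : Q₁ →* A, (∀ q, τ q ^ p = 1) →
      ∀ b ∈ Q₁, ext1 Q₁ τ ((fun y : P => y⁻¹ * n⁻¹ * y * n)^[p - 1] b) = 1)
    [Fintype (P ⧸ Q)] : ∏ c : P ⧸ Q, cosetFn Q ν u c = 1 := by
  classical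
  obtain ⟨Q₁, hQQ₁, hmax⟩ := Finite.exists_le_maximal (p := fun X : Subgroup P => ¬ W ≤ X) hWQ
  obtain ⟨n, hnW, hnN, hnQ₁, hnp⟩ :=
    Cfsg.Agent.Lib.Helper22.exists_normalizing_elt p hP Q₁ W hmax.prop
  have hWsup : W ≤ Q₁ ⊔ Subgroup.zpowers n := by
    by_contra h
    have h1 : Q₁ ⊔ Subgroup.zpowers n ≤ Q₁ := hmax.2 h le_sup_left
    exact hnQ₁ (h1 (Subgroup.mem_sup_right (Subgroup.mem_zpowers n)))
  let _ : Fintype (P ⧸ Q₁) := Fintype.ofFinite _
  rw [prod_cosetFn_trans Q₁ Q hQQ₁ ν u hK]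
  have hτ : ∀ q, MonoidHom.transfer (resSub Q₁ Q hQQ₁ ν) q ^ p = 1 := by
    intro q
    apply transfer_pow_eq_one
    intro z
    rw [resSub_apply]
    exact hν _
  exact prod_cosetFn_eq_one_of_engel_elt Q₁ n hnN hnQ₁ hnp _ hτ u
    (hE Q₁ n hnW hnN hnQ₁ hnp hWsup _ hτ)

/-- a subgroup of prime index is a coatom -/
theorem isCoatom_of_index_prime {H : Type*} [Group H] {p : ℕ} (hp : p.Prime) (M : Subgroup H)
    (hM : M.index = p) : IsCoatom M := by
  constructor
  · intro h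
    rw [h, Subgroup.index_top] at hM
    exact hp.one_lt.ne hM
  · intro M' hlt
    have h1 := Subgroup.relIndex_mul_index hlt.le
    rw [hM] at h1
    have h2 : M'.index ∣ p := Dvd.intro_left _ h1
    rcases (Nat.dvd_prime hp).mp h2 with h3 | h3
    · exact Subgroup.index_eq_one.mp h3
    · exfalso
      rw [h3] at h1
      have h4 : M.relIndex M' = 1 := by
        have := Nat.eq_of_mul_eq_mul_right hp.pos (h1.trans (one_mul p).symm)
        exact this
      rw [Subgroup.relIndex_eq_one] at h4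
      exact absurd h4 (not_le_of_gt hlt)

/-- homs of exponent `p` into abelian groups kill the Frattini subgroup -/
theorem map_eq_one_of_mem_frattini {H : Type*} [Group H] {p : ℕ} [hp : Fact p.Prime]
    (φ : H →* A) (hφ : ∀ h, φ h ^ p = 1) (f : H) (hf : f ∈ frattini H) : φ f = 1 := by
  by_contra hne
  have hC : ∀ a : φ.range, a ^ p = 1 := by
    rintro ⟨_, h, rfl⟩
    apply Subtype.ext
    exact hφ h
  obtain ⟨B, hBi, hBz⟩ := exists_index_p_not_mem (p := p) hC (φ.rangeRestrict f) (by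
    intro h
    apply hne
    have := congrArg Subtype.val h
    simpa using this)
  have hco : IsCoatom (B.comap φ.rangeRestrict) := by
    apply isCoatom_of_index_prime hp.out
    rw [Subgroup.index_comap_of_surjective B φ.rangeRestrict_surjective]
    exact hBi
  exact hBz (frattini_le_coatom hco hf)

end Cfsg.Agent.Lib.Helper25
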