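import Mathlib
import Cfsg.Agent.Lib.Helper25.FocalGlobal
import Cfsg.Agent.Lib.Helper25.WYLocal
import Cfsg.Agent.Lib.Helper17.Basic

/-!
The Wielandt–Yoshida transfer theorem (helper25): `W` weakly closed in the Sylow `p`-subgroup `S`;
if `[x, z; p-1] ∈ W₀` implies `[x, z; p-1] ∈ Φ(W₀)` for all `x ∈ S`, `z ∈ W` and maximal subgroups
`W₀` of `W`, then `S ∩ G' ≤ N_G(W)'`.
-/

set_option autoImplicit false

namespace Cfsg.Agent.Lib.Helper25

open Cfsg.Agent.S4216 (ext1 ext1_of_mem)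
open MulAction Subgroup
open scoped Pointwise

universe u

variable {G : Type u} [Group G] {A : Type*} [CommGroup A]

theorem coe_iterate_engel' (H : Subgroup G) (z y : H) (k : ℕ) :
    (((fun y : H => y⁻¹ * z⁻¹ * y * z)^[k] y : H) : G) =
      (fun y : G => y⁻¹ * (z : G)⁻¹ * y * (z : G))^[k] (y : G) := by
  induction k generalizing y with
  | zero => rfl
  | succ k ih =>
    rw [Function.iterate_succ_apply, Function.iterate_succ_apply, ih]
    rfl

theorem isCoatom_subgroupOf_of_decomp {p : ℕ} [hp : Fact p.Prime] (W R : Subgroup G) (n : G)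
    (hnW : n ∈ W) (hnR : n ∉ R) (hnp : n ^ p ∈ R)
    (hdec : ∀ w ∈ W, ∃ q ∈ R, ∃ k : ℤ, w = q * n ^ k) : IsCoatom (R.subgroupOf W) := by
  have hqW : ∀ (w q : G) (k : ℤ), w ∈ W → w = q * n ^ k → q ∈ W := by
    intro w q k hw hwk
    have : q = w * (n ^ k)⁻¹ := by rw [hwk]; group
    rw [this]
    exact W.mul_mem hw (W.inv_mem (W.zpow_mem hnW k))
  constructor
  · intro htop
    have : (⟨n, hnW⟩ : W) ∈ R.subgroupOf W := by rw [htop]; trivial
    exact hnR (Subgroup.mem_subgroupOf.mp this)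
  · intro V hlt
    obtain ⟨v, hvV, hvR⟩ := SetLike.exists_of_lt hlt
    obtain ⟨q, hqR, k, hvk⟩ := hdec v v.2
    set nW : W := ⟨n, hnW⟩ with hnWdef
    have hq0 : (⟨q, hqW v q k v.2 hvk⟩ : W) ∈ V := hlt.le (Subgroup.mem_subgroupOf.mpr hqR)
    have hnk : nW ^ k ∈ V := by
      have : nW ^ k = (⟨q, hqW v q k v.2 hvk⟩ : W)⁻¹ * v := by
        apply Subtype.ext
        push_cast
        rw [hvk]
        simp [hnWdef]
      rw [this]
      exact V.mul_mem (V.inv_mem hq0) hvV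
    have hnpV : nW ^ p ∈ V := by
      apply hlt.le
      rw [Subgroup.mem_subgroupOf]
      simpa [hnWdef] using hnp
    have hpk : ¬ (p : ℤ) ∣ k := by
      rintro ⟨j, rfl⟩
      apply hvR
      rw [Subgroup.mem_subgroupOf, hvk]
      apply R.mul_mem hqR
      rw [zpow_mul, zpow_natCast]
      exact R.zpow_mem hnp j
    have hcop : IsCoprime (p : ℤ) k :=
      (Prime.coprime_iff_not_dvd (Nat.prime_iff_prime_int.mp hp.out)).mpr hpk
    obtain ⟨a, b, hab⟩ := hcop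
    have hnV : nW ∈ V := by
      have : nW = (nW ^ p) ^ a * (nW ^ k) ^ b := by
        rw [← zpow_natCast, ← zpow_mul, ← zpow_mul, ← zpow_add, mul_comm (p : ℤ) a, mul_comm k b,
          hab, zpow_one]
      rw [this]
      exact V.mul_mem (V.zpow_mem hnpV a) (V.zpow_mem hnk b)
    rw [eq_top_iff]
    intro w _
    obtain ⟨q', hq'R, k', hwk⟩ := hdec w w.2
    have : w = (⟨q', hqW w q' k' w.2 hwk⟩ : W) * nW ^ k' := by
      apply Subtype.ext
      push_cast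
      rw [hwk]
    rw [this]
    exact V.mul_mem (hlt.le (Subgroup.mem_subgroupOf.mpr hq'R)) (V.zpow_mem hnV k')

/-- the Engel-type hypothesis of the local lemma, from the Frattini hypothesis -/
theorem engel_hyp_of_frattini [Finite G] {p : ℕ} [hp : Fact p.Prime] (S W : Subgroup G)
    (hWS : W ≤ S) [hWn : (W.subgroupOf S).Normal]
    (hH : ∀ x ∈ S, ∀ z ∈ W, ∀ W₀ : Subgroup ↥W, IsCoatom W₀ →
      (fun y : G => y⁻¹ * z⁻¹ * y * z)^[p - 1] x ∈ W₀.map W.subtype →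
      (fun y : G => y⁻¹ * z⁻¹ * y * z)^[p - 1] x ∈
        ((frattini ↥W₀).map W₀.subtype).map W.subtype)
    (Q₁ : Subgroup ↥S) (n : ↥S) (hnW : n ∈ W.subgroupOf S)
    (hnN : n ∈ Subgroup.normalizer (Q₁ : Set ↥S)) (hnQ₁ : n ∉ Q₁) (hnp : n ^ p ∈ Q₁)
    (hWsup : W.subgroupOf S ≤ Q₁ ⊔ Subgroup.zpowers n)
    (τ : Q₁ →* A) (hτ : ∀ q, τ q ^ p = 1) (b : ↥S) (hb : b ∈ Q₁) :
    ext1 Q₁ τ ((fun y : ↥S => y⁻¹ * n⁻¹ * y * n)^[p - 1] b) = 1 := by
  set D : ↥S → ↥S := fun y => y⁻¹ * n⁻¹ * y * n with hD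
  set c : ↥S := D^[p - 1] b with hc
  have hDQ : ∀ y ∈ Q₁, D y ∈ Q₁ := by
    intro y hy
    have h1 : n⁻¹ ∈ Subgroup.normalizer (Q₁ : Set ↥S) := Subgroup.inv_mem _ hnN
    have h2 := (Subgroup.mem_normalizer_iff.mp h1 y).mp hy
    have e : D y = y⁻¹ * (n⁻¹ * y * n⁻¹⁻¹) := by simp only [hD]; group
    rw [e]
    exact Q₁.mul_mem (Q₁.inv_mem hy) h2
  have hcQ₁ : c ∈ Q₁ := by
    rw [hc]
    generalize p - 1 = j
    induction j with
    | zero => exact hb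
    | succ j ih => rw [Function.iterate_succ_apply']; exact hDQ _ ih
  have hDW : ∀ y : ↥S, D y ∈ W.subgroupOf S := by
    intro y
    have h1 : y⁻¹ * n⁻¹ * y⁻¹⁻¹ ∈ W.subgroupOf S :=
      hWn.conj_mem _ ((W.subgroupOf S).inv_mem hnW) y⁻¹
    have e : D y = (y⁻¹ * n⁻¹ * y⁻¹⁻¹) * n := by simp only [hD]; group
    rw [e]
    exact (W.subgroupOf S).mul_mem h1 hnW
  have hp1 : p - 1 = (p - 2) + 1 := by have := hp.out.two_le; omega
  have hcW : c ∈ W.subgroupOf S := by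
    rw [hc, hp1, Function.iterate_succ_apply']
    exact hDW _
  -- the maximal subgroup
  set R : Subgroup G := Q₁.map S.subtype with hR
  have hmemR : ∀ s : ↥S, (s : G) ∈ R ↔ s ∈ Q₁ := by
    intro s
    rw [hR]
    constructor
    · rintro ⟨s', hs', hss'⟩
      have : s' = s := Subtype.ext hss'
      rwa [← this]
    · intro hs
      exact ⟨s, hs, rfl⟩
  have hdec : ∀ w ∈ W, ∃ q ∈ R, ∃ k : ℤ, w = q * (n : G) ^ k := by
    intro w hw
    have h1 : (⟨w, hWS hw⟩ : ↥S) ∈ Q₁ ⊔ Subgroup.zpowers n :=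
      hWsup (Subgroup.mem_subgroupOf.mpr hw)
    have h2 := Subgroup.coe_mul_of_right_le_normalizer_left Q₁ (Subgroup.zpowers n)
      ((Subgroup.zpowers_le).mpr hnN)
    have h3 : (⟨w, hWS hw⟩ : ↥S) ∈ ((Q₁ : Set ↥S) * (Subgroup.zpowers n : Set ↥S)) := by
      rw [← h2]; exact h1
    obtain ⟨q, hq, m, hm, hqm⟩ := Set.mem_mul.mp h3
    obtain ⟨k, rfl⟩ := Subgroup.mem_zpowers_iff.mp hm
    refine ⟨(q : G), (hmemR q).mpr hq, k, ?_⟩
    have := congrArg Subtype.val hqm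
    simpa using this.symm
  have hco : IsCoatom (R.subgroupOf W) :=
    isCoatom_subgroupOf_of_decomp (p := p) W R (n : G) (Subgroup.mem_subgroupOf.mp hnW)
      (fun h => hnQ₁ ((hmemR n).mp h))
      (by
        have := (hmemR (n ^ p)).mpr hnp
        simpa using this) hdec
  set W₀ : Subgroup ↥W := R.subgroupOf W with hW₀
  have hcG : ((c : ↥S) : G) = (fun y : G => y⁻¹ * (n : G)⁻¹ * y * (n : G))^[p - 1] (b : G) := by
    rw [hc, hD]
    exact coe_iterate_engel' S n b (p - 1)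
  have hmem : (c : G) ∈ W₀.map W.subtype :=
    ⟨⟨(c : G), Subgroup.mem_subgroupOf.mp hcW⟩,
      Subgroup.mem_subgroupOf.mpr ((hmemR c).mpr hcQ₁), rfl⟩
  have hfr := hH (b : G) b.2 (n : G) (Subgroup.mem_subgroupOf.mp hnW) W₀ hco (hcG ▸ hmem)
  rw [← hcG] at hfr
  obtain ⟨w, ⟨f, hf, rfl⟩, hw⟩ := hfr
  -- the restriction of τ to W₀
  let incl : ↥W₀ →* ↥R := (W.subtype.comp W₀.subtype).codRestrict R
    (fun w₀ => Subgroup.mem_subgroupOf.mp w₀.2)
  let e := Subgroup.equivMapOfInjective Q₁ S.subtype S.subtype_injective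
  let τ₀ : ↥W₀ →* A := τ.comp (e.symm.toMonoidHom.comp incl)
  have hτ₀ : ∀ h, τ₀ h ^ p = 1 := fun h => hτ _
  have h1 : τ₀ f = 1 := map_eq_one_of_mem_frattini (p := p) τ₀ hτ₀ f hf
  have h2 : e.symm (incl f) = ⟨c, hcQ₁⟩ := by
    rw [MulEquiv.symm_apply_eq]
    apply Subtype.ext
    rw [Subgroup.coe_equivMapOfInjective_apply]
    exact hw
  rw [ext1_of_mem Q₁ τ c hcQ₁, ← h2]
  exact h1

end Cfsg.Agent.Lib.Helper25
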