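import Cfsg.Agent.Lib.Helper7.ChevOrd3
import Cfsg.Agent.Lib.Helper7.ChevLevi3

/-! Weakly closed unipotent subgroups: subgroups of `U` normalised by `B` are products of root
subgroups, part A (basic lemmas) (helper25). -/

set_option autoImplicit false

namespace Cfsg.Agent.Lib.Helper25.WkCl

open Cfsg Cfsg.Lie Matrix
open Cfsg.Agent.Lib.Helper7

section
variable (D : ChevalleyDatum) (hD : D ∈ [chevG2, chevB2, chevD4, chevF4, chevE6, chevE7, chevE8])
variable (F : Type*) [Field F]
include hD

theorem ordProd_append (l₁ l₂ : List ℕ) (t : ℕ → F) :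
    ordProd D hD F (l₁ ++ l₂) t = ordProd D hD F l₁ t * ordProd D hD F l₂ t := by
  unfold ordProd
  rw [List.map_append, wordGL_append]

theorem ordProd_single (s : ℕ) (t : ℕ → F) : ordProd D hD F [s] t = xGL D hD F s (t s) := by
  rw [ordProd_cons, ordProd_nil, mul_one]

theorem ordProd_mem_of_forall (Y : Subgroup (GL D.Idx F)) (l : List ℕ) (t : ℕ → F)
    (h : ∀ r ∈ l, xGL D hD F r (t r) ∈ Y) : ordProd D hD F l t ∈ Y := by
  induction l with
  | nil => rw [ordProd_nil]; exact Y.one_mem
  | cons a l ih =>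
    rw [ordProd_cons]
    exact Y.mul_mem (h a (List.mem_cons_self ..)) (ih fun r hr => h r (List.mem_cons_of_mem _ hr))

/-- the torus element `h_β(g)` acts on `X_s` through `g ^ ⟨s, β^∨⟩` -/
theorem hGL_conj_xGL' (β : ℕ) (hβ : β < D.nroots) (g : F) (hg : g ≠ 0) (s : ℕ) (t : F) :
    wordGL D hD F (D.hWord β g) * xGL D hD F s t * (wordGL D hD F (D.hWord β g))⁻¹ =
      xGL D hD F s (g ^ carR D β s * t) := by
  have hm : ((wordGL D hD F (D.hWord β g) : GL D.Idx F) : Matrix D.Idx D.Idx F) =
      diagChar D F (fun s => g ^ carR D β s) := by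
    rw [coe_wordGL]
    exact hMat_eq_diagChar D hD F β hβ g hg
  rw [diagGL_xGL_comm D hD F _ _ (chainChar_h D hD F β g hg) hm s t, mul_assoc, mul_inv_cancel, mul_one]

end

section
variable (D : ChevalleyDatum) (hD : D ∈ [chevG2, chevB2, chevD4, chevF4, chevE6, chevE7, chevE8])
variable (F : Type*) [Field F]
variable (A : ℕ → ℤ) (hA : ChainAdd D A) (hO : OrdFacts D A)
include hD hA hO

/-- any positive root subgroup normalises the subgroup generated by an upwards closed set of positive
root subgroups -/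
theorem xGL_conj_gensL_pos (r : ℕ) (hrpos : D.IsPosRoot r) (l : List ℕ) (hl : GoodL D l) (u : F) :
    ∀ y ∈ gensL D F l, xGL D hD F r u * y * (xGL D hD F r u)⁻¹ ∈ Subgroup.closure (gensL D F l) := by
  rintro y ⟨s, hs, t, hym⟩
  have hy : y = xGL D hD F s t := Units.ext (by rw [hym, coe_xGL])
  rw [hy]
  have hspos := hl.pos s hs
  have hAr := hO.pos r hrpos
  have hAs := hO.pos s hspos
  have hgen : xGL D hD F s t ∈ Subgroup.closure (gensL D F l) :=
    Subgroup.subset_closure ⟨s, hs, t, coe_xGL D hD F _ _⟩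
  by_cases hsr : s = r
  · rw [hsr, xGL_inv, xGL_mul, xGL_mul]
    have : u + t + -u = t := by ring
    rw [this, ← hsr]; exact hgen
  have hsn : s ≠ D.neg r := by
    intro h
    have hN := negOK_of_mem D hD r hrpos.1
    have := hA.negA r hrpos.1 hN.1
    rw [← h] at this
    omega
  rw [xGL_conj_xGL D hD F r s hrpos.1 hspos.1 hsr hsn u t]
  apply Subgroup.mul_mem _ hgen
  unfold wordGL
  apply Subgroup.list_prod_mem
  intro g hg
  rw [List.mem_map] at hg
  obtain ⟨p, hp, rfl⟩ := hg
  unfold ChevalleyDatum.commWord at hp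
  rw [List.mem_map] at hp
  obtain ⟨c, hc, rfl⟩ := hp
  obtain ⟨hc1, hi, hj, hlin⟩ := hA.commTerms D hD r s hrpos.1 hspos.1 c hc
  have hgt : A s < A c.1 := by
    have h1 : A r ≤ c.2.2.1 * A r := by
      have : (1 : ℤ) ≤ c.2.2.1 := by exact_mod_cast hi
      nlinarith
    have h2 : A s ≤ c.2.2.2 * A s := by
      have : (1 : ℤ) ≤ c.2.2.2 := by exact_mod_cast hj
      nlinarith
    omega
  have hcpos : D.IsPosRoot c.1 := isPosRoot_of_A_pos D hD A hA hO c.1 hc1 (by omega)
  have hsc : s < c.1 := by
    by_contra hcon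
    push Not at hcon
    rcases Nat.lt_or_eq_of_le hcon with h' | h'
    · have := hO.mono c.1 s h' hspos.1
      omega
    · rw [h'] at hgt; omega
  have hmem := hl.up s hs c.1 hcpos hsc
  apply Subgroup.subset_closure
  exact ⟨c.1, hmem, _, coe_xGL D hD F _ _⟩

/-- `U` normalises the subgroup generated by an upwards closed set of positive root subgroups -/
theorem posUnipotent_le_normalizer_gensL (l : List ℕ) (hl : GoodL D l) :
    D.posUnipotent F ≤ Subgroup.normalizer (Subgroup.closure (gensL D F l) : Set (GL D.Idx F)) := by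
  unfold ChevalleyDatum.posUnipotent
  rw [Subgroup.closure_le]
  rintro g ⟨r, u, hr, hg⟩
  have hgx : g = xGL D hD F r u := Units.ext (by rw [hg, coe_xGL])
  rw [hgx]
  apply mem_normalizer_closure
  · exact xGL_conj_gensL_pos D hD F A hA hO r hr l hl u
  · intro y hy
    rw [xGL_inv]
    exact xGL_conj_gensL_pos D hD F A hA hO r hr l hl (-u) y hy

omit hA hO in
/-- `H` normalises the subgroup generated by any set of root subgroups -/
theorem diagonal_le_normalizer_gensL (l : List ℕ) :
    D.diagonalSubgroup F ≤ Subgroup.normalizer (Subgroup.closure (gensL D F l) : Set (GL D.Idx F)) := by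
  have key : ∀ h : GL D.Idx F, h ∈ D.diagonalSubgroup F →
      ∀ x ∈ gensL D F l, h * x * h⁻¹ ∈ Subgroup.closure (gensL D F l) := by
    intro h hh
    obtain ⟨χ, hχ, hhm⟩ := mem_diagonalSubgroup_char D hD F h hh
    rintro x ⟨r, hr, t, hxm⟩
    have hx : x = xGL D hD F r t := Units.ext (by rw [hxm, coe_xGL])
    have e : h * x * h⁻¹ = xGL D hD F r (χ r * t) := by
      rw [hx, diagGL_xGL_comm D hD F h χ hχ hhm r t]; group
    rw [e]
    apply Subgroup.subset_closure
    exact ⟨r, hr, χ r * t, coe_xGL D hD F _ _⟩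
  intro h hh
  apply mem_normalizer_closure
  · exact key h hh
  · exact key h⁻¹ (Subgroup.inv_mem _ hh)

/-- `B` normalises the subgroup generated by an upwards closed set of positive root subgroups -/
theorem borel_le_normalizer_gensL (l : List ℕ) (hl : GoodL D l) :
    D.borelSubgroup F ≤ Subgroup.normalizer (Subgroup.closure (gensL D F l) : Set (GL D.Idx F)) := by
  unfold ChevalleyDatum.borelSubgroup
  exact sup_le (posUnipotent_le_normalizer_gensL D hD F A hA hO l hl) (diagonal_le_normalizer_gensL D hD F l)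

end

end Cfsg.Agent.Lib.Helper25.WkCl
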