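import Cfsg.Agent.Lib.Helper25.WkClA

/-! Weakly closed unipotent subgroups: subgroups of `U` normalised by `B` are products of root
subgroups, part B (irreducibility of root subgroups under `H`, and the separation induction relative
to a pair oracle) (helper25). -/

set_option autoImplicit false

namespace Cfsg.Agent.Lib.Helper25.WkCl

open Cfsg Cfsg.Lie Matrix
open Cfsg.Agent.Lib.Helper7
open scoped Pointwise

theorem conj_mem_of_mem_normalizer {G : Type*} [Group G] (Y : Subgroup G) (g y : G)
    (hg : g ∈ Subgroup.normalizer (Y : Set G)) (hy : y ∈ Y) : g * y * g⁻¹ ∈ Y :=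
  ((Subgroup.mem_set_normalizer_iff.mp hg) y).mp hy

/-- in a finite field every element is a difference of two squares -/
theorem exists_sq_sub_sq {F : Type*} [Field F] [Finite F] (x : F) : ∃ a b : F, x = a ^ 2 - b ^ 2 := by
  by_cases h2 : (2 : F) = 0
  · have : CharP F 2 := CharTwo.of_one_ne_zero_of_two_eq_zero one_ne_zero h2
    obtain ⟨a, ha⟩ := surjective_frobenius F 2 x
    refine ⟨a, 0, ?_⟩
    rw [← ha, frobenius_def]; ring
  · refine ⟨(x + 1) / 2, (x - 1) / 2, ?_⟩
    field_simp
    ring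

theorem goodL_of_append {D : ChevalleyDatum} : ∀ (pre l : List ℕ), GoodL D (pre ++ l) → GoodL D l
  | [], _, h => h
  | _ :: pre, l, h => goodL_of_append pre l (GoodL.tail h)

section
variable (D : ChevalleyDatum) (hD : D ∈ [chevG2, chevB2, chevD4, chevF4, chevE6, chevE7, chevE8])
variable (F : Type*) [Field F]
include hD

/-- a subgroup normalised by `H` containing a nontrivial element of `X_r` contains `X_r` -/
theorem full_of_diag_normal [Finite F] (Y : Subgroup (GL D.Idx F))
    (hH : D.diagonalSubgroup F ≤ Subgroup.normalizer (Y : Set (GL D.Idx F)))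
    (r : ℕ) (hr : r < D.nroots) (c : F) (hc : c ≠ 0) (hxc : xGL D hD F r c ∈ Y) (t : F) :
    xGL D hD F r t ∈ Y := by
  have hAr : carR D r r = 2 := (rootFacts_of_mem D hD r hr).Ar
  -- multiplication by squares
  have hsq : ∀ (g u : F), xGL D hD F r u ∈ Y → xGL D hD F r (g ^ 2 * u) ∈ Y := by
    intro g u hu
    by_cases hg : g = 0
    · rw [hg]
      have : ((0 : F) ^ 2 * u) = 0 := by ring
      rw [this, xGL_zero]; exact Y.one_mem
    · have hh := hH (hGL_mem_diagonalSubgroup D hD F r hr g hg)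
      have := conj_mem_of_mem_normalizer Y _ _ hh hu
      rw [hGL_conj_xGL' D hD F r hr g hg r u, hAr] at this
      have e2 : g ^ (2 : ℤ) = g ^ (2 : ℕ) := by norm_cast
      rw [e2] at this
      exact this
  obtain ⟨a, b, hab⟩ := exists_sq_sub_sq (t / c)
  have e : t = a ^ 2 * c + -(b ^ 2 * c) := by
    have : t = (t / c) * c := by field_simp
    rw [this, hab]; ring
  rw [e, ← xGL_mul, ← xGL_inv]
  exact Y.mul_mem (hsq a c hxc) (Y.inv_mem (hsq b c hxc))

end

section
variable (D : ChevalleyDatum) (hD : D ∈ [chevG2, chevB2, chevD4, chevF4, chevE6, chevE7, chevE8])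
variable (F : Type*) [Field F]
variable (A : ℕ → ℤ) (hA : ChainAdd D A) (hO : OrdFacts D A)
include hD hA hO

omit hD hA hO in
theorem closure_gensL_le_posUnipotent (l : List ℕ) (hl : ∀ r ∈ l, D.IsPosRoot r) :
    Subgroup.closure (gensL D F l) ≤ D.posUnipotent F := by
  unfold ChevalleyDatum.posUnipotent
  apply Subgroup.closure_mono
  rintro g ⟨r, hr, t, hg⟩
  exact ⟨r, t, hl r hr, hg⟩

/-- the hypothesis on pairs used by the separation induction -/
def PairOracle : Prop :=
  ∀ (pre : List ℕ) (s : ℕ) (l₂ : List ℕ), D.posRoots = pre ++ s :: l₂ →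
    ∀ Y : Subgroup (GL D.Idx F), Y ≤ D.posUnipotent F →
      D.borelSubgroup F ≤ Subgroup.normalizer (Y : Set (GL D.Idx F)) →
      Subgroup.closure (gensL D F l₂) ≤ Y → (∀ u : F, xGL D hD F s u ∈ Y → u = 0) →
      (∀ t : ℕ → F, ordProd D hD F pre t ∈ Y ⊔ Subgroup.closure (gensL D F (s :: l₂)) →
        ∀ r ∈ pre, ∃ d : F, xGL D hD F r (t r) * xGL D hD F s d ∈ Y) →
      ∀ r ∈ pre, ∀ c d : F, xGL D hD F r c * xGL D hD F s d ∈ Y → xGL D hD F r c ∈ Y

/-- the separation induction -/
theorem sep_aux [Finite F] (horacle : PairOracle D hD F) :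
    ∀ (pre l : List ℕ), D.posRoots = pre ++ l →
    ∀ Y : Subgroup (GL D.Idx F), Y ≤ D.posUnipotent F →
      D.borelSubgroup F ≤ Subgroup.normalizer (Y : Set (GL D.Idx F)) →
      Subgroup.closure (gensL D F l) ≤ Y →
      ∀ t : ℕ → F, ordProd D hD F pre t ∈ Y → ∀ r ∈ pre, xGL D hD F r (t r) ∈ Y := by
  intro pre
  induction pre using List.reverseRecOn with
  | nil =>
    intro l _ Y _ _ _ t _ r hr
    simp at hr
  | append_singleton pre s ih =>
    intro l₂ hsplit Y hYU hYB hTY t hy
    have hsplit' : D.posRoots = pre ++ s :: l₂ := by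
      rw [hsplit, List.append_assoc]; rfl
    have hgood : GoodL D (s :: l₂) := goodL_of_append pre _ (hsplit' ▸ goodL_posRoots D)
    have hspos : D.IsPosRoot s := hgood.pos s (List.mem_cons_self ..)
    have hHB : D.diagonalSubgroup F ≤ D.borelSubgroup F := le_sup_right
    have hUB : D.posUnipotent F ≤ D.borelSubgroup F := le_sup_left
    -- the bigger subgroup
    obtain ⟨Y', hY'def⟩ : ∃ Y' : Subgroup (GL D.Idx F),
        Y' = Y ⊔ Subgroup.closure (gensL D F (s :: l₂)) := ⟨_, rfl⟩
    have hTU : Subgroup.closure (gensL D F (s :: l₂)) ≤ D.posUnipotent F :=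
      closure_gensL_le_posUnipotent D F _ hgood.pos
    have hY'U : Y' ≤ D.posUnipotent F := by rw [hY'def]; exact sup_le hYU hTU
    have hY'B : D.borelSubgroup F ≤ Subgroup.normalizer (Y' : Set (GL D.Idx F)) := by
      rw [hY'def]
      intro g hg
      exact Subgroup.normalizer_inf_normalizer_le_normalizer_sup _ _
        (Subgroup.mem_inf.mpr ⟨hYB hg, borel_le_normalizer_gensL D hD F A hA hO _ hgood hg⟩)
    have hTY' : Subgroup.closure (gensL D F (s :: l₂)) ≤ Y' := by rw [hY'def]; exact le_sup_right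
    have hYY' : Y ≤ Y' := by rw [hY'def]; exact le_sup_left
    have hxsT : ∀ u : F, xGL D hD F s u ∈ Subgroup.closure (gensL D F (s :: l₂)) := fun u =>
      Subgroup.subset_closure ⟨s, List.mem_cons_self .., u, coe_xGL D hD F _ _⟩
    have hy2 : ordProd D hD F pre t * xGL D hD F s (t s) ∈ Y := by
      rw [ordProd_append, ordProd_single] at hy; exact hy
    have hpre' : ordProd D hD F pre t ∈ Y' := by
      have e : ordProd D hD F pre t =
          (ordProd D hD F pre t * xGL D hD F s (t s)) * (xGL D hD F s (t s))⁻¹ := by group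
      rw [e]
      exact Y'.mul_mem (hYY' hy2) (Y'.inv_mem (hTY' (hxsT _)))
    have ihY' := ih (s :: l₂) hsplit' Y' hY'U hY'B hTY'
    -- `Y' = Y * X_s`
    have hY'eq : Y' = Y ⊔ D.rootSubgroup F s := by
      rw [hY'def, closure_gensL_cons, sup_comm (D.rootSubgroup F s), ← sup_assoc, sup_eq_left.mpr hTY]
    have hXsN : D.rootSubgroup F s ≤ Subgroup.normalizer (Y : Set (GL D.Idx F)) := by
      intro g hg
      obtain ⟨u, rfl⟩ := (mem_rootSubgroup_iff D hD F s g).mp hg
      exact hYB (hUB (xGL_pos_mem D hD F s hspos u))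
    have hdecomp : ∀ g ∈ Y', ∃ y₁ ∈ Y, ∃ d : F, g = y₁ * xGL D hD F s d := by
      intro g hg
      rw [hY'eq] at hg
      have hg' : g ∈ ((Y ⊔ D.rootSubgroup F s : Subgroup (GL D.Idx F)) : Set (GL D.Idx F)) := hg
      rw [Subgroup.coe_mul_of_right_le_normalizer_left _ _ hXsN] at hg'
      obtain ⟨y₁, hy₁, x, hx, rfl⟩ := Set.mem_mul.mp hg'
      obtain ⟨d, rfl⟩ := (mem_rootSubgroup_iff D hD F s x).mp hx
      exact ⟨y₁, hy₁, d, rfl⟩
    have hIH' : ∀ t' : ℕ → F, ordProd D hD F pre t' ∈ Y ⊔ Subgroup.closure (gensL D F (s :: l₂)) →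
        ∀ r ∈ pre, ∃ d : F, xGL D hD F r (t' r) * xGL D hD F s d ∈ Y := by
      intro t' ht' r hr
      rw [← hY'def] at ht'
      obtain ⟨y₁, hy₁, d, hd⟩ := hdecomp _ (ihY' t' ht' r hr)
      refine ⟨-d, ?_⟩
      have e : xGL D hD F r (t' r) * xGL D hD F s (-d) = y₁ := by
        rw [hd, mul_assoc, xGL_mul, add_neg_cancel, xGL_zero, mul_one]
      rw [e]; exact hy₁
    -- the elements of `pre`
    have hpreY : ∀ r ∈ pre, xGL D hD F r (t r) ∈ Y := by
      intro r hr
      obtain ⟨d, hd⟩ := hIH' t (hY'def ▸ hpre') r hr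
      by_cases hfull : ∀ u : F, xGL D hD F s u ∈ Y
      · have e : xGL D hD F r (t r) = (xGL D hD F r (t r) * xGL D hD F s d) * (xGL D hD F s d)⁻¹ := by
          group
        rw [e]; exact Y.mul_mem hd (Y.inv_mem (hfull d))
      · have hs0 : ∀ u : F, xGL D hD F s u ∈ Y → u = 0 := by
          intro u hu
          by_contra hne
          exact hfull fun v => full_of_diag_normal D hD F Y (le_trans hHB hYB) s hspos.1 u hne hu v
        exact horacle pre s l₂ hsplit' Y hYU hYB hTY hs0 hIH' r hr (t r) d hd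
    intro r hr
    rcases List.mem_append.mp hr with hr' | hr'
    · exact hpreY r hr'
    · rw [List.mem_singleton] at hr'
      rw [hr']
      have hp : ordProd D hD F pre t ∈ Y := ordProd_mem_of_forall D hD F Y pre t hpreY
      have e : xGL D hD F s (t s) = (ordProd D hD F pre t)⁻¹ *
          (ordProd D hD F pre t * xGL D hD F s (t s)) := by group
      rw [e]
      exact Y.mul_mem (Y.inv_mem hp) hy2

/-- separation: the factors of an element of a `B`-invariant subgroup of `U` lie in the subgroup -/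
theorem sep_main [Finite F] (horacle : PairOracle D hD F)
    (Y : Subgroup (GL D.Idx F)) (hYU : Y ≤ D.posUnipotent F)
    (hYB : D.borelSubgroup F ≤ Subgroup.normalizer (Y : Set (GL D.Idx F)))
    (t : ℕ → F) (hy : ordProd D hD F D.posRoots t ∈ Y) : ∀ r ∈ D.posRoots, xGL D hD F r (t r) ∈ Y := by
  apply sep_aux D hD F A hA hO horacle D.posRoots [] (List.append_nil _).symm Y hYU hYB _ t hy
  have : gensL D F [] = ∅ := by
    ext g; simp [gensL]
  rw [this, Subgroup.closure_empty]
  exact bot_le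

end

end Cfsg.Agent.Lib.Helper25.WkCl
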