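import Cfsg.Agent.Lib.Helper25.WkClB

/-! Weakly closed unipotent subgroups, part C: separating pairs of root subgroups by torus elements
(helper25). -/

set_option autoImplicit false

namespace Cfsg.Agent.Lib.Helper25.WkCl

open Cfsg Cfsg.Lie Matrix
open Cfsg.Agent.Lib.Helper7

/-- in a finite field with more than `|n| + 1` elements some nonzero `t` has `t ^ n ≠ 1` -/
theorem exists_zpow_ne_one {F : Type*} [Field F] [Fintype F] (n : ℤ) (hn0 : n ≠ 0)
    (hn : n.natAbs + 1 < Fintype.card F) : ∃ t₀ : F, t₀ ≠ 0 ∧ t₀ ^ n ≠ 1 := by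
  classical
  obtain ⟨g, hg⟩ := IsCyclic.exists_generator (α := Fˣ)
  refine ⟨(g : F), g.ne_zero, ?_⟩
  intro h1
  have h2 : g ^ n = 1 := by
    apply Units.ext
    rw [Units.val_zpow_eq_zpow_val, h1, Units.val_one]
  have h3 : (orderOf g : ℤ) ∣ n := orderOf_dvd_iff_zpow_eq_one.mpr h2
  have h4 : orderOf g = Fintype.card F - 1 := by
    rw [orderOf_eq_card_of_forall_mem_zpowers hg, Nat.card_eq_fintype_card, Fintype.card_units]
  have h5 : orderOf g ∣ n.natAbs := Int.natCast_dvd.mp h3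
  have h6 : 0 < n.natAbs := Int.natAbs_pos.mpr hn0
  have h7 := Nat.le_of_dvd h6 h5
  omega

/-- all pairs `(r, s)` with `r` before `s` in the list -/
def pairsL : List ℕ → List (ℕ × ℕ)
  | [] => []
  | r :: l => l.map (fun s => (r, s)) ++ pairsL l

theorem mem_pairsL_append (s : ℕ) (l₂ : List ℕ) (r : ℕ) :
    ∀ pre : List ℕ, r ∈ pre → (r, s) ∈ pairsL (pre ++ s :: l₂)
  | [], h => by simp at h
  | a :: pre, h => by
    have e : (a :: pre) ++ s :: l₂ = a :: (pre ++ s :: l₂) := rfl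
    rw [e, pairsL, List.mem_append]
    rcases List.mem_cons.mp h with rfl | h'
    · left
      rw [List.mem_map]
      exact ⟨s, by simp, rfl⟩
    · right
      exact mem_pairsL_append s l₂ r pre h'

/-- the torus element `h_γ` centralises one of `X_r`, `X_s` and acts on the other through a power `n`
with `0 < |n| ≤ N` -/
def critB (D : ChevalleyDatum) (N : ℕ) (r s γ : ℕ) : Bool :=
  decide (γ < D.nroots) &&
    ((carR D γ r == 0 && carR D γ s != 0 && decide ((carR D γ s).natAbs ≤ N)) ||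
     (carR D γ s == 0 && carR D γ r != 0 && decide ((carR D γ r).natAbs ≤ N)))

section
variable (D : ChevalleyDatum) (hD : D ∈ [chevG2, chevB2, chevD4, chevF4, chevE6, chevE7, chevE8])
variable (F : Type*) [Field F]
include hD

/-- separation of `X_r` and `X_s` by a torus element -/
theorem pairSep_of_torus [Finite F] (Y : Subgroup (GL D.Idx F))
    (hH : D.diagonalSubgroup F ≤ Subgroup.normalizer (Y : Set (GL D.Idx F)))
    (r s : ℕ) (hr : r < D.nroots) (hs0 : ∀ u : F, xGL D hD F s u ∈ Y → u = 0)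
    (γ : ℕ) (hγ : γ < D.nroots) (t₀ : F) (ht₀ : t₀ ≠ 0)
    (hcrit : (carR D γ r = 0 ∧ t₀ ^ carR D γ s ≠ 1) ∨ (carR D γ s = 0 ∧ t₀ ^ carR D γ r ≠ 1))
    (c d : F) (h : xGL D hD F r c * xGL D hD F s d ∈ Y) : xGL D hD F r c ∈ Y := by
  have hh := hH (hGL_mem_diagonalSubgroup D hD F γ hγ t₀ ht₀)
  have h1 := conj_mem_of_mem_normalizer Y _ _ hh h
  have e1 : wordGL D hD F (D.hWord γ t₀) * (xGL D hD F r c * xGL D hD F s d) *
      (wordGL D hD F (D.hWord γ t₀))⁻¹ =
      (wordGL D hD F (D.hWord γ t₀) * xGL D hD F r c * (wordGL D hD F (D.hWord γ t₀))⁻¹) *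
      (wordGL D hD F (D.hWord γ t₀) * xGL D hD F s d * (wordGL D hD F (D.hWord γ t₀))⁻¹) := by group
  rw [e1, hGL_conj_xGL' D hD F γ hγ t₀ ht₀, hGL_conj_xGL' D hD F γ hγ t₀ ht₀] at h1
  rcases hcrit with ⟨hm, hn⟩ | ⟨hn, hm⟩
  · rw [hm, zpow_zero, one_mul] at h1
    have h2 := Y.mul_mem (Y.inv_mem h) h1
    have e2 : (xGL D hD F r c * xGL D hD F s d)⁻¹ *
        (xGL D hD F r c * xGL D hD F s (t₀ ^ carR D γ s * d)) =
        xGL D hD F s ((t₀ ^ carR D γ s - 1) * d) := by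
      have : (xGL D hD F r c * xGL D hD F s d)⁻¹ *
          (xGL D hD F r c * xGL D hD F s (t₀ ^ carR D γ s * d)) =
          (xGL D hD F s d)⁻¹ * xGL D hD F s (t₀ ^ carR D γ s * d) := by group
      rw [this, xGL_inv, xGL_mul]
      congr 1; ring
    rw [e2] at h2
    have h3 := hs0 _ h2
    have hd : d = 0 := by
      rcases mul_eq_zero.mp h3 with h4 | h4
      · exact absurd (sub_eq_zero.mp h4) hn
      · exact h4
    rw [hd, xGL_zero, mul_one] at h
    exact h
  · rw [hn, zpow_zero, one_mul] at h1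
    have h2 := Y.mul_mem h1 (Y.inv_mem h)
    have e2 : (xGL D hD F r (t₀ ^ carR D γ r * c) * xGL D hD F s d) *
        (xGL D hD F r c * xGL D hD F s d)⁻¹ = xGL D hD F r ((t₀ ^ carR D γ r - 1) * c) := by
      have : (xGL D hD F r (t₀ ^ carR D γ r * c) * xGL D hD F s d) *
          (xGL D hD F r c * xGL D hD F s d)⁻¹ =
          xGL D hD F r (t₀ ^ carR D γ r * c) * (xGL D hD F r c)⁻¹ := by group
      rw [this, xGL_inv, xGL_mul]
      congr 1; ring
    rw [e2] at h2
    by_cases hc : c = 0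
    · rw [hc, xGL_zero]; exact Y.one_mem
    · have hne : (t₀ ^ carR D γ r - 1) * c ≠ 0 := mul_ne_zero (sub_ne_zero.mpr hm) hc
      exact full_of_diag_normal D hD F Y hH r hr _ hne h2 c

/-- separation of `X_r` and `X_s` from the table criterion -/
theorem pairSep_of_critB [Fintype F] (N : ℕ) (hq : N + 1 < Fintype.card F)
    (Y : Subgroup (GL D.Idx F))
    (hH : D.diagonalSubgroup F ≤ Subgroup.normalizer (Y : Set (GL D.Idx F)))
    (r s : ℕ) (hr : r < D.nroots) (hs0 : ∀ u : F, xGL D hD F s u ∈ Y → u = 0)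
    (γ : ℕ) (hc : critB D N r s γ = true)
    (c d : F) (h : xGL D hD F r c * xGL D hD F s d ∈ Y) : xGL D hD F r c ∈ Y := by
  unfold critB at hc
  simp only [Bool.and_eq_true, Bool.or_eq_true, decide_eq_true_eq, beq_iff_eq, bne_iff_ne] at hc
  obtain ⟨hγ, hc⟩ := hc
  rcases hc with ⟨⟨h0, hne⟩, hle⟩ | ⟨⟨h0, hne⟩, hle⟩
  · obtain ⟨t₀, ht₀, ht⟩ := exists_zpow_ne_one (F := F) (carR D γ s) hne (by omega)
    exact pairSep_of_torus D hD F Y hH r s hr hs0 γ hγ t₀ ht₀ (Or.inl ⟨h0, ht⟩) c d h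
  · obtain ⟨t₀, ht₀, ht⟩ := exists_zpow_ne_one (F := F) (carR D γ r) hne (by omega)
    exact pairSep_of_torus D hD F Y hH r s hr hs0 γ hγ t₀ ht₀ (Or.inr ⟨h0, ht⟩) c d h

/-- the pair oracle from the table criterion for all pairs -/
theorem pairOracle_of_forall [Fintype F] (N : ℕ)
    (hcert : ∀ p ∈ pairsL D.posRoots, ∃ γ, critB D N p.1 p.2 γ = true)
    (hq : N + 1 < Fintype.card F) : PairOracle D hD F := by
  intro pre s l₂ hsplit Y hYU hYB hTY hs0 _ r hr c d h
  have hmem : (r, s) ∈ pairsL D.posRoots := by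
    rw [hsplit]; exact mem_pairsL_append s l₂ r pre hr
  obtain ⟨γ, hγ⟩ := hcert _ hmem
  have hrpos : D.IsPosRoot r := by
    rw [← mem_posRoots, hsplit]
    exact List.mem_append_left _ hr
  exact pairSep_of_critB D hD F N hq Y (le_trans le_sup_right hYB) r s hrpos.1 hs0 γ hγ c d h

end

end Cfsg.Agent.Lib.Helper25.WkCl
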