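import Cfsg.Agent.Lib.Helper25.WkClC

/-! Weakly closed unipotent subgroups: a fast table check that the pairs of positive roots are
separated by torus elements, using the packed rows of Cartan integers for the fundamental coroots and
a short list of exceptional pairs (helper25). -/

set_option autoImplicit false

namespace Cfsg.Agent.Lib.Helper25.WkCl

open Cfsg Cfsg.Lie Matrix
open Cfsg.Agent.Lib.Helper7

/-- force the evaluation of a list of natural numbers -/
def withMasks : List ℕ → (List ℕ → Bool) → Bool
  | [], k => k []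
  | a :: l, k => withMask a fun a' => withMasks l fun l' => k (a' :: l')

theorem withMasks_eq : ∀ (l : List ℕ) (k : List ℕ → Bool), withMasks l k = k l
  | [], _ => rfl
  | a :: l, k => by
    rw [withMasks, withMask_eq, withMasks_eq l]

/-- the criterion on two integers -/
def critV (N : ℕ) (m n : ℤ) : Bool :=
  (m == 0 && n != 0 && decide (n.natAbs ≤ N)) || (n == 0 && m != 0 && decide (m.natAbs ≤ N))

/-- access to a packed row -/
def accP (P u : ℕ) : ℤ := ((P / 256 ^ u % 256 : ℕ) : ℤ) - 16

/-- the fast check -/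
def sepFastB (D : ChevalleyDatum) (N : ℕ) (exc : List (ℕ × ℕ × ℕ)) : Bool :=
  (List.range D.rank).all (fun i => rowOKB D i) &&
  withMasks ((List.range D.rank).map (rowPack D)) fun rows =>
    (pairsL D.posRoots).all fun p =>
      (rows.any fun P => critV N (accP P p.1) (accP P p.2)) ||
      (exc.any fun e => e.1 == p.1 && e.2.1 == p.2 && critB D N p.1 p.2 e.2.2)

theorem sum_range_ite_mul (n i : ℕ) (hi : i < n) (f : ℕ → ℤ) :
    ((List.range n).map fun k => (if k = i then (1 : ℤ) else 0) * f k).sum = f i := by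
  induction n with
  | zero => omega
  | succ n ih =>
    rw [List.range_succ, List.map_append, List.sum_append, List.map_singleton, List.sum_singleton]
    by_cases h : i = n
    · subst h
      rw [if_pos rfl, one_mul]
      have : ((List.range i).map fun k => (if k = i then (1 : ℤ) else 0) * f k).sum = 0 := by
        apply List.sum_eq_zero
        intro y hy
        rw [List.mem_map] at hy
        obtain ⟨k, hk, rfl⟩ := hy
        rw [List.mem_range] at hk
        rw [if_neg (by omega), zero_mul]
      rw [this, zero_add]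
    · rw [ih (by omega), if_neg (fun h' => h h'.symm), zero_mul, add_zero]

theorem carR_simple (D : ChevalleyDatum) (i : ℕ) (hi : i < D.rank) (hF : FundFacts D i) (s : ℕ) :
    carR D (D.simple i) s = D.cartan i s := by
  unfold carR
  have : ((List.range D.rank).map fun k =>
      (D.coroot.getD (D.simple i) #[]).getD k 0 * D.cartan k s) =
      ((List.range D.rank).map fun k => (if k = i then (1 : ℤ) else 0) * D.cartan k s) := by
    apply List.map_congr_left
    intro k hk
    rw [hF.corUnit k (List.mem_range.mp hk)]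
  rw [this, sum_range_ite_mul D.rank i hi]

theorem sepFast_sound (D : ChevalleyDatum) (N : ℕ) (exc : List (ℕ × ℕ × ℕ))
    (hF : ∀ i < D.rank, FundFacts D i) (h : sepFastB D N exc = true) :
    ∀ p ∈ pairsL D.posRoots, ∀ (_ : p.1 < D.nroots) (_ : p.2 < D.nroots),
      ∃ γ, critB D N p.1 p.2 γ = true := by
  unfold sepFastB at h
  rw [withMasks_eq] at h
  simp only [Bool.and_eq_true, List.all_eq_true, List.mem_range, Bool.or_eq_true, List.any_eq_true,
    List.mem_map, beq_iff_eq] at h
  obtain ⟨hrow, hall⟩ := h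
  intro p hp hp1 hp2
  rcases hall p hp with ⟨P, ⟨i, hi, rfl⟩, hc⟩ | ⟨e, -, ⟨-, -⟩, hc⟩
  · refine ⟨D.simple i, ?_⟩
    have e1 : accP (rowPack D i) p.1 = carR D (D.simple i) p.1 := by
      rw [carR_simple D i hi (hF i hi), ← carAcc_eq D i p.1 (hrow i hi) hp1]; rfl
    have e2 : accP (rowPack D i) p.2 = carR D (D.simple i) p.2 := by
      rw [carR_simple D i hi (hF i hi), ← carAcc_eq D i p.2 (hrow i hi) hp2]; rfl
    rw [e1, e2] at hc
    unfold critB
    rw [Bool.and_eq_true]
    exact ⟨decide_eq_true (hF i hi).hp, hc⟩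
  · exact ⟨_, hc⟩

theorem mem_of_mem_pairsL : ∀ (l : List ℕ) (p : ℕ × ℕ), p ∈ pairsL l → p.1 ∈ l ∧ p.2 ∈ l
  | [], p, h => by simp [pairsL] at h
  | a :: l, p, h => by
    rw [pairsL, List.mem_append] at h
    rcases h with h | h
    · rw [List.mem_map] at h
      obtain ⟨s, hs, rfl⟩ := h
      exact ⟨List.mem_cons_self .., List.mem_cons_of_mem _ hs⟩
    · obtain ⟨h1, h2⟩ := mem_of_mem_pairsL l p h
      exact ⟨List.mem_cons_of_mem _ h1, List.mem_cons_of_mem _ h2⟩

theorem sepFast_forall (D : ChevalleyDatum)
    (hD : D ∈ [chevG2, chevB2, chevD4, chevF4, chevE6, chevE7, chevE8]) (N : ℕ)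
    (exc : List (ℕ × ℕ × ℕ)) (h : sepFastB D N exc = true) :
    ∀ p ∈ pairsL D.posRoots, ∃ γ, critB D N p.1 p.2 γ = true := by
  intro p hp
  obtain ⟨h1, h2⟩ := mem_of_mem_pairsL _ p hp
  exact sepFast_sound D N exc (fun i hi => fundFacts_of_mem D hD i hi) h p hp
    ((mem_posRoots D p.1).mp h1).1 ((mem_posRoots D p.2).mp h2).1

end Cfsg.Agent.Lib.Helper25.WkCl
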