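import Cfsg.Agent.Lib.Helper25.WkClD

/-! Weakly closed unipotent subgroups, part E: words with increasing positive roots as ordered
products; the table checks used for the root combinatorics (helper25). -/

set_option autoImplicit false

namespace Cfsg.Agent.Lib.Helper25.WkCl

open Cfsg Cfsg.Lie Matrix
open Cfsg.Agent.Lib.Helper7

/-- the coefficient of the root `r` in a word -/
def wcoef {F : Type*} [Zero F] : List (ℕ × F) → ℕ → F
  | [], _ => 0
  | p :: w, r => if p.1 = r then p.2 else wcoef w r

theorem wcoef_of_not_mem {F : Type*} [Zero F] : ∀ (w : List (ℕ × F)) (r : ℕ), (∀ p ∈ w, p.1 ≠ r) →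
    wcoef w r = 0
  | [], _, _ => rfl
  | p :: w, r, h => by
    rw [wcoef, if_neg (h p (List.mem_cons_self ..))]
    exact wcoef_of_not_mem w r fun q hq => h q (List.mem_cons_of_mem _ hq)

theorem wcoef_mem {F : Type*} [Zero F] : ∀ (w : List (ℕ × F)), (w.map Prod.fst).Pairwise (· < ·) →
    ∀ p ∈ w, wcoef w p.1 = p.2
  | [], _, p, hp => by simp at hp
  | q :: w, hs, p, hp => by
    rw [List.map_cons, List.pairwise_cons] at hs
    rcases List.mem_cons.mp hp with rfl | hp'
    · rw [wcoef, if_pos rfl]
    · have hlt := hs.1 p.1 (List.mem_map.mpr ⟨p, hp', rfl⟩)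
      rw [wcoef, if_neg (by omega)]
      exact wcoef_mem w hs.2 p hp'

section
variable (D : ChevalleyDatum) (hD : D ∈ [chevG2, chevB2, chevD4, chevF4, chevE6, chevE7, chevE8])
variable (F : Type*) [Field F]
include hD

theorem ordProd_eq_one (l : List ℕ) (t : ℕ → F) (h : ∀ r ∈ l, t r = 0) : ordProd D hD F l t = 1 := by
  induction l with
  | nil => exact ordProd_nil D hD F t
  | cons a l ih =>
    rw [ordProd_cons, h a (List.mem_cons_self ..), xGL_zero, one_mul]
    exact ih fun r hr => h r (List.mem_cons_of_mem _ hr)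

theorem wordGL_cons (p : ℕ × F) (w : List (ℕ × F)) :
    wordGL D hD F (p :: w) = xGL D hD F p.1 p.2 * wordGL D hD F w := by
  unfold wordGL
  rw [List.map_cons, List.prod_cons]

/-- a word whose roots increase and lie in the increasing list `l` is an ordered product over `l` -/
theorem wordGL_eq_ordProd : ∀ (l : List ℕ), l.Pairwise (· < ·) → ∀ w : List (ℕ × F),
    (w.map Prod.fst).Pairwise (· < ·) → (∀ p ∈ w, p.1 ∈ l) →
    wordGL D hD F w = ordProd D hD F l (wcoef w)
  | [], _, [], _, _ => by
    rw [ordProd_nil]; unfold wordGL; simp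
  | [], _, p :: w, _, h => by
    have := h p (List.mem_cons_self ..)
    simp at this
  | a :: l, hl, [], _, _ => by
    rw [ordProd_eq_one D hD F (a :: l) (wcoef []) (fun r _ => rfl)]
    unfold wordGL; simp
  | a :: l, hl, p :: w, hw, h => by
    have hl' := List.pairwise_cons.mp hl
    rw [List.map_cons, List.pairwise_cons] at hw
    by_cases hpa : p.1 = a
    · have hw' : ∀ q ∈ w, q.1 ∈ l := by
        intro q hq
        have h1 := h q (List.mem_cons_of_mem _ hq)
        have h2 := hw.1 q.1 (List.mem_map.mpr ⟨q, hq, rfl⟩)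
        rcases List.mem_cons.mp h1 with h3 | h3
        · omega
        · exact h3
      rw [wordGL_cons, ordProd_cons, wordGL_eq_ordProd l hl'.2 w hw.2 hw']
      have e1 : wcoef (p :: w) a = p.2 := by rw [wcoef, if_pos hpa]
      rw [e1, hpa]
      congr 1
      apply ordProd_congr
      intro r hr
      have := hl'.1 r hr
      rw [wcoef, if_neg (by omega)]
    · have hpl : p.1 ∈ l := by
        rcases List.mem_cons.mp (h p (List.mem_cons_self ..)) with h3 | h3
        · exact absurd h3 hpa
        · exact h3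
      have hap : a < p.1 := hl'.1 _ hpl
      have hall : ∀ q ∈ p :: w, a < q.1 := by
        intro q hq
        rcases List.mem_cons.mp hq with rfl | hq'
        · exact hap
        · have := hw.1 q.1 (List.mem_map.mpr ⟨q, hq', rfl⟩)
          omega
      have hw' : ∀ q ∈ p :: w, q.1 ∈ l := by
        intro q hq
        rcases List.mem_cons.mp (h q hq) with h3 | h3
        · have := hall q hq; omega
        · exact h3
      have hsorted : ((p :: w).map Prod.fst).Pairwise (· < ·) := by
        rw [List.map_cons, List.pairwise_cons]; exact hw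
      rw [ordProd_cons, wcoef_of_not_mem (p :: w) a (fun q hq => by have := hall q hq; omega),
        xGL_zero, one_mul]
      exact wordGL_eq_ordProd l hl'.2 (p :: w) hsorted hw'

end

/-- every positive non-fundamental root is lowered by a fundamental reflection in its support -/
def descB (D : ChevalleyDatum) : Bool :=
  D.posRoots.all fun r =>
    ((List.range D.rank).any fun k => r == D.simple k) ||
    ((List.range D.rank).any fun i => decide (0 < carR D r (D.simple i)) &&
      decide (D.IsPosRoot (D.reflectRoot i r)) && decide (D.reflectRoot i r < r))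

structure DescFacts (D : ChevalleyDatum) : Prop where
  desc : ∀ r, D.IsPosRoot r → (∃ k < D.rank, r = D.simple k) ∨
    ∃ i < D.rank, 0 < carR D r (D.simple i) ∧ D.IsPosRoot (D.reflectRoot i r) ∧ D.reflectRoot i r < r

theorem descFacts_of_descB (D : ChevalleyDatum) (h : descB D = true) : DescFacts D := by
  unfold descB at h
  simp only [List.all_eq_true, Bool.or_eq_true, List.any_eq_true, List.mem_range, beq_iff_eq,
    Bool.and_eq_true, decide_eq_true_eq] at h
  refine ⟨fun r hr => ?_⟩
  rcases h r ((mem_posRoots D r).mpr hr) with ⟨k, hk, h1⟩ | ⟨i, hi, ⟨h1, h2⟩, h3⟩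
  · exact Or.inl ⟨k, hk, h1⟩
  · exact Or.inr ⟨i, hi, h1, h2, h3⟩

/-- one step of the upward certificate: the root `r` occurs with coefficient `±1` in the commutator
of the `i`-th fundamental root with the smaller positive root `β`, whose terms increase -/
def upStepB (D : ChevalleyDatum) (r i β : ℕ) : Bool :=
  decide (i < D.rank) && decide (D.IsPosRoot β) && (β != D.simple i) && decide (β < r) &&
  ((D.commTerms (D.simple i) β).any fun c => c.1 == r && (c.2.1 == 1 || c.2.1 == -1)) &&
  decide (((D.commTerms (D.simple i) β).map fun c => c.1).Pairwise (· < ·))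

def upCertB (D : ChevalleyDatum) (cert : List (ℕ × ℕ × ℕ)) : Bool :=
  D.posRoots.all fun r =>
    ((List.range D.rank).any fun k => r == D.simple k) ||
    (cert.any fun e => e.1 == r && upStepB D r e.2.1 e.2.2)

structure UpCertFacts (D : ChevalleyDatum) : Prop where
  up : ∀ r, D.IsPosRoot r → (∃ k < D.rank, r = D.simple k) ∨
    ∃ i < D.rank, ∃ β, D.IsPosRoot β ∧ β ≠ D.simple i ∧ β < r ∧
      (∃ c ∈ D.commTerms (D.simple i) β, c.1 = r ∧ (c.2.1 = 1 ∨ c.2.1 = -1)) ∧
      ((D.commTerms (D.simple i) β).map fun c => c.1).Pairwise (· < ·)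

theorem upCertFacts_of_upCertB (D : ChevalleyDatum) (cert : List (ℕ × ℕ × ℕ))
    (h : upCertB D cert = true) : UpCertFacts D := by
  unfold upCertB at h
  simp only [List.all_eq_true, Bool.or_eq_true, List.any_eq_true, List.mem_range, beq_iff_eq,
    Bool.and_eq_true] at h
  refine ⟨fun r hr => ?_⟩
  rcases h r ((mem_posRoots D r).mpr hr) with ⟨k, hk, h1⟩ | ⟨e, -, -, h2⟩
  · exact Or.inl ⟨k, hk, h1⟩
  · right
    unfold upStepB at h2
    simp only [Bool.and_eq_true, decide_eq_true_eq, bne_iff_ne, List.any_eq_true, beq_iff_eq,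
      Bool.or_eq_true] at h2
    obtain ⟨⟨⟨⟨⟨hi, hβ⟩, hne⟩, hlt⟩, ⟨c, hc, hc1, hc2⟩⟩, hsort⟩ := h2
    exact ⟨e.2.1, hi, e.2.2, hβ, hne, hlt, ⟨c, hc, hc1, hc2⟩, hsort⟩

end Cfsg.Agent.Lib.Helper25.WkCl
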