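import Cfsg.Agent.Lib.Helper25.WkClC2

/-! Weakly closed unipotent subgroups: the pairs of positive roots are separated by torus elements,
table checks (helper25). -/

set_option autoImplicit false
set_option maxRecDepth 100000

namespace Cfsg.Agent.Lib.Helper25.WkCl

open Cfsg Cfsg.Lie
open Cfsg.Agent.Lib.Helper7

def sepExc_B2 : List (ℕ × ℕ × ℕ) :=
  [(4, 5, 0)]

theorem sepFastB_B2 : sepFastB chevB2 2 sepExc_B2 = true := by decide +kernel

def sepExc_D4 : List (ℕ × ℕ × ℕ) :=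
  [(14, 15, 1), (14, 16, 1), (14, 19, 1), (14, 22, 2), (15, 16, 7), (15, 19, 4), (15, 22, 1),
   (16, 19, 4), (16, 22, 1), (17, 20, 3), (17, 21, 2), (19, 22, 1), (20, 21, 2)]

theorem sepFastB_D4 : sepFastB chevD4 2 sepExc_D4 = true := by decide +kernel

def sepExc_F4 : List (ℕ × ℕ × ℕ) :=
  [(24, 46, 2), (25, 26, 0), (25, 38, 0), (26, 38, 3), (27, 34, 3), (27, 43, 0), (28, 42, 0),
   (29, 41, 0), (30, 36, 0), (31, 35, 0), (33, 40, 0), (34, 43, 0), (39, 45, 2)]

theorem sepFastB_F4 : sepFastB chevF4 2 sepExc_F4 = true := by decide +kernel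

def sepExc_E6 : List (ℕ × ℕ × ℕ) :=
  [(37, 38, 3), (39, 47, 0), (42, 57, 5), (46, 70, 2)]

theorem sepFastB_E6 : sepFastB chevE6 1 sepExc_E6 = true := by decide +kernel

def sepExc_E7 : List (ℕ × ℕ × ℕ) :=
  [(64, 65, 5), (69, 79, 3), (73, 94, 0), (93, 124, 2)]

theorem sepFastB_E7 : sepFastB chevE7 1 sepExc_E7 = true := by decide +kernel

def sepExc_E8 : List (ℕ × ℕ × ℕ) :=
  [(120, 238, 2), (121, 122, 0), (130, 142, 5), (135, 163, 6)]

theorem sepFastB_E8 : sepFastB chevE8 1 sepExc_E8 = true := by decide +kernel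

end Cfsg.Agent.Lib.Helper25.WkCl
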